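import Cfsg.Agent.Helper17.ONTC.Facts47

set_option autoImplicit false
set_option linter.all false

noncomputable section

namespace Cfsg.Agent.Helper17.ONTC

theorem F396461 : act 1 n195247 = n151437 := d17_6 (iv1 F343289) (iv5 D137923) F343283 (iv5 F396447) F396446 D195247 (iv5 D151437) (iv0 D71390) (iv4 F107882)
def n195248 : Q := act 3 n105475
theorem D195248 : act 3 n105475 = n195248 := rfl
theorem F396462 : act 7 n195248 = n114961 := d8_2 (iv7 F161903) D195248 (iv3 D114961)
theorem F396463 : act 5 n154233 = n195248 := d13_3 F396462 (iv5 F357318) F242340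
def n195249 : Q := act 5 n105475
theorem D195249 : act 5 n105475 = n195249 := rfl
theorem F396464 : act 2 n195249 = n115002 := d2_1 D195249 (iv5 D115002) (iv2 F161902)
theorem F396465 : act 3 n195249 = n154233 := d6_1 D195249 F396463 (iv3 D195248)
theorem F396466 : act 7 n195249 = n114962 := d13_2 (iv7 F161903) D195249 (iv5 D114962)
theorem F396467 : act 0 n195249 = n106112 := d17_2 (iv1 F396429) D195249 (iv5 D106112) F77433 F37353 D23938 D49069 F163174 (iv4 F396428)
def n195250 : Q := act 0 n105477
theorem D195250 : act 0 n105477 = n195250 := rfl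
theorem F396468 : act 1 n134262 = n195250 := d15_0 (iv0 D195250) F161908 D134262
def n195251 : Q := act 1 n105477
theorem D195251 : act 1 n105477 = n195251 := rfl
theorem F396469 : act 4 n134332 = n195251 := d20_6 F79600 (iv1 F38934) F37590 D29845 D63109 D134332 (iv1 D195251) F161907 (iv3 D62961) (iv1 F79598)
theorem F396470 : act 2 n195251 = n134260 := d1_1 F396469 F352311 (iv2 F354752)
theorem F396471 : act 6 n195251 = n126499 := d10_2 (iv6 F354753) F396469 (iv4 F217311)
theorem F396472 : act 0 n134262 = n195251 := d20_1 (iv4 F216286) (iv4 F396469) (iv3 D134332) (iv1 F211382) F211379 (iv4 F99293) (iv1 F99297) D135604 (iv3 F218071) (iv1 F216013)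
theorem F396473 : act 7 n195250 = n134260 := d15_2 (iv0 F396472) F396468 (iv2 F396470)
theorem F396474 : act 7 n134261 = n195251 := d15_2 (iv0 D134260) D134261 F396470
theorem F396475 : act 2 n134261 = n195250 := d4_3 F396473 (iv2 F396470) (iv7 F396474)
def n195252 : Q := act 2 n105477
theorem D195252 : act 2 n105477 = n195252 := rfl
theorem F396476 : act 3 n195252 = n128919 := d0_2 D105477 D195252 F207145 F95235 F76788
theorem F396477 : act 4 n195252 = n134037 := d1_2 (iv4 F161907) D195252 (iv2 D134037)
theorem F396478 : act 7 n195252 = n134262 := d4_2 (iv7 F161908) D195252 (iv2 D134262)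
theorem F396479 : act 1 n195252 = n134260 := d15_0 (iv0 D134260) (iv7 F161908) D195252
theorem F396480 : act 1 n134261 = n195252 := d15_0 F396479 (iv7 F396473) (iv2 F396475)
def n195253 : Q := act 5 n105477
theorem D195253 : act 5 n105477 = n195253 := rfl
theorem F396481 : act 3 n195253 = n105478 := d6_1 D195253 (iv5 D105478) D105477
theorem F396482 : act 7 n195253 = n134263 := d13_2 (iv7 F161908) D195253 (iv5 D134263)
def n195254 : Q := act 6 n105477
theorem D195254 : act 6 n105477 = n195254 := rfl
theorem F396483 : act 3 n195254 = n105479 := d7_1 D195254 (iv6 D105479) D105477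
theorem F396484 : act 4 n195254 = n134039 := d10_1 D195254 (iv6 D134039) (iv4 F161907)
def n195255 : Q := act 6 n105478
theorem D195255 : act 6 n105478 = n195255 := rfl
theorem F396485 : act 2 n195255 = n136324 := d3_1 D195255 (iv6 D136324) (iv2 F161909)
theorem F396486 : act 4 n195255 = n135906 := d10_1 D195255 (iv6 D135906) (iv4 F161911)
theorem F396487 : act 0 n195255 = n193021 := d21_4 (iv5 D48772) D48769 D105478 D195255 (iv6 D193021) D193020 F388529 F179200 (iv6 F343924) (iv1 D105488)
def n195256 : Q := act 5 n105479
theorem D195256 : act 5 n105479 = n195256 := rfl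
theorem F396488 : act 2 n195256 = n136325 := d2_1 D195256 (iv5 D136325) (iv2 F161915)
theorem F396489 : act 0 n195256 = n132387 := d17_2 F212740 D195256 (iv5 D132387) F96821 F47125 (iv0 F49722) F49721 D62179 D132534
theorem F396490 : act 4 n146945 = n132564 := d18_3 F396489 F365820 D146945 F212783 F96959 (iv0 F96936) D132532 (iv0 F212731) D195256
theorem F396491 : act 7 n132563 = n146945 := d11_0 F396490 (iv7 D132564) D132563
def n195257 : Q := act 1 n105480
theorem D195257 : act 1 n105480 = n195257 := rfl
theorem F396492 : act 7 n195257 = n126525 := d15_2 (iv0 F212821) D195257 (iv2 F366063)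
theorem F396493 : act 2 n128922 = n195257 := d4_3 F396492 (iv2 F366063) F212820
theorem F396494 : act 3 n126534 = n195257 := d8_3 F396492 F203445 D126534
theorem F396495 : act 1 n195257 = n128919 := d15_0 F212822 F212820 F396493
def n195258 : Q := act 2 n105480
theorem D195258 : act 2 n105480 = n195258 := rfl
theorem F396496 : act 3 n195258 = n134262 := d0_2 D105480 D195258 (iv2 D134262) (iv3 D63075) F76793
theorem F396497 : act 4 n195258 = n128619 := d1_2 (iv4 F161917) D195258 (iv2 D128619)
theorem F396498 : act 7 n195258 = n128919 := d4_2 (iv7 F161918) D195258 F207145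
theorem F396499 : act 1 n195258 = n128922 := d15_0 (iv0 D128922) (iv7 F161918) D195258
theorem F396500 : act 1 n126525 = n195258 := d15_0 F396499 (iv7 F212820) F366063
def n195259 : Q := act 5 n105480
theorem D195259 : act 5 n105480 = n195259 := rfl
theorem F396501 : act 3 n195259 = n105481 := d6_1 D195259 (iv5 D105481) D105480
theorem F396502 : act 7 n195259 = n128924 := d13_2 (iv7 F161918) D195259 (iv5 D128924)
def n195260 : Q := act 6 n105480
theorem D195260 : act 6 n105480 = n195260 := rfl
theorem F396503 : act 3 n195260 = n105482 := d7_1 D195260 (iv6 D105482) D105480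
theorem F396504 : act 4 n195260 = n128621 := d10_1 D195260 (iv6 D128621) (iv4 F161917)
def n195261 : Q := act 6 n105481
theorem D195261 : act 6 n105481 = n195261 := rfl
theorem F396505 : act 2 n195261 = n134265 := d3_1 D195261 (iv6 D134265) (iv2 F161919)
theorem F396506 : act 4 n195261 = n135898 := d10_1 D195261 (iv6 D135898) (iv4 F161920)
def n195262 : Q := act 5 n105482
theorem D195262 : act 5 n105482 = n195262 := rfl
theorem F396507 : act 2 n195262 = n134266 := d2_1 D195262 (iv5 D134266) (iv2 F161924)
theorem F396508 : act 4 n195262 = n166754 := d16_2 (iv4 F161925) D195262 F262497 (iv4 F262442) (iv5 F327241) F170824 F167957 (iv7 D63080) (iv2 F82584)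
theorem F396509 : act 0 n195262 = n132350 := d17_2 F170830 D195262 F362156 (iv4 D110451) (iv5 D50930) (iv0 D24764) (iv5 F23029) D28917 D60999
theorem F396510 : act 1 n195262 = n132345 := d17_6 D63687 F99026 (iv1 D52228) D52229 (iv4 F161925) D195262 F362157 F170847 F99025
def n195263 : Q := act 7 n105482
theorem D195263 : act 7 n105482 = n195263 := rfl
theorem F396511 : act 2 n195263 = n129857 := d4_1 D195263 F208212 (iv2 F161924)
theorem F396512 : act 4 n195263 = n113153 := d11_1 D195263 (iv7 D113153) (iv4 F161925)
theorem F396513 : act 6 n195263 = n136326 := d14_1 D195263 (iv7 D136326) (iv6 D64092) (iv7 F76791) D105482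
theorem F396514 : act 1 n129679 = n195263 := d15_1 F207858 (iv7 D195263) F161924
theorem F396515 : act 1 n195263 = n129818 := d15_1 F396514 F208171 (iv2 F207855)
def n195264 : Q := act 6 n105483
theorem D195264 : act 6 n105483 = n195264 := rfl
theorem F396516 : act 4 n195264 = n148738 := d10_1 D195264 F364691 F218101
theorem F396517 : act 5 n195264 = n115066 := d12_1 D195264 (iv6 D115066) (iv5 F83801) D115076 (iv5 F333530)
def n195265 : Q := act 3 n105484
theorem D195265 : act 3 n105484 = n195265 := rfl
theorem F396518 : act 4 n195265 = n126609 := d5_2 F161926 D195265 (iv3 D126609) F93733 D63777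
def n195266 : Q := act 5 n105484
theorem D195266 : act 5 n105484 = n195266 := rfl
theorem F396519 : act 4 n195266 = n159377 := d9_1 D195266 F250921 (iv4 F211255) F349637 (iv4 F333520) F333521 F218101 F333530 F179185 F83802 (iv4 F333534) (iv5 D106557) (iv4 F333526) F333527 F161926
theorem F396520 : act 7 n195266 = n159374 := d13_2 F211714 D195266 F333529
theorem F396521 : act 0 n195266 = n132198 := d17_2 (iv1 F211725) D195266 (iv5 D132198) F96637 F325757 F161483 (iv5 F364683) F216445 F216440
def n195267 : Q := act 6 n105484
theorem D195267 : act 6 n105484 = n195267 := rfl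
theorem F396522 : act 4 n195267 = n135640 := d10_1 D195267 (iv6 D135640) F161926
theorem F396523 : act 1 n129858 = n195267 := d18_6 (iv1 F171496) F171493 (iv1 F164649) F365951 (iv5 F365950) F218303 F396522 (iv0 F360350) F288367
def n195268 : Q := act 5 n105485
theorem D195268 : act 5 n105485 = n195268 := rfl
theorem F396524 : act 2 n195268 = n105486 := d2_1 D195268 (iv5 D105486) D105485
def n195269 : Q := act 0 n105486
theorem D195269 : act 0 n105486 = n195269 := rfl
theorem F396525 : act 5 n195269 = n129424 := d17_3 (iv1 D105484) D105486 D195269 (iv4 F321191) F321192 F99314 D135582 F218042 F161926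
theorem F396526 : act 6 n195269 = n114913 := d21_3 (iv5 D129427) D129424 (iv5 F396525) (iv1 D114913) F83738 (iv5 F83113) (iv1 F114215) (iv5 F114236) D159374 F333536
def n195270 : Q := act 4 n105486
theorem D195270 : act 4 n105486 = n195270 := rfl
theorem F396527 : act 5 n106484 = n195270 := d19_1 (iv1 F164394) (iv4 D195270) F161928 D105487 F161929 (iv4 D53105) F40689 F23646 F23416 (iv4 F20348) F20347 F18518 (iv5 F19922) (iv4 F39948) D52096 D112862 F352959 (iv4 F356094) F356096
theorem F396528 : act 6 n195270 = n159352 := d21_9 (iv5 F209181) (iv1 F210026) F383191 (iv6 F383192) (iv1 F250855) (iv6 F250841) F250840 (iv1 F164394) F396527 (iv1 F250874)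
theorem F396529 : act 0 n188633 = n195270 := d21_10 (iv5 F396527) (iv1 D106484) (iv5 F83783) (iv6 D53084) D53081 (iv6 F139371) (iv5 D90553) (iv1 F177348) D92593 D188633
theorem F396530 : act 1 n114911 = n195270 := d15_0 (iv0 F396529) F374264 F179135
def n195271 : Q := act 6 n105486
theorem D195271 : act 6 n105486 = n195271 := rfl
theorem F396531 : act 3 n195271 = n105489 := d7_1 D195271 (iv6 D105489) (iv3 F161928)
theorem F396532 : act 4 n195271 = n159352 := d10_1 D195271 (iv6 F396528) (iv4 D195270)
theorem F396533 : act 5 n195271 = n126525 := d12_1 D195271 (iv6 D126525) (iv5 D59359) (iv6 F76794) D105486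
theorem F396534 : act 0 n159361 = n195271 := d21_4 F179145 F114661 F114212 D159361 (iv6 D195271) (iv5 D105486) D105483 F333530 (iv6 D115076) (iv1 F179147)
theorem F396535 : act 0 n195271 = n136318 := d19_4 (iv1 F107119) D101077 F344176 (iv3 F396531) (iv5 D136318) F99696 (iv3 D60514) (iv1 F46374) D60518 (iv4 F95141) (iv3 F206983) (iv1 F212205) F207252 (iv4 F315355) F315354 F207245 (iv5 F212575) F213744 F314245
theorem E103625 : n132015 = n60629 := (c17_8 (iv1 F396500) (iv5 F396533) F396535 (iv5 D136318) F99696 (iv5 F95267) D129044 (iv5 F381097) F206901 (iv4 F396497))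
theorem E103626 : n129044 = n128917 := (((D128917).symm.trans (sb E103625 F381097))).symm
theorem E103627 : n128918 = n61949 := ((D128918).symm.trans (sb E103625 (iv6 D132015)))
theorem F396536 : act 0 n128917 = n60671 := (sb E103626 (iv1 D129044))
theorem F396537 : act 6 n61949 = n60629 := (sb E103627 (iv6 D128918))
theorem F396538 : act 6 n128914 = n132011 := d3_2 F396537 (iv2 F207144) F211509
theorem F396539 : act 6 n128915 = n132012 := d7_2 F396537 D128915 (iv3 D132012)
theorem F396540 : act 6 n128916 = n132013 := d10_2 F396537 D128916 (iv4 D132013)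
theorem F396541 : act 6 n126563 = n129809 := d7_2 F396540 F211510 F208152
theorem F396542 : act 7 n132010 = n128913 := d14_4 D128914 F396538 (iv7 D132011) D132010 (iv6 D128913)
theorem F396543 : act 5 n128913 = n127369 := d13_1 F396542 (iv7 F391699) F363271
theorem F396544 : act 0 n132151 = n128913 := d19_0 F396543 (iv4 F362906) F395941 (iv1 D195141) (iv5 F238408) (iv4 F360959) (iv3 D115028) (iv1 F83773) F83739 F40656 (iv3 F40629) (iv1 F318015) D68445 (iv4 F329188) (iv3 F165667) F164595 (iv5 D106805) F102050 D132151
def n195272 : Q := act 3 n105487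
theorem D195272 : act 3 n105487 = n195272 := rfl
theorem F396545 : act 5 n195272 = n115088 := d6_2 (iv5 F161929) D195272 (iv3 D115088)
theorem F396546 : act 7 n195272 = n134158 := d8_2 F161933 D195272 F216188
def n195273 : Q := act 6 n105487
theorem D195273 : act 6 n105487 = n195273 := rfl
theorem F396547 : act 2 n195273 = n136320 := d3_1 D195273 (iv6 D136320) F161932
theorem F396548 : act 4 n195273 = n135932 := d10_1 D195273 (iv6 D135932) (iv4 F161930)
def n195274 : Q := act 0 n105489
theorem D195274 : act 0 n105489 = n195274 := rfl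
theorem F396549 : act 4 n195274 = n136695 := d18_1 D195274 F318989 F338621 F219426 F208174 (iv0 D115137) D115140 F326947 (iv5 F161939)
theorem F396550 : act 1 n192988 = n195274 := d18_6 F232532 (iv4 F55387) D76544 F233079 D101072 D192988 F396549 (iv0 D136695) F316634
def n195275 : Q := act 1 n105489
theorem D195275 : act 1 n105489 = n195275 := rfl
theorem F396551 : act 1 n195275 = n192988 := d15_1 D195275 F388445 F161948
theorem F396552 : act 5 n195275 = n146877 := d17_7 F355401 (iv5 F114783) (iv1 F347603) (iv5 F347599) F203452 (iv5 F161939) D195275 (iv0 F363918) (iv4 F214644)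
theorem F396553 : act 4 n195275 = n136696 := d17_9 (iv1 D136696) F316634 F232532 D70660 D150130 (iv5 F338629) F326947 (iv5 F161939) D195275
def n195276 : Q := act 7 n105489
theorem D195276 : act 7 n105489 = n195276 := rfl
theorem F396554 : act 2 n195276 = n192988 := d4_1 D195276 F388445 F161948
theorem F396555 : act 4 n195276 = n150110 := d11_1 D195276 F236255 F344176
theorem F396556 : act 5 n195276 = n126534 := d13_1 D195276 (iv7 D126534) (iv5 F161939)
def n195277 : Q := act 3 n105490
theorem D195277 : act 3 n105490 = n195277 := rfl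
theorem F396557 : act 2 n195277 = n106835 := d0_1 D195277 F208217 F213174 (iv3 F213143) F213183
theorem F396558 : act 4 n195277 = n106834 := d5_2 F217331 D195277 (iv3 F213558) (iv4 F362904) (iv3 F363949)
theorem F396559 : act 7 n195277 = n106840 := d8_2 F213185 D195277 (iv3 F207584)
def n195278 : Q := act 5 n105490
theorem D195278 : act 5 n105490 = n195278 := rfl
def n195279 : Q := act 6 n105490
theorem D195279 : act 6 n105490 = n195279 := rfl
theorem F396560 : act 4 n195279 = n183403 := d10_1 D195279 (iv6 F363950) F217331
theorem F396561 : act 7 n195279 = n183402 := d14_2 F213185 D195279 F285122 F295124 (iv6 F363957)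
def n195280 : Q := act 5 n105491
theorem D195280 : act 5 n105491 = n195280 := rfl
theorem F396562 : act 3 n195280 = n191800 := d6_1 D195280 F384486 F213181
theorem F396563 : act 6 n195280 = n146873 := d12_2 F383948 D195280 (iv5 D146873) D146874 (iv5 F383950)
theorem F396564 : act 4 n146916 = n195280 := d10_3 F396563 F230259 D146916
theorem F396565 : act 0 n195280 = n129435 := d19_4 F232559 D98939 D191800 (iv3 F396562) (iv5 D129435) (iv4 F98703) (iv3 D63390) (iv1 F48153) D29963 (iv4 F53523) (iv3 F111571) (iv1 F316985) (iv5 D124859) (iv4 D58375) D58374 F313649 F312279 F51829 (iv3 F106387)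
def n195281 : Q := act 5 n105492
theorem D195281 : act 5 n105492 = n195281 := rfl
theorem F396566 : act 2 n195281 = n105493 := d2_1 D195281 (iv5 D105493) D105492
theorem F396567 : act 3 n195281 = n195268 := d6_1 D195281 (iv5 D195268) (iv3 F161940)
theorem F396568 : act 6 n195281 = n132588 := d12_2 (iv6 F161941) D195281 (iv5 D132588) F325148 (iv5 F95475)
def n195282 : Q := act 0 n105493
theorem D195282 : act 0 n105493 = n195282 := rfl
def n195283 : Q := act 1 n105493
theorem D195283 : act 1 n105493 = n195283 := rfl
theorem F396569 : act 3 n191821 = n195283 := d19_19 (iv1 D195283) (iv5 D105493) (iv4 F79254) (iv3 D50064) (iv1 F48084) D63334 F98598 (iv3 F100928) D138754 F245795 (iv4 F314347) (iv3 F199602) (iv1 F340783) F214876 F167418 (iv3 F386431) F386433 (iv5 D191822) D191821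
theorem F396570 : act 4 n195283 = n188179 := d5_2 D191821 F396569 (iv3 D188179) F295469 D98974
theorem F396571 : act 5 n195283 = n132209 := d6_2 F384542 F396569 (iv3 F213633)
def n195284 : Q := act 4 n105493
theorem D195284 : act 4 n105493 = n195284 := rfl
theorem F396572 : act 5 n134980 = n195284 := d19_1 (iv1 F217205) (iv4 D195284) F161942 (iv1 F99699) (iv5 D64086) (iv4 D30205) F23950 F37801 (iv5 D24122) (iv4 F26088) F26087 (iv1 F23857) F19593 D14244 (iv3 F47279) D62318 (iv5 F203340) F203339 F167772
theorem F396573 : act 0 n195284 = n135004 := d21_1 F396572 F217226 (iv6 F216231) F347249 (iv6 F347284) F336978 F155240 (iv5 F336964) F171538 (iv1 F217205)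
def n195285 : Q := act 3 n105494
theorem D195285 : act 3 n105494 = n195285 := rfl
theorem F396574 : act 5 n195285 = n115386 := d6_2 (iv5 F161944) D195285 (iv3 D115386)
theorem F396575 : act 7 n195285 = n136402 := d8_2 (iv7 F161945) D195285 (iv3 D136402)
def n195286 : Q := act 0 n105495
theorem D195286 : act 0 n105495 = n195286 := rfl
theorem F396576 : act 4 n195286 = n123382 := d18_1 D195286 (iv1 F314223) F219796 F100038 F95526 (iv0 F203440) (iv4 F355358) (iv0 D126612) (iv5 F161949)
theorem F396577 : act 1 n195276 = n195286 := d15_0 (iv0 D195286) (iv7 F388445) (iv2 F396554)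
theorem F396578 : act 2 n195274 = n195286 := d1_3 F396576 (iv2 F318990) (iv4 F396549)
theorem F396579 : act 7 n195275 = n195286 := d11_0 F396576 (iv7 F318996) (iv4 F396553)
theorem F396580 : act 3 n195269 = n195286 := d20_5 (iv4 F48612) D64123 F99810 (iv3 F161928) D195269 F396576 (iv1 F314223) F219796 (iv3 D64237) (iv1 F48637)
def n195287 : Q := act 1 n105495
theorem D195287 : act 1 n105495 = n195287 := rfl
theorem F396581 : act 1 n195287 = n195276 := d15_1 D195287 (iv7 D195276) (iv2 F161948)
theorem F396582 : act 7 n195287 = n195274 := d15_2 (iv0 D195286) D195287 F396578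
theorem F396583 : act 4 n195287 = n124142 := d18_7 (iv1 F232519) (iv4 F114776) F232452 (iv4 F155410) D150113 F347615 D195287 (iv0 F314222) F314225
theorem F396584 : act 5 n148698 = n195287 := d21_6 F93723 F48311 D60694 (iv6 F327153) (iv1 F106057) (iv6 F233454) (iv1 D195287) F161949 (iv6 D59400) D59397
theorem F396585 : act 2 n195287 = n195275 := d2_1 F396584 F396552 (iv2 F233453)
def n195288 : Q := act 0 n105496
theorem D195288 : act 0 n105496 = n195288 := rfl
theorem F396586 : act 3 n195288 = n107142 := d20_5 (iv4 D31429) (iv1 F37075) D48775 D105496 D195288 (iv4 D107142) (iv1 D49498) (iv4 F78239) (iv3 D49490) (iv1 F49719)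
theorem F396587 : act 2 n105560 = n195288 := d15_3 (iv0 D195288) (iv0 F223683) F223682
theorem F396588 : act 1 n105561 = n195288 := d15_0 (iv0 D195288) F161951 D105561
theorem F396589 : act 7 n195288 = n105559 := d4_2 F223682 F396587 (iv2 F223684)
theorem F396590 : act 1 n140544 = n105561 := d15_0 F396588 F396589 (iv2 F223684)
def n195289 : Q := act 2 n105496
theorem D195289 : act 2 n105496 = n195289 := rfl
theorem F396591 : act 3 n195289 = n105542 := d0_2 D105496 D195289 (iv2 D105542) (iv3 D48796) (iv2 F76797)
theorem F396592 : act 4 n195289 = n108711 := d1_2 (iv4 F161950) D195289 (iv2 D108711)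
theorem F396593 : act 7 n195289 = n105561 := d4_2 (iv7 F161951) D195289 (iv2 D105561)
theorem F396594 : act 1 n195289 = n105559 := d15_0 (iv0 D105559) (iv7 F161951) D195289
theorem F396595 : act 1 n105560 = n195289 := d15_0 F396594 (iv7 F396589) (iv2 F396587)
def n195290 : Q := act 5 n105496
theorem D195290 : act 5 n105496 = n195290 := rfl
theorem F396596 : act 3 n195290 = n105497 := d6_1 D195290 (iv5 D105497) D105496
theorem F396597 : act 7 n195290 = n105562 := d13_2 (iv7 F161951) D195290 (iv5 D105562)
def n195291 : Q := act 6 n105496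
theorem D195291 : act 6 n105496 = n195291 := rfl
theorem F396598 : act 3 n195291 = n105498 := d7_1 D195291 (iv6 D105498) D105496
theorem F396599 : act 4 n195291 = n108712 := d10_1 D195291 (iv6 D108712) (iv4 F161950)
theorem F396600 : act 7 n144708 = n195291 := d11_0 F396599 (iv7 F388257) F388255
def n195292 : Q := act 5 n105498
theorem D195292 : act 5 n105498 = n195292 := rfl
theorem F396601 : act 2 n195292 = n105549 := d2_1 D195292 (iv5 D105549) (iv2 F161956)
theorem F396602 : act 7 n195292 = n144709 := d13_2 F161958 D195292 (iv5 D144709)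
def n195293 : Q := act 0 n105499
theorem D195293 : act 0 n105499 = n195293 := rfl
theorem F396603 : act 5 n195293 = n132426 := d17_1 D195293 (iv1 F360507) (iv5 D137791) (iv4 D64760) D64761 F219058 (iv5 F386031) (iv0 D126781) (iv4 F161959)
theorem F396604 : act 3 n195293 = n115343 := d20_5 (iv4 D25273) F37073 D48777 D105499 D195293 (iv4 D115343) (iv1 D53211) (iv4 F84014) (iv3 D53190) F40771
theorem F396605 : act 2 n105541 = n195293 := d15_3 (iv0 D195293) (iv0 F220069) F220068
theorem F396606 : act 1 n105542 = n195293 := d15_0 (iv0 D195293) F161960 D105542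
theorem F396607 : act 7 n195293 = n105540 := d15_2 F360503 F396606 (iv2 F220071)
def n195294 : Q := act 6 n105499
theorem D195294 : act 6 n105499 = n195294 := rfl
theorem F396608 : act 3 n195294 = n105501 := d7_1 D195294 (iv6 D105501) D105499
theorem F396609 : act 4 n195294 = n126784 := d10_1 D195294 (iv6 D126784) (iv4 F161959)
theorem F396610 : act 7 n145640 = n195294 := d8_0 F396608 (iv7 F161967) D145640
def n195295 : Q := act 6 n105500
theorem D195295 : act 6 n105500 = n195295 := rfl
theorem F396611 : act 2 n195295 = n105564 := d3_1 D195295 (iv6 D105564) (iv2 F161961)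
theorem F396612 : act 4 n195295 = n136285 := d10_1 D195295 (iv6 D136285) (iv4 F161962)
def n195296 : Q := act 0 n105501
theorem D195296 : act 0 n105501 = n195296 := rfl
theorem F396613 : act 4 n195296 = n107120 := d18_3 F76809 (iv4 F161966) D195296 (iv5 F172670) (iv4 F202660) (iv0 D125981) (iv4 D58988) (iv0 D28031) (iv5 F41276)
theorem F396614 : act 6 n195296 = n137791 := d21_5 D109268 F169252 (iv5 D105500) D105501 D195296 (iv5 D137791) (iv1 F162175) (iv5 F344609) (iv6 D105504) (iv1 F79789)
theorem F396615 : act 2 n105565 = n195296 := d15_3 (iv0 D195296) (iv0 F167067) (iv7 F167072)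
theorem F396616 : act 1 n105568 = n195296 := d15_0 (iv0 D195296) (iv7 F161967) (iv2 F162145)
theorem F396617 : act 7 n195296 = n105566 := d15_2 F167068 F396616 (iv2 F167065)
def n195297 : Q := act 5 n105501
theorem D195297 : act 5 n105501 = n195297 := rfl
theorem F396618 : act 2 n195297 = n105567 := d2_1 D195297 (iv5 D105567) (iv2 F161965)
theorem F396619 : act 7 n195297 = n145641 := d13_2 F161967 D195297 (iv5 D145641)
def n195298 : Q := act 0 n105502
theorem D195298 : act 0 n105502 = n195298 := rfl
theorem F396620 : act 3 n195298 = n107248 := d20_5 (iv4 D23791) D23789 D48779 D105502 D195298 (iv4 D107248) (iv1 D49551) (iv4 F78303) (iv3 D49544) F37896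
theorem F396621 : act 2 n105592 = n195298 := d15_3 (iv0 D195298) (iv0 F224914) F224913
theorem F396622 : act 1 n105593 = n195298 := d15_0 (iv0 D195298) F161969 D105593
theorem F396623 : act 7 n195298 = n105591 := d15_2 (iv0 F224915) F396622 (iv2 F224916)
def n195299 : Q := act 2 n105502
theorem D195299 : act 2 n105502 = n195299 := rfl
theorem F396624 : act 3 n195299 = n105575 := d0_2 D105502 D195299 (iv2 D105575) (iv3 D48813) (iv2 F76811)
theorem F396625 : act 4 n195299 = n106887 := d1_2 (iv4 F161968) D195299 (iv2 D106887)
theorem F396626 : act 7 n195299 = n105593 := d4_2 (iv7 F161969) D195299 (iv2 D105593)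
theorem F396627 : act 1 n195299 = n105591 := d15_0 (iv0 D105591) (iv7 F161969) D195299
theorem F396628 : act 1 n105592 = n195299 := d15_0 F396627 (iv7 F396623) (iv2 F396621)
def n195300 : Q := act 5 n105502
theorem D195300 : act 5 n105502 = n195300 := rfl
theorem F396629 : act 3 n195300 = n105503 := d6_1 D195300 (iv5 D105503) D105502
theorem F396630 : act 7 n195300 = n105594 := d13_2 (iv7 F161969) D195300 (iv5 D105594)
def n195301 : Q := act 6 n105502
theorem D195301 : act 6 n105502 = n195301 := rfl
theorem F396631 : act 3 n195301 = n105504 := d7_1 D195301 (iv6 D105504) D105502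
theorem F396632 : act 4 n195301 = n106889 := d10_1 D195301 (iv6 D106889) (iv4 F161968)
def n195302 : Q := act 6 n105503
theorem D195302 : act 6 n105503 = n195302 := rfl
theorem F396633 : act 2 n195302 = n105579 := d3_1 D195302 (iv6 D105579) (iv2 F161970)
theorem F396634 : act 4 n195302 = n133347 := d10_1 D195302 F344603 (iv4 F161972)
theorem F396635 : act 5 n195302 = n108090 := d12_1 D195302 (iv6 F336214) (iv5 F344609) (iv6 D105504) D105503
theorem F396636 : act 0 n195302 = n108062 := d21_10 (iv5 D108062) D108059 F167073 (iv6 F99691) (iv1 F336189) (iv6 D133995) (iv5 D62943) (iv1 F76813) D105503 D195302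
theorem F396637 : act 1 n195302 = n179897 := d15_0 (iv0 F366549) (iv7 F344607) (iv2 F396633)
def n195303 : Q := act 6 n105508
theorem D195303 : act 6 n105508 = n195303 := rfl
theorem F396638 : act 2 n195303 = n105596 := d3_1 D195303 (iv6 D105596) (iv2 F161982)
theorem F396639 : act 3 n195303 = n105565 := d7_1 D195303 F344620 (iv3 F161983)
theorem F396640 : act 4 n195303 = n117023 := d10_1 D195303 F361844 (iv4 F161984)
def n195304 : Q := act 0 n105509
theorem D195304 : act 0 n105509 = n195304 := rfl
theorem F396641 : act 4 n195304 = n107229 := d18_3 F166071 (iv4 F161988) D195304 F165253 (iv4 F203791) (iv0 D126646) F93792 (iv0 F166073) F76976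
theorem F396642 : act 2 n105597 = n195304 := d1_3 F396641 (iv2 F165254) (iv4 F166137)
theorem F396643 : act 7 n105598 = n195304 := d11_0 F396641 (iv7 F165256) (iv4 F166500)
theorem F396644 : act 5 n144411 = n195304 := d16_1 (iv4 F227194) F396641 F165253 (iv4 F203791) F331900 F314818 D173280 F366821 F363878
theorem F396645 : act 0 n108068 = n144411 := d17_2 (iv1 D108067) D108068 F396644 F396641 F165253 (iv0 D63982) (iv5 F53425) (iv0 F111325) (iv4 F167086)
theorem F396646 : act 1 n105600 = n195304 := d18_6 D64103 (iv4 F166255) F247409 (iv4 D157219) (iv5 F112182) (iv4 F162207) F396641 (iv0 D107229) F78302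
theorem F396647 : act 3 n195304 = n144414 := d6_1 F396644 (iv5 D144414) (iv3 F227193)
def n195305 : Q := act 1 n105509
theorem D195305 : act 1 n105509 = n195305 := rfl
theorem F396648 : act 1 n195305 = n105600 := d15_1 D195305 (iv7 D105600) (iv2 F161986)
theorem F396649 : act 7 n195305 = n105597 := d15_2 (iv0 D195304) D195305 F396642
theorem F396650 : act 4 n195305 = n107230 := d18_7 (iv1 F99716) F166257 (iv1 D107647) F78593 (iv5 F76822) (iv4 F161988) D195305 F165258 (iv5 F95706)
theorem F396651 : act 2 n105598 = n195305 := d1_3 F396650 (iv2 F165265) (iv4 F166500)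
def n195306 : Q := act 5 n105509
theorem D195306 : act 5 n105509 = n195306 := rfl
theorem F396652 : act 2 n195306 = n105599 := d2_1 D195306 (iv5 D105599) (iv2 F161986)
theorem F396653 : act 3 n195306 = n137810 := d6_1 D195306 (iv5 D137810) (iv3 F161987)
theorem F396654 : act 4 n195306 = n175106 := d16_2 (iv4 F161988) D195306 F274074 (iv4 F206178) F345596 (iv4 D157219) (iv5 F112182) (iv7 D48826) (iv2 F76820)
theorem F396655 : act 1 n195306 = n155792 := d17_6 (iv1 F101927) (iv5 F53896) F101936 (iv5 F76822) (iv4 F161988) D195306 (iv5 F359066) (iv0 D126915) (iv4 D59568)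
theorem F396656 : act 7 n175105 = n195306 := d11_0 F396654 (iv7 D175106) D175105
def n195307 : Q := act 7 n105509
theorem D195307 : act 7 n105509 = n195307 := rfl
theorem F396657 : act 2 n195307 = n105600 := d4_1 D195307 (iv7 D105600) (iv2 F161986)
theorem F396658 : act 3 n195307 = n137811 := d8_1 D195307 (iv7 D137811) (iv3 F161987)
theorem F396659 : act 4 n195307 = n105512 := d11_1 D195307 (iv7 D105512) (iv4 F161988)
theorem F396660 : act 5 n195307 = n175105 := d13_1 D195307 F396656 (iv5 D195306)
theorem F396661 : act 6 n195307 = n105583 := d14_1 D195307 (iv7 D105583) (iv6 D48815) (iv7 F76818) D105509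
theorem F396662 : act 1 n105598 = n195307 := d15_1 D105598 (iv7 D195307) F161986
theorem F396663 : act 1 n195307 = n105597 := d15_1 F396662 (iv7 F396649) (iv2 F396651)
def n195308 : Q := act 2 n105513
theorem D195308 : act 2 n105513 = n195308 := rfl
theorem F396664 : act 6 n195308 = n105633 := d3_2 (iv6 F361840) D195308 F162234
theorem F396665 : act 7 n105514 = n195308 := d15_2 (iv0 D105513) D105514 (iv2 D195308)
def n195309 : Q := act 4 n105513
theorem D195309 : act 4 n105513 = n195309 := rfl
theorem F396666 : act 3 n195309 = n179128 := d5_1 D195309 (iv4 F392739) F392738 F162241 (iv3 F361838)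
theorem F396667 : act 6 n195309 = n105636 := d10_2 (iv6 F361840) D195309 (iv4 D105636)
theorem F396668 : act 1 n195309 = n126832 := d18_8 (iv1 F362712) F203709 D136225 F360526 (iv5 F203824) (iv4 F224386) F224389 D195309 F364307
theorem F396669 : act 0 n195309 = n137346 := d20_1 D195309 (iv4 F221043) (iv3 D137801) (iv1 D64764) (iv3 F76817) (iv4 D48781) (iv1 D23790) D23791 D48783 D105513
def n195310 : Q := act 7 n105513
theorem D195310 : act 7 n105513 = n195310 := rfl
theorem F396670 : act 2 n195310 = n105514 := d4_1 D195310 F396665 (iv2 D195308)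
theorem F396671 : act 3 n195310 = n105646 := d8_1 D195310 (iv7 D105646) (iv3 F361838)
theorem F396672 : act 0 n105517 = n195310 := d20_4 (iv4 D23806) (iv1 F37092) (iv4 F76826) (iv3 F162002) F396671 (iv4 F361837) (iv1 D113098) (iv4 F99690) (iv3 D64083) F48586
theorem F396673 : act 1 n105517 = n195308 := d15_1 (iv0 F396672) (iv7 F396665) (iv2 F396670)
theorem F396674 : act 1 n105515 = n195310 := d15_0 (iv0 F396672) (iv7 D105517) D105515
theorem F396675 : act 1 n195308 = n105515 := d15_0 F396674 (iv7 D195310) D195308
def n195311 : Q := act 3 n105514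
theorem D195311 : act 3 n105514 = n195311 := rfl
theorem F396676 : act 4 n195311 = n141871 := d20_6 (iv4 D48863) (iv1 F49402) D66308 D141350 (iv1 F224388) D195311 (iv1 D141871) D141873 F224912 F179964
def n195312 : Q := act 4 n105514
theorem D195312 : act 4 n105514 = n195312 := rfl
theorem F396677 : act 1 n195312 = n137346 := d18_8 F360532 F203973 (iv1 F360531) (iv4 D126673) (iv5 D59431) (iv4 F76823) D105514 D195312 F362158
theorem F396678 : act 3 n195312 = n126821 := d20_3 (iv4 F224386) (iv1 F224388) D195312 (iv1 F216734) F216730 F163559 (iv1 F78343) D107379 (iv3 F165426) D126658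
def n195313 : Q := act 5 n105514
theorem D195313 : act 5 n105514 = n195313 := rfl
def n195314 : Q := act 6 n105514
theorem D195314 : act 6 n105514 = n195314 := rfl
def n195315 : Q := act 5 n105515
theorem D195315 : act 5 n105515 = n195315 := rfl
theorem F396679 : act 2 n195315 = n105516 := d2_1 D195315 (iv5 D105516) D105515
theorem F396680 : act 3 n195315 = n105633 := d6_1 D195315 (iv5 D105633) (iv3 F161999)
def n195316 : Q := act 0 n105516
theorem D195316 : act 0 n105516 = n195316 := rfl
def n195317 : Q := act 1 n105516
theorem D195317 : act 1 n105516 = n195317 := rfl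
theorem F396681 : act 5 n195317 = n144408 := d17_7 (iv1 F219846) F338729 (iv1 D126672) (iv5 D59431) (iv4 F76823) D105516 D195317 F227191 F223007
def n195318 : Q := act 4 n105516
theorem D195318 : act 4 n105516 = n195318 := rfl
theorem F396682 : act 3 n195318 = n127081 := d5_1 D195318 (iv4 F347201) F173974 F81508 (iv3 F162001)
theorem F396683 : act 5 n195318 = n127080 := d16_3 (iv4 F76823) D105516 D195318 (iv4 F224118) (iv5 F360527) F360526 (iv5 F203824) F203825 (iv2 D59430)
theorem F396684 : act 6 n141860 = n195318 := d7_0 F396682 F339932 D141860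
def n195319 : Q := act 6 n105516
theorem D195319 : act 6 n105516 = n195319 := rfl
theorem F396685 : act 3 n195319 = n105518 := d7_1 D195319 (iv6 D105518) (iv3 F162001)
theorem F396686 : act 4 n195319 = n141860 := d10_1 D195319 F396684 (iv4 D195318)
def n195320 : Q := act 6 n105517
theorem D195320 : act 6 n105517 = n195320 := rfl
theorem F396687 : act 3 n195320 = n105519 := d7_1 D195320 (iv6 D105519) (iv3 F162002)
theorem F396688 : act 4 n195320 = n126675 := d10_1 D195320 (iv6 D126675) (iv4 F162003)
def n195321 : Q := act 0 n105518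
theorem D195321 : act 0 n105518 = n195321 := rfl
theorem F396689 : act 4 n195321 = n137487 := d20_2 F173980 D195321 (iv3 D137487) (iv1 D64626) (iv3 D30414) (iv4 D14447) F19944 D25355 D52202 (iv1 F347194)
theorem F396690 : act 3 n195321 = n136092 := d20_5 (iv4 D141873) F224905 (iv4 F396686) F396685 D195321 (iv4 D136092) (iv1 F99580) D64760 (iv3 F162204) F224915
theorem F396691 : act 7 n105645 = n195321 := d8_0 F396690 F219036 (iv3 F360863)
theorem F396692 : act 0 n195321 = n105646 := d20_10 (iv4 F361837) (iv1 D113098) (iv4 F99690) (iv3 D64083) F48586 D48813 F76894 D64002 D136092 (iv3 F396690)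
theorem F396693 : act 2 n195321 = n105644 := d15_3 (iv0 D105644) D105645 F396691
theorem F396694 : act 3 n105644 = n107233 := d0_2 (iv3 F396690) F396693 F172168 F162218 (iv2 F219035)
def n195322 : Q := act 1 n105518
theorem D195322 : act 1 n105518 = n195322 := rfl
theorem F396695 : act 1 n195322 = n105646 := d15_1 D195322 (iv7 D105646) (iv2 F162004)
theorem F396696 : act 7 n195322 = n105644 := d15_2 (iv0 D195321) D195322 (iv2 F396693)
theorem F396697 : act 2 n105645 = n195322 := d4_3 F396696 (iv2 F396693) (iv7 F396691)
theorem F396698 : act 3 n105610 = n195322 := d8_3 F396696 F396694 F172166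
def n195323 : Q := act 7 n105518
theorem D195323 : act 7 n105518 = n195323 := rfl
theorem F396699 : act 2 n195323 = n105646 := d4_1 D195323 (iv7 D105646) (iv2 F162004)
theorem F396700 : act 4 n195323 = n143968 := d11_1 D195323 (iv7 F347196) F173980
theorem F396701 : act 1 n105645 = n195323 := d15_1 D105645 (iv7 D195323) F162004
theorem F396702 : act 1 n195323 = n105644 := d15_1 F396701 (iv7 F396696) (iv2 F396697)
def n195324 : Q := act 5 n105519
theorem D195324 : act 5 n105519 = n195324 := rfl
theorem F396703 : act 2 n195324 = n105650 := d2_1 D195324 (iv5 D105650) (iv2 F162005)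
theorem F396704 : act 4 n195324 = n145667 := d17_4 F320846 (iv5 F351846) (iv1 F165695) D195324 (iv5 F318637) F318636 (iv5 D85973) (iv0 F155443) (iv4 F185803)
theorem F396705 : act 4 n108157 = n145668 := d16_2 (iv4 F79005) D108157 F318637 (iv4 F396704) (iv5 D195324) F162006 F76831 (iv7 F78909) F78906
theorem F396706 : act 4 n140998 = n105650 := d11_3 (iv7 F167251) F396705 F359893
def n195325 : Q := act 2 n105520
theorem D195325 : act 2 n105520 = n195325 := rfl
theorem F396707 : act 3 n195325 = n126694 := d0_2 D105520 D195325 (iv2 D126694) (iv3 D59444) (iv2 F76832)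
theorem F396708 : act 4 n195325 = n105542 := d1_2 (iv4 F162007) D195325 (iv2 D105542)
theorem F396709 : act 5 n195325 = n136215 := d2_2 (iv5 F162008) D195325 (iv2 D136215)
theorem F396710 : act 7 n195325 = n126783 := d4_2 (iv7 F162009) D195325 (iv2 D126783)
theorem F396711 : act 1 n195325 = n126781 := d15_0 (iv0 D126781) (iv7 F162009) D195325
theorem F396712 : act 1 n126782 = n195325 := d15_0 F396711 F386032 (iv2 F386029)
def n195326 : Q := act 6 n105520
theorem D195326 : act 6 n105520 = n195326 := rfl
theorem F396713 : act 3 n195326 = n105521 := d7_1 D195326 (iv6 D105521) D105520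
theorem F396714 : act 4 n195326 = n105544 := d10_1 D195326 (iv6 D105544) (iv4 F162007)
theorem F396715 : act 0 n195326 = n192169 := d21_4 D136097 F360512 (iv5 F162008) D195326 (iv6 D192169) (iv5 D99818) F73636 D48257 (iv6 F329329) (iv1 F99584)
theorem F396716 : act 7 n137008 = n195326 := d8_0 F396713 (iv7 F162023) D137008
def n195327 : Q := act 5 n105521
theorem D195327 : act 5 n105521 = n195327 := rfl
theorem F396717 : act 2 n195327 = n126696 := d2_1 D195327 (iv5 D126696) (iv2 F162010)
theorem F396718 : act 6 n195327 = n136220 := d12_2 D105521 D195327 (iv5 D136220) (iv6 D64043) (iv5 F76834)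
theorem F396719 : act 7 n195327 = n137009 := d13_2 F162023 D195327 (iv5 D137009)
theorem F396720 : act 0 n195327 = n136538 := d17_2 F162012 D195327 (iv5 D136538) (iv4 D64188) F53503 (iv0 D34083) F26104 D30155 D63942
theorem F396721 : act 1 n195327 = n136541 := d17_6 (iv1 F328405) F328408 (iv1 D112961) F82420 (iv4 F162011) D195327 (iv5 D136541) F218628 F218626
theorem F396722 : act 0 n185345 = n136220 := d21_4 (iv5 F335595) (iv1 F346020) F295459 D185345 (iv6 F396718) (iv5 D195327) F162014 D115904 F363006 F289780
theorem F396723 : act 1 n185345 = n138082 := d15_1 (iv0 F396722) (iv7 D138082) (iv2 F219243)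
def n195328 : Q := act 1 n105523
theorem D195328 : act 1 n105523 = n195328 := rfl
theorem F396724 : act 4 n111455 = n195328 := d20_6 (iv4 D24970) (iv1 F19287) D11870 D24992 D51411 D111455 (iv1 D195328) (iv4 F171650) (iv3 D110828) F80609
theorem F396725 : act 2 n195328 = n109444 := d1_1 F396724 F366011 (iv2 F359302)
def n195329 : Q := act 2 n105523
theorem D195329 : act 2 n105523 = n195329 := rfl
theorem F396726 : act 1 n195329 = n109444 := d15_0 (iv0 F174007) F174006 D195329
def n195330 : Q := act 6 n105523
theorem D195330 : act 6 n105523 = n195330 := rfl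
theorem F396727 : act 3 n195330 = n105524 := d7_1 D195330 (iv6 D105524) D105523
theorem F396728 : act 0 n195330 = n157882 := d20_4 (iv4 F169225) (iv1 D105526) (iv4 F162031) (iv3 F396727) (iv3 D157882) (iv4 D75215) (iv1 F55921) (iv4 F56435) F326232 (iv1 F169224)
def n195331 : Q := act 5 n105524
theorem D195331 : act 5 n105524 = n195331 := rfl
theorem F396729 : act 0 n195331 = n109917 := d17_2 (iv1 F168381) D195331 (iv5 D109917) (iv4 D50690) (iv5 F80034) (iv0 D30019) F23779 D24593 D50466
theorem F396730 : act 1 n195331 = n109921 := d17_6 (iv1 F202915) (iv5 F203293) (iv1 D126456) F93585 (iv4 F162031) D195331 (iv5 D109921) F169927 F169926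
def n195332 : Q := act 6 n105526
theorem D195332 : act 6 n105526 = n195332 := rfl
theorem F396731 : act 3 n195332 = n113578 := d7_1 D195332 (iv6 D113578) (iv3 F169226)
theorem F396732 : act 0 n125944 = n195332 := d20_4 (iv4 F395557) F395558 (iv4 D125949) (iv3 F202439) F396731 F176738 (iv1 F222463) (iv4 D109236) F161352 (iv1 F161356)
def n195333 : Q := act 0 n105528
theorem D195333 : act 0 n105528 = n195333 := rfl
theorem F396733 : act 1 n141803 = n195333 := d15_0 (iv0 D195333) F162033 (iv2 F323665)
def n195334 : Q := act 1 n105528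
theorem D195334 : act 1 n105528 = n195334 := rfl
theorem F396734 : act 1 n195334 = n141803 := d15_1 D195334 F323667 F223006
theorem F396735 : act 4 n126749 = n195334 := d20_6 (iv4 D14405) (iv1 F24008) D30282 D64284 D136745 (iv3 F347032) (iv1 D195334) F162032 (iv3 D59450) F45719
theorem F396736 : act 6 n195334 = n126758 := d10_2 (iv6 F203972) F396735 (iv4 D126758)
theorem F396737 : act 7 n195334 = n144408 := d11_2 F389757 F396735 (iv4 F389760)
theorem F396738 : act 2 n144408 = n195333 := d15_3 (iv0 D195333) D195334 F396737
theorem F396739 : act 2 n195334 = n144407 := d15_3 (iv0 D144407) D144408 (iv7 F396737)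
theorem F396740 : act 7 n144407 = n195333 := d4_2 (iv7 F396737) F396739 (iv2 F396738)
def n195335 : Q := act 5 n105528
theorem D195335 : act 5 n105528 = n195335 := rfl
theorem F396741 : act 3 n195335 = n105529 := d6_1 D195335 (iv5 D105529) D105528
theorem F396742 : act 7 n195335 = n144410 := d13_2 (iv7 F162033) D195335 (iv5 D144410)
theorem F396743 : act 1 n195335 = n195313 := d17_6 (iv1 F203826) F359095 (iv1 F325877) (iv5 D126702) (iv4 F162032) D195335 (iv5 D195313) F224388 F224386
def n195336 : Q := act 6 n105528
theorem D195336 : act 6 n105528 = n195336 := rfl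
theorem F396744 : act 3 n195336 = n105530 := d7_1 D195336 (iv6 D105530) D105528
theorem F396745 : act 4 n195336 = n126703 := d10_1 D195336 (iv6 D126703) (iv4 F162032)
def n195337 : Q := act 6 n105529
theorem D195337 : act 6 n105529 = n195337 := rfl
theorem F396746 : act 2 n195337 = n112790 := d3_1 D195337 (iv6 D112790) (iv2 F162034)
theorem F396747 : act 4 n195337 = n109301 := d10_1 D195337 (iv6 D109301) (iv4 F162035)
def n195338 : Q := act 1 n105530
theorem D195338 : act 1 n105530 = n195338 := rfl
theorem F396748 : act 1 n195338 = n112789 := d15_1 D195338 (iv7 D112789) (iv2 F162039)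
theorem F396749 : act 7 n195338 = n112786 := d15_2 (iv0 F222827) D195338 (iv2 F222824)
theorem F396750 : act 4 n195338 = n109272 := d18_7 (iv1 F81147) F81144 F82208 F82207 (iv5 F76858) (iv4 F162040) D195338 F169263 F165107
theorem F396751 : act 2 n112787 = n195338 := d1_3 F396750 (iv2 F169266) (iv4 F175590)
theorem F396752 : act 6 n145656 = n195338 := d10_0 F396750 (iv6 F217145) (iv4 F228677)
def n195339 : Q := act 5 n105530
theorem D195339 : act 5 n105530 = n195339 := rfl
theorem F396753 : act 2 n195339 = n112788 := d2_1 D195339 (iv5 D112788) (iv2 F162039)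
theorem F396754 : act 1 n195339 = n108124 := d17_6 (iv1 D49929) (iv5 F38826) F39820 (iv5 F76858) (iv4 F162040) D195339 (iv5 D108124) (iv0 F167179) (iv4 D108103)
def n195340 : Q := act 7 n105530
theorem D195340 : act 7 n105530 = n195340 := rfl
theorem F396755 : act 2 n195340 = n112789 := d4_1 D195340 (iv7 D112789) (iv2 F162039)
theorem F396756 : act 4 n195340 = n105533 := d11_1 D195340 (iv7 D105533) (iv4 F162040)
theorem F396757 : act 6 n195340 = n144415 := d14_1 D195340 (iv7 D144415) (iv6 D67671) (iv7 F76853) D105530
theorem F396758 : act 1 n112787 = n195340 := d15_1 D112787 (iv7 D195340) F162039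
theorem F396759 : act 1 n195340 = n112786 := d15_1 F396758 (iv7 F396749) (iv2 F396751)
def n195341 : Q := act 4 n105531
theorem D195341 : act 4 n105531 = n195341 := rfl
theorem F396760 : act 2 n195341 = n112780 := d1_1 D195341 (iv4 D112780) (iv2 F202477)
theorem F396761 : act 6 n195341 = n144729 := d10_2 (iv6 F162042) D195341 (iv4 D144729)
theorem F396762 : act 7 n195341 = n112784 := d11_2 (iv7 F202478) D195341 (iv4 D112784)
theorem F396763 : act 0 n105536 = n195341 := d20_7 (iv4 F336697) F336694 (iv4 D65940) (iv3 F168261) (iv1 D50279) (iv3 F78237) (iv4 F162060) (iv4 D195341) (iv3 F180076) (iv1 F168658)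
def n195342 : Q := act 4 n105532
theorem D195342 : act 4 n105532 = n195342 := rfl
theorem F396764 : act 2 n195342 = n112784 := d1_1 D195342 (iv4 D112784) (iv2 F202468)
theorem F396765 : act 6 n195342 = n137804 := d10_2 (iv6 F162046) D195342 F347234
theorem F396766 : act 7 n195342 = n112780 := d11_2 (iv7 F202469) D195342 (iv4 D112780)
theorem F396767 : act 0 n195342 = n105536 := d18_2 (iv1 F162044) D195342 F162060 F78238 (iv4 F79629) (iv0 F80451) F80450 F39870 (iv5 F82274)
def n195343 : Q := act 0 n105534
theorem D195343 : act 0 n105534 = n195343 := rfl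
theorem F396768 : act 5 n195343 = n143055 := d19_1 D195343 (iv4 D143055) (iv3 F340745) (iv1 F231206) (iv5 F250378) (iv4 F340718) (iv3 D110647) F80484 F79917 (iv4 F38732) F38729 (iv1 F22247) F22246 F19855 (iv3 F23959) (iv1 F37869) (iv5 F37867) (iv4 F76859) D105534
theorem F396769 : act 1 n139396 = n195343 := d15_0 (iv0 D195343) F162055 D139396
theorem F396770 : act 7 n139394 = n195343 := d13_0 F396768 (iv7 F363485) (iv5 F340719)
def n195344 : Q := act 1 n105534
theorem D195344 : act 1 n105534 = n195344 := rfl
theorem F396771 : act 4 n139460 = n195344 := d20_6 (iv4 D24877) F24577 F24576 D30688 D65451 D139460 (iv1 D195344) F162054 (iv3 D50282) (iv1 F39008)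
theorem F396772 : act 2 n195344 = n139394 := d1_1 F396771 F364961 F362376
theorem F396773 : act 6 n195344 = n192413 := d10_2 (iv6 F362381) F396771 (iv4 D192413)
theorem F396774 : act 5 n195344 = n143050 := d16_5 F86799 D54857 D119211 F362383 F396771 (iv4 D143050) F340738 (iv7 F310543) F187349
theorem F396775 : act 0 n139396 = n195344 := d20_1 (iv4 F222606) (iv4 F396771) (iv3 D139460) (iv1 F180525) F180522 (iv4 F218687) (iv1 F218694) D136874 (iv3 F220060) (iv1 F168901)
theorem F396776 : act 7 n139395 = n195344 := d15_2 (iv0 D139394) D139395 F396772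
theorem F396777 : act 2 n139395 = n195343 := d4_3 (iv7 F396770) (iv2 F396772) (iv7 F396776)
def n195345 : Q := act 2 n105534
theorem D195345 : act 2 n105534 = n195345 := rfl
theorem F396778 : act 3 n195345 = n144115 := d0_2 D105534 D195345 F226826 F103416 F79793
theorem F396779 : act 4 n195345 = n108901 := d1_2 (iv4 F162054) D195345 (iv2 D108901)
theorem F396780 : act 7 n195345 = n139396 := d4_2 (iv7 F162055) D195345 (iv2 D139396)
theorem F396781 : act 1 n195345 = n139394 := d15_0 (iv0 D139394) (iv7 F162055) D195345
theorem F396782 : act 1 n139395 = n195345 := d15_0 F396781 F396770 (iv2 F396777)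
theorem F396783 : act 5 n145066 = n195345 := d17_5 (iv1 F320119) (iv5 F317980) D31643 D67998 D145066 F396781 F340719 (iv0 F336185) F336187
theorem F396784 : act 0 n139319 = n184259 := d20_10 (iv4 F364961) (iv1 F396781) F396779 F168902 (iv1 F180497) F357516 (iv4 F388224) (iv1 F388226) (iv4 D139320) D139319
def n195346 : Q := act 5 n105534
theorem D195346 : act 5 n105534 = n195346 := rfl
theorem F396785 : act 2 n195346 = n145066 := d2_1 D195346 F396783 (iv2 D195345)
theorem F396786 : act 3 n195346 = n105535 := d6_1 D195346 (iv5 D105535) D105534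
theorem F396787 : act 7 n195346 = n139397 := d13_2 (iv7 F162055) D195346 (iv5 D139397)
theorem F396788 : act 4 n195346 = n132514 := d16_2 (iv4 F162054) D195346 F316355 F319720 D119207 (iv4 F357970) (iv5 D139410) (iv7 F168903) (iv2 D108901)
theorem F396789 : act 6 n139848 = n195346 := d10_0 F396788 F333642 D139848
def n195347 : Q := act 6 n105534
theorem D195347 : act 6 n105534 = n195347 := rfl
theorem F396790 : act 3 n195347 = n105536 := d7_1 D195347 (iv6 D105536) D105534
theorem F396791 : act 4 n195347 = n108896 := d10_1 D195347 F168891 (iv4 F162054)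
def n195348 : Q := act 6 n105535
theorem D195348 : act 6 n105535 = n195348 := rfl
theorem F396792 : act 3 n195348 = n139848 := d7_1 D195348 F396789 F396786
theorem F396793 : act 4 n195348 = n109727 := d10_1 D195348 (iv6 D109727) (iv4 F162057)
def n195349 : Q := act 5 n105536
theorem D195349 : act 5 n105536 = n195349 := rfl
theorem F396794 : act 1 n195349 = n108099 := d17_6 (iv1 D74257) F79631 (iv1 D50255) (iv5 F78238) (iv4 F162060) D195349 (iv5 D108099) D108098 F171181
def n195350 : Q := act 7 n105536
theorem D195350 : act 7 n105536 = n195350 := rfl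
theorem F396795 : act 4 n195350 = n107124 := d11_1 D195350 (iv7 D107124) (iv4 F162060)
theorem F396796 : act 6 n195350 = n139402 := d14_1 D195350 (iv7 D139402) (iv6 D65428) F76861 D105536
theorem F396797 : act 1 n112784 = n195350 := d15_1 (iv0 F175584) (iv7 D195350) (iv2 F169261)
theorem F396798 : act 1 n195350 = n112780 := d15_1 F396797 (iv7 F396766) F396764
def n195351 : Q := act 1 n105537
theorem D195351 : act 1 n105537 = n195351 := rfl
def n195352 : Q := act 2 n105537
theorem D195352 : act 2 n105537 = n195352 := rfl
theorem F396799 : act 3 n195352 = n139396 := d0_2 D105537 D195352 (iv2 D139396) (iv3 D65426) F76864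
theorem F396800 : act 4 n195352 = n116992 := d1_2 (iv4 F162061) D195352 (iv2 D116992)
theorem F396801 : act 7 n195352 = n144115 := d4_2 (iv7 F162062) D195352 F226826
theorem F396802 : act 1 n195352 = n144118 := d15_0 (iv0 D144118) (iv7 F162062) D195352
theorem F396803 : act 1 n195351 = n144115 := d15_1 D195351 (iv7 F396801) (iv2 D195352)
theorem F396804 : act 2 n144118 = n195351 := d15_3 F396803 F226827 F226831
theorem F396805 : act 7 n144119 = n195351 := d15_2 (iv0 D144118) D144119 (iv2 F396804)
theorem F396806 : act 2 n139806 = n144119 := d4_3 F396805 (iv2 F396804) (iv7 F226831)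
theorem F396807 : act 1 n144119 = n195352 := d15_0 F396802 (iv7 F226831) F396806
def n195353 : Q := act 5 n105537
theorem D195353 : act 5 n105537 = n195353 := rfl
theorem F396808 : act 3 n195353 = n105538 := d6_1 D195353 (iv5 D105538) D105537
theorem F396809 : act 7 n195353 = n144120 := d13_2 (iv7 F162062) D195353 (iv5 D144120)
def n195354 : Q := act 6 n105537
theorem D195354 : act 6 n105537 = n195354 := rfl
theorem F396810 : act 3 n195354 = n105539 := d7_1 D195354 (iv6 D105539) D105537
theorem F396811 : act 4 n195354 = n116994 := d10_1 D195354 (iv6 D116994) (iv4 F162061)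
def n195355 : Q := act 6 n105538
theorem D195355 : act 6 n105538 = n195355 := rfl
theorem F396812 : act 2 n195355 = n139399 := d3_1 D195355 (iv6 D139399) (iv2 F162063)
theorem F396813 : act 4 n195355 = n109729 := d10_1 D195355 (iv6 D109729) (iv4 F162064)
def n195356 : Q := act 5 n105539
theorem D195356 : act 5 n105539 = n195356 := rfl
theorem F396814 : act 2 n195356 = n139401 := d2_1 D195356 (iv5 D139401) (iv2 F162067)
def n195357 : Q := act 3 n105540
theorem D195357 : act 3 n105540 = n195357 := rfl
theorem F396815 : act 7 n195357 = n115343 := d8_2 F396607 D195357 (iv3 F396604)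
theorem F396816 : act 4 n195357 = n115232 := d20_6 (iv4 D14817) (iv1 F37069) D23798 D48796 D105540 D195357 (iv1 D115232) (iv4 F103702) (iv3 D67674) (iv1 D31431)
theorem F396817 : act 2 n115338 = n195357 := d1_3 F396816 F203962 D115338
theorem F396818 : act 0 n144452 = n195357 := d20_10 F396816 (iv1 D115232) (iv4 F103702) (iv3 D67674) (iv1 D31431) D31432 F49726 D31438 D67691 D144452
def n195358 : Q := act 6 n105540
theorem D195358 : act 6 n105540 = n195358 := rfl
def n195359 : Q := act 3 n105541
theorem D195359 : act 3 n105541 = n195359 := rfl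
def n195360 : Q := act 6 n105541
theorem D195360 : act 6 n105541 = n195360 := rfl
def n195361 : Q := act 6 n105542
theorem D195361 : act 6 n105542 = n195361 := rfl
theorem F396819 : act 2 n195361 = n105544 := d3_1 D195361 (iv6 D105544) D105542
def n195362 : Q := act 0 n105544
theorem D195362 : act 0 n105544 = n195362 := rfl
def n195363 : Q := act 1 n105544
theorem D195363 : act 1 n105544 = n195363 := rfl
def n195364 : Q := act 5 n105544
theorem D195364 : act 5 n105544 = n195364 := rfl
theorem F396820 : act 3 n195364 = n105549 := d6_1 D195364 (iv5 D105549) (iv3 F162073)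
def n195365 : Q := act 7 n105544
theorem D195365 : act 7 n105544 = n195365 := rfl
theorem F396821 : act 3 n195365 = n105550 := d8_1 D195365 (iv7 D105550) (iv3 F162073)
theorem F396822 : act 4 n195365 = n137008 := d11_1 D195365 F396716 F396714
theorem F396823 : act 6 n195365 = n145640 := d14_1 D195365 F396610 (iv6 D195294) F161960 D105544
def n195366 : Q := act 3 n105545
theorem D195366 : act 3 n105545 = n195366 := rfl
theorem F396824 : act 5 n195366 = n105571 := d6_2 (iv5 F162074) D195366 (iv3 D105571)
theorem F396825 : act 7 n195366 = n133994 := d8_2 (iv7 F162077) D195366 F215918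
theorem F396826 : act 4 n195366 = n116197 := d20_6 (iv4 F77648) D106411 F360490 F162072 D105545 D195366 (iv1 D116197) D116199 F181083 F162197
theorem F396827 : act 0 n195366 = n143055 := d20_10 (iv4 D143055) (iv1 D67042) (iv4 F103025) (iv3 F225899) (iv1 F349446) (iv3 D112020) (iv4 D51662) D51660 (iv4 F162075) D195366
theorem F396828 : act 2 n141626 = n195366 := d1_3 F396826 F317978 D141626
theorem F396829 : act 6 n118236 = n195366 := d10_0 F396826 F315682 D118236
theorem F396830 : act 1 n195366 = n143050 := d15_0 (iv0 F363487) F366424 F396828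
def n195367 : Q := act 6 n105545
theorem D195367 : act 6 n105545 = n195367 := rfl
theorem F396831 : act 3 n195367 = n118236 := d7_1 D195367 F396829 (iv3 D195366)
theorem F396832 : act 4 n195367 = n112017 := d10_1 D195367 (iv6 D112017) (iv4 F162075)
def n195368 : Q := act 1 n105546
theorem D195368 : act 1 n105546 = n195368 := rfl
theorem F396833 : act 1 n195368 = n150042 := d15_1 D195368 (iv7 F392830) F392828
theorem F396834 : act 7 n195368 = n150044 := d15_2 (iv0 F360495) D195368 (iv2 D150044)
theorem F396835 : act 4 n112023 = n195368 := d20_0 (iv1 D195368) (iv4 F202139) (iv3 F360494) (iv1 D110994) F295629 D92939 (iv1 F159294) (iv4 D103873) D103872 (iv1 F358520)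
theorem F396836 : act 2 n195368 = n118252 := d1_1 F396835 (iv4 F244736) F358514
def n195369 : Q := act 5 n105546
theorem D195369 : act 5 n105546 = n195369 := rfl
theorem F396837 : act 6 n195369 = n105549 := d12_2 D105546 D195369 (iv5 D105549) (iv6 D48798) D48797
def n195370 : Q := act 5 n105547
theorem D195370 : act 5 n105547 = n195370 := rfl
theorem F396838 : act 7 n195370 = n139597 := d13_2 F162079 D195370 (iv5 D139597)
theorem F396839 : act 0 n195370 = n108115 := d17_2 D105547 D195370 (iv5 D108115) F78978 (iv5 F45647) F111385 (iv5 F111389) (iv0 D48799) (iv4 F76865)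
def n195371 : Q := act 5 n105548
theorem D195371 : act 5 n105548 = n195371 := rfl
theorem F396840 : act 2 n195371 = n139597 := d2_1 D195371 (iv5 D139597) (iv2 F162082)
theorem F396841 : act 1 n195371 = n108115 := d17_6 (iv1 D64304) (iv5 D30288) D30286 F84019 F162081 D195371 (iv5 D108115) D108114 F167196
theorem F396842 : act 6 n118272 = n195371 := d3_0 F396840 (iv6 F351853) (iv2 F228101)
def n195372 : Q := act 6 n105548
theorem D195372 : act 6 n105548 = n195372 := rfl
theorem F396843 : act 2 n195372 = n139598 := d3_1 D195372 (iv6 D139598) (iv2 F162082)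
theorem F396844 : act 4 n195372 = n115298 := d10_1 D195372 (iv6 D115298) F162081
theorem F396845 : act 5 n195372 = n118273 := d12_1 D195372 (iv6 D118273) D118272 F396842 (iv5 D195371)
theorem F396846 : act 0 n195372 = n144728 := d21_4 D108115 (iv1 F396841) (iv5 D195371) D195372 F227573 (iv5 F396603) (iv1 F396606) (iv5 F360491) F167197 (iv1 D108114)
theorem F396847 : act 0 n144729 = n195372 := d17_0 F396845 F233205 (iv5 F351838) (iv4 D108159) D108160 (iv0 F167254) (iv5 D67824) D67823 D144729
def n195373 : Q := act 0 n105549
theorem D195373 : act 0 n105549 = n195373 := rfl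
theorem F396848 : act 5 n195373 = n126764 := d17_3 (iv1 D105548) D105549 D195373 F203989 (iv5 F167741) (iv0 D108503) F79314 D53193 F162081
theorem F396849 : act 1 n144709 = n195373 := d17_6 D59482 (iv5 F162094) (iv1 F162101) F111397 D67812 D144709 F396848 (iv0 D126764) (iv4 D59484)
def n195374 : Q := act 1 n105549
theorem D195374 : act 1 n105549 = n195374 := rfl
theorem F396850 : act 1 n195374 = n144709 := d15_1 D195374 (iv7 F396602) F396601
theorem F396851 : act 5 n195374 = n126765 := d17_7 F321599 F319603 (iv1 F162016) (iv5 D48801) (iv4 F76865) D105549 D195374 F203993 F167198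
theorem F396852 : act 3 n195369 = n195374 := d6_3 F396851 (iv3 F360493) D195369
theorem F396853 : act 6 n195364 = n195374 := d12_0 F396851 F360492 (iv5 D105543) D105544 D195364
def n195375 : Q := act 4 n105549
theorem D195375 : act 4 n105549 = n195375 := rfl
theorem F396854 : act 5 n195375 = n155790 := d16_1 D195375 (iv4 F328604) F354577 F166328 F111397 D67812 D144709 (iv7 F396602) F396601
theorem F396855 : act 3 n194326 = n195375 := d6_3 F396854 F365605 D194326
def n195376 : Q := act 7 n105549
theorem D195376 : act 7 n105549 = n195376 := rfl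
theorem F396856 : act 2 n195376 = n144709 := d4_1 D195376 (iv7 F396602) F396601
theorem F396857 : act 5 n195376 = n105550 := d13_1 D195376 (iv7 D105550) D105549
def n195377 : Q := act 3 n105551
theorem D195377 : act 3 n105551 = n195377 := rfl
theorem F396858 : act 2 n195377 = n118185 := d0_1 D195377 (iv3 D118185) F85992 (iv3 F320620) (iv2 F162090)
theorem F396859 : act 4 n195377 = n120093 := d5_2 D105551 D195377 F324657 (iv4 D59475) (iv3 F111388)
theorem F396860 : act 7 n195377 = n144710 := d8_2 (iv7 F162091) D195377 (iv3 D144710)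
theorem F396861 : act 0 n195377 = n155888 := d20_4 F76865 D48799 D105551 D195377 F365262 (iv4 D103253) (iv1 F331237) D194319 F392814 (iv1 D105548)
theorem F396862 : act 0 n126758 = n195377 := d18_2 (iv1 D126757) D126758 F396859 F189698 (iv4 F319215) (iv0 D105552) D105553 F362008 F346514
def n195378 : Q := act 5 n105551
theorem D195378 : act 5 n105551 = n195378 := rfl
theorem F396863 : act 2 n195378 = n116901 := d2_1 D195378 (iv5 D116901) (iv2 F162090)
theorem F396864 : act 7 n195378 = n144711 := d13_2 (iv7 F162091) D195378 (iv5 D144711)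
theorem F396865 : act 4 n195378 = n155791 := d16_2 D105551 D195378 (iv5 D155791) (iv4 D74110) F323252 (iv4 D31483) (iv5 F24494) (iv7 F49815) (iv2 F111387)
theorem F396866 : act 0 n195378 = n108127 := d17_2 (iv1 F162092) D195378 (iv5 D108127) F78982 (iv5 D30272) D30271 (iv5 F79802) (iv0 D50428) (iv4 F79801)
theorem F396867 : act 1 n195378 = n144720 := d17_6 F101917 F93881 (iv1 F111380) (iv5 F111389) D105551 D195378 F227560 F219996 (iv4 D67834)
def n195379 : Q := act 0 n105553
theorem D195379 : act 0 n105553 = n195379 := rfl
theorem F396868 : act 5 n195379 = n126756 := d17_1 D195379 (iv1 F362007) F294115 (iv4 F329499) F101932 F93883 (iv5 F162094) (iv0 D105552) D105553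
theorem F396869 : act 4 n195379 = n108503 := d18_3 (iv1 F162016) D105553 D195379 F167741 (iv4 F203989) (iv0 D126764) (iv4 D59484) F321598 F319603
theorem F396870 : act 3 n195379 = n154763 := d20_5 (iv4 F347896) F347956 (iv4 F245472) F245471 D195379 (iv4 D154763) (iv1 F231735) F231733 (iv3 F110849) (iv1 F110851)
theorem F396871 : act 2 n107694 = n195379 := d15_3 (iv0 D195379) F362008 F346511
theorem F396872 : act 7 n195379 = n107695 := d4_2 F346511 F396871 (iv2 F346513)
theorem F396873 : act 1 n107697 = n195379 := d15_1 (iv0 F346516) F396872 (iv2 F346513)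
def n195380 : Q := act 5 n105553
theorem D195380 : act 5 n105553 = n195380 := rfl
theorem F396874 : act 2 n195380 = n107696 := d2_1 D195380 (iv5 D107696) (iv2 F162116)
theorem F396875 : act 3 n195380 = n194352 := d6_1 D195380 F392905 F245471
theorem F396876 : act 7 n195380 = n194332 := d16_8 F328604 (iv5 F396854) (iv4 D195375) (iv5 D105549) F76865 D48801 D105553 D195380 (iv2 D194332)
theorem F396877 : act 0 n195380 = n136774 := d17_2 (iv1 F362008) D195380 (iv5 D136774) (iv4 D64301) (iv5 F84017) (iv0 D53192) (iv5 F79314) (iv0 F164924) F346505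
theorem F396878 : act 1 n195380 = n136772 := d17_6 F111384 (iv5 F24494) (iv1 F111391) D48801 D105553 D195380 (iv5 D136772) F111419 F93756
theorem F396879 : act 4 n195380 = n155789 := d18_5 (iv1 D74117) F319662 (iv1 F162016) D105553 D195380 (iv0 D155789) (iv4 D74110) D74108 (iv5 F324692)
theorem F396880 : act 5 n188656 = n192513 := d19_17 F396877 (iv5 D136774) (iv4 D64301) (iv3 F111299) (iv1 D25870) (iv5 F26185) (iv4 F53736) F317407 F53324 F329203 (iv4 F73279) (iv3 D43320) (iv1 D20453) D20454 D43324 D92613 D188656 (iv4 F392904) (iv3 F396875)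
def n195381 : Q := act 7 n105553
theorem D195381 : act 7 n105553 = n195381 := rfl
theorem F396881 : act 2 n195381 = n107697 := d4_1 D195381 (iv7 D107697) (iv2 F162116)
theorem F396882 : act 4 n195381 = n105554 := d11_1 D195381 (iv7 D105554) D105553
theorem F396883 : act 5 n195381 = n194332 := d13_1 D195381 (iv7 F396876) (iv5 D195380)
theorem F396884 : act 6 n195381 = n107680 := d14_1 D195381 (iv7 D107680) (iv6 D49745) (iv7 F76869) (iv6 F162117)
theorem F396885 : act 1 n107695 = n195381 := d15_1 D107695 (iv7 D195381) F162116
theorem F396886 : act 1 n195381 = n107694 := d15_1 F396885 (iv7 F346511) F346513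
theorem F396887 : act 0 n127078 = n126755 := d21_4 (iv5 D147685) (iv1 D69209) D69210 (iv6 F332108) (iv6 D126755) D126754 (iv1 F392855) (iv5 F396883) F396884 (iv1 F344149)
def n195382 : Q := act 0 n105556
theorem D195382 : act 0 n105556 = n195382 := rfl
theorem F396888 : act 3 n195382 = n139320 := d20_5 (iv4 F24442) (iv1 F38391) D48804 D105556 D195382 (iv4 D139320) (iv1 D65392) (iv4 F78075) (iv3 D49376) (iv1 F37747)
theorem F396889 : act 1 n108711 = n195382 := d15_0 (iv0 D195382) F162127 D108711
def n195383 : Q := act 1 n105556
theorem D195383 : act 1 n105556 = n195383 := rfl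
def n195384 : Q := act 2 n105556
theorem D195384 : act 2 n105556 = n195384 := rfl
theorem F396890 : act 3 n195384 = n108844 := d0_2 D105556 D195384 (iv2 D108844) (iv3 D50259) (iv2 F76871)
theorem F396891 : act 4 n195384 = n105561 := d1_2 (iv4 F162126) D195384 (iv2 D105561)
theorem F396892 : act 7 n195384 = n108711 := d4_2 (iv7 F162127) D195384 (iv2 D108711)
theorem F396893 : act 1 n195384 = n108709 := d15_0 (iv0 D108709) (iv7 F162127) D195384
theorem F396894 : act 1 n195383 = n108711 := d15_1 D195383 (iv7 F396892) (iv2 D195384)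
theorem F396895 : act 1 n108710 = n195384 := d15_1 D108710 F396892 (iv2 D108711)
def n195385 : Q := act 6 n105556
theorem D195385 : act 6 n105556 = n195385 := rfl
theorem F396896 : act 3 n195385 = n105557 := d7_1 D195385 (iv6 D105557) D105556
theorem F396897 : act 4 n195385 = n105563 := d10_1 D195385 (iv6 D105563) (iv4 F162126)
theorem F396898 : act 7 n195385 = n140662 := d14_2 (iv7 F162127) D195385 (iv6 F388256) F388257 (iv6 D108712)
theorem F396899 : act 0 n195385 = n192379 := d20_4 (iv4 F93314) F93311 (iv4 F162129) (iv3 F396896) (iv3 D192379) (iv4 D100131) (iv1 D46738) D46739 (iv3 F329675) (iv1 F101559)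
def n195386 : Q := act 5 n105557
theorem D195386 : act 5 n105557 = n195386 := rfl
theorem F396900 : act 2 n195386 = n108846 := d2_1 D195386 (iv5 D108846) (iv2 F162128)
theorem F396901 : act 7 n195386 = n140663 := d13_2 F162132 D195386 (iv5 D140663)
theorem F396902 : act 0 n141991 = n195386 := d19_0 (iv5 D195386) F162129 F76876 F50061 (iv5 F45303) F325123 (iv3 D17321) D17319 D35735 F311367 (iv3 F315120) (iv1 F167368) (iv5 F357022) F339023 (iv3 D100115) (iv1 F155452) D82932 D173292 (iv3 F348945)
def n195387 : Q := act 5 n105559
theorem D195387 : act 5 n105559 = n195387 := rfl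
def n195388 : Q := act 6 n105559
theorem D195388 : act 6 n105559 = n195388 := rfl
theorem F396903 : act 2 n195388 = n193929 := d3_1 D195388 (iv6 F391427) F223684
theorem F396904 : act 4 n195388 = n194855 := d10_1 D195388 (iv6 F394762) (iv4 F223685)
theorem F396905 : act 5 n193923 = n195388 := d16_1 D193923 F396904 (iv5 D194855) (iv4 D104648) (iv5 F138103) F138102 (iv5 F153699) F153700 D102484
def n195389 : Q := act 5 n105560
theorem D195389 : act 5 n105560 = n195389 := rfl
def n195390 : Q := act 6 n105560
theorem D195390 : act 6 n105560 = n195390 := rfl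
def n195391 : Q := act 6 n105561
theorem D195391 : act 6 n105561 = n195391 := rfl
theorem F396906 : act 2 n195391 = n105563 := d3_1 D195391 (iv6 D105563) D105561
def n195392 : Q := act 0 n105562
theorem D195392 : act 0 n105562 = n195392 := rfl
def n195393 : Q := act 1 n105562
theorem D195393 : act 1 n105562 = n195393 := rfl
def n195394 : Q := act 6 n105562
theorem D195394 : act 6 n105562 = n195394 := rfl
theorem F396907 : act 3 n195394 = n105564 := d7_1 D195394 (iv6 D105564) (iv3 F162140)
def n195395 : Q := act 0 n105563
theorem D195395 : act 0 n105563 = n195395 := rfl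
def n195396 : Q := act 1 n105563
theorem D195396 : act 1 n105563 = n195396 := rfl
def n195397 : Q := act 5 n105563
theorem D195397 : act 5 n105563 = n195397 := rfl
theorem F396908 : act 3 n195397 = n105567 := d6_1 D195397 (iv5 D105567) (iv3 F162141)
def n195398 : Q := act 7 n105563
theorem D195398 : act 7 n105563 = n195398 := rfl
theorem F396909 : act 3 n195398 = n105568 := d8_1 D195398 (iv7 D105568) (iv3 F162141)
theorem F396910 : act 4 n195398 = n140662 := d11_1 D195398 (iv7 F396898) F396897
theorem F396911 : act 6 n195398 = n144708 := d14_1 D195398 F396600 (iv6 D195291) F161951 D105563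
def n195399 : Q := act 0 n105564
theorem D195399 : act 0 n105564 = n195399 := rfl
def n195400 : Q := act 1 n105564
theorem D195400 : act 1 n105564 = n195400 := rfl
def n195401 : Q := act 5 n105564
theorem D195401 : act 5 n105564 = n195401 := rfl
theorem F396912 : act 6 n195401 = n105567 := d12_2 D105564 D195401 (iv5 D105567) (iv6 D48808) D48807
def n195402 : Q := act 7 n105564
theorem D195402 : act 7 n105564 = n195402 := rfl
theorem F396913 : act 6 n195402 = n150042 := d14_1 D195402 (iv7 F392830) F392829 F161953 D105564
def n195403 : Q := act 5 n105565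
theorem D195403 : act 5 n105565 = n195403 := rfl
theorem F396914 : act 6 n195403 = n137810 := d12_2 (iv6 F344620) D195403 (iv5 D137810) (iv6 D64766) D64765
def n195404 : Q := act 5 n105566
theorem D195404 : act 5 n105566 = n195404 := rfl
def n195405 : Q := act 0 n105567
theorem D195405 : act 0 n105567 = n195405 := rfl
def n195406 : Q := act 1 n105567
theorem D195406 : act 1 n105567 = n195406 := rfl
theorem F396915 : act 1 n195406 = n145641 := d15_1 D195406 (iv7 F396619) F396618
def n195407 : Q := act 4 n105567
theorem D195407 : act 4 n105567 = n195407 := rfl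
def n195408 : Q := act 7 n105567
theorem D195408 : act 7 n105567 = n195408 := rfl
theorem F396916 : act 2 n195408 = n145641 := d4_1 D195408 (iv7 F396619) F396618
theorem F396917 : act 5 n195408 = n105568 := d13_1 D195408 (iv7 D105568) D105567
theorem F396918 : act 1 n145641 = n195405 := d15_0 (iv0 D195405) D195408 F396916
def n195409 : Q := act 3 n105569
theorem D195409 : act 3 n105569 = n195409 := rfl
theorem F396919 : act 2 n195409 = n157665 := d0_1 D195409 F324089 F318699 F101763 (iv2 F162156)
theorem F396920 : act 4 n195409 = n126815 := d5_2 D105569 D195409 (iv3 D126815) (iv4 D59510) (iv3 F76881)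
theorem F396921 : act 6 n195409 = n156035 := d7_2 (iv6 F162157) D195409 (iv3 D156035)
theorem F396922 : act 7 n195409 = n145642 := d8_2 (iv7 F162158) D195409 (iv3 D145642)
def n195410 : Q := act 5 n105569
theorem D195410 : act 5 n105569 = n195410 := rfl
theorem F396923 : act 2 n195410 = n117098 := d2_1 D195410 (iv5 D117098) (iv2 F162156)
theorem F396924 : act 7 n195410 = n145643 := d13_2 (iv7 F162158) D195410 (iv5 D145643)
theorem F396925 : act 4 n195410 = n163187 := d16_2 D105569 D195410 (iv5 D163187) (iv4 D78438) (iv5 D35742) (iv4 F325123) F45303 (iv7 F41278) (iv2 F76880)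
theorem F396926 : act 1 n145653 = n195410 := d15_1 D145653 F396924 F228657
theorem F396927 : act 1 n195410 = n145652 := d15_0 (iv0 D145652) (iv7 F183139) (iv2 F396923)
def n195411 : Q := act 0 n105571
theorem D195411 : act 0 n105571 = n195411 := rfl
theorem F396928 : act 3 n195411 = n126665 := d20_5 (iv4 D25820) (iv1 F37891) (iv4 F76891) D105571 D195411 (iv4 D126665) (iv1 D59429) (iv4 F76823) (iv3 D48783) (iv1 F40809)
theorem F396929 : act 1 n133993 = n195411 := d15_0 (iv0 D195411) F162169 D133993
def n195412 : Q := act 1 n105571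
theorem D195412 : act 1 n105571 = n195412 := rfl
theorem F396930 : act 4 n110889 = n195412 := d20_6 (iv4 D24883) (iv1 D11800) D11801 D24886 D51134 D110889 (iv1 D195412) F162168 (iv3 D53448) F40905
theorem F396931 : act 0 n133993 = n195412 := d20_1 (iv4 F215916) (iv4 F396930) (iv3 D110889) D110887 F171799 (iv4 F218884) (iv1 F218887) D137341 (iv3 F220533) (iv1 F180473)
def n195413 : Q := act 2 n105571
theorem D195413 : act 2 n105571 = n195413 := rfl
theorem F396932 : act 4 n195413 = n115920 := d1_2 (iv4 F162168) D195413 (iv2 D115920)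
theorem F396933 : act 5 n195413 = n141626 := d2_2 F396824 D195413 F396828
theorem F396934 : act 7 n195413 = n133993 := d4_2 (iv7 F162169) D195413 (iv2 D133993)
theorem F396935 : act 1 n195413 = n133991 := d15_0 (iv0 D133991) (iv7 F162169) D195413
theorem F396936 : act 1 n133992 = n195413 := d15_1 D133992 F396934 (iv2 D133993)
def n195414 : Q := act 6 n105571
theorem D195414 : act 6 n105571 = n195414 := rfl
theorem F396937 : act 3 n195414 = n105572 := d7_1 D195414 (iv6 D105572) D105571
theorem F396938 : act 4 n195414 = n115922 := d10_1 D195414 (iv6 D115922) (iv4 F162168)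
def n195415 : Q := act 5 n105572
theorem D195415 : act 5 n105572 = n195415 := rfl
theorem F396939 : act 1 n195415 = n145669 := d17_8 D145667 (iv5 F318637) (iv1 D145668) (iv5 D68282) (iv4 F104427) (iv5 F351842) (iv0 F168295) D195415 (iv4 D145669)
theorem F396940 : act 0 n195415 = n179926 := d18_0 (iv4 D179926) (iv1 F318636) (iv4 F396705) (iv5 D108157) F79005 D49956 D108164 (iv0 F168295) D195415
def n195416 : Q := act 3 n105573
theorem D195416 : act 3 n105573 = n195416 := rfl
theorem F396941 : act 7 n195416 = n115456 := d8_2 F218968 D195416 F179761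
theorem F396942 : act 4 n195416 = n115240 := d20_6 (iv4 D11162) D11160 D23806 D48813 D105573 D195416 (iv1 D115240) F83970 (iv3 D48830) (iv1 D23812)
theorem F396943 : act 0 n105691 = n195416 := d20_4 F37129 D23825 D48863 D105691 (iv3 D195416) (iv4 F220536) (iv1 F220539) (iv4 F162230) (iv3 D105630) (iv1 D48834)
theorem F396944 : act 2 n115451 = n195416 := d1_3 F396942 F218822 D115451
def n195417 : Q := act 6 n105573
theorem D195417 : act 6 n105573 = n195417 := rfl
theorem F396945 : act 2 n195417 = n137803 := d3_1 D195417 (iv6 D137803) F218965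
theorem F396946 : act 5 n195417 = n164527 := d12_1 D195417 (iv6 F274072) (iv5 F396660) F396661 F344611
theorem F396947 : act 0 n138221 = n195417 := d17_2 F389778 (iv5 F351837) F396946 (iv4 D164527) (iv5 D79013) D79012 D164523 (iv0 F316745) D193413
def n195418 : Q := act 3 n105574
theorem D195418 : act 3 n105574 = n195418 := rfl
theorem F396948 : act 5 n195418 = n195301 := d6_2 F344609 D195418 F396631
theorem F396949 : act 7 n195418 = n137801 := d8_2 (iv7 F218964) D195418 (iv3 D137801)
theorem F396950 : act 0 n195418 = n126660 := d20_10 (iv4 D126660) D126658 (iv4 F224386) (iv3 D141350) F102214 D105630 F162230 F218962 F218961 D195418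
def n195419 : Q := act 6 n105575
theorem D195419 : act 6 n105575 = n195419 := rfl
theorem F396951 : act 2 n195419 = n105577 := d3_1 D195419 (iv6 D105577) D105575
theorem F396952 : act 4 n195419 = n136100 := d10_1 D195419 (iv6 D136100) (iv4 F162172)
def n195420 : Q := act 0 n105577
theorem D195420 : act 0 n105577 = n195420 := rfl
def n195421 : Q := act 1 n105577
theorem D195421 : act 1 n105577 = n195421 := rfl
theorem F396953 : act 5 n195421 = n139801 := d18_9 F222997 (iv4 D115343) (iv1 D53211) (iv4 F84014) (iv5 F174125) (iv4 F349489) F349488 (iv4 F162180) D195421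
theorem F396954 : act 0 n115338 = n139801 := d17_0 (iv5 F396953) (iv1 D195421) F344610 (iv4 D115456) (iv5 F360856) F360855 (iv5 F341180) F179452 D115338
theorem F396955 : act 3 n139802 = n195421 := d6_3 F396953 (iv3 D139801) D139802
def n195422 : Q := act 7 n105577
theorem D195422 : act 7 n105577 = n195422 := rfl
theorem F396956 : act 3 n195422 = n105583 := d8_1 D195422 (iv7 D105583) (iv3 F162179)
theorem F396957 : act 4 n195422 = n117440 := d11_1 D195422 F328424 (iv4 F162180)
theorem F396958 : act 5 n195422 = n195416 := d13_1 D195422 F396941 (iv5 F344610)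
theorem F396959 : act 6 n195422 = n137811 := d14_1 D195422 (iv7 D137811) (iv6 D64766) (iv7 F76895) D105577
def n195423 : Q := act 6 n105578
theorem D195423 : act 6 n105578 = n195423 := rfl
theorem F396960 : act 2 n195423 = n195348 := d3_1 D195423 (iv6 D195348) F162185
theorem F396961 : act 4 n195423 = n109320 := d10_1 D195423 (iv6 D109320) (iv4 F162184)
theorem F396962 : act 0 n195423 = n144121 := d21_4 (iv5 D105497) (iv1 F79796) (iv5 F162183) D195423 (iv6 D144121) D144120 F336197 (iv5 F215920) (iv6 D133995) (iv1 F161955)
def n195424 : Q := act 0 n105579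
theorem D195424 : act 0 n105579 = n195424 := rfl
theorem F396963 : act 5 n195424 = n108061 := d17_3 D126769 (iv5 F344606) D195424 (iv4 F386253) (iv5 F393990) (iv0 F393992) (iv5 D136574) (iv0 D64203) (iv4 F93890)
theorem F396964 : act 4 n195424 = n112253 := d20_2 (iv4 F344605) D195424 F390583 (iv1 D124995) (iv3 F316691) (iv4 F319064) D125003 (iv4 F379497) F379500 (iv1 D133346)
theorem F396965 : act 3 n195424 = n125170 := d20_5 (iv4 D34048) F47505 D62583 (iv3 F344604) D195424 (iv4 D125170) (iv1 F311549) D74368 F111594 F78942
theorem F396966 : act 2 n108062 = n195424 := d0_5 F396965 F201207 (iv3 F317335) F166942 (iv3 F167075)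
theorem F396967 : act 7 n179897 = n195424 := d8_0 F396965 F201208 D179897
def n195425 : Q := act 1 n105579
theorem D195425 : act 1 n105579 = n195425 := rfl
theorem F396968 : act 7 n195425 = n108062 := d15_2 (iv0 D195424) D195425 F396966
theorem F396969 : act 3 n108024 = n195425 := d20_3 F79003 D74211 (iv4 F166948) (iv1 D195425) F344604 (iv4 D62583) (iv1 F47506) D34061 (iv3 F111056) F111059
theorem F396970 : act 2 n195425 = n179897 := d0_1 F396969 (iv3 D179897) F315128 F167105 (iv2 F166947)
theorem F396971 : act 5 n195425 = n108023 := d6_2 D108024 F396969 (iv3 D108023)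
theorem F396972 : act 0 n195360 = n144446 := d21_4 (iv5 F344618) (iv1 F344614) (iv5 F347236) D195360 F227243 (iv5 F396971) (iv1 D195425) F344606 F336212 (iv1 F162174)
def n195426 : Q := act 3 n105580
theorem D195426 : act 3 n105580 = n195426 := rfl
theorem F396973 : act 2 n195426 = n195290 := d0_1 D195426 F396596 F161952 (iv3 F162072) F360489
theorem F396974 : act 4 n195426 = n141154 := d5_2 (iv4 F162186) D195426 (iv3 D141154) (iv4 D66209) (iv3 F111140)
theorem F396975 : act 5 n195426 = n195289 := d6_2 (iv5 F360491) D195426 F396591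
theorem F396976 : act 7 n195426 = n141302 := d8_2 F162187 D195426 (iv3 D141302)
theorem F396977 : act 1 n195393 = n195426 := d15_1 D195393 F396976 F336176
theorem F396978 : act 1 n195426 = n195392 := d15_0 (iv0 D195392) (iv7 F396597) (iv2 F396973)
def n195427 : Q := act 6 n105581
theorem D195427 : act 6 n105581 = n195427 := rfl
theorem F396979 : act 2 n195427 = n141304 := d3_1 D195427 (iv6 D141304) (iv2 F163646)
theorem F396980 : act 3 n195427 = n195295 := d7_1 D195427 (iv6 D195295) F336175
theorem F396981 : act 4 n195427 = n115440 := d10_1 D195427 (iv6 D115440) F163645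
theorem F396982 : act 0 n132576 = n195427 := d18_2 F203986 D132576 F396981 (iv5 F217834) F217833 (iv0 D132385) F96821 D62116 (iv5 F203987)
theorem F396983 : act 1 n132569 = n195427 := d18_6 (iv1 D64094) (iv4 F99705) F203328 (iv4 D62195) D62196 D132569 F396981 (iv0 F219411) (iv5 D136327)
def n195428 : Q := act 4 n105585
theorem D195428 : act 4 n105585 = n195428 := rfl
theorem F396984 : act 2 n195428 = n127092 := d1_1 D195428 (iv4 D127092) (iv2 F162193)
theorem F396985 : act 6 n195428 = n126866 := d10_2 (iv6 F162195) D195428 (iv4 D126866)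
def n195429 : Q := act 5 n105586
theorem D195429 : act 5 n105586 = n195429 := rfl
theorem F396986 : act 2 n195429 = n144423 := d2_1 D195429 (iv5 F364301) F179740
theorem F396987 : act 7 n195429 = n127091 := d13_2 (iv7 F162196) D195429 (iv5 D127091)
theorem F396988 : act 4 n195429 = n136893 := d18_5 (iv1 F347226) (iv4 F344621) (iv1 F161980) D105586 D195429 (iv0 D136893) D136896 F360503 (iv5 F360491)
def n195430 : Q := act 6 n105586
theorem D195430 : act 6 n105586 = n195430 := rfl
theorem F396989 : act 4 n195430 = n105587 := d10_1 D195430 (iv6 D105587) D105586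
theorem F396990 : act 7 n195430 = n144755 := d14_2 (iv7 F162196) D195430 (iv6 D144755) (iv7 F321597) F321596
def n195431 : Q := act 3 n105591
theorem D195431 : act 3 n105591 = n195431 := rfl
theorem F396991 : act 2 n195431 = n107244 := d0_1 D195431 (iv3 F181512) F181511 (iv3 F224912) F224916
theorem F396992 : act 4 n195431 = n106413 := d5_2 (iv4 F224917) D195431 (iv3 F225609) F371993 F371987
theorem F396993 : act 7 n195431 = n107248 := d8_2 F396623 D195431 (iv3 F396620)
def n195432 : Q := act 5 n105591
theorem D195432 : act 5 n105591 = n195432 := rfl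
def n195433 : Q := act 5 n105592
theorem D195433 : act 5 n105592 = n195433 := rfl
def n195434 : Q := act 6 n105592
theorem D195434 : act 6 n105592 = n195434 := rfl
def n195435 : Q := act 5 n105593
theorem D195435 : act 5 n105593 = n195435 := rfl
theorem F396994 : act 2 n195435 = n105594 := d2_1 D195435 (iv5 D105594) D105593
theorem F396995 : act 3 n195435 = n137791 := d6_1 D195435 (iv5 D137791) (iv3 F162204)
def n195436 : Q := act 0 n105594
theorem D195436 : act 0 n105594 = n195436 := rfl
def n195437 : Q := act 1 n105594
theorem D195437 : act 1 n105594 = n195437 := rfl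
def n195438 : Q := act 4 n105594
theorem D195438 : act 4 n105594 = n195438 := rfl
theorem F396996 : act 3 n195438 = n192859 := d5_1 D195438 F388041 F173167 F99671 (iv3 F162205)
theorem F396997 : act 6 n192858 = n195438 := d7_0 F396996 (iv6 D192859) D192858
def n195439 : Q := act 6 n105594
theorem D195439 : act 6 n105594 = n195439 := rfl
theorem F396998 : act 3 n195439 = n105596 := d7_1 D195439 (iv6 D105596) (iv3 F162205)
theorem F396999 : act 4 n195439 = n192858 := d10_1 D195439 F396997 (iv4 D195438)
def n195440 : Q := act 0 n105595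
theorem D195440 : act 0 n105595 = n195440 := rfl
def n195441 : Q := act 1 n105595
theorem D195441 : act 1 n105595 = n195441 := rfl
def n195442 : Q := act 5 n105595
theorem D195442 : act 5 n105595 = n195442 := rfl
theorem F397000 : act 3 n195442 = n105599 := d6_1 D195442 (iv5 D105599) (iv3 F162206)
def n195443 : Q := act 7 n105595
theorem D195443 : act 7 n105595 = n195443 := rfl
theorem F397001 : act 3 n195443 = n105600 := d8_1 D195443 (iv7 D105600) (iv3 F162206)
theorem F397002 : act 4 n195443 = n141979 := d11_1 D195443 F225010 F216759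
def n195444 : Q := act 0 n105596
theorem D195444 : act 0 n105596 = n195444 := rfl
theorem F397003 : act 5 n195444 = n155891 := d19_1 D195444 F244884 F110868 (iv1 F309183) (iv5 D26954) (iv4 D12896) (iv3 F21378) (iv1 F297466) F28588 (iv4 F24900) (iv3 F51487) (iv1 F106207) D148902 F308763 (iv3 D123540) (iv1 F197948) (iv5 F388037) (iv4 F396999) F396998
theorem F397004 : act 3 n155895 = n195444 := d6_3 F397003 F244883 D155895
def n195445 : Q := act 1 n105596
theorem D195445 : act 1 n105596 = n195445 := rfl
theorem F397005 : act 3 n144461 = n195445 := d20_9 (iv4 F219350) F359251 (iv4 F392962) F392961 F389778 F324089 F131915 (iv1 F318700) (iv4 F227280) (iv1 D195445)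
theorem F397006 : act 6 n195445 = n144118 := d7_2 D144461 F397005 F226830
def n195446 : Q := act 5 n105596
theorem D195446 : act 5 n105596 = n195446 := rfl
theorem F397007 : act 6 n195446 = n105599 := d12_2 D105596 D195446 (iv5 D105599) (iv6 D48822) D48821
theorem F397008 : act 1 n195446 = n195320 := d17_8 F353964 (iv5 F353880) (iv1 D124475) F311449 (iv4 F244884) (iv5 F397003) (iv0 D195444) D195446 F396688
def n195447 : Q := act 7 n105596
theorem D195447 : act 7 n105596 = n195447 := rfl
def n195448 : Q := act 3 n105597
theorem D195448 : act 3 n105597 = n195448 := rfl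
theorem F397009 : act 2 n195448 = n144431 := d0_1 D195448 F227231 (iv2 F227201) (iv3 F396647) (iv2 F396642)
theorem F397010 : act 4 n195448 = n127113 := d5_2 (iv4 F166137) D195448 (iv3 D127113) F163598 (iv3 F163600)
theorem F397011 : act 0 n195448 = n195367 := d20_4 F78309 D49547 (iv4 F166137) D195448 F396831 (iv4 D118236) F321538 D66682 F102585 F104362
theorem F397012 : act 4 n136289 = n144431 := d1_2 F397010 (iv2 F382048) (iv2 F397009)
theorem F397013 : act 5 n144426 = n195448 := d2_0 F397009 (iv5 D144431) (iv2 F227226)
def n195449 : Q := act 5 n105597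
theorem D195449 : act 5 n105597 = n195449 := rfl
theorem F397014 : act 2 n195449 = n144411 := d2_1 D195449 F396644 (iv2 F396642)
theorem F397015 : act 3 n195449 = n144426 := d6_1 D195449 F397013 (iv3 D195448)
theorem F397016 : act 4 n195449 = n141804 := d16_2 (iv4 F166137) D195449 F224814 (iv4 F331896) (iv5 D126904) F166477 (iv5 F163551) F165256 (iv2 F165254)
theorem F397017 : act 1 n195449 = n126918 := d17_6 F111316 (iv5 F77622) D106393 (iv5 F163543) (iv4 F166137) D195449 (iv5 D126918) D126916 F204171
theorem F397018 : act 6 n141803 = n195449 := d10_0 F397016 (iv6 D141804) D141803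
def n195450 : Q := act 6 n105597
theorem D195450 : act 6 n105597 = n195450 := rfl
theorem F397019 : act 4 n195450 = n107242 := d10_1 D195450 (iv6 D107242) (iv4 F166137)
def n195451 : Q := act 3 n105598
theorem D195451 : act 3 n105598 = n195451 := rfl
theorem F397020 : act 4 n195451 = n116279 := d5_2 (iv4 F166500) D195451 (iv3 D116279) (iv4 D53597) (iv3 F163550)
theorem F397021 : act 7 n195451 = n144414 := d8_2 (iv7 F396643) D195451 (iv3 F396647)
theorem F397022 : act 2 n144445 = n195451 := d4_3 F397021 F227201 D144445
theorem F397023 : act 5 n144415 = n195451 := d13_3 F397021 (iv5 D144414) D144415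
theorem F397024 : act 1 n144443 = n195451 := d15_1 D144443 F397021 F227201
theorem F397025 : act 5 n116279 = n132563 := d16_3 (iv4 F227203) F397023 F397020 (iv4 D132563) (iv5 D62191) F47185 (iv5 F24480) D31437 (iv2 F103698)
theorem F397026 : act 3 n132563 = n116280 := d6_1 F397025 (iv5 D116280) D116279
theorem F397027 : act 1 n195451 = n144442 := d15_0 (iv0 D144442) D144445 F397022
def n195452 : Q := act 5 n105598
theorem D195452 : act 5 n105598 = n195452 := rfl
theorem F397028 : act 3 n195452 = n144415 := d6_1 D195452 F397023 (iv3 D195451)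
theorem F397029 : act 7 n195452 = n144411 := d13_2 (iv7 F396643) D195452 F396644
theorem F397030 : act 0 n195452 = n126918 := d17_2 (iv1 F396662) D195452 (iv5 D126918) (iv4 D59568) (iv5 D28276) D28275 (iv5 F95303) F161997 (iv4 F396659)
def n195453 : Q := act 0 n105599
theorem D195453 : act 0 n105599 = n195453 := rfl
theorem F397031 : act 5 n195453 = n108067 := d17_3 (iv1 D105598) D105599 D195453 F167086 F111328 (iv0 D61240) F46619 D49548 (iv4 F166500)
theorem F397032 : act 4 n195453 = n155796 := d20_8 (iv4 F320248) (iv1 D55234) (iv4 F87401) (iv3 F189510) F355176 (iv3 F206408) F364907 D195453 F244801 (iv1 F318088)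
theorem F397033 : act 7 n155792 = n195453 := d11_0 F397032 (iv7 D155796) (iv4 F244798)
theorem F397034 : act 1 n175105 = n195453 := d18_6 (iv1 F307986) (iv4 F331896) F331893 F94760 D83627 D175105 F397032 F318951 F271675
theorem F397035 : act 6 n195453 = n139822 := d14_1 F397033 F223023 F346333 F189650 D155792
def n195454 : Q := act 1 n105599
theorem D195454 : act 1 n105599 = n195454 := rfl
theorem F397036 : act 1 n195454 = n175105 := d15_1 D195454 F396656 F396652
theorem F397037 : act 5 n195454 = n108066 := d17_7 D49911 (iv5 F112187) (iv1 F112190) (iv5 D48825) (iv4 F76899) D105599 D195454 (iv0 D108066) F78948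
theorem F397038 : act 4 n195454 = n155788 := d17_9 (iv1 F331745) F271675 (iv1 F307986) (iv5 F224814) (iv4 F397016) (iv5 D195449) (iv0 D105597) D105599 D195454
theorem F397039 : act 2 n155792 = n195454 := d1_3 F397038 F244795 (iv4 F244798)
theorem F397040 : act 6 n155787 = n195454 := d10_0 F397038 (iv6 D155788) D155787
def n195455 : Q := act 7 n105599
theorem D195455 : act 7 n105599 = n195455 := rfl
theorem F397041 : act 2 n195455 = n175105 := d4_1 D195455 F396656 F396652
theorem F397042 : act 4 n195455 = n152602 := d11_1 D195455 (iv7 F364910) F364907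
theorem F397043 : act 5 n195455 = n105600 := d13_1 D195455 (iv7 D105600) D105599
theorem F397044 : act 1 n155792 = n195455 := d15_1 F396655 (iv7 D195455) (iv2 F396652)
theorem F397045 : act 6 n152612 = n195455 := d12_0 F397043 F347229 (iv5 D137802) D137803 F358057
def n195456 : Q := act 5 n105603
theorem D195456 : act 5 n105603 = n195456 := rfl
theorem F397046 : act 3 n195456 = n179943 := d6_1 D195456 (iv5 D179943) (iv3 F321643)
theorem F397047 : act 7 n195456 = n127128 := d13_2 (iv7 F166107) D195456 (iv5 D127128)
theorem F397048 : act 4 n195456 = n175101 := d16_2 D105603 D195456 (iv5 D175101) (iv4 F328132) (iv5 D126912) (iv4 D59563) (iv5 F95303) (iv7 F166102) F166101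
theorem F397049 : act 1 n195456 = n156037 := d17_6 (iv1 D59567) (iv5 D28276) D28274 (iv5 F103697) D105603 D195456 (iv5 D156037) (iv0 F204158) (iv4 D126913)
def n195457 : Q := act 6 n105603
theorem D195457 : act 6 n105603 = n195457 := rfl
theorem F397050 : act 3 n195457 = n179926 := d7_1 D195457 F280206 (iv3 F321643)
theorem F397051 : act 4 n195457 = n105604 := d10_1 D195457 (iv6 D105604) D105603
theorem F397052 : act 7 n195457 = n145704 := d14_2 (iv7 F166107) D195457 F228797 F167178 F166513
def n195458 : Q := act 3 n105607
theorem D195458 : act 3 n105607 = n195458 := rfl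
theorem F397053 : act 4 n195458 = n126911 := d5_2 D105607 D195458 (iv3 D126911) (iv4 D59563) (iv3 F166114)
def n195459 : Q := act 5 n105607
theorem D195459 : act 5 n105607 = n195459 := rfl
theorem F397054 : act 2 n195459 = n127128 := d2_1 D195459 (iv5 D127128) (iv2 F166099)
theorem F397055 : act 4 n195459 = n155096 := d9_1 D195459 (iv5 D155096) F110323 F324258 (iv4 D59558) (iv5 F103697) D105603 D195456 F397048 (iv5 D175101) (iv4 F328132) (iv5 D126912) (iv4 D59563) (iv5 F95303) D105607
theorem F397056 : act 0 n195459 = n156037 := d17_2 (iv1 F166098) D195459 (iv5 D156037) F111061 F53425 (iv0 F161385) (iv5 F165260) F165258 (iv4 F165294)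
def n195460 : Q := act 4 n105609
theorem D195460 : act 4 n105609 = n195460 := rfl
theorem F397057 : act 2 n195460 = n111016 := d1_1 D195460 F172165 F172168
theorem F397058 : act 3 n195460 = n137780 := d5_1 D195460 (iv4 D137780) (iv3 D64756) D64757 (iv3 F162218)
theorem F397059 : act 5 n195460 = n107346 := d18_4 (iv1 D106413) F77649 D105609 D195460 F165400 (iv0 D53280) (iv4 F77663) D106424 F172122
theorem F397060 : act 0 n107378 = n195460 := d20_10 (iv4 D195460) (iv1 F165278) F165276 (iv3 F163672) (iv1 F163678) D107193 (iv4 F351324) (iv1 F354334) (iv4 D107379) D107378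
theorem F397061 : act 1 n107378 = n107294 := d15_1 (iv0 F397060) (iv7 F172164) (iv2 F397057)
def n195461 : Q := act 5 n105609
theorem D195461 : act 5 n105609 = n195461 := rfl
theorem F397062 : act 3 n195461 = n105616 := d6_1 D195461 F344619 (iv3 F162218)
theorem F397063 : act 7 n195461 = n105613 := d13_2 (iv7 F172169) D195461 (iv5 F347204)
theorem F397064 : act 0 n105638 = n195461 := d20_4 F98195 (iv1 F81519) F81516 D105638 F397062 (iv4 F163618) (iv1 F163621) F163645 (iv3 F336175) F161964
theorem F397065 : act 1 n107349 = n107491 := d17_8 (iv1 D109275) (iv5 F162236) F397064 (iv5 D195461) D195460 F397059 (iv0 D107346) D107349 F169277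
def n195462 : Q := act 6 n105609
theorem D195462 : act 6 n105609 = n195462 := rfl
theorem F397066 : act 3 n195462 = n137784 := d7_1 D195462 (iv6 D137784) (iv3 F162218)
def n195463 : Q := act 5 n105610
theorem D195463 : act 5 n105610 = n195463 := rfl
theorem F397067 : act 2 n195463 = n105613 := d2_1 D195463 (iv5 F347204) (iv2 F172167)
theorem F397068 : act 0 n195463 = n105638 := d17_2 (iv1 F165280) D195463 F162236 F79799 (iv5 F77664) D106424 F172122 F163631 (iv4 F165276)
theorem F397069 : act 6 n105611 = n195463 := d3_0 F397067 (iv6 D105613) D105611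
def n195464 : Q := act 6 n105610
theorem D195464 : act 6 n105610 = n195464 := rfl
def n195465 : Q := act 5 n105611
theorem D195465 : act 5 n105611 = n195465 := rfl
theorem F397070 : act 2 n195465 = n105612 := d2_1 D195465 (iv5 D105612) D105611
def n195466 : Q := act 0 n105612
theorem D195466 : act 0 n105612 = n195466 := rfl
theorem F397071 : act 3 n195466 = n132430 := d20_5 F162057 (iv1 F81741) F81738 (iv3 F162219) D195466 F217146 (iv1 F217144) F347230 (iv3 F161983) (iv1 F162059)
def n195467 : Q := act 1 n105612
theorem D195467 : act 1 n105612 = n195467 := rfl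
theorem F397072 : act 5 n195467 = n107126 := d17_7 (iv1 F93291) F180739 (iv1 D52001) (iv5 F77650) F77649 D105612 D195467 F169282 F169279
def n195468 : Q := act 4 n105612
theorem D195468 : act 4 n105612 = n195468 := rfl
def n195469 : Q := act 6 n105612
theorem D195469 : act 6 n105612 = n195469 := rfl
theorem F397073 : act 3 n195469 = n105614 := d7_1 D195469 (iv6 D105614) (iv3 F162219)
def n195470 : Q := act 0 n105613
theorem D195470 : act 0 n105613 = n195470 := rfl
theorem F397074 : act 5 n195470 = n109276 := d17_3 D107232 F347204 D195470 F169279 (iv5 F163674) F163676 (iv5 F172110) (iv0 D49550) (iv4 F78303)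
theorem F397075 : act 2 n105638 = n195470 := d15_3 (iv0 D195470) (iv0 F360522) F165111
def n195471 : Q := act 0 n105614
theorem D195471 : act 0 n105614 = n195471 := rfl
def n195472 : Q := act 1 n105614
theorem D195472 : act 1 n105614 = n195472 := rfl
def n195473 : Q := act 5 n105614
theorem D195473 : act 5 n105614 = n195473 := rfl
theorem F397076 : act 2 n195473 = n136573 := d2_1 D195473 F352946 F174598
theorem F397077 : act 6 n195473 = n105615 := d12_2 D105614 D195473 (iv5 D105615) (iv6 D48829) D48828
theorem F397078 : act 4 n135894 = n195473 := d10_3 F397077 F347207 (iv6 F391939)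
theorem F397079 : act 7 n195473 = n136578 := d11_2 (iv7 F391940) F397078 (iv4 D136578)
theorem F397080 : act 1 n112225 = n178869 := d18_6 (iv1 F204012) F204009 (iv1 F218597) F397078 (iv5 D195473) (iv4 F174522) (iv4 F280180) (iv0 F366549) (iv5 F167126)
theorem F397081 : act 0 n195473 = n139079 := d20_1 F397078 F222265 (iv3 D65290) D65288 D139092 F222281 (iv1 F167865) (iv4 F218613) F218612 (iv1 F218597)
theorem F397082 : act 3 n195473 = n136781 := d20_3 F204009 (iv1 F218597) F397078 (iv1 F219999) F167202 F78979 (iv1 F100346) (iv4 F167061) (iv3 F167127) (iv1 F204012)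
theorem F397083 : act 5 n136781 = n195469 := d6_2 D195473 F397082 F397073
theorem F397084 : act 6 n136781 = n107232 := d7_2 (iv6 F397077) F397082 (iv3 F347206)
theorem F397085 : act 7 n136781 = n108118 := d8_2 (iv7 F397079) F397082 F219664
theorem F397086 : act 7 n156039 = n195469 := d13_2 F397085 F358807 (iv5 F397083)
theorem F397087 : act 2 n108118 = n136782 := d15_3 F220004 F219999 F397085
theorem F397088 : act 2 n136781 = n108119 := d15_3 F220006 F220003 (iv7 F397085)
theorem F397089 : act 2 n156038 = n195469 := d2_3 (iv5 F397083) F397088 (iv5 F344467)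
theorem E103628 : n195464 = n108119 := ((c3_2 (iv6 F397084) F397088 (iv6 D195464) F172167)).symm
theorem F397090 : act 6 n108119 = n105610 := (sb E103628 (iv6 D195464))
theorem F397091 : act 7 n108119 = n136782 := d4_2 (iv7 F397085) F397088 (iv2 F397087)
theorem F397092 : act 6 n195465 = n156038 := d12_4 F397090 D195463 (iv6 F397069) D195465 F344467
theorem F397093 : act 0 n195469 = n106955 := d17_2 D136781 F397083 (iv5 F245164) (iv4 F337394) (iv5 D180403) F299552 (iv5 F337373) (iv0 D106987) (iv4 F100142)
theorem F397094 : act 1 n195469 = n156040 := d17_8 F358804 (iv5 F358803) (iv1 F170407) F330458 F92835 F167203 F219999 F397083 (iv4 F337394)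
theorem F397095 : act 4 n133346 = n195472 := d17_9 (iv1 D195472) D195473 F397081 F222284 (iv4 D113107) D113108 (iv0 F245705) F210012 D133346
theorem F397096 : act 1 n178869 = n112256 := d15_1 F397080 (iv7 D112256) (iv2 F174521)
def n195474 : Q := act 7 n105614
theorem D195474 : act 7 n105614 = n195474 := rfl
theorem F397097 : act 3 n195474 = n156039 := d8_1 D195474 F397086 F397073
theorem F397098 : act 5 n195474 = n136578 := d13_1 D195474 (iv7 F397079) (iv5 D195473)
def n195475 : Q := act 3 n105617
theorem D195475 : act 3 n105617 = n195475 := rfl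
theorem F397099 : act 6 n195475 = n132437 := d7_2 (iv6 F360878) D195475 F212504
theorem F397100 : act 4 n195475 = n106886 := d20_6 (iv4 D50422) F38573 F37893 D48830 D105617 D195475 (iv1 D106886) (iv4 F161968) (iv3 D105502) (iv1 F79789)
theorem F397101 : act 6 n106886 = n108453 := d10_2 (iv6 F397099) F397100 F212506
theorem F397102 : act 2 n134726 = n106886 := d3_3 F397101 F245713 F388740
theorem F397103 : act 7 n106885 = n134726 := d15_2 F216755 F216753 F397102
theorem F397104 : act 7 n134727 = n106886 := d15_2 (iv0 D134726) D134727 (iv2 F397102)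
theorem F397105 : act 2 n106885 = n134727 := d4_3 F397104 (iv2 F397102) (iv7 F397103)
def n195476 : Q := act 5 n105617
theorem D195476 : act 5 n105617 = n195476 := rfl
theorem F397106 : act 2 n195476 = n143033 := d2_1 D195476 (iv5 F360858) (iv2 F360877)
theorem F397107 : act 6 n195476 = n132433 := d12_2 (iv6 F360878) D195476 (iv5 D132433) F96855 D62136
theorem F397108 : act 4 n195476 = n143083 := d16_2 F179996 D195476 F347286 (iv4 D142664) F102725 (iv4 F209567) F360884 F360882 (iv2 F360873)
theorem F397109 : act 0 n105640 = n195476 := d21_7 (iv5 D49939) (iv1 F78905) F78903 D74335 (iv1 F339887) (iv6 D144419) (iv5 F162237) (iv5 D195476) F360878 F96857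
def n195477 : Q := act 3 n105618
theorem D195477 : act 3 n105618 = n195477 := rfl
theorem F397110 : act 7 n195477 = n143038 := d8_2 F360881 D195477 F360859
theorem F397111 : act 0 n105627 = n195477 := d20_4 (iv4 D116397) F102938 F102936 D105627 (iv3 D195477) (iv4 F179841) F181516 D115638 F179997 F181515
theorem F397112 : act 5 n143039 = n195477 := d13_3 F397110 (iv5 D143038) D143039
def n195478 : Q := act 5 n105618
theorem D195478 : act 5 n105618 = n195478 := rfl
theorem F397113 : act 3 n195478 = n143039 := d6_1 D195478 F397112 (iv3 D195477)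
theorem F397114 : act 7 n195478 = n143033 := d13_2 F360881 D195478 (iv5 F360858)
theorem F397115 : act 4 n143091 = n195478 := d16_0 (iv5 D195478) (iv4 F179841) (iv5 F360884) F209567 (iv5 F102725) D142664 (iv5 F347286) F359466 F359467
theorem F397116 : act 6 n195478 = n192077 := d10_2 (iv6 F364511) F397115 (iv4 D192077)
theorem F397117 : act 0 n195478 = n105640 := d20_7 (iv4 F157437) (iv1 F344575) (iv4 F344580) (iv3 F344584) (iv1 F225861) (iv3 F225940) F397115 (iv4 F385944) (iv3 D192194) (iv1 F153713)
def n195479 : Q := act 6 n105618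
theorem D195479 : act 6 n105618 = n195479 := rfl
def n195480 : Q := act 5 n105619
theorem D195480 : act 5 n105619 = n195480 := rfl
theorem F397118 : act 2 n195480 = n105620 := d2_1 D195480 (iv5 D105620) D105619
def n195481 : Q := act 6 n105619
theorem D195481 : act 6 n105619 = n195481 := rfl
theorem F397119 : act 2 n195481 = n105621 := d3_1 D195481 (iv6 D105621) D105619
def n195482 : Q := act 0 n105620
theorem D195482 : act 0 n105620 = n195482 := rfl
def n195483 : Q := act 1 n105620
theorem D195483 : act 1 n105620 = n195483 := rfl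
theorem F397120 : act 5 n195483 = n115294 := d17_7 (iv1 F179454) D115344 (iv1 F360641) (iv5 D115242) F83970 D105620 D195483 F227212 F227208
def n195484 : Q := act 4 n105620
theorem D195484 : act 4 n105620 = n195484 := rfl
theorem F397121 : act 3 n195484 = n109720 := d5_1 D195484 (iv4 D109720) F79981 (iv4 F76903) (iv3 F162221)
theorem F397122 : act 5 n195484 = n117437 := d16_3 F83970 D105620 D195484 F359453 (iv5 D116552) (iv4 F327618) (iv5 D115459) (iv7 F179473) (iv2 D115241)
theorem F397123 : act 4 n195482 = n117700 := d20_8 F333086 (iv1 F355786) F355787 (iv3 F226164) (iv1 F226166) (iv3 F397121) (iv4 D195484) D195482 F322681 (iv1 F222940)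
theorem F397124 : act 5 n115293 = n195482 := d17_3 (iv1 F349446) F174125 D115293 F397123 (iv5 D117700) D117699 F349478 F349479 (iv4 F225900)
def n195485 : Q := act 6 n105620
theorem D195485 : act 6 n105620 = n195485 := rfl
theorem F397125 : act 3 n195485 = n105622 := d7_1 D195485 (iv6 D105622) (iv3 F162221)
def n195486 : Q := act 0 n105621
theorem D195486 : act 0 n105621 = n195486 := rfl
def n195487 : Q := act 1 n105621
theorem D195487 : act 1 n105621 = n195487 := rfl
def n195488 : Q := act 5 n105621
theorem D195488 : act 5 n105621 = n195488 := rfl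
theorem F397126 : act 3 n195488 = n105625 := d6_1 D195488 (iv5 D105625) (iv3 F162222)
theorem F397127 : act 4 n192429 = n195488 := d5_0 F397126 F331739 (iv3 F331737) F358769 (iv3 F386718)
def n195489 : Q := act 7 n105621
theorem D195489 : act 7 n105621 = n195489 := rfl
theorem F397128 : act 3 n195489 = n105626 := d8_1 D195489 (iv7 D105626) (iv3 F162222)
def n195490 : Q := act 1 n105622
theorem D195490 : act 1 n105622 = n195490 := rfl
theorem F397129 : act 4 n144109 = n195490 := d20_0 (iv1 D195490) F162223 (iv3 F169710) F352907 F220255 F100369 (iv1 F48778) (iv4 F95723) (iv3 F209131) F340486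
theorem F397130 : act 6 n195490 = n144107 := d10_2 D144109 F397129 (iv4 D144107)
def n195491 : Q := act 5 n105622
theorem D195491 : act 5 n105622 = n195491 := rfl
theorem F397131 : act 6 n195491 = n105625 := d12_2 D105622 D195491 (iv5 D105625) (iv6 D48832) D48831
theorem F397132 : act 4 n177513 = n195491 := d10_3 F397131 F331739 (iv6 F339275)
def n195492 : Q := act 7 n105622
theorem D195492 : act 7 n105622 = n195492 := rfl
theorem F397133 : act 4 n195492 = n109733 := d11_1 D195492 (iv7 D109733) (iv4 F162223)
def n195493 : Q := act 0 n105625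
theorem D195493 : act 0 n105625 = n195493 := rfl
theorem F397134 : act 5 n195493 = n108071 := d17_1 D195493 F167091 D156042 F366038 (iv5 F383271) (iv0 F383272) F303502 (iv0 F331741) (iv4 F331739)
theorem F397135 : act 4 n195493 = n175104 := d18_1 D195493 (iv1 D175104) D175105 (iv5 F396660) F396659 (iv0 F161998) D105603 F166105 D105625
theorem F397136 : act 1 n173289 = n195493 := d17_8 (iv1 D175104) (iv5 D83627) F328952 D155096 (iv4 F397055) (iv5 D195459) F166098 (iv5 F331740) F397135
theorem F397137 : act 6 n139802 = n195493 := d12_0 F397134 (iv6 F227567) F351850 (iv6 D139803) D139802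
theorem F397138 : act 7 n157218 = n195493 := d13_0 F397134 F167090 D157218
def n195494 : Q := act 1 n105625
theorem D195494 : act 1 n105625 = n195494 := rfl
theorem F397139 : act 1 n195494 = n173289 := d15_1 D195494 F362458 F165292
theorem F397140 : act 5 n195494 = n108070 := d17_7 D74223 F111071 (iv1 D64104) (iv5 F78302) F78301 D105625 D195494 F167092 F111069
theorem F397141 : act 4 n195494 = n175103 := d17_9 (iv1 F364911) (iv5 D128286) (iv1 F307715) D175101 (iv4 F397048) (iv5 D195456) F166105 D105625 D195494
theorem F397142 : act 2 n157218 = n195494 := d2_3 F397140 F167088 D157218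
def n195495 : Q := act 7 n105625
theorem D195495 : act 7 n105625 = n195495 := rfl
theorem F397143 : act 2 n195495 = n173289 := d4_1 D195495 F362458 F165292
theorem F397144 : act 4 n195495 = n155090 := d11_1 D195495 F331738 (iv4 F331739)
theorem F397145 : act 5 n195495 = n105626 := d13_1 D195495 (iv7 D105626) D105625
theorem F397146 : act 1 n157218 = n195495 := d15_1 (iv0 F247404) (iv7 D195495) (iv2 F165292)
theorem F397147 : act 6 n193417 = n195495 := d10_0 F397144 F243911 (iv4 F389784)
def n195496 : Q := act 1 n105627
theorem D195496 : act 1 n105627 = n195496 := rfl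
theorem F397148 : act 5 n195496 = n105629 := d17_7 F320126 D105702 F317976 F131944 (iv4 F201222) (iv5 F353530) D195496 F349997 (iv4 D116199)
theorem F397149 : act 4 n141129 = n195496 := d20_6 (iv4 D30982) (iv1 F41020) (iv4 F84535) (iv3 F171780) (iv1 F171785) D141129 (iv1 D195496) F180475 (iv3 F180474) (iv1 D66330)
theorem F397150 : act 2 n143038 = n195496 := d2_3 F397148 F162228 D143038
def n195497 : Q := act 6 n105627
theorem D195497 : act 6 n105627 = n195497 := rfl
theorem F397151 : act 3 n195497 = n105629 := d7_1 D195497 (iv6 D105629) D105627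
def n195498 : Q := act 4 n105631
theorem D195498 : act 4 n105631 = n195498 := rfl
theorem F397152 : act 2 n195498 = n163223 := d1_1 D195498 (iv4 F353518) F224399
theorem F397153 : act 6 n195498 = n164529 := d10_2 F361809 D195498 (iv4 F360160)
theorem F397154 : act 7 n195498 = n143034 := d11_2 (iv7 F162232) D195498 (iv4 D143034)
theorem F397155 : act 1 n195498 = n164135 := d18_8 (iv1 F351014) (iv4 F346326) (iv1 F379399) F379394 F223032 (iv4 D139827) F162321 D195498 (iv5 D164135)
def n195499 : Q := act 5 n105632
theorem D195499 : act 5 n105632 = n195499 := rfl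
def n195500 : Q := act 4 n105633
theorem D195500 : act 4 n105633 = n195500 := rfl
theorem F397156 : act 2 n195500 = n105636 := d1_1 D195500 (iv4 D105636) (iv2 F162234)
theorem F397157 : act 5 n195500 = n107585 := d9_2 D105633 D195500 (iv4 F165983) (iv5 D59922) F45985 (iv5 F24344) D30975 D66311 D141356 F224406 (iv4 F379381) (iv5 D190321) F317354 (iv5 D48871) (iv4 F76905)
theorem F397158 : act 0 n195500 = n110372 := d17_0 (iv5 D110372) D110369 F223032 (iv4 D139827) (iv5 D65637) D65636 D139825 F223030 D195500
def n195501 : Q := act 6 n105635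
theorem D195501 : act 6 n105635 = n195501 := rfl
theorem F397159 : act 2 n195501 = n195453 := d3_1 D195501 F397035 F223022
theorem F397160 : act 4 n195501 = n173288 := d10_1 D195501 F346331 F364300
theorem F397161 : act 5 n126916 = n195501 := d9_0 F397160 (iv5 F303502) F345595 F204152 (iv4 F166257) (iv5 F111071) (iv4 F204164) F359066 F244798 D155795 F359064 F204153 F166255 (iv5 F111319) (iv4 F204171)
theorem F397162 : act 7 n195454 = n195501 := d11_0 F397160 F331744 (iv4 F397038)
theorem F397163 : act 0 n195306 = n195501 := d18_0 F397160 (iv1 D173288) D173289 F331740 F165294 (iv0 F165257) (iv4 F396641) (iv0 D195304) D195306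
theorem F397164 : act 1 n195455 = n195501 := d18_6 (iv1 F243916) (iv4 F304141) (iv1 D119512) (iv4 F304143) D152602 (iv4 F397042) F397160 (iv0 F331741) F331735
def n195502 : Q := act 0 n105636
theorem D195502 : act 0 n105636 = n195502 := rfl
theorem F397165 : act 5 n195502 = n110371 := d17_3 D110340 F170586 D195502 F170723 F169498 (iv0 F225646) (iv5 F225648) (iv0 D109874) (iv4 F80272)
theorem F397166 : act 4 n195502 = n144453 := d18_3 (iv1 D105635) D105636 D195502 (iv5 D144453) (iv4 D67691) (iv0 D31438) (iv4 F49726) D67677 F162345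
theorem F397167 : act 2 n110372 = n195502 := d15_3 (iv0 D195502) F227278 F175448
theorem F397168 : act 3 n195502 = n137378 := d0_2 (iv3 F170724) F397167 F349929 F175484 F82229
theorem F397169 : act 6 n195502 = n126754 := d3_2 (iv6 F349878) F397167 (iv2 F219979)
def n195503 : Q := act 3 n105636
theorem D195503 : act 3 n105636 = n195503 := rfl
theorem F397170 : act 4 n195503 = n105642 := d5_2 D105636 D195503 (iv3 D105642) (iv4 D48839) (iv3 F76907)
theorem F397171 : act 5 n195503 = n136276 := d6_2 F170586 D195503 F219340
theorem F397172 : act 6 n195503 = n179128 := d7_2 F396667 D195503 (iv3 F396666)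
theorem F397173 : act 7 n195503 = n136282 := d8_2 F224405 D195503 (iv3 F224404)
theorem F397174 : act 0 n195503 = n155755 := d20_10 F361851 F390497 F390495 F204195 (iv1 F100484) D137313 F364300 (iv1 D105635) D105636 D195503
theorem F397175 : act 0 n155759 = n195503 := d20_4 (iv4 F324192) (iv1 F87418) (iv4 F110835) (iv3 F244767) (iv3 D195503) (iv4 D105636) D105634 (iv4 F346332) F189651 F324021
theorem F397176 : act 2 n155757 = n195503 := d15_3 (iv0 F397175) (iv0 F392755) (iv7 F392754)
def n195504 : Q := act 4 n105638
theorem D195504 : act 4 n105638 = n195504 := rfl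
theorem F397177 : act 3 n195504 = n111023 := d5_1 D195504 F358492 F173990 F81516 D105638
theorem F397178 : act 6 n194568 = n195504 := d7_0 F397177 F345149 D194568
def n195505 : Q := act 6 n105638
theorem D195505 : act 6 n105638 = n195505 := rfl
theorem F397179 : act 3 n195505 = n105639 := d7_1 D195505 (iv6 D105639) D105638
theorem F397180 : act 4 n195505 = n194568 := d10_1 D195505 F397178 (iv4 D195504)
theorem F397181 : act 0 n195505 = n136777 := d20_7 (iv4 D67605) F92834 (iv4 F345174) (iv3 D103806) (iv1 F159224) D194568 (iv4 F397180) F219988 F164909 (iv1 F165807)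
def n195506 : Q := act 5 n105639
theorem D195506 : act 5 n105639 = n195506 := rfl
theorem F397182 : act 6 n195506 = n109278 := d12_2 D105639 D195506 (iv5 D109278) (iv6 D50427) (iv5 F76908)
theorem F397183 : act 1 n195506 = n194370 := d17_6 (iv1 F393801) F393803 (iv1 D194411) (iv5 F358496) F173995 D195506 (iv5 D194370) D194369 (iv4 F392958)
def n195507 : Q := act 2 n105640
theorem D195507 : act 2 n105640 = n195507 := rfl
theorem F397184 : act 4 n195507 = n136106 := d1_2 F385944 D195507 F385949
theorem F397185 : act 5 n195507 = n144418 := d2_2 (iv5 F162237) D195507 (iv2 D144418)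
theorem F397186 : act 1 n143033 = n195507 := d18_6 (iv1 F359458) (iv4 D116613) F316806 (iv4 F347288) (iv5 D143090) (iv4 F225900) F397184 F386247 F386245
def n195508 : Q := act 6 n105640
theorem D195508 : act 6 n105640 = n195508 := rfl
theorem F397187 : act 3 n195508 = n105641 := d7_1 D195508 (iv6 D105641) D105640
def n195509 : Q := act 0 n105641
theorem D195509 : act 0 n105641 = n195509 := rfl
def n195510 : Q := act 1 n105641
theorem D195510 : act 1 n105641 = n195510 := rfl
def n195511 : Q := act 5 n105641
theorem D195511 : act 5 n105641 = n195511 := rfl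
theorem F397188 : act 6 n195511 = n144420 := d12_2 D105641 D195511 (iv5 D144420) (iv6 D67675) (iv5 F76909)
def n195512 : Q := act 7 n105641
theorem D195512 : act 7 n105641 = n195512 := rfl
theorem F397189 : act 4 n195512 = n109349 := d11_1 D195512 (iv7 D109349) (iv4 F162238)
def n195513 : Q := act 5 n105643
theorem D195513 : act 5 n105643 = n195513 := rfl
theorem F397190 : act 2 n195513 = n144122 := d2_1 D195513 F365093 F173979
theorem F397191 : act 6 n195513 = n109250 := d12_2 D105643 D195513 (iv5 D109250) (iv6 D50413) (iv5 F76911)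
theorem F397192 : act 7 n195513 = n144123 := d13_2 (iv7 F347192) D195513 F392705
theorem F397193 : act 1 n195513 = n144116 := d17_8 (iv1 D128575) (iv5 D60473) D60470 D128569 F206799 F103443 (iv0 F347190) D195513 (iv4 F365102)
theorem F397194 : act 0 n109301 = n144117 := d21_4 (iv5 D58842) F45237 D50439 D109301 (iv6 D144117) D144116 (iv1 F397193) (iv5 D195513) (iv6 D105643) (iv1 F93039)
theorem F397195 : act 1 n109301 = n144129 := d15_1 (iv0 F397194) (iv7 D144129) (iv2 F226829)
def n195514 : Q := act 4 n105644
theorem D195514 : act 4 n105644 = n195514 := rfl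
theorem F397196 : act 2 n195514 = n137487 := d1_1 D195514 (iv4 F396689) F396693
theorem F397197 : act 3 n195514 = n111017 := d5_1 D195514 (iv4 D111017) D111016 F172165 (iv3 F396694)
theorem F397198 : act 0 n109343 = n195514 := d20_10 (iv4 D195514) (iv1 F396702) F396700 F340501 (iv1 D142470) (iv3 D66800) (iv4 F49493) (iv1 F179988) (iv4 F181709) F336226
theorem F397199 : act 5 n190503 = n195514 := d6_0 F397197 F363580 D190503
def n195515 : Q := act 5 n105644
theorem D195515 : act 5 n105644 = n195515 := rfl
def n195516 : Q := act 6 n105644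
theorem D195516 : act 6 n105644 = n195516 := rfl
def n195517 : Q := act 6 n105645
theorem D195517 : act 6 n105645 = n195517 := rfl
theorem F397200 : act 3 n195517 = n136573 := d7_1 D195517 F352947 (iv3 F360863)
def n195518 : Q := act 0 n105647
theorem D195518 : act 0 n105647 = n195518 := rfl
theorem F397201 : act 2 n193615 = n195518 := d15_3 (iv0 D195518) (iv0 F391446) F391425
theorem F397202 : act 4 n195518 = n193614 := d1_2 D193615 F397201 (iv2 D193614)
def n195519 : Q := act 5 n105647
theorem D195519 : act 5 n105647 = n195519 := rfl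
theorem F397203 : act 6 n195519 = n105650 := d12_2 D105647 D195519 (iv5 D105650) (iv6 D48842) (iv5 F76914)
theorem F397204 : act 4 n195519 = n155942 := d16_2 (iv4 F162242) D195519 F357080 (iv4 F357082) (iv5 F392668) (iv4 D194287) F319848 (iv7 D136310) F99689
def n195520 : Q := act 3 n105648
theorem D195520 : act 3 n105648 = n195520 := rfl
theorem F397205 : act 4 n195520 = n108963 := d5_2 (iv4 F163991) D195520 F351098 F165543 D106443
def n195521 : Q := act 5 n105648
theorem D195521 : act 5 n105648 = n195521 := rfl
theorem F397206 : act 7 n195521 = n145582 := d13_2 F165693 D195521 (iv5 F351846)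
theorem F397207 : act 0 n195521 = n140990 := d17_2 D105648 D195521 (iv5 F351848) F227546 (iv5 F204160) F204163 F111409 (iv0 D48843) (iv4 F76915)
theorem F397208 : act 4 n145540 = n195521 := d20_6 F352803 (iv1 F352806) F346893 F85080 D68242 D145540 F397207 (iv4 D140990) (iv3 F348058) F348057
theorem F397209 : act 1 n195521 = n139803 := d15_1 (iv0 F397207) (iv7 F320848) F320847
def n195522 : Q := act 6 n105648
theorem D195522 : act 6 n105648 = n195522 := rfl
theorem F397210 : act 4 n195522 = n136327 := d10_1 D195522 F219412 (iv4 F163991)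
theorem F397211 : act 0 n144755 = n195522 := d21_4 D115297 (iv1 F227608) (iv5 D144754) D144755 (iv6 D195522) D195521 F397207 (iv5 F351848) (iv6 D144712) F162030
def n195523 : Q := act 3 n105649
theorem D195523 : act 3 n105649 = n195523 := rfl
theorem F397212 : act 4 n195523 = n156300 := d5_2 F162243 D195523 (iv3 D156300) (iv4 D74344) D74343
def n195524 : Q := act 5 n105649
theorem D195524 : act 5 n105649 = n195524 := rfl
theorem F397213 : act 2 n195524 = n145582 := d2_1 D195524 (iv5 F351846) F165692
theorem F397214 : act 0 n195524 = n139803 := d17_2 (iv1 F166982) D195524 (iv5 F351850) F227566 (iv5 D67824) D67823 (iv5 F111407) F78910 (iv4 F166980)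
theorem F397215 : act 1 n195524 = n140990 := d17_8 (iv1 D66129) D66132 D140997 F357076 F396706 (iv5 D105650) D105649 D195524 (iv4 D140990)
theorem F397216 : act 4 n195524 = n124814 := d18_5 F176202 F176199 (iv1 F168292) F162243 D195524 (iv0 F233170) (iv4 F185816) F320844 (iv5 F351842)
theorem F397217 : act 6 n124813 = n195524 := d10_0 F397216 (iv6 D124814) D124813
theorem F397218 : act 3 n195524 = n195396 := d20_3 F185816 F233170 (iv4 F397216) (iv1 D195396) F162141 F76877 F50061 D31770 D68274 (iv1 F320844)
theorem F397219 : act 5 n195396 = n195523 := d6_2 D195524 F397218 (iv3 D195523)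
def n195525 : Q := act 6 n105649
theorem D195525 : act 6 n105649 = n195525 := rfl
theorem F397220 : act 4 n195525 = n156299 := d10_1 D195525 (iv6 D156299) F162243
theorem F397221 : act 1 n145704 = n195525 := d18_6 (iv1 D108827) (iv4 F82255) F161387 (iv4 D68298) D68299 D145704 F397220 (iv0 F245607) F168798
def n195526 : Q := act 0 n105650
theorem D195526 : act 0 n105650 = n195526 := rfl
theorem F397222 : act 5 n195526 = n144723 := d17_3 (iv1 D105649) D105650 D195526 F227562 F222745 F168294 F78230 (iv0 F168291) F162243
def n195527 : Q := act 1 n105650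
theorem D195527 : act 1 n105650 = n195527 := rfl
theorem F397223 : act 5 n195527 = n144724 := d18_9 (iv1 D144724) F103832 D67822 D144728 F351844 (iv4 D140999) D140998 F396706 D195527
def n195528 : Q := act 6 n105652
theorem D195528 : act 6 n105652 = n195528 := rfl
theorem F397224 : act 2 n195528 = n138211 := d3_1 D195528 (iv6 D138211) (iv2 F202573)
theorem F397225 : act 3 n195528 = n105654 := d7_1 D195528 (iv6 D105654) D105652
theorem F397226 : act 4 n195528 = n136241 := d10_1 D195528 (iv6 D136241) (iv4 F162245)
theorem F397227 : act 5 n195528 = n106580 := d12_1 D195528 F336163 (iv5 F336165) (iv6 F227570) F227569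
theorem F397228 : act 7 n195528 = n132565 := d14_2 (iv7 F202555) D195528 F212786 F221401 (iv6 D138225)
theorem F397229 : act 0 n195528 = n113868 := d21_4 (iv5 F365572) F227572 F227569 D195528 (iv6 D113868) (iv5 D52574) D52571 D113855 F328478 F365571
def n195529 : Q := act 3 n105653
theorem D195529 : act 3 n105653 = n195529 := rfl
theorem F397230 : act 4 n195529 = n136239 := d5_2 D105653 D195529 (iv3 D136239) (iv4 F162245) (iv3 D105652)
theorem F397231 : act 7 n195529 = n138221 := d8_2 (iv7 F202556) D195529 F221390
theorem F397232 : act 0 n137803 = n195529 := d20_7 F48640 (iv1 F48572) D64058 D136253 F354501 (iv3 F220540) (iv4 F221044) F397230 (iv3 D136239) (iv1 F99639)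
def n195530 : Q := act 6 n105653
theorem D195530 : act 6 n105653 = n195530 := rfl
theorem F397233 : act 2 n195530 = n132576 := d3_1 D195530 F212803 (iv2 F202568)
theorem F397234 : act 4 n195530 = n105654 := d10_1 D195530 (iv6 D105654) D105653
theorem F397235 : act 7 n132569 = n195530 := d11_0 F397234 (iv7 F202549) D132569
theorem F397236 : act 1 n141304 = n195530 := d18_6 (iv1 D60697) (iv4 F95285) D129106 F213967 F213964 (iv4 F224325) F397234 (iv0 F162249) F103857
def n195531 : Q := act 0 n105658
theorem D195531 : act 0 n105658 = n195531 := rfl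
theorem F397237 : act 4 n195531 = n137500 := d18_3 (iv1 F379531) F356962 D195531 F365070 F148004 (iv0 F346178) (iv4 D95930) D95928 D190353
theorem F397238 : act 6 n195531 = n189718 := d21_5 F49650 F40055 D48845 D105658 D195531 F377516 (iv1 F250177) F346852 (iv6 D67559) F49655
theorem F397239 : act 2 n189719 = n195531 := d3_3 F397238 (iv2 D189718) D189719
def n195532 : Q := act 1 n105658
theorem D195532 : act 1 n105658 = n195532 := rfl
theorem F397240 : act 1 n195532 = n194991 := d15_1 D195532 F395328 F172128
theorem F397241 : act 7 n195532 = n189719 := d15_2 (iv0 D195531) D195532 F397239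
theorem F397242 : act 3 n189722 = n195532 := d8_3 F397241 F377520 D189722
theorem F397243 : act 4 n137501 = n195532 := d11_3 F397241 F377521 (iv7 F365073)
def n195533 : Q := act 5 n105658
theorem D195533 : act 5 n105658 = n195533 := rfl
theorem F397244 : act 2 n195533 = n194932 := d2_1 D195533 F395066 F172128
theorem F397245 : act 3 n195533 = n142492 := d6_1 D195533 (iv5 D142492) (iv3 F162251)
theorem F397246 : act 6 n195533 = n105661 := d12_2 D105658 D195533 (iv5 D105661) (iv6 D48846) D48845
theorem F397247 : act 4 n195533 = n128884 := d16_4 (iv4 F379594) (iv5 D190371) F356962 D195533 F362255 (iv4 F332632) F355241 (iv7 F275657) F355242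
theorem F397248 : act 7 n195533 = n194990 := d16_8 (iv4 F362266) F362262 (iv4 F347576) (iv5 F251089) (iv4 F379594) (iv5 D190371) F356962 D195533 (iv2 D194990)
theorem F397249 : act 1 n194989 = n195533 := d15_1 D194989 F397248 (iv2 D194990)
theorem F397250 : act 0 n194937 = n195533 := d21_4 (iv5 D48450) D48447 D104786 D194937 F397246 (iv5 D105661) D105659 F336180 (iv6 F355933) (iv1 D104792)
def n195534 : Q := act 7 n105658
theorem D195534 : act 7 n105658 = n195534 := rfl
theorem F397251 : act 2 n195534 = n194991 := d4_1 D195534 F395328 F172128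
theorem F397252 : act 3 n195534 = n142493 := d8_1 D195534 (iv7 D142493) (iv3 F162251)
theorem F397253 : act 4 n195534 = n189986 := d11_1 D195534 F378453 F356962
theorem F397254 : act 5 n195534 = n194990 := d13_1 D195534 (iv7 F397248) (iv5 D195533)
theorem F397255 : act 6 n195534 = n127112 := d14_1 D195534 (iv7 D127112) (iv6 D59664) (iv7 F76917) D105658
theorem F397256 : act 1 n194991 = n195531 := d15_0 (iv0 D195531) D195534 F397251
theorem F397257 : act 0 n189719 = n195534 := d19_0 F397254 F395324 (iv3 F354369) F354367 (iv5 D61132) (iv4 D28961) D28960 (iv1 F207734) (iv5 F321374) (iv4 F323001) (iv3 F383363) F383365 F332323 F166374 F321111 D175978 F326299 (iv4 F292459) (iv3 F377520)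
def n195535 : Q := act 3 n105660
theorem D195535 : act 3 n105660 = n195535 := rfl
theorem F397258 : act 2 n195535 = n136304 := d0_1 D195535 (iv3 D136304) (iv2 F99680) (iv3 F336177) (iv2 F172132)
theorem F397259 : act 4 n195535 = n141157 := d5_2 F162252 D195535 (iv3 D141157) (iv4 D66213) (iv3 F111462)
theorem F397260 : act 7 n195535 = n141283 := d8_2 (iv7 F162253) D195535 (iv3 D141283)
theorem F397261 : act 0 n192193 = n195535 := d20_4 (iv4 F344557) (iv1 D99834) (iv4 F153709) (iv3 F385941) (iv3 D195535) (iv4 F162252) (iv1 D63960) (iv4 F95003) (iv3 F328446) (iv1 F344538)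
theorem F397262 : act 5 n195329 = n195535 := d19_1 (iv1 F396726) F397259 (iv3 D141157) F162111 D110859 F329657 F97784 (iv1 F77902) (iv5 F77904) (iv4 F95003) (iv3 F328446) (iv1 F344538) F344540 F81559 F39445 (iv1 F39359) (iv5 F171331) D50486 D109444
def n195536 : Q := act 5 n105660
theorem D195536 : act 5 n105660 = n195536 := rfl
theorem F397263 : act 2 n195536 = n111967 := d2_1 D195536 (iv5 F336178) (iv2 F172132)
theorem F397264 : act 3 n195536 = n195329 := d6_1 D195536 F397262 (iv3 D195535)
theorem F397265 : act 7 n195536 = n125660 := d13_2 (iv7 F162253) D195536 F355934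
theorem F397266 : act 0 n195536 = n125659 := d17_2 (iv1 F172136) D195536 (iv5 F349543) F209109 F96489 F172146 F96592 F80763 (iv4 F172135)
theorem F397267 : act 1 n195536 = n125658 := d17_6 (iv1 F97600) (iv5 F164635) F164636 F164601 F162252 D195536 F349594 F209112 F182962
theorem F397268 : act 4 n125524 = n195536 := d16_0 (iv5 D195536) (iv4 F162252) (iv5 F164601) (iv4 F211676) (iv5 F360473) (iv4 D125682) (iv5 D58853) (iv7 F92880) D125524
def n195537 : Q := act 6 n105660
theorem D195537 : act 6 n105660 = n195537 := rfl
theorem F397269 : act 4 n195537 = n133386 := d10_1 D195537 F214443 F162252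
theorem F397270 : act 0 n195537 = n132640 := d21_10 (iv5 F226861) (iv1 F247460) (iv5 D157242) (iv6 F112214) F182893 F209115 (iv5 F349594) (iv1 F397267) (iv5 D195536) D195537
theorem F397271 : act 0 n144001 = n195537 := d21_4 F357172 F357173 (iv5 D144000) D144001 (iv6 D195537) D195536 F397266 (iv5 F349543) (iv6 F226946) F226949
def n195538 : Q := act 4 n105661
theorem D195538 : act 4 n105661 = n195538 := rfl
theorem F397272 : act 6 n195538 = n128884 := d10_2 F397246 D195538 (iv4 F397247)
theorem F397273 : act 7 n195538 = n125824 := d11_2 (iv7 F349589) D195538 F219306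
theorem F397274 : act 0 n195538 = n125558 := d18_2 (iv1 F344597) D195538 (iv4 F349587) (iv5 D130554) F95731 (iv0 F168045) D129614 F209120 (iv5 F349563)
theorem F397275 : act 3 n195538 = n108904 := d20_3 (iv4 F219309) (iv1 F344597) D195538 (iv1 F168910) (iv3 F176378) F360213 (iv1 F360214) (iv4 F202278) (iv3 D125762) (iv1 F201931)
theorem E103629 : n125827 = n108904 := ((c8_2 (iv7 F397273) F397275 (iv7 D125827) D125824)).symm
theorem F397276 : act 2 n108904 = n58923 := (sb E103629 F202333)
theorem F397277 : act 7 n108904 = n58922 := (sb E103629 (iv7 D125827))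
theorem E103630 : n113341 = n108905 := (c15_4 F168915 F168910 F397277 (iv2 F355954))
theorem F397278 : act 2 n108905 = n58922 := (sb E103630 F355954)
theorem F397279 : act 6 n108905 = n52313 := (sb E103630 (iv6 D113341))
theorem F397280 : act 7 n108905 = n58923 := (sb E103630 F355955)
def n195539 : Q := act 3 n105664
theorem D195539 : act 3 n105664 = n195539 := rfl
theorem F397281 : act 5 n195539 = n190604 := d6_2 F377935 D195539 F380269
theorem F397282 : act 6 n195539 = n188870 := d7_2 (iv6 F165086) D195539 F375088
theorem F397283 : act 2 n194618 = n195539 := d3_3 F397282 F375092 D194618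
theorem F397284 : act 0 n143977 = n195539 := d21_4 D144045 (iv1 F331464) (iv5 D143976) D143977 F397282 F375086 (iv1 F373237) D190494 F379903 (iv1 F182835)
def n195540 : Q := act 6 n105666
theorem D195540 : act 6 n105666 = n195540 := rfl
theorem F397285 : act 2 n195540 = n126820 := d3_1 D195540 (iv6 D126820) F179779
theorem F397286 : act 3 n195540 = n105668 := d7_1 D195540 (iv6 D105668) D105666
theorem F397287 : act 5 n195540 = n131805 := d12_1 D195540 F211695 (iv5 D132164) D132165 F211700
theorem F397288 : act 0 n127069 = n195540 := d19_0 F397287 (iv4 F213986) (iv3 F363885) (iv1 D105318) F76627 (iv4 F70043) (iv3 F70750) F74041 D47370 (iv4 F327386) F297339 F297000 (iv5 D37477) (iv4 F58360) (iv3 F125813) D170729 (iv5 F332377) F204305 (iv3 F204303)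
def n195541 : Q := act 3 n105667
theorem D195541 : act 3 n105667 = n195541 := rfl
theorem F397289 : act 0 n195541 = n112018 := d20_4 F172135 (iv1 F80763) D105667 D195541 (iv3 D112018) (iv4 F99693) F99694 (iv4 F93037) (iv3 F336179) (iv1 F172137)
theorem F397290 : act 5 n111996 = n195541 := d17_1 (iv1 F174076) F397289 F174121 (iv4 F81961) D112533 (iv0 F181948) F181947 F175078 (iv4 F169338)
theorem F397291 : act 1 n195541 = n115643 := d17_8 (iv1 F175007) (iv5 D65538) D65535 (iv5 F180017) (iv4 F180019) F169717 D111996 F397290 (iv4 D115643)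
def n195542 : Q := act 5 n105667
theorem D195542 : act 5 n105667 = n195542 := rfl
theorem F397292 : act 3 n195542 = n111996 := d6_1 D195542 F397290 (iv3 D195541)
theorem F397293 : act 1 n195542 = n112001 := d17_6 (iv1 F96491) (iv5 F164202) F164201 F96592 D105667 D195542 (iv5 F349529) F211353 F182965
def n195543 : Q := act 6 n105667
theorem D195543 : act 6 n105667 = n195543 := rfl
theorem F397294 : act 4 n195543 = n105668 := d10_1 D195543 (iv6 D105668) D105667
theorem F397295 : act 0 n143993 = n195543 := d18_2 F176255 (iv4 F226650) F397294 F162265 D131806 F211206 F96426 D106656 (iv5 F176158)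
def n195544 : Q := act 4 n105669
theorem D195544 : act 4 n105669 = n195544 := rfl
theorem F397296 : act 2 n195544 = n126866 := d1_1 D195544 (iv4 D126866) (iv2 F162267)
theorem F397297 : act 6 n195544 = n127092 := d10_2 (iv6 F162269) D195544 (iv4 D127092)
theorem F397298 : act 7 n195544 = n126869 := d11_2 (iv7 F162270) D195544 (iv4 D126869)
theorem F397299 : act 1 n195544 = n129671 := d18_6 (iv1 D30382) (iv4 F48817) D64537 F102075 D105669 D195544 (iv4 F217857) F217861 (iv5 D64549)
theorem F397300 : act 0 n195544 = n129850 := d20_1 D195544 (iv4 F216294) F216293 F164636 F164599 (iv4 F216413) F342843 (iv4 F342837) F207865 F166230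
def n195545 : Q := act 6 n105687
theorem D195545 : act 6 n105687 = n195545 := rfl
theorem F397301 : act 3 n195545 = n105698 := d7_1 D195545 (iv6 D105698) (iv3 F162305)
theorem F397302 : act 7 n195545 = n149210 := d14_2 F180005 D195545 (iv6 D149210) (iv7 F234426) F361273
theorem F397303 : act 5 n117196 = n195545 := d21_8 (iv5 D65716) D65712 (iv5 F182083) F319634 F115238 D160239 F253030 F230427 (iv6 D195545) (iv1 F181942)
def n195546 : Q := act 1 n105688
theorem D195546 : act 1 n105688 = n195546 := rfl
def n195547 : Q := act 5 n105688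
theorem D195547 : act 5 n105688 = n195547 := rfl
theorem F397304 : act 3 n195547 = n105702 := d6_1 D195547 (iv5 D105702) (iv3 F162306)
theorem F397305 : act 6 n195547 = n117196 := d12_2 D105688 D195547 F397303 (iv6 D195545) (iv5 D105687)
theorem F397306 : act 0 n195547 = n146036 := d18_0 F229274 F353340 F244500 F131175 (iv4 F239938) (iv0 F350024) F349435 (iv0 F363489) D195547
theorem E103631 : n195546 = n141534 := (c17_9 (iv1 D115462) (iv5 D53261) D53258 (iv5 F336248) F336249 (iv5 F360613) (iv0 F397306) (iv5 D195547) D195546 (iv4 F360638))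
theorem F397307 : act 0 n141534 = n105688 := (sb E103631 (iv1 D195546))
def n195548 : Q := act 1 n105691
theorem D195548 : act 1 n105691 = n195548 := rfl
theorem F397308 : act 7 n195548 = n115451 := d15_2 (iv0 F396943) D195548 F396944
theorem F397309 : act 4 n195548 = n115239 := d18_7 (iv1 F330606) F330607 (iv1 F336235) F179978 (iv5 F336232) F179944 D195548 (iv0 D115239) D115242
theorem F397310 : act 2 n115456 = n195548 := d1_3 F397309 F218820 D115456
theorem F397311 : act 6 n108054 = n195548 := d10_0 F397309 F336207 (iv4 F167049)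
theorem F397312 : act 5 n195419 = n195548 := d18_4 F397117 (iv4 F385944) (iv1 F385948) (iv4 F396952) F397309 (iv0 D115239) F83970 D105618 D195478
def n195549 : Q := act 2 n105691
theorem D195549 : act 2 n105691 = n195549 := rfl
theorem F397313 : act 3 n195549 = n136315 := d0_2 D105691 D195549 F219381 F336190 F173684
theorem F397314 : act 1 n195549 = n115456 := d15_0 (iv0 F180000) F179998 D195549
theorem F397315 : act 1 n115451 = n195549 := d15_0 F397314 (iv7 F396941) (iv2 F396944)
theorem F397316 : act 0 n112019 = n137487 := d20_7 (iv4 F347243) (iv1 F220529) (iv4 F103034) (iv3 F179761) (iv1 F397314) F397313 F219382 (iv4 F396689) F396690 (iv1 F347273)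
theorem F397317 : act 6 n195549 = n136314 := d21_5 (iv5 D108022) (iv1 F97589) (iv5 F167166) (iv6 F336210) (iv1 F397314) (iv5 D136314) (iv1 F336189) F215920 (iv6 D111206) (iv1 F166945)
def n195550 : Q := act 5 n105691
theorem D195550 : act 5 n105691 = n195550 := rfl
theorem F397318 : act 3 n195550 = n105692 := d6_1 D195550 (iv5 D105692) D105691
def n195551 : Q := act 6 n105691
theorem D195551 : act 6 n105691 = n195551 := rfl
theorem F397319 : act 2 n195551 = n136314 := d3_1 D195551 (iv6 F397317) (iv2 D195549)
theorem F397320 : act 3 n195551 = n105693 := d7_1 D195551 (iv6 D105693) D105691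
theorem F397321 : act 5 n195551 = n136313 := d21_6 (iv5 D49909) D49906 D108054 F397311 (iv1 D195548) D195551 F340502 F219383 (iv6 D113093) F82525
def n195552 : Q := act 0 n105692
theorem D195552 : act 0 n105692 = n195552 := rfl
theorem F397322 : act 5 n195552 = n116868 := d17_3 F179964 D105692 D195552 (iv4 D116868) F180720 F225634 (iv5 D31215) D31212 D67028
theorem F397323 : act 4 n195552 = n188497 := d18_1 D195552 F373713 (iv4 F353518) (iv5 D141354) (iv4 F102838) (iv0 D66912) D66914 (iv0 F102872) D105692
theorem F397324 : act 1 n105709 = n195552 := d15_0 (iv0 D195552) (iv7 F224351) F224350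
theorem F397325 : act 7 n145505 = n195552 := d13_0 F397322 F182593 D145505
def n195553 : Q := act 1 n105692
theorem D195553 : act 1 n105692 = n195553 := rfl
theorem F397326 : act 1 n195553 = n105709 := d15_1 D195553 (iv7 F224369) F224368
theorem F397327 : act 5 n195553 = n139800 := d17_7 (iv1 D30748) D30751 F162318 (iv5 D48864) D48863 D105692 D195553 F222993 (iv4 D65630)
theorem F397328 : act 2 n145505 = n195553 := d2_3 F397327 (iv2 F222995) D145505
theorem F397329 : act 3 n195389 = n195553 := d6_3 F397327 (iv3 F222996) D195389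
def n195554 : Q := act 4 n105692
theorem D195554 : act 4 n105692 = n195554 := rfl
theorem F397330 : act 2 n195554 = n107587 := d1_1 D195554 (iv4 F224370) F224368
theorem F397331 : act 5 n195554 = n107586 := d9_2 D105692 D195554 (iv4 F174301) F174302 (iv4 D105711) (iv5 D48869) D48868 D105709 (iv4 F170600) (iv5 D110343) F80272 F162323 (iv4 D105697) (iv5 D48864) D48863
theorem F397332 : act 1 n195554 = n139827 := d18_6 (iv1 D48834) F37129 D23825 D48863 D105692 D195554 (iv4 D139827) F162321 (iv5 D105631)
theorem F397333 : act 3 n177674 = n195554 := d6_3 F397331 (iv3 F165995) (iv5 F346469)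
def n195555 : Q := act 6 n105692
theorem D195555 : act 6 n105692 = n195555 := rfl
theorem F397334 : act 2 n195555 = n111205 := d3_1 D195555 (iv6 F336192) F224368
theorem F397335 : act 5 n195555 = n111204 := d12_1 D195555 (iv6 F215917) (iv5 F364295) (iv6 D105693) D105692
def n195556 : Q := act 6 n105697
theorem D195556 : act 6 n105697 = n195556 := rfl
theorem F397336 : act 3 n195556 = n109565 := d7_1 D195556 (iv6 D109565) (iv3 F162316)
theorem F397337 : act 4 n195556 = n105698 := d10_1 D195556 (iv6 D105698) D105697
theorem F397338 : act 7 n195556 = n149215 := d14_2 F173669 D195556 (iv6 D149215) (iv7 F234430) F361276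
def n195557 : Q := act 4 n105702
theorem D195557 : act 4 n105702 = n195557 := rfl
theorem F397339 : act 6 n195557 = n117197 := d10_2 (iv6 F317977) D195557 (iv4 D117197)
theorem F397340 : act 7 n195557 = n164338 := d11_2 F315935 D195557 F353541
theorem F397341 : act 5 n195557 = n119209 := d16_1 D195557 F363999 (iv5 D115921) (iv4 F162168) (iv5 F396824) F396826 F315681 (iv7 F315938) F224378
def n195558 : Q := act 5 n105708
theorem D195558 : act 5 n105708 = n195558 := rfl
theorem F397342 : act 3 n195558 = n105709 := d6_1 D195558 (iv5 D105709) D105708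
theorem F397343 : act 7 n195558 = n111206 := d13_2 F336191 D195558 (iv5 F215920)
theorem F397344 : act 4 n195558 = n128563 := d19_2 F169248 D195558 F206786 F95027 (iv5 D49452) (iv4 D24136) F18503 D11337 F18510 (iv4 F9949) F9948 F9997 (iv5 D2678) D2677 (iv3 F8217) D11624 D24576 D50422 D109267
theorem F397345 : act 0 n195353 = n195558 := d20_4 (iv4 F81738) F81740 (iv4 F162064) (iv3 F396808) F397342 (iv4 F170600) (iv1 F353477) (iv4 D139827) F101372 F82279
def n195559 : Q := act 6 n105708
theorem D195559 : act 6 n105708 = n195559 := rfl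
theorem F397346 : act 3 n195559 = n105710 := d7_1 D195559 (iv6 D105710) D105708
theorem F397347 : act 4 n195559 = n193612 := d10_1 D195559 (iv6 F390454) F225276
theorem F397348 : act 7 n195559 = n195367 := d14_2 F336191 D195559 (iv6 D195367) F162077 D133995
theorem F397349 : act 0 n195559 = n144431 := d20_1 (iv4 F397347) (iv4 F397012) F385932 (iv1 D192191) (iv3 D99831) (iv4 D46626) D46624 (iv4 F74597) D102021 D193612
def n195560 : Q := act 6 n105709
theorem D195560 : act 6 n105709 = n195560 := rfl
theorem F397350 : act 4 n195560 = n164521 := d10_1 D195560 F361255 F170600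
def n195561 : Q := act 0 n105710
theorem D195561 : act 0 n105710 = n195561 := rfl
theorem F397351 : act 4 n195561 = n153550 := d18_3 (iv1 F319706) (iv4 F162329) D195561 F241347 F200479 (iv0 F279496) (iv4 D85982) F131908 F319580
theorem F397352 : act 1 n179937 = n195561 := d15_0 (iv0 D195561) F317376 (iv2 F280245)
def n195562 : Q := act 5 n105710
theorem D195562 : act 5 n105710 = n195562 := rfl
theorem F397353 : act 1 n195562 = n153565 := d17_6 F185561 (iv5 D54442) D54440 F317377 (iv4 F162329) D195562 (iv5 D153565) D153563 F241373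
def n195563 : Q := act 3 n105711
theorem D195563 : act 3 n105711 = n195563 := rfl
theorem F397354 : act 2 n195563 = n109563 := d0_1 D195563 (iv3 D109563) F81407 D111846 (iv2 F173689)
theorem F397355 : act 5 n195563 = n109873 := d6_2 F174302 D195563 (iv3 F174300)
theorem F397356 : act 6 n195563 = n149222 := d7_2 (iv6 F317369) D195563 (iv3 D149222)
theorem F397357 : act 7 n195563 = n157641 := d8_2 F224374 D195563 F248410
theorem F397358 : act 0 n127447 = n195563 := d20_4 F104652 (iv1 F51029) (iv4 F94316) D127447 (iv3 D195563) (iv4 D105711) F162319 D65641 F101375 D68456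
theorem F397359 : act 1 n157642 = n195563 := d15_0 (iv0 F397358) F204860 D157642
def n195564 : Q := act 0 n105726
theorem D195564 : act 0 n105726 = n195564 := rfl
theorem F397360 : act 5 n195564 = n139833 := d17_1 D195564 (iv1 F224595) (iv5 F379395) F379394 F223032 F353477 (iv5 D110343) D110341 (iv4 F170588)
theorem F397361 : act 2 n112149 = n195564 := d15_3 (iv0 D195564) (iv0 F170058) (iv7 F174375)
theorem F397362 : act 1 n127611 = n195564 := d15_0 (iv0 D195564) F162367 (iv2 F205176)
theorem F397363 : act 7 n195564 = n127613 := d15_2 (iv0 F205178) F397362 (iv2 F205181)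
theorem F397364 : act 3 n155955 = n195564 := d8_3 F397363 (iv3 F244985) F244983
theorem F397365 : act 6 n194931 = n195564 := d14_5 F397363 F353239 (iv7 F349835) F395301 F395298
def n195565 : Q := act 6 n105726
theorem D195565 : act 6 n105726 = n195565 := rfl
theorem F397366 : act 2 n195565 = n158859 := d3_1 D195565 (iv6 F379384) F379378
theorem F397367 : act 3 n195565 = n127625 := d7_1 D195565 (iv6 D127625) (iv3 F162366)
theorem F397368 : act 5 n195565 = n193951 := d12_1 D195565 (iv6 D193951) (iv5 F353157) (iv6 D105727) D105726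
theorem F397369 : act 7 n195565 = n158858 := d14_2 (iv7 F162367) D195565 (iv6 F364271) (iv7 F334006) (iv6 D127614)
theorem F397370 : act 0 n195565 = n158860 := d21_4 (iv5 F205110) (iv1 D105725) D105726 D195565 F250113 D158902 (iv1 F250193) (iv5 F250817) D188478 F373625
theorem F397371 : act 0 n158811 = n195565 := d21_4 F159070 (iv1 F350171) (iv5 D176551) (iv6 F250037) (iv6 D195565) (iv5 D105726) (iv1 F317381) D189946 F378334 (iv1 F350169)
def n195566 : Q := act 6 n105745
theorem D195566 : act 6 n105745 = n195566 := rfl
theorem F397372 : act 2 n195566 = n127344 := d3_1 D195566 (iv6 D127344) (iv2 F162383)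
theorem F397373 : act 3 n195566 = n113739 := d7_1 D195566 (iv6 D113739) (iv3 F162384)
theorem F397374 : act 4 n195566 = n146456 := d10_1 D195566 (iv6 D146456) F162388
theorem F397375 : act 5 n195566 = n189770 := d12_1 D195566 F377687 (iv5 D107894) (iv6 F78782) D105745
def n195567 : Q := act 6 n105746
theorem D195567 : act 6 n105746 = n195567 := rfl
theorem F397376 : act 2 n195567 = n105821 := d3_1 D195567 (iv6 D105821) (iv2 F162389)
theorem F397377 : act 3 n195567 = n127555 := d7_1 D195567 (iv6 D127555) (iv3 F316390)
theorem F397378 : act 4 n195567 = n105747 := d10_1 D195567 (iv6 D105747) D105746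
theorem F397379 : act 5 n195567 = n146135 := d12_1 D195567 F393528 F393524 F341085 F229939
theorem F397380 : act 0 n195567 = n105831 := d21_4 D68721 D146646 F229939 D195567 (iv6 D105831) (iv5 F259391) (iv1 D80607) (iv5 F94898) F320099 F50326
theorem F397381 : act 0 n194285 = n195567 := d21_4 (iv5 F51993) D70859 D150406 (iv6 F392655) (iv6 D195567) (iv5 F229939) F322551 F320779 (iv6 F321840) (iv1 D67914)
def n195568 : Q := act 0 n105747
theorem D195568 : act 0 n105747 = n195568 := rfl
theorem F397382 : act 5 n195568 = n194512 := d17_1 D195568 (iv1 F393515) F334905 (iv4 D68509) D68510 D146107 F243257 (iv0 F397380) F397378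
theorem F397383 : act 3 n195568 = n144965 := d20_5 (iv4 F334494) (iv1 F341046) F317119 (iv3 F162394) D195568 F356606 F285097 F346305 (iv3 F323818) (iv1 D145536)
theorem F397384 : act 6 n195568 = n105818 := d21_5 (iv5 D23841) D23837 D48885 D105747 D195568 F340859 (iv1 D62848) (iv5 F50171) (iv6 D31865) (iv1 F50926)
theorem F397385 : act 2 n105833 = n195568 := d15_3 (iv0 D195568) (iv0 F341054) F364017
theorem F397386 : act 7 n195568 = n105834 := d4_2 F364017 F397385 F363913
theorem F397387 : act 1 n105832 = n195568 := d15_1 (iv0 F334900) F397386 F363913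
def n195569 : Q := act 7 n105747
theorem D195569 : act 7 n105747 = n195569 := rfl
theorem F397388 : act 2 n195569 = n105832 := d4_1 D195569 F162531 (iv2 F162393)
theorem F397389 : act 3 n195569 = n127418 := d8_1 D195569 (iv7 D127418) (iv3 F162394)
theorem F397390 : act 5 n195569 = n136615 := d13_1 D195569 F312163 F250979
theorem F397391 : act 6 n195569 = n105781 := d14_1 D195569 (iv7 D105781) (iv6 D48909) (iv7 F77013) D105747
theorem F397392 : act 1 n105834 = n195569 := d15_1 D105834 (iv7 D195569) F162393
theorem F397393 : act 1 n195569 = n105833 := d15_1 F397392 (iv7 F364017) (iv2 F363913)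
def n195570 : Q := act 6 n105748
theorem D195570 : act 6 n105748 = n195570 := rfl
theorem F397394 : act 2 n195570 = n146636 := d3_1 D195570 (iv6 D146636) (iv2 F162395)
theorem F397395 : act 3 n195570 = n188733 := d7_1 D195570 (iv6 D188733) (iv3 F162396)
theorem F397396 : act 5 n195570 = n118869 := d12_1 D195570 (iv6 D118869) (iv5 D54710) F77045 D105748
def n195571 : Q := act 4 n105749
theorem D195571 : act 4 n105749 = n195571 := rfl
theorem F397397 : act 2 n195571 = n146362 := d1_1 D195571 (iv4 D146362) (iv2 F162401)
theorem F397398 : act 7 n195571 = n146635 := d11_2 (iv7 F162403) D195571 (iv4 D146635)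
theorem F397399 : act 0 n195571 = n159673 := d17_0 (iv5 F350015) (iv1 F350017) F326863 F221220 F193612 F88624 D67895 (iv0 F162404) D195571
theorem F397400 : act 1 n195571 = n148798 := d18_6 (iv1 F50301) F50299 (iv1 F41540) F77050 D105749 D195571 (iv4 D148798) F106127 F76637
def n195572 : Q := act 6 n105749
theorem D195572 : act 6 n105749 = n195572 := rfl
theorem F397401 : act 2 n195572 = n146363 := d3_1 D195572 (iv6 D146363) (iv2 F162401)
theorem F397402 : act 3 n195572 = n113617 := d7_1 D195572 (iv6 D113617) (iv3 F162402)
theorem F397403 : act 5 n195572 = n105865 := d12_1 D195572 (iv6 D105865) (iv5 D48942) (iv6 F77053) D105749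
def n195573 : Q := act 3 n105751
theorem D195573 : act 3 n105751 = n195573 := rfl
theorem F397404 : act 0 n143281 = n195573 := d20_4 (iv4 D143094) (iv1 F103041) D67124 D143281 (iv3 D195573) (iv4 D105751) (iv1 F88619) D121371 (iv3 F221097) (iv1 F225948)
def n195574 : Q := act 6 n105751
theorem D195574 : act 6 n105751 = n195574 := rfl
theorem F397405 : act 2 n195574 = n189904 := d3_1 D195574 (iv6 F378177) F324056
theorem F397406 : act 4 n195574 = n105752 := d10_1 D195574 (iv6 D105752) D105751
theorem F397407 : act 0 n195574 = n110787 := d21_4 D105331 F363452 (iv5 F363451) D195574 F364222 (iv5 F293578) (iv1 D96455) (iv5 F293583) F363447 (iv1 D105329)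
theorem F397408 : act 1 n195574 = n143147 := d15_1 (iv0 F397407) (iv7 F391876) F391872
def n195575 : Q := act 0 n105754
theorem D195575 : act 0 n105754 = n195575 := rfl
theorem F397409 : act 5 n195575 = n105783 := d17_1 D195575 (iv1 F162468) D105796 F340833 (iv5 F363446) (iv0 D105328) D105331 D195146 F395970
theorem F397410 : act 6 n195575 = n144494 := d21_5 (iv5 D143577) (iv1 F348233) (iv5 F221890) (iv6 F322237) D195575 F333259 (iv1 F396289) (iv5 F396292) (iv6 F334432) F226270
theorem F397411 : act 2 n124944 = n195575 := d15_3 (iv0 D195575) F321488 F243240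
theorem F397412 : act 1 n105766 = n195575 := d15_0 (iv0 D195575) F321490 (iv2 F321483)
theorem F397413 : act 7 n195575 = n124943 := d15_2 (iv0 F321482) F397412 (iv2 F243242)
def n195576 : Q := act 3 n105760
theorem D195576 : act 3 n105760 = n195576 := rfl
theorem F397414 : act 4 n195576 = n127420 := d5_2 D105760 D195576 (iv3 D127420) (iv4 D59847) (iv3 F77069)
theorem F397415 : act 7 n195576 = n127475 := d8_2 (iv7 F162417) D195576 (iv3 D127475)
theorem F397416 : act 0 n114860 = n195576 := d20_7 (iv4 D34385) (iv1 F50989) D32114 (iv3 F81315) (iv1 F82846) (iv3 F176825) F354601 F397414 (iv3 D127420) F94288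
def n195577 : Q := act 5 n105760
theorem D195577 : act 5 n105760 = n195577 := rfl
theorem F397417 : act 2 n195577 = n146339 := d2_1 D195577 F229678 (iv2 F162416)
theorem F397418 : act 7 n195577 = n127476 := d13_2 (iv7 F162417) D195577 (iv5 D127476)
theorem F397419 : act 0 n195577 = n117314 := d17_2 (iv1 F162419) D195577 (iv5 D117314) (iv4 D54069) (iv5 D26156) F20672 D15070 F41512 D54080
theorem F397420 : act 1 n195577 = n117305 := d17_6 F55380 F50103 (iv1 F50928) D48896 D105760 D195577 (iv5 D117305) F314505 F312200
def n195578 : Q := act 7 n105761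
theorem D195578 : act 7 n105761 = n195578 := rfl
theorem F397421 : act 3 n195578 = n105770 := d8_1 D195578 (iv7 D105770) (iv3 F162420)
theorem F397422 : act 4 n195578 = n146962 := d11_1 D195578 F233611 F233610
theorem F397423 : act 6 n195578 = n145994 := d14_1 D195578 F353434 (iv6 D144874) F103990 D105761
theorem F397424 : act 1 n111256 = n195578 := d15_1 F364977 (iv7 D195578) (iv2 F227870)
theorem F397425 : act 1 n195578 = n117196 := d15_1 F397424 F230345 F331663
def n195579 : Q := act 4 n105762
theorem D195579 : act 4 n105762 = n195579 := rfl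
theorem F397426 : act 2 n195579 = n106237 := d1_1 D195579 (iv4 D106237) (iv2 F162421)
theorem F397427 : act 7 n195579 = n106233 := d11_2 (iv7 F162423) D195579 (iv4 D106233)
def n195580 : Q := act 1 n105778
theorem D195580 : act 1 n105778 = n195580 := rfl
theorem F397428 : act 1 n195580 = n105820 := d15_1 D195580 (iv7 D105820) (iv2 F162451)
theorem F397429 : act 7 n195580 = n105817 := d15_2 (iv0 F184244) D195580 (iv2 F184247)
theorem F397430 : act 5 n195580 = n133819 := d17_7 (iv1 F312178) F312180 (iv1 F259460) (iv5 D119544) F162698 (iv5 F316388) D195580 F215475 (iv4 F311400)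
theorem F397431 : act 4 n195580 = n159001 := d17_9 (iv1 F250338) F183891 (iv1 F232327) D55002 F323391 (iv5 F306066) F162697 (iv5 F316388) D195580
theorem F397432 : act 3 n124510 = n195580 := d20_3 D181686 (iv1 F354311) F341963 (iv1 D195580) (iv3 F341005) (iv4 F341007) (iv1 F364480) (iv4 F364479) F248100 F310632
theorem F397433 : act 6 n105833 = n195580 := d21_3 (iv5 F322412) F364018 F364016 (iv1 D195580) (iv6 D105778) D105777 (iv1 F183900) (iv5 D117413) D117414 (iv1 F315421)
theorem F397434 : act 2 n195580 = n105818 := d3_1 F397433 (iv6 F397384) (iv2 F397385)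
def n195581 : Q := act 3 n105779
theorem D195581 : act 3 n105779 = n195581 := rfl
theorem F397435 : act 2 n195581 = n147741 := d0_1 D195581 (iv3 D147741) (iv2 F233775) (iv3 D105823) (iv2 F233791)
theorem F397436 : act 7 n195581 = n105828 := d8_2 (iv7 F233792) D195581 (iv3 D105828)
theorem F397437 : act 4 n195581 = n146790 := d20_6 (iv4 F317850) F317847 F94370 (iv3 F77116) D105779 D195581 (iv1 F230153) (iv4 D69599) (iv3 F229476) F229475
theorem F397438 : act 1 n184777 = n195581 := d17_8 (iv1 F230153) D148516 F372343 (iv5 F372337) F357703 (iv5 D88110) D88109 D184777 F397437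
theorem F397439 : act 0 n117105 = n195581 := d18_0 F397437 (iv1 F230153) (iv4 D69599) (iv5 F130867) D33937 (iv0 F130780) (iv4 F162736) (iv0 F184567) (iv5 F183161)
def n195582 : Q := act 4 n105779
theorem D195582 : act 4 n105779 = n195582 := rfl
theorem F397440 : act 2 n195582 = n105824 := d1_1 D195582 (iv4 D105824) (iv2 F233791)
theorem F397441 : act 7 n195582 = n105829 := d11_2 (iv7 F233792) D195582 (iv4 D105829)
theorem F397442 : act 5 n195582 = n130878 := d16_7 (iv4 F247312) F312180 D155316 F335014 (iv4 F337033) F264586 D195582 (iv7 F252504) F252503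
theorem F397443 : act 1 n195582 = n146366 := d18_6 (iv1 F313520) F313521 (iv1 F252506) (iv4 F337033) F264586 D195582 F229698 (iv0 F232271) F312301
theorem F397444 : act 3 n195582 = n130880 := d19_3 D167915 F264586 D195582 (iv1 F354313) (iv5 D181684) (iv4 F301406) F90345 F298740 D37487 F327075 (iv3 F99039) (iv1 F99063) D135489 (iv4 F217890) F332351 D128229 F206361 F205995 F188342
def n195583 : Q := act 4 n105780
theorem D195583 : act 4 n105780 = n195583 := rfl
theorem F397445 : act 2 n195583 = n105829 := d1_1 D195583 (iv4 D105829) (iv2 F233788)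
theorem F397446 : act 3 n195583 = n120191 := d5_1 D195583 F334587 (iv3 D69228) D69229 (iv3 F162455)
theorem F397447 : act 7 n195583 = n105824 := d11_2 (iv7 F233789) D195583 (iv4 D105824)
theorem F397448 : act 5 n195583 = n120190 := d16_1 D195583 (iv4 F247312) F312180 D155316 F335014 (iv4 F337033) F264586 F233792 (iv2 F233788)
theorem F397449 : act 0 n195583 = n146366 := d17_0 F337031 F359369 F232867 (iv4 F317131) F321843 (iv0 D48982) (iv5 F77117) D105780 D195583
theorem F397450 : act 6 n138986 = n195583 := d12_0 F397448 (iv6 F313671) (iv5 D138601) (iv6 F169665) (iv5 F222153)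
def n195584 : Q := act 6 n105780
theorem D195584 : act 6 n105780 = n195584 := rfl
theorem F397451 : act 2 n195584 = n105831 := d3_1 D195584 (iv6 D105831) (iv2 F233788)
theorem F397452 : act 3 n195584 = n124533 := d7_1 D195584 F310999 (iv3 F162455)
theorem F397453 : act 4 n195584 = n138986 := d10_1 D195584 F397450 (iv4 D195583)
theorem F397454 : act 5 n195584 = n150304 := d12_1 D195584 (iv6 D150304) (iv5 D70771) D70772 F162454
theorem F397455 : act 7 n195584 = n194285 := d14_2 (iv7 F233789) D195584 F392655 (iv7 F306306) F306305
theorem F397456 : act 0 n105821 = n195584 := d21_4 D117413 F183899 F162521 D105821 (iv6 D195584) (iv5 F162454) (iv1 F191363) F191190 F321846 F104667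
def n195585 : Q := act 0 n105805
theorem D195585 : act 0 n105805 = n195585 := rfl
theorem F397457 : act 4 n195585 = n160297 := d18_1 D195585 (iv1 F350748) F184298 F320932 (iv4 F336238) (iv0 D115630) (iv4 F179978) F336235 (iv5 F321267)
theorem F397458 : act 3 n195585 = n127537 := d20_5 (iv4 D68718) F85460 F85459 D105805 D195585 F348015 (iv1 D117544) F85488 (iv3 F85484) F317199
theorem F397459 : act 2 n144960 = n195585 := d15_3 (iv0 D195585) F349448 (iv7 F264348)
theorem F397460 : act 1 n144901 = n195585 := d15_0 (iv0 D195585) (iv7 F184120) (iv2 F349453)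
theorem F397461 : act 7 n195585 = n145054 := d15_2 (iv0 F243209) F397460 (iv2 D145054)
def n195586 : Q := act 2 n105805
theorem D195586 : act 2 n105805 = n195586 := rfl
theorem F397462 : act 3 n195586 = n147607 := d0_2 D105805 D195586 F350040 (iv3 D148800) F106128
theorem F397463 : act 4 n195586 = n153301 := d1_2 F184049 D195586 F349458
theorem F397464 : act 5 n195586 = n141534 := d2_2 (iv5 F321267) D195586 (iv2 D141534)
theorem F397465 : act 6 n195586 = n123506 := d3_2 F349463 D195586 F197928
theorem F397466 : act 7 n195586 = n144901 := d4_2 F184120 D195586 F349453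
theorem F397467 : act 1 n195586 = n145054 := d15_0 F349477 F184120 D195586
theorem F397468 : act 1 n144960 = n195586 := d15_0 F397467 (iv7 F397461) (iv2 F397459)
def n195587 : Q := act 3 n105818
theorem D195587 : act 3 n105818 = n195587 := rfl
theorem F397469 : act 2 n195587 = n124552 := d0_1 D195587 (iv3 D124552) F199157 F397432 F397434
theorem F397470 : act 5 n195587 = n133833 := d6_2 (iv5 F340859) D195587 (iv3 D133833)
theorem F397471 : act 6 n195587 = n144965 := d7_2 F397384 D195587 (iv3 F397383)
theorem F397472 : act 1 n195587 = n177028 := d15_0 (iv0 F344909) (iv7 F267908) (iv2 F397469)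
def n195588 : Q := act 2 n105828
theorem D195588 : act 2 n105828 = n195588 := rfl
theorem F397473 : act 3 n195588 = n147393 := d0_2 D105828 D195588 F233783 (iv3 F162455) F233788
theorem F397474 : act 7 n195588 = n147741 := d4_2 F397436 D195588 (iv2 F397435)
theorem F397475 : act 1 n195588 = n184777 := d15_0 F397438 F397436 D195588
theorem F397476 : act 1 n117105 = n195588 := d15_0 F397475 (iv7 F355580) F230218
theorem F397477 : act 4 n146791 = n195588 := d18_7 (iv1 D88109) F62351 (iv1 F310855) F52412 (iv5 F50379) (iv4 F105010) D146791 F397475 (iv5 D184777)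
theorem F397478 : act 6 n186946 = n195588 := d21_3 (iv5 F369009) (iv1 D186945) D186946 (iv1 F397476) (iv6 D117105) F85143 F77025 (iv5 F103989) D144874 F340878
def n195589 : Q := act 4 n105828
theorem D195589 : act 4 n105828 = n195589 := rfl
theorem F397479 : act 2 n195589 = n146791 := d1_1 D195589 F397477 (iv2 D195588)
theorem F397480 : act 7 n195589 = n146790 := d11_2 F397436 D195589 (iv4 F397437)
theorem F397481 : act 0 n195589 = n117237 := d18_2 (iv1 F234158) D195589 F183441 F85253 (iv4 F86213) F309809 F307808 (iv0 F162995) (iv5 F233284)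
theorem F397482 : act 1 n195589 = n117842 := d18_6 (iv1 F131179) D155492 (iv1 F314761) F314763 (iv5 F234156) D195589 (iv4 D117842) (iv0 D54278) D54282
def n195590 : Q := act 6 n105828
theorem D195590 : act 6 n105828 = n195590 := rfl
theorem F397483 : act 2 n195590 = n186946 := d3_1 D195590 F397478 (iv2 D195588)
theorem F397484 : act 3 n195590 = n105831 := d7_1 D195590 (iv6 D105831) D105828
theorem F397485 : act 5 n195590 = n186937 := d12_1 D195590 (iv6 F368579) (iv5 D148984) D148985 (iv5 F234156)
theorem F397486 : act 0 n145057 = n195590 := d17_2 F315632 F228003 F397485 (iv4 D186937) (iv5 D89400) F136220 (iv5 F337264) F337258 (iv4 F337277)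
def n195591 : Q := act 3 n105834
theorem D195591 : act 3 n105834 = n195591 := rfl
theorem F397487 : act 2 n195591 = n144966 := d0_1 D195591 F330015 (iv2 F180271) (iv3 F223862) (iv2 F363913)
theorem F397488 : act 4 n195591 = n146808 := d5_2 F363912 D195591 (iv3 F356591) (iv4 F339710) F233276
theorem F397489 : act 5 n195591 = n144161 := d6_2 F363915 D195591 F226864
theorem F397490 : act 6 n195591 = n191072 := d7_2 (iv6 F363914) D195591 (iv3 D191072)
theorem F397491 : act 7 n195591 = n144965 := d8_2 F397386 D195591 (iv3 F397383)
theorem F397492 : act 0 n195591 = n144964 := d20_10 F227935 (iv1 F356806) (iv4 F346300) F327712 (iv1 F183691) F334961 F334962 D146597 F363912 D195591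
theorem F397493 : act 1 n195591 = n144967 := d15_1 (iv0 F397492) (iv7 D144967) (iv2 F227934)
def n195592 : Q := act 0 n105849
theorem D195592 : act 0 n105849 = n195592 := rfl
theorem F397494 : act 5 n195592 = n121317 := d17_1 D195592 F355077 F178809 F314435 (iv5 D60406) F77361 (iv5 F184613) (iv0 D105848) D105849
theorem F397495 : act 4 n195592 = n147228 := d18_3 (iv1 F155256) D105849 D195592 F230808 (iv4 F232349) (iv0 D106074) (iv4 D49024) (iv0 F184616) (iv5 F50450)
theorem F397496 : act 3 n195592 = n121319 := d20_5 F321779 (iv1 F321821) D69521 (iv3 F162543) D195592 (iv4 F354924) F278370 (iv4 F233350) F354928 (iv1 F313074)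
theorem F397497 : act 2 n127742 = n195592 := d15_3 (iv0 D195592) F233217 (iv7 F232259)
theorem F397498 : act 1 n127739 = n195592 := d15_0 (iv0 D195592) F162544 (iv2 F205348)
theorem F397499 : act 7 n195592 = n114580 := d15_2 (iv0 F233173) F397498 F318213
theorem F397500 : act 6 n145011 = n195592 := d14_5 F397499 (iv6 D114580) (iv7 F318216) D67983 D145011
def n195593 : Q := act 4 n105853
theorem D195593 : act 4 n105853 = n195593 := rfl
theorem F397501 : act 2 n195593 = n144982 := d1_1 D195593 (iv4 D144982) (iv2 F278606)
theorem F397502 : act 3 n195593 = n116772 := d5_1 D195593 (iv4 D116772) (iv3 D53802) (iv4 F114314) D105853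
theorem F397503 : act 7 n195593 = n120108 := d11_2 (iv7 F182289) D195593 F315727
theorem F397504 : act 5 n195593 = n114799 := d17_5 F333644 F333634 (iv1 F223021) F333653 D195593 (iv0 D114799) (iv5 D52972) D52971 D114796
theorem F397505 : act 0 n195593 = n145011 := d20_1 D195593 (iv4 F314676) F222277 D139132 (iv3 F319960) F352597 F352600 F184133 F183167 (iv1 F325096)
theorem F397506 : act 0 n114406 = n195593 := d20_10 (iv4 D195593) F325095 (iv4 F227945) (iv3 F372364) F372366 F251385 F177809 (iv1 F178440) (iv4 F136459) (iv3 F178434)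
def n195594 : Q := act 4 n105864
theorem D195594 : act 4 n105864 = n195594 := rfl
theorem F397507 : act 2 n195594 = n118858 := d1_1 D195594 (iv4 D118858) (iv2 F162582)
theorem F397508 : act 7 n195594 = n118868 := d11_2 (iv7 F162584) D195594 (iv4 D118868)
theorem F397509 : act 0 n195594 = n152034 := d18_2 F252054 D195594 F366223 F114177 F77709 F55597 (iv4 F73969) (iv0 F114742) D159870
theorem F397510 : act 1 n195594 = n159332 := d18_6 (iv1 F52515) F42249 F42228 (iv4 F77178) D105864 D195594 (iv4 D159332) F114181 (iv5 D72089)
def n195595 : Q := act 7 n105865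
theorem D195595 : act 7 n105865 = n195595 := rfl
theorem F397511 : act 2 n195595 = n146574 := d4_1 D195595 F359206 (iv2 F162585)
theorem F397512 : act 3 n195595 = n106375 := d8_1 D195595 F334813 (iv3 F162586)
theorem F397513 : act 4 n195595 = n194515 := d11_1 D195595 F393527 F335038
theorem F397514 : act 6 n195595 = n146405 := d14_1 D195595 F229731 (iv6 F338205) (iv7 F77186) D105865
theorem F397515 : act 1 n151386 = n195595 := d15_1 D151386 (iv7 D195595) F162585
theorem F397516 : act 1 n195595 = n106316 := d15_1 F397515 (iv7 F396335) F396332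
def n195596 : Q := act 6 n105873
theorem D195596 : act 6 n105873 = n195596 := rfl
theorem F397517 : act 2 n195596 = n151972 := d3_1 D195596 (iv6 D151972) (iv2 F162598)
theorem F397518 : act 3 n195596 = n112923 := d7_1 D195596 (iv6 D112923) (iv3 F162599)
theorem F397519 : act 5 n195596 = n151497 := d12_1 D195596 (iv6 D151497) (iv5 D71419) (iv6 F77206) D105873
theorem F397520 : act 7 n195596 = n190522 := d14_2 F167452 D195596 F379989 (iv7 F367579) F367578
theorem E103632 : n190457 = n159988 := ((c21_5 (iv5 D76602) (iv1 D35005) D35006 (iv6 F114872) D159988 (iv6 D190457) (iv5 F147693) F364664 (iv5 F397519) (iv6 D195596) F162600)).symm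
theorem F397521 : act 3 n159988 = n96040 := (sb E103632 F379807)
theorem F397522 : act 6 n159988 = n96039 := (sb E103632 (iv6 D190457))
theorem F397523 : act 1 n190523 = n195596 := d17_6 F369304 (iv5 D94288) F294678 (iv5 F331375) (iv4 F379791) (iv5 F379990) F397519 (iv0 F364664) (iv4 F369306)
theorem F397524 : act 0 n190018 = n195596 := d19_0 F397519 (iv4 F376702) F376699 (iv1 D186140) (iv5 D88681) F63851 (iv3 D20448) D20446 (iv5 F293448) (iv4 F294576) D88978 F140420 (iv5 D86937) (iv4 F71405) F71404 (iv1 F66333) D44631 D95552 D190018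
theorem F397525 : act 1 n189498 = n190523 := d15_0 F397523 F397520 (iv2 F379987)
def n195597 : Q := act 4 n105903
theorem D195597 : act 4 n105903 = n195597 := rfl
theorem F397526 : act 2 n195597 = n152741 := d1_1 D195597 (iv4 F239941) F234147
theorem F397527 : act 6 n195597 = n105905 := d10_2 (iv6 F162632) D195597 (iv4 D105905)
theorem F397528 : act 7 n195597 = n152740 := d11_2 F315878 D195597 (iv4 F315876)
theorem F397529 : act 0 n195597 = n152321 := d18_2 (iv1 F239963) D195597 (iv4 D152321) F189221 (iv4 F389740) (iv0 F389744) F239308 (iv0 F330102) F239955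
theorem F397530 : act 1 n195597 = n152323 := d18_6 (iv1 F52434) D71861 (iv1 F191323) F120193 D105903 D195597 (iv4 D152323) F108322 F52510
def n195598 : Q := act 5 n105905
theorem D195598 : act 5 n105905 = n195598 := rfl
theorem F397531 : act 2 n195598 = n119639 := d2_1 D195598 F188681 (iv2 F162634)
theorem F397532 : act 7 n195598 = n119638 := d13_2 F162637 D195598 F188678
theorem F397533 : act 0 n195598 = n119007 := d17_2 (iv1 F162636) D195598 (iv5 D119007) (iv4 D54763) (iv5 D26481) F27017 D16032 D33213 D71870
theorem F397534 : act 1 n195598 = n117685 := d17_6 F115252 (iv5 D71943) F52478 D48962 D105905 D195598 (iv5 D117685) D117684 F184287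
def n195599 : Q := act 6 n105912
theorem D195599 : act 6 n105912 = n195599 := rfl
theorem F397535 : act 2 n195599 = n146325 := d3_1 D195599 F335901 (iv2 F162648)
theorem F397536 : act 4 n195599 = n117305 := d10_1 D195599 (iv6 F349240) (iv4 F335928)
theorem F397537 : act 5 n195599 = n117311 := d12_1 D195599 F335897 (iv5 D54068) (iv6 F77254) D105912
theorem F397538 : act 0 n195599 = n117337 := d21_10 (iv5 D117337) D117334 (iv5 F231798) (iv6 F356767) (iv1 F350246) (iv6 D150752) (iv5 D71078) (iv1 F77250) D105912 D195599
theorem F397539 : act 0 n117359 = n195599 := d21_4 (iv5 D68690) (iv1 F85327) D117323 F356765 (iv6 D195599) (iv5 D105912) (iv1 D48966) D48967 F316772 (iv1 F104895)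
theorem F397540 : act 7 n146340 = n195599 := d13_0 F397537 F183674 (iv5 F229679)
def n195600 : Q := act 6 n105913
theorem D195600 : act 6 n105913 = n195600 := rfl
theorem F397541 : act 3 n195600 = n152287 := d7_1 D195600 (iv6 D152287) F162657
theorem F397542 : act 5 n195600 = n188690 := d12_1 D195600 F375781 F250985 F166774 F166768
theorem F397543 : act 0 n187620 = n195600 := d17_2 (iv1 D187619) D187620 F397542 F374477 (iv5 D187603) (iv0 F140218) (iv5 F367471) (iv0 F384666) F384667
theorem F397544 : act 0 n118869 = n187621 := d21_4 (iv5 D76248) F55077 D54710 D118869 (iv6 D187621) D187620 F397543 F397542 F375781 (iv1 D159395)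
def n195601 : Q := act 0 n105935
theorem D195601 : act 0 n105935 = n195601 := rfl
theorem F397545 : act 4 n195601 = n120000 := d18_3 (iv1 F312928) D105935 D195601 F342592 (iv4 F247703) F312450 F133097 (iv0 F194685) F312930
theorem F397546 : act 1 n150624 = n195601 := d15_0 (iv0 D195601) (iv7 F315881) F315880
theorem F397547 : act 7 n179010 = n195601 := d11_0 F397545 F361473 (iv4 F278923)
def n195602 : Q := act 1 n105935
theorem D195602 : act 1 n105935 = n195602 := rfl
theorem F397548 : act 1 n195602 = n150624 := d15_1 D195602 (iv7 F315870) F315868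
theorem F397549 : act 4 n118846 = n195602 := d20_6 (iv4 D152752) (iv1 F239491) F239489 (iv3 F305880) F305878 D118846 (iv1 D195602) (iv4 D105935) (iv3 F162631) (iv1 F239952)
theorem F397550 : act 3 n192551 = n195602 := d20_9 (iv4 D105935) (iv1 F189965) D71051 (iv3 F318064) (iv1 F172351) (iv3 F388317) (iv4 D192953) F385369 (iv4 F387037) (iv1 D195602)
theorem F397551 : act 6 n124935 = n195602 := d21_3 D156719 (iv1 F338221) (iv5 F338219) (iv1 D195602) F162670 D105941 F162681 (iv5 D71355) (iv6 F107835) F314643
theorem F397552 : act 2 n195602 = n179010 := d3_1 F397551 (iv6 D179010) (iv2 F232991)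
def n195603 : Q := act 5 n105935
theorem D195603 : act 5 n105935 = n195603 := rfl
theorem F397553 : act 6 n195603 = n191704 := d12_2 (iv6 F162670) D195603 (iv5 D191704) (iv6 F349205) (iv5 D105941)
def n195604 : Q := act 6 n105939
theorem D195604 : act 6 n105939 = n195604 := rfl
theorem F397554 : act 2 n195604 = n155589 := d3_1 D195604 (iv6 D155589) F162678
theorem F397555 : act 3 n195604 = n123550 := d7_1 D195604 (iv6 F366479) (iv3 F365341)
theorem F397556 : act 4 n195604 = n118882 := d10_1 D195604 F186942 (iv4 F162677)
theorem F397557 : act 5 n195604 = n153530 := d12_1 D195604 (iv6 D153530) F109121 D90510 (iv5 F335917)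
theorem F397558 : act 7 n195604 = n179036 := d14_2 (iv7 F162679) D195604 F366208 F205137 (iv6 F324611)
theorem F397559 : act 0 n195604 = n150910 := d21_4 F335920 F157804 (iv5 F335917) D195604 F313382 (iv5 F330635) F330633 (iv5 D139144) (iv6 F314656) (iv1 F166785)
theorem F397560 : act 1 n195604 = n150914 := d15_1 (iv0 F397559) F362450 F327176
def n195605 : Q := act 5 n105954
theorem D195605 : act 5 n105954 = n195605 := rfl
theorem F397561 : act 2 n195605 = n106055 := d2_1 D195605 (iv5 D106055) (iv2 F162971)
theorem F397562 : act 3 n195605 = n148035 := d6_1 D195605 F337184 (iv3 F162739)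
theorem F397563 : act 4 n195605 = n139119 := d9_1 D195605 (iv5 D139119) (iv4 F222303) F232867 (iv4 F317131) F321843 D105950 (iv5 F337031) F229698 F104829 (iv4 F107858) (iv5 F337028) (iv4 F321841) (iv5 D105955) D105954
theorem F397564 : act 6 n195605 = n139133 := d12_2 (iv6 F303926) D195605 F339612 F312491 (iv5 F83678)
theorem F397565 : act 7 n195605 = n106036 := d13_2 (iv7 F162972) D195605 (iv5 D106036)
theorem F397566 : act 0 n195605 = n195583 := d17_2 F359366 D195605 F397448 (iv4 F247312) F312180 (iv0 F259461) (iv5 D119310) F310037 (iv4 F222303)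
theorem F397567 : act 1 n195605 = n195582 := d17_6 (iv1 D80607) (iv5 F94898) (iv1 F191353) (iv5 D105955) D105954 D195605 F397442 F335009 (iv4 F310076)
def n195606 : Q := act 1 n105979
theorem D195606 : act 1 n105979 = n195606 := rfl
theorem F397568 : act 1 n195606 = n149320 := d15_1 D195606 F234744 (iv2 F162772)
theorem F397569 : act 7 n195606 = n153629 := d15_2 F353447 D195606 (iv2 F337211)
theorem F397570 : act 4 n195606 = n119330 := d18_7 (iv1 F187875) (iv4 F307068) F307067 F77309 D48991 D105979 D195606 F187903 (iv5 F187873)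
theorem F397571 : act 3 n187065 = n195606 := d20_9 (iv4 D105979) D105977 (iv4 F252714) F357217 (iv1 F357215) F289402 F136280 D102272 (iv4 F369002) (iv1 D195606)
theorem F397572 : act 2 n195606 = n122709 := d0_1 F397571 (iv3 D122709) F356487 D193901 F391346
theorem F397573 : act 6 n195606 = n139947 := d7_2 (iv6 F373128) F397571 F230298
theorem E103633 : n149205 = n149151 := (c20_5 F234599 (iv1 D149212) (iv4 D70035) D70034 D149205 F234527 D149320 (iv1 F397568) F397570 (iv3 F241354) F241356)
theorem F397574 : act 1 n149151 = n70034 := (sb E103633 (iv0 D149205))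
theorem F397575 : act 0 n127126 = n149214 := d19_16 (iv1 F397574) (iv5 D149151) (iv4 F308147) F343398 F311007 D145267 (iv4 F335518) (iv3 F350571) (iv1 D103741) D103744 F339734 F94061 (iv1 F78480) F80801 D59675 D127126 (iv5 D149214) (iv4 D70035) D70034
theorem F397576 : act 0 n150081 = n149209 := d21_10 (iv5 D149209) (iv1 F397574) (iv5 D149151) F191146 (iv1 F243859) (iv6 F332041) (iv5 F383602) F383601 (iv5 D150080) D150081
def n195607 : Q := act 5 n105979
theorem D195607 : act 5 n105979 = n195607 := rfl
theorem F397577 : act 2 n195607 = n153631 := d2_1 D195607 (iv5 D153631) (iv2 F162772)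
theorem F397578 : act 3 n195607 = n191451 := d6_1 D195607 F383504 F177746
theorem F397579 : act 6 n195607 = n153628 := d12_2 (iv6 F162773) D195607 (iv5 D153628) (iv6 D72647) (iv5 F106195)
theorem F397580 : act 7 n195607 = n191738 := d13_2 F261537 D195607 F384300
def n195608 : Q := act 5 n105982
theorem D195608 : act 5 n105982 = n195608 := rfl
theorem F397581 : act 2 n195608 = n126902 := d2_1 D195608 F331927 (iv2 F162783)
theorem F397582 : act 4 n195608 = n136062 := d9_1 D195608 F218957 F173769 F319923 F189964 (iv5 F243936) (iv4 F331971) (iv5 F343946) (iv4 F343942) F319910 (iv4 D83622) (iv5 D38555) (iv4 F59374) (iv5 F77329) (iv4 F162784)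
theorem F397583 : act 6 n195608 = n126646 := d12_2 D105982 D195608 F331900 (iv6 D119437) F86954
theorem F397584 : act 7 n195608 = n155148 := d13_2 (iv7 F191345) D195608 (iv5 D155148)
theorem F397585 : act 0 n195608 = n126343 := d17_2 (iv1 F190955) D195608 F343949 (iv4 D84928) (iv5 D39290) (iv0 D18639) F26655 D33827 D73603
theorem F397586 : act 1 n195608 = n126337 := d17_6 (iv1 D150197) (iv5 F107153) (iv1 F189966) (iv5 F77329) (iv4 F162784) D195608 F332521 (iv0 F307479) F307481
def n195609 : Q := act 5 n106006
theorem D195609 : act 5 n106006 = n195609 := rfl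
theorem F397587 : act 2 n195609 = n125182 := d2_1 D195609 F304901 (iv2 F162811)
theorem F397588 : act 3 n195609 = n106007 := d6_1 D195609 (iv5 D106007) (iv3 F162812)
theorem F397589 : act 6 n195609 = n125180 := d12_2 D106006 D195609 F304880 (iv6 D80707) (iv5 F77347)
theorem F397590 : act 0 n195609 = n156540 := d17_2 (iv1 F304873) D195609 (iv5 F363148) F340992 (iv5 F205882) F341021 F276548 (iv0 D177127) (iv4 F315267)
theorem F397591 : act 1 n195609 = n145361 := d15_1 (iv0 F397590) F357276 (iv2 F363149)
def n195610 : Q := act 4 n106030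
theorem D195610 : act 4 n106030 = n195610 := rfl
theorem F397592 : act 2 n195610 = n147771 := d1_1 D195610 F231509 (iv2 F162998)
theorem F397593 : act 3 n195610 = n146162 := d5_1 D195610 F229426 (iv3 F335020) (iv4 D106041) (iv3 F162833)
theorem F397594 : act 6 n195610 = n120684 := d10_2 (iv6 F345670) D195610 (iv4 F192391)
theorem F397595 : act 7 n195610 = n147776 := d11_2 (iv7 F162999) D195610 F231516
theorem F397596 : act 5 n195610 = n147396 := d16_1 D195610 F337988 (iv5 D88183) (iv4 D41157) (iv5 D19357) (iv4 F30990) D41143 (iv7 F308728) (iv2 F162998)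
theorem F397597 : act 0 n195610 = n119877 := d17_0 F231491 (iv1 D147746) (iv5 D69225) D69224 D147742 F235858 (iv5 F308488) F308487 D195610
theorem F397598 : act 1 n195610 = n147294 := d18_6 (iv1 D16225) (iv4 F25769) D33571 (iv4 F77359) D106030 D195610 F230913 F109429 (iv5 D33583)
def n195611 : Q := act 4 n106052
theorem D195611 : act 4 n106052 = n195611 := rfl
theorem F397599 : act 2 n195611 = n155489 := d1_1 D195611 F357703 (iv2 F307809)
theorem F397600 : act 3 n195611 = n144806 := d5_1 D195611 (iv4 D144806) (iv3 F340870) (iv4 D106057) (iv3 F163007)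
theorem F397601 : act 6 n195611 = n146905 := d10_2 F230222 D195611 F230291
theorem F397602 : act 7 n195611 = n155488 := d11_2 F393505 D195611 (iv4 F393503)
theorem F397603 : act 1 n195611 = n119858 := d18_6 D26653 D55147 F309810 F307808 D106052 D195611 (iv4 D119858) (iv0 D55162) (iv5 D26657)
theorem F397604 : act 0 n195611 = n119861 := d20_1 D195611 (iv4 D119861) (iv3 F348964) F348961 (iv3 F83668) F83669 D78928 (iv4 F321132) F244517 F244514
def n195612 : Q := act 5 n106071
theorem D195612 : act 5 n106071 = n195612 := rfl
theorem F397605 : act 2 n195612 = n106076 := d2_1 D195612 (iv5 D106076) (iv2 F163016)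
theorem F397606 : act 7 n195612 = n123390 := d13_2 F304388 D195612 (iv5 D123390)
theorem F397607 : act 0 n195612 = n123408 := d17_2 F232413 D195612 F306411 (iv4 F190219) (iv5 F240735) F316641 F314256 (iv0 D72583) (iv4 F85892)
theorem F397608 : act 1 n195612 = n123407 := d17_8 (iv1 F374894) F374892 (iv1 F258909) (iv5 F338548) F338402 (iv5 F338403) F304382 D195612 (iv4 F374896)
def n195613 : Q := act 6 n106071
theorem D195613 : act 6 n106071 = n195613 := rfl
theorem F397609 : act 2 n195613 = n106077 := d3_1 D195613 (iv6 D106077) (iv2 F163016)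
theorem F397610 : act 3 n195613 = n123226 := d7_1 D195613 F363380 (iv3 F332403)
theorem F397611 : act 4 n195613 = n106073 := d10_1 D195613 (iv6 D106073) D106071
theorem F397612 : act 7 n195613 = n122991 := d14_2 F304388 D195613 (iv6 D122991) F90258 D57477
theorem F397613 : act 5 n195613 = n192975 := d21_6 (iv5 F30807) (iv1 F61393) F61391 D54399 F232413 D195613 (iv1 D192975) (iv5 D101053) (iv6 D47078) F35182
theorem F397614 : act 0 n122993 = n195613 := d21_4 D54448 D118201 F278981 (iv6 F361459) (iv6 D195613) D195612 F397607 F306411 (iv6 D118200) (iv1 D54447)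
theorem F397615 : act 1 n118095 = n195613 := d15_0 (iv0 F397614) (iv7 F361457) (iv2 F361458)
def n195614 : Q := act 0 n106076
theorem D195614 : act 0 n106076 = n195614 := rfl
theorem F397616 : act 5 n195614 = n138202 := d17_3 (iv1 F232417) D106076 D195614 F361080 (iv5 F241769) (iv0 D153870) (iv5 D72790) F232348 F51837
theorem F397617 : act 4 n195614 = n188788 := d18_1 D195614 (iv1 F374888) (iv4 F349324) (iv5 D154620) (iv4 D73314) F232346 (iv4 F232349) (iv0 D106074) D106076
theorem F397618 : act 1 n123390 = n195614 := d15_0 (iv0 D195614) (iv7 F304389) (iv2 F197762)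
theorem F397619 : act 2 n123408 = n195614 := d1_3 F397617 (iv2 F374887) F338555
theorem F397620 : act 7 n123407 = n195614 := d11_0 F397617 F374889 F374896
theorem F397621 : act 3 n191549 = n195614 := d6_3 F397616 (iv3 F361075) F383768
theorem F397622 : act 6 n137729 = n195614 := d21_5 (iv5 F79636) F79637 (iv5 F48868) D64739 D137729 F397616 (iv1 D138202) (iv5 D64915) (iv6 D30502) (iv1 F48567)
theorem F397623 : act 2 n136832 = n137729 := d3_3 F397622 (iv2 F397619) F364102
theorem F397624 : act 7 n137730 = n136832 := d15_2 (iv0 D137729) D137730 F397623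
theorem F397625 : act 7 n136833 = n137729 := d15_2 (iv0 D136832) D136833 (iv2 F397623)
theorem F397626 : act 2 n137730 = n136833 := d4_3 F397625 (iv2 F397623) (iv7 F397624)
theorem F397627 : act 3 n188798 = n137730 := d8_3 F397624 F364103 (iv7 F374941)
def n195615 : Q := act 1 n106076
theorem D195615 : act 1 n106076 = n195615 := rfl
theorem F397628 : act 1 n195615 = n123390 := d15_1 D195615 (iv7 F397606) F397605
theorem F397629 : act 7 n195615 = n123408 := d15_2 (iv0 D195614) D195615 F397619
theorem F397630 : act 5 n195615 = n138201 := d17_7 F322853 F187663 (iv1 D106079) (iv5 D49025) D49024 D106076 D195615 (iv0 D138201) D138203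
theorem F397631 : act 4 n195615 = n152733 := d17_9 F347081 (iv5 F143134) (iv1 F258904) F338581 F213537 (iv5 F337819) (iv0 D106074) D106076 D195615
theorem F397632 : act 3 n124723 = n195615 := d20_3 D73076 D154232 F242342 (iv1 D195615) F301979 (iv4 F328257) (iv1 F98304) (iv4 F329054) (iv3 F191144) (iv1 D73075)
theorem F397633 : act 2 n123407 = n195615 := d1_3 F397631 F347111 F374896
theorem F397634 : act 6 n152732 = n195615 := d10_0 F397631 (iv6 D152733) D152732
theorem F397635 : act 3 n183492 = n152732 := d7_3 F397634 (iv3 F397632) F365545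
def n195616 : Q := act 3 n106079
theorem D195616 : act 3 n106079 = n195616 := rfl
theorem F397636 : act 2 n195616 = n128274 := d0_1 D195616 (iv3 F244503) F244511 (iv3 D128452) (iv2 F187662)
theorem F397637 : act 6 n195616 = n117201 := d7_2 (iv6 F205364) D195616 (iv3 D117201)
theorem F397638 : act 7 n195616 = n128273 := d8_2 (iv7 F187660) D195616 F206397
theorem F397639 : act 0 n195616 = n119501 := d20_4 D73324 (iv1 F319014) (iv4 F321128) D195616 F318170 (iv4 D94240) F142436 (iv4 F322021) (iv3 F240733) (iv1 D73323)
theorem F397640 : act 0 n119517 = n195616 := d20_4 (iv4 D95599) (iv1 F71531) F318176 (iv3 F188497) (iv3 D195616) F321128 (iv1 D78929) (iv4 F83669) F83668 (iv1 F334069)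
def n195617 : Q := act 3 n106083
theorem D195617 : act 3 n106083 = n195617 := rfl
theorem F397641 : act 2 n195617 = n128278 := d0_1 D195617 F335261 F350951 F350947 (iv2 F185703)
theorem F397642 : act 4 n195617 = n173801 := d5_2 F390016 D195617 F272383 (iv4 F320203) (iv3 F390015)
theorem F397643 : act 5 n195617 = n177044 := d6_2 F228264 D195617 F357089
theorem F397644 : act 6 n195617 = n175347 := d7_2 (iv6 F185704) D195617 (iv3 F278297)
theorem F397645 : act 7 n195617 = n118113 := d8_2 (iv7 F185705) D195617 F185563
theorem F397646 : act 0 n195617 = n119502 := d20_4 F351782 (iv1 F390019) F390016 D195617 (iv3 F307439) (iv4 F189988) F308745 (iv4 D73811) (iv3 F232897) (iv1 F242802)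
theorem F397647 : act 0 n128280 = n195617 := d20_4 D86497 (iv1 F311613) F305602 (iv3 F206405) (iv3 D195617) (iv4 F390016) (iv1 F390018) F350959 F149006 F297912
def n195618 : Q := act 3 n106098
theorem D195618 : act 3 n106098 = n195618 := rfl
theorem F397648 : act 5 n195618 = n106099 := d6_2 (iv5 F163122) D195618 (iv3 D106099)
def n195619 : Q := act 0 n106099
theorem D195619 : act 0 n106099 = n195619 := rfl
def n195620 : Q := act 1 n106099
theorem D195620 : act 1 n106099 = n195620 := rfl
theorem F397649 : act 3 n132673 = n195620 := d20_3 F360486 F217255 F217252 (iv1 D195620) (iv3 D106099) (iv4 D49045) (iv1 F51389) D69724 D148771 F233572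
theorem F397650 : act 4 n195092 = n195620 := d20_6 F45429 (iv1 F36987) (iv4 F36922) (iv3 F76551) D105258 D195092 (iv1 D195620) F163125 (iv3 D49048) (iv1 F45426)
theorem F397651 : act 6 n195620 = n132672 := d10_2 (iv6 F395731) F397650 F212990
def n195621 : Q := act 2 n106099
theorem D195621 : act 2 n106099 = n195621 := rfl
theorem F397652 : act 4 n195621 = n106108 := d1_2 (iv4 F163125) D195621 (iv2 D106108)
def n195622 : Q := act 6 n106099
theorem D195622 : act 6 n106099 = n195622 := rfl
theorem F397653 : act 3 n195622 = n106100 := d7_1 D195622 (iv6 D106100) D106099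
theorem F397654 : act 4 n195622 = n106109 := d10_1 D195622 (iv6 D106109) (iv4 F163125)
theorem F397655 : act 0 n132033 = n195622 := d18_2 (iv1 D132032) D132033 F397654 (iv5 F362918) (iv4 D106970) D106969 (iv4 F206975) F211345 (iv5 F211525)
theorem F397656 : act 1 n135848 = n195622 := d15_0 (iv0 F397655) F327166 (iv2 F218506)
def n195623 : Q := act 0 n106100
theorem D195623 : act 0 n106100 = n195623 := rfl
theorem F397657 : act 4 n195623 = n148722 := d20_8 (iv4 F344095) F344092 F339457 (iv3 D106120) (iv1 D49051) (iv3 F77427) (iv4 F163126) D195623 F327791 D158546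
theorem F397658 : act 3 n132659 = n195623 := d5_5 F397657 F327791 (iv4 D75626) (iv3 F113455) (iv4 F319893)
theorem F397659 : act 6 n132658 = n195623 := d10_0 F397657 (iv6 D148722) (iv4 F327790)
def n195624 : Q := act 1 n106100
theorem D195624 : act 1 n106100 = n195624 := rfl
def n195625 : Q := act 5 n106100
theorem D195625 : act 5 n106100 = n195625 := rfl
def n195626 : Q := act 7 n106100
theorem D195626 : act 7 n106100 = n195626 := rfl
theorem F397660 : act 4 n195626 = n106104 := d11_1 D195626 (iv7 D106104) (iv4 F163126)
def n195627 : Q := act 6 n106101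
theorem D195627 : act 6 n106101 = n195627 := rfl
theorem F397661 : act 4 n195627 = n106105 := d10_1 D195627 (iv6 D106105) (iv4 F163127)
def n195628 : Q := act 3 n106103
theorem D195628 : act 3 n106103 = n195628 := rfl
theorem F397662 : act 2 n195628 = n135219 := d0_1 D195628 F217407 F98861 (iv3 F216446) F332613
theorem F397663 : act 5 n195628 = n172416 := d6_2 F390781 D195628 (iv3 F390779)
theorem F397664 : act 6 n195628 = n130133 := d7_2 (iv6 F364864) D195628 (iv3 F216439)
theorem F397665 : act 0 n195628 = n187654 := d21_4 (iv5 D61097) D61095 D130133 (iv6 F397664) (iv6 D187654) (iv5 D90427) F65301 D54113 F325470 F95923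
def n195629 : Q := act 4 n106103
theorem D195629 : act 4 n106103 = n195629 := rfl
theorem F397666 : act 2 n195629 = n132174 := d1_1 D195629 (iv4 F216447) F332613
theorem F397667 : act 6 n195629 = n132172 := d10_2 (iv6 F364864) D195629 (iv4 F216440)
def n195630 : Q := act 6 n106104
theorem D195630 : act 6 n106104 = n195630 := rfl
theorem F397668 : act 3 n195630 = n106124 := d7_1 D195630 (iv6 D106124) (iv3 F163130)
theorem F397669 : act 5 n195630 = n127810 := d12_1 D195630 F205614 F178311 F114330 (iv5 F163131)
theorem F397670 : act 7 n195630 = n106105 := d14_2 D106104 D195630 (iv6 D106105) (iv7 D49047) D49046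
def n195631 : Q := act 0 n106105
theorem D195631 : act 0 n106105 = n195631 := rfl
theorem F397671 : act 3 n195631 = n135764 := d20_5 (iv4 F383821) (iv1 D106226) F77471 (iv3 F163132) D195631 F218310 F211701 (iv4 F327849) F177176 (iv1 F161585)
theorem F397672 : act 6 n195631 = n135762 := d21_5 F55149 F37352 (iv5 F77430) D106105 D195631 F365950 (iv1 D106765) D106766 F164577 F78011
def n195632 : Q := act 1 n106105
theorem D195632 : act 1 n106105 = n195632 := rfl
theorem F397673 : act 6 n187148 = n195632 := d21_3 (iv5 F369983) (iv1 D187146) D187148 (iv1 D195632) (iv6 D106105) F77430 (iv1 F40302) (iv5 F55146) D76336 D159559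
theorem F397674 : act 3 n195632 = n187149 := d7_1 F397673 (iv6 D187149) (iv3 F369243)
def n195633 : Q := act 3 n106106
theorem D195633 : act 3 n106106 = n195633 := rfl
theorem F397675 : act 7 n195633 = n186733 := d8_2 F395228 D195633 F367824
theorem F397676 : act 4 n195633 = n113519 := d20_6 F40210 F20031 D23929 D49048 D106106 D195633 (iv1 D113519) (iv4 D52397) F40207 D25434
theorem F397677 : act 2 n191669 = n195633 := d1_3 F397676 F383743 (iv4 F384095)
theorem F397678 : act 6 n191647 = n195633 := d10_0 F397676 F383745 (iv4 F384043)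
theorem F397679 : act 0 n191666 = n195633 := d18_2 (iv1 F352446) (iv4 F384086) F397676 F383744 (iv4 F386661) F386890 (iv4 D192507) (iv0 D100245) (iv5 F136891)
theorem F397680 : act 1 n191667 = n195633 := d15_0 (iv0 F397679) (iv7 F384087) (iv2 F384091)
def n195634 : Q := act 4 n106106
theorem D195634 : act 4 n106106 = n195634 := rfl
def n195635 : Q := act 6 n106106
theorem D195635 : act 6 n106106 = n195635 := rfl
theorem F397681 : act 3 n195635 = n191647 := d7_1 D195635 F397678 (iv3 D195633)
theorem F397682 : act 7 n195635 = n191643 := d14_2 F395228 D195635 (iv6 D191643) (iv7 F367821) (iv6 F367825)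
theorem F397683 : act 0 n195635 = n113955 := d21_10 (iv5 D113955) (iv1 D52603) D52604 (iv6 F161226) D195105 (iv6 F395788) (iv5 D107531) D107528 F361380 D195635
theorem F397684 : act 5 n195240 = n195635 := d17_1 (iv1 F396425) F397683 (iv5 D113955) F177843 D106122 (iv0 F178208) (iv5 F178205) F163431 D106383
theorem F397685 : act 1 n195635 = n113950 := d15_1 (iv0 F397683) (iv7 F396104) F396103
def n195636 : Q := act 3 n106107
theorem D195636 : act 3 n106107 = n195636 := rfl
theorem F397686 : act 2 n195636 = n191665 := d0_1 D195636 F384085 (iv2 F367822) F367824 F395224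
theorem F397687 : act 6 n191664 = n195636 := d3_0 F397686 (iv6 D191665) D191664
def n195637 : Q := act 4 n106107
theorem D195637 : act 4 n106107 = n195637 := rfl
def n195638 : Q := act 6 n106107
theorem D195638 : act 6 n106107 = n195638 := rfl
theorem F397688 : act 2 n195638 = n186732 := d3_1 D195638 (iv6 F367825) F395224
theorem F397689 : act 3 n195638 = n191664 := d7_1 D195638 F397687 (iv3 D195636)
theorem F397690 : act 0 n191640 = n195638 := d21_4 (iv5 D113237) (iv1 F161315) D125941 (iv6 F384036) (iv6 D195638) (iv5 F395220) (iv1 D107529) D107531 F395788 (iv1 F395785)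
theorem F397691 : act 7 n191642 = n195638 := d4_0 F397688 F367821 D191642
theorem F397692 : act 1 n191641 = n195638 := d15_1 D191641 (iv7 F397691) (iv2 D191642)
def n195639 : Q := act 7 n106112
theorem D195639 : act 7 n106112 = n195639 := rfl
theorem F397693 : act 3 n195639 = n131899 := d8_1 D195639 F211330 (iv3 F362921)
theorem F397694 : act 5 n195639 = n106113 := d13_1 D195639 (iv7 D106113) D106112
theorem F397695 : act 6 n195639 = n131897 := d14_1 D195639 (iv7 F343580) F343579 (iv7 F343583) F163239
theorem F397696 : act 1 n115002 = n195639 := d15_1 (iv0 F179074) (iv7 D195639) (iv2 F163303)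
theorem F397697 : act 1 n195639 = n114962 := d15_1 F397696 (iv7 F396466) F396464
def n195640 : Q := act 4 n106115
theorem D195640 : act 4 n106115 = n195640 := rfl
theorem F397698 : act 7 n195640 = n126535 := d11_2 F177875 D195640 (iv4 F332591)
theorem F397699 : act 0 n195640 = n135860 := d18_2 (iv1 F361695) D195640 (iv4 D135860) (iv5 F336464) (iv4 F239275) (iv0 F278215) (iv4 D106158) (iv0 F359177) (iv5 F176797)
theorem F397700 : act 0 n135855 = n195640 := d20_7 (iv4 F163306) (iv1 F177808) (iv4 D105365) D105364 (iv1 F349030) F336459 D135855 (iv4 D195640) (iv3 D106115) (iv1 F77533)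
theorem F397701 : act 6 n126534 = n195640 := d14_5 F397698 (iv6 D126535) (iv7 D59365) D59364 D126534
def n195641 : Q := act 6 n106115
theorem D195641 : act 6 n106115 = n195641 := rfl
theorem F397702 : act 2 n195641 = n132863 := d3_1 D195641 (iv6 F361691) F361694
theorem F397703 : act 3 n195641 = n106118 := d7_1 D195641 (iv6 D106118) D106115
theorem F397704 : act 4 n195641 = n126534 := d10_1 D195641 F397701 (iv4 D195640)
theorem F397705 : act 7 n195641 = n126531 := d14_2 F177875 D195641 (iv6 D126531) (iv7 F93658) (iv6 F332593)
theorem F397706 : act 5 n195641 = n119073 := d21_6 (iv5 D32016) (iv1 F40276) (iv5 F82814) D113617 (iv1 F361695) D195641 (iv1 D119073) (iv5 F176914) (iv6 D113698) (iv1 F82885)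
theorem F397707 : act 0 n187719 = n195641 := d21_4 (iv5 D42351) D42349 D90490 D187719 (iv6 D195641) F359188 (iv1 F370541) (iv5 F371178) (iv6 D187681) F139208
theorem F397708 : act 1 n145927 = n195641 := d15_0 (iv0 F397707) (iv7 F371314) (iv2 F229129)
def n195642 : Q := act 0 n106123
theorem D195642 : act 0 n106123 = n195642 := rfl
theorem F397709 : act 5 n195642 = n130923 := d17_1 D195642 (iv1 D130923) F325757 (iv4 F325755) (iv5 F211470) (iv0 D131982) (iv5 D61934) D61932 F332617
theorem F397710 : act 1 n126530 = n195642 := d15_0 (iv0 D195642) F332610 F208645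
theorem F397711 : act 7 n195642 = n195120 := d15_2 (iv0 F342934) F397710 (iv2 F395837)
theorem F397712 : act 3 n126548 = n195642 := d8_3 F397711 (iv3 F395838) (iv7 F364684)
def n195643 : Q := act 3 n106125
theorem D195643 : act 3 n106125 = n195643 := rfl
def n195644 : Q := act 5 n106125
theorem D195644 : act 5 n106125 = n195644 := rfl
def n195645 : Q := act 6 n106125
theorem D195645 : act 6 n106125 = n195645 := rfl
theorem F397713 : act 4 n195645 = n131986 := d10_1 D195645 F395780 F395522
theorem F397714 : act 5 n195645 = n112940 := d21_6 (iv5 D23739) (iv1 F18209) (iv5 F37354) D49053 D106125 D195645 (iv1 D112940) F82413 (iv6 D49681) F37981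
def n195646 : Q := act 5 n106126
theorem D195646 : act 5 n106126 = n195646 := rfl
theorem F397715 : act 3 n195646 = n187634 := d6_1 D195646 (iv5 F374583) F374581
theorem F397716 : act 6 n195646 = n159847 := d12_2 (iv6 F374533) D195646 (iv5 F251995) (iv6 F283791) (iv5 F374531)
def n195647 : Q := act 5 n106127
theorem D195647 : act 5 n106127 = n195647 := rfl
theorem F397717 : act 2 n195647 = n164414 := d2_1 D195647 (iv5 D164414) F163141
theorem F397718 : act 3 n195647 = n142752 := d6_1 D195647 (iv5 D142752) F319952
theorem F397719 : act 6 n195647 = n114166 := d12_2 (iv6 F163140) D195647 (iv5 D114166) (iv6 D52700) D52699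
def n195648 : Q := act 6 n106130
theorem D195648 : act 6 n106130 = n195648 := rfl
theorem F397720 : act 3 n195648 = n148819 := d7_1 D195648 (iv6 F347822) (iv3 F163144)
theorem F397721 : act 4 n195648 = n106131 := d10_1 D195648 (iv6 D106131) D106130
theorem F397722 : act 5 n195648 = n148817 := d12_1 D195648 (iv6 F361640) (iv5 F361355) (iv6 D153588) (iv5 F163145)
theorem F397723 : act 0 n195648 = n187493 := d21_4 F94825 D72621 (iv5 F163145) D195648 (iv6 D187493) F139302 (iv1 F139301) F135447 (iv6 F138811) F138812
def n195649 : Q := act 5 n106133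
theorem D195649 : act 5 n106133 = n195649 := rfl
theorem F397724 : act 2 n195649 = n127781 := d2_1 D195649 (iv5 D127781) F178211
theorem F397725 : act 3 n195649 = n140842 := d6_1 D195649 (iv5 D140842) (iv3 F321184)
def n195650 : Q := act 6 n106133
theorem D195650 : act 6 n106133 = n195650 := rfl
theorem F397726 : act 2 n195650 = n127782 := d3_1 D195650 (iv6 D127782) F178211
theorem F397727 : act 3 n195650 = n140843 := d7_1 D195650 (iv6 D140843) (iv3 F321184)
theorem F397728 : act 4 n195650 = n189829 := d10_1 D195650 (iv6 D189829) (iv4 F321185)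
theorem F397729 : act 0 n159527 = n195650 := d20_4 (iv4 D114750) D114748 (iv4 F338679) F361697 F397727 (iv4 F366154) (iv1 D119721) D119722 F363729 (iv1 F338644)
theorem F397730 : act 0 n195650 = n164375 := d20_4 F327337 F190386 F366154 (iv3 F397727) (iv3 F347646) F274967 (iv1 F373988) F373984 (iv3 F373971) F373974
def n195651 : Q := act 6 n106135
theorem D195651 : act 6 n106135 = n195651 := rfl
theorem F397731 : act 4 n195651 = n133431 := d10_1 D195651 (iv6 F214546) F259181
theorem F397732 : act 1 n190823 = n195651 := d17_8 F396238 (iv5 F396236) F396237 F210050 D164496 (iv5 F350607) F214541 F381253 F397731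
def n195652 : Q := act 5 n106136
theorem D195652 : act 5 n106136 = n195652 := rfl
theorem F397733 : act 3 n195652 = n177164 := d6_1 D195652 (iv5 D177164) F190336
theorem F397734 : act 7 n195652 = n128547 := d13_2 (iv7 F340931) D195652 (iv5 F355727)
theorem F397735 : act 0 n195652 = n137507 := d18_0 F220701 (iv1 F390437) F390438 (iv5 F390435) F314183 (iv0 D49058) (iv4 F77438) D106136 D195652
theorem F397736 : act 1 n143974 = n137507 := d15_0 (iv0 F397735) F397734 (iv2 F226627)
def n195653 : Q := act 6 n106136
theorem D195653 : act 6 n106136 = n195653 := rfl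
theorem F397737 : act 3 n195653 = n177165 := d7_1 D195653 (iv6 D177165) F190336
def n195654 : Q := act 0 n106137
theorem D195654 : act 0 n106137 = n195654 := rfl
theorem F397738 : act 4 n195654 = n193312 := d18_1 D195654 F389441 F156258 D102266 F314186 F235295 F259181 (iv0 D106135) D106137
theorem F397739 : act 2 n193314 = n195654 := d1_3 F397738 F389439 D193314
theorem F397740 : act 7 n193309 = n195654 := d11_0 F397738 (iv7 D193312) D193309
theorem F397741 : act 1 n164464 = n193309 := d15_1 F389445 F397740 (iv2 F397739)
theorem F397742 : act 6 n133352 = n193309 := d21_3 D52104 D112890 F351307 (iv1 F397741) F259118 (iv5 D96219) (iv1 F176029) D48085 F357657 (iv1 D52102)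
theorem F397743 : act 4 n193311 = n133352 := d10_3 F397742 (iv4 D193309) D193311
theorem F397744 : act 0 n193311 = n156363 := d20_1 (iv4 F397743) (iv4 F247441) (iv3 D157227) (iv1 D74764) (iv3 D34257) (iv4 D16584) D16583 (iv4 F47513) D62590 D133352
def n195655 : Q := act 1 n106137
theorem D195655 : act 1 n106137 = n195655 := rfl
theorem F397745 : act 7 n195655 = n193314 := d15_2 (iv0 D195654) D195655 F397739
theorem F397746 : act 4 n193308 = n195655 := d20_0 (iv1 D195655) (iv4 F390767) (iv3 F390768) F167650 F317474 (iv4 D118291) F190681 D167809 F352732 (iv1 F389443)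
theorem F397747 : act 3 n184217 = n195655 := d20_3 (iv4 F159196) (iv1 F393296) F393298 (iv1 D195655) F331284 F165091 (iv1 F82340) (iv4 F175716) F361619 (iv1 F158957)
theorem F397748 : act 2 n195655 = n193309 := d1_1 F397746 (iv4 D193309) D193308
def n195656 : Q := act 7 n106137
theorem D195656 : act 7 n106137 = n195656 := rfl
theorem F397749 : act 3 n195656 = n112849 := d8_1 D195656 F175726 (iv3 F331284)
theorem F397750 : act 4 n195656 = n156335 := d11_1 D195656 (iv7 F390772) F390767
theorem F397751 : act 5 n195656 = n106138 := d13_1 D195656 (iv7 D106138) D106137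
theorem F397752 : act 1 n193309 = n195656 := d15_1 F397741 (iv7 D195656) (iv2 F259117)
theorem F397753 : act 1 n195656 = n193314 := d15_1 F397752 (iv7 F397745) F397748
theorem F397754 : act 0 n156338 = n193313 := d20_4 F53525 D34110 D74362 D156338 (iv3 D193313) D193314 (iv1 F397753) F397750 (iv3 D156335) (iv1 D74359)
def n195657 : Q := act 6 n106140
theorem D195657 : act 6 n106140 = n195657 := rfl
theorem F397755 : act 2 n195657 = n147242 := d3_1 D195657 (iv6 F316448) F338683
theorem F397756 : act 3 n195657 = n106143 := d7_1 D195657 (iv6 D106143) D106140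
theorem F397757 : act 4 n195657 = n147232 := d10_1 D195657 (iv6 F317647) F178772
theorem F397758 : act 7 n195657 = n144915 := d14_2 (iv7 F362423) D195657 (iv6 D144915) (iv7 F104603) (iv6 F316452)
theorem F397759 : act 0 n195657 = n147240 := d21_4 F338691 (iv1 F338688) (iv5 F338685) D195657 (iv6 F347674) F347673 F338695 F326630 (iv6 F338642) F338639
theorem F397760 : act 1 n195657 = n147239 := d15_1 (iv0 F397759) (iv7 F230833) (iv2 F230829)
theorem F397761 : act 0 n164411 = n106143 := d20_4 (iv4 F179032) (iv1 F179035) F177669 (iv3 F259050) (iv3 F397756) F397757 (iv1 F230821) (iv4 F230846) F331594 (iv1 F161883)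
theorem F397762 : act 0 n106143 = n114174 := d20_4 F331610 (iv1 F230822) (iv4 F397757) F397756 (iv3 F364500) F268014 F318655 (iv4 F181615) F181614 D117191
def n195658 : Q := act 0 n106142
theorem D195658 : act 0 n106142 = n195658 := rfl
theorem F397763 : act 5 n195658 = n195650 := d21_2 D106142 D195658 (iv6 D195650) (iv1 D106133) (iv6 D49056) (iv5 D23934) (iv1 D11213) D11215 D23936 D49058
theorem F397764 : act 1 n106147 = n195658 := d15_0 (iv0 D195658) (iv7 F362427) F366117
def n195659 : Q := act 1 n106142
theorem D195659 : act 1 n106142 = n195659 := rfl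
theorem F397765 : act 1 n195659 = n106147 := d15_1 D195659 (iv7 F366116) F366118
theorem F397766 : act 3 n106169 = n195659 := d19_19 (iv1 D195659) (iv5 D106142) (iv4 F314183) F314182 (iv1 F75031) (iv5 F75112) (iv4 F158448) (iv3 F392792) (iv1 F392793) (iv5 D153910) F109328 F52891 F307086 D40757 D87568 (iv3 F347556) F347558 F396437 F396434
theorem F397767 : act 5 n188539 = n195659 := d21_0 (iv1 D195659) (iv5 D106142) D106143 F397762 (iv6 D114174) (iv5 F83309) F178010 (iv5 F120132) D164375 F373869
theorem F397768 : act 6 n195659 = n127412 := d12_2 D188539 F397767 F204785 (iv6 D92433) D92432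
theorem F397769 : act 2 n187647 = n195659 := d3_3 F397768 F251305 D187647
theorem F397770 : act 7 n195658 = n187647 := d15_2 F397765 F397764 F397769
def n195660 : Q := act 4 n106142
theorem D195660 : act 4 n106142 = n195660 := rfl
def n195661 : Q := act 4 n106145
theorem D195661 : act 4 n106145 = n195661 := rfl
theorem F397771 : act 2 n195661 = n147073 := d1_1 D195661 F343359 (iv2 F364251)
theorem F397772 : act 3 n195661 = n112591 := d5_1 D195661 F175182 (iv3 F325806) F314180 D106145
theorem F397773 : act 6 n195661 = n112590 := d10_2 F364252 D195661 (iv4 F342087)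
theorem F397774 : act 7 n195661 = n192364 := d11_2 (iv7 F364250) D195661 F386580
theorem F397775 : act 5 n195661 = n192365 := d17_5 (iv1 D175645) D175647 (iv1 F374749) F374750 D195661 F386587 (iv5 F383206) (iv0 D191362) F274972
theorem F397776 : act 0 n195661 = n159506 := d17_0 F346729 (iv1 F151383) F357762 F370551 (iv5 F370553) (iv0 F371117) F371116 (iv0 F353426) D195661
theorem F397777 : act 1 n195661 = n172412 := d18_8 (iv1 D82555) (iv4 F64077) F310383 F308339 D83021 (iv4 F311745) (iv0 F353426) D195661 (iv5 D172412)
def n195662 : Q := act 4 n106147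
theorem D195662 : act 4 n106147 = n195662 := rfl
def n195663 : Q := act 6 n106147
theorem D195663 : act 6 n106147 = n195663 := rfl
theorem F397778 : act 2 n195663 = n130703 := d3_1 D195663 F362426 F366117
theorem F397779 : act 0 n195663 = n159558 := d21_4 F259208 (iv1 F120167) D106147 D195663 (iv6 D159558) F114425 (iv1 F83137) (iv5 F332588) (iv6 F332605) (iv1 F259210)
theorem F397780 : act 0 n106766 = n195663 := d21_4 (iv5 D32362) (iv1 F37703) D49335 (iv6 F164577) (iv6 D195663) (iv5 D106147) (iv1 D49059) (iv5 F77428) (iv6 D49046) (iv1 F51389)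
theorem F397781 : act 7 n159574 = n195663 := d15_2 F362425 D159574 F397778
def n195664 : Q := act 0 n106148
theorem D195664 : act 0 n106148 = n195664 := rfl
theorem F397782 : act 5 n195664 = n106741 := d17_1 D195664 (iv1 F164530) F163785 F319199 F100457 F173584 (iv5 F364556) (iv0 D155972) (iv4 F364256)
theorem F397783 : act 3 n195664 = n106188 := d20_5 F330310 (iv1 F175180) (iv4 F342087) (iv3 F364255) D195664 (iv4 F177897) (iv1 F177900) (iv4 F161863) (iv3 F179070) F334778
theorem F397784 : act 2 n145518 = n195664 := d15_3 (iv0 D195664) F364253 (iv7 F228573)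
theorem F397785 : act 7 n195664 = n188544 := d4_2 (iv7 F228573) F397784 F373886
theorem F397786 : act 1 n144913 = n195664 := d15_1 (iv0 F227881) F397785 F373886
def n195665 : Q := act 5 n106148
theorem D195665 : act 5 n106148 = n195665 := rfl
theorem F397787 : act 1 n195665 = n195647 := d17_6 D97209 F338519 (iv1 D74182) D74184 (iv4 F364256) D195665 (iv5 D195647) (iv0 D106127) F77435
theorem F397788 : act 0 n195665 = n114235 := d21_1 D195665 (iv5 D114235) D114236 (iv1 F353124) F373861 F373857 (iv1 F288215) (iv5 D164484) (iv6 F331577) (iv1 F364253)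
def n195666 : Q := act 7 n106148
theorem D195666 : act 7 n106148 = n195666 := rfl
theorem F397789 : act 2 n195666 = n144913 := d4_1 D195666 (iv7 F229103) (iv2 F364254)
theorem F397790 : act 3 n195666 = n147235 := d8_1 D195666 (iv7 F342079) (iv3 F364255)
theorem F397791 : act 4 n195666 = n109515 := d11_1 D195666 F169475 (iv4 F364256)
theorem F397792 : act 1 n188544 = n195666 := d15_1 (iv0 F373889) (iv7 D195666) F364254
theorem F397793 : act 1 n195666 = n145518 := d15_1 F397792 F228573 (iv2 F373886)
def n195667 : Q := act 0 n106159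
theorem D195667 : act 0 n106159 = n195667 := rfl
theorem F397794 : act 5 n195667 = n152278 := d17_3 F359177 D106159 D195667 (iv4 F339582) (iv5 D164144) (iv0 F340155) F336454 (iv0 F340168) F177570
theorem F397795 : act 2 n152512 = n195667 := d2_3 F397794 F239352 D152512
theorem F397796 : act 3 n175647 = n195667 := d6_3 F397794 F339583 D175647
theorem F397797 : act 7 n187681 = n195667 := d13_0 F397794 (iv7 F370539) (iv5 F371178)
theorem F397798 : act 1 n106159 = n146892 := d15_1 (iv0 D195667) (iv7 F239692) F397795
def n195668 : Q := act 4 n106159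
theorem D195668 : act 4 n106159 = n195668 := rfl
def n195669 : Q := act 3 n106168
theorem D195669 : act 3 n106168 = n195669 := rfl
theorem F397799 : act 5 n195669 = n114319 := d6_2 (iv5 F163170) D195669 F178202
def n195670 : Q := act 6 n106168
theorem D195670 : act 6 n106168 = n195670 := rfl
theorem F397800 : act 5 n195670 = n113637 := d12_1 D195670 F176814 (iv5 D52759) D52760 (iv5 F163170)
theorem F397801 : act 7 n195670 = n127411 := d14_2 F178295 D195670 (iv6 D127411) F178278 (iv6 F178206)
def n195671 : Q := act 3 n106170
theorem D195671 : act 3 n106170 = n195671 := rfl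
def n195672 : Q := act 1 n106171
theorem D195672 : act 1 n106171 = n195672 := rfl
theorem F397802 : act 7 n195672 = n195127 := d15_2 (iv0 F176953) D195672 F395878
theorem F397803 : act 5 n195672 = n106699 := d17_7 (iv1 F332829) (iv5 D105242) (iv1 F165570) (iv5 F202083) F332818 F164568 D195672 (iv0 D106699) (iv4 F164186)
def n195673 : Q := act 7 n106171
theorem D195673 : act 7 n106171 = n195673 := rfl
theorem F397804 : act 3 n195673 = n135758 := d8_1 D195673 F364870 F359183
theorem F397805 : act 4 n195673 = n128896 := d11_1 D195673 (iv7 F211262) F342922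
theorem F397806 : act 6 n195673 = n107542 := d14_1 D195673 F165922 (iv6 D106384) (iv7 F163471) D106171
theorem F397807 : act 0 n195127 = n195673 := d18_0 F397805 (iv1 F365692) (iv4 F391860) (iv5 F391862) F332812 F332808 F96535 D106503 (iv5 F395880)
def n195674 : Q := act 4 n106179
theorem D195674 : act 4 n106179 = n195674 := rfl
theorem F397808 : act 2 n195674 = n106180 := d1_1 D195674 (iv4 D106180) D106179
theorem F397809 : act 5 n195674 = n191817 := d16_1 D195674 (iv4 D191817) (iv5 D98971) (iv4 F152501) D191815 F384529 (iv5 D106356) F163464 D106179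
theorem F397810 : act 0 n195674 = n153345 := d18_2 (iv1 F163503) D195674 F240921 (iv5 F371488) F371487 F344101 (iv4 F208655) (iv0 F360183) (iv5 F356349)
def n195675 : Q := act 5 n106180
theorem D195675 : act 5 n106180 = n195675 := rfl
theorem F397811 : act 2 n195675 = n191817 := d2_1 D195675 (iv5 F397809) F397808
theorem F397812 : act 4 n195675 = n186635 := d16_2 D106180 D195675 (iv5 D186635) (iv4 F155440) D172448 (iv4 F371355) F371354 (iv7 F163501) (iv2 D106179)
theorem F397813 : act 0 n195675 = n186878 := d17_2 F389999 D195675 F370411 F370410 (iv5 F139405) D187795 (iv5 F371519) D195228 F396370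
theorem F397814 : act 1 n195675 = n186876 := d17_8 F156485 (iv5 D101575) (iv1 F156675) F156677 (iv4 F383502) F383504 (iv0 F191341) D195675 (iv4 D186876)
def n195676 : Q := act 6 n106181
theorem D195676 : act 6 n106181 = n195676 := rfl
theorem F397815 : act 2 n195676 = n130692 := d3_1 D195676 (iv6 F374609) F374608
theorem F397816 : act 3 n195676 = n106187 := d7_1 D195676 (iv6 D106187) (iv3 F163176)
theorem F397817 : act 4 n195676 = n158796 := d10_1 D195676 (iv6 F389944) F389947
theorem F397818 : act 0 n195676 = n130686 := d21_4 (iv5 F340918) (iv1 D106178) D106181 D195676 (iv6 D130686) (iv5 F318968) (iv1 F129055) F317559 D132865 (iv1 F337572)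
theorem F397819 : act 0 n113673 = n195676 := d21_4 (iv5 D105299) (iv1 F76612) D52485 D113673 (iv6 D195676) (iv5 D106181) F340901 (iv5 F176870) (iv6 D113677) F161452
theorem F397820 : act 7 n130691 = n195676 := d8_0 F397816 (iv7 F176943) (iv3 F365046)
def n195677 : Q := act 3 n106186
theorem D195677 : act 3 n106186 = n195677 := rfl
def n195678 : Q := act 6 n106186
theorem D195678 : act 6 n106186 = n195678 := rfl
theorem F397821 : act 2 n195678 = n144778 := d3_1 D195678 F396123 F163497
theorem F397822 : act 4 n195678 = n106187 := d10_1 D195678 (iv6 D106187) D106186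
theorem F397823 : act 7 n195678 = n144779 := d14_2 (iv7 F163496) D195678 (iv6 F332870) (iv7 F211261) F349626
theorem F397824 : act 0 n112699 = n195678 := d21_4 F40213 (iv1 F40159) (iv5 F82184) D112699 (iv6 D195678) (iv5 F179039) (iv1 D113958) (iv5 D52604) (iv6 D25529) (iv1 F40212)
theorem F397825 : act 1 n125792 = n195678 := d18_6 D112939 (iv4 F340442) (iv1 F214434) F209202 (iv5 F103899) (iv4 F364798) F397822 (iv0 F163179) (iv5 F82413)
theorem F397826 : act 3 n195678 = n189901 := d20_3 F165921 F163179 (iv4 F397822) (iv1 D189901) (iv3 D95426) (iv4 D44568) D44566 (iv4 F146895) (iv3 F364803) (iv1 F376520)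
theorem F397827 : act 6 n189901 = n195677 := d7_2 D195678 F397826 (iv3 D195677)
theorem F397828 : act 3 n190668 = n144779 := d8_3 (iv7 F397823) F397826 (iv7 F380502)
def n195679 : Q := act 5 n106187
theorem D195679 : act 5 n106187 = n195679 := rfl
theorem F397829 : act 6 n195679 = n106190 := d12_2 D106187 D195679 (iv5 D106190) (iv6 D49070) D49069
theorem F397830 : act 4 n144050 = n195679 := d10_3 F397829 F331469 D144050
def n195680 : Q := act 7 n106192
theorem D195680 : act 7 n106192 = n195680 := rfl
theorem F397831 : act 2 n195680 = n106195 := d4_1 D195680 (iv7 D106195) (iv2 F163183)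
theorem F397832 : act 3 n195680 = n109060 := d8_1 D195680 (iv7 D109060) (iv3 F163184)
theorem F397833 : act 4 n195680 = n155966 := d11_1 D195680 (iv7 D155966) (iv4 F163185)
theorem F397834 : act 5 n195680 = n110842 := d13_1 D195680 F171688 F166052
theorem F397835 : act 6 n195680 = n126182 := d14_1 D195680 (iv7 D126182) (iv6 D59148) (iv7 F77445) D106192
theorem F397836 : act 1 n106194 = n195680 := d15_1 D106194 (iv7 D195680) F163183
theorem F397837 : act 1 n195680 = n106193 := d15_1 F397836 (iv7 F202178) F202177
def n195681 : Q := act 5 n106193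
theorem D195681 : act 5 n106193 = n195681 := rfl
theorem F397838 : act 2 n195681 = n126333 := d2_1 D195681 (iv5 D126333) F171922
theorem F397839 : act 3 n195681 = n123306 := d6_1 D195681 F363088 F173186
theorem F397840 : act 4 n195681 = n152837 := d16_6 F339861 (iv5 F348062) (iv4 F348112) (iv5 D112126) F173191 D195681 (iv5 D152837) (iv7 F351409) F339863
def n195682 : Q := act 5 n106194
theorem D195682 : act 5 n106194 = n195682 := rfl
theorem F397841 : act 3 n195682 = n107752 := d6_1 D195682 F166388 F169336
theorem F397842 : act 6 n195682 = n107750 := d12_2 F227092 D195682 F226979 (iv6 F226980) D144354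
theorem F397843 : act 7 n195682 = n126333 := d13_2 F171873 D195682 (iv5 D126333)
theorem F397844 : act 4 n195682 = n115716 := d16_2 (iv4 F169335) D195682 F224073 F339861 (iv5 F348062) (iv4 F348112) (iv5 D112126) F174273 (iv2 F174272)
def n195683 : Q := act 4 n106201
theorem D195683 : act 4 n106201 = n195683 := rfl
theorem F397845 : act 2 n195683 = n126178 := d1_1 D195683 (iv4 D126178) (iv2 F163199)
theorem F397846 : act 6 n195683 = n112900 := d10_2 (iv6 F163200) D195683 (iv4 D112900)
theorem F397847 : act 7 n195683 = n126175 := d11_2 (iv7 F163201) D195683 (iv4 D126175)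
theorem F397848 : act 1 n195683 = n127115 := d18_6 (iv1 F76533) (iv4 F93367) (iv1 F93370) F165833 D106201 D195683 F204366 (iv0 F165153) (iv5 D52325)
def n195684 : Q := act 3 n106207
theorem D195684 : act 3 n106207 = n195684 := rfl
theorem F397849 : act 7 n195684 = n106213 := d8_2 F163216 D195684 (iv3 D106213)
theorem F397850 : act 0 n126218 = n195684 := d20_4 (iv4 D111698) D111695 F173416 D126218 (iv3 D195684) (iv4 F395467) F395470 (iv4 F207163) (iv3 F343537) F173419
def n195685 : Q := act 5 n106207
theorem D195685 : act 5 n106207 = n195685 := rfl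
theorem F397851 : act 2 n195685 = n106210 := d2_1 D195685 (iv5 D106210) D106207
theorem F397852 : act 7 n195685 = n106215 := d13_2 F163216 D195685 (iv5 D106215)
theorem F397853 : act 0 n195685 = n113246 := d17_2 (iv1 F381059) D195685 (iv5 D113246) (iv4 F168629) (iv5 F202322) (iv0 F366359) (iv5 F361379) F342902 F92933
def n195686 : Q := act 6 n106207
theorem D195686 : act 6 n106207 = n195686 := rfl
theorem F397854 : act 2 n195686 = n106211 := d3_1 D195686 (iv6 D106211) D106207
theorem F397855 : act 4 n195686 = n125594 := d10_1 D195686 (iv6 F395477) F395467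
theorem F397856 : act 0 n113441 = n195686 := d21_4 (iv5 F392617) (iv1 F395095) F395094 (iv6 F341626) (iv6 D195686) D195685 F397853 (iv5 D113246) D113247 F365576
theorem F397857 : act 1 n126173 = n195686 := d15_0 (iv0 F397856) F331141 (iv2 F327959)
theorem F397858 : act 7 n170243 = n195686 := d11_0 F397855 F202035 (iv4 F343937)
theorem F397859 : act 6 n190781 = n170243 := d14_5 F397858 (iv6 D195686) (iv7 F163216) D106216 F381035
def n195687 : Q := act 1 n106208
theorem D195687 : act 1 n106208 = n195687 := rfl
theorem F397860 : act 5 n195687 = n137171 := d18_9 (iv1 F384097) F367823 F367826 F161520 F76644 (iv4 F82603) (iv0 F381045) F381047 D195687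
theorem F397861 : act 3 n109075 = n195687 := d20_3 F76543 D50359 D109075 (iv1 D195687) (iv3 D106208) D106209 F343540 F206986 F343536 (iv1 D105235)
theorem F397862 : act 2 n195687 = n126195 := d0_1 F397861 (iv3 D126195) F352264 D113381 F358836
theorem F397863 : act 4 n195687 = n113481 := d20_6 F323930 (iv1 D78537) (iv4 F324474) D59188 F176632 F397861 (iv1 D113481) (iv4 D52384) D52383 (iv1 F176635)
def n195688 : Q := act 3 n106209
theorem D195688 : act 3 n106209 = n195688 := rfl
theorem F397864 : act 6 n195688 = n181145 := d7_2 (iv6 F355901) D195688 F355900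
def n195689 : Q := act 7 n106209
theorem D195689 : act 7 n106209 = n195689 := rfl
theorem F397865 : act 2 n195689 = n106214 := d4_1 D195689 F395469 (iv2 F395468)
theorem F397866 : act 4 n195689 = n106212 := d11_1 D195689 (iv7 D106212) D106209
theorem F397867 : act 0 n128935 = n195689 := d20_10 F397866 F381040 (iv4 F92933) F92932 F81915 D112442 F174930 F173038 F173218 (iv3 F343542)
def n195690 : Q := act 0 n106210
theorem D195690 : act 0 n106210 = n195690 := rfl
theorem F397868 : act 2 n113246 = n195690 := d15_3 (iv0 D195690) (iv0 F383737) (iv7 F176444)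
theorem F397869 : act 3 n195690 = n126246 := d0_2 (iv3 F176443) F397868 (iv2 F203026) (iv3 D107540) (iv2 F82649)
theorem F397870 : act 5 n195690 = n113245 := d2_2 D113246 F397868 (iv2 D113245)
def n195691 : Q := act 4 n106210
theorem D195691 : act 4 n106210 = n195691 := rfl
def n195692 : Q := act 7 n106210
theorem D195692 : act 7 n106210 = n195692 := rfl
theorem F397871 : act 2 n195692 = n106215 := d4_1 D195692 (iv7 F397852) F397851
theorem F397872 : act 5 n195692 = n106212 := d13_1 D195692 (iv7 D106212) D106210
theorem F397873 : act 1 n106215 = n195690 := d15_0 (iv0 D195690) D195692 F397871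
theorem F397874 : act 1 n195692 = n113246 := d15_0 (iv0 F397853) F397852 (iv2 F397871)
def n195693 : Q := act 7 n106211
theorem D195693 : act 7 n106211 = n195693 := rfl
theorem F397875 : act 2 n195693 = n170243 := d4_1 D195693 F397858 F397854
theorem F397876 : act 4 n195693 = n126214 := d11_1 D195693 F202981 F355899
theorem F397877 : act 1 n113441 = n195693 := d15_1 (iv0 F397856) (iv7 D195693) (iv2 F397854)
theorem F397878 : act 1 n195693 = n126173 := d15_1 F397877 F202898 F343935
def n195694 : Q := act 0 n106213
theorem D195694 : act 0 n106213 = n195694 := rfl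
theorem F397879 : act 4 n195694 = n113453 := d18_3 (iv1 F377899) F377901 D195694 F347820 (iv4 F393632) (iv0 F393633) (iv4 F366048) (iv0 D127485) D127488
theorem F397880 : act 3 n195694 = n126242 := d20_5 (iv4 F206986) F362950 (iv4 D106214) D106213 D195694 (iv4 F395695) (iv1 D195081) (iv4 D105247) D105246 F362951
theorem F397881 : act 2 n126218 = n195694 := d15_3 (iv0 D195694) (iv0 F377902) (iv7 F355951)
def n195695 : Q := act 2 n106213
theorem D195695 : act 2 n106213 = n195695 := rfl
def n195696 : Q := act 5 n106213
theorem D195696 : act 5 n106213 = n195696 := rfl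
theorem F397882 : act 3 n195696 = n106215 := d6_1 D195696 (iv5 D106215) D106213
def n195697 : Q := act 6 n106213
theorem D195697 : act 6 n106213 = n195697 := rfl
theorem F397883 : act 3 n195697 = n106216 := d7_1 D195697 (iv6 D106216) D106213
theorem F397884 : act 5 n190465 = n195697 := d6_0 F397883 F348402 (iv3 F379829)
theorem F397885 : act 4 n166669 = n195697 := d20_2 F262066 (iv1 F262306) F397883 (iv1 F364790) (iv3 D113403) F164032 (iv1 F77462) (iv4 F82744) (iv3 F176647) F327624
theorem F397886 : act 6 n189827 = n166669 := d10_0 F397885 (iv6 D195697) (iv4 F377901)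
theorem F397887 : act 6 n195696 = n106454 := d12_4 (iv6 F379830) F397884 (iv6 D195697) D195696 F341613
theorem F397888 : act 0 n190796 = n195696 := d21_4 (iv5 D190791) (iv1 D96677) D96679 D190796 F397887 F341613 (iv1 F319140) (iv5 D106623) D106624 (iv1 F381088)
def n195698 : Q := act 5 n106214
theorem D195698 : act 5 n106214 = n195698 := rfl
theorem F397889 : act 7 n195698 = n125591 := d13_2 (iv7 F395469) D195698 (iv5 F395476)
def n195699 : Q := act 6 n106214
theorem D195699 : act 6 n106214 = n195699 := rfl
theorem F397890 : act 4 n195699 = n106216 := d10_1 D195699 (iv6 D106216) D106214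
def n195700 : Q := act 4 n106215
theorem D195700 : act 4 n106215 = n195700 := rfl
def n195701 : Q := act 6 n106215
theorem D195701 : act 6 n106215 = n195701 := rfl
theorem F397891 : act 3 n195701 = n106454 := d7_1 D195701 (iv6 F397887) F397882
def n195702 : Q := act 4 n106219
theorem D195702 : act 4 n106219 = n195702 := rfl
theorem F397892 : act 2 n195702 = n106222 := d1_1 D195702 (iv4 D106222) (iv2 F163220)
theorem F397893 : act 7 n195702 = n195621 := d11_2 (iv7 F163222) D195702 F397652
theorem F397894 : act 0 n195702 = n195620 := d20_1 D195702 (iv4 F397650) (iv3 D195092) (iv1 F161210) (iv3 F161560) F383736 (iv1 F383742) (iv4 F397676) (iv3 D195633) (iv1 F163224)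
theorem F397895 : act 1 n195702 = n195619 := d15_0 (iv0 D195619) (iv7 F163228) (iv2 F397892)
def n195703 : Q := act 6 n106219
theorem D195703 : act 6 n106219 = n195703 := rfl
theorem F397896 : act 2 n195703 = n106223 := d3_1 D195703 (iv6 D106223) (iv2 F163220)
theorem F397897 : act 3 n195703 = n126263 := d7_1 D195703 (iv6 D126263) (iv3 F163221)
def n195704 : Q := act 4 n106220
theorem D195704 : act 4 n106220 = n195704 := rfl
theorem F397898 : act 2 n195704 = n195637 := d1_1 D195704 (iv4 D195637) (iv2 F395224)
theorem F397899 : act 7 n195704 = n195634 := d11_2 (iv7 F395228) D195704 (iv4 D195634)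
def n195705 : Q := act 3 n106221
theorem D195705 : act 3 n106221 = n195705 := rfl
theorem F397900 : act 7 n195705 = n195636 := d8_2 F395230 D195705 (iv3 D195636)
def n195706 : Q := act 4 n106221
theorem D195706 : act 4 n106221 = n195706 := rfl
theorem F397901 : act 2 n195706 = n195634 := d1_1 D195706 (iv4 D195634) F395229
theorem F397902 : act 7 n195706 = n195637 := d11_2 F395230 D195706 (iv4 D195637)
def n195707 : Q := act 6 n106221
theorem D195707 : act 6 n106221 = n195707 := rfl
theorem F397903 : act 2 n195707 = n195635 := d3_1 D195707 (iv6 D195635) F395229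
theorem F397904 : act 5 n114957 = n195707 := d2_0 F397903 (iv5 F397684) F396421
theorem F397905 : act 1 n195707 = n195175 := d15_0 F396101 (iv7 F397682) (iv2 F397903)
theorem F397906 : act 1 n195177 = n195707 := d15_0 F397905 F396100 (iv2 F396103)
theorem F397907 : act 3 n195707 = n132023 := d6_1 F397904 (iv5 F366018) (iv3 F363884)
theorem F397908 : act 6 n132023 = n195705 := d7_2 D195707 F397907 (iv3 D195705)
def n195708 : Q := act 0 n106222
theorem D195708 : act 0 n106222 = n195708 := rfl
theorem F397909 : act 1 n195621 = n195708 := d15_0 (iv0 D195708) F163228 D195621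
def n195709 : Q := act 1 n106222
theorem D195709 : act 1 n106222 = n195709 := rfl
theorem F397910 : act 1 n195709 = n195621 := d15_1 D195709 (iv7 F397893) F397892
theorem F397911 : act 4 n113933 = n195709 := d20_6 F40167 (iv1 D12132) D12133 D25528 D52598 D113933 (iv1 D195709) (iv4 D106222) F77466 (iv1 F40169)
theorem F397912 : act 7 n195709 = n195620 := d11_2 F395732 F397911 (iv4 F397650)
theorem F397913 : act 2 n195620 = n195708 := d15_3 (iv0 D195708) D195709 F397912
theorem F397914 : act 2 n195709 = n195619 := d15_3 (iv0 D195619) D195620 (iv7 F397912)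
theorem F397915 : act 7 n195619 = n195708 := d4_2 (iv7 F397912) F397914 (iv2 F397913)
def n195710 : Q := act 5 n106222
theorem D195710 : act 5 n106222 = n195710 := rfl
theorem F397916 : act 3 n195710 = n113730 := d6_1 D195710 F176958 (iv3 F163227)
theorem F397917 : act 7 n195710 = n195618 := d13_2 (iv7 F163228) D195710 F397648
def n195711 : Q := act 6 n106222
theorem D195711 : act 6 n106222 = n195711 := rfl
theorem F397918 : act 3 n195711 = n195627 := d7_1 D195711 (iv6 D195627) (iv3 F163227)
theorem F397919 : act 4 n195711 = n106223 := d10_1 D195711 (iv6 D106223) D106222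
def n195712 : Q := act 0 n106223
theorem D195712 : act 0 n106223 = n195712 := rfl
def n195713 : Q := act 1 n106223
theorem D195713 : act 1 n106223 = n195713 := rfl
def n195714 : Q := act 7 n106223
theorem D195714 : act 7 n106223 = n195714 := rfl
theorem F397920 : act 3 n195714 = n106227 := d8_1 D195714 (iv7 D106227) (iv3 F163229)
theorem F397921 : act 6 n195714 = n131965 := d14_1 D195714 F362919 (iv6 D106109) F77467 D106223
def n195715 : Q := act 5 n106225
theorem D195715 : act 5 n106225 = n195715 := rfl
theorem F397922 : act 2 n195715 = n126296 := d2_1 D195715 (iv5 D126296) (iv2 F383823)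
theorem F397923 : act 7 n195715 = n126301 := d13_2 (iv7 F383827) D195715 (iv5 D126301)
def n195716 : Q := act 3 n106226
theorem D195716 : act 3 n106226 = n195716 := rfl
theorem F397924 : act 4 n195716 = n106239 := d5_2 (iv4 F383821) D195716 F163267 D146321 (iv3 F335957)
theorem F397925 : act 7 n195716 = n106246 := d8_2 (iv7 F383822) D195716 F377848
theorem F397926 : act 2 n106244 = n195716 := d1_3 F397924 F163266 D106244
def n195717 : Q := act 5 n106226
theorem D195717 : act 5 n106226 = n195717 := rfl
theorem F397927 : act 2 n195717 = n126301 := d2_1 D195717 (iv5 D126301) (iv2 F383820)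
theorem F397928 : act 7 n195717 = n126296 := d13_2 (iv7 F383822) D195717 (iv5 D126296)
def n195718 : Q := act 6 n106226
theorem D195718 : act 6 n106226 = n195718 := rfl
theorem F397929 : act 2 n195718 = n126302 := d3_1 D195718 (iv6 D126302) (iv2 F383820)
theorem F397930 : act 4 n195718 = n194772 := d10_1 D195718 F394403 (iv4 F383821)
theorem F397931 : act 0 n128968 = n195718 := d18_2 (iv1 F374526) (iv4 F341623) F397930 F394402 (iv4 F369462) F369718 F369716 (iv0 F369266) (iv5 F374525)
theorem F397932 : act 1 n188715 = n195718 := d18_6 (iv1 D92797) (iv4 F70043) (iv1 F146954) (iv4 D92695) D92696 D188715 F397930 F394405 F177287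
theorem F397933 : act 3 n195718 = n193367 := d20_3 (iv4 F362285) (iv1 F394405) (iv4 F397930) (iv1 F389599) F207201 (iv4 F207238) (iv1 F348863) F348862 (iv3 F391723) F391725
theorem F397934 : act 6 n193367 = n195716 := d7_2 D195718 F397933 (iv3 D195716)
def n195719 : Q := act 4 n106230
theorem D195719 : act 4 n106230 = n195719 := rfl
theorem F397935 : act 2 n195719 = n106253 := d1_1 D195719 F163287 (iv2 F163241)
theorem F397936 : act 7 n195719 = n106241 := d11_2 (iv7 F163243) D195719 (iv4 D106241)
theorem F397937 : act 0 n195719 = n106249 := d18_2 F163244 D195719 (iv4 F177096) F177094 F103879 F94162 F77987 F94159 (iv5 F115177)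
theorem F397938 : act 1 n195719 = n106248 := d18_6 F139339 (iv4 D49092) D49090 F77483 D106230 D195719 F177122 (iv0 F371415) (iv5 D187755)
def n195720 : Q := act 6 n106230
theorem D195720 : act 6 n106230 = n195720 := rfl
theorem F397939 : act 2 n195720 = n106257 := d3_1 D195720 (iv6 D106257) (iv2 F163241)
theorem F397940 : act 3 n195720 = n113731 := d7_1 D195720 (iv6 D113731) (iv3 F163242)
theorem F397941 : act 5 n195720 = n114340 := d12_1 D195720 (iv6 D114340) (iv5 D52767) F77485 D106230
def n195721 : Q := act 4 n106231
theorem D195721 : act 4 n106231 = n195721 := rfl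
theorem F397942 : act 2 n195721 = n106233 := d1_1 D195721 (iv4 D106233) (iv2 F163246)
theorem F397943 : act 7 n195721 = n106237 := d11_2 (iv7 F163248) D195721 (iv4 D106237)
def n195722 : Q := act 4 n106232
theorem D195722 : act 4 n106232 = n195722 := rfl
theorem F397944 : act 2 n195722 = n113792 := d1_1 D195722 (iv4 D113792) (iv2 F163251)
theorem F397945 : act 6 n195722 = n125895 := d10_2 F335806 D195722 (iv4 F360025)
theorem F397946 : act 0 n195722 = n114022 := d18_2 F371424 D195722 (iv4 D114022) (iv5 D52625) F40374 (iv0 F77961) (iv4 F164471) F164474 (iv5 F371422)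
theorem F397947 : act 1 n195722 = n107538 := d18_6 (iv1 D23952) F18227 D23951 D49092 D106232 D195722 (iv4 D107538) F163250 (iv5 D49096)
theorem F397948 : act 3 n125934 = n195722 := d7_3 F397945 F202386 (iv6 F202417)
theorem F397949 : act 5 n125892 = n195722 := d12_5 F397945 (iv5 D125895) (iv6 D58949) (iv5 F93152) D125892
theorem F397950 : act 0 n106251 = n125892 := d21_7 F333461 F296434 (iv5 F330394) D128824 F335845 (iv6 D106252) D106251 F397949 F397945 F360022
def n195723 : Q := act 0 n106233
theorem D195723 : act 0 n106233 = n195723 := rfl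
theorem F397951 : act 4 n195723 = n113776 := d18_3 (iv1 F83136) D106233 D195723 F177031 (iv4 F163329) (iv0 F164473) F164471 (iv0 F77960) D49679
theorem F397952 : act 1 n106237 = n195723 := d15_0 (iv0 D195723) (iv7 F397427) F397426
theorem F397953 : act 6 n191132 = n195723 := d10_0 F397951 (iv6 F335833) (iv4 F382348)
def n195724 : Q := act 1 n106233
theorem D195724 : act 1 n106233 = n195724 := rfl
theorem F397954 : act 1 n195724 = n106237 := d15_1 D195724 (iv7 F397943) F397942
theorem F397955 : act 4 n195724 = n113791 := d18_7 F138862 (iv4 F139336) F139339 (iv4 D49092) D49093 D106233 D195724 (iv0 F233460) F233458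
def n195725 : Q := act 3 n106233
theorem D195725 : act 3 n106233 = n195725 := rfl
theorem F397956 : act 4 n195725 = n189905 := d5_2 D106233 D195725 F378178 F324057 (iv3 F114804)
theorem F397957 : act 6 n134079 = n195725 := d10_0 F397956 (iv6 D189905) (iv4 F347326)
theorem F397958 : act 0 n195725 = n106476 := d20_7 F216839 F328807 (iv4 D66260) (iv3 F101828) D141220 (iv3 F378178) (iv4 F397956) (iv4 F216836) F216835 D134768
def n195726 : Q := act 5 n106233
theorem D195726 : act 5 n106233 = n195726 := rfl
def n195727 : Q := act 6 n106233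
theorem D195727 : act 6 n106233 = n195727 := rfl
theorem F397959 : act 3 n195727 = n134079 := d7_1 D195727 F397957 (iv3 D195725)
theorem F397960 : act 4 n195727 = n106234 := d10_1 D195727 (iv6 D106234) D106233
theorem F397961 : act 5 n126037 = n195727 := d21_2 (iv5 F330409) F333475 (iv6 D195727) D195723 (iv6 F397953) (iv5 D191132) (iv1 D97306) D97308 F333481 (iv1 D128983)
theorem F397962 : act 6 n195726 = n126036 := d12_4 D126037 F397961 (iv6 D195727) D195726 (iv5 D126036)
theorem F397963 : act 0 n195727 = n135833 := d17_2 F333475 F397961 F333449 F297414 F88565 (iv0 F324006) F93269 F93277 D126133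
theorem F397964 : act 1 n195727 = n135822 := d17_6 (iv1 F119724) D78568 (iv1 F257903) (iv5 F324478) (iv4 F202738) F397961 F333454 F297402 F296837
def n195728 : Q := act 0 n106234
theorem D195728 : act 0 n106234 = n195728 := rfl
theorem F397965 : act 4 n195728 = n128694 := d18_3 (iv1 F397964) F397960 D195728 F333461 (iv4 D78564) (iv0 D35789) (iv4 F56456) D78560 (iv5 F333454)
theorem F397966 : act 2 n113717 = n195728 := d15_3 (iv0 D195728) (iv0 F395885) F395884
theorem F397967 : act 3 n195728 = n113726 := d0_2 D113717 F397966 (iv2 F343658) (iv3 F343651) F343645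
def n195729 : Q := act 7 n106234
theorem D195729 : act 7 n106234 = n195729 := rfl
theorem F397968 : act 2 n195729 = n135704 := d4_1 D195729 (iv7 F349104) (iv2 F361068)
theorem F397969 : act 3 n195729 = n135550 := d8_1 D195729 F349126 F335891
theorem F397970 : act 5 n195729 = n135704 := d13_1 D195729 (iv7 F349104) (iv5 F364324)
theorem F397971 : act 1 n135704 = n195728 := d15_0 (iv0 D195728) D195729 F397968
theorem F397972 : act 0 n113717 = n195729 := d20_4 (iv4 F93382) (iv1 F343631) (iv4 D113718) D113717 F397969 (iv4 F380869) F380868 F363637 F363639 (iv1 D105315)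
def n195730 : Q := act 4 n106236
theorem D195730 : act 4 n106236 = n195730 := rfl
theorem F397973 : act 3 n195730 = n106479 := d5_1 D195730 (iv4 D106479) F83880 (iv4 F326218) (iv3 F163259)
theorem F397974 : act 6 n195730 = n188616 := d10_2 (iv6 F163260) D195730 (iv4 D188616)
theorem F397975 : act 7 n195730 = n113792 := d11_2 (iv7 F163261) D195730 (iv4 D113792)
theorem F397976 : act 0 n195730 = n107538 := d18_2 F371507 D195730 (iv4 D107538) (iv5 D49679) F37980 D49678 D107537 (iv0 F165915) (iv5 F371504)
theorem F397977 : act 1 n195730 = n114022 := d18_6 D49090 F77483 (iv1 F77486) D49095 D106236 D195730 (iv4 D114022) (iv0 F83135) (iv5 D49093)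
def n195731 : Q := act 3 n106237
theorem D195731 : act 3 n106237 = n195731 := rfl
def n195732 : Q := act 5 n106237
theorem D195732 : act 5 n106237 = n195732 := rfl
theorem F397978 : act 4 n195732 = n125892 := d16_2 D106237 D195732 F397949 (iv4 D195722) (iv5 D106232) (iv4 D49092) D49093 (iv7 F162423) F162421
theorem F397979 : act 6 n125888 = n195732 := d10_0 F397978 (iv6 D125892) (iv4 F202382)
def n195733 : Q := act 6 n106237
theorem D195733 : act 6 n106237 = n195733 := rfl
theorem F397980 : act 4 n195733 = n106238 := d10_1 D195733 (iv6 D106238) D106237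
theorem F397981 : act 0 n188795 = n195733 := d18_2 F335786 D188795 F397980 F163263 F138850 (iv0 F290220) F68189 F135448 (iv5 F335788)
theorem F397982 : act 0 n195733 = n188781 := d20_1 (iv4 F397980) (iv4 D188781) (iv3 D92792) (iv1 F68257) (iv3 F135568) D185869 (iv1 F371095) (iv4 D187645) D187644 F386958
def n195734 : Q := act 7 n106238
theorem D195734 : act 7 n106238 = n195734 := rfl
theorem F397983 : act 3 n195734 = n135707 := d8_1 D195734 (iv7 F349107) (iv3 F163262)
theorem F397984 : act 5 n195734 = n185851 := d13_1 D195734 (iv7 F290208) (iv5 F163263)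
theorem F397985 : act 6 n195734 = n135704 := d14_1 D195734 (iv7 F349104) F335895 F163248 D106238
theorem F397986 : act 1 n113749 = n195734 := d15_1 (iv0 F374843) (iv7 D195734) (iv2 F374194)
def n195735 : Q := act 6 n106239
theorem D195735 : act 6 n106239 = n195735 := rfl
theorem F397987 : act 2 n195735 = n106245 := d3_1 D195735 (iv6 D106245) (iv2 F163266)
theorem F397988 : act 3 n195735 = n135554 := d7_1 D195735 F349103 (iv3 F163267)
theorem F397989 : act 4 n195735 = n193367 := d10_1 D195735 F397934 F397924
def n195736 : Q := act 4 n106240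
theorem D195736 : act 4 n106240 = n195736 := rfl
theorem F397990 : act 2 n195736 = n106246 := d1_1 D195736 (iv4 D106246) (iv2 F163272)
theorem F397991 : act 3 n195736 = n169921 := d5_1 D195736 F267344 F363445 (iv4 F162400) (iv3 F163273)
theorem F397992 : act 7 n195736 = n106244 := d11_2 (iv7 F163270) D195736 (iv4 D106244)
theorem F397993 : act 6 n169919 = n195736 := d7_0 F397991 (iv6 D169921) (iv3 F267341)
def n195737 : Q := act 6 n106240
theorem D195737 : act 6 n106240 = n195737 := rfl
theorem F397994 : act 2 n195737 = n106247 := d3_1 D195737 (iv6 D106247) (iv2 F163272)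
theorem F397995 : act 3 n195737 = n144854 := d7_1 D195737 (iv6 D144854) (iv3 F163273)
theorem F397996 : act 4 n195737 = n169919 := d10_1 D195737 F397993 (iv4 D195736)
theorem F397997 : act 5 n195737 = n106713 := d12_1 D195737 (iv6 D106713) (iv5 D49311) D49312 F163271
theorem F397998 : act 0 n113690 = n195737 := d20_4 (iv4 F176470) (iv1 F288402) (iv4 D113691) D113690 F397995 F363454 (iv1 D89040) D89041 (iv3 F347563) (iv1 F161556)
def n195738 : Q := act 1 n106241
theorem D195738 : act 1 n106241 = n195738 := rfl
theorem F397999 : act 1 n195738 = n106253 := d15_1 D195738 (iv7 D106253) (iv2 F163274)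
theorem F398000 : act 7 n195738 = n106248 := d15_2 F177126 D195738 (iv2 F177123)
theorem F398001 : act 2 n106249 = n195738 := d4_3 F398000 (iv2 F177123) F177124
def n195739 : Q := act 3 n106241
theorem D195739 : act 3 n106241 = n195739 := rfl
theorem F398002 : act 4 n195739 = n195618 := d5_2 D106241 D195739 (iv3 D195618) (iv4 D106098) (iv3 F77514)
theorem F398003 : act 0 n195098 = n195739 := d20_4 F77471 D106125 (iv4 F395522) D195098 (iv3 D195739) (iv4 D106241) D106239 (iv4 F397924) (iv3 D195716) (iv1 D106226)
def n195740 : Q := act 5 n106241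
theorem D195740 : act 5 n106241 = n195740 := rfl
theorem F398004 : act 2 n195740 = n106251 := d2_1 D195740 (iv5 D106251) (iv2 F163274)
def n195741 : Q := act 6 n106241
theorem D195741 : act 6 n106241 = n195741 := rfl
theorem F398005 : act 2 n195741 = n106252 := d3_1 D195741 (iv6 D106252) (iv2 F163274)
theorem F398006 : act 4 n195741 = n106242 := d10_1 D195741 (iv6 D106242) D106241
theorem F398007 : act 5 n154025 = n195741 := d16_1 (iv4 F242049) F398006 F163277 F77589 (iv5 D27771) (iv4 F44851) D58295 F308301 (iv2 F308298)
theorem F398008 : act 0 n135841 = n195741 := d18_2 (iv1 D135843) (iv4 F218495) F398006 F163277 F77589 D58308 D124729 F199571 (iv5 F363734)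
theorem F398009 : act 0 n195741 = n106800 := d20_7 (iv4 F203521) (iv1 D126552) (iv4 F98447) (iv3 F216446) F332611 (iv3 F163276) (iv4 F398006) (iv4 F328630) (iv3 D113876) F328248
theorem F398010 : act 7 n195741 = n154024 := d13_2 D154025 F398007 (iv5 D154024)
def n195742 : Q := act 0 n106242
theorem D195742 : act 0 n106242 = n195742 := rfl
theorem F398011 : act 5 n195742 = n170548 := d17_3 (iv1 D106306) (iv5 F163277) D195742 (iv4 F299888) (iv5 D101278) F305994 (iv5 F106549) (iv0 F205953) (iv4 F190358)
theorem F398012 : act 4 n195742 = n195185 := d18_1 D195742 F396150 (iv4 F335844) (iv5 F335843) (iv4 F320176) F320173 F234968 (iv0 D106305) (iv5 F163277)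
theorem F398013 : act 6 n195742 = n170448 := d21_5 (iv5 D105762) F77085 D49098 D106242 D195742 (iv5 D170448) (iv1 F313244) F177505 (iv6 D113710) F162424
theorem F398014 : act 2 n106254 = n195742 := d3_3 F398013 (iv2 F382139) F382141
theorem F398015 : act 3 n146372 = n195742 := d7_3 F398013 (iv3 F349015) (iv6 F349018)
theorem F398016 : act 7 n106255 = n195742 := d14_0 F398013 F382379 F382377 F333484 F349024
theorem F398017 : act 0 n195742 = n106256 := d20_4 (iv4 F335971) (iv1 F349032) F349019 F398015 F163288 (iv4 F163306) (iv1 F177808) (iv4 D105365) D105364 (iv1 F349030)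
def n195743 : Q := act 1 n106242
theorem D195743 : act 1 n106242 = n195743 := rfl
theorem F398018 : act 1 n195743 = n106256 := d15_1 D195743 (iv7 D106256) (iv2 F163275)
theorem F398019 : act 7 n195743 = n106254 := d15_2 (iv0 D195742) D195743 F398014
theorem F398020 : act 5 n195743 = n127323 := d18_9 (iv1 F366155) (iv4 F366154) (iv1 D119721) D119722 F339637 F328630 (iv0 F398009) F398006 D195743
theorem F398021 : act 2 n106255 = n195743 := d4_3 F398019 F398014 (iv7 F398016)
def n195744 : Q := act 7 n106242
theorem D195744 : act 7 n106242 = n195744 := rfl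
theorem F398022 : act 2 n195744 = n106256 := d4_1 D195744 (iv7 D106256) (iv2 F163275)
theorem F398023 : act 3 n195744 = n164476 := d8_1 D195744 (iv7 D164476) (iv3 F163276)
theorem F398024 : act 4 n195744 = n154024 := d11_1 D195744 (iv7 F398010) F398006
theorem F398025 : act 5 n195744 = n106307 := d13_1 D195744 (iv7 D106307) (iv5 F163277)
theorem F398026 : act 1 n106255 = n195744 := d15_1 D106255 (iv7 D195744) F163275
theorem F398027 : act 1 n195744 = n106254 := d15_1 F398026 (iv7 F398019) (iv2 F398021)
def n195745 : Q := act 6 n106243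
theorem D195745 : act 6 n106243 = n195745 := rfl
theorem F398028 : act 2 n195745 = n144853 := d3_1 D195745 (iv6 D144853) (iv2 F163278)
theorem F398029 : act 3 n195745 = n106245 := d7_1 D195745 (iv6 D106245) D106243
theorem F398030 : act 5 n195745 = n151348 := d12_1 D195745 (iv6 D151348) (iv5 F115175) F115170 (iv5 F163279)
theorem F398031 : act 0 n195745 = n135712 := d21_4 (iv5 D55992) F82325 (iv5 F163279) D195745 (iv6 D135712) (iv5 D63811) D63808 (iv5 F349097) (iv6 D105752) (iv1 F88619)
def n195746 : Q := act 0 n106244
theorem D195746 : act 0 n106244 = n195746 := rfl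
theorem F398032 : act 4 n195746 = n113772 := d18_3 D49099 D106244 D195746 (iv5 D113772) (iv4 F139391) (iv0 F139395) (iv4 D49092) (iv0 D23951) D23954
theorem F398033 : act 1 n106246 = n195746 := d15_0 (iv0 D195746) (iv7 F397992) F397990
theorem F398034 : act 3 n137152 = n195746 := d5_5 F398032 F177020 D113773 (iv3 F177029) D137152
theorem F398035 : act 6 n195746 = n126197 := d7_2 F384092 F398034 F384089
def n195747 : Q := act 1 n106244
theorem D195747 : act 1 n106244 = n195747 := rfl
theorem F398036 : act 1 n195747 = n106246 := d15_1 D195747 (iv7 F397925) (iv2 F397926)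
theorem F398037 : act 4 n113790 = n195747 := d20_6 D146635 F229930 (iv4 D105326) D105325 (iv1 F161517) (iv3 F177050) (iv1 D195747) (iv4 D106244) D106243 (iv1 F163282)
def n195748 : Q := act 3 n106244
theorem D195748 : act 3 n106244 = n195748 := rfl
theorem F398038 : act 2 n195748 = n126299 := d0_1 D195748 (iv3 D126299) (iv2 F383820) D195716 (iv2 F397926)
theorem F398039 : act 4 n195748 = n190715 := d5_2 D106244 D195748 (iv3 F395914) F395910 (iv3 D106243)
theorem F398040 : act 7 n195748 = n169921 := d8_2 F397992 D195748 (iv3 F397991)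
theorem F398041 : act 0 n195748 = n182524 := d20_10 (iv4 D182524) (iv1 D87132) (iv4 F133720) (iv3 F284027) F359713 (iv3 D106250) (iv4 D49101) D49099 D106244 D195748
theorem F398042 : act 0 n182519 = n195748 := d18_2 D87131 D182519 F398039 F380760 (iv4 F348158) (iv0 F348172) (iv4 F354214) (iv0 D93353) F294771
theorem F398043 : act 1 n182519 = n183508 := d15_1 (iv0 F398042) (iv7 F377851) (iv2 F398038)
theorem F398044 : act 0 n182518 = n137196 := d20_4 (iv4 F285247) (iv1 F398043) (iv4 D182519) D182518 (iv3 D137196) D137197 (iv1 F362712) F203709 (iv3 F219257) F365377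
def n195749 : Q := act 5 n106244
theorem D195749 : act 5 n106244 = n195749 := rfl
def n195750 : Q := act 6 n106244
theorem D195750 : act 6 n106244 = n195750 := rfl
theorem F398045 : act 2 n195750 = n193367 := d3_1 D195750 F397934 (iv2 F397926)
theorem F398046 : act 4 n195750 = n106245 := d10_1 D195750 (iv6 D106245) D106244
theorem F398047 : act 7 n195750 = n193368 := d14_2 F397992 D195750 (iv6 F395407) (iv7 F367078) F397993
def n195751 : Q := act 0 n106245
theorem D195751 : act 0 n106245 = n195751 := rfl
def n195752 : Q := act 1 n106245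
theorem D195752 : act 1 n106245 = n195752 := rfl
def n195753 : Q := act 5 n106245
theorem D195753 : act 5 n106245 = n195753 := rfl
theorem F398048 : act 3 n195753 = n151348 := d6_1 D195753 (iv5 F398030) F398029
theorem F398049 : act 6 n195753 = n106330 := d12_2 D106245 D195753 (iv5 F163401) F115176 (iv5 F115177)
def n195754 : Q := act 7 n106245
theorem D195754 : act 7 n106245 = n195754 := rfl
theorem F398050 : act 4 n195754 = n193368 := d11_1 D195754 (iv7 F398047) F398046
theorem F398051 : act 0 n113628 = n195754 := d20_10 F398050 (iv1 D193368) (iv4 F361247) (iv3 F361248) (iv1 F396025) F161538 (iv4 F93403) (iv1 F395859) (iv4 D113629) D113628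
def n195755 : Q := act 5 n106246
theorem D195755 : act 5 n106246 = n195755 := rfl
theorem F398052 : act 3 n195755 = n126296 := d6_1 D195755 (iv5 D126296) (iv3 F377848)
def n195756 : Q := act 6 n106246
theorem D195756 : act 6 n106246 = n195756 := rfl
theorem F398053 : act 2 n195756 = n169919 := d3_1 D195756 F397993 F397990
theorem F398054 : act 3 n195756 = n126297 := d7_1 D195756 (iv6 D126297) (iv3 F377848)
theorem F398055 : act 4 n195756 = n106247 := d10_1 D195756 (iv6 D106247) D106246
theorem F398056 : act 5 n169918 = n195756 := d6_0 F398054 F377837 F377831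
def n195757 : Q := act 1 n106247
theorem D195757 : act 1 n106247 = n195757 := rfl
def n195758 : Q := act 5 n106247
theorem D195758 : act 5 n106247 = n195758 := rfl
theorem F398057 : act 2 n195758 = n106713 := d2_1 D195758 (iv5 F397997) F397994
theorem F398058 : act 3 n195758 = n159992 := d6_1 D195758 F252363 F252085
theorem F398059 : act 6 n195758 = n106707 := d12_2 D106247 D195758 (iv5 D106707) (iv6 F94165) F94167
theorem F398060 : act 5 n190425 = n195757 := d21_0 (iv1 D195757) D195758 F398059 (iv1 F340327) F160701 (iv5 F147607) F147608 F70456 D96038 F379751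
theorem F398061 : act 3 n195757 = n148780 := d6_1 F398060 (iv5 F233582) F379750
theorem F398062 : act 6 n195757 = n106790 := d12_2 (iv6 F379749) F398060 F358365 (iv6 D142827) (iv5 F326249)
theorem F398063 : act 4 n106792 = n195757 := d10_3 F398062 (iv4 D106790) D106792
theorem F398064 : act 2 n113690 = n195757 := d0_5 F398061 (iv2 F331445) (iv3 D127397) (iv2 F176895) D113690
def n195759 : Q := act 7 n106247
theorem D195759 : act 7 n106247 = n195759 := rfl
theorem F398065 : act 3 n195759 = n193999 := d8_1 D195759 F391718 F252085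
theorem F398066 : act 1 n113690 = n195759 := d15_1 (iv0 F397998) (iv7 D195759) (iv2 F397994)
def n195760 : Q := act 3 n106248
theorem D195760 : act 3 n106248 = n195760 := rfl
def n195761 : Q := act 5 n106248
theorem D195761 : act 5 n106248 = n195761 := rfl
theorem F398067 : act 4 n195761 = n195755 := d16_2 (iv4 F177122) D195761 (iv5 D195755) (iv4 D106246) (iv5 F94167) (iv4 F103879) (iv5 F177094) F177095 D113831
def n195762 : Q := act 6 n106248
theorem D195762 : act 6 n106248 = n195762 := rfl
def n195763 : Q := act 3 n106249
theorem D195763 : act 3 n106249 = n195763 := rfl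
theorem F398068 : act 4 n195763 = n106778 := d5_2 F177096 D195763 (iv3 F168406) (iv4 F327473) D113820
theorem F398069 : act 7 n195763 = n195094 := d8_2 F177124 D195763 (iv3 F395737)
theorem F398070 : act 2 n125781 = n195763 := d4_3 F398069 (iv2 F395736) (iv7 F332795)
theorem F398071 : act 6 n106603 = n195763 := d14_5 F398069 (iv6 F395738) F206858 (iv6 F168196) (iv7 F168400)
theorem F398072 : act 1 n132168 = n195763 := d15_1 F214403 F398069 (iv2 F395736)
theorem F398073 : act 1 n195763 = n195091 := d15_1 F398072 F395729 (iv2 F211705)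
theorem F398074 : act 5 n125546 = n195763 := d17_7 F164203 F164202 (iv1 D61897) (iv5 D29327) (iv4 F46978) D61891 (iv0 F342982) F398073 F395728
def n195764 : Q := act 5 n106249
theorem D195764 : act 5 n106249 = n195764 := rfl
theorem F398075 : act 3 n195764 = n125546 := d6_1 D195764 F398074 (iv3 D195763)
theorem F398076 : act 4 n195764 = n195749 := d9_1 D195764 (iv5 D195749) (iv4 D106244) F115177 (iv4 F106044) (iv5 F177121) (iv4 F177122) D195761 F398067 (iv5 D195755) (iv4 D106246) (iv5 F94167) (iv4 F103879) (iv5 F177094) F177096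
theorem F398077 : act 6 n111654 = n195764 := d7_0 F398075 (iv6 D125546) (iv3 F173219)
def n195765 : Q := act 6 n106249
theorem D195765 : act 6 n106249 = n195765 := rfl
theorem F398078 : act 3 n195765 = n106603 := d7_1 D195765 F398071 (iv3 D195763)
theorem F398079 : act 5 n195765 = n111655 := d12_1 D195765 (iv6 D111655) D111654 F398077 (iv5 D195764)
theorem F398080 : act 7 n131997 = n195765 := d8_0 F398078 F168400 D131997
def n195766 : Q := act 0 n106250
theorem D195766 : act 0 n106250 = n195766 := rfl
theorem F398081 : act 4 n195766 = n126055 := d18_3 (iv1 D106260) (iv4 F163283) D195766 (iv5 D126055) (iv4 D59062) F170984 (iv4 F50048) D68196 (iv5 F170286)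
theorem F398082 : act 2 n126271 = n195766 := d15_3 (iv0 D195766) (iv0 F359713) (iv7 F380737)
theorem F398083 : act 1 n125886 = n195766 := d15_0 (iv0 D195766) (iv7 F163284) (iv2 F202378)
theorem F398084 : act 7 n195766 = n126270 := d15_2 (iv0 F359712) F398083 F380734
theorem F398085 : act 5 n126087 = n195766 := d16_7 F359710 (iv5 D104973) F76350 F321455 D28066 D59077 D126087 F398084 F380734
def n195767 : Q := act 2 n106250
theorem D195767 : act 2 n106250 = n195767 := rfl
theorem F398086 : act 4 n195767 = n106261 := d1_2 (iv4 F163283) D195767 (iv2 D106261)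
theorem F398087 : act 7 n195767 = n125886 := d4_2 F163284 D195767 F202378
theorem F398088 : act 1 n195767 = n126270 := d15_0 (iv0 D126270) F163284 D195767
theorem F398089 : act 1 n126271 = n195767 := d15_0 F398088 (iv7 F398084) (iv2 F398082)
theorem F398090 : act 5 n195767 = n125888 := d19_1 (iv1 F398088) F202382 F93151 (iv1 F82615) (iv5 D52251) (iv4 D25379) (iv3 F38462) F39417 (iv5 F45385) F45384 F39407 (iv1 F24093) (iv5 D6908) D6907 D14449 D30420 F221252 (iv4 F383818) F383817
def n195768 : Q := act 5 n106250
theorem D195768 : act 5 n106250 = n195768 := rfl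
theorem F398091 : act 2 n195768 = n125888 := d2_1 D195768 (iv5 F398090) (iv2 D195767)
theorem F398092 : act 3 n195768 = n106251 := d6_1 D195768 (iv5 D106251) D106250
theorem F398093 : act 4 n195768 = n125846 := d9_1 D195768 (iv5 D125846) F93143 F45326 (iv4 F45418) D59191 (iv4 F202379) (iv5 D125886) (iv4 D58946) (iv5 D28015) F22237 D13388 D28074 (iv5 F77524) (iv4 F163283)
theorem F398094 : act 7 n195768 = n125875 := d13_2 F163284 D195768 F202373
theorem F398095 : act 1 n195768 = n125883 := d17_8 F333480 (iv5 D126036) (iv1 F93247) D59077 D126087 F398085 (iv0 D195766) D195768 F366142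
theorem F398096 : act 0 n195768 = n125884 := d18_0 (iv4 F360443) F360441 F202380 (iv5 F93395) (iv4 F203033) F360454 (iv4 F398081) (iv0 D195766) D195768
def n195769 : Q := act 6 n106250
theorem D195769 : act 6 n106250 = n195769 := rfl
theorem F398097 : act 3 n195769 = n106252 := d7_1 D195769 (iv6 D106252) D106250
theorem F398098 : act 4 n195769 = n106262 := d10_1 D195769 (iv6 D106262) (iv4 F163283)
def n195770 : Q := act 1 n106251
theorem D195770 : act 1 n106251 = n195770 := rfl
theorem F398099 : act 5 n195770 = n195730 := d17_7 F94275 (iv5 D49096) (iv1 D23952) D23954 D49101 D106251 D195770 F397977 (iv4 D114022)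
theorem F398100 : act 4 n195726 = n195770 := d9_15 F398099 (iv4 D195730) (iv5 D106236) (iv4 D49095) D49096 D106237 D195732 F397978 F397949 (iv4 D195722) (iv5 D106232) (iv4 D49092) D49093 D106233 D195726
def n195771 : Q := act 4 n106251
theorem D195771 : act 4 n106251 = n195771 := rfl
theorem F398101 : act 5 n195771 = n195719 := d16_3 D49101 D106251 D195771 (iv4 D195719) (iv5 D106230) F77483 D106230 F163243 F77513
theorem F398102 : act 0 n195771 = n195770 := d18_2 (iv1 D195770) D195771 (iv4 F398100) (iv5 D195726) (iv4 D106233) F83136 D107538 (iv0 F397976) (iv5 F398099)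
theorem F398103 : act 1 n195771 = n125892 := d18_8 F397946 (iv4 D114022) F94275 D106237 D195732 F397978 (iv0 F397950) D195771 F397949
theorem E103634 : n195732 = n125922 := ((c20_6 (iv4 F360443) F360441 F202380 F93150 D58956 D125922 F397978 (iv1 F398103) (iv4 D195771) (iv3 F398092) F398096)).symm
theorem F398104 : act 4 n125922 = n125892 := (sb E103634 F397978)
theorem F398105 : act 5 n125922 = n106237 := (sb E103634 (iv5 D195732))
theorem F398106 : act 6 n125922 = n125888 := (sb E103634 (iv6 F397979))
theorem E103635 : n125925 = n125567 := ((c7_2 F398106 F202381 (iv6 D125925) D125922)).symm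
theorem F398107 : act 6 n125567 = n58956 := (sb E103635 (iv6 D125925))
theorem E103636 : n125923 = n125568 := (c10_2 F398107 D125923 (iv6 D125568) D125567)
theorem F398108 : act 4 n125568 = n58956 := (sb E103636 (iv4 D125923))
theorem E103637 : n195731 = n125924 := (c6_2 F398105 D195731 (iv5 D125924) D125922)
theorem F398109 : act 3 n125924 = n106237 := (sb E103637 (iv3 D195731))
theorem F398110 : act 7 n195771 = n195740 := d15_2 D195770 (iv0 F398102) F398004
def n195772 : Q := act 6 n106251
theorem D195772 : act 6 n106251 = n195772 := rfl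
def n195773 : Q := act 7 n106251
theorem D195773 : act 7 n106251 = n195773 := rfl
theorem F398111 : act 2 n195773 = n195771 := d4_1 D195773 F398110 F398004
theorem F398112 : act 3 n195773 = n125875 := d8_1 D195773 (iv7 F398094) F398092
theorem F398113 : act 4 n195773 = n195740 := d11_1 D195773 (iv7 F398110) (iv4 D195771)
theorem F398114 : act 5 n195773 = n106253 := d13_1 D195773 (iv7 D106253) D106251
def n195774 : Q := act 0 n106252
theorem D195774 : act 0 n106252 = n195774 := rfl
theorem F398115 : act 5 n195774 = n106616 := d17_3 (iv1 F363727) F339643 D195774 F164220 (iv5 F328265) (iv0 F304948) D101266 F306910 F242089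
theorem F398116 : act 4 n195774 = n135844 := d18_1 D195774 (iv1 F218502) F335844 (iv5 D154235) (iv4 D73076) D73075 (iv4 F242048) F363724 F339643
theorem F398117 : act 6 n195774 = n106782 := d21_5 (iv5 F398099) (iv1 D195770) (iv5 D106251) D106252 D195774 (iv5 F171462) (iv1 F358372) D191124 (iv6 F382325) (iv1 F397977)
theorem F398118 : act 2 n106800 = n195774 := d15_3 (iv0 D195774) (iv0 F335845) F207092
theorem F398119 : act 3 n195774 = n106618 := d0_2 (iv3 F164594) F398118 F164223 F326347 F78057
theorem F398120 : act 7 n195774 = n135841 := d4_2 F207092 F398118 F218494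
theorem F398121 : act 1 n154024 = n195774 := d15_1 (iv0 F339642) F398120 F218494
def n195775 : Q := act 7 n106252
theorem D195775 : act 7 n106252 = n195775 := rfl
theorem F398122 : act 2 n195775 = n154024 := d4_1 D195775 (iv7 F398010) F398005
theorem F398123 : act 4 n195775 = n106256 := d11_1 D195775 (iv7 D106256) (iv4 F163285)
theorem F398124 : act 5 n195775 = n124725 := d13_1 D195775 (iv7 F363722) F339643
theorem F398125 : act 1 n135841 = n195775 := d15_1 (iv0 F398008) (iv7 D195775) (iv2 F398005)
theorem F398126 : act 1 n195775 = n106800 := d15_1 F398125 (iv7 F207092) (iv2 F218494)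
def n195776 : Q := act 6 n106253
theorem D195776 : act 6 n106253 = n195776 := rfl
theorem F398127 : act 3 n195776 = n126272 := d7_1 D195776 (iv6 D126272) (iv3 F163286)
theorem F398128 : act 4 n195776 = n106257 := d10_1 D195776 (iv6 D106257) (iv4 F163287)
theorem F398129 : act 5 n195089 = n195776 := d18_4 (iv1 D52341) (iv4 F82715) F174760 (iv4 F395720) F398128 (iv0 F377850) (iv4 D113309) D113308 F204837
theorem F398130 : act 0 n195093 = n195776 := d19_0 (iv5 F398129) F395720 (iv3 D112341) F317191 (iv5 F132184) F313264 D116926 F243344 (iv5 F205285) F350032 F350035 (iv1 F222780) (iv5 D139621) F101249 (iv3 F95177) F165686 F165683 (iv4 F342853) D195093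
def n195777 : Q := act 4 n106254
theorem D195777 : act 4 n106254 = n195777 := rfl
theorem F398131 : act 2 n195777 = n195185 := d1_1 D195777 (iv4 F398012) (iv2 F398014)
theorem F398132 : act 6 n195777 = n132041 := d10_2 F382141 D195777 (iv4 F382142)
theorem F398133 : act 5 n195777 = n132941 := d16_3 (iv4 F233348) (iv5 F366676) D195777 F362900 (iv5 D72880) D72879 (iv5 F315746) F315748 F314922
theorem F398134 : act 3 n195777 = n132044 := d20_3 F163285 D106254 D195777 (iv1 F362096) (iv3 D129086) (iv4 F102053) (iv1 F78059) (iv4 F95205) (iv3 F207090) F335845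
def n195778 : Q := act 5 n106255
theorem D195778 : act 5 n106255 = n195778 := rfl
theorem F398135 : act 2 n195778 = n127323 := d2_1 D195778 (iv5 F398020) (iv2 F398021)
theorem F398136 : act 3 n195778 = n186501 := d6_1 D195778 F349055 F336820
theorem F398137 : act 4 n195778 = n127322 := d9_1 D195778 F315746 (iv4 D72879) D72880 (iv4 F362900) (iv5 F398133) (iv4 D195777) F366676 F233348 F312478 F61051 D40757 D87568 (iv5 F347555) (iv4 F349025)
theorem F398138 : act 7 n195778 = n170548 := d13_2 (iv7 F398016) D195778 (iv5 F398011)
theorem F398139 : act 1 n195778 = n154035 := d17_8 (iv1 F109388) (iv5 D33616) (iv1 D16252) D16253 (iv4 F54212) (iv5 F77516) D106255 D195778 (iv4 D154035)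
theorem F398140 : act 0 n195778 = n114319 := d18_0 F290375 (iv1 D72906) D72907 (iv5 F339636) (iv4 F398116) (iv0 D195774) F163285 D106255 D195778
theorem F398141 : act 6 n195778 = n191081 := d21_3 (iv5 F398025) (iv1 F398026) D195778 (iv1 F382148) F177510 (iv5 F164517) F350220 F350218 (iv6 D106319) (iv1 F163387)
def n195779 : Q := act 6 n106256
theorem D195779 : act 6 n106256 = n195779 := rfl
theorem F398142 : act 3 n195779 = n106276 := d7_1 D195779 (iv6 D106276) (iv3 F163288)
theorem F398143 : act 7 n195779 = n106257 := d14_2 D106256 D195779 (iv6 D106257) (iv7 D49103) D49102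
theorem F398144 : act 0 n126279 = n195779 := d20_4 (iv4 F335945) F85338 D105345 (iv3 F203043) F398142 F163315 (iv1 F163231) F383821 F335957 F335943
def n195780 : Q := act 0 n106257
theorem D195780 : act 0 n106257 = n195780 := rfl
theorem F398145 : act 4 n195780 = n126278 := d20_2 F398128 D195780 F203037 (iv1 F219114) (iv3 F355992) (iv4 D107222) (iv1 F165503) (iv4 F342853) D195093 F398130
theorem F398146 : act 2 n126279 = n195780 := d15_3 (iv0 D195780) (iv0 F377850) (iv7 F203044)
def n195781 : Q := act 5 n106257
theorem D195781 : act 5 n106257 = n195781 := rfl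
theorem F398147 : act 2 n195781 = n114340 := d2_1 D195781 (iv5 F397941) F397939
theorem F398148 : act 3 n195781 = n106279 := d6_1 D195781 (iv5 D106279) (iv3 F163290)
theorem F398149 : act 6 n195781 = n106258 := d12_2 D106257 D195781 (iv5 D106258) (iv6 D49104) (iv5 F77518)
theorem F398150 : act 0 n146460 = n195781 := d19_0 (iv5 D195781) (iv4 F398128) F398127 F360453 (iv5 D104973) F76350 F36810 F44641 D58086 F321480 F172977 F231244 F231242 (iv4 D146541) (iv3 D68689) (iv1 F85327) D117323 F183705 (iv3 F229793)
theorem F398151 : act 1 n188302 = n195781 := d15_0 (iv0 F398150) F356636 (iv2 F373028)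
def n195782 : Q := act 4 n106258
theorem D195782 : act 4 n106258 = n195782 := rfl
theorem F398152 : act 2 n195782 = n114339 := d1_1 D195782 (iv4 D114339) (iv2 F163291)
theorem F398153 : act 7 n195782 = n106331 := d11_2 (iv7 F163293) D195782 (iv4 D106331)
def n195783 : Q := act 3 n106259
theorem D195783 : act 3 n106259 = n195783 := rfl
theorem F398154 : act 5 n195783 = n145453 := d6_2 F170985 D195783 (iv3 D145453)
theorem F398155 : act 7 n195783 = n126264 := d8_2 (iv7 F170987) D195783 (iv3 D126264)
theorem F398156 : act 4 n195783 = n106593 := d20_6 (iv4 D28388) F22708 D23956 D49105 D106259 D195783 F164168 (iv4 F328779) F76551 (iv1 F45904)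
theorem F398157 : act 2 n131973 = n195783 := d1_3 F398156 F164166 (iv4 F211453)
theorem F398158 : act 6 n106592 = n195783 := d10_0 F398156 (iv6 D106593) D106592
theorem F398159 : act 0 n132153 = n195783 := d18_2 F342857 (iv4 F211669) F398156 F164167 D144317 (iv0 F227046) F112134 D106940 (iv5 F342861)
def n195784 : Q := act 4 n106259
theorem D195784 : act 4 n106259 = n195784 := rfl
theorem F398160 : act 2 n195784 = n126268 := d1_1 D195784 (iv4 D126268) (iv2 F170986)
theorem F398161 : act 7 n195784 = n126265 := d11_2 (iv7 F170987) D195784 (iv4 D126265)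
theorem F398162 : act 5 n195784 = n125867 := d16_1 D195784 (iv4 D125867) (iv5 D58940) F324552 F70731 (iv4 F324449) (iv5 F170286) F170976 (iv2 F170986)
theorem F398163 : act 0 n195784 = n126263 := d18_2 D106259 D195784 (iv4 F360456) (iv5 D126380) F170483 F323073 (iv4 F323932) (iv0 D59104) (iv5 F77524)
theorem F398164 : act 1 n195784 = n126275 := d18_6 F324455 (iv4 D110692) (iv1 F323039) (iv4 F324445) F170985 D195784 (iv4 F360455) (iv0 F380731) (iv5 D190709)
def n195785 : Q := act 6 n106259
theorem D195785 : act 6 n106259 = n195785 := rfl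
theorem F398165 : act 2 n195785 = n126269 := d3_1 D195785 (iv6 D126269) (iv2 F170986)
theorem F398166 : act 3 n195785 = n106592 := d7_1 D195785 F398158 (iv3 D195783)
theorem F398167 : act 7 n195785 = n131968 := d14_2 (iv7 F170987) D195785 F211443 (iv7 F360391) (iv6 D126266)
theorem F398168 : act 0 n195785 = n106633 := d21_4 (iv5 D68198) D68195 F170985 D195785 (iv6 D106633) D106632 (iv1 F358255) F349603 (iv6 D126258) (iv1 F170953)
def n195786 : Q := act 3 n106260
theorem D195786 : act 3 n106260 = n195786 := rfl
theorem F398169 : act 5 n195786 = n145455 := d6_2 (iv5 F170286) D195786 (iv3 D145455)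
theorem F398170 : act 7 n195786 = n126267 := d8_2 (iv7 F170976) D195786 (iv3 D126267)
def n195787 : Q := act 4 n106260
theorem D195787 : act 4 n106260 = n195787 := rfl
theorem F398171 : act 2 n195787 = n126265 := d1_1 D195787 (iv4 D126265) F170988
theorem F398172 : act 5 n195787 = n125855 := d9_2 (iv5 F170286) D195787 (iv4 D125855) (iv5 D58936) (iv4 F170447) F323939 (iv4 F324445) F170985 D195784 F398162 (iv4 D125867) (iv5 D58940) F324552 F70731 (iv4 F324449)
theorem F398173 : act 7 n195787 = n126268 := d11_2 (iv7 F170976) D195787 (iv4 D126268)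
theorem F398174 : act 0 n195787 = n126275 := d17_0 F203035 (iv1 F349598) F349573 F211350 F349569 (iv0 D59104) (iv5 F77524) D106260 D195787
theorem F398175 : act 1 n195787 = n126263 := d18_6 F347421 F261907 F296343 (iv4 F324449) (iv5 F170286) D195787 (iv4 F360456) F395374 F395373
def n195788 : Q := act 6 n106260
theorem D195788 : act 6 n106260 = n195788 := rfl
theorem F398176 : act 2 n195788 = n126266 := d3_1 D195788 (iv6 D126266) F170988
theorem F398177 : act 5 n195788 = n169937 := d12_1 D195788 (iv6 D169937) F125364 F325567 (iv5 F170286)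
theorem F398178 : act 0 n195788 = n128964 := d21_7 D128949 F339683 (iv5 F329121) F329122 F132356 D169937 (iv5 F398177) (iv5 D128964) (iv6 D60645) D60641
theorem F398179 : act 3 n186811 = n195788 := d0_0 F398176 (iv3 F360389) F202098 D128904 F368089
theorem F398180 : act 6 n195786 = n186811 := d7_0 F398179 (iv6 D195788) D195786
def n195789 : Q := act 6 n106261
theorem D195789 : act 6 n106261 = n195789 := rfl
theorem F398181 : act 2 n195789 = n106262 := d3_1 D195789 (iv6 D106262) D106261
theorem F398182 : act 3 n195789 = n128700 := d7_1 D195789 F362916 (iv3 F163295)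
theorem F398183 : act 5 n195789 = n128697 := d12_1 D195789 (iv6 D128697) (iv5 F330426) (iv6 D126113) (iv5 F163296)
theorem F398184 : act 0 n106646 = n195789 := d21_4 (iv5 F349617) (iv1 D106531) (iv5 F77862) D106646 (iv6 D195789) F163296 F93265 D59189 D126258 (iv1 F349615)
def n195790 : Q := act 1 n106262
theorem D195790 : act 1 n106262 = n195790 := rfl
theorem F398185 : act 3 n132061 = n195790 := d20_3 (iv4 D130392) (iv1 F97260) (iv4 F211541) (iv1 D195790) F163301 F77527 D49107 (iv4 F177662) D195174 (iv1 F396097)
theorem F398186 : act 2 n195790 = n106646 := d0_1 F398185 F164266 F77875 (iv3 F96576) (iv2 F211540)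
theorem F398187 : act 6 n195790 = n106628 := d7_2 D132061 F398185 F164247
theorem F398188 : act 5 n106787 = n195790 := d12_5 F398187 F164248 F340434 F358362 D106787
def n195791 : Q := act 5 n106262
theorem D195791 : act 5 n106262 = n195791 := rfl
theorem F398189 : act 2 n195791 = n128697 := d2_1 D195791 (iv5 F398183) F398181
theorem F398190 : act 3 n195791 = n106265 := d6_1 D195791 (iv5 D106265) (iv3 F163301)
theorem F398191 : act 6 n195791 = n126130 := d12_2 D106262 D195791 (iv5 D126130) (iv6 D59105) (iv5 F77524)
theorem F398192 : act 4 n185852 = n195791 := d10_3 F398191 F330456 (iv6 F335804)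
theorem F398193 : act 7 n195791 = n187495 := d11_2 F290221 F398192 (iv4 D187495)
def n195792 : Q := act 7 n106262
theorem D195792 : act 7 n106262 = n195792 := rfl
theorem F398194 : act 3 n195792 = n106266 := d8_1 D195792 (iv7 D106266) (iv3 F163301)
theorem F398195 : act 5 n195792 = n187495 := d13_1 D195792 (iv7 F398193) (iv5 D195791)
theorem F398196 : act 6 n195792 = n126275 := d14_1 D195792 (iv7 D126275) (iv6 D59195) (iv7 F77525) D106262
theorem F398197 : act 1 n106646 = n195792 := d15_1 (iv0 F398184) (iv7 D195792) (iv2 F398181)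
def n195793 : Q := act 4 n106265
theorem D195793 : act 4 n106265 = n195793 := rfl
theorem F398198 : act 2 n195793 = n129127 := d1_1 D195793 F362924 (iv2 F163303)
theorem F398199 : act 3 n195793 = n129661 := d5_1 D195793 (iv4 F209518) F335805 F398192 F398190
theorem F398200 : act 6 n195793 = n126311 := d10_2 (iv6 F163304) D195793 (iv4 D126311)
theorem F398201 : act 5 n195793 = n159481 := d16_1 D195793 F251156 F114334 F55107 (iv5 F77434) (iv4 F163135) (iv5 F397694) (iv7 D195639) (iv2 F163303)
theorem F398202 : act 7 n159480 = n195793 := d13_0 F398201 (iv7 D159481) D159480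
def n195794 : Q := act 7 n106265
theorem D195794 : act 7 n106265 = n195794 := rfl
theorem F398203 : act 2 n195794 = n195639 := d4_1 D195794 (iv7 D195639) (iv2 F163303)
theorem F398204 : act 3 n195794 = n187495 := d8_1 D195794 (iv7 F398193) F398190
theorem F398205 : act 4 n195794 = n159480 := d11_1 D195794 F398202 (iv4 D195793)
theorem F398206 : act 5 n195794 = n106266 := d13_1 D195794 (iv7 D106266) D106265
theorem F398207 : act 1 n195249 = n195794 := d15_1 (iv0 F396467) (iv7 D195794) F163303
theorem F398208 : act 1 n195794 = n195244 := d15_1 F398207 F396443 (iv2 F396464)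
def n195795 : Q := act 1 n106271
theorem D195795 : act 1 n106271 = n195795 := rfl
theorem F398209 : act 1 n195795 = n128873 := d15_1 D195795 F342933 F177873
theorem F398210 : act 7 n195795 = n113693 := d15_2 (iv0 F259069) D195795 (iv2 F204745)
theorem F398211 : act 3 n106785 = n195795 := d19_19 (iv1 D195795) F163312 (iv4 F361700) (iv3 F378440) (iv1 F378444) F336410 (iv4 D112926) (iv3 F163759) F163761 F77749 F38876 (iv3 D24058) F23557 D29674 (iv4 F96423) (iv3 F211229) (iv1 F363584) F358362 D106785
theorem F398212 : act 6 n185742 = n195795 := d21_3 (iv5 F68107) (iv1 F135444) D185742 (iv1 D195795) (iv6 D106271) D106270 (iv1 F205542) F205539 F178298 (iv1 D59841)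
theorem F398213 : act 5 n188546 = n195795 := d21_6 (iv5 D52694) (iv1 F40464) (iv5 F56627) D78980 (iv1 F142187) D188546 (iv1 D195795) F163312 (iv6 F178025) (iv1 D114153)
theorem F398214 : act 2 n195795 = n188716 := d2_1 F398213 F374535 (iv2 F373895)
theorem F398215 : act 0 n159452 = n188546 := d21_10 F398213 (iv1 D195795) F163312 (iv6 F178025) (iv1 D114153) D114155 (iv5 F205553) F251088 (iv5 D159451) D159452
def n195796 : Q := act 1 n106273
theorem D195796 : act 1 n106273 = n195796 := rfl
theorem F398216 : act 1 n195796 = n146848 := d15_1 D195796 (iv7 F361693) (iv2 F332590)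
theorem F398217 : act 7 n195796 = n113617 := d15_2 (iv0 F332589) D195796 F176796
theorem F398218 : act 5 n195796 = n106375 := d17_7 F353492 F352028 D194957 F395179 (iv4 F335994) (iv5 F332592) D195796 F334810 (iv4 F340920)
theorem F398219 : act 2 n146850 = n195796 := d2_3 F398218 F334811 (iv5 F230241)
theorem F398220 : act 4 n135850 = n195796 := d18_3 (iv1 F99352) (iv4 F208180) (iv1 F218508) F398218 (iv4 F352065) F352064 F336452 F258998 (iv5 F336457)
theorem F398221 : act 6 n146856 = n195796 := d14_5 F398217 (iv6 D113617) (iv7 F82816) D68846 D146856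
def n195797 : Q := act 0 n106275
theorem D195797 : act 0 n106275 = n195797 := rfl
theorem F398222 : act 5 n195797 = n113726 := d17_1 D195797 F325759 F324648 F323238 D131881 F211473 (iv5 D131980) F164139 (iv4 F332600)
theorem F398223 : act 4 n195797 = n106635 := d18_3 D106582 (iv4 F332600) D195797 F377468 F377467 D189707 (iv4 F377478) F327332 (iv5 D106585)
theorem F398224 : act 2 n195642 = n195797 := d15_3 (iv0 D195797) F395840 (iv7 F397711)
theorem F398225 : act 1 n130132 = n195797 := d15_0 (iv0 D195797) F332602 (iv2 F208645)
theorem F398226 : act 7 n195797 = n113631 := d15_2 (iv0 F395839) F398225 F395837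
def n195798 : Q := act 5 n106276
theorem D195798 : act 5 n106276 = n195798 := rfl
theorem F398227 : act 2 n195798 = n159482 := d2_1 D195798 F251160 (iv2 F163314)
theorem F398228 : act 6 n195798 = n106345 := d12_2 D106276 D195798 F163410 F77605 (iv5 F77530)
theorem F398229 : act 7 n195798 = n106279 := d13_2 (iv7 F163316) D195798 (iv5 D106279)
theorem F398230 : act 1 n159499 = n195798 := d15_1 D159499 F398229 F163321
theorem F398231 : act 1 n195798 = n159498 := d15_0 (iv0 D159498) (iv7 F251161) (iv2 F398227)
def n195799 : Q := act 3 n106277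
theorem D195799 : act 3 n106277 = n195799 := rfl
theorem F398232 : act 7 n195799 = n188724 := d8_2 F395773 D195799 F374581
theorem F398233 : act 0 n195799 = n146370 := d20_4 F76655 D52404 (iv4 F395521) D195799 (iv3 D146370) (iv4 D68632) (iv1 F104819) D146321 (iv3 F335957) (iv1 D105369)
theorem F398234 : act 0 n113680 = n195799 := d20_4 F216431 (iv1 F102042) D66460 (iv3 F354326) (iv3 D195799) F395521 (iv1 F161222) F161218 (iv3 F177176) F327846
theorem F398235 : act 6 n195799 = n130139 := d21_5 F139286 (iv1 F65427) (iv5 F139187) D113680 F398234 (iv5 F369292) (iv1 F369290) (iv5 F176983) (iv6 D113739) (iv1 F139288)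
theorem F398236 : act 2 n194002 = n195799 := d15_3 (iv0 F398234) (iv0 F176876) D194002
def n195800 : Q := act 5 n106277
theorem D195800 : act 5 n106277 = n195800 := rfl
theorem F398237 : act 2 n195800 = n195644 := d2_1 D195800 (iv5 D195644) F395771
theorem F398238 : act 7 n195800 = n195646 := d13_2 F395773 D195800 (iv5 D195646)
def n195801 : Q := act 6 n106277
theorem D195801 : act 6 n106277 = n195801 := rfl
theorem F398239 : act 2 n195801 = n195645 := d3_1 D195801 (iv6 D195645) F395771
theorem F398240 : act 3 n195801 = n130139 := d7_1 D195801 (iv6 F398235) (iv3 D195799)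
theorem F398241 : act 4 n195801 = n113549 := d10_1 D195801 (iv6 D113549) (iv4 F395521)
theorem F398242 : act 7 n195801 = n194004 := d14_2 F395773 D195801 (iv6 D194004) (iv7 F374530) (iv6 F374533)
theorem F398243 : act 5 n195801 = n113036 := d21_6 (iv5 D12111) (iv1 F18233) (iv5 F37413) D49110 D106277 D195801 (iv1 D113036) (iv5 F82906) (iv6 D52505) (iv1 D25483)
theorem F398244 : act 0 n113549 = n131989 := d20_7 (iv4 D63199) (iv1 D29877) (iv4 F48022) (iv3 F95613) D130139 (iv3 F398240) F398241 (iv4 F327708) F327707 (iv1 F168433)
theorem F398245 : act 3 n135520 = n195645 := d0_4 F398240 (iv2 F377693) F377694 (iv2 F371150) (iv2 F398239)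
theorem F398246 : act 6 n195643 = n135520 := d7_0 F398245 (iv6 D195645) D195643
def n195802 : Q := act 3 n106278
theorem D195802 : act 3 n106278 = n195802 := rfl
theorem F398247 : act 2 n195802 = n146855 := d0_1 D195802 F230245 (iv2 F374580) F374581 (iv2 F395772)
theorem F398248 : act 7 n195802 = n195643 := d8_2 (iv7 F395769) D195802 (iv3 D195643)
theorem F398249 : act 6 n188734 = n195802 := d14_5 F398248 F398246 F371148 (iv6 F371146) (iv7 F374631)
theorem F398250 : act 0 n195802 = n113615 := d21_4 (iv5 F145629) (iv1 F370542) F374632 F398249 (iv6 D113615) F82818 (iv1 F40272) D32016 (iv6 F65407) D90492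
theorem F398251 : act 0 n146856 = n195802 := d21_4 (iv5 D152365) (iv1 F334810) (iv5 F398218) (iv6 F398221) (iv6 F398249) (iv5 F374632) (iv1 D187488) (iv5 F139207) D187681 F371179
def n195803 : Q := act 5 n106278
theorem D195803 : act 5 n106278 = n195803 := rfl
theorem F398252 : act 2 n195803 = n195646 := d2_1 D195803 (iv5 D195646) (iv2 F395772)
theorem F398253 : act 7 n195803 = n195644 := d13_2 (iv7 F395769) D195803 (iv5 D195644)
theorem F398254 : act 6 n195803 = n188711 := d21_9 F251990 F176031 D90343 (iv6 F176041) (iv1 F163411) D159482 F251160 (iv1 F163320) D195803 (iv1 F374515)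
def n195804 : Q := act 6 n106278
theorem D195804 : act 6 n106278 = n195804 := rfl
theorem F398255 : act 2 n195804 = n188714 := d3_1 D195804 (iv6 F374533) (iv2 F395772)
theorem F398256 : act 3 n195804 = n188734 := d7_1 D195804 F398249 (iv3 D195802)
theorem F398257 : act 4 n195804 = n113554 := d10_1 D195804 (iv6 D113554) (iv4 F360472)
theorem F398258 : act 7 n188713 = n195804 := d8_0 F398256 F374631 F374528
theorem F398259 : act 1 n185742 = n195804 := d15_1 (iv0 F288021) (iv7 F398258) (iv2 F374527)
theorem F398260 : act 1 n195804 = n113689 := d15_1 F398259 (iv7 F176892) (iv2 F288019)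
def n195805 : Q := act 0 n106279
theorem D195805 : act 0 n106279 = n195805 := rfl
theorem F398261 : act 1 n159482 = n195805 := d15_0 (iv0 D195805) (iv7 F398229) F398227
def n195806 : Q := act 1 n106279
theorem D195806 : act 1 n106279 = n195806 := rfl
theorem F398262 : act 1 n195806 = n159482 := d15_1 D195806 F251161 (iv2 F163321)
def n195807 : Q := act 1 n106283
theorem D195807 : act 1 n106283 = n195807 := rfl
theorem F398263 : act 1 n195807 = n121356 := d15_1 D195807 (iv7 D121356) (iv2 F163336)
theorem F398264 : act 7 n195807 = n114873 := d15_2 F350594 D195807 (iv2 F357128)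
theorem F398265 : act 4 n195807 = n159446 := d17_9 (iv1 D159446) F331290 F329592 (iv5 F137068) (iv4 F368461) F368462 (iv0 F157812) (iv5 F163339) D195807
theorem F398266 : act 3 n114869 = n195807 := d20_3 (iv4 F104982) (iv1 F243112) F318007 (iv1 D195807) F163337 (iv4 F186799) F353310 (iv4 D151335) (iv3 F340888) (iv1 F229737)
theorem F398267 : act 2 n195807 = n121355 := d0_1 F398266 (iv3 F357121) (iv2 F363410) (iv3 D114878) (iv2 F359581)
theorem F398268 : act 6 n195807 = n195576 := d7_2 (iv6 F359582) F398266 (iv3 D195576)
def n195808 : Q := act 5 n106285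
theorem D195808 : act 5 n106285 = n195808 := rfl
theorem F398269 : act 2 n195808 = n114432 := d2_1 D195808 (iv5 D114432) (iv2 F163343)
theorem F398270 : act 3 n195808 = n114443 := d6_1 D195808 (iv5 D114443) (iv3 F163344)
theorem F398271 : act 6 n195808 = n187923 := d12_2 D106285 D195808 F371842 F206061 F106162
theorem F398272 : act 7 n195808 = n114478 := d13_2 (iv7 F163346) D195808 (iv5 D114478)
theorem F398273 : act 0 n195808 = n114805 := d17_2 F163347 D195808 F178879 (iv4 F164482) (iv5 F205578) (iv0 D127797) (iv5 D60014) (iv0 F55091) (iv4 F77579)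
theorem F398274 : act 1 n195808 = n151222 := d17_6 (iv1 F139434) D187801 F371540 (iv5 D114432) (iv4 F163345) D195808 F237950 F139446 F139443
def n195809 : Q := act 5 n106286
theorem D195809 : act 5 n106286 = n195809 := rfl
theorem F398275 : act 2 n195809 = n114554 := d2_1 D195809 (iv5 D114554) (iv2 F163349)
theorem F398276 : act 3 n195809 = n110757 := d6_1 D195809 F171446 (iv3 F163350)
theorem F398277 : act 4 n195809 = n111005 := d9_1 D195809 (iv5 D111005) F80749 F39055 F24590 (iv5 F24406) D31293 D67285 D143661 (iv5 F356918) F356917 (iv5 F78398) F78397 (iv5 F84799) (iv4 F318198)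
theorem F398278 : act 6 n195809 = n106287 := d12_2 D106286 D195809 (iv5 D106287) (iv6 D49123) D49122
theorem F398279 : act 7 n195809 = n142487 := d13_2 (iv7 F318199) D195809 (iv5 F225397)
theorem F398280 : act 0 n195809 = n143660 := d17_2 (iv1 F318197) D195809 F226343 (iv4 F181585) (iv5 D65693) D65691 F322806 (iv0 F318253) (iv4 F321034)
theorem F398281 : act 1 n195809 = n143659 := d17_6 F166895 (iv5 D31751) (iv1 F41152) (iv5 F84799) (iv4 F318198) D195809 F226339 (iv0 D116413) (iv4 D53659)
def n195810 : Q := act 0 n106287
theorem D195810 : act 0 n106287 = n195810 := rfl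
theorem F398282 : act 5 n195810 = n106691 := d17_1 D195810 F164404 D130612 (iv4 F363604) D194994 (iv0 F395334) F394683 (iv0 F395072) F395070
theorem F398283 : act 3 n195810 = n106682 := d20_5 D112928 F175872 (iv4 D110756) (iv3 F163353) D195810 (iv4 F176079) (iv1 F376364) (iv4 D189297) (iv3 F175853) F175855
theorem F398284 : act 2 n114557 = n195810 := d15_3 (iv0 D195810) F376371 F376369
theorem F398285 : act 1 n114559 = n195810 := d15_0 (iv0 D195810) (iv7 F376121) F376118
theorem F398286 : act 7 n195810 = n114558 := d15_2 (iv0 F376370) F398285 (iv2 F376367)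
theorem F398287 : act 6 n195810 = n189682 := d3_2 F376538 F398284 F377385
def n195811 : Q := act 4 n106290
theorem D195811 : act 4 n106290 = n195811 := rfl
theorem F398288 : act 6 n195811 = n106293 := d10_2 (iv6 F163354) D195811 (iv4 D106293)
theorem F398289 : act 1 n195811 = n191321 := d18_6 (iv1 F318193) (iv4 F253014) (iv1 D76785) (iv4 F77572) D106290 D195811 F383033 F333381 (iv5 F225397)
def n195812 : Q := act 0 n106293
theorem D195812 : act 0 n106293 = n195812 := rfl
theorem F398290 : act 4 n195812 = n114557 := d18_1 D195812 (iv1 F376123) F376120 (iv5 D104849) D104848 (iv0 F356903) (iv4 F380398) F380402 F363521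
theorem F398291 : act 5 n195812 = n194816 := d21_2 F363521 D195812 (iv6 D194816) (iv1 D104596) (iv6 D48373) (iv5 D23502) F31029 D41238 D88350 D185466
theorem F398292 : act 6 n191717 = n195812 := d12_0 F398291 (iv6 D194816) (iv5 F358415) (iv6 F358418) F384248
def n195813 : Q := act 1 n106293
theorem D195813 : act 1 n106293 = n195813 := rfl
theorem F398293 : act 4 n195813 = n114558 := d17_9 (iv1 D114558) (iv5 D52879) F69408 D93780 D189216 (iv5 F380399) F380402 F363521 D195813
theorem F398294 : act 6 n133357 = n195813 := d21_9 (iv5 F363521) (iv1 F380402) F380399 F376126 (iv1 F373607) (iv6 D133369) (iv5 D62594) D62591 D133357 (iv1 D195813)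
def n195814 : Q := act 4 n106295
theorem D195814 : act 4 n106295 = n195814 := rfl
theorem F398295 : act 2 n195814 = n188475 := d1_1 D195814 F373612 (iv2 F370581)
theorem F398296 : act 3 n195814 = n188193 := d5_1 D195814 (iv4 F372642) F371694 (iv4 D114603) (iv3 F163367)
theorem F398297 : act 7 n195814 = n183098 := d11_2 F370583 D195814 F370588
theorem F398298 : act 0 n195814 = n127812 := d18_2 (iv1 F163368) D195814 (iv4 D127812) F94501 F94184 (iv0 F139431) F139433 (iv0 D90581) D90583
theorem F398299 : act 1 n195814 = n159846 := d18_6 (iv1 F94487) F77521 (iv1 F77523) (iv4 F77579) D106295 D195814 (iv4 D159846) (iv0 F205576) (iv5 D127796)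
def n195815 : Q := act 5 n106302
theorem D195815 : act 5 n106302 = n195815 := rfl
theorem F398300 : act 6 n195815 = n182188 := d12_2 (iv6 F366488) D195815 F372985 (iv6 D140581) D140580
def n195816 : Q := act 5 n106305
theorem D195816 : act 5 n106305 = n195816 := rfl
theorem F398301 : act 2 n195816 = n106318 := d2_1 D195816 (iv5 D106318) (iv2 F191137)
theorem F398302 : act 3 n195816 = n151401 := d6_1 D195816 (iv5 D151401) (iv3 F357309)
theorem F398303 : act 7 n195816 = n106323 := d13_2 (iv7 F191138) D195816 (iv5 D106323)
theorem F398304 : act 4 n195816 = n195248 := d16_2 F234968 D195816 (iv5 F396463) F242338 (iv5 F240981) (iv4 F310505) F310506 F185033 F234969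
theorem F398305 : act 0 n195816 = n195669 := d17_2 D106305 D195816 F397799 F290375 (iv5 F200526) (iv0 F200527) F108593 (iv0 F190157) (iv4 F77589)
def n195817 : Q := act 6 n106305
theorem D195817 : act 6 n106305 = n195817 := rfl
theorem F398306 : act 2 n195817 = n106319 := d3_1 D195817 (iv6 D106319) (iv2 F191137)
theorem F398307 : act 3 n195817 = n151402 := d7_1 D195817 (iv6 D151402) (iv3 F357309)
theorem F398308 : act 4 n195817 = n142085 := d10_1 D195817 (iv6 F350225) F234968
theorem F398309 : act 7 n195817 = n190458 := d14_2 (iv7 F191138) D195817 F379809 (iv7 F350233) (iv6 D106324)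
theorem F398310 : act 5 n195817 = n106735 := d21_6 F51621 F37297 D23974 D49133 D106305 D195817 (iv1 D106735) F77982 (iv6 D34884) F54194
theorem F398311 : act 0 n142099 = n195817 := d21_4 D115868 (iv1 F225138) (iv5 D142098) D142099 (iv6 D195817) D195816 F398305 F397799 (iv6 D114319) F316766
theorem F398312 : act 1 n114164 = n195817 := d15_0 (iv0 F398311) F364493 (iv2 F364499)
def n195818 : Q := act 5 n106306
theorem D195818 : act 5 n106306 = n195818 := rfl
theorem F398313 : act 2 n195818 = n106323 := d2_1 D195818 (iv5 D106323) (iv2 F191133)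
theorem F398314 : act 7 n195818 = n106318 := d13_2 (iv7 F191134) D195818 (iv5 D106318)
theorem F398315 : act 1 n195818 = n195669 := d17_6 (iv1 F339624) F339625 F339620 F310506 (iv4 F190358) D195818 F397799 (iv0 F398140) F398137
def n195819 : Q := act 5 n106308
theorem D195819 : act 5 n106308 = n195819 := rfl
theorem F398316 : act 2 n195819 = n114080 := d2_1 D195819 (iv5 D114080) (iv2 F331572)
theorem F398317 : act 3 n195819 = n164484 := d6_1 D195819 (iv5 D164484) (iv3 F331573)
theorem F398318 : act 6 n195819 = n186198 := d12_2 (iv6 F331575) D195819 (iv5 F376753) F376754 (iv5 D142836)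
theorem F398319 : act 4 n195819 = n114080 := d16_2 (iv4 F331574) D195819 (iv5 D114080) F322648 (iv5 F322649) F299181 (iv5 F322655) (iv7 D145488) (iv2 F182564)
theorem F398320 : act 1 n195819 = n188622 := d17_8 F349302 (iv5 F144671) (iv1 F373964) (iv5 D188560) F370295 (iv5 F396173) F396170 D195819 F374225
def n195820 : Q := act 0 n106311
theorem D195820 : act 0 n106311 = n195820 := rfl
theorem F398321 : act 5 n195820 = n170543 := d17_3 F317051 (iv5 F163390) D195820 F354306 (iv5 D124506) D124505 F338143 (iv0 F317066) (iv4 F229863)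
theorem F398322 : act 3 n195820 = n128455 := d20_5 (iv4 D81723) F311467 F106681 (iv3 F163389) D195820 (iv4 D128455) (iv1 D60413) D60414 D128459 F318179
theorem F398323 : act 2 n114133 = n195820 := d0_5 F398322 F321130 (iv3 F347676) F347660 D114133
theorem F398324 : act 7 n151322 = n195820 := d8_0 F398322 F321131 (iv3 F355081)
theorem F398325 : act 4 n121312 = n195820 := d20_2 (iv4 F88584) D121312 F398322 (iv1 F319010) F120115 (iv4 F120151) (iv1 F177920) F177921 F322982 (iv1 D55969)
theorem F398326 : act 3 n121312 = n119575 := d5_3 D128455 (iv3 F398322) (iv4 F398325) (iv4 F206396) F206397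
theorem F398327 : act 0 n195820 = n151323 := d19_4 F155395 (iv5 F184773) D128455 (iv3 F398322) (iv5 F252037) F338148 F232361 (iv1 F183477) (iv5 F237478) (iv4 F237481) F216698 (iv1 F320667) (iv5 D120058) F87423 (iv3 F54380) (iv1 F312222) D67410 F314538 (iv3 F155351)
def n195821 : Q := act 1 n106311
theorem D195821 : act 1 n106311 = n195821 := rfl
theorem F398328 : act 1 n195821 = n151323 := d15_1 D195821 (iv7 D151323) (iv2 F163388)
theorem F398329 : act 7 n195821 = n114133 := d15_2 (iv0 D195820) D195821 F398323
theorem F398330 : act 3 n114113 = n195821 := d20_3 F352389 (iv1 D123866) (iv4 F347685) (iv1 D195821) F163389 (iv4 F106681) F309957 D81734 D170508 F364024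
theorem F398331 : act 5 n147989 = n195821 := d21_6 (iv5 D48942) (iv1 D23873) D23875 D48945 (iv1 F316571) D147989 (iv1 D195821) F163390 (iv6 D69790) (iv1 F77188)
theorem F398332 : act 2 n195821 = n151322 := d0_1 F398330 F355081 (iv2 F347671) (iv3 D114138) (iv2 F352377)
theorem F398333 : act 4 n195821 = n121313 := d5_2 (iv4 F347685) F398330 F355073 (iv4 D57719) D57718
def n195822 : Q := act 7 n106311
theorem D195822 : act 7 n106311 = n195822 := rfl
theorem F398334 : act 2 n195822 = n151323 := d4_1 D195822 (iv7 D151323) (iv2 F163388)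
theorem F398335 : act 3 n195822 = n106314 := d8_1 D195822 (iv7 D106314) (iv3 F163389)
theorem F398336 : act 5 n195822 = n119953 := d13_1 D195822 F317056 (iv5 F163390)
theorem F398337 : act 6 n195822 = n151327 := d14_1 D195822 (iv7 D151327) (iv6 D71320) (iv7 F77592) D106311
theorem F398338 : act 1 n151322 = n195822 := d15_1 D151322 (iv7 D195822) F163388
theorem F398339 : act 1 n195822 = n114133 := d15_1 F398338 (iv7 F398329) F398332
def n195823 : Q := act 5 n106316
theorem D195823 : act 5 n106316 = n195823 := rfl
theorem F398340 : act 3 n195823 = n106318 := d6_1 D195823 (iv5 D106318) D106316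
theorem F398341 : act 6 n195823 = n186681 := d12_2 F360541 D195823 F367657 (iv6 D131306) D131305
theorem F398342 : act 0 n195823 = n147959 := d17_2 (iv1 F360542) D195823 (iv5 D147959) (iv4 F359200) F359201 F319263 (iv5 F353416) (iv0 F353424) F320865
theorem F398343 : act 1 n195823 = n188757 := d17_6 (iv1 F183691) F232250 (iv1 F233152) F227744 F313057 D195823 F374746 F334433 (iv4 D146348)
theorem F398344 : act 4 n186682 = n195823 := d10_3 F398341 (iv4 D186681) D186682
def n195824 : Q := act 0 n106318
theorem D195824 : act 0 n106318 = n195824 := rfl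
theorem F398345 : act 5 n195824 = n140843 := d17_3 D49137 D106318 D195824 (iv4 F366154) (iv5 F190833) F190124 (iv5 D72932) (iv0 D33618) (iv4 F54212)
theorem F398346 : act 1 n106323 = n195824 := d15_0 (iv0 D195824) (iv7 F398314) F398313
theorem F398347 : act 2 n195669 = n195824 := d2_3 F398345 F366156 (iv5 F397799)
theorem F398348 : act 3 n195658 = n195824 := d6_3 F398345 (iv3 F397727) (iv5 F397763)
def n195825 : Q := act 1 n106318
theorem D195825 : act 1 n106318 = n195825 := rfl
theorem F398349 : act 1 n195825 = n106323 := d15_1 D195825 (iv7 F398303) F398301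
theorem F398350 : act 7 n195825 = n195669 := d15_2 (iv0 D195824) D195825 F398347
theorem F398351 : act 3 n106366 = n195825 := d8_3 F398350 (iv3 D195669) (iv7 F178295)
theorem F398352 : act 6 n195825 = n113749 := d7_2 (iv6 F178206) F398351 (iv3 D113749)
def n195826 : Q := act 4 n106318
theorem D195826 : act 4 n106318 = n195826 := rfl
theorem F398353 : act 2 n195826 = n195248 := d1_1 D195826 (iv4 F398304) F398301
theorem F398354 : act 3 n195826 = n189802 := d5_1 D195826 F377802 (iv3 F367658) F398344 F398340
theorem F398355 : act 5 n195826 = n154019 := d9_2 D106318 D195826 (iv4 D154019) (iv5 F109366) (iv4 F241536) F241537 (iv4 D106322) D106323 (iv4 F357317) (iv5 F357318) (iv4 D154015) D154016 (iv4 F312649) F312650 F191132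
theorem F398356 : act 6 n189801 = n195826 := d7_0 F398354 (iv6 D189802) (iv3 F377799)
def n195827 : Q := act 6 n106318
theorem D195827 : act 6 n106318 = n195827 := rfl
theorem F398357 : act 3 n195827 = n186681 := d7_1 D195827 (iv6 F398341) F398340
theorem F398358 : act 4 n195827 = n189801 := d10_1 D195827 F398356 (iv4 D195826)
theorem F398359 : act 5 n195827 = n190452 := d12_1 D195827 F379802 F350218 (iv6 D106319) D106318
theorem F398360 : act 7 n190451 = n195827 := d13_0 F398359 (iv7 D190452) D190451
def n195828 : Q := act 1 n106319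
theorem D195828 : act 1 n106319 = n195828 := rfl
theorem F398361 : act 1 n195828 = n190458 := d15_1 D195828 (iv7 F398309) F398306
theorem F398362 : act 7 n195828 = n114164 := d15_2 (iv0 F356823) D195828 F364499
theorem F398363 : act 4 n195828 = n116417 := d17_9 F318652 (iv5 D69055) (iv1 D32121) D32122 D69059 (iv5 F164505) (iv0 F350222) F350218 D195828
theorem F398364 : act 3 n106371 = n195828 := d19_19 (iv1 D195828) (iv5 F350218) F210444 (iv3 D110333) (iv1 F96048) F96050 F47513 (iv3 F48119) (iv1 D29933) (iv5 D14215) F19517 (iv3 F19451) F22391 (iv5 F45571) F48228 D63568 D135247 (iv5 F358366) F179028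
theorem F398365 : act 6 n116162 = n195828 := d21_3 D106299 (iv1 F360950) F325370 (iv1 D195828) (iv6 D106319) D106318 D195824 F398345 (iv6 D140843) F319136
theorem F398366 : act 2 n195828 = n142099 := d3_1 F398365 (iv6 D142099) F182557
def n195829 : Q := act 7 n106319
theorem D195829 : act 7 n106319 = n195829 := rfl
theorem F398367 : act 2 n195829 = n190458 := d4_1 D195829 (iv7 F398309) F398306
theorem F398368 : act 3 n195829 = n133718 := d8_1 D195829 F215224 (iv3 F350219)
theorem F398369 : act 4 n195829 = n141589 := d11_1 D195829 F224656 F315567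
theorem F398370 : act 5 n195829 = n106734 := d13_1 D195829 F348079 F350218
theorem F398371 : act 6 n195829 = n142823 := d14_1 D195829 (iv7 F225718) F350249 F191134 D106319
theorem F398372 : act 1 n142099 = n195829 := d15_1 (iv0 F398311) (iv7 D195829) (iv2 F398306)
theorem F398373 : act 1 n195829 = n114164 := d15_1 F398372 (iv7 F398362) F398366
def n195830 : Q := act 6 n106323
theorem D195830 : act 6 n106323 = n195830 := rfl
def n195831 : Q := act 5 n106325
theorem D195831 : act 5 n106325 = n195831 := rfl
theorem F398374 : act 3 n195831 = n106345 := d6_1 D195831 F163410 (iv3 F163393)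
theorem F398375 : act 7 n195831 = n106328 := d13_2 (iv7 F163395) D195831 (iv5 D106328)
theorem F398376 : act 0 n195831 = n166281 := d17_2 F206205 D195831 (iv5 D166281) (iv4 D79847) (iv5 D36370) D36368 F320171 (iv0 F319835) D128125
def n195832 : Q := act 1 n106328
theorem D195832 : act 1 n106328 = n195832 := rfl
theorem F398377 : act 5 n195832 = n166272 := d17_7 (iv1 D67335) F311050 (iv1 D33590) D33591 (iv4 F77598) D106328 D195832 (iv0 F315702) (iv4 D143755)
theorem F398378 : act 2 n166281 = n195832 := d2_3 F398377 F261786 D166281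
theorem F398379 : act 3 n151344 = n195832 := d6_3 F398377 (iv3 F261790) F252359
theorem F398380 : act 4 n191344 = n195832 := d16_2 D149281 (iv5 F383135) F398377 (iv4 D166272) (iv5 D79843) (iv4 F190728) (iv5 F353855) F353856 F206198
theorem F398381 : act 6 n195832 = n191343 := d21_3 F375792 F315702 (iv5 F398377) F383131 F283428 (iv5 F134186) (iv1 F295236) F140224 D93282 D189111
def n195833 : Q := act 4 n106328
theorem D195833 : act 4 n106328 = n195833 := rfl
theorem F398382 : act 6 n195833 = n106331 := d10_2 (iv6 F163397) D195833 (iv4 D106331)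
theorem F398383 : act 5 n195833 = n184347 := d16_3 (iv4 F77598) D106328 D195833 F364280 F206314 (iv4 F109304) (iv5 F199575) F199576 F106782
def n195834 : Q := act 4 n106329
theorem D195834 : act 4 n106329 = n195834 := rfl
theorem F398384 : act 3 n195834 = n188314 := d5_1 D195834 F373065 F368020 F386976 F386966
theorem F398385 : act 5 n195834 = n182199 := d17_5 F205576 (iv5 D76513) (iv1 F139432) (iv5 F163398) D195834 F391197 F391194 F377044 F377041
theorem F398386 : act 3 n182199 = n187025 := d6_1 F398385 (iv5 F373066) (iv3 F398384)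
theorem F398387 : act 6 n134899 = n195834 := d21_5 (iv5 D40650) (iv1 F66209) (iv5 F294737) D91183 (iv1 F332735) F398385 (iv1 D182199) (iv5 F145048) (iv6 D94111) (iv1 F69210)
def n195835 : Q := act 6 n106329
theorem D195835 : act 6 n106329 = n195835 := rfl
theorem F398388 : act 3 n195835 = n151699 := d7_1 D195835 (iv6 F386967) F386966
theorem F398389 : act 4 n195835 = n134899 := d10_1 D195835 F398387 (iv4 D195834)
theorem F398390 : act 5 n195835 = n106719 := d12_1 D195835 (iv6 D106719) (iv5 D49316) D49317 (iv5 F163398)
theorem F398391 : act 0 n195835 = n190475 := d21_4 (iv5 D76513) (iv1 F139432) (iv5 F163398) D195835 F379857 (iv5 F356675) F363605 (iv5 F383113) F383114 F205576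
theorem F398392 : act 0 n183163 = n195835 := d21_4 F295292 (iv1 F295288) D87428 D183163 (iv6 D195835) F163398 F139431 (iv5 F94501) (iv6 F356658) (iv1 F145052)
def n195836 : Q := act 4 n106330
theorem D195836 : act 4 n106330 = n195836 := rfl
theorem F398393 : act 3 n195836 = n192532 := d5_1 D195836 (iv4 D192532) (iv3 F335927) F237332 (iv3 F163402)
theorem F398394 : act 5 n195836 = n182198 := d17_5 (iv1 F164497) F94501 (iv1 F114674) F163401 D195836 (iv0 D182198) (iv5 F145048) F370592 (iv4 D106302)
def n195837 : Q := act 0 n106331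
theorem D195837 : act 0 n106331 = n195837 := rfl
theorem F398395 : act 5 n195837 = n185446 := d17_1 D195837 (iv1 D185446) (iv5 F356705) (iv4 D127812) F94501 (iv0 F139431) (iv5 F163398) (iv0 D106329) D106331
theorem F398396 : act 4 n195837 = n187800 := d18_3 (iv1 D106330) D106331 D195837 (iv5 D187800) (iv4 F139433) F139432 F55318 D76512 F163401
theorem F398397 : act 1 n114339 = n195837 := d15_0 (iv0 D195837) (iv7 F398153) F398152
theorem F398398 : act 3 n192601 = n195837 := d5_5 F398396 F371532 (iv4 F239587) F388480 (iv4 F388481)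
theorem F398399 : act 6 n189573 = n195837 := d21_5 (iv5 D40623) F66222 D43989 D94098 D189573 F398395 (iv1 D185446) (iv5 F356705) F356706 (iv1 D87411)
def n195838 : Q := act 1 n106331
theorem D195838 : act 1 n106331 = n195838 := rfl
theorem F398400 : act 1 n195838 = n114339 := d15_1 D195838 (iv7 F205589) F205588
theorem F398401 : act 4 n195838 = n187801 := d18_7 F162627 F162624 F77248 F37460 D49141 D106331 D195838 F371539 (iv5 D114478)
theorem F398402 : act 5 n195838 = n185445 := d18_9 (iv1 F356713) F283652 D185445 F391198 (iv5 F398385) (iv4 D195834) (iv0 D106329) D106331 D195838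
def n195839 : Q := act 3 n106331
theorem D195839 : act 3 n106331 = n195839 := rfl
theorem F398403 : act 4 n195839 = n106392 := d5_2 D106331 D195839 (iv3 D106392) (iv4 D49158) (iv3 F77599)
def n195840 : Q := act 5 n106331
theorem D195840 : act 5 n106331 = n195840 := rfl
def n195841 : Q := act 3 n106343
theorem D195841 : act 3 n106343 = n195841 := rfl
theorem F398404 : act 2 n195841 = n152394 := d0_1 D195841 (iv3 F239582) F251146 (iv3 D159477) F193511
theorem F398405 : act 5 n195841 = n152443 := d6_2 F177634 D195841 F239636
theorem F398406 : act 7 n195841 = n152393 := d8_2 F193505 D195841 F239580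
theorem F398407 : act 0 n195841 = n114057 := d20_4 D115008 F179086 F179005 D195841 F374401 F375427 (iv1 D188884) F143261 (iv3 F177452) (iv1 F83770)
theorem F398408 : act 6 n157393 = n195841 := d21_3 (iv5 F215037) F215038 D157393 F398407 F177558 (iv5 D52710) D52709 (iv5 F335358) (iv6 F394180) F394183
theorem F398409 : act 1 n195841 = n152396 := d15_1 (iv0 F398407) (iv7 D152396) (iv2 F177557)
def n195842 : Q := act 6 n106343
theorem D195842 : act 6 n106343 = n195842 := rfl
theorem F398410 : act 2 n195842 = n159478 := d3_1 D195842 (iv6 D159478) F193511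
theorem F398411 : act 3 n195842 = n157393 := d7_1 D195842 F398408 (iv3 D195841)
theorem F398412 : act 4 n195842 = n195269 := d10_1 D195842 F396526 F179005
theorem F398413 : act 5 n195842 = n157392 := d12_1 D195842 F364638 (iv5 D114043) F177635 F177634
theorem F398414 : act 7 n195842 = n188029 := d14_2 F193505 D195842 (iv6 D188029) F251134 (iv6 D159476)
theorem F398415 : act 0 n195842 = n188041 := d21_10 F372192 (iv1 F164539) (iv5 F250921) F250922 (iv1 F290516) F290518 F251109 F178039 F177634 D195842
theorem F398416 : act 0 n188040 = n195842 := d21_1 (iv5 F372189) F398413 F364638 F177915 (iv6 F397719) (iv5 D195647) (iv1 F290559) F290561 F164529 (iv1 F164536)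
def n195843 : Q := act 3 n106344
theorem D195843 : act 3 n106344 = n195843 := rfl
theorem F398417 : act 6 n195843 = n106392 := d7_2 (iv6 F163408) D195843 (iv3 D106392)
theorem F398418 : act 5 n129131 = n195843 := d12_5 F398417 (iv5 F251171) (iv6 F362933) (iv5 D129483) (iv6 F207371)
theorem F398419 : act 2 n195843 = n132562 := d2_1 F398418 F212782 F212439
theorem F398420 : act 7 n195843 = n129130 := d13_2 D129131 F398418 (iv5 D129130)
theorem F398421 : act 0 n195843 = n132530 := d17_2 (iv1 F212429) F398418 (iv5 D132530) F96934 (iv5 F49721) D67672 (iv5 F103694) (iv0 F101904) D132291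
theorem F398422 : act 1 n195843 = n132564 := d17_6 (iv1 F179225) F179222 (iv1 F164869) (iv5 F216195) F216194 F398418 F212783 F212716 F212712
theorem F398423 : act 4 n132530 = n146946 := d18_1 F398421 (iv1 D146946) (iv4 F365820) (iv5 D132387) F96821 D62116 D132389 F212428 F398418
theorem F398424 : act 2 n146946 = n132563 := d1_1 F398423 (iv4 D132563) (iv2 F212721)
def n195844 : Q := act 5 n106344
theorem D195844 : act 5 n106344 = n195844 := rfl
theorem F398425 : act 2 n195844 = n159480 := d2_1 D195844 (iv5 D159480) (iv2 F163407)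
theorem F398426 : act 3 n195844 = n129131 := d6_1 D195844 F398418 (iv3 D195843)
theorem F398427 : act 4 n195844 = n195639 := d9_1 D195844 F397694 F163135 F77434 (iv4 F55107) (iv5 F114334) (iv4 F251156) (iv5 F398201) (iv4 D195793) (iv5 D106265) F77527 F37410 (iv4 F37462) D49144 D106344
theorem F398428 : act 6 n195844 = n129482 := d12_2 (iv6 F163408) D195844 F362931 (iv6 D159497) F114343
theorem F398429 : act 7 n195844 = n129127 := d16_8 (iv4 D195793) (iv5 D106265) F77527 F37410 (iv4 F37462) D49144 D106344 D195844 (iv2 F398198)
def n195845 : Q := act 7 n106344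
theorem D195845 : act 7 n106344 = n195845 := rfl
theorem F398430 : act 2 n195845 = n159481 := d4_1 D195845 (iv7 D159481) (iv2 F163407)
theorem F398431 : act 3 n195845 = n129130 := d8_1 D195845 (iv7 F398420) (iv3 D195843)
theorem F398432 : act 4 n195845 = n106345 := d11_1 D195845 (iv7 D106345) D106344
theorem F398433 : act 5 n195845 = n129127 := d13_1 D195845 (iv7 F398429) (iv5 D195844)
theorem F398434 : act 1 n114910 = n195845 := d15_1 (iv0 F179003) (iv7 D195845) F163407
theorem F398435 : act 1 n195845 = n114907 := d15_1 F398434 (iv7 F179133) F179132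
def n195846 : Q := act 4 n106354
theorem D195846 : act 4 n106354 = n195846 := rfl
theorem F398436 : act 2 n195846 = n106355 := d1_1 D195846 (iv4 D106355) D106354
theorem F398437 : act 7 n195846 = n195674 := d11_2 F163501 D195846 (iv4 D195674)
theorem F398438 : act 0 n195846 = n193481 := d17_0 (iv5 D193481) F272668 D191453 F383508 F374051 F339459 (iv5 F340918) F163506 D195846
theorem F398439 : act 1 n195846 = n114127 := d18_6 (iv1 D187795) F362737 F270663 (iv4 F371355) F371354 D195846 (iv4 F178464) (iv0 F371522) F371519
def n195847 : Q := act 6 n106354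
theorem D195847 : act 6 n106354 = n195847 := rfl
theorem F398440 : act 2 n195847 = n106357 := d3_1 D195847 (iv6 D106357) D106354
theorem F398441 : act 3 n195847 = n152366 := d7_1 D195847 (iv6 D152366) (iv3 F334815)
theorem F398442 : act 0 n195847 = n114141 := d21_10 F376868 (iv1 D189553) (iv5 F290595) (iv6 D102730) (iv1 F290589) D90132 (iv5 F139299) D187733 F371354 D195847
def n195848 : Q := act 0 n106355
theorem D195848 : act 0 n106355 = n195848 := rfl
theorem F398443 : act 5 n195848 = n186883 := d17_1 D195848 F368407 D192321 F386419 F370319 (iv0 F360183) (iv5 F356349) (iv0 D106352) D106355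
theorem F398444 : act 3 n195848 = n166111 := d20_5 F186799 F343521 D115012 F179094 D195848 (iv4 D166111) F189470 D149374 (iv3 F348663) (iv1 F348675)
theorem F398445 : act 2 n193481 = n195848 := d15_3 (iv0 D195848) (iv0 F240922) (iv7 F389998)
theorem F398446 : act 1 n195674 = n195848 := d15_0 (iv0 D195848) (iv7 F163502) (iv2 F397808)
theorem F398447 : act 7 n195848 = n114127 := d15_2 (iv0 F397810) F398446 (iv2 F240919)
def n195849 : Q := act 5 n106355
theorem D195849 : act 5 n106355 = n195849 := rfl
theorem F398448 : act 7 n195849 = n195675 := d13_2 F163502 D195849 (iv5 D195675)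
theorem F398449 : act 4 n195849 = n191444 := d16_6 (iv4 F152501) D191815 F384529 (iv5 D106356) D106355 D195849 F383494 F344110 F272720
theorem F398450 : act 1 n195849 = n192893 := d17_8 (iv1 F385565) (iv5 D192104) (iv1 D99706) F137028 D186883 (iv5 F398443) (iv0 D195848) D195849 (iv4 D192893)
theorem F398451 : act 1 n192891 = n195849 := d15_0 F398450 F388123 (iv2 F388115)
def n195850 : Q := act 6 n106355
theorem D195850 : act 6 n106355 = n195850 := rfl
theorem F398452 : act 4 n195850 = n106357 := d10_1 D195850 (iv6 D106357) D106355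
def n195851 : Q := act 6 n106356
theorem D195851 : act 6 n106356 = n195851 := rfl
theorem F398453 : act 2 n195851 = n133212 := d3_1 D195851 (iv6 F371359) (iv2 F371356)
theorem F398454 : act 3 n195851 = n106368 := d7_1 D195851 (iv6 D106368) (iv3 F163422)
theorem F398455 : act 0 n195851 = n133208 := d21_4 F363408 F357303 D106356 D195851 (iv6 D133208) F208651 (iv1 D126470) (iv5 F95611) D130135 (iv1 F344111)
theorem F398456 : act 5 n195851 = n189524 := d21_6 F74815 F68405 F68124 D92720 F357306 D195851 (iv1 D189524) F144850 (iv6 D47577) D47574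
theorem F398457 : act 6 n106541 = n189524 := d12_4 (iv6 D195851) (iv5 D106356) D106357 (iv5 F163789) (iv5 F398456)
theorem F398458 : act 0 n133214 = n195851 := d21_4 F367267 D192806 F387845 (iv6 F214057) (iv6 D195851) (iv5 D106356) D106352 F356349 F364112 F364114
theorem F398459 : act 3 n189524 = n106543 := d7_1 F398457 (iv6 D106543) D106541
def n195852 : Q := act 1 n106357
theorem D195852 : act 1 n106357 = n195852 := rfl
theorem F398460 : act 7 n195852 = n114141 := d15_2 (iv0 F395447) D195852 (iv2 F352393)
theorem F398461 : act 3 n117197 = n195852 := d20_3 F85210 D54015 D117197 (iv1 D195852) F163423 (iv4 F177640) (iv1 F161793) F136676 (iv3 F331594) (iv1 D117192)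
theorem F398462 : act 5 n195020 = n195852 := d21_0 (iv1 D195852) (iv5 F163789) F398457 (iv1 D189524) (iv6 D94020) F69074 F292486 D48623 D105150 D195020
def n195853 : Q := act 7 n106357
theorem D195853 : act 7 n106357 = n195853 := rfl
theorem F398463 : act 3 n195853 = n106372 := d8_1 D195853 (iv7 D106372) (iv3 F163423)
theorem F398464 : act 5 n195853 = n106757 := d13_1 D195853 F164559 F163789
theorem F398465 : act 6 n195853 = n145917 := d14_1 D195853 (iv7 F366236) (iv6 D106182) (iv7 F163464) D106357
theorem F398466 : act 0 n114262 = n106757 := d21_1 D114262 (iv5 F398464) F398465 (iv1 F322603) (iv6 D90143) F290619 F290581 (iv5 F139802) F178100 (iv1 D114261)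
theorem F398467 : act 0 n114141 = n195853 := d20_4 F318646 (iv1 F183340) F230828 F352394 F398463 (iv4 F177835) (iv1 F178967) F178969 (iv3 F331598) (iv1 D114770)
def n195854 : Q := act 3 n106365
theorem D195854 : act 3 n106365 = n195854 := rfl
theorem F398468 : act 2 n195854 = n195658 := d0_1 D195854 F398348 (iv2 F398347) (iv3 D195669) F178294
theorem F398469 : act 5 n195854 = n127782 := d6_2 (iv5 F163430) D195854 F205531
theorem F398470 : act 7 n195854 = n195659 := d8_2 F178296 D195854 (iv3 F397766)
theorem F398471 : act 1 n164472 = n195854 := d17_6 F390443 F390441 F390442 (iv5 D103179) (iv4 F190344) D164472 F398469 (iv0 F390783) (iv4 D193720)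
theorem F398472 : act 0 n164469 = n195854 := d21_1 D164469 F398469 (iv6 D127782) (iv1 F178287) (iv6 D54853) (iv5 D26536) (iv1 F21084) (iv5 F28367) D35950 D78987
theorem F398473 : act 1 n164469 = n187647 := d15_1 (iv0 F398472) (iv7 F397770) (iv2 F398468)
theorem F398474 : act 1 n187647 = n164472 := d15_1 F398473 F362427 (iv2 F366118)
def n195855 : Q := act 6 n106365
theorem D195855 : act 6 n106365 = n195855 := rfl
theorem F398475 : act 2 n195855 = n195670 := d3_1 D195855 (iv6 D195670) F178294
theorem F398476 : act 5 n195855 = n127784 := d12_1 D195855 (iv6 D127784) (iv5 D60007) D60008 (iv5 F163430)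
theorem F398477 : act 7 n195855 = n113747 := d14_2 F178296 D195855 (iv6 D113747) (iv7 F178274) (iv6 F178298)
def n195856 : Q := act 3 n106367
theorem D195856 : act 3 n106367 = n195856 := rfl
theorem F398478 : act 7 n195856 = n195677 := d8_2 F163496 D195856 (iv3 D195677)
def n195857 : Q := act 1 n106368
theorem D195857 : act 1 n106368 = n195857 := rfl
theorem F398479 : act 1 n195857 = n195673 := d15_1 D195857 (iv7 D195673) (iv2 F163485)
theorem F398480 : act 7 n195857 = n113720 := d15_2 (iv0 F395881) D195857 (iv2 F395878)
theorem F398481 : act 5 n195857 = n106502 := d17_7 (iv1 F332808) (iv5 D52379) (iv1 F165617) D113411 (iv4 F332817) F163790 D195857 (iv0 D106502) (iv4 F96535)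
theorem F398482 : act 2 n195672 = n195857 := d2_3 F398481 F349632 (iv5 F397803)
def n195858 : Q := act 7 n106368
theorem D195858 : act 7 n106368 = n195858 := rfl
theorem F398483 : act 2 n195858 = n195673 := d4_1 D195858 (iv7 D195673) (iv2 F163485)
theorem F398484 : act 4 n195858 = n131855 := d11_1 D195858 (iv7 F211261) F332819
theorem F398485 : act 5 n195858 = n190463 := d13_1 D195858 F379821 F163790
theorem F398486 : act 6 n195858 = n113714 := d14_1 D195858 F176943 (iv6 D106187) (iv7 F163466) D106368
theorem F398487 : act 1 n195672 = n195858 := d15_1 D195672 (iv7 D195858) F163485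
theorem F398488 : act 1 n195858 = n113720 := d15_1 F398487 (iv7 F398480) (iv2 F398482)
theorem F398489 : act 3 n133211 = n195858 := d20_5 (iv4 D62521) (iv1 D29545) (iv4 F47393) (iv3 F97478) D133211 F398484 (iv1 F391982) F391978 F391866 (iv1 F214068)
theorem F398490 : act 6 n130691 = n133211 := d7_0 F398489 F398486 (iv3 F365046)
theorem F398491 : act 7 n195851 = n133211 := d8_0 F398489 (iv7 D195858) (iv3 F398454)
def n195859 : Q := act 4 n106376
theorem D195859 : act 4 n106376 = n195859 := rfl
theorem F398492 : act 2 n195859 = n106377 := d1_1 D195859 (iv4 D106377) D106376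
theorem F398493 : act 7 n195859 = n152189 := d11_2 (iv7 F334816) D195859 F340920
theorem F398494 : act 0 n195859 = n114065 := d18_2 (iv1 F359179) D195859 F177580 (iv5 F336457) D135855 (iv0 F350917) F203666 F359186 F230241
theorem F398495 : act 5 n195859 = n110599 := d18_4 (iv1 F348633) F348636 (iv1 F359179) D195859 F171175 (iv0 F352214) F258691 (iv0 F340155) F336454
theorem F398496 : act 3 n195859 = n110602 := d20_3 F348636 (iv1 F359179) D195859 (iv1 F353498) (iv3 D119367) (iv4 D54934) D54932 D119361 (iv3 F259176) (iv1 F348633)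
theorem F398497 : act 0 n152192 = n195859 := d20_1 (iv4 F239275) (iv4 D195859) F163508 (iv1 F357304) F161602 F313959 (iv1 F104593) (iv4 F319877) D114667 F258997
def n195860 : Q := act 5 n106376
theorem D195860 : act 5 n106376 = n195860 := rfl
theorem F398498 : act 2 n195860 = n106378 := d2_1 D195860 (iv5 D106378) D106376
theorem F398499 : act 3 n195860 = n188729 := d6_1 D195860 (iv5 F374607) (iv3 F163508)
theorem F398500 : act 7 n195860 = n152365 := d13_2 (iv7 F334816) D195860 (iv5 D152365)
theorem F398501 : act 0 n195860 = n146892 := d17_2 (iv1 F359179) D195860 F239691 (iv4 F340162) (iv5 D166401) (iv0 D79893) F321410 D146147 F348636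
theorem F398502 : act 6 n146863 = n195860 := d21_5 (iv5 D25457) D25454 (iv5 F82883) D68849 D146863 (iv5 D195860) F359178 (iv5 F176797) (iv6 D113617) (iv1 D52454)
theorem F398503 : act 3 n130692 = n146863 := d7_3 F398502 F398499 F374609
theorem F398504 : act 1 n195860 = n195667 := d15_1 (iv0 F398501) (iv7 F397797) F371176
def n195861 : Q := act 6 n106376
theorem D195861 : act 6 n106376 = n195861 := rfl
theorem F398505 : act 2 n195861 = n106379 := d3_1 D195861 (iv6 D106379) D106376
theorem F398506 : act 3 n195861 = n145918 := d7_1 D195861 F366239 (iv3 F163508)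
theorem F398507 : act 0 n195861 = n115177 := d21_4 (iv5 F397794) (iv1 F398504) (iv5 D195860) D195861 (iv6 D115177) (iv5 D53143) (iv1 F45569) D59332 D126462 F327113
theorem F398508 : act 0 n114072 = n195861 := d21_4 F239680 (iv1 F143477) F143470 D114072 (iv6 D195861) D195860 F398501 F239691 F239690 (iv1 F239679)
theorem F398509 : act 7 n135254 = n195861 := d8_0 F398506 F366240 (iv3 F392175)
def n195862 : Q := act 4 n106378
theorem D195862 : act 4 n106378 = n195862 := rfl
theorem F398510 : act 7 n195862 = n195668 := d11_2 (iv7 F163482) D195862 (iv4 D195668)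
def n195863 : Q := act 6 n106378
theorem D195863 : act 6 n106378 = n195863 := rfl
theorem F398511 : act 2 n195863 = n146863 := d3_1 D195863 F398502 F398498
theorem F398512 : act 3 n195863 = n106384 := d7_1 D195863 (iv6 D106384) (iv3 F163443)
theorem F398513 : act 0 n113700 = n195863 := d21_4 (iv5 D52451) F45892 (iv5 F82890) D113700 (iv6 D195863) (iv5 D106378) F334809 (iv5 F105037) (iv6 D68844) (iv1 F82810)
theorem F398514 : act 0 n195863 = n146865 := d20_4 (iv4 F103897) D144778 (iv4 F396124) (iv3 F398512) (iv3 F376902) (iv4 F378128) F378129 F364804 (iv3 D144785) (iv1 D67852)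
theorem F398515 : act 7 n146864 = n195863 := d15_2 (iv0 D146863) D146864 F398511
theorem F398516 : act 3 n107542 = n146864 := d8_3 F398515 F398512 (iv7 F165922)
theorem F398517 : act 6 n135758 = n146864 := d14_5 F398515 (iv6 D195863) F163482 F359182 (iv7 F364870)
def n195864 : Q := act 5 n106379
theorem D195864 : act 5 n106379 = n195864 := rfl
theorem F398518 : act 3 n195864 = n106386 := d6_1 D195864 (iv5 D106386) (iv3 F163444)
theorem F398519 : act 0 n195864 = n142463 := d17_2 F374009 D195864 F330338 (iv4 F330335) F225423 (iv0 F320151) F320154 F226287 (iv4 F374006)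
theorem F398520 : act 1 n195864 = n142473 := d17_6 (iv1 F346407) (iv5 F346402) F346408 D147657 (iv4 F346411) D195864 F330339 (iv0 D114194) (iv4 F177981)
def n195865 : Q := act 7 n106379
theorem D195865 : act 7 n106379 = n195865 := rfl
theorem F398521 : act 2 n195865 = n135254 := d4_1 D195865 F398509 F398505
theorem F398522 : act 3 n195865 = n106387 := d8_1 D195865 (iv7 D106387) (iv3 F163444)
theorem F398523 : act 4 n195865 = n175811 := d11_1 D195865 F346413 (iv4 F346411)
theorem F398524 : act 6 n195865 = n164330 := d14_1 D195865 F334825 (iv6 D106160) F163467 D106379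
theorem F398525 : act 1 n114072 = n195865 := d15_1 (iv0 F398508) (iv7 D195865) (iv2 F398505)
theorem F398526 : act 1 n195865 = n115177 := d15_1 F398525 (iv7 F374008) F374004
def n195866 : Q := act 3 n106383
theorem D195866 : act 3 n106383 = n195866 := rfl
theorem F398527 : act 7 n195866 = n195671 := d8_2 (iv7 F163483) D195866 (iv3 D195671)
def n195867 : Q := act 5 n106384
theorem D195867 : act 5 n106384 = n195867 := rfl
theorem F398528 : act 2 n195867 = n195679 := d2_1 D195867 (iv5 D195679) F163509
theorem F398529 : act 6 n195867 = n106386 := d12_2 D106384 D195867 (iv5 D106386) (iv6 D49155) D49154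
theorem E103638 : n164470 = n164409 := (c21_1 (iv5 F259195) (iv1 D164409) D164410 F290530 F163453 (iv6 F398529) (iv5 D195867) (iv1 F176945) (iv5 F175888) (iv6 F176100) (iv1 F176102))
theorem F398530 : act 2 n164409 = n106143 := (sb E103638 F331589)
theorem F398531 : act 5 n164409 = n106518 := (sb E103638 F259195)
theorem F398532 : act 6 n164409 = n78987 := (sb E103638 (iv6 D164470))
def n195868 : Q := act 4 n106388
theorem D195868 : act 4 n106388 = n195868 := rfl
theorem F398533 : act 2 n195868 = n188379 := d1_1 D195868 F373212 (iv2 F163518)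
theorem F398534 : act 3 n195868 = n191972 := d5_1 D195868 F385041 (iv3 D159360) F114210 D106388
theorem F398535 : act 5 n195868 = n153518 := d9_2 (iv5 F163516) D195868 F359361 F371556 (iv4 D187804) (iv5 D90585) F138561 F178048 (iv4 F373394) F373395 (iv4 F363559) F363561 (iv4 D159348) F114196 (iv4 F97639)
theorem F398536 : act 7 n195868 = n159486 := d11_2 (iv7 F163517) D195868 (iv4 D159486)
theorem F398537 : act 0 n195868 = n114480 := d18_2 F163519 D195868 (iv4 D114480) (iv5 D52841) D52840 (iv0 F83494) (iv4 F55038) (iv0 F77237) D52729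
theorem F398538 : act 1 n195868 = n114476 := d18_6 (iv1 D20026) (iv4 F31864) D42403 (iv4 F97639) (iv5 F163516) D195868 (iv4 D114476) (iv0 F114352) (iv5 D42415)
theorem F398539 : act 5 n194629 = n114480 := d17_7 (iv1 F250902) (iv5 D159369) (iv1 F114224) D114243 (iv4 F370663) F370662 D194629 (iv0 F398537) (iv4 D195868)
def n195869 : Q := act 6 n106388
theorem D195869 : act 6 n106388 = n195869 := rfl
theorem F398540 : act 2 n195869 = n188806 := d3_1 D195869 (iv6 D188806) (iv2 F163518)
theorem F398541 : act 3 n195869 = n106389 := d7_1 D195869 (iv6 D106389) D106388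
theorem F398542 : act 5 n195869 = n133397 := d12_1 D195869 (iv6 D133397) (iv5 D62610) D62611 (iv5 F163516)
theorem F398543 : act 0 n195869 = n186437 := d21_10 (iv5 D186437) (iv1 D88795) (iv5 F74182) (iv6 D46968) F291450 (iv6 F138564) (iv5 D90124) F97641 (iv5 F163516) D195869
theorem F398544 : act 1 n195869 = n186432 := d15_1 (iv0 F398543) (iv7 F377624) F377623
def n195870 : Q := act 0 n106389
theorem D195870 : act 0 n106389 = n195870 := rfl
theorem F398545 : act 6 n195870 = n188040 := d21_5 (iv5 D34952) F47543 (iv5 F77611) D106389 D195870 F372189 (iv1 D106747) (iv5 F83802) (iv6 D53099) (iv1 F55320)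
theorem F398546 : act 2 n159483 = n195870 := d3_3 F398545 (iv2 F379597) F379599
theorem F398547 : act 7 n159484 = n195870 := d15_2 (iv0 D159483) D159484 (iv2 F398546)
def n195871 : Q := act 1 n106389
theorem D195871 : act 1 n106389 = n195871 := rfl
theorem F398548 : act 1 n195871 = n159485 := d15_1 D195871 (iv7 D159485) (iv2 F163520)
theorem F398549 : act 7 n195871 = n159483 := d15_2 (iv0 D195870) D195871 F398546
theorem F398550 : act 6 n183161 = n195871 := d21_3 (iv5 F365001) (iv1 D183159) D183161 (iv1 D195871) (iv6 D106389) F77611 (iv1 F82835) (iv5 F83359) D114347 F179073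
theorem F398551 : act 3 n195871 = n183163 := d7_1 F398550 (iv6 D183163) (iv3 F284755)
theorem F398552 : act 2 n159484 = n195871 := d4_3 F398549 F398546 (iv7 F398547)
theorem F398553 : act 1 n159485 = n195870 := d15_1 F398548 (iv7 F398547) F398552
def n195872 : Q := act 7 n106389
theorem D195872 : act 7 n106389 = n195872 := rfl
theorem F398554 : act 2 n195872 = n159485 := d4_1 D195872 (iv7 D159485) (iv2 F163520)
theorem F398555 : act 5 n195872 = n133399 := d13_1 D195872 (iv7 D133399) (iv5 F163521)
theorem F398556 : act 6 n195872 = n159490 := d14_1 D195872 (iv7 D159490) (iv6 D76291) F77614 D106389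
theorem F398557 : act 1 n159484 = n195872 := d15_1 D159484 (iv7 D195872) F163520
theorem F398558 : act 1 n195872 = n159483 := d15_1 F398557 (iv7 F398549) (iv2 F398552)
def n195873 : Q := act 0 n106391
theorem D195873 : act 0 n106391 = n195873 := rfl
theorem F398559 : act 6 n195873 = n195649 := d21_5 F83359 F82833 F77617 D106391 D195873 (iv5 D195649) (iv1 D106133) (iv5 F83813) (iv6 D53104) (iv1 F83362)
theorem F398560 : act 2 n159488 = n195873 := d3_3 F398559 F397724 (iv6 F251165)
theorem F398561 : act 7 n159489 = n195873 := d15_2 (iv0 D159488) D159489 (iv2 F398560)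
def n195874 : Q := act 1 n106391
theorem D195874 : act 1 n106391 = n195874 := rfl
theorem F398562 : act 1 n195874 = n159490 := d15_1 D195874 (iv7 D159490) (iv2 F163526)
theorem F398563 : act 7 n195874 = n159488 := d15_2 (iv0 D195873) D195874 F398560
theorem F398564 : act 6 n187567 = n195874 := d21_3 (iv5 F251995) D188129 (iv5 F372401) (iv1 D195874) (iv6 D106391) (iv5 F77617) F46292 D34952 (iv6 F114683) D159847
theorem F398565 : act 5 n187643 = n195874 := d21_6 (iv5 D52510) (iv1 F40297) D49043 F77420 D90422 D187643 (iv1 D195874) F163527 (iv6 D69725) (iv1 F82911)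
theorem F398566 : act 3 n195874 = n113638 := d6_1 F398565 (iv5 F176999) (iv3 F371092)
theorem F398567 : act 2 n195874 = n159489 := d3_1 F398564 F374519 F370834
theorem F398568 : act 1 n159490 = n195873 := d15_1 F398562 (iv7 F398561) (iv2 F398567)
def n195875 : Q := act 7 n106391
theorem D195875 : act 7 n106391 = n195875 := rfl
theorem F398569 : act 2 n195875 = n159490 := d4_1 D195875 (iv7 D159490) (iv2 F163526)
theorem F398570 : act 3 n195875 = n135562 := d8_1 D195875 F217992 F352125
theorem F398571 : act 5 n195875 = n135561 := d13_1 D195875 F328384 (iv5 F163527)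
theorem F398572 : act 6 n195875 = n159485 := d14_1 D195875 (iv7 D159485) (iv6 D76289) (iv7 F77616) D106391
theorem F398573 : act 1 n159489 = n195875 := d15_1 D159489 (iv7 D195875) F163526
theorem F398574 : act 1 n195875 = n159488 := d15_1 F398573 (iv7 F398563) F398567
def n195876 : Q := act 0 n106392
theorem D195876 : act 0 n106392 = n195876 := rfl
def n195877 : Q := act 1 n106392
theorem D195877 : act 1 n106392 = n195877 := rfl
def n195878 : Q := act 2 n106392
theorem D195878 : act 2 n106392 = n195878 := rfl
theorem F398575 : act 3 n195878 = n159493 := d0_2 D106392 D195878 (iv2 D159493) (iv3 D76292) (iv2 F77619)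
theorem F398576 : act 6 n195878 = n132562 := d3_2 F398417 D195878 (iv2 F398419)
def n195879 : Q := act 0 n106401
theorem D195879 : act 0 n106401 = n195879 := rfl
theorem F398577 : act 5 n195879 = n110286 := d17_1 D195879 (iv1 D110286) D110287 F330470 (iv5 F167203) D108119 (iv5 F344467) (iv0 D156038) (iv4 F163562)
theorem F398578 : act 3 n195879 = n108208 := d20_5 F79035 (iv1 F53442) D49162 D106401 D195879 (iv4 D108208) (iv1 D49975) (iv4 F79044) (iv3 D49971) D49969
theorem F398579 : act 1 n106961 = n195879 := d15_0 (iv0 D195879) F163563 D106961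
theorem F398580 : act 7 n106959 = n195879 := d8_0 F398578 F212157 (iv3 F164870)
theorem F398581 : act 2 n195879 = n106960 := d15_3 (iv0 F358804) (iv0 F345392) F398580
def n195880 : Q := act 1 n106401
theorem D195880 : act 1 n106401 = n195880 := rfl
theorem F398582 : act 1 n195880 = n106961 := d15_1 D195880 (iv7 F358805) (iv2 F337382)
theorem F398583 : act 7 n195880 = n106960 := d15_2 (iv0 D195879) D195880 (iv2 F398581)
theorem F398584 : act 5 n195880 = n110285 := d17_7 D50854 F326651 F298413 F135926 F135925 (iv5 F337383) D195880 (iv0 D110285) F80211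
theorem F398585 : act 6 n107147 = n195880 := d21_3 D140650 (iv1 F223751) F363739 (iv1 D195880) (iv6 F360106) (iv5 D140625) (iv1 D65984) D65985 F101673 D65993
theorem F398586 : act 2 n195880 = n106959 := d3_1 F398585 F345395 (iv2 F363740)
def n195881 : Q := act 0 n106406
theorem D195881 : act 0 n106406 = n195881 := rfl
theorem F398587 : act 2 n106410 = n195881 := d15_3 (iv0 D195881) (iv0 D106406) D106410
theorem F398588 : act 3 n195881 = n107014 := d0_2 (iv3 F163609) F398587 (iv2 F164958) F78169 (iv2 F77637)
theorem F398589 : act 4 n195881 = n175990 := d1_2 F176263 F398587 (iv2 F345562)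
theorem F398590 : act 5 n195881 = n174273 := d2_2 F201871 F398587 (iv2 F346354)
theorem F398591 : act 7 n195881 = n106408 := d4_2 D106410 F398587 (iv2 D106408)
theorem F398592 : act 1 n106407 = n195881 := d15_1 D106407 F398591 (iv2 D106408)
def n195882 : Q := act 2 n106406
theorem D195882 : act 2 n106406 = n195882 := rfl
theorem F398593 : act 7 n106407 = n195882 := d15_2 (iv0 D106406) D106407 (iv2 D195882)
def n195883 : Q := act 3 n106406
theorem D195883 : act 3 n106406 = n195883 := rfl
theorem F398594 : act 4 n195883 = n156688 := d20_6 F45128 (iv1 F26100) D23991 D49165 D106406 D195883 (iv1 D156688) F111874 F80709 (iv1 F45126)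
theorem F398595 : act 1 n139020 = n195883 := d18_6 (iv1 D178895) (iv4 D85300) (iv1 F199948) (iv4 F104919) (iv5 F329017) F338228 F398594 F246456 (iv5 F338240)
def n195884 : Q := act 4 n106406
theorem D195884 : act 4 n106406 = n195884 := rfl
theorem F398596 : act 1 n195884 = n179253 := d18_8 F392264 F241888 (iv1 F238455) F350990 D175990 (iv4 F398589) (iv0 D195881) D195884 F392265
theorem F398597 : act 5 n147276 = n195884 := d17_5 (iv1 F326573) F293283 D102937 D194195 F392343 F398596 F392265 F392263 F300963
def n195885 : Q := act 5 n106406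
theorem D195885 : act 5 n106406 = n195885 := rfl
def n195886 : Q := act 6 n106406
theorem D195886 : act 6 n106406 = n195886 := rfl
def n195887 : Q := act 7 n106406
theorem D195887 : act 7 n106406 = n195887 := rfl
theorem F398598 : act 2 n195887 = n106407 := d4_1 D195887 F398593 (iv2 D195882)
def n195888 : Q := act 3 n106407
theorem D195888 : act 3 n106407 = n195888 := rfl
def n195889 : Q := act 4 n106407
theorem D195889 : act 4 n106407 = n195889 := rfl
theorem F398599 : act 5 n195889 = n147277 := d18_4 (iv1 F345561) (iv4 F398589) (iv1 F398592) D195889 (iv4 F366621) (iv0 F396398) F396397 (iv0 D150319) (iv5 F130684)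
theorem F398600 : act 3 n195889 = n125064 := d20_3 (iv4 F398589) (iv1 F398592) D195889 (iv1 D125064) (iv3 D58470) F44926 (iv1 F44965) (iv4 F60386) D85468 (iv1 F345561)
theorem F398601 : act 0 n179257 = n195889 := d20_10 (iv4 D195889) (iv1 D106407) (iv4 F82557) (iv3 D52216) F45710 D49743 (iv4 F111013) D155998 F359957 (iv3 F279180)
theorem F398602 : act 1 n179253 = n195889 := d15_0 (iv0 F398601) (iv7 D179257) D179253
theorem F398603 : act 2 n179252 = n195889 := d0_5 F398600 F351008 D179221 (iv2 F375963) F375964
theorem F398604 : act 6 n155783 = n195889 := d7_0 F398600 F351009 D155783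
theorem F398605 : act 7 n179226 = n195889 := d8_0 F398600 F351010 D179226
theorem F398606 : act 4 n195882 = n179226 := d11_3 F398605 (iv4 D195889) F398593
theorem F398607 : act 2 n179226 = n195884 := d15_3 F398596 F398602 (iv7 F398605)
theorem F398608 : act 7 n195884 = n179252 := d4_2 (iv7 F398605) F398607 F398603
theorem E103639 : n179251 = n179226 := ((c15_4 (iv0 D179251) D179252 (iv7 F398608) (iv2 F398607))).symm
theorem F398609 : act 1 n179226 = n85542 := (sb E103639 (iv0 D179251))
theorem F398610 : act 1 n106410 = n195882 := d18_6 F350633 F178508 (iv1 F235012) D164201 F335997 F176263 F398606 F398609 D179255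
theorem F398611 : act 1 n195882 = n106408 := d15_1 F398610 (iv7 F398591) (iv2 F398587)
theorem F398612 : act 1 n195887 = n106410 := d15_0 F398610 (iv7 F398593) (iv2 F398598)
theorem F398613 : act 1 n106408 = n195887 := d15_0 F398612 (iv7 D106410) D106408
theorem F398614 : act 4 n195887 = n179252 := d20_0 (iv1 D179252) D179254 F360001 (iv1 D106973) (iv3 D49422) (iv4 D24124) (iv1 F37498) (iv4 F77638) (iv3 F163609) (iv1 F398612)
theorem F398615 : act 1 n179257 = n195884 := d15_1 (iv0 F398601) F398608 F398603
def n195890 : Q := act 5 n106407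
theorem D195890 : act 5 n106407 = n195890 := rfl
def n195891 : Q := act 6 n106407
theorem D195891 : act 6 n106407 = n195891 := rfl
theorem F398616 : act 4 n195891 = n155783 := d10_1 D195891 F398604 (iv4 D195889)
theorem F398617 : act 5 n193067 = n195891 := d21_2 (iv5 D193083) F388649 (iv6 D195891) (iv1 D106407) F77635 (iv5 F37907) (iv1 F336125) F336126 D145330 (iv1 F388700)
theorem F398618 : act 0 n195891 = n144301 := d18_0 (iv4 F346507) (iv1 D127767) (iv4 F205289) (iv5 F241639) F385004 F385003 (iv4 F387611) (iv0 F388648) F398617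
def n195892 : Q := act 5 n106408
theorem D195892 : act 5 n106408 = n195892 := rfl
theorem F398619 : act 2 n195892 = n106409 := d2_1 D195892 (iv5 D106409) D106408
theorem F398620 : act 3 n195892 = n107027 := d6_1 D195892 (iv5 D107027) (iv3 F163606)
theorem F398621 : act 4 n195892 = n174276 := d9_1 D195892 F273065 F249016 F293802 D164201 F335997 F176263 (iv5 F201871) (iv4 F346355) (iv5 F293637) F145476 D94344 (iv4 F355330) F334746 F176258
theorem F398622 : act 7 n195892 = n174273 := d13_2 F398591 D195892 (iv5 F398590)
theorem F398623 : act 1 n180386 = n195892 := d15_1 (iv0 F364146) F398622 (iv2 F346354)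
def n195893 : Q := act 0 n106409
theorem D195893 : act 0 n106409 = n195893 := rfl
theorem F398624 : act 1 n174273 = n195893 := d15_0 (iv0 D195893) (iv7 F201872) F346354
theorem F398625 : act 6 n180384 = n195893 := d21_3 (iv5 F372140) (iv1 F376982) (iv5 F376981) (iv1 F398624) (iv6 D174273) (iv5 F271576) (iv1 F271577) (iv5 F353301) F195833 D157854
theorem F398626 : act 6 n195890 = n110150 := d21_3 (iv5 F398590) (iv1 F398592) D195890 F387538 F387535 (iv5 F372140) (iv1 F376982) (iv5 F376981) F398625 (iv1 F398624)
theorem F398627 : act 3 n110152 = n195890 := d7_3 F398626 (iv3 D110150) D110152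
theorem F398628 : act 5 n195888 = n110152 := d6_0 F398627 (iv5 D195890) D195888
theorem F398629 : act 0 n195890 = n144323 := d19_4 (iv1 F323979) F323981 (iv4 F325620) F398627 F227054 (iv4 F209073) (iv3 D130513) F95694 D107599 F166006 (iv3 F328855) (iv1 F120358) (iv5 F120359) (iv4 F177315) (iv3 F347552) F218453 (iv5 F333452) (iv4 D126143) (iv3 F325282)
theorem F398630 : act 2 n195893 = n180386 := d3_1 F398625 (iv6 D180386) D180384
def n195894 : Q := act 1 n106409
theorem D195894 : act 1 n106409 = n195894 := rfl
theorem F398631 : act 1 n195894 = n174273 := d15_1 D195894 (iv7 F398622) F398619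
theorem F398632 : act 7 n195894 = n180386 := d15_2 (iv0 D195893) D195894 (iv2 F398630)
theorem F398633 : act 3 n121264 = n195894 := d20_3 (iv4 D157881) (iv1 F297996) (iv4 F193358) (iv1 D195894) F163608 (iv4 F92869) (iv1 F92871) (iv4 F92854) F337381 (iv1 F257769)
theorem F398634 : act 4 n195894 = n164077 := d5_2 (iv4 F193358) F398633 F258575 F119988 (iv3 F88525)
theorem F398635 : act 6 n195894 = n121263 := d7_2 D121264 F398633 (iv3 D121263)
def n195895 : Q := act 4 n106409
theorem D195895 : act 4 n106409 = n195895 := rfl
theorem F398636 : act 2 n195895 = n174276 := d1_1 D195895 (iv4 F398621) F398619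
theorem F398637 : act 5 n195895 = n189694 := d9_2 D106409 D195895 F377429 F238452 F350990 D175990 (iv4 F398589) F398590 F273064 F128372 F112891 (iv5 F293283) F324718 (iv5 F342695) F82557
theorem F398638 : act 7 n195895 = n173267 := d11_2 F201872 D195895 F346355
theorem F398639 : act 1 n174275 = n195895 := d15_1 D174275 F398638 F271631
theorem F398640 : act 1 n195895 = n174274 := d15_0 (iv0 D174274) D174276 (iv2 F398636)
def n195896 : Q := act 5 n106411
theorem D195896 : act 5 n106411 = n195896 := rfl
theorem F398641 : act 2 n195896 = n115438 := d2_1 D195896 (iv5 D115438) F163610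
theorem F398642 : act 3 n195896 = n107218 := d6_1 D195896 F165235 (iv3 F163611)
theorem F398643 : act 6 n195896 = n107212 := d12_2 F164923 D195896 (iv5 D107212) (iv6 F164919) (iv5 F164920)
theorem F398644 : act 7 n195896 = n115439 := d13_2 F163614 D195896 (iv5 D115439)
theorem F398645 : act 1 n195896 = n136328 := d17_6 (iv1 F344614) (iv5 F347236) (iv1 D105541) D105543 (iv4 F360490) D195896 F219415 (iv0 D134933) (iv4 F167059)
theorem F398646 : act 0 n195896 = n134505 := d21_1 D195896 F217133 F217135 (iv1 D107123) (iv6 D49489) F37867 F38287 (iv5 F37500) D49169 D106411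
def n195897 : Q := act 6 n106414
theorem D195897 : act 6 n106414 = n195897 := rfl
theorem F398647 : act 2 n195897 = n106415 := d3_1 D195897 (iv6 D106415) D106414
theorem F398648 : act 3 n195897 = n107197 := d7_1 D195897 (iv6 D107197) (iv3 F163626)
theorem F398649 : act 4 n195897 = n195463 := d10_1 D195897 (iv6 F397069) (iv4 F163627)
theorem F398650 : act 5 n195897 = n140635 := d12_1 D195897 (iv6 D140635) (iv5 F331810) (iv6 D112676) (iv5 F163628)
def n195898 : Q := act 0 n106415
theorem D195898 : act 0 n106415 = n195898 := rfl
theorem F398651 : act 3 n195898 = n147338 := d20_5 (iv4 F102172) (iv1 D49173) (iv4 F77653) (iv3 F163636) D195898 (iv4 D147338) F320111 (iv4 F165353) F165352 (iv1 F80773)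
theorem F398652 : act 6 n151166 = n195898 := d7_0 F398651 F231014 D151166
def n195899 : Q := act 1 n106415
theorem D195899 : act 1 n106415 = n195899 := rfl
def n195900 : Q := act 5 n106415
theorem D195900 : act 5 n106415 = n195900 := rfl
theorem F398653 : act 2 n195900 = n140635 := d2_1 D195900 (iv5 F398650) F398647
theorem F398654 : act 3 n195900 = n106416 := d6_1 D195900 (iv5 D106416) (iv3 F163636)
theorem F398655 : act 6 n195900 = n112679 := d12_2 D106415 D195900 (iv5 D112679) (iv6 D52003) (iv5 F77650)
def n195901 : Q := act 7 n106415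
theorem D195901 : act 7 n106415 = n195901 := rfl
theorem F398656 : act 3 n195901 = n106417 := d8_1 D195901 (iv7 D106417) (iv3 F163636)
theorem F398657 : act 4 n195901 = n195461 := d11_1 D195901 F397063 (iv4 F163637)
theorem F398658 : act 6 n195901 = n107255 := d14_1 D195901 (iv7 D107255) (iv6 D49553) (iv7 F77651) D106415
def n195902 : Q := act 1 n106416
theorem D195902 : act 1 n106416 = n195902 := rfl
theorem F398659 : act 1 n195902 = n107210 := d15_1 D195902 (iv7 D107210) (iv2 F163638)
theorem F398660 : act 7 n195902 = n107207 := d15_2 F227041 D195902 (iv2 F227038)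
theorem F398661 : act 5 n195902 = n107514 := d17_7 F165685 F163660 (iv1 D106421) (iv5 D49174) (iv4 F77653) D106416 D195902 F227030 F227028
theorem F398662 : act 4 n195902 = n193543 := d17_9 F390206 (iv5 F342888) (iv1 D111954) D111956 F347201 (iv5 D127081) F103601 D106416 D195902
theorem F398663 : act 2 n107208 = n195902 := d1_3 F398662 F390204 F359480
theorem F398664 : act 6 n193542 = n195902 := d10_0 F398662 (iv6 D193543) D193542
theorem F398665 : act 5 n141866 = n193542 := d12_5 F398664 F398661 (iv6 D107514) D107513 F339995
def n195903 : Q := act 4 n106416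
theorem D195903 : act 4 n106416 = n195903 := rfl
theorem F398666 : act 2 n195903 = n107209 := d1_1 D195903 (iv4 D107209) (iv2 F163638)
theorem F398667 : act 5 n195903 = n195076 := d9_2 D106416 D195903 (iv4 D195076) F342870 F165250 F78298 (iv4 F78290) (iv5 F165224) F331826 (iv5 F395708) F395707 F342866 F96432 (iv5 D49174) (iv4 F77653)
theorem F398668 : act 6 n195903 = n112683 := d10_2 (iv6 F163639) D195903 (iv4 D112683)
theorem F398669 : act 7 n195090 = n195903 := d13_0 F398667 F395677 D195090
def n195904 : Q := act 7 n106416
theorem D195904 : act 7 n106416 = n195904 := rfl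
theorem F398670 : act 2 n195904 = n107210 := d4_1 D195904 (iv7 D107210) (iv2 F163638)
theorem F398671 : act 4 n195904 = n195090 := d11_1 D195904 F398669 (iv4 D195903)
theorem F398672 : act 5 n195904 = n106417 := d13_1 D195904 (iv7 D106417) D106416
theorem F398673 : act 6 n195904 = n138459 := d14_1 D195904 (iv7 F245637) (iv6 F331799) (iv7 D112684) (iv6 F163639)
theorem F398674 : act 1 n107208 = n195904 := d15_1 D107208 (iv7 D195904) F163638
theorem F398675 : act 1 n195904 = n107207 := d15_1 F398674 (iv7 F398660) (iv2 F398663)
def n195905 : Q := act 4 n106418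
theorem D195905 : act 4 n106418 = n195905 := rfl
theorem F398676 : act 2 n195905 = n107217 := d1_1 D195905 (iv4 D107217) (iv2 F163647)
theorem F398677 : act 3 n195905 = n113263 := d5_1 D195905 (iv4 F360190) F360188 (iv4 D116118) (iv3 F163648)
theorem F398678 : act 6 n195905 = n141285 := d10_2 (iv6 F163649) D195905 (iv4 D141285)
theorem F398679 : act 7 n195905 = n107222 := d11_2 (iv7 F163650) D195905 (iv4 D107222)
theorem F398680 : act 5 n195905 = n113338 := d17_5 (iv1 D106421) (iv5 D49174) D49172 D106418 D195905 (iv0 F341781) (iv5 D111041) D111039 F172211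
theorem F398681 : act 0 n195905 = n128906 := d18_2 F164820 D195905 F207140 F100190 D132511 (iv0 F212659) F165132 F164821 F164818
theorem F398682 : act 1 n195905 = n195783 := d18_6 (iv1 D24910) (iv4 F39058) D51196 (iv4 F95186) D106418 D195905 F398156 (iv0 F164169) (iv5 D51208)
def n195906 : Q := act 4 n106423
theorem D195906 : act 4 n106423 = n195906 := rfl
theorem F398683 : act 2 n195906 = n107194 := d1_1 D195906 (iv4 D107194) F172112
theorem F398684 : act 7 n195906 = n107189 := d11_2 (iv7 F172111) D195906 (iv4 D107189)
theorem F398685 : act 3 n195906 = n115616 := d19_3 F102876 (iv5 F172093) D195906 (iv1 D115616) D115619 F219380 F219379 F99694 (iv5 D48797) (iv4 D23798) (iv3 F37096) F37098 F24581 F20030 F19997 F9892 (iv5 F18292) D23994 D49170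
def n195907 : Q := act 3 n106424
theorem D195907 : act 3 n106424 = n195907 := rfl
theorem F398686 : act 2 n195907 = n142703 := d0_1 D195907 F225613 F172109 (iv3 D107188) (iv2 F172121)
theorem F398687 : act 5 n195907 = n142702 := d6_2 (iv5 F172122) D195907 F225609
theorem F398688 : act 7 n195907 = n107193 := d8_2 (iv7 F172123) D195907 (iv3 D107193)
theorem F398689 : act 0 n110740 = n195907 := d17_2 F223620 F223618 F398687 F371993 (iv5 D187976) F371912 F371910 (iv0 D140555) (iv4 F182481)
theorem F398690 : act 1 n127204 = n195907 := d17_6 (iv1 D49393) D49395 D106917 F225650 D140429 (iv5 F223613) F398687 F225611 (iv4 D106911)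
def n195908 : Q := act 4 n106424
theorem D195908 : act 4 n106424 = n195908 := rfl
theorem F398691 : act 2 n195908 = n107189 := d1_1 D195908 (iv4 D107189) (iv2 F172121)
theorem F398692 : act 7 n195908 = n107194 := d11_2 (iv7 F172123) D195908 (iv4 D107194)
theorem F398693 : act 3 n195908 = n115250 := d20_3 F165175 (iv1 F163677) D195908 (iv1 F179495) (iv3 F179514) F179515 (iv1 F179855) (iv4 F330545) F330544 (iv1 F165177)
theorem F398694 : act 0 n195908 = n115273 := d20_7 F220500 (iv1 F219046) (iv4 F102791) D110740 F398689 (iv3 D195907) D195908 F220501 F220496 (iv1 F220498)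
theorem F398695 : act 1 n195906 = n115273 := d15_0 (iv0 F398694) F398692 (iv2 F398683)
def n195909 : Q := act 6 n106425
theorem D195909 : act 6 n106425 = n195909 := rfl
theorem F398696 : act 2 n195909 = n106426 := d3_1 D195909 (iv6 D106426) D106425
theorem F398697 : act 3 n195909 = n107251 := d7_1 D195909 (iv6 D107251) (iv3 F163672)
theorem F398698 : act 4 n195909 = n115503 := d10_1 D195909 (iv6 D115503) (iv4 F163673)
def n195910 : Q := act 0 n106426
theorem D195910 : act 0 n106426 = n195910 := rfl
theorem F398699 : act 3 n195910 = n194531 := d20_5 (iv4 F163592) (iv1 D49179) (iv4 F77667) (iv3 F163679) D195910 (iv4 D194531) (iv1 F159183) D103749 F356932 (iv1 F80803)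
def n195911 : Q := act 1 n106426
theorem D195911 : act 1 n106426 = n195911 := rfl
def n195912 : Q := act 5 n106426
theorem D195912 : act 5 n106426 = n195912 := rfl
theorem F398700 : act 3 n195912 = n106429 := d6_1 D195912 (iv5 D106429) (iv3 F163679)
theorem F398701 : act 6 n195912 = n126162 := d12_2 D106426 D195912 (iv5 D126162) (iv6 D59119) (iv5 F77664)
theorem F398702 : act 7 n195912 = n138462 := d16_8 F221902 F365138 (iv4 F179570) (iv5 F383972) F383971 (iv5 D115510) (iv4 F163680) D195912 (iv2 F221901)
def n195913 : Q := act 7 n106426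
theorem D195913 : act 7 n106426 = n195913 := rfl
theorem F398703 : act 3 n195913 = n106430 := d8_1 D195913 (iv7 D106430) (iv3 F163679)
theorem F398704 : act 4 n195913 = n115511 := d11_1 D195913 (iv7 D115511) (iv4 F163680)
theorem F398705 : act 5 n195913 = n138462 := d13_1 D195913 (iv7 F398702) (iv5 D195912)
theorem F398706 : act 6 n195913 = n107201 := d14_1 D195913 (iv7 D107201) (iv6 D49525) (iv7 F77665) D106426
def n195914 : Q := act 3 n106427
theorem D195914 : act 3 n106427 = n195914 := rfl
theorem F398707 : act 4 n195914 = n136078 := d5_2 F165334 D195914 (iv3 D136078) (iv4 F166215) F166214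
theorem F398708 : act 7 n195914 = n107261 := d8_2 (iv7 F166404) D195914 (iv3 D107261)
theorem F398709 : act 0 n195914 = n193850 := d20_4 (iv4 F37979) D49675 F165334 D195914 F391201 (iv4 D176162) (iv1 F347447) F364906 (iv3 D107275) F104356
theorem F398710 : act 0 n110744 = n195914 := d20_4 (iv4 F353398) (iv1 F321587) (iv4 F225600) F225599 (iv3 D195914) (iv4 F165334) (iv1 F78479) (iv4 F80807) (iv3 F102894) (iv1 F225668)
theorem F398711 : act 2 n195914 = n193224 := d15_3 (iv0 F391417) F371286 (iv7 F398708)
def n195915 : Q := act 5 n106427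
theorem D195915 : act 5 n106427 = n195915 := rfl
theorem F398712 : act 2 n195915 = n107258 := d2_1 D195915 (iv5 D107258) (iv2 F166403)
theorem F398713 : act 6 n195915 = n114510 := d12_2 F228474 D195915 (iv5 F340478) F340481 (iv5 F228475)
theorem F398714 : act 7 n195915 = n107262 := d13_2 (iv7 F166404) D195915 (iv5 D107262)
theorem F398715 : act 4 n195915 = n127789 := d16_2 F165334 D195915 F205553 (iv4 F353123) (iv5 D137508) (iv4 F161379) (iv5 F94057) F166409 F166402
theorem F398716 : act 1 n195915 = n106951 := d17_6 (iv1 D51150) (iv5 F45823) D59659 F94054 F165334 D195915 (iv5 D106951) D106950 F164833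
def n195916 : Q := act 3 n106428
theorem D195916 : act 3 n106428 = n195916 := rfl
theorem F398717 : act 4 n195916 = n116269 := d5_2 F163682 D195916 (iv3 D116269) (iv4 F166139) F166138
theorem F398718 : act 7 n195916 = n107257 := d8_2 (iv7 F166413) D195916 (iv3 D107257)
def n195917 : Q := act 5 n106428
theorem D195917 : act 5 n106428 = n195917 := rfl
theorem F398719 : act 2 n195917 = n107262 := d2_1 D195917 (iv5 D107262) (iv2 F166412)
theorem F398720 : act 7 n195917 = n107258 := d13_2 (iv7 F166413) D195917 (iv5 D107258)
theorem F398721 : act 0 n195917 = n106951 := d17_2 (iv1 F163681) D195917 (iv5 D106951) F78138 F37782 D30418 (iv5 F163593) F77668 (iv4 F78314)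
def n195918 : Q := act 7 n106429
theorem D195918 : act 7 n106429 = n195918 := rfl
theorem F398722 : act 2 n195918 = n107267 := d4_1 D195918 (iv7 D107267) (iv2 F163683)
theorem F398723 : act 3 n195918 = n138462 := d8_1 D195918 (iv7 F398702) F398700
theorem F398724 : act 4 n195918 = n127830 := d11_1 D195918 F205654 F352667
theorem F398725 : act 5 n195918 = n106430 := d13_1 D195918 (iv7 D106430) D106429
theorem F398726 : act 6 n195918 = n138460 := d14_1 D195918 (iv7 F221904) (iv6 F364952) (iv7 D126167) (iv6 F163684)
theorem F398727 : act 1 n107265 = n195918 := d15_1 D107265 (iv7 D195918) F163683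
theorem F398728 : act 1 n195918 = n107264 := d15_1 F398727 (iv7 F339919) (iv2 F339920)
theorem F398729 : act 0 n138460 = n134850 := d21_10 (iv5 D134850) D134846 F351255 (iv6 D140612) (iv1 F331521) (iv6 F339928) (iv5 D107258) F163693 (iv5 F398725) F398726
def n195919 : Q := act 1 n106433
theorem D195919 : act 1 n106433 = n195919 := rfl
theorem F398730 : act 1 n195919 = n142801 := d15_1 D195919 F359137 (iv2 F359131)
theorem F398731 : act 7 n195919 = n142802 := d15_2 (iv0 F171807) D195919 (iv2 D142802)
theorem F398732 : act 5 n195919 = n137780 := d18_9 (iv1 F336128) (iv4 F336133) (iv1 D110736) F80499 (iv5 F39067) (iv4 F80661) (iv0 F359126) F359128 D195919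
theorem F398733 : act 3 n107346 = n195919 := d20_9 (iv4 F359128) F359126 F80661 F39066 (iv1 F37515) D49176 F77663 D53280 (iv4 F165400) (iv1 D195919)
theorem F398734 : act 2 n195919 = n107281 := d0_1 F398733 (iv3 D107281) F102829 D66933 F165401
theorem F398735 : act 4 n195919 = n111064 := d5_2 (iv4 F165400) F398733 F181261 (iv4 F330545) F330544
def n195920 : Q := act 6 n106433
theorem D195920 : act 6 n106433 = n195920 := rfl
theorem F398736 : act 3 n195920 = n106436 := d7_1 D195920 (iv6 D106436) D106433
def n195921 : Q := act 0 n106434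
theorem D195921 : act 0 n106434 = n195921 := rfl
theorem F398737 : act 4 n195921 = n195907 := d18_3 D49181 D106434 D195921 F398687 F371993 F371991 F165393 F336125 F37907
theorem F398738 : act 1 n106439 = n195921 := d15_0 (iv0 D195921) (iv7 F359123) F359125
theorem F398739 : act 7 n195921 = n179256 := d15_2 F382336 F398738 (iv2 F355498)
theorem F398740 : act 3 n126005 = n195921 := d20_9 (iv4 D106439) (iv1 D49182) (iv4 F77623) (iv3 D49160) (iv1 F39413) D28262 (iv4 F83986) D115250 F351376 (iv1 F398738)
def n195922 : Q := act 3 n106434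
theorem D195922 : act 3 n106434 = n195922 := rfl
theorem F398741 : act 0 n195922 = n137297 := d19_4 D68145 F228319 D106434 D195922 F220437 (iv4 D113530) (iv3 D52400) (iv1 F40211) (iv5 F36926) F36925 (iv3 F19628) (iv1 F19630) (iv5 F10419) (iv4 F19219) (iv3 D11830) F18007 (iv5 F19790) (iv4 F24589) D31727
def n195923 : Q := act 5 n106434
theorem D195923 : act 5 n106434 = n195923 := rfl
theorem F398742 : act 2 n195923 = n141796 := d2_1 D195923 F359105 (iv2 F359124)
theorem F398743 : act 4 n195923 = n187945 := d16_2 D106434 D195923 (iv5 D187945) D187944 F371899 F223655 F228389 (iv7 F359115) (iv2 F359118)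
theorem F398744 : act 0 n195923 = n129513 := d18_0 (iv4 F209254) F350857 F95934 F323658 (iv4 F204478) F398690 (iv4 F398737) (iv0 D195921) D195923
def n195924 : Q := act 0 n106436
theorem D195924 : act 0 n106436 = n195924 := rfl
def n195925 : Q := act 1 n106436
theorem D195925 : act 1 n106436 = n195925 := rfl
theorem F398745 : act 5 n195925 = n192407 := d17_7 D100161 (iv5 F360363) F367698 F367696 (iv4 F386612) F386613 D195925 (iv0 D192407) F154092
def n195926 : Q := act 7 n106436
theorem D195926 : act 7 n106436 = n195926 := rfl
def n195927 : Q := act 0 n106438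
theorem D195927 : act 0 n106438 = n195927 := rfl
theorem F398746 : act 3 n195927 = n107325 := d20_5 (iv4 F398737) (iv1 F398738) (iv4 D106439) D106438 D195927 F220500 (iv1 F219046) (iv4 F102791) D110740 F398689
theorem F398747 : act 4 n195927 = n107232 := d20_0 (iv1 F165274) (iv4 F163627) F163626 (iv1 F163677) D195907 (iv4 F398737) (iv1 F398738) (iv4 D106439) D106438 D195927
theorem F398748 : act 2 n107294 = n195927 := d1_3 F398747 (iv2 F172167) (iv4 F165359)
theorem F398749 : act 7 n195460 = n195927 := d11_0 F398747 (iv7 F172169) D195460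
theorem F398750 : act 1 n106438 = n111016 := d15_1 (iv0 D195927) F172164 F398748
def n195928 : Q := act 2 n106438
theorem D195928 : act 2 n106438 = n195928 := rfl
theorem F398751 : act 3 n195928 = n142801 := d0_2 D106438 D195928 (iv2 F359132) (iv3 D107373) F359114
theorem F398752 : act 1 n195928 = n195460 := d15_0 (iv0 F397060) (iv7 F359157) D195928
theorem F398753 : act 1 n107294 = n195928 := d15_0 F398752 F398749 (iv2 F398748)
def n195929 : Q := act 4 n106438
theorem D195929 : act 4 n106438 = n195929 := rfl
theorem F398754 : act 0 n195929 = n195431 := d20_7 (iv4 D106906) D106903 F164772 (iv3 F78338) (iv1 F78340) D106438 D195929 F396992 (iv3 F225609) (iv1 F225612)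
theorem F398755 : act 0 n142736 = n195929 := d20_10 (iv4 D195929) D195927 F398747 (iv3 F347206) F347205 (iv3 D67033) (iv4 D31214) (iv1 F102754) D66914 D142736
def n195930 : Q := act 6 n106438
theorem D195930 : act 6 n106438 = n195930 := rfl
theorem F398756 : act 3 n195930 = n106441 := d7_1 D195930 (iv6 D106441) D106438
theorem F398757 : act 5 n141943 = n195930 := d6_0 F398756 (iv5 F371648) F371629
def n195931 : Q := act 5 n106439
theorem D195931 : act 5 n106439 = n195931 := rfl
theorem F398758 : act 3 n195931 = n129283 := d6_1 D195931 (iv5 F359109) F359108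
theorem F398759 : act 4 n195931 = n187950 := d9_1 D195931 (iv5 D187950) D187949 F371910 F223696 F228319 D106434 D195923 F398743 (iv5 D187945) D187944 F371899 F223655 F228389 D106439
theorem F398760 : act 6 n195931 = n129280 := d12_2 (iv6 F389514) D195931 F211051 D135402 F389512
theorem F398761 : act 7 n195931 = n141796 := d13_2 (iv7 F359113) D195931 F359105
theorem F398762 : act 1 n195931 = n129513 := d17_6 (iv1 F180530) (iv5 F165048) (iv1 F165052) F228389 D106439 D195931 F317510 (iv0 F343461) (iv4 D107338)
def n195932 : Q := act 1 n106441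
theorem D195932 : act 1 n106441 = n195932 := rfl
def n195933 : Q := act 7 n106441
theorem D195933 : act 7 n106441 = n195933 := rfl
def n195934 : Q := act 4 n106445
theorem D195934 : act 4 n106445 = n195934 := rfl
theorem F398763 : act 2 n195934 = n107415 := d1_1 D195934 (iv4 D107415) (iv2 F165477)
theorem F398764 : act 6 n195934 = n128802 := d10_2 F164819 D195934 F207056
theorem F398765 : act 7 n195934 = n107425 := d11_2 (iv7 F165478) D195934 (iv4 D107425)
theorem F398766 : act 5 n195934 = n110963 := d17_5 (iv1 D49185) F37519 D49184 D106445 D195934 (iv0 D110963) F80710 D51244 F165545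
theorem F398767 : act 1 n195934 = n107468 := d18_6 (iv1 D31714) (iv4 F39068) D51243 F165543 D106445 D195934 F165787 F104271 (iv5 D68116)
def n195935 : Q := act 4 n106450
theorem D195935 : act 4 n106450 = n195935 := rfl
theorem F398768 : act 2 n195935 = n107425 := d1_1 D195935 (iv4 D107425) F165514
theorem F398769 : act 6 n195935 = n107430 := d10_2 (iv6 F163705) D195935 F165710
theorem F398770 : act 7 n195935 = n107415 := d11_2 (iv7 F165515) D195935 (iv4 D107415)
theorem F398771 : act 5 n195935 = n110964 := d17_5 (iv1 F77676) F37815 (iv1 F77677) D106450 D195935 F172013 (iv5 D110966) F80838 F165543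
theorem F398772 : act 0 n195935 = n107468 := d18_2 F164847 D195935 F165787 (iv5 F112159) (iv4 F247362) (iv0 F247366) (iv4 D107415) (iv0 F78358) (iv5 F164845)
def n195936 : Q := act 2 n106452
theorem D195936 : act 2 n106452 = n195936 := rfl
theorem F398773 : act 3 n195936 = n131823 := d0_2 D106452 D195936 (iv2 D131823) (iv3 D61856) (iv2 F77678)
theorem F398774 : act 4 n195936 = n130654 := d1_2 (iv4 F163708) D195936 (iv2 D130654)
theorem F398775 : act 5 n195936 = n191095 := d2_2 F211424 D195936 (iv2 F382202)
theorem F398776 : act 7 n195936 = n131816 := d4_2 (iv7 F163709) D195936 (iv2 D131816)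
theorem F398777 : act 1 n195936 = n131814 := d15_0 (iv0 D131814) (iv7 F163709) D195936
theorem F398778 : act 1 n131815 = n195936 := d15_0 F398777 (iv7 F382290) (iv2 F382328)
def n195937 : Q := act 4 n106453
theorem D195937 : act 4 n106453 = n195937 := rfl
theorem F398779 : act 3 n195937 = n129143 := d5_1 D195937 (iv4 F383774) F383770 (iv4 F383793) F383792
theorem F398780 : act 5 n195937 = n129142 := d16_1 D195937 F327309 (iv5 F178974) F178973 F120141 D106539 (iv5 F341613) (iv7 F341612) (iv2 F341611)
def n195938 : Q := act 4 n106454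
theorem D195938 : act 4 n106454 = n195938 := rfl
theorem F398781 : act 5 n195938 = n159554 := d9_2 (iv5 F341613) D195938 F251294 (iv5 F114490) F177640 F77751 D106542 F341595 D195937 F398780 F327309 (iv5 F178974) F178973 F120141 D106539
theorem F398782 : act 3 n195938 = n126553 := d20_3 (iv4 F203443) (iv1 F164363) D195938 (iv1 F203522) F203342 F95322 (iv1 F47141) D62144 D132452 (iv1 F212549)
def n195939 : Q := act 1 n106456
theorem D195939 : act 1 n106456 = n195939 := rfl
def n195940 : Q := act 0 n106459
theorem D195940 : act 0 n106459 = n195940 := rfl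
theorem F398783 : act 5 n195940 = n125646 := d17_3 F164036 D106459 D195940 (iv4 D125646) F93008 (iv0 D49077) F37372 D29315 D61874
theorem F398784 : act 4 n195940 = n144788 := d18_1 D195940 (iv1 F227671) (iv4 F391978) F391979 F163820 F77789 D61871 F164038 D106459
theorem F398785 : act 2 n128905 = n195940 := d15_3 (iv0 D195940) (iv0 F342962) F342965
theorem F398786 : act 7 n195940 = n128908 := d4_2 F342965 F398785 (iv2 F342963)
theorem F398787 : act 6 n144786 = n195940 := d14_5 F398786 (iv6 F361702) F161874 D115003 (iv7 F227665)
theorem F398788 : act 3 n195940 = n189807 := d7_1 F398787 (iv6 D189807) (iv3 F364803)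
theorem F398789 : act 0 n189807 = n182776 := d20_10 (iv4 D182776) (iv1 F332722) (iv4 F367847) (iv3 D186740) (iv1 F147814) F327929 (iv4 F332832) (iv1 F227672) (iv4 F398784) F398788
def n195941 : Q := act 7 n106459
theorem D195941 : act 7 n106459 = n195941 := rfl
theorem F398790 : act 4 n195941 = n195672 := d11_1 D195941 F397802 F395879
theorem F398791 : act 5 n195941 = n106460 := d13_1 D195941 (iv7 D106460) D106459
theorem F398792 : act 1 n128908 = n195941 := d15_1 (iv0 F207141) (iv7 D195941) (iv2 F164301)
theorem F398793 : act 1 n195941 = n128905 := d15_1 F398792 (iv7 F342965) F342963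
def n195942 : Q := act 3 n106463
theorem D195942 : act 3 n106463 = n195942 := rfl
theorem F398794 : act 4 n195942 = n132249 := d5_2 D106463 D195942 (iv3 D132249) F164308 (iv3 D106462)
theorem F398795 : act 5 n195942 = n127389 := d6_2 (iv5 F332796) D195942 F204720
theorem F398796 : act 6 n195942 = n190730 := d7_2 (iv6 F332797) D195942 F380837
theorem F398797 : act 7 n195942 = n131853 := d8_2 (iv7 F165623) D195942 (iv3 D131853)
def n195943 : Q := act 3 n106466
theorem D195943 : act 3 n106466 = n195943 := rfl
theorem F398798 : act 4 n195943 = n130714 := d5_2 D106466 D195943 (iv3 D130714) (iv4 D61329) F165627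
theorem F398799 : act 7 n195943 = n131852 := d8_2 (iv7 F165631) D195943 (iv3 D131852)
def n195944 : Q := act 6 n106466
theorem D195944 : act 6 n106466 = n195944 := rfl
theorem F398800 : act 2 n195944 = n131854 := d3_1 D195944 (iv6 D131854) (iv2 F165630)
theorem F398801 : act 4 n195944 = n106467 := d10_1 D195944 (iv6 D106467) D106466
theorem F398802 : act 1 n129100 = n195944 := d18_6 (iv1 D49350) (iv4 F78016) F329384 F329052 D60692 D129100 F398801 F164659 (iv5 D106806)
theorem F398803 : act 0 n129096 = n195944 := d20_1 D129096 F398801 F165667 (iv1 F102009) F98514 F306716 (iv1 F305445) F95380 (iv3 F164089) F95279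
def n195945 : Q := act 0 n106468
theorem D195945 : act 0 n106468 = n195945 := rfl
theorem F398804 : act 5 n195945 = n190468 := d17_1 D195945 (iv1 D190468) (iv5 D96044) (iv4 F71724) (iv5 F294907) D163423 (iv5 F358378) (iv0 F358224) F211178
theorem F398805 : act 1 n185701 = n195945 := d15_0 (iv0 D195945) (iv7 F376734) F376730
def n195946 : Q := act 1 n106468
theorem D195946 : act 1 n106468 = n195946 := rfl
theorem F398806 : act 1 n195946 = n185701 := d15_1 D195946 F348093 F348089
theorem F398807 : act 5 n190467 = n195946 := d21_0 (iv1 D195946) F163715 (iv6 D49652) (iv1 F46640) D61275 (iv5 F114335) D159483 F377589 (iv6 F377585) D190467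
theorem F398808 : act 6 n113038 = n190467 := d21_5 (iv5 D29007) F23055 (iv5 F40042) D52174 D113038 F398807 (iv1 D195946) F163715 (iv6 D49652) (iv1 F46640)
theorem F398809 : act 2 n190467 = n190011 := d3_1 F398808 F395354 F331584
theorem F398810 : act 2 n195001 = n195946 := d2_3 (iv5 F398807) F398809 F395353
theorem F398811 : act 7 n190010 = n190467 := d15_2 F379834 F379835 F398809
theorem F398812 : act 7 n190468 = n190011 := d15_2 (iv0 D190467) D190468 (iv2 F398809)
theorem F398813 : act 2 n190010 = n190468 := d4_3 F398812 (iv2 F398809) (iv7 F398811)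
theorem F398814 : act 7 n195001 = n195945 := d13_2 F398812 F395353 F398804
theorem F398815 : act 2 n195945 = n195000 := d15_3 (iv0 D195000) D195001 F398814
theorem F398816 : act 7 n195946 = n195000 := d4_2 (iv7 F398814) F398810 (iv2 F398815)
def n195947 : Q := act 1 n106469
theorem D195947 : act 1 n106469 = n195947 := rfl
theorem F398817 : act 1 n195947 = n133665 := d15_1 D195947 (iv7 D133665) (iv2 F163716)
theorem F398818 : act 7 n195947 = n133663 := d15_2 (iv0 F373804) D195947 (iv2 F373807)
theorem F398819 : act 4 n185723 = n195947 := d20_0 (iv1 D195947) (iv4 F211431) F382501 (iv1 D191182) (iv3 D97359) (iv4 D45469) F291942 D41292 D88459 D185723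
theorem F398820 : act 5 n133427 = n195947 := d21_6 F46793 (iv1 D14064) D14066 D29615 D62624 D133427 (iv1 D195947) F163718 (iv6 D50880) (iv1 F46791)
theorem F398821 : act 2 n195947 = n133664 := d1_1 F398819 (iv4 F370267) (iv2 F373475)
def n195948 : Q := act 5 n106470
theorem D195948 : act 5 n106470 = n195948 := rfl
theorem F398822 : act 3 n195948 = n115197 := d6_1 D195948 F331692 (iv3 F342975)
theorem F398823 : act 6 n195948 = n115195 := d12_2 (iv6 F342967) D195948 (iv5 D115195) (iv6 F332852) F342958
theorem F398824 : act 7 n195948 = n189293 := d13_2 F342973 D195948 F376344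
theorem F398825 : act 4 n195948 = n155972 := d16_6 F356049 (iv5 D125911) F93158 D125635 F342969 D195948 F364556 F173848 (iv2 F173846)
def n195949 : Q := act 4 n106471
theorem D195949 : act 4 n106471 = n195949 := rfl
theorem F398826 : act 2 n195949 = n131894 := d1_1 D195949 F338514 (iv2 F342974)
theorem F398827 : act 6 n195949 = n189510 := d10_2 F369332 D195949 F376766
theorem F398828 : act 7 n195949 = n131893 := d11_2 (iv7 F342972) D195949 F342979
theorem F398829 : act 0 n195949 = n106574 := d18_2 (iv1 F164356) D195949 F163846 (iv5 F114326) (iv4 F149962) F316659 F347763 (iv0 F338509) F235975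
theorem F398830 : act 0 n131888 = n195949 := d20_10 (iv4 D195949) (iv1 D106471) (iv4 F96582) (iv3 F211660) F373555 (iv3 F367033) F353144 (iv1 D106523) (iv4 F96472) (iv3 F211320)
def n195950 : Q := act 5 n106471
theorem D195950 : act 5 n106471 = n195950 := rfl
theorem F398831 : act 2 n195950 = n189293 := d2_1 D195950 F376344 (iv2 F342974)
theorem F398832 : act 3 n195950 = n151663 := d6_1 D195950 (iv5 D151663) (iv3 F342985)
theorem F398833 : act 6 n195950 = n121357 := d12_2 F369332 D195950 (iv5 F369338) (iv6 D187172) D187171
theorem F398834 : act 4 n195950 = n155973 := d16_2 (iv4 D195949) D195950 F364562 F356049 (iv5 D125911) F93158 D125635 F342976 (iv2 F398826)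
def n195951 : Q := act 4 n106473
theorem D195951 : act 4 n106473 = n195951 := rfl
theorem F398835 : act 2 n195951 = n137700 := d1_1 D195951 F349654 (iv2 F364685)
theorem F398836 : act 3 n195951 = n195130 := d5_1 D195951 F395889 F161487 (iv4 F93382) (iv3 F364686)
theorem F398837 : act 6 n195951 = n126229 := d10_2 (iv6 F364687) D195951 (iv4 D126229)
theorem F398838 : act 5 n195951 = n189574 := d17_5 (iv1 D106613) D106615 (iv1 F373564) F373568 D195951 F377011 F364104 F337803 F363958
theorem F398839 : act 2 n189574 = n183166 := d2_1 F398838 (iv5 F364105) (iv2 F398835)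
theorem F398840 : act 7 n183165 = n189574 := d15_2 F377016 F377017 F398839
theorem F398841 : act 7 n189573 = n183166 := d15_2 F377011 F377015 (iv2 F398839)
theorem F398842 : act 2 n183165 = n189573 := d4_3 F398841 (iv2 F398839) (iv7 F398840)
def n195952 : Q := act 3 n106474
theorem D195952 : act 3 n106474 = n195952 := rfl
def n195953 : Q := act 4 n106474
theorem D195953 : act 4 n106474 = n195953 := rfl
theorem F398843 : act 7 n195953 = n137700 := d11_2 F364690 D195953 F349654
theorem F398844 : act 5 n195953 = n189573 := d17_5 (iv1 F164210) D132045 (iv1 F373550) F373552 D195953 (iv0 D189573) F294735 D182393 F363971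
def n195954 : Q := act 6 n106474
theorem D195954 : act 6 n106474 = n195954 := rfl
def n195955 : Q := act 6 n106475
theorem D195955 : act 6 n106475 = n195955 := rfl
theorem F398845 : act 2 n195955 = n106476 := d3_1 D195955 (iv6 D106476) D106475
theorem F398846 : act 4 n195955 = n189182 := d10_1 D195955 F375983 F216828
def n195956 : Q := act 0 n106476
theorem D195956 : act 0 n106476 = n195956 := rfl
theorem F398847 : act 6 n195956 = n154025 := d21_5 D132043 F359036 F96581 D106476 D195956 F398007 F398009 (iv5 F389067) F389068 (iv1 F164216)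
theorem F398848 : act 4 n154026 = n195956 := d10_3 F398847 F242049 D154026
def n195957 : Q := act 5 n106476
theorem D195957 : act 5 n106476 = n195957 := rfl
theorem F398849 : act 3 n195957 = n106477 := d6_1 D195957 (iv5 D106477) (iv3 F163719)
theorem F398850 : act 4 n195957 = n113210 := d19_2 F397958 D195957 F176383 (iv1 F92970) (iv5 D58804) (iv4 D27963) (iv3 F22210) F18603 (iv5 D5741) (iv4 D2403) F9941 (iv1 D2120) D2121 D5162 D11223 D23951 D49093 D106233 D195725
theorem F398851 : act 0 n125868 = n195957 := d21_7 (iv5 F373568) (iv1 F373567) (iv5 D132045) F328938 F132078 D169921 (iv5 F366009) (iv5 D195957) (iv6 D106476) D106473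
theorem F398852 : act 7 n125808 = n195957 := d11_0 F398850 F176384 D125808
def n195958 : Q := act 7 n106476
theorem D195958 : act 7 n106476 = n195958 := rfl
theorem F398853 : act 3 n195958 = n106478 := d8_1 D195958 (iv7 D106478) (iv3 F163719)
theorem F398854 : act 4 n195958 = n189184 := d11_1 D195958 F375993 F216836
theorem F398855 : act 5 n195958 = n125808 := d13_1 D195958 F398852 (iv5 D195957)
def n195959 : Q := act 0 n106477
theorem D195959 : act 0 n106477 = n195959 := rfl
theorem F398856 : act 5 n195959 = n128868 := d17_3 F96488 D106477 D195959 F207118 (iv5 F96489) (iv0 D61896) (iv5 D29327) D29326 D61895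
theorem F398857 : act 2 n125843 = n195959 := d15_3 (iv0 D195959) F360460 D125843
theorem F398858 : act 1 n125841 = n195959 := d15_0 (iv0 D195959) (iv7 F349562) F360464
theorem F398859 : act 7 n195959 = n113212 := d15_2 D125841 F398858 F176386
theorem F398860 : act 6 n125772 = n195959 := d14_5 F398859 (iv6 D113212) F82629 D58918 (iv7 F349555)
def n195960 : Q := act 5 n106479
theorem D195960 : act 5 n106479 = n195960 := rfl
theorem F398861 : act 2 n195960 = n131898 := d2_1 D195960 (iv5 D131898) (iv2 F163725)
theorem F398862 : act 3 n195960 = n195770 := d6_1 D195960 F398099 F397973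
theorem F398863 : act 7 n195960 = n131901 := d13_2 (iv7 F163722) D195960 (iv5 D131901)
theorem F398864 : act 4 n195960 = n125930 := d16_2 D106479 D195960 (iv5 F349577) (iv4 F349583) (iv5 D128566) F95035 F82537 (iv7 F77911) F77912
theorem F398865 : act 6 n195960 = n125928 := d21_3 (iv5 D106575) F163724 D195960 F377847 (iv6 D125632) F92995 (iv1 F45261) D28000 D58898 (iv1 F342878)
def n195961 : Q := act 6 n106481
theorem D195961 : act 6 n106481 = n195961 := rfl
theorem F398866 : act 3 n195961 = n106693 := d7_1 D195961 (iv6 F341600) F211654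
theorem F398867 : act 4 n195961 = n106482 := d10_1 D195961 (iv6 D106482) D106481
theorem F398868 : act 5 n195961 = n146494 := d12_1 D195961 (iv6 D146494) (iv5 D68675) D68676 (iv5 F355704)
theorem F398869 : act 7 n195961 = n151650 := d14_2 (iv7 F163731) D195961 (iv6 D151650) (iv7 F335462) F335461
theorem F398870 : act 0 n195961 = n130603 := d21_4 (iv5 F355702) (iv1 D146496) (iv5 F355704) D195961 (iv6 D130603) (iv5 D61279) (iv1 F46646) D49689 D107549 F316749
def n195962 : Q := act 0 n106482
theorem D195962 : act 0 n106482 = n195962 := rfl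
theorem F398871 : act 3 n195962 = n114051 := d20_5 (iv4 F150044) F358377 F96580 (iv3 F163732) D195962 (iv4 D114051) F83166 D106520 (iv3 F333531) (iv1 F356952)
theorem F398872 : act 6 n195962 = n151676 := d21_5 (iv5 D29696) F37542 D49201 D106482 D195962 (iv5 F385402) F385403 F371588 F322880 (iv1 D62768)
theorem F398873 : act 5 n195962 = n188841 := d21_0 (iv1 D188841) (iv5 F367189) (iv6 D102906) (iv1 F293774) (iv6 D62770) (iv5 D29696) F37542 D49201 D106482 D195962
def n195963 : Q := act 1 n106482
theorem D195963 : act 1 n106482 = n195963 := rfl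
theorem F398874 : act 3 n133413 = n195963 := d20_3 (iv4 F175973) (iv1 F175976) F365010 (iv1 D195963) F163732 (iv4 F96580) D132128 F341618 (iv3 F364987) (iv1 F176143)
theorem F398875 : act 5 n188840 = n195963 := d21_0 (iv1 D195963) F163733 (iv6 D74017) D74015 (iv6 F143086) (iv5 D92772) F157712 D43442 D92843 D188840
def n195964 : Q := act 7 n106482
theorem D195964 : act 7 n106482 = n195964 := rfl
theorem F398876 : act 3 n195964 = n106485 := d8_1 D195964 (iv7 D106485) (iv3 F163732)
theorem F398877 : act 4 n195964 = n151650 := d11_1 D195964 (iv7 F398869) F398867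
theorem F398878 : act 5 n195964 = n155580 := d13_1 D195964 (iv7 D155580) (iv5 F163733)
theorem F398879 : act 6 n195964 = n151649 := d14_1 D195964 F339789 F161801 (iv7 F77696) D106482
def n195965 : Q := act 2 n106483
theorem D195965 : act 2 n106483 = n195965 := rfl
theorem F398880 : act 7 n106484 = n195965 := d15_2 (iv0 D106483) D106484 (iv2 D195965)
def n195966 : Q := act 3 n106483
theorem D195966 : act 3 n106483 = n195966 := rfl
def n195967 : Q := act 4 n106483
theorem D195967 : act 4 n106483 = n195967 := rfl
theorem F398881 : act 5 n195967 = n106582 := d16_1 D195967 (iv4 F332600) F332601 F93655 D105486 D195270 (iv5 F396527) F398880 (iv2 D195965)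
theorem F398882 : act 1 n195967 = n106557 := d18_8 D106554 F325755 (iv1 F161479) F343643 (iv5 F382352) (iv4 F382353) F164395 D195967 (iv5 D106557)
theorem F398883 : act 3 n195967 = n120118 := d20_3 F96580 D106483 D195967 (iv1 F259061) (iv3 F358373) (iv4 D97302) (iv1 D45449) D45450 D97307 F358377
theorem F398884 : act 4 n195966 = n120116 := d5_2 (iv4 D195967) D195966 F189729 D120118 (iv3 F398883)
theorem F398885 : act 0 n195966 = n151670 := d19_4 D106582 (iv5 F398881) (iv4 D195967) D195966 (iv5 F351264) (iv4 D134804) F98621 (iv1 F95129) (iv5 D60509) (iv4 D28736) F22951 D13708 F22955 F22145 F22144 (iv1 F36951) F36948 D24037 D49252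
theorem F398886 : act 2 n151709 = n195966 := d1_3 F398884 (iv2 F238450) (iv4 F392241)
theorem F398887 : act 7 n151710 = n195966 := d11_0 F398884 F238447 F363066
theorem F398888 : act 4 n190372 = n189688 := d20_6 F382353 (iv1 D191134) F150044 (iv3 D95954) D95952 D190372 (iv1 F377398) (iv4 F398884) (iv3 D195966) (iv1 F164395)
theorem F398889 : act 6 n189688 = n107553 := d10_2 (iv6 F379596) F398888 (iv4 F210502)
theorem F398890 : act 0 n151670 = n189687 := d20_10 F377397 D189688 (iv4 F398888) (iv3 D190372) F356686 F364982 (iv4 F364996) (iv1 F176242) (iv4 F178454) (iv3 F238522)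
theorem F398891 : act 1 n107551 = n189687 := d15_0 (iv0 F398890) F238523 (iv2 F165933)
theorem F398892 : act 1 n195966 = n107551 := d15_0 F398891 F392242 F398886
theorem F398893 : act 7 n106483 = n106686 := d8_2 F398887 (iv3 D195966) F351269
theorem F398894 : act 2 n106686 = n106484 := d4_1 F398893 F398880 (iv2 D195965)
theorem F398895 : act 7 n131849 = n195967 := d11_2 F398893 (iv4 F343659) (iv4 D195967)
theorem E103640 : n195965 = n106685 := (c15_4 (iv0 D106685) D106686 (iv7 F398893) D195965)
theorem F398896 : act 2 n106685 = n106483 := (sb E103640 (iv2 D195965))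
theorem F398897 : act 7 n106685 = n106484 := (sb E103640 (iv7 F398880))
theorem F398898 : act 2 n195967 = n131848 := d1_3 (iv4 F343654) F398896 D195967
theorem F398899 : act 1 n131851 = n195967 := d15_0 F398882 F163813 (iv2 F349636)
def n195968 : Q := act 5 n106483
theorem D195968 : act 5 n106483 = n195968 := rfl
theorem F398900 : act 0 n195968 = n188633 := d17_2 D106483 D195968 F374263 (iv4 F377467) (iv5 F377468) (iv0 F377469) (iv5 F363064) (iv0 D132128) F96580
theorem F398901 : act 1 n195968 = n114911 := d17_6 (iv1 F211477) (iv5 D106585) D106582 (iv5 F398881) (iv4 D195967) D195968 (iv5 F189733) F377474 F377472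
def n195969 : Q := act 6 n106483
theorem D195969 : act 6 n106483 = n195969 := rfl
theorem F398902 : act 5 n195969 = n151239 := d21_6 (iv5 D29616) F23489 D24012 D49202 D106483 D195969 (iv1 D151239) F107776 (iv6 D49301) (iv1 F47564)
theorem F398903 : act 0 n151682 = n195969 := d21_4 F97674 (iv1 F294539) (iv5 F369388) (iv6 F369392) (iv6 D195969) D195968 F398900 F374263 (iv6 D94350) (iv1 F177448)
def n195970 : Q := act 3 n106484
theorem D195970 : act 3 n106484 = n195970 := rfl
def n195971 : Q := act 4 n106484
theorem D195971 : act 4 n106484 = n195971 := rfl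
theorem F398904 : act 2 n195971 = n131849 := d1_1 D195971 F343659 F398894
theorem F398905 : act 7 n195971 = n131848 := d11_2 F398897 D195971 (iv4 F343654)
theorem F398906 : act 5 n195971 = n106583 := d16_5 F93655 D105486 D195270 (iv5 F396527) D195971 (iv4 F208646) (iv5 F216441) F216442 (iv2 D126549)
theorem F398907 : act 1 n195971 = n131851 := d18_6 (iv1 D188041) (iv4 F372188) F372190 D195270 (iv5 F396527) D195971 F211255 F164539 (iv5 F372192)
theorem F398908 : act 0 n195971 = n106557 := d20_1 D195971 F333534 (iv3 F333549) F164534 D133404 F214503 D133415 (iv4 F356094) F356096 (iv1 F164394)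
theorem F398909 : act 0 n114599 = n195970 := d20_4 (iv4 D62618) F50921 D52897 D114599 (iv3 D195970) D195971 F398908 F333534 (iv3 F333549) F164534
theorem F398910 : act 3 n195971 = n132936 := d20_9 F382293 D191119 F382298 F164543 (iv1 F164261) F393889 (iv4 F382353) (iv1 F164394) D195971 F382296
theorem F398911 : act 4 n115042 = n132198 := d18_1 (iv1 F250843) (iv1 F364673) F179185 F83802 (iv4 F333534) (iv0 F398908) (iv4 D195971) F164394 (iv5 F250840)
theorem F398912 : act 7 n159340 = n115042 := d11_0 F398911 F211791 (iv4 F377475)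
theorem F398913 : act 2 n115042 = n159341 := d15_3 F250838 F250842 F398912
theorem F398914 : act 2 n159340 = n115041 := d15_3 (iv0 D115041) D115042 (iv7 F398912)
theorem F398915 : act 7 n115041 = n159341 := d4_2 (iv7 F398912) F398914 (iv2 F398913)
def n195972 : Q := act 6 n106484
theorem D195972 : act 6 n106484 = n195972 := rfl
theorem F398916 : act 0 n195972 = n133659 := d21_10 (iv5 D133659) (iv1 F170578) (iv5 F377331) (iv6 D189672) F177449 D94350 (iv5 F374263) F396529 (iv5 F396527) D195972
theorem F398917 : act 0 n107572 = n195972 := d21_4 (iv5 D114857) F161885 F161881 D107572 (iv6 D195972) F396527 (iv1 F396530) (iv5 F189733) (iv6 D120119) (iv1 F178920)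
def n195973 : Q := act 1 n106487
theorem D195973 : act 1 n106487 = n195973 := rfl
theorem F398918 : act 1 n195973 = n189646 := d15_1 D195973 (iv7 D189646) (iv2 F163736)
theorem F398919 : act 7 n195973 = n189644 := d15_2 (iv0 F392326) D195973 (iv2 F392324)
theorem F398920 : act 4 n195973 = n190757 := d18_7 (iv1 F294340) (iv4 D93203) (iv1 D43605) D43607 D93210 (iv4 F360836) D195973 (iv0 F380940) (iv5 D190261)
theorem F398921 : act 2 n189645 = n195973 := d1_3 F398920 (iv2 F380939) F377246
def n195974 : Q := act 3 n106488
theorem D195974 : act 3 n106488 = n195974 := rfl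
theorem F398922 : act 5 n195974 = n133228 := d6_2 (iv5 F179056) D195974 (iv3 F391866)
theorem F398923 : act 0 n113851 = n195974 := d17_2 F327979 D113851 F398922 F214067 F163803 (iv0 F179349) (iv5 F97075) (iv0 F179348) F93584
theorem F398924 : act 1 n135270 = n195974 := d17_6 (iv1 F48338) (iv5 F80030) (iv1 F80032) (iv5 F83962) D63582 D135270 F398922 (iv0 D133228) (iv4 D62518)
def n195975 : Q := act 6 n106488
theorem D195975 : act 6 n106488 = n195975 := rfl
theorem F398925 : act 2 n195975 = n189707 := d3_1 D195975 F377479 (iv2 F362872)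
theorem F398926 : act 4 n195975 = n131983 := d10_1 D195975 (iv6 F333546) F362871
theorem F398927 : act 5 n195975 = n115042 := d21_6 (iv5 D11394) F18347 D24014 D49208 D106488 D195975 (iv1 D115042) F83783 (iv6 D49202) F37543
theorem F398928 : act 0 n164206 = n195975 := d21_4 F37994 D35907 D78882 D164206 (iv6 D195975) F179056 (iv1 D114964) (iv5 F165962) (iv6 D107575) (iv1 D49697)
theorem F398929 : act 1 n189703 = n195975 := d15_0 (iv0 F398928) F258820 (iv2 F377460)
theorem F398930 : act 7 n189706 = n195975 := d13_0 F398927 (iv7 F398912) (iv5 F377473)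
def n195976 : Q := act 3 n106489
theorem D195976 : act 3 n106489 = n195976 := rfl
theorem F398931 : act 5 n195976 = n194049 := d6_2 F177013 D195976 F391869
theorem F398932 : act 7 n195976 = n194048 := d8_2 F332831 D195976 F391867
theorem F398933 : act 0 n195976 = n107545 := d21_7 (iv5 D48694) F41550 D54108 D117411 (iv1 F363647) F391871 (iv5 F398931) (iv5 F233636) (iv6 D148799) F106126
def n195977 : Q := act 6 n106489
theorem D195977 : act 6 n106489 = n195977 := rfl
def n195978 : Q := act 4 n106493
theorem D195978 : act 4 n106493 = n195978 := rfl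
theorem F398934 : act 3 n195978 = n132131 := d5_1 D195978 F211657 (iv3 F398876) F398877 (iv3 F342971)
theorem F398935 : act 7 n195978 = n131957 := d11_2 (iv7 F248594) D195978 (iv4 F341616)
theorem F398936 : act 2 n195978 = n131956 := d15_3 (iv0 D131956) D131957 (iv7 F398935)
theorem F398937 : act 3 n131956 = n106530 := d0_2 (iv3 F398934) F398936 F393886 F393889 F382354
theorem F398938 : act 4 n131956 = n106692 := d1_2 D195978 F398936 (iv2 F248596)
theorem F398939 : act 1 n136336 = n131958 := d18_8 D131956 F398938 (iv1 F164409) (iv4 F325498) (iv5 D49367) (iv4 F48594) D64097 D136336 (iv5 D131958)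
def n195979 : Q := act 5 n106493
theorem D195979 : act 5 n106493 = n195979 := rfl
theorem F398940 : act 7 n195979 = n157731 := d13_2 (iv7 F248594) D195979 F248592
theorem F398941 : act 0 n187954 = n195979 := d19_0 (iv5 D195979) D195978 F398934 (iv1 F382363) F382359 F211528 (iv3 F213206) F218435 F218432 F214103 (iv3 D129280) (iv1 D60765) D60768 D129291 F207489 (iv1 F313745) (iv5 F316247) (iv4 F238558) (iv3 F371932)
theorem F398942 : act 1 n187958 = n195979 := d15_1 F371949 F398940 F248591
theorem F398943 : act 2 n195979 = n187957 := d15_3 (iv0 D187957) (iv0 F345185) (iv7 F398940)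
theorem F398944 : act 5 n187957 = n106692 := d2_2 D195979 F398943 (iv2 F248596)
theorem F398945 : act 7 n187957 = n114506 := d4_2 (iv7 F398940) F398943 (iv2 F248591)
def n195980 : Q := act 3 n106494
theorem D195980 : act 3 n106494 = n195980 := rfl
def n195981 : Q := act 4 n106494
theorem D195981 : act 4 n106494 = n195981 := rfl
theorem F398946 : act 2 n195981 = n131957 := d1_1 D195981 (iv4 F341616) F248593
theorem F398947 : act 6 n195981 = n132125 := d10_2 F179058 D195981 (iv4 F341606)
theorem F398948 : act 7 n195981 = n131956 := d11_2 F248595 D195981 F398938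
theorem F398949 : act 3 n106642 = n195981 := d20_5 F77792 (iv1 F37684) (iv4 F37606) (iv3 F77859) D106642 (iv4 D195981) (iv1 D106494) (iv4 F324327) (iv3 D49694) (iv1 F77795)
theorem F398950 : act 0 n195981 = n106587 := d21_4 (iv5 F341608) (iv1 F164358) (iv5 F211653) (iv6 F398947) (iv6 D106587) (iv5 D49253) (iv1 F37734) (iv5 F37992) D49695 (iv1 F177832)
theorem F398951 : act 1 n195981 = n131959 := d15_1 (iv0 F398950) (iv7 D131959) (iv2 F164150)
theorem F398952 : act 1 n195978 = n106587 := d15_0 (iv0 F398950) F398948 (iv2 F398936)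
theorem F398953 : act 1 n131959 = n195978 := d15_1 F398951 F398935 (iv2 F398946)
def n195982 : Q := act 0 n106495
theorem D195982 : act 0 n106495 = n195982 := rfl
def n195983 : Q := act 1 n106495
theorem D195983 : act 1 n106495 = n195983 := rfl
theorem F398954 : act 1 n195983 = n151240 := d15_1 D195983 (iv7 D151240) (iv2 F163742)
def n195984 : Q := act 4 n106495
theorem D195984 : act 4 n106495 = n195984 := rfl
theorem F398955 : act 2 n195984 = n151237 := d1_1 D195984 F237970 (iv2 F163742)
theorem F398956 : act 3 n195984 = n120523 := d5_1 D195984 (iv4 D120523) F315263 (iv4 F165939) F322882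
theorem F398957 : act 6 n195984 = n106497 := d10_2 (iv6 F163743) D195984 (iv4 D106497)
theorem F398958 : act 5 n195984 = n124013 := d16_1 D195984 F366023 (iv5 D136339) F99708 D106844 F362908 (iv5 F237971) (iv7 D151240) (iv2 F163742)
def n195985 : Q := act 7 n106495
theorem D195985 : act 7 n106495 = n195985 := rfl
theorem F398959 : act 2 n195985 = n151240 := d4_1 D195985 (iv7 D151240) (iv2 F163742)
theorem F398960 : act 5 n195985 = n106496 := d13_1 D195985 (iv7 D106496) D106495
theorem F398961 : act 6 n195985 = n113914 := d14_1 D195985 (iv7 D113914) F83102 (iv7 F77716) (iv6 F163743)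
theorem F398962 : act 1 n151240 = n195982 := d15_0 (iv0 D195982) D195985 F398959
theorem F398963 : act 1 n151239 = n195985 := d15_1 D151239 (iv7 D195985) F163742
theorem F398964 : act 1 n195985 = n151238 := d15_0 (iv0 D151238) D151240 (iv2 F398959)
def n195986 : Q := act 3 n106497
theorem D195986 : act 3 n106497 = n195986 := rfl
theorem F398965 : act 4 n195986 = n120524 := d5_2 D106497 D195986 (iv3 F366659) F366223 (iv3 F114179)
theorem F398966 : act 5 n195986 = n109094 := d6_2 (iv5 F163745) D195986 F360002
theorem F398967 : act 6 n195986 = n120523 := d7_2 F398957 D195986 (iv3 F398956)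
theorem F398968 : act 7 n195986 = n127343 := d8_2 (iv7 F163746) D195986 (iv3 D127343)
theorem F398969 : act 0 n195986 = n109141 := d19_4 F37549 D49212 D106497 D195986 F351119 F351121 (iv3 F281424) (iv1 F353013) F241639 F205289 (iv3 D59998) F46010 F42779 (iv4 D26681) (iv3 F42506) F319501 F317219 (iv4 F49965) (iv3 D31686)
theorem F398970 : act 0 n192744 = n195986 := d20_4 (iv4 D90311) (iv1 F292369) (iv4 F154650) (iv3 F387627) (iv3 D195986) (iv4 D106497) F77717 D52787 (iv3 F329912) F139683
def n195987 : Q := act 5 n106498
theorem D195987 : act 5 n106498 = n195987 := rfl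
theorem F398971 : act 2 n195987 = n157403 := d2_1 D195987 F247887 (iv2 F210007)
theorem F398972 : act 3 n195987 = n188029 := d6_1 D195987 F372182 F211478
theorem F398973 : act 6 n195987 = n187561 := d12_2 F370285 D195987 (iv5 D187561) (iv6 F144906) (iv5 F370282)
theorem F398974 : act 7 n195987 = n157393 := d13_2 (iv7 F163749) D195987 (iv5 D157393)
theorem F398975 : act 4 n195987 = n130862 := d16_2 D106498 D195987 (iv5 D130862) (iv4 D61398) (iv5 D29065) D29064 D61396 (iv7 F97798) F97797
theorem F398976 : act 0 n195987 = n130618 := d17_2 F178679 D195987 (iv5 D130618) (iv4 D61290) (iv5 D29017) D29015 D61289 (iv0 F95776) D114594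
theorem F398977 : act 1 n195987 = n130871 := d17_6 (iv1 F86724) (iv5 D52637) (iv1 F50517) D49213 D106498 D195987 F209468 F192343 F187377
def n195988 : Q := act 7 n106499
theorem D195988 : act 7 n106499 = n195988 := rfl
theorem F398978 : act 2 n195988 = n195019 := d4_1 D195988 F395440 F214878
theorem F398979 : act 3 n195988 = n106504 := d8_1 D195988 (iv7 D106504) (iv3 F163751)
theorem F398980 : act 4 n195988 = n186157 := d11_1 D195988 (iv7 F370281) (iv4 F370284)
theorem F398981 : act 5 n195988 = n127385 := d13_1 D195988 (iv7 D127385) (iv5 F163752)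
theorem F398982 : act 6 n195988 = n157398 := d14_1 D195988 (iv7 D157398) (iv6 D74852) (iv7 F77720) D106499
theorem F398983 : act 1 n134496 = n195988 := d15_1 (iv0 F345016) (iv7 D195988) (iv2 F214878)
theorem F398984 : act 3 n157362 = n188565 := d20_5 F343626 (iv1 F328932) F164239 (iv3 F112314) D157362 (iv4 D188565) (iv1 F345007) (iv4 F398980) F398979 (iv1 F164432)
theorem F398985 : act 5 n146447 = n157362 := d6_0 F398984 (iv5 F373992) (iv3 F364741)
theorem F398986 : act 6 n194187 = n157362 := d7_0 F398984 F373990 F392299
def n195989 : Q := act 3 n106502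
theorem D195989 : act 3 n106502 = n195989 := rfl
def n195990 : Q := act 6 n106502
theorem D195990 : act 6 n106502 = n195990 := rfl
theorem F398987 : act 4 n195990 = n113401 := d10_1 D195990 F176593 (iv4 F349633)
theorem F398988 : act 5 n195990 = n159376 := d21_6 (iv5 D11273) D11270 D24019 D49216 D106502 D195990 (iv1 D159376) F114239 (iv6 D49228) (iv1 D24025)
theorem F398989 : act 0 n157392 = n195990 := d21_4 (iv5 F40384) D52632 D114043 (iv6 F364638) (iv6 D195990) (iv5 F398481) (iv1 D195857) (iv5 F163790) (iv6 D106543) (iv1 D49232)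
theorem F398990 : act 1 n188042 = n195990 := d15_0 (iv0 F398989) F247869 (iv2 F372194)
def n195991 : Q := act 3 n106503
theorem D195991 : act 3 n106503 = n195991 := rfl
theorem F398991 : act 7 n195991 = n130599 := d8_2 (iv7 F349629) D195991 F377276
theorem F398992 : act 2 n195991 = n130600 := d15_3 F214465 F214466 (iv7 F398991)
def n195992 : Q := act 6 n106503
theorem D195992 : act 6 n106503 = n195992 := rfl
def n195993 : Q := act 4 n106505
theorem D195993 : act 4 n106505 = n195993 := rfl
theorem F398993 : act 2 n195993 = n189304 := d1_1 D195993 F376382 F164412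
theorem F398994 : act 6 n195993 = n189396 := d10_2 (iv6 F376295) D195993 F376894
theorem F398995 : act 7 n195993 = n189303 := d11_2 (iv7 F163760) D195993 F376377
theorem F398996 : act 0 n195993 = n133410 := d18_2 F163762 D195993 (iv4 D133410) F97664 F47671 F65045 (iv4 F65295) (iv0 F65296) D54792
theorem F398997 : act 1 n195993 = n151426 := d18_6 (iv1 F97645) F95759 F87479 F82866 D106505 D195993 (iv4 D151426) (iv0 F214489) (iv5 D133400)
def n195994 : Q := act 6 n106506
theorem D195994 : act 6 n106506 = n195994 := rfl
theorem F398998 : act 2 n195994 = n106509 := d3_1 D195994 (iv6 D106509) (iv2 F163763)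
theorem F398999 : act 3 n195994 = n130860 := d7_1 D195994 (iv6 D130860) (iv3 F163764)
theorem F399000 : act 4 n195994 = n189330 := d10_1 D195994 (iv6 D189330) F164427
theorem F399001 : act 5 n195994 = n187813 := d12_1 D195994 (iv6 D187813) (iv5 D90591) F82987 D106506
def n195995 : Q := act 6 n106507
theorem D195995 : act 6 n106507 = n195995 := rfl
theorem F399002 : act 2 n195995 = n189503 := d3_1 D195995 F376729 (iv2 F164424)
theorem F399003 : act 5 n195995 = n113018 := d12_1 D195995 (iv6 D113018) (iv5 D52166) F78491 (iv5 F163767)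
theorem F399004 : act 7 n195995 = n186250 := d14_2 (iv7 F163766) D195995 F289010 F290738 (iv6 F139175)
theorem F399005 : act 0 n189501 = n195995 := d21_4 (iv5 D175933) F342078 D147236 (iv6 F376725) (iv6 D195995) F163767 (iv1 D49682) (iv5 F77989) D106740 F366230
theorem F399006 : act 1 n189502 = n195995 := d15_1 D189502 F399004 (iv2 F367237)
theorem F399007 : act 4 n189478 = n189502 := d18_7 (iv1 F372513) F373652 (iv1 D188486) (iv4 F141961) F293603 (iv4 F144788) D189478 F399006 F399003
theorem F399008 : act 3 n189502 = n195000 := d20_3 (iv4 F376432) (iv1 F376654) F399007 (iv1 F395351) F376731 F361221 (iv1 F376681) (iv4 D133662) D133661 F376676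
def n195996 : Q := act 6 n106508
theorem D195996 : act 6 n106508 = n195996 := rfl
theorem F399009 : act 2 n195996 = n189330 := d3_1 D195996 (iv6 D189330) (iv2 F164428)
theorem F399010 : act 4 n195996 = n106509 := d10_1 D195996 (iv6 D106509) D106508
def n195997 : Q := act 1 n106509
theorem D195997 : act 1 n106509 = n195997 := rfl
def n195998 : Q := act 5 n106509
theorem D195998 : act 5 n106509 = n195998 := rfl
theorem F399011 : act 2 n195998 = n187813 := d2_1 D195998 (iv5 F399001) F398998
theorem F399012 : act 3 n195998 = n106513 := d6_1 D195998 (iv5 D106513) (iv3 F163771)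
theorem F399013 : act 6 n195998 = n106510 := d12_2 D106509 D195998 (iv5 D106510) (iv6 D49220) D49219
theorem F399014 : act 0 n195998 = n189006 := d21_10 F376272 (iv1 D189269) (iv5 F374510) (iv6 D188709) (iv1 D92684) (iv6 F83346) (iv5 F83344) F82823 D106510 (iv6 F399013)
def n195999 : Q := act 7 n106509
theorem D195999 : act 7 n106509 = n195999 := rfl
theorem F399015 : act 3 n195999 = n106514 := d8_1 D195999 (iv7 D106514) (iv3 F163771)
def n196000 : Q := act 4 n106510
theorem D196000 : act 4 n106510 = n196000 := rfl
theorem F399016 : act 2 n196000 = n187812 := d1_1 D196000 (iv4 D187812) (iv2 F163772)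
theorem F399017 : act 7 n196000 = n187824 := d11_2 (iv7 F163774) D196000 (iv4 D187824)
theorem F399018 : act 5 n196000 = n154685 := d17_5 (iv1 F178087) (iv5 F83344) F82823 D106510 D196000 (iv0 D154685) F110057 D92826 (iv4 F178085)
theorem F399019 : act 0 n196000 = n188808 := d18_2 F177967 D196000 (iv4 D188808) F143175 F83464 F83462 F40546 (iv0 F83289) D114188
theorem F399020 : act 1 n196000 = n188810 := d18_6 (iv1 D20534) (iv4 F31753) D42206 F82969 D106510 D196000 (iv4 D188810) F143178 (iv5 D43433)
theorem F399021 : act 2 n154685 = n153625 := d2_1 F399018 (iv5 F371590) (iv2 F399016)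
theorem F399022 : act 7 n154685 = n153624 := d13_2 (iv7 F399017) F399018 (iv5 F371618)
theorem F399023 : act 2 n153624 = n154686 := d15_3 F242846 F242842 F399022
theorem F399024 : act 7 n153625 = n154686 := d4_2 (iv7 F399022) F399021 (iv2 F399023)
def n196001 : Q := act 5 n106511
theorem D196001 : act 5 n106511 = n196001 := rfl
theorem F399025 : act 7 n196001 = n114324 := d13_2 (iv7 F205548) D196001 F178299
theorem F399026 : act 1 n196001 = n189516 := d17_6 F373565 F211428 D133389 (iv5 F343683) (iv4 F364645) D196001 (iv5 D189516) D189515 F395356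
def n196002 : Q := act 3 n106512
theorem D196002 : act 3 n106512 = n196002 := rfl
def n196003 : Q := act 0 n106513
theorem D196003 : act 0 n106513 = n196003 := rfl
theorem F399027 : act 6 n196003 = n188983 := d21_5 F40516 (iv1 F40252) D49222 (iv6 F163775) D196003 F375325 (iv1 D112958) (iv5 F94516) (iv6 D60025) (iv1 F46041)
theorem F399028 : act 3 n195870 = n196003 := d7_3 F399027 (iv3 F375326) (iv6 F398545)
def n196004 : Q := act 1 n106513
theorem D196004 : act 1 n106513 = n196004 := rfl
def n196005 : Q := act 7 n106513
theorem D196005 : act 7 n106513 = n196005 := rfl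
theorem F399029 : act 5 n196005 = n106514 := d13_1 D196005 (iv7 D106514) D106513
theorem F399030 : act 6 n196005 = n195125 := d14_1 D196005 (iv7 D195125) F161463 (iv7 F77739) (iv6 F163775)
def n196006 : Q := act 0 n106516
theorem D196006 : act 0 n106516 = n196006 := rfl
theorem F399031 : act 4 n196006 = n113006 := d18_1 D196006 (iv1 F176003) (iv4 F214539) F340439 (iv4 F259095) F177956 (iv4 F259230) (iv0 F261860) F335162
theorem F399032 : act 1 n191101 = n196006 := d15_0 (iv0 D196006) F340435 (iv2 F382224)
theorem F399033 : act 2 n133425 = n196006 := d1_3 F399031 F396351 D133425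
theorem F399034 : act 7 n133430 = n196006 := d11_0 F399031 F396352 D133430
def n196007 : Q := act 1 n106516
theorem D196007 : act 1 n106516 = n196007 := rfl
theorem F399035 : act 1 n196007 = n191101 := d15_1 D196007 F382225 F167274
theorem F399036 : act 7 n196007 = n133425 := d15_2 (iv0 D196006) D196007 F399033
theorem F399037 : act 4 n196007 = n113007 := d18_7 (iv1 F177962) D164496 F259263 F147996 F83149 (iv4 F163778) D196007 F175999 (iv5 F177959)
theorem F399038 : act 3 n112922 = n196007 := d20_3 (iv4 D120122) F87482 D112922 (iv1 D196007) (iv3 F340421) (iv4 F340419) F348991 (iv4 F381597) F381596 (iv1 F189735)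
theorem F399039 : act 6 n196007 = n191179 := d7_2 (iv6 F344962) F399038 F382490
theorem F399040 : act 2 n133430 = n196007 := d1_3 F399037 F396346 D133430
theorem F399041 : act 2 n191179 = n194215 := d3_3 F396242 F399040 F399039
def n196008 : Q := act 3 n106517
theorem D196008 : act 3 n106517 = n196008 := rfl
theorem F399042 : act 5 n196008 = n144915 := d6_2 F290526 D196008 F331579
theorem F399043 : act 2 n147241 = n196008 := d2_3 F399042 F227885 D147241
theorem F399044 : act 0 n112929 = n196008 := d17_2 (iv1 D119068) (iv5 F175874) F399042 F227886 D147231 F378351 F378349 F382270 F382265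
def n196009 : Q := act 3 n106518
theorem D196009 : act 3 n106518 = n196009 := rfl
def n196010 : Q := act 6 n106518
theorem D196010 : act 6 n106518 = n196010 := rfl
theorem F399045 : act 0 n112952 = n196010 := d21_4 (iv5 D106386) D106385 F163447 D112952 (iv6 D196010) (iv5 F398531) (iv1 D164409) D164410 F290530 F163453
theorem F399046 : act 3 n196010 = n176944 := d20_5 F147648 D96023 D190425 (iv3 F379750) F399045 (iv4 D176944) (iv1 D84338) (iv4 F129398) (iv3 F276287) F363536
theorem F399047 : act 4 n196010 = n191358 := d20_0 (iv1 D191358) D191359 F383188 (iv1 F379737) F379734 F147648 D96023 D190425 (iv3 F379750) F399045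
theorem F399048 : act 6 n191358 = n133420 := d10_2 D196010 F399047 (iv4 F288203)
theorem F399049 : act 1 n186190 = n196010 := d17_8 (iv1 D191358) (iv5 D98135) D98132 D191354 F383175 (iv5 F328783) (iv0 F331438) F331441 F399047
theorem F399050 : act 6 n176944 = n196009 := d7_2 D196010 F399046 (iv3 D196009)
theorem F399051 : act 4 n196009 = n176946 := d10_1 F399050 (iv6 D176946) D176944
def n196011 : Q := act 5 n106520
theorem D196011 : act 5 n106520 = n196011 := rfl
theorem F399052 : act 2 n196011 = n119105 := d2_1 D196011 (iv5 D119105) (iv2 F163780)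
theorem F399053 : act 3 n196011 = n115079 := d6_1 D196011 F179186 F333531
theorem F399054 : act 4 n196011 = n119185 := d9_1 D196011 F187535 F86786 F42476 (iv4 F42436) (iv5 F86722) (iv4 F187377) (iv5 F394182) (iv4 D194709) (iv5 D104167) F305754 (iv5 D24284) (iv4 F38058) (iv5 F77746) D106520
theorem F399055 : act 6 n196011 = n119212 := d12_2 F333548 D196011 F187581 F317129 (iv5 F227891)
theorem F399056 : act 7 n196011 = n115074 := d13_2 F164533 D196011 F333555
theorem F399057 : act 0 n196011 = n123929 := d17_2 F192342 D196011 F314907 (iv4 D61514) (iv5 D29123) (iv0 F54059) D52874 (iv0 F87975) D120663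
theorem F399058 : act 1 n196011 = n131160 := d17_6 F97799 (iv5 D61673) F46899 (iv5 F77746) D106520 D196011 (iv5 F215037) F215039 F210006
def n196012 : Q := act 6 n106525
theorem D196012 : act 6 n106525 = n196012 := rfl
theorem F399059 : act 4 n196012 = n106526 := d10_1 D196012 (iv6 D106526) D106525
theorem F399060 : act 0 n196012 = n189536 := d21_4 D93887 D189335 F376424 D196012 (iv6 F376925) F376924 (iv1 F379477) F395359 (iv6 D189330) (iv1 D93885)
def n196013 : Q := act 1 n106526
theorem D196013 : act 1 n106526 = n196013 := rfl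
theorem F399061 : act 1 n196013 = n119104 := d15_1 D196013 (iv7 F377208) F377206
theorem F399062 : act 7 n196013 = n188066 := d15_2 (iv0 F376830) D196013 (iv2 F376842)
theorem F399063 : act 5 n196013 = n187564 := d18_9 (iv1 F370826) (iv4 F372230) (iv1 F377006) (iv4 F376937) (iv5 F376388) (iv4 F376934) (iv0 F399060) F399059 D196013
theorem F399064 : act 2 n188062 = n196013 := d2_3 F399063 F376846 D188062
theorem F399065 : act 1 n119104 = n189542 := d15_1 F399061 (iv7 F376845) F399064
def n196014 : Q := act 7 n106526
theorem D196014 : act 7 n106526 = n196014 := rfl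
theorem F399066 : act 2 n196014 = n119104 := d4_1 D196014 (iv7 F377208) F377206
theorem F399067 : act 3 n196014 = n106529 := d8_1 D196014 (iv7 D106529) (iv3 F163786)
theorem F399068 : act 1 n188062 = n196014 := d15_1 F377210 (iv7 D196014) (iv2 F377206)
theorem F399069 : act 1 n196014 = n188066 := d15_1 F399068 (iv7 F399062) (iv2 F399064)
def n196015 : Q := act 5 n106527
theorem D196015 : act 5 n106527 = n196015 := rfl
theorem F399070 : act 2 n196015 = n188041 := d2_1 D196015 F372192 F356958
theorem F399071 : act 7 n196015 = n188040 := d13_2 (iv7 F356953) D196015 F372189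
theorem F399072 : act 0 n196015 = n188029 := d17_2 D106527 D196015 F372182 (iv4 D131984) (iv5 D61934) D61932 (iv5 F349623) (iv0 D131848) F96439
theorem F399073 : act 6 n189514 = n106527 := d21_5 (iv5 D92425) F178338 D43940 D94014 D189514 D196015 F399072 F372182 F372181 F372178
theorem F399074 : act 0 n159478 = n196015 := d21_10 (iv5 D196015) (iv1 F164541) (iv5 F179186) (iv6 F206693) (iv1 F206695) F251112 (iv5 F251400) (iv1 D159601) F114468 D159478
theorem F399075 : act 3 n189739 = n189514 := d7_3 F399073 (iv3 F364987) F377584
theorem F399076 : act 4 n106836 = n189514 := d10_3 F399073 (iv4 F341618) F365929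
def n196016 : Q := act 4 n106531
theorem D196016 : act 4 n106531 = n196016 := rfl
theorem F399077 : act 2 n196016 = n194633 := d1_1 D196016 F393884 F393887
theorem F399078 : act 3 n196016 = n130623 := d5_1 D196016 F349635 F164388 (iv4 F164270) F343660
theorem F399079 : act 7 n196016 = n194634 := d11_2 (iv7 F393888) D196016 F393893
theorem F399080 : act 5 n196016 = n194474 := d17_5 (iv1 F358255) F349603 (iv1 F349615) (iv5 F349617) D196016 (iv0 D194474) F294901 D187381 (iv4 F370082)
def n196017 : Q := act 1 n106533
theorem D196017 : act 1 n106533 = n196017 := rfl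
theorem F399081 : act 1 n196017 = n190772 := d15_1 D196017 F380992 F340420
theorem F399082 : act 7 n196017 = n191095 := d15_2 (iv0 F348991) D196017 (iv2 F382202)
theorem F399083 : act 2 n131817 = n196017 := d4_3 F399082 (iv2 F382202) F211425
theorem F399084 : act 5 n131816 = n196017 := d13_3 F399082 (iv5 F398775) F398776
theorem F399085 : act 6 n191186 = n196017 := d14_5 F399082 F382201 F341800 F341810 (iv7 F382519)
def n196018 : Q := act 5 n106534
theorem D196018 : act 5 n106534 = n196018 := rfl
theorem F399086 : act 2 n196018 = n113460 := d2_1 D196018 F358221 F177801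
theorem F399087 : act 3 n196018 = n129312 := d6_1 D196018 (iv5 F213573) (iv3 F361705)
theorem F399088 : act 6 n196018 = n113451 := d12_2 (iv6 F373523) D196018 (iv5 D113451) D113452 F373522
theorem F399089 : act 4 n196018 = n129315 := d16_2 (iv4 F177618) D196018 (iv5 F207510) (iv4 F333207) (iv5 F177624) F83752 F78524 F161769 F161770
theorem E103641 : n129088 = n113540 := ((c21_4 (iv5 D113657) (iv1 D52475) (iv5 F82759) D113540 (iv1 F207320) F164283 (iv5 D106536) D106534 D196018 F399088 (iv1 F357984))).symm
theorem F399090 : act 0 n113540 = n106654 := (sb E103641 (iv1 F207320))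
theorem F399091 : act 1 n113540 = n60683 := (sb E103641 (iv0 D129088))
theorem F399092 : act 7 n129089 = n132158 := d15_2 F399091 D129089 F358250
theorem F399093 : act 2 n132157 = n129089 := d4_3 F399092 F358250 (iv7 F358251)
def n196019 : Q := act 5 n106535
theorem D196019 : act 5 n106535 = n196019 := rfl
theorem F399094 : act 3 n196019 = n106554 := d6_1 D196019 (iv5 F211470) F347534
theorem F399095 : act 4 n196019 = n132380 := d9_1 D196019 (iv5 D132380) F96807 (iv5 F333212) (iv4 F177609) F161881 (iv4 F177618) D196018 F399089 (iv5 F207510) (iv4 F333207) (iv5 F177624) F83752 F78524 (iv4 F177621)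
theorem F399096 : act 6 n196019 = n195055 := d12_2 (iv6 F347536) D196019 (iv5 F395594) (iv6 D113405) D113404
theorem F399097 : act 7 n196019 = n113460 := d13_2 F177803 D196019 F358221
def n196020 : Q := act 4 n106536
theorem D196020 : act 4 n106536 = n196020 := rfl
def n196021 : Q := act 4 n106538
theorem D196021 : act 4 n106538 = n196021 := rfl
theorem F399098 : act 6 n196021 = n135763 := d10_2 F379826 D196021 F379827
theorem F399099 : act 0 n196021 = n189750 := d18_2 (iv1 F334822) D196021 (iv4 F377615) F214510 F327798 (iv0 D83014) (iv4 F327299) (iv0 D71910) D71912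
def n196022 : Q := act 3 n106539
theorem D196022 : act 3 n106539 = n196022 := rfl
theorem F399100 : act 5 n196022 = n195701 := d6_2 F341613 D196022 F397891
theorem F399101 : act 6 n196022 = n106851 := d7_2 F379830 D196022 (iv3 F379829)
def n196023 : Q := act 2 n106541
theorem D196023 : act 2 n106541 = n196023 := rfl
theorem F399102 : act 3 n196023 = n152450 := d0_2 D106541 D196023 (iv2 F334820) (iv3 D106760) F163477
theorem F399103 : act 5 n196023 = n195847 := d2_2 (iv5 F163789) D196023 F398440
theorem F399104 : act 0 n196023 = n114262 := d21_7 (iv5 D12173) D12170 (iv5 F52200) D52679 (iv1 F340900) D195847 (iv5 F399103) (iv5 D114262) (iv6 D52737) (iv1 D25602)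
def n196024 : Q := act 4 n106541
theorem D196024 : act 4 n106541 = n196024 := rfl
def n196025 : Q := act 3 n106542
theorem D196025 : act 3 n106542 = n196025 := rfl
theorem F399105 : act 5 n196025 = n191555 := d6_2 (iv5 F341595) D196025 F383792
theorem F399106 : act 6 n196025 = n191259 := d7_2 F332815 D196025 (iv3 F382781)
def n196026 : Q := act 5 n106546
theorem D196026 : act 5 n106546 = n196026 := rfl
theorem F399107 : act 2 n196026 = n135762 := d2_1 D196026 F365950 (iv2 F365948)
def n196027 : Q := act 0 n106547
theorem D196027 : act 0 n106547 = n196027 := rfl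
theorem F399108 : act 5 n196027 = n126820 := d17_1 D196027 F386190 (iv5 D129676) (iv4 F179264) (iv5 F344371) F145644 F183968 F326335 (iv4 F163794)
theorem F399109 : act 4 n196027 = n113815 := d18_1 D196027 (iv1 D113815) F327590 (iv5 F110991) (iv4 F226794) F226792 F203866 F203865 (iv5 F163795)
theorem F399110 : act 3 n196027 = n123444 := d20_5 (iv4 F329435) F329432 (iv4 D134169) (iv3 F163793) D196027 (iv4 D123444) F304380 F328255 (iv3 F98698) (iv1 F98701)
theorem F399111 : act 2 n131805 = n196027 := d15_3 (iv0 D196027) F211948 (iv7 F211194)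
theorem F399112 : act 1 n117457 = n196027 := d15_0 (iv0 D196027) (iv7 F327158) (iv2 F183965)
theorem F399113 : act 7 n196027 = n131863 := d15_2 (iv0 F326744) F399112 (iv2 F211696)
def n196028 : Q := act 5 n106549
theorem D196028 : act 5 n106549 = n196028 := rfl
theorem F399114 : act 3 n196028 = n106689 := d6_1 D196028 (iv5 F395895) F395893
theorem F399115 : act 6 n196028 = n135643 := d12_2 D106549 D196028 (iv5 D135643) (iv6 D63778) (iv5 F77759)
theorem F399116 : act 7 n196028 = n195974 := d13_2 F214069 D196028 F398922
theorem F399117 : act 0 n196028 = n110748 := d17_2 F164045 D196028 (iv5 F177100) F327972 F83894 (iv0 D50669) F38671 D30076 D63730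
theorem F399118 : act 4 n190645 = n196028 := d10_3 F399115 F365384 D190645
def n196029 : Q := act 6 n106551
theorem D196029 : act 6 n106551 = n196029 := rfl
theorem F399119 : act 3 n196029 = n112611 := d7_1 D196029 (iv6 D112611) F170690
theorem F399120 : act 4 n196029 = n133223 := d10_1 D196029 (iv6 D133223) (iv4 F170691)
theorem F399121 : act 0 n196029 = n113872 := d21_10 (iv5 D113872) (iv1 F328640) F171544 (iv6 D110798) (iv1 F80568) D59330 F93585 (iv1 F170669) F170671 D196029
def n196030 : Q := act 0 n106553
theorem D196030 : act 0 n106553 = n196030 := rfl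
theorem F399122 : act 5 n196030 = n106642 := d17_3 (iv1 D191205) F295474 D196030 (iv4 F393884) (iv5 D194633) (iv0 D103880) F294255 D181906 F382570
theorem F399123 : act 1 n131798 = n196030 := d15_0 (iv0 D196030) F163805 D131798
theorem F399124 : act 2 n131797 = n196030 := d2_3 F399122 F393887 F349617
theorem F399125 : act 7 n131796 = n196030 := d13_0 F399122 F393885 F349606
def n196031 : Q := act 1 n106553
theorem D196031 : act 1 n106553 = n196031 := rfl
theorem F399126 : act 1 n196031 = n131798 := d15_1 D196031 F349604 F349601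
theorem F399127 : act 7 n196031 = n131797 := d15_2 (iv0 D196030) D196031 F399124
theorem F399128 : act 5 n196031 = n106643 := d17_7 D191097 F382210 (iv1 D110999) F295476 (iv4 F150119) F295474 D196031 F164261 (iv4 F340426)
theorem F399129 : act 3 n113400 = n196031 := d19_19 (iv1 D196031) (iv5 F295474) F150119 F295325 (iv1 F95709) (iv5 D61244) (iv4 D28994) F24120 (iv1 F24118) (iv5 D11842) (iv4 F19510) F22406 (iv1 D13459) D13460 D28198 D59372 D126547 F364674 F343643
theorem F399130 : act 2 n131796 = n196031 := d2_3 F399128 (iv2 F393886) F349606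
def n196032 : Q := act 3 n106567
theorem D196032 : act 3 n106567 = n196032 := rfl
theorem F399131 : act 7 n196032 = n131859 := d8_2 (iv7 F163832) D196032 (iv3 D131859)
def n196033 : Q := act 6 n106567
theorem D196033 : act 6 n106567 = n196033 := rfl
theorem F399132 : act 2 n196033 = n131861 := d3_1 D196033 (iv6 D131861) (iv2 F163831)
theorem F399133 : act 4 n196033 = n106568 := d10_1 D196033 (iv6 D106568) D106567
def n196034 : Q := act 3 n106570
theorem D196034 : act 3 n106570 = n196034 := rfl
theorem F399134 : act 5 n196034 = n191213 := d6_2 (iv5 F362887) D196034 F382602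
theorem F399135 : act 6 n196034 = n193359 := d7_2 (iv6 F352530) D196034 (iv3 D193359)
theorem F399136 : act 7 n196034 = n126419 := d8_2 (iv7 F352499) D196034 F352532
def n196035 : Q := act 5 n106571
theorem D196035 : act 5 n106571 = n196035 := rfl
theorem F399137 : act 2 n196035 = n106572 := d2_1 D196035 (iv5 D106572) D106571
theorem F399138 : act 3 n196035 = n131851 := d6_1 D196035 F349637 (iv3 F163837)
theorem F399139 : act 7 n196035 = n131838 := d13_2 (iv7 F163838) D196035 (iv5 D131838)
theorem F399140 : act 0 n196035 = n131841 := d17_2 (iv1 F163839) D196035 F354693 D131939 F354705 F367301 F367298 (iv0 F352507) (iv4 D131830)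
theorem F399141 : act 1 n196035 = n131840 := d17_6 D131919 F354715 (iv1 F354716) (iv5 F245954) F245953 D196035 F367308 (iv0 D61907) (iv4 F96498)
def n196036 : Q := act 0 n106572
theorem D196036 : act 0 n106572 = n196036 := rfl
theorem F399142 : act 5 n196036 = n106597 := d17_3 (iv1 D106570) D106572 D196036 F216519 F367294 F367293 (iv5 F368731) (iv0 F368733) F336391
theorem F399143 : act 1 n131838 = n196036 := d15_0 (iv0 D196036) F163843 (iv2 F211248)
theorem F399144 : act 2 n131841 = n196036 := d2_3 F399142 F355035 (iv5 F354693)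
theorem F399145 : act 7 n131840 = n196036 := d13_0 F399142 F355036 (iv5 F367308)
def n196037 : Q := act 1 n106572
theorem D196037 : act 1 n106572 = n196037 := rfl
theorem F399146 : act 1 n196037 = n131838 := d15_1 D196037 (iv7 F399139) F399137
theorem F399147 : act 7 n196037 = n131841 := d15_2 (iv0 D196036) D196037 F399144
theorem F399148 : act 5 n196037 = n106598 := d17_7 (iv1 F211384) D134337 F354731 (iv5 F111642) F111641 D106572 D196037 F164179 (iv4 F211380)
theorem F399149 : act 2 n131840 = n196037 := d2_3 F399148 F355056 (iv5 F367308)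
def n196038 : Q := act 4 n106572
theorem D196038 : act 4 n106572 = n196038 := rfl
theorem F399150 : act 3 n196038 = n106739 := d5_1 D196038 (iv4 D106739) (iv3 D49325) (iv4 F77792) (iv3 F163842)
theorem F399151 : act 7 n196038 = n131842 := d11_2 (iv7 F163843) D196038 (iv4 D131842)
def n196039 : Q := act 6 n106572
theorem D196039 : act 6 n106572 = n196039 := rfl
theorem F399152 : act 3 n196039 = n106574 := d7_1 D196039 (iv6 D106574) (iv3 F163842)
def n196040 : Q := act 5 n106573
theorem D196040 : act 5 n106573 = n196040 := rfl
theorem F399153 : act 3 n196040 = n106575 := d6_1 D196040 (iv5 D106575) (iv3 F163844)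
def n196041 : Q := act 5 n106574
theorem D196041 : act 5 n106574 = n196041 := rfl
theorem F399154 : act 2 n196041 = n131895 := d2_1 D196041 (iv5 D131895) (iv2 F163845)
theorem F399155 : act 6 n196041 = n106575 := d12_2 D106574 D196041 (iv5 D106575) (iv6 D49247) D49246
def n196042 : Q := act 7 n106574
theorem D196042 : act 7 n106574 = n196042 := rfl
theorem F399156 : act 2 n196042 = n131888 := d4_1 D196042 F333545 (iv2 F163845)
theorem F399157 : act 4 n196042 = n106743 := d11_1 D196042 (iv7 D106743) (iv4 F163846)
theorem F399158 : act 6 n196042 = n131851 := d14_1 D196042 (iv7 D131851) (iv6 D61864) (iv7 F77793) D106574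
theorem F399159 : act 1 n131894 = n196042 := d15_1 D131894 (iv7 D196042) F163845
theorem F399160 : act 1 n196042 = n131893 := d15_1 F399159 (iv7 F398828) F398826
def n196043 : Q := act 0 n106575
theorem D196043 : act 0 n106575 = n196043 := rfl
theorem F399161 : act 5 n196043 = n195094 := d17_3 F95151 D106575 D196043 F395735 F326884 (iv0 D61246) F46622 D49199 (iv4 F95150)
theorem F399162 : act 4 n196043 = n125673 := d18_1 D196043 (iv1 F349585) (iv4 F360466) (iv5 F360465) F164367 F77914 D106479 (iv0 F163724) D106575
theorem F399163 : act 2 n125782 = n196043 := d15_3 (iv0 D196043) F342878 D125782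
theorem F399164 : act 7 n196043 = n125546 := d4_2 D125782 F399163 F201945
theorem F399165 : act 6 n125735 = n196043 := d14_5 F399164 (iv6 D125546) F92919 D58872 D125735
theorem F399166 : act 1 n125780 = n196043 := d15_1 D125780 F399164 F201945
def n196044 : Q := act 4 n106575
theorem D196044 : act 4 n106575 = n196044 := rfl
theorem F399167 : act 2 n196044 = n125732 := d1_1 D196044 F360468 (iv2 F163847)
theorem F399168 : act 1 n196044 = n125543 := d18_6 (iv1 F163721) F95144 F46379 (iv4 F77797) D106575 D196044 F201937 (iv0 F360480) (iv5 F349561)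
theorem F399169 : act 7 n125733 = n196044 := d15_2 (iv0 D125732) D125733 F399167
def n196045 : Q := act 7 n106575
theorem D196045 : act 7 n106575 = n196045 := rfl
theorem F399170 : act 2 n196045 = n125780 := d4_1 D196045 F342880 (iv2 F163847)
theorem F399171 : act 4 n196045 = n125733 := d11_1 D196045 F399169 (iv4 D196044)
theorem F399172 : act 5 n196045 = n106576 := d13_1 D196045 (iv7 D106576) D106575
theorem F399173 : act 1 n125546 = n196045 := d15_1 (iv0 F342982) (iv7 D196045) F163847
theorem F399174 : act 1 n196045 = n125782 := d15_1 F399173 (iv7 D125782) (iv2 F201945)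
def n196046 : Q := act 5 n106577
theorem D196046 : act 5 n106577 = n196046 := rfl
theorem F399175 : act 2 n196046 = n131907 := d2_1 D196046 (iv5 D131907) (iv2 F163853)
theorem F399176 : act 3 n196046 = n125889 := d6_1 D196046 (iv5 F360447) F349564
theorem F399177 : act 7 n196046 = n131910 := d13_2 (iv7 F163854) D196046 (iv5 D131910)
theorem F399178 : act 0 n196046 = n125682 := d17_2 F163856 D196046 F360473 F211676 F164601 (iv0 F164374) (iv5 D106680) (iv0 D49290) (iv4 F77901)
theorem F399179 : act 6 n196046 = n125933 := d21_3 (iv5 D106678) F163856 D196046 (iv1 D125933) (iv6 D58959) F45289 (iv1 F40152) D52257 D113212 (iv1 F360481)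
def n196047 : Q := act 5 n106579
theorem D196047 : act 5 n106579 = n196047 := rfl
theorem F399180 : act 2 n196047 = n132565 := d2_1 D196047 (iv5 D132565) F202585
theorem F399181 : act 7 n196047 = n138211 := d13_2 F336162 D196047 (iv5 F336161)
theorem F399182 : act 4 n196047 = n137471 := d18_5 (iv1 D30007) (iv4 F48199) D63543 (iv4 F164154) D196047 (iv0 D137471) F100541 F99784 (iv5 D63554)
theorem F399183 : act 5 n136840 = n137471 := d17_3 (iv1 D64331) D64332 D136840 (iv4 F399182) (iv5 D196047) (iv0 D106579) (iv5 F78381) D107436 F165740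
theorem F399184 : act 0 n113868 = n196047 := d21_10 (iv5 D196047) (iv1 F203338) (iv5 F216987) F216986 (iv1 F203885) (iv6 F328271) (iv5 D113858) (iv1 D52572) D52574 D113868
theorem E103642 : n138217 = n137471 := ((c11_2 (iv7 F399181) F399182 (iv7 D138217) (iv4 F221377))).symm
theorem F399185 : act 7 n137471 = n64920 := (sb E103642 (iv7 D138217))
theorem F399186 : act 7 n138216 = n136840 := d13_2 F399185 D138216 F399183
def n196048 : Q := act 3 n106582
theorem D196048 : act 3 n106582 = n196048 := rfl
theorem F399187 : act 2 n196048 = n132933 := d0_1 D196048 (iv3 D132933) F211461 (iv3 D131976) (iv2 F203511)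
theorem F399188 : act 4 n196048 = n126507 := d5_2 F332600 D196048 (iv3 F203413) (iv4 F93659) (iv3 F332599)
theorem F399189 : act 5 n196048 = n120118 := d6_2 F398881 D196048 (iv3 F398883)
theorem F399190 : act 6 n196048 = n195176 := d7_2 (iv6 F342949) D196048 (iv3 D195176)
theorem F399191 : act 7 n196048 = n126524 := d8_2 F203510 D196048 (iv3 F203444)
theorem F399192 : act 0 n106755 = n196048 := d20_4 (iv4 F46350) D60495 D128628 (iv3 F358318) (iv3 D196048) (iv4 F332600) D195797 F398223 (iv3 D106635) (iv1 D49272)
def n196049 : Q := act 5 n106584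
theorem D196049 : act 5 n106584 = n196049 := rfl
theorem F399193 : act 2 n196049 = n106585 := d2_1 D196049 (iv5 D106585) D106584
theorem F399194 : act 3 n196049 = n131942 := d6_1 D196049 (iv5 D131942) (iv3 F164140)
theorem F399195 : act 6 n196049 = n132009 := d12_2 F391698 D196049 (iv5 D132009) D132010 (iv5 F363271)
theorem F399196 : act 7 n196049 = n131980 := d13_2 (iv7 F164142) D196049 (iv5 D131980)
theorem F399197 : act 0 n196049 = n131983 := d17_2 (iv1 F164143) D196049 (iv5 F325764) F161186 (iv5 F114435) (iv0 F326585) F326586 (iv0 F342934) F203450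
theorem F399198 : act 4 n196049 = n159600 := d17_4 (iv1 F342924) F342925 (iv1 F164143) D196049 F251394 (iv0 F379601) (iv5 D190373) F356952 F333532
theorem F399199 : act 1 n196049 = n131982 := d17_6 (iv1 F161493) (iv5 F177017) (iv1 F322886) (iv5 D135585) (iv4 F164141) D196049 F211470 (iv0 D106554) (iv4 F333526)
def n196050 : Q := act 6 n106585
theorem D196050 : act 6 n106585 = n196050 := rfl
theorem F399200 : act 2 n196050 = n132009 := d3_1 D196050 (iv6 F399195) F399193
theorem F399201 : act 3 n196050 = n106587 := d7_1 D196050 (iv6 D106587) (iv3 F164146)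
theorem F399202 : act 4 n196050 = n114043 := d10_1 D196050 (iv6 F364638) F247868
theorem F399203 : act 5 n196050 = n106621 := d21_6 (iv5 F381037) (iv1 D190782) D190783 F381061 (iv1 F211477) D196050 (iv1 D106621) D106623 F319143 (iv1 F164652)
theorem E103643 : n132006 = n106621 := ((c2_1 F399203 (iv2 D132006) D132009 (iv2 F399200))).symm
theorem F399204 : act 2 n106621 = n61948 := (sb E103643 (iv2 D132006))
theorem F399205 : act 7 n106621 = n61949 := (sb E103643 (iv7 F211507))
theorem F399206 : act 7 n132014 = n196050 := d13_0 F399203 F399205 D132014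
theorem F399207 : act 0 n132125 = n196050 := d17_0 F399203 (iv1 D106621) D106623 F319142 F78525 F56569 D55269 F179060 F341606
theorem F399208 : act 1 n106649 = n196050 := d17_6 (iv1 F203596) F203414 F203429 F203428 F99031 (iv5 F164271) F399203 F164233 (iv4 F203593)
theorem E103644 : n132011 = n106620 := (c15_4 (iv0 D106620) D106621 F399205 (iv2 F211509))
theorem F399209 : act 2 n106620 = n61949 := (sb E103644 F211509)
theorem F399210 : act 6 n106620 = n128914 := (sb E103644 (iv6 F396538))
theorem F399211 : act 7 n106620 = n61948 := (sb E103644 (iv7 D132011))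
def n196051 : Q := act 5 n106586
theorem D196051 : act 5 n106586 = n196051 := rfl
theorem F399212 : act 2 n196051 = n132010 := d2_1 D196051 (iv5 F363271) F391695
theorem F399213 : act 3 n196051 = n106590 := d6_1 D196051 (iv5 D106590) (iv3 F164148)
theorem F399214 : act 6 n196051 = n106621 := d12_2 D106586 D196051 (iv5 F399203) (iv6 D196050) (iv5 D106585)
def n196052 : Q := act 5 n106587
theorem D196052 : act 5 n106587 = n196052 := rfl
theorem F399215 : act 2 n196052 = n131958 := d2_1 D196052 (iv5 D131958) (iv2 F164150)
theorem F399216 : act 3 n196052 = n106621 := d6_1 D196052 (iv5 F399203) F399201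
theorem F399217 : act 6 n196052 = n106590 := d12_2 D106587 D196052 (iv5 D106590) (iv6 D49254) D49253
theorem F399218 : act 7 n132012 = n196052 := d8_0 F399216 F399205 D132012
theorem F399219 : act 1 n136331 = n132012 := d15_1 (iv0 F396126) F399218 F399215
theorem F399220 : act 1 n132012 = n136336 := d15_1 F399219 F330449 (iv2 F330454)
def n196053 : Q := act 7 n106587
theorem D196053 : act 7 n106587 = n196053 := rfl
theorem F399221 : act 2 n196053 = n131959 := d4_1 D196053 (iv7 D131959) (iv2 F164150)
theorem F399222 : act 3 n196053 = n132014 := d8_1 D196053 F399206 F399201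
theorem F399223 : act 4 n196053 = n106705 := d11_1 D196053 (iv7 D106705) (iv4 F164151)
theorem F399224 : act 5 n196053 = n132012 := d13_1 D196053 F399218 (iv5 D196052)
theorem F399225 : act 6 n196053 = n131993 := d14_1 D196053 (iv7 D131993) (iv6 D61936) (iv7 F77817) D106587
theorem F399226 : act 1 n131957 = n196053 := d15_1 D131957 (iv7 D196053) F164150
theorem F399227 : act 1 n196053 = n131956 := d15_1 F399226 (iv7 F398948) F398946
def n196054 : Q := act 3 n106588
theorem D196054 : act 3 n106588 = n196054 := rfl
theorem F399228 : act 4 n196054 = n132557 := d5_2 (iv4 F165533) D196054 (iv3 D132557) F164579 (iv3 D106768)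
theorem F399229 : act 7 n196054 = n131962 := d8_2 (iv7 F165534) D196054 (iv3 D131962)
theorem F399230 : act 0 n195186 = n196054 := d20_4 (iv4 F220832) F339700 (iv4 F285213) (iv3 F396153) (iv3 D196054) F165533 (iv1 F78045) (iv4 F164225) F362880 (iv1 F345929)
theorem F399231 : act 5 n196054 = n114959 := d17_3 (iv1 F177808) D195186 F399230 F179049 F163430 F178034 (iv5 D106122) F77532 (iv4 F163306)
theorem F399232 : act 1 n195183 = n196054 := d15_0 (iv0 F399230) F396154 (iv2 F396141)
theorem F399233 : act 0 n195184 = n128632 := d21_4 (iv5 F399231) (iv1 F399232) (iv5 D195183) D195184 (iv6 F342945) F329262 F164024 (iv5 F342964) (iv6 D114963) D114959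
def n196055 : Q := act 5 n106588
theorem D196055 : act 5 n106588 = n196055 := rfl
theorem F399234 : act 2 n196055 = n131961 := d2_1 D196055 (iv5 D131961) (iv2 F165532)
theorem F399235 : act 3 n196055 = n114959 := d6_1 D196055 (iv5 F399231) (iv3 D196054)
theorem F399236 : act 6 n196055 = n113957 := d12_2 (iv6 F202116) D196055 (iv5 F177854) F349625 F211263
theorem F399237 : act 7 n196055 = n131963 := d13_2 (iv7 F165534) D196055 (iv5 D131963)
theorem F399238 : act 0 n106630 = n196052 := d21_4 F396133 (iv1 F161574) D113955 F396112 F399217 (iv5 D106590) D106588 D196055 F399236 (iv1 F396135)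
def n196056 : Q := act 3 n106589
theorem D196056 : act 3 n106589 = n196056 := rfl
theorem F399239 : act 4 n196056 = n134482 := d5_2 (iv4 F165530) D196056 (iv3 D134482) (iv4 D63172) (iv3 F165528)
theorem F399240 : act 6 n196056 = n195093 := d7_2 (iv6 F342856) D196056 (iv3 D195093)
theorem F399241 : act 7 n196056 = n131960 := d8_2 (iv7 F165531) D196056 (iv3 D131960)
theorem F399242 : act 1 n106787 = n196056 := d17_8 F349142 (iv5 D90456) (iv1 F135547) D185852 F398192 (iv5 D195791) D195790 (iv5 F398188) F399239
def n196057 : Q := act 5 n106589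
theorem D196057 : act 5 n106589 = n196057 := rfl
theorem F399243 : act 2 n196057 = n131963 := d2_1 D196057 (iv5 D131963) (iv2 F165529)
theorem F399244 : act 7 n196057 = n131961 := d13_2 (iv7 F165531) D196057 (iv5 D131961)
def n196058 : Q := act 1 n106590
theorem D196058 : act 1 n106590 = n196058 := rfl
theorem F399245 : act 1 n196058 = n131967 := d15_1 D196058 (iv7 D131967) (iv2 F164155)
theorem F399246 : act 7 n196058 = n128700 := d15_2 F362923 D196058 (iv2 F362917)
theorem F399247 : act 5 n196058 = n128701 := d17_7 (iv1 F96704) F95138 (iv1 D49628) F37925 (iv4 F77820) D106590 D196058 (iv0 F211970) (iv4 D132273)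
theorem F399248 : act 2 n131965 = n196058 := d2_3 F399247 (iv2 F211328) (iv5 F211440)
def n196059 : Q := act 4 n106590
theorem D196059 : act 4 n106590 = n196059 := rfl
theorem F399249 : act 2 n196059 = n131966 := d1_1 D196059 (iv4 D131966) (iv2 F164155)
def n196060 : Q := act 7 n106590
theorem D196060 : act 7 n106590 = n196060 := rfl
theorem F399250 : act 2 n196060 = n131967 := d4_1 D196060 (iv7 D131967) (iv2 F164155)
theorem F399251 : act 5 n196060 = n106591 := d13_1 D196060 (iv7 D106591) D106590
theorem F399252 : act 1 n131965 = n196060 := d15_1 D131965 (iv7 D196060) F164155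
theorem F399253 : act 1 n196060 = n128700 := d15_1 F399252 (iv7 F399246) (iv2 F399248)
def n196061 : Q := act 5 n106592
theorem D196061 : act 5 n106592 = n196061 := rfl
theorem F399254 : act 2 n196061 = n131972 := d2_1 D196061 (iv5 D131972) (iv2 F164162)
theorem F399255 : act 7 n196061 = n131969 := d13_2 (iv7 F164163) D196061 (iv5 D131969)
def n196062 : Q := act 6 n106594
theorem D196062 : act 6 n106594 = n196062 := rfl
theorem F399256 : act 3 n196062 = n126574 := d7_1 D196062 (iv6 D126574) (iv3 F168749)
theorem F399257 : act 7 n196062 = n132572 := d14_2 (iv7 F202511) D196062 (iv6 D132572) F202546 F168015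
theorem F399258 : act 5 n196062 = n132428 := d21_6 F46943 (iv1 D25444) (iv5 F37588) D49258 D106594 D196062 (iv1 F214385) F98660 (iv6 D51083) (iv1 F46941)
theorem F399259 : act 0 n196062 = n136195 := d21_10 F350328 F204065 F100605 (iv6 D60506) (iv1 D28735) D28737 (iv5 F81277) D111663 F173227 D196062
theorem F399260 : act 0 n136200 = n196062 := d21_4 F96392 F102036 D127079 F360385 (iv6 D196062) (iv5 F173227) (iv1 F215927) F215924 F328811 (iv1 F328806)
def n196063 : Q := act 3 n106598
theorem D196063 : act 3 n106598 = n196063 := rfl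
theorem F399261 : act 7 n196063 = n131938 := d8_2 (iv7 F355057) D196063 (iv3 D131938)
def n196064 : Q := act 6 n106598
theorem D196064 : act 6 n106598 = n196064 := rfl
theorem F399262 : act 2 n196064 = n131936 := d3_1 D196064 (iv6 D131936) (iv2 F355056)
theorem F399263 : act 7 n196064 = n195171 := d14_2 (iv7 F355057) D196064 F396084 F355048 F354700
theorem F399264 : act 0 n196064 = n132161 := d21_4 D131838 (iv1 F399146) F399148 D196064 (iv6 F365452) F161561 (iv1 F82747) D52390 (iv6 F352474) (iv1 F163836)
theorem F399265 : act 1 n196064 = n195173 := d15_1 (iv0 F399264) (iv7 D195173) (iv2 F365453)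
theorem F399266 : act 1 n128830 = n132161 := d15_0 (iv0 F399264) F399263 (iv2 F396085)
theorem F399267 : act 1 n195173 = n128830 := d15_0 F399266 F211684 (iv2 F396089)
def n196065 : Q := act 5 n106599
theorem D196065 : act 5 n106599 = n196065 := rfl
theorem F399268 : act 2 n196065 = n106600 := d2_1 D196065 (iv5 D106600) D106599
theorem F399269 : act 3 n196065 = n131980 := d6_1 D196065 (iv5 D131980) (iv3 F164175)
theorem F399270 : act 7 n196065 = n131942 := d13_2 (iv7 F164177) D196065 (iv5 D131942)
theorem F399271 : act 0 n196065 = n131945 := d17_2 (iv1 F164178) D196065 (iv5 F362887) (iv4 F336391) F308420 D154191 (iv5 F368377) (iv0 F211629) (iv4 D131934)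
theorem F399272 : act 1 n196065 = n131944 := d15_1 (iv0 F399271) (iv7 F362891) (iv2 F362888)
def n196066 : Q := act 5 n106612
theorem D196066 : act 5 n106612 = n196066 := rfl
theorem F399273 : act 2 n196066 = n132043 := d2_1 D196066 (iv5 D132043) (iv2 F218393)
theorem F399274 : act 3 n196066 = n132128 := d6_1 D196066 F363064 F326355
theorem F399275 : act 6 n196066 = n132908 := d12_2 (iv6 F365924) D196066 (iv5 D132908) D132909 F365926
theorem F399276 : act 7 n196066 = n132038 := d13_2 (iv7 F218394) D196066 (iv5 D132038)
theorem F399277 : act 4 n196066 = n190480 := d17_4 (iv1 F373551) (iv5 D106615) D106612 D196066 (iv5 D190480) F378475 F378473 F373514 D188457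
theorem F399278 : act 0 n106647 = n196066 := d21_10 (iv5 D196066) (iv1 F164210) D132045 (iv6 F349643) F294046 D163415 F349603 (iv1 F349615) (iv5 F349617) F343661
theorem F399279 : act 1 n132134 = n196066 := d15_0 (iv0 F399278) F164268 D132134
theorem F399280 : act 1 n163465 = n132134 := d15_0 F399279 F399276 (iv2 F349641)
def n196067 : Q := act 1 n106618
theorem D196067 : act 1 n106618 = n196067 := rfl
theorem F399281 : act 1 n196067 = n132034 := d15_1 D196067 (iv7 D132034) (iv2 F164223)
theorem F399282 : act 7 n196067 = n128680 := d15_2 F211959 D196067 (iv2 F211956)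
theorem F399283 : act 5 n196067 = n128681 := d17_7 (iv1 F209495) F164378 (iv1 F78153) F37850 (iv4 F77851) D106618 D196067 F211945 F211944
theorem F399284 : act 3 n133091 = n196067 := d20_3 F207190 (iv1 F97317) D133091 (iv1 D196067) (iv3 F398119) F398116 (iv1 F218502) F335844 (iv3 F335846) (iv1 F211649)
theorem F399285 : act 2 n132032 = n196067 := d2_3 F399283 (iv2 F211342) (iv5 F211525)
def n196068 : Q := act 4 n106618
theorem D196068 : act 4 n106618 = n196068 := rfl
theorem F399286 : act 2 n196068 = n132033 := d1_1 D196068 (iv4 D132033) (iv2 F164223)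
theorem F399287 : act 3 n196068 = n135852 := d5_1 D196068 F218512 (iv3 F218498) (iv4 F398116) F398119
theorem F399288 : act 6 n196068 = n132537 := d10_2 F365930 D196068 F212745
theorem F399289 : act 7 n135848 = n196068 := d14_0 F399288 F212746 F99709 (iv7 F99345) D135848
def n196069 : Q := act 7 n106618
theorem D196069 : act 7 n106618 = n196069 := rfl
theorem F399290 : act 2 n196069 = n132034 := d4_1 D196069 (iv7 D132034) (iv2 F164223)
theorem F399291 : act 3 n196069 = n135841 := d8_1 D196069 (iv7 F398120) F398119
theorem F399292 : act 4 n196069 = n135848 := d11_1 D196069 F399289 (iv4 D196068)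
theorem F399293 : act 5 n196069 = n106619 := d13_1 D196069 (iv7 D106619) D106618
theorem F399294 : act 6 n196069 = n135839 := d14_1 D196069 F218485 F164614 (iv7 F164640) F365930
theorem F399295 : act 1 n132032 = n196069 := d15_1 D132032 (iv7 D196069) F164223
theorem F399296 : act 1 n196069 = n128680 := d15_1 F399295 (iv7 F399282) (iv2 F399285)
def n196070 : Q := act 3 n106620
theorem D196070 : act 3 n106620 = n196070 := rfl
theorem F399297 : act 7 n196070 = n132007 := d8_2 (iv7 F399211) D196070 (iv3 D132007)
theorem F399298 : act 4 n196070 = n131920 := d20_6 F37706 (iv1 F18467) (iv4 F37603) D49268 D106620 D196070 (iv1 D131920) F96498 (iv3 D29332) (iv1 F37708)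
theorem F399299 : act 2 n132089 = n196070 := d1_3 F399298 F354725 (iv4 F211626)
theorem F399300 : act 1 n132064 = n196070 := d18_6 F383864 F377953 F366649 (iv4 F355350) (iv5 D134541) F211605 F399298 F211383 D134339
theorem F399301 : act 0 n132091 = n196070 := d20_10 F399298 (iv1 D131920) F96498 (iv3 D29332) (iv1 F37708) (iv3 F78015) (iv4 F83932) (iv1 F211604) (iv4 F382372) F382374
def n196071 : Q := act 4 n106620
theorem D196071 : act 4 n106620 = n196071 := rfl
theorem F399302 : act 2 n196071 = n132013 := d1_1 D196071 (iv4 D132013) (iv2 F399209)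
theorem F399303 : act 3 n196071 = n129148 := d5_1 D196071 (iv4 F336983) (iv3 F354726) (iv4 F399298) (iv3 D196070)
theorem F399304 : act 7 n196071 = n132008 := d11_2 (iv7 F399211) D196071 (iv4 D132008)
theorem F399305 : act 5 n196071 = n129649 := d16_1 D196071 F327301 (iv5 D76374) F177636 D114043 (iv4 F399202) F399203 F399205 (iv2 F399209)
theorem F399306 : act 0 n196071 = n196020 := d18_2 D106620 D196071 (iv4 D196020) (iv5 D106536) F77750 D49232 D106542 (iv0 F319139) (iv5 D106623)
theorem F399307 : act 1 n196071 = n135497 := d18_8 (iv1 F327307) F327309 (iv1 F114495) (iv4 F333196) (iv5 F212400) F203593 F164229 D196071 F362915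
def n196072 : Q := act 5 n106620
theorem D196072 : act 5 n106620 = n196072 := rfl
theorem F399308 : act 2 n196072 = n132014 := d2_1 D196072 (iv5 D132014) (iv2 F399209)
theorem F399309 : act 7 n196072 = n132009 := d13_2 (iv7 F399211) D196072 (iv5 D132009)
theorem F399310 : act 4 n196072 = n114048 := d16_4 (iv4 F327301) (iv5 F399305) (iv4 D196071) D196072 (iv5 D114048) (iv4 F177659) D76378 F193519 (iv2 F193520)
theorem F399311 : act 0 n196072 = n132125 := d17_2 D106620 D196072 F211653 (iv4 F217867) F217868 F203432 F203411 (iv0 D126506) F93629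
theorem F399312 : act 1 n196072 = n106649 := d17_8 F178921 (iv5 D55274) (iv1 D26709) (iv5 F38888) (iv4 F80535) (iv5 F324326) F164229 D196072 (iv4 F341605)
theorem F399313 : act 6 n189551 = n196072 := d21_5 (iv5 D29323) (iv1 F46957) D61857 D131826 (iv1 F376866) (iv5 D196072) (iv1 F164229) F324326 (iv6 D51069) (iv1 F46977)
def n196073 : Q := act 4 n106621
theorem D196073 : act 4 n106621 = n196073 := rfl
theorem F399314 : act 2 n196073 = n132008 := d1_1 D196073 (iv4 D132008) (iv2 F399204)
theorem F399315 : act 5 n196073 = n159643 := d9_2 F399203 D196073 (iv4 D159643) (iv5 D76378) F177659 D114048 (iv4 F399310) (iv5 D196072) D196071 F399305 F327301 (iv5 D76374) F177636 D114043 (iv4 F399202)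
theorem F399316 : act 7 n196073 = n132013 := d11_2 (iv7 F399205) D196073 (iv4 D132013)
theorem F399317 : act 0 n196073 = n135497 := d17_0 F362915 (iv1 F327307) (iv5 F398780) (iv4 D195937) (iv5 F341595) (iv0 F319139) (iv5 D106623) D106621 D196073
theorem F399318 : act 3 n196073 = n126483 := d20_3 F203593 (iv1 F164233) D196073 (iv1 F203549) F203547 F97062 (iv1 F47244) D60926 (iv3 F203409) (iv1 F203595)
theorem F399319 : act 1 n196073 = n196020 := d15_0 (iv0 F399306) F399304 (iv2 F399314)
def n196074 : Q := act 7 n106624
theorem D196074 : act 7 n106624 = n196074 := rfl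
theorem F399320 : act 2 n196074 = n157777 := d4_1 D196074 (iv7 F280631) F362856
theorem F399321 : act 3 n196074 = n106627 := d8_1 D196074 (iv7 D106627) (iv3 F164237)
theorem F399322 : act 5 n196074 = n113274 := d13_1 D196074 (iv7 F176753) F343667
theorem F399323 : act 6 n196074 = n132025 := d14_1 D196074 (iv7 D132025) (iv6 D61952) (iv7 F77852) D106624
def n196075 : Q := act 3 n106629
theorem D196075 : act 3 n106629 = n196075 := rfl
theorem F399324 : act 4 n196075 = n113631 := d5_2 (iv4 F330443) D196075 F342935 (iv4 D135682) D135681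
theorem F399325 : act 7 n196075 = n106635 := d8_2 F164251 D196075 (iv3 D106635)
theorem F399326 : act 6 n113629 = n196075 := d10_0 F399324 (iv6 D113631) D113629
theorem F399327 : act 1 n135581 = n196075 := d17_8 (iv1 F342936) F332609 (iv1 F333538) (iv5 D113724) D113723 F343640 F382368 F382367 F399324
theorem F399328 : act 0 n132036 = n196075 := d18_0 F399324 (iv1 F342936) (iv4 F332617) (iv5 F349623) (iv4 F343654) (iv0 D106685) (iv4 F164270) (iv0 F382362) F382359
def n196076 : Q := act 6 n106629
theorem D196076 : act 6 n106629 = n196076 := rfl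
theorem F399329 : act 2 n196076 = n106633 := d3_1 D196076 (iv6 D106633) D106629
theorem F399330 : act 3 n196076 = n113629 := d7_1 D196076 F399326 (iv3 D196075)
theorem F399331 : act 5 n196076 = n132935 := d12_1 D196076 (iv6 D132935) D132934 F382572 (iv5 F382571)
theorem F399332 : act 0 n126269 = n196076 := d21_4 (iv5 D145457) (iv1 F170923) (iv5 F170924) D126269 (iv6 D196076) F382571 (iv1 D191205) F295474 (iv6 F172213) F349566
theorem F399333 : act 0 n196076 = n131968 := d20_4 F82760 D52460 D113629 (iv3 F399330) (iv3 D131968) (iv4 D61921) (iv1 F77826) (iv4 F164157) (iv3 F391701) (iv1 D113542)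
def n196077 : Q := act 1 n106630
theorem D196077 : act 1 n106630 = n196077 := rfl
theorem F399334 : act 7 n196077 = n131958 := d15_2 (iv0 F399238) D196077 (iv2 F399215)
theorem F399335 : act 5 n196077 = n131959 := d18_9 (iv1 F398951) (iv4 D195981) (iv1 D106494) (iv4 F324327) F78521 (iv4 F96943) D132536 (iv4 F212742) D196077
theorem F399336 : act 3 n132089 = n196077 := d20_9 F212742 (iv1 D132536) F96943 F78055 (iv1 F37733) D49259 F77830 D63109 (iv4 F211626) (iv1 D196077)
theorem F399337 : act 2 n196077 = n132012 := d0_1 F399336 (iv3 D132012) (iv2 F399209) D196070 (iv2 F399299)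
def n196078 : Q := act 5 n106630
theorem D196078 : act 5 n106630 = n196078 := rfl
theorem F399338 : act 3 n196078 = n106632 := d6_1 D196078 (iv5 D106632) D106630
theorem F399339 : act 6 n196078 = n131848 := d12_2 F396112 D196078 F349623 (iv6 F332621) D113955
theorem F399340 : act 0 n196078 = n196022 := d21_7 (iv5 D107531) D107528 F361380 D195635 F397683 F396112 D196078 F399100 (iv6 D195701) F348400
theorem F399341 : act 0 n189513 = n196078 := d21_10 (iv5 D196078) F399238 (iv5 D196052) (iv6 D106587) (iv1 F96430) D131826 (iv5 F395717) (iv1 F395719) (iv5 D189512) D189513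
def n196079 : Q := act 0 n106631
theorem D196079 : act 0 n106631 = n196079 := rfl
theorem F399342 : act 4 n196079 = n196063 := d20_2 D106631 D196079 (iv3 D196063) (iv1 D106598) (iv3 D49259) (iv4 D24040) (iv1 D11280) D11281 D24044 D49271
theorem F399343 : act 3 n134220 = n196079 := d5_5 F399342 (iv3 D196063) (iv4 F216261) (iv3 D134219) D134220
theorem F399344 : act 0 n106784 = n196063 := d20_1 F358351 (iv4 F399342) (iv3 F399343) F216263 F208753 F95648 (iv1 F208358) (iv4 F46422) (iv3 F95091) (iv1 F358350)
theorem F399345 : act 0 n196079 = n106636 := d20_7 (iv4 D135793) (iv1 F99310) (iv4 F164141) F164140 (iv1 F164179) D196063 (iv4 F399342) (iv4 D106636) D106635 F377470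
def n196080 : Q := act 3 n106631
theorem D196080 : act 3 n106631 = n196080 := rfl
def n196081 : Q := act 5 n106631
theorem D196081 : act 5 n106631 = n196081 := rfl
def n196082 : Q := act 6 n106631
theorem D196082 : act 6 n106631 = n196082 := rfl
theorem F399346 : act 4 n196082 = n106633 := d10_1 D196082 (iv6 D106633) D106631
theorem F399347 : act 5 n163673 = n196082 := d16_1 D163673 F399346 (iv5 F396114) F339477 (iv5 D174404) (iv4 F249087) F341884 (iv7 F341668) F341664
def n196083 : Q := act 7 n106631
theorem D196083 : act 7 n106631 = n196083 := rfl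
theorem F399348 : act 2 n196083 = n106636 := d4_1 D196083 (iv7 F330440) F330444
theorem F399349 : act 4 n196083 = n106634 := d11_1 D196083 (iv7 D106634) D106631
def n196084 : Q := act 6 n106632
theorem D196084 : act 6 n106632 = n196084 := rfl
theorem F399350 : act 2 n196084 = n132934 := d3_1 D196084 F382572 F382573
theorem F399351 : act 3 n196084 = n131848 := d7_1 D196084 (iv6 F399339) F399338
theorem F399352 : act 5 n196084 = n131976 := d12_1 D196084 (iv6 F359271) F396114 (iv6 D106633) D106632
theorem F399353 : act 7 n132936 = n196084 := d13_0 F399352 F211460 D132936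
def n196085 : Q := act 0 n106633
theorem D196085 : act 0 n106633 = n196085 := rfl
theorem F399354 : act 2 n131968 = n196085 := d15_3 (iv0 D196085) (iv0 F398168) F398167
theorem F399355 : act 3 n196085 = n132084 := d0_2 D131968 F399354 F354353 (iv3 D129792) F100235
theorem F399356 : act 7 n196085 = n126269 := d4_2 F398167 F399354 (iv2 F398165)
def n196086 : Q := act 7 n106633
theorem D196086 : act 7 n106633 = n196086 := rfl
theorem F399357 : act 3 n196086 = n195175 := d8_1 D196086 F396100 (iv3 F396113)
theorem F399358 : act 5 n196086 = n195174 := d13_1 D196086 F396095 F396114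
theorem F399359 : act 1 n126269 = n196086 := d15_1 (iv0 F399332) (iv7 D196086) (iv2 F399329)
theorem F399360 : act 1 n196086 = n131968 := d15_1 F399359 (iv7 F398167) F398165
def n196087 : Q := act 6 n106634
theorem D196087 : act 6 n106634 = n196087 := rfl
theorem F399361 : act 2 n196087 = n106638 := d3_1 D196087 (iv6 D106638) (iv2 F164252)
def n196088 : Q := act 2 n106635
theorem D196088 : act 2 n106635 = n196088 := rfl
theorem F399362 : act 4 n196088 = n195642 := d1_2 F398223 D196088 F398224
theorem F399363 : act 1 n196088 = n135581 := d15_0 F399327 F399325 D196088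
theorem F399364 : act 1 n132036 = n196088 := d15_0 F399363 (iv7 F218387) F218386
def n196089 : Q := act 6 n106635
theorem D196089 : act 6 n106635 = n196089 := rfl
theorem F399365 : act 3 n196089 = n106638 := d7_1 D196089 (iv6 D106638) D106635
theorem F399366 : act 5 n196089 = n189803 := d12_1 D196089 F377809 F367210 D189705 (iv5 F377468)
theorem F399367 : act 0 n196089 = n126297 := d21_10 F377837 (iv1 F377836) F364823 (iv6 D113248) F82652 D59177 D126237 F377471 (iv5 F377468) D196089
theorem F399368 : act 1 n196089 = n169913 := d15_1 (iv0 F399367) (iv7 F364709) F377838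
theorem F399369 : act 4 n106638 = n191676 := d20_6 F294509 F293585 (iv4 F125355) (iv3 F267336) (iv1 F399368) F399365 (iv1 D191676) F295373 (iv3 D87129) (iv1 F112732)
theorem F399370 : act 6 n191676 = n106636 := d10_2 D106638 F399369 (iv4 D106636)
def n196090 : Q := act 5 n106636
theorem D196090 : act 5 n106636 = n196090 := rfl
theorem F399371 : act 3 n196090 = n126129 := d6_1 D196090 (iv5 F330438) F207087
def n196091 : Q := act 0 n106638
theorem D196091 : act 0 n106638 = n196091 := rfl
def n196092 : Q := act 1 n106638
theorem D196092 : act 1 n106638 = n196092 := rfl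
theorem F399372 : act 3 n132100 = n196092 := d20_9 F399369 (iv1 D191676) F295373 (iv3 D87129) (iv1 F112732) D157807 (iv4 F338361) (iv1 F338365) (iv4 F359047) (iv1 D196092)
theorem F399373 : act 2 n196092 = n132004 := d0_1 F399372 (iv3 D132004) (iv2 F168043) D129956 F359049
def n196093 : Q := act 5 n106638
theorem D196093 : act 5 n106638 = n196093 := rfl
theorem F399374 : act 3 n196093 = n189803 := d6_1 D196093 (iv5 F399366) F399365
theorem F399375 : act 4 n157860 = n196093 := d20_8 F380457 (iv1 F257541) (iv4 F280665) (iv3 D180350) (iv1 F160844) (iv3 F380699) F380700 (iv1 F268413) F399374 (iv1 F380461)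
theorem F399376 : act 0 n196093 = n113269 := d20_1 F399375 F176468 F172892 (iv1 F170839) F327419 (iv4 D75239) (iv1 F60691) (iv4 F132128) (iv3 F268409) (iv1 F268413)
theorem F399377 : act 0 n113261 = n196093 := d20_10 (iv4 F399375) (iv1 D157860) (iv4 F125353) (iv3 D81502) F58169 D79623 F122335 D79631 D165800 (iv3 F351737)
theorem E103645 : n196091 = n125838 := (c21_2 (iv5 D196093) D196091 (iv5 D125838) (iv6 D58926) D58922 F355940 D126219 F219115 (iv5 D113260) D113261 F399377)
theorem F399378 : act 1 n125838 = n106638 := (sb E103645 (iv0 D196091))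
def n196094 : Q := act 7 n106638
theorem D196094 : act 7 n106638 = n196094 := rfl
def n196095 : Q := act 6 n106641
theorem D196095 : act 6 n106641 = n196095 := rfl
theorem F399379 : act 2 n196095 = n106645 := d3_1 D196095 (iv6 D106645) (iv2 F164255)
theorem F399380 : act 3 n196095 = n132104 := d7_1 D196095 (iv6 D132104) (iv3 F164256)
theorem F399381 : act 4 n196095 = n182862 := d10_1 D196095 (iv6 F382219) F382217
theorem F399382 : act 7 n196095 = n185733 := d14_2 (iv7 F164257) D196095 (iv6 F380991) F380992 (iv6 F340434)
theorem F399383 : act 0 n196095 = n191235 := d21_4 F382563 F330446 D106641 D196095 (iv6 D191235) F292822 F122220 F293084 D97385 D191204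
theorem F399384 : act 1 n196095 = n195073 := d15_1 (iv0 F399383) F395663 (iv2 F382685)
def n196096 : Q := act 6 n106642
theorem D196096 : act 6 n106642 = n196096 := rfl
theorem F399385 : act 2 n196096 = n106647 := d3_1 D196096 (iv6 F343661) (iv2 F393887)
theorem F399386 : act 3 n196096 = n132125 := d7_1 D196096 (iv6 F398947) (iv3 F398949)
theorem F399387 : act 7 n196096 = n132134 := d14_2 (iv7 F393885) D196096 F382458 (iv7 F382722) F382725
theorem F399388 : act 0 n196096 = n132043 := d21_4 F295474 D196030 F399122 D196096 F347517 (iv5 D62385) D62382 D132934 F382572 (iv1 D191205)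
theorem F399389 : act 5 n106660 = n196096 := d21_2 F373568 (iv1 F164296) (iv6 D196096) (iv1 F164260) F340434 F358362 D106782 (iv5 F171462) (iv6 F360830) (iv1 F373564)
theorem F399390 : act 0 n132038 = n196096 := d21_4 F257872 (iv1 F140953) D163460 F339678 (iv6 D196096) (iv5 F399122) (iv1 F399123) F348756 (iv6 D163609) D163606
def n196097 : Q := act 5 n106646
theorem D196097 : act 5 n106646 = n196097 := rfl
theorem F399391 : act 2 n196097 = n106787 := d2_1 D196097 F398188 F398186
theorem F399392 : act 3 n196097 = n106654 := d6_1 D196097 (iv5 D106654) (iv3 F164266)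
theorem F399393 : act 6 n196097 = n106783 := d12_2 D106646 D196097 F358361 (iv6 D106533) (iv5 F77862)
def n196098 : Q := act 4 n106647
theorem D196098 : act 4 n106647 = n196098 := rfl
theorem F399394 : act 3 n196098 = n106683 := d5_1 D196098 (iv4 D106683) F77916 (iv4 F77864) D106647
theorem F399395 : act 6 n196098 = n196016 := d10_2 F343661 D196098 (iv4 D196016)
theorem F399396 : act 7 n196098 = n132135 := d11_2 (iv7 F164268) D196098 (iv4 D132135)
theorem F399397 : act 5 n190504 = n196098 := d12_5 F399395 F399080 F393358 F340514 D190504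
def n196099 : Q := act 2 n106649
theorem D196099 : act 2 n106649 = n196099 := rfl
theorem F399398 : act 3 n196099 = n132134 := d0_2 D106649 D196099 (iv2 D132134) (iv3 D61990) F77872
theorem F399399 : act 4 n196099 = n121344 := d1_2 F341605 D196099 F193555
theorem F399400 : act 5 n196099 = n106676 := d2_2 (iv5 F164271) D196099 (iv2 D106676)
theorem F399401 : act 7 n196099 = n132125 := d4_2 (iv7 F164272) D196099 (iv2 D132125)
theorem F399402 : act 1 n196099 = n132009 := d15_0 F212478 (iv7 F164272) D196099
theorem F399403 : act 1 n132014 = n196099 := d15_0 F399402 (iv7 F399309) F399308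
theorem F399404 : act 0 n159605 = n194172 := d20_4 (iv4 F399399) (iv1 F399403) F341592 (iv3 F251409) (iv3 D194172) (iv4 F377424) (iv1 F377423) F249016 F293801 F193558
theorem F399405 : act 1 n164219 = n194172 := d15_0 (iv0 F399404) F251410 F258957
def n196100 : Q := act 6 n106649
theorem D196100 : act 6 n106649 = n196100 := rfl
theorem F399406 : act 3 n196100 = n106650 := d7_1 D196100 (iv6 D106650) D106649
def n196101 : Q := act 0 n106650
theorem D196101 : act 0 n106650 = n196101 := rfl
theorem F399407 : act 4 n196101 = n106741 := d20_2 (iv4 F164274) D196101 F331450 (iv1 F82499) (iv3 F175877) (iv4 F330336) (iv1 F227348) D144548 F338515 (iv1 D106672)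
theorem F399408 : act 6 n196101 = n108701 := d21_5 (iv5 D60729) F46452 (iv5 F77870) D106650 D196101 (iv5 D108701) F164307 (iv5 F328520) (iv6 D61964) (iv1 F95332)
theorem F399409 : act 2 n125903 = n196101 := d3_3 F399408 (iv2 F202014) (iv6 F202390)
theorem F399410 : act 5 n108699 = n196101 := d12_5 F399408 (iv5 D108701) (iv6 D50188) D50187 D108699
theorem F399411 : act 7 n132138 = n196101 := d14_0 F399408 (iv7 F382515) (iv6 D191184) F294063 F367034
theorem F399412 : act 0 n196101 = n132140 := d21_4 F343620 (iv1 D108700) D108701 (iv6 F399408) (iv6 F382355) F382352 (iv1 D113400) D113401 F176593 (iv1 F343617)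
def n196102 : Q := act 1 n106650
theorem D196102 : act 1 n106650 = n196102 := rfl
theorem F399413 : act 1 n196102 = n132140 := d15_1 D196102 (iv7 D132140) (iv2 F164273)
theorem F399414 : act 7 n196102 = n125903 := d15_2 (iv0 D196101) D196102 F399409
theorem F399415 : act 4 n196102 = n106742 := d18_7 (iv1 F290565) (iv4 F359244) (iv1 D96227) (iv4 F107025) F107026 (iv4 F164274) D196102 F164527 F163785
theorem F399416 : act 6 n189508 = n196102 := d21_3 (iv5 F282818) (iv1 F282819) (iv5 F376757) (iv1 D196102) (iv6 D106650) F77870 (iv1 F77771) (iv5 F96550) (iv6 F341780) F348787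
theorem F399417 : act 2 n196102 = n132138 := d3_1 F399416 (iv6 F367034) (iv2 F376756)
theorem F399418 : act 5 n125904 = n196102 := d13_3 F399414 (iv5 D125903) D125904
theorem E103646 : n195033 = n125691 := (c18_3 D125633 F356047 D195033 (iv4 F202391) F399418 F399415 F164527 (iv4 F333544) F347759 (iv5 D125635))
theorem F399419 : act 1 n125691 = n105177 := (sb E103646 (iv0 D195033))
def n196103 : Q := act 5 n106650
theorem D196103 : act 5 n106650 = n196103 := rfl
theorem F399420 : act 2 n196103 = n132139 := d2_1 D196103 (iv5 D132139) (iv2 F164273)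
theorem F399421 : act 6 n196103 = n106678 := d12_2 D106650 D196103 (iv5 D106678) (iv6 D49289) (iv5 F77870)
def n196104 : Q := act 7 n106650
theorem D196104 : act 7 n106650 = n196104 := rfl
theorem F399422 : act 2 n196104 = n132140 := d4_1 D196104 (iv7 D132140) (iv2 F164273)
theorem F399423 : act 4 n196104 = n106673 := d11_1 D196104 (iv7 D106673) (iv4 F164274)
theorem F399424 : act 6 n196104 = n132131 := d14_1 D196104 (iv7 D132131) (iv6 D61989) (iv7 F77869) D106650
theorem F399425 : act 1 n132138 = n196104 := d15_1 D132138 (iv7 D196104) F164273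
theorem F399426 : act 1 n196104 = n125903 := d15_1 F399425 (iv7 F399414) F399417
def n196105 : Q := act 5 n106652
theorem D196105 : act 5 n106652 = n196105 := rfl
theorem F399427 : act 2 n196105 = n132149 := d2_1 D196105 (iv5 D132149) (iv2 F358286)
theorem F399428 : act 3 n196105 = n195088 := d6_1 D196105 F395717 (iv3 F358287)
theorem F399429 : act 6 n196105 = n125559 := d12_2 (iv6 F358289) D196105 F342899 (iv6 D131825) D131824
theorem F399430 : act 7 n196105 = n132144 := d13_2 (iv7 F358290) D196105 (iv5 D132144)
theorem F399431 : act 4 n125561 = n196105 := d11_3 F399430 F341809 (iv7 F361399)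
def n196106 : Q := act 4 n106654
theorem D196106 : act 4 n106654 = n196106 := rfl
theorem F399432 : act 2 n196106 = n132159 := d1_1 D196106 (iv4 D132159) (iv2 F164282)
theorem F399433 : act 6 n196106 = n196020 := d10_2 (iv6 F164283) D196106 (iv4 D196020)
theorem F399434 : act 5 n196106 = n129090 := d16_1 D196106 (iv4 D129090) (iv5 D60683) F46437 F22977 (iv4 F46437) D60683 (iv7 F96586) (iv2 F164282)
def n196107 : Q := act 5 n106655
theorem D196107 : act 5 n106655 = n196107 := rfl
theorem F399435 : act 2 n196107 = n133386 := d2_1 D196107 (iv5 D133386) (iv2 F164663)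
theorem F399436 : act 3 n196107 = n115440 := d6_1 D196107 (iv5 F217834) F217832
theorem F399437 : act 6 n196107 = n113096 := d12_2 F164662 D196107 (iv5 F176205) (iv6 D106856) D106855
theorem F399438 : act 7 n196107 = n107108 := d13_2 F164664 D196107 F165081
theorem F399439 : act 1 n196107 = n113129 := d17_6 (iv1 F206894) (iv5 F358213) (iv1 D113661) D113662 F358165 D196107 F176254 F168150 (iv4 F206892)
theorem F399440 : act 0 n196107 = n135678 := d21_1 D196107 (iv5 D135678) F161080 (iv1 D49340) (iv6 D24080) (iv5 F18454) F19901 (iv5 F37615) D49280 D106655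
def n196108 : Q := act 4 n106658
theorem D196108 : act 4 n106658 = n196108 := rfl
theorem F399441 : act 2 n196108 = n195953 := d1_1 D196108 (iv4 D195953) (iv2 F364689)
theorem F399442 : act 3 n196108 = n188803 := d5_1 D196108 F374951 (iv3 F161491) (iv4 F203012) F349656
theorem F399443 : act 7 n196108 = n195951 := d11_2 F364688 D196108 (iv4 D195951)
theorem F399444 : act 5 n196108 = n183165 := d17_5 (iv1 D61960) D61962 D132047 F360832 D196108 (iv0 D183165) (iv5 F337796) (iv0 F363954) (iv4 D132042)
theorem F399445 : act 6 n188801 = n196108 := d14_5 F399443 F398837 F203001 (iv6 F143161) D188801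
theorem F399446 : act 0 n154020 = n188801 := d21_4 (iv5 F283313) F308499 F109366 D154020 F399445 F399444 (iv1 F377017) F377013 (iv6 F295125) (iv1 F283312)
def n196109 : Q := act 6 n106658
theorem D196109 : act 6 n106658 = n196109 := rfl
theorem F399447 : act 2 n196109 = n195954 := d3_1 D196109 (iv6 D195954) (iv2 F364689)
theorem F399448 : act 3 n196109 = n113354 := d7_1 D196109 (iv6 F203013) F349656
theorem F399449 : act 4 n196109 = n188801 := d10_1 D196109 F399445 (iv4 D196108)
theorem F399450 : act 7 n196109 = n113346 := d14_2 F364688 D196109 (iv6 D113346) (iv7 F93379) (iv6 F364687)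
theorem F399451 : act 0 n196109 = n127366 := d21_4 D61962 D132047 F360832 D196109 F377734 F377732 F362097 (iv5 F347515) (iv6 D132044) (iv1 D61960)
def n196110 : Q := act 3 n106659
theorem D196110 : act 3 n106659 = n196110 := rfl
theorem F399452 : act 2 n196110 = n113394 := d0_1 D196110 F176590 (iv2 F93381) (iv3 F364686) F364685
theorem F399453 : act 5 n196110 = n191092 := d6_2 F349650 D196110 F382194
theorem F399454 : act 6 n196110 = n113390 := d7_2 (iv6 F349652) D196110 (iv3 F202992)
theorem F399455 : act 7 n196110 = n195952 := d8_2 (iv7 F364690) D196110 (iv3 D195952)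
theorem F399456 : act 1 n191132 = n195952 := d15_1 F382349 (iv7 F399455) F399452
def n196111 : Q := act 6 n106660
theorem D196111 : act 6 n106660 = n196111 := rfl
theorem F399457 : act 2 n196111 = n106661 := d3_1 D196111 (iv6 D106661) D106660
theorem F399458 : act 3 n196111 = n191614 := d7_1 D196111 F383976 (iv3 F164293)
theorem F399459 : act 4 n196111 = n134907 := d10_1 D196111 (iv6 D134907) (iv4 F164294)
theorem F399460 : act 0 n196111 = n169937 := d21_4 D132038 F399390 (iv5 F399389) D196111 (iv6 D169937) F125364 F70727 (iv5 F328125) (iv6 D61963) D61959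
theorem F399461 : act 7 n182776 = n196111 := d11_0 F399459 F332725 D182776
def n196112 : Q := act 1 n106661
theorem D196112 : act 1 n106661 = n196112 := rfl
theorem F399462 : act 1 n196112 = n182776 := d15_1 D196112 F399461 F399457
theorem F399463 : act 7 n196112 = n169937 := d15_2 (iv0 F377813) D196112 (iv2 F377810)
theorem F399464 : act 4 n183477 = n196112 := d11_3 F399463 (iv4 F295060) D183477
def n196113 : Q := act 5 n106661
theorem D196113 : act 5 n106661 = n196113 := rfl
theorem F399465 : act 3 n196113 = n106662 := d6_1 D196113 (iv5 D106662) (iv3 F164299)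
theorem F399466 : act 6 n196113 = n131797 := d12_2 D106661 D196113 (iv5 F349617) F343661 F164267
theorem F399467 : act 4 n196113 = n189774 := d18_5 (iv1 F367853) F367847 (iv1 D134913) (iv4 F164300) D196113 (iv0 D189774) (iv4 F147848) D190555 F380127
theorem F399468 : act 0 n196113 = n131859 := d21_7 F219256 (iv1 F93375) D126225 (iv6 F349652) (iv1 D106659) D106661 D196113 (iv5 F360821) (iv6 D113265) D113262
theorem F399469 : act 5 n113266 = n196087 := d21_8 D106641 (iv1 F164258) F349617 (iv6 F399466) F399468 (iv6 F328354) (iv5 D113268) D113266 (iv6 D196087) F330446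
theorem F399470 : act 2 n196093 = n113266 := d2_3 F399469 F399361 D196093
theorem F399471 : act 2 n170826 = n157860 := d1_3 F399375 F399470 F334363
theorem F399472 : act 7 n113267 = n196093 := d15_2 (iv0 D113266) D113267 F399470
theorem F399473 : act 7 n189803 = n190652 := d8_2 F399472 F399374 F380454
theorem F399474 : act 7 n157860 = n170827 := d11_2 F399472 (iv4 F399375) F365757
theorem F399475 : act 5 n196094 = n113267 := d13_3 F399472 (iv5 D196093) D196094
theorem F399476 : act 2 n170827 = n157859 := d15_3 (iv0 D157859) D157860 F399474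
theorem F399477 : act 7 n170826 = n157859 := d4_2 (iv7 F399474) (iv2 F399471) (iv2 F399476)
theorem F399478 : act 2 n190652 = n189804 := d15_3 F380463 F380461 F399473
theorem F399479 : act 2 n189803 = n190653 := d15_3 F380462 F380455 (iv7 F399473)
theorem F399480 : act 6 n190653 = n181695 := d3_2 (iv6 F377809) F399479 (iv2 F367214)
theorem F399481 : act 7 n190653 = n189804 := d4_2 (iv7 F399473) F399479 (iv2 F399478)
def n196114 : Q := act 7 n106661
theorem D196114 : act 7 n106661 = n196114 := rfl
theorem F399482 : act 2 n196114 = n182776 := d4_1 D196114 F399461 F399457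
theorem F399483 : act 3 n196114 = n106663 := d8_1 D196114 (iv7 D106663) (iv3 F164299)
theorem F399484 : act 4 n196114 = n134915 := d11_1 D196114 (iv7 D134915) (iv4 F164300)
theorem F399485 : act 6 n196114 = n195958 := d14_1 D196114 (iv7 D195958) (iv6 D106476) (iv7 F77881) D106661
theorem F399486 : act 0 n169937 = n196114 := d20_7 (iv4 F173148) F168450 (iv4 F167593) (iv3 F384453) F384455 F285220 F295060 F399484 F217111 (iv1 F173145)
def n196115 : Q := act 7 n106662
theorem D196115 : act 7 n106662 = n196115 := rfl
theorem F399487 : act 2 n196115 = n195941 := d4_1 D196115 (iv7 D195941) (iv2 F164301)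
theorem F399488 : act 4 n196115 = n195857 := d11_1 D196115 F398480 (iv4 F343624)
theorem F399489 : act 5 n196115 = n106663 := d13_1 D196115 (iv7 D106663) D106662
theorem F399490 : act 1 n114963 = n196115 := d15_1 (iv0 F342962) (iv7 D196115) F164301
theorem F399491 : act 1 n196115 = n195940 := d15_1 F399490 F398786 (iv2 F342963)
theorem F399492 : act 0 n126580 = n191585 := d20_7 (iv4 F399488) (iv1 F399490) F179055 (iv3 F179020) F336809 F218088 (iv4 F203603) F383900 (iv3 F397804) (iv1 F398479)
def n196116 : Q := act 5 n106671
theorem D196116 : act 5 n106671 = n196116 := rfl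
theorem F399493 : act 2 n196116 = n195948 := d2_1 D196116 (iv5 D195948) (iv2 F342968)
theorem F399494 : act 4 n196116 = n137287 := d9_1 D196116 (iv5 D137287) D137286 (iv5 F220430) F356045 (iv5 F342977) F338514 (iv5 F376344) F376343 (iv5 D137284) D137283 (iv5 F356060) (iv4 F201893) (iv5 F342980) F342979
theorem F399495 : act 7 n196116 = n195950 := d13_2 F342972 D196116 (iv5 D195950)
theorem F399496 : act 1 n194142 = n196116 := d15_1 (iv0 F392183) F399495 F398831
def n196117 : Q := act 3 n106674
theorem D196117 : act 3 n106674 = n196117 := rfl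
theorem F399497 : act 7 n196117 = n191555 := d8_2 F341609 D196117 F383792
theorem F399498 : act 4 n196117 = n131789 := d20_6 F46955 (iv1 F37616) D24056 D49288 D106674 D196117 (iv1 D131789) F96394 (iv3 D29311) D29309
theorem F399499 : act 1 n190535 = n196117 := d18_6 (iv1 F333149) D193989 F391654 F367292 (iv5 F147809) (iv4 F380020) F399498 F245958 F245954
def n196118 : Q := act 4 n106674
theorem D196118 : act 4 n106674 = n196118 := rfl
theorem F399500 : act 2 n196118 = n195938 := d1_1 D196118 (iv4 D195938) (iv2 F341610)
theorem F399501 : act 3 n196118 = n129654 := d5_1 D196118 (iv4 F380834) (iv3 F380836) (iv4 F399498) (iv3 D196117)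
theorem F399502 : act 7 n196118 = n195937 := d11_2 F341609 D196118 (iv4 D195937)
theorem F399503 : act 5 n196118 = n132402 := d16_1 D196118 F326566 (iv5 F106068) F177816 F78001 D106761 F322877 F341612 (iv2 F341610)
def n196119 : Q := act 6 n106674
theorem D196119 : act 6 n106674 = n196119 := rfl
theorem F399504 : act 2 n196119 = n195696 := d3_1 D196119 F397887 (iv2 F341610)
theorem F399505 : act 5 n195695 = n196119 := d2_0 F399504 (iv5 D195696) D195695
def n196120 : Q := act 3 n106675
theorem D196120 : act 3 n106675 = n196120 := rfl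
theorem F399506 : act 7 n196120 = n195701 := d8_2 (iv7 F341612) D196120 F397891
def n196121 : Q := act 4 n106675
theorem D196121 : act 4 n106675 = n196121 := rfl
theorem F399507 : act 2 n196121 = n195937 := d1_1 D196121 (iv4 D195937) F341611
theorem F399508 : act 5 n196121 = n148725 := d9_2 F322877 D196121 (iv4 D148725) (iv5 F114609) F177835 (iv5 F163479) D106758 (iv5 F341608) D196118 F399503 F326566 (iv5 F106068) F177816 F78001 D106761
theorem F399509 : act 7 n196121 = n195938 := d11_2 (iv7 F341612) D196121 (iv4 D195938)
theorem F399510 : act 3 n196121 = n126473 := d20_3 F217867 (iv1 F164362) D196121 (iv1 F203525) F203523 F96837 (iv1 F47142) D60777 D129315 (iv1 F217870)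
def n196122 : Q := act 6 n106676
theorem D196122 : act 6 n106676 = n196122 := rfl
theorem F399511 : act 2 n196122 = n106677 := d3_1 D196122 (iv6 D106677) D106676
theorem F399512 : act 3 n196122 = n195955 := d7_1 D196122 (iv6 D195955) (iv3 F164359)
def n196123 : Q := act 0 n106677
theorem D196123 : act 0 n106677 = n196123 := rfl
theorem F399513 : act 3 n196123 = n137555 := d20_5 F96475 (iv1 D49291) (iv4 F77901) (iv3 F164364) D196123 F386022 (iv1 D192212) (iv4 F380030) F380029 (iv1 F163851)
theorem F399514 : act 6 n196123 = n129094 := d21_5 (iv5 F399203) (iv1 F399208) F164271 D106677 D196123 (iv5 D129094) F102058 D106804 F325491 (iv1 F164233)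
def n196124 : Q := act 1 n106677
theorem D196124 : act 1 n106677 = n196124 := rfl
def n196125 : Q := act 5 n106677
theorem D196125 : act 5 n106677 = n196125 := rfl
theorem F399515 : act 3 n196125 = n106678 := d6_1 D196125 (iv5 D106678) (iv3 F164364)
def n196126 : Q := act 7 n106677
theorem D196126 : act 7 n106677 = n196126 := rfl
theorem F399516 : act 3 n196126 = n106679 := d8_1 D196126 (iv7 D106679) (iv3 F164364)
theorem F399517 : act 6 n196126 = n191615 := d14_1 D196126 F383974 (iv6 D106456) (iv7 F77899) D106677
def n196127 : Q := act 4 n106678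
theorem D196127 : act 4 n106678 = n196127 := rfl
theorem F399518 : act 2 n196127 = n125541 := d1_1 D196127 F349576 (iv2 F164365)
theorem F399519 : act 5 n196127 = n125540 := d9_2 D106678 D196127 (iv4 F219309) F349563 F209118 F95712 (iv4 F163720) F349561 (iv4 D125773) (iv5 D58896) (iv4 F93107) (iv5 F344598) F97594 F47512 (iv4 F77901)
theorem F399520 : act 7 n196127 = n125769 := d11_2 F360461 D196127 (iv4 F360466)
theorem F399521 : act 0 n196127 = n125772 := d18_2 (iv1 F360481) D196127 F349554 F349560 (iv4 F214402) (iv0 F214405) (iv4 F207319) F211503 (iv5 F360479)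
theorem F399522 : act 1 n196127 = n108909 := d18_6 (iv1 F163851) F96475 (iv1 D49291) (iv4 F77901) D106678 D196127 (iv4 F201946) F399173 F399172
theorem E103647 : n125926 = n125571 := (c21_4 F399519 (iv1 F201932) (iv5 F362566) F362567 (iv1 D125571) (iv6 D58790) (iv5 D27952) F38504 D50285 D108909 (iv1 F399522))
theorem F399523 : act 2 n125571 = n58957 := (sb E103647 F202408)
theorem F399524 : act 6 n125571 = n125681 := (sb E103647 (iv6 F362567))
theorem F399525 : act 7 n125571 = n58956 := (sb E103647 (iv7 D125926))
theorem E103648 : n125921 = n125570 := (c15_4 (iv0 D125570) D125571 F399525 D125921)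
theorem F399526 : act 2 n125570 = n58956 := (sb E103648 (iv2 D125921))
theorem F399527 : act 7 n125570 = n58957 := (sb E103648 (iv7 F202407))
theorem F399528 : act 3 n125718 = n196127 := d6_3 F399519 F201929 D125718
def n196128 : Q := act 0 n106683
theorem D196128 : act 0 n106683 = n196128 := rfl
theorem F399529 : act 4 n196128 = n113020 := d18_3 (iv1 D106682) D106683 D196128 (iv5 F176066) F83226 (iv0 F50510) (iv4 F37656) D49297 (iv5 F164382)
theorem F399530 : act 1 n189296 = n196128 := d15_0 (iv0 D196128) F164386 (iv2 F376358)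
theorem F399531 : act 2 n113024 = n196128 := d1_3 F399529 F176067 D113024
theorem F399532 : act 7 n113023 = n196128 := d11_0 F399529 F176065 D113023
def n196129 : Q := act 1 n106683
theorem D196129 : act 1 n106683 = n196129 := rfl
theorem F399533 : act 1 n196129 = n189296 := d15_1 D196129 F376360 (iv2 F164385)
theorem F399534 : act 7 n196129 = n113024 := d15_2 (iv0 D196128) D196129 F399531
theorem F399535 : act 4 n196129 = n113019 := d18_7 (iv1 F65043) (iv4 F65295) F65297 F38876 D49293 D106683 D196129 (iv0 D113019) (iv5 D52167)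
theorem F399536 : act 3 n112997 = n196129 := d20_3 (iv4 F214521) (iv1 F214525) (iv4 F340030) (iv1 D196129) (iv3 F399394) (iv4 D196098) F399278 F399277 F392223 (iv1 F176240)
theorem F399537 : act 2 n113023 = n196129 := d1_3 F399535 (iv2 F176061) D113023
theorem F399538 : act 6 n176739 = n196129 := d10_0 F399535 F369273 F369277
def n196130 : Q := act 5 n106683
theorem D196130 : act 5 n106683 = n196130 := rfl
theorem F399539 : act 2 n196130 = n189636 := d2_1 D196130 (iv5 D189636) (iv2 F164385)
theorem F399540 : act 3 n196130 = n190504 := d6_1 D196130 F399397 F399394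
theorem F399541 : act 6 n196130 = n137084 := d12_2 (iv6 F349638) D196130 F340520 (iv6 F352891) F352892
theorem F399542 : act 7 n196130 = n189640 := d13_2 (iv7 F164386) D196130 (iv5 D189640)
theorem F399543 : act 4 n196130 = n189336 := d16_2 D106683 D196130 F376425 (iv4 D119065) (iv5 D54792) (iv4 F68990) D93870 F144699 (iv2 F77915)
def n196131 : Q := act 3 n106685
theorem D196131 : act 3 n106685 = n196131 := rfl
theorem F399544 : act 7 n196131 = n195970 := d8_2 (iv7 F398897) D196131 (iv3 D195970)
theorem F399545 : act 0 n196131 = n142489 := d20_4 (iv4 F96439) D131848 (iv4 F343654) D196131 F356959 (iv4 D95949) (iv1 D44782) D44783 D95954 F356951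
theorem F399546 : act 0 n110759 = n196131 := d20_4 (iv4 D61290) F83589 (iv4 F178689) F356874 (iv3 D196131) F343654 F349622 (iv4 F333532) F333531 F163781
def n196132 : Q := act 5 n106685
theorem D196132 : act 5 n106685 = n196132 := rfl
theorem F399547 : act 2 n196132 = n195968 := d2_1 D196132 (iv5 D195968) (iv2 F398896)
theorem F399548 : act 7 n196132 = n195270 := d13_2 (iv7 F398897) D196132 (iv5 F396527)
theorem F399549 : act 4 n196132 = n132173 := d16_2 (iv4 F343654) D196132 (iv5 D132173) (iv4 F98445) (iv5 F203451) F203450 (iv5 F342925) F398895 F398898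
theorem F399550 : act 0 n115031 = n196132 := d21_10 (iv5 D196132) (iv1 F164393) (iv5 F179157) (iv6 F250854) (iv1 F250856) F250852 (iv5 F258826) (iv1 D164207) F120056 D115031
def n196133 : Q := act 6 n106685
theorem D196133 : act 6 n106685 = n196133 := rfl
theorem F399551 : act 2 n196133 = n195969 := d3_1 D196133 (iv6 D195969) (iv2 F398896)
theorem F399552 : act 4 n196133 = n196078 := d10_1 D196133 F399339 (iv4 F343654)
theorem F399553 : act 5 n196133 = n195983 := d21_6 F77702 (iv1 F37641) D24059 D49294 D106685 D196133 (iv1 D195983) (iv5 D106495) (iv6 D49211) (iv1 F77700)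
theorem F399554 : act 2 n195983 = n151239 := d2_1 F399553 (iv5 F398902) (iv2 F399551)
theorem F399555 : act 0 n187181 = n196133 := d21_10 F399553 (iv1 D195983) (iv5 D106495) (iv6 D49211) (iv1 F77700) (iv6 F114664) (iv5 D76498) F294537 (iv5 F137621) D187181
theorem F399556 : act 7 n151238 = n195983 := d15_2 F398963 F398964 F399554
theorem F399557 : act 7 n195982 = n151239 := d15_2 F398954 F398962 (iv2 F399554)
theorem F399558 : act 2 n151238 = n195982 := d4_3 F399557 (iv2 F399554) (iv7 F399556)
def n196134 : Q := act 5 n106686
theorem D196134 : act 5 n106686 = n196134 := rfl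
theorem F399559 : act 2 n196134 = n195270 := d2_1 D196134 (iv5 F396527) (iv2 F398894)
theorem F399560 : act 3 n196134 = n187867 := d6_1 D196134 F371719 (iv3 F351269)
theorem F399561 : act 4 n196134 = n195268 := d9_1 D196134 (iv5 D195268) (iv4 F203505) (iv5 F332609) (iv4 F332617) (iv5 F349623) (iv4 F343654) D196132 F399549 (iv5 D132173) (iv4 F98445) (iv5 F203451) F203450 (iv5 F342925) F343659
theorem F399562 : act 7 n196134 = n195968 := d13_2 F398893 D196134 (iv5 D195968)
theorem F399563 : act 6 n115055 = n196134 := d21_5 (iv5 D34941) (iv1 F46283) F46282 D53090 D115055 (iv5 D196134) (iv1 D106686) (iv5 F114191) (iv6 D76222) (iv1 F55307)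
theorem F399564 : act 2 n159352 = n115055 := d3_3 F399563 F399559 F396528
theorem F399565 : act 7 n115056 = n159352 := d15_2 (iv0 D115055) D115056 F399564
theorem F399566 : act 7 n159353 = n115055 := d15_2 (iv0 D159352) D159353 (iv2 F399564)
theorem F399567 : act 2 n115056 = n159353 := d4_3 F399566 (iv2 F399564) (iv7 F399565)
theorem F399568 : act 1 n115031 = n196134 := d15_1 (iv0 F399550) F399562 (iv2 F399547)
def n196135 : Q := act 6 n106686
theorem D196135 : act 6 n106686 = n196135 := rfl
theorem F399569 : act 2 n196135 = n195972 := d3_1 D196135 (iv6 D195972) (iv2 F398894)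
theorem F399570 : act 3 n196135 = n189683 := d7_1 D196135 F377387 (iv3 F351269)
theorem F399571 : act 0 n110780 = n196135 := d21_4 (iv5 D121344) (iv1 F161883) (iv5 F161768) D110780 (iv6 D196135) D196134 (iv1 F399568) (iv5 F258819) (iv6 D164206) F193558
def n196136 : Q := act 6 n106689
theorem D196136 : act 6 n106689 = n196136 := rfl
theorem F399572 : act 2 n196136 = n195977 := d3_1 D196136 (iv6 D195977) F332843
theorem F399573 : act 3 n196136 = n135643 := d7_1 D196136 (iv6 F399115) F399114
theorem F399574 : act 4 n196136 = n190646 := d10_1 D196136 (iv6 F380441) (iv4 F332842)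
theorem F399575 : act 5 n196136 = n135640 := d12_1 D196136 (iv6 D135640) (iv5 F333527) D195131 F395895
def n196137 : Q := act 3 n106692
theorem D196137 : act 3 n106692 = n196137 := rfl
theorem F399576 : act 7 n196137 = n195980 := d8_2 (iv7 F248595) D196137 (iv3 D195980)
def n196138 : Q := act 6 n106692
theorem D196138 : act 6 n106692 = n196138 := rfl
theorem F399577 : act 2 n196138 = n151644 := d3_1 D196138 F342970 F248596
theorem F399578 : act 5 n196138 = n149995 := d21_6 F37996 (iv1 F18636) D24062 D49301 D106692 D196138 (iv1 D149995) F107026 (iv6 D49287) (iv1 F37998)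
def n196139 : Q := act 4 n106697
theorem D196139 : act 4 n106697 = n196139 := rfl
theorem F399579 : act 2 n196139 = n189314 := d1_1 D196139 F376395 F164424
theorem F399580 : act 7 n196139 = n186666 := d11_2 (iv7 F164426) D196139 (iv4 D186666)
theorem F399581 : act 0 n196139 = n188817 := d18_2 D106697 D196139 (iv4 D188817) (iv5 D92819) (iv4 F97629) F97631 F95742 (iv0 D49302) D49304
theorem F399582 : act 1 n196139 = n130607 := d18_6 F65507 F47671 F52367 (iv4 F80506) (iv5 F164423) D196139 (iv4 D130607) (iv0 F95763) (iv5 D43843)
def n196140 : Q := act 0 n106698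
theorem D196140 : act 0 n106698 = n196140 := rfl
def n196141 : Q := act 7 n106698
theorem D196141 : act 7 n106698 = n196141 := rfl
theorem F399583 : act 2 n196141 = n194006 := d4_1 D196141 F391735 F376620
theorem F399584 : act 3 n196141 = n106701 := d8_1 D196141 (iv7 D106701) (iv3 F164430)
theorem F399585 : act 5 n196141 = n113684 := d13_1 D196141 (iv7 D113684) (iv5 F164431)
theorem F399586 : act 6 n196141 = n195999 := d14_1 D196141 (iv7 D195999) (iv6 D106509) (iv7 F77945) D106698
theorem F399587 : act 1 n194006 = n196140 := d15_0 (iv0 D196140) D196141 F399583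
def n196142 : Q := act 6 n106699
theorem D196142 : act 6 n106699 = n196142 := rfl
theorem F399588 : act 2 n196142 = n195990 := d3_1 D196142 (iv6 D195990) F349632
theorem F399589 : act 4 n196142 = n126237 := d10_1 D196142 F203010 (iv4 F332825)
theorem F399590 : act 0 n196142 = n131984 := d21_4 (iv5 F398485) (iv1 F398487) F397803 D196142 F372181 (iv5 D188030) (iv1 F251871) D188720 F374557 F379823
theorem F399591 : act 5 n196142 = n115078 := d21_6 (iv5 D11300) D11297 D24065 D49305 D106699 D196142 (iv1 D115078) F83802 (iv6 D49328) (iv1 D24074)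
theorem F399592 : act 0 n159600 = n196142 := d21_4 F37693 D34885 D76356 D159600 (iv6 D196142) (iv5 F397803) (iv1 D195672) (iv5 F164568) (iv6 D106762) (iv1 D49332)
theorem F399593 : act 2 n115078 = n159376 := d2_1 F399591 (iv5 F398988) (iv2 F399588)
theorem F399594 : act 7 n159375 = n115078 := d15_2 F250919 F250923 F399593
theorem F399595 : act 7 n115077 = n159376 := d15_2 F250924 F250925 (iv2 F399593)
theorem F399596 : act 2 n159375 = n115077 := d4_3 F399595 (iv2 F399593) (iv7 F399594)
theorem F399597 : act 3 n115078 = n127827 := d8_1 F399594 F395867 F364998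
def n196143 : Q := act 3 n106700
theorem D196143 : act 3 n106700 = n196143 := rfl
theorem F399598 : act 4 n196143 = n190404 := d5_2 (iv4 F343626) D196143 F379685 F369682 F365683
theorem F399599 : act 7 n196143 = n195989 := d8_2 F349634 D196143 (iv3 D195989)
theorem F399600 : act 0 n196143 = n106713 := d19_4 F163884 (iv5 F176598) (iv4 F343626) D196143 (iv5 F397997) F397996 F267341 (iv1 F132069) (iv5 D86125) (iv4 D39864) F326233 F79859 F325939 (iv4 F28087) F28088 (iv1 F16939) D19159 D40560 F326752
theorem F399601 : act 6 n190403 = n196143 := d10_0 F399598 (iv6 D190404) D190403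
def n196144 : Q := act 6 n106700
theorem D196144 : act 6 n106700 = n196144 := rfl
theorem F399602 : act 2 n196144 = n195992 := d3_1 D196144 (iv6 D195992) F349628
theorem F399603 : act 3 n196144 = n190403 := d7_1 D196144 F399601 (iv3 D196143)
def n196145 : Q := act 3 n106702
theorem D196145 : act 3 n106702 = n196145 := rfl
theorem F399604 : act 7 n196145 = n196002 := d8_2 (iv7 F205547) D196145 (iv3 D196002)
theorem F399605 : act 0 n106719 = n196145 := d20_4 (iv4 D151940) (iv1 F114856) (iv4 F114857) (iv3 F334834) (iv3 D196145) (iv4 F364644) (iv1 D106846) F325498 F324329 (iv1 F238927)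
theorem F399606 : act 6 n196145 = n190391 := d21_5 F82408 (iv1 F77408) D49316 D106719 F399605 F379650 F318237 (iv5 F164508) (iv6 D106725) (iv1 F82412)
theorem F399607 : act 4 n190392 = n196145 := d10_3 F399606 (iv4 D190391) D190392
def n196146 : Q := act 5 n106702
theorem D196146 : act 5 n106702 = n196146 := rfl
theorem F399608 : act 2 n196146 = n196001 := d2_1 D196146 (iv5 D196001) (iv2 F205549)
theorem F399609 : act 7 n196146 = n127787 := d13_2 (iv7 F205547) D196146 F205545
def n196147 : Q := act 6 n106702
theorem D196147 : act 6 n106702 = n196147 := rfl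
theorem F399610 : act 2 n196147 = n114235 := d3_1 D196147 F364647 (iv2 F205549)
theorem F399611 : act 3 n196147 = n190391 := d7_1 D196147 (iv6 F399606) (iv3 D196145)
theorem F399612 : act 7 n196147 = n195647 := d14_2 (iv7 F205547) D196147 F397719 (iv7 F251388) (iv6 F251390)
theorem F399613 : act 5 n196147 = n114233 := d21_6 F37559 (iv1 F18432) D24066 D49306 D106702 D196147 F290564 F114326 (iv6 D49326) (iv1 F37684)
def n196148 : Q := act 0 n106704
theorem D196148 : act 0 n106704 = n196148 := rfl
theorem F399614 : act 5 n196148 = n189515 := d17_3 (iv1 D106703) D106704 D196148 F395356 (iv5 D106841) F164641 (iv5 F325496) F325493 F364643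
theorem F399615 : act 3 n190475 = n196148 := d6_3 F399614 F395355 D190475
theorem F399616 : act 2 n196148 = n196003 := d0_1 F399615 (iv3 F399028) (iv2 F398546) (iv3 F379603) (iv2 F379855)
theorem F399617 : act 7 n196004 = n196148 := d15_2 (iv0 D196003) D196004 F399616
theorem F399618 : act 3 n183164 = n196004 := d8_3 F399617 (iv3 F399615) F379858
theorem F399619 : act 6 n196004 = n183162 := d7_2 D183164 F399618 F284757
def n196149 : Q := act 1 n106704
theorem D196149 : act 1 n106704 = n196149 := rfl
theorem F399620 : act 1 n196149 = n196005 := d15_1 D196149 (iv7 D196005) (iv2 F164440)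
theorem F399621 : act 7 n196149 = n196003 := d15_2 (iv0 D196148) D196149 (iv2 F399616)
theorem F399622 : act 5 n196149 = n189514 := d17_7 F399341 (iv5 D196078) F399238 (iv5 D196052) F164151 D106704 D196149 (iv0 D189514) (iv4 F376777)
theorem F399623 : act 3 n159484 = n196149 := d6_3 F399622 (iv3 F399075) F377583
theorem F399624 : act 2 n196149 = n196004 := d0_1 F399623 (iv3 F399618) F284760 (iv3 F398551) (iv2 F398552)
theorem F399625 : act 1 n196005 = n196148 := d15_1 F399620 (iv7 F399617) (iv2 F399624)
def n196150 : Q := act 4 n106704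
theorem D196150 : act 4 n106704 = n196150 := rfl
theorem F399626 : act 2 n196150 = n151242 := d1_1 D196150 F237972 (iv2 F164440)
theorem F399627 : act 6 n196150 = n106706 := d10_2 (iv6 F164441) D196150 (iv4 D106706)
def n196151 : Q := act 7 n106704
theorem D196151 : act 7 n106704 = n196151 := rfl
theorem F399628 : act 2 n196151 = n196005 := d4_1 D196151 (iv7 D196005) (iv2 F164440)
theorem F399629 : act 5 n196151 = n106705 := d13_1 D196151 (iv7 D106705) D106704
theorem F399630 : act 6 n196151 = n113640 := d14_1 D196151 (iv7 D113640) F82827 (iv7 F77950) (iv6 F164441)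
theorem F399631 : act 1 n196004 = n196151 := d15_1 D196004 (iv7 D196151) F164440
theorem F399632 : act 1 n196151 = n196003 := d15_1 F399631 (iv7 F399621) F399624
def n196152 : Q := act 3 n106706
theorem D196152 : act 3 n106706 = n196152 := rfl
theorem F399633 : act 5 n196152 = n151241 := d6_2 (iv5 F164448) D196152 (iv3 D151241)
theorem F399634 : act 7 n196152 = n113641 := d8_2 (iv7 F164449) D196152 (iv3 D113641)
def n196153 : Q := act 4 n106707
theorem D196153 : act 4 n106707 = n196153 := rfl
theorem F399635 : act 2 n196153 = n106712 := d1_1 D196153 (iv4 D106712) (iv2 F164452)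
theorem F399636 : act 7 n196153 = n106718 := d11_2 (iv7 F164454) D196153 (iv4 D106718)
theorem F399637 : act 0 n196153 = n190017 := d17_0 F378572 F356903 F356902 (iv4 D106724) F77977 (iv0 F77896) (iv5 F340330) F340327 D196153
theorem F399638 : act 1 n196153 = n189295 := d18_6 F114392 F171419 (iv1 D110745) F80519 D106707 D196153 (iv4 D189295) (iv0 F164490) (iv5 D106717)
def n196154 : Q := act 6 n106708
theorem D196154 : act 6 n106708 = n196154 := rfl
theorem F399639 : act 2 n196154 = n107898 := d3_1 D196154 (iv6 D107898) (iv2 F164457)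
theorem F399640 : act 3 n196154 = n106713 := d7_1 D196154 (iv6 D106713) (iv3 F164458)
theorem F399641 : act 5 n196154 = n144854 := d12_1 D196154 (iv6 D144854) (iv5 D67897) F77956 D106708
def n196155 : Q := act 6 n106710
theorem D196155 : act 6 n106710 = n196155 := rfl
theorem F399642 : act 3 n196155 = n131114 := d7_1 D196155 (iv6 D131114) (iv3 F164467)
def n196156 : Q := act 5 n106711
theorem D196156 : act 5 n106711 = n196156 := rfl
theorem F399643 : act 2 n196156 = n113820 := d2_1 D196156 F177094 (iv2 F164469)
theorem F399644 : act 3 n196156 = n113843 := d6_1 D196156 F177135 (iv3 F164470)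
theorem F399645 : act 7 n196156 = n113831 := d13_2 (iv7 F164472) D196156 F177121
theorem F399646 : act 0 n196156 = n113790 := d17_2 (iv1 F164474) D196156 (iv5 D113790) (iv4 F139336) D187755 (iv0 F371416) F177094 D144765 (iv4 F227635)
theorem F399647 : act 1 n196156 = n113772 := d17_6 (iv1 F77491) (iv5 F77518) (iv1 F163269) (iv5 F163271) (iv4 F164471) D196156 (iv5 D113772) (iv0 F82953) (iv4 F77492)
theorem F399648 : act 4 n196156 = n195738 := d18_5 (iv1 D49678) F37980 F77960 (iv4 F164471) D196156 F397999 F163287 F163264 (iv5 F163265)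
def n196157 : Q := act 3 n106712
theorem D196157 : act 3 n106712 = n196157 := rfl
theorem F399649 : act 0 n196157 = n189738 := d19_4 D24068 D49311 D106712 D196157 (iv5 F394500) F394499 F206902 (iv1 F95135) (iv5 D60518) (iv4 D28741) F23230 (iv1 F23228) (iv5 D6633) (iv4 F10250) (iv3 F10251) (iv1 D2139) D2140 D5216 D11299
def n196158 : Q := act 5 n106712
theorem D196158 : act 5 n106712 = n196158 := rfl
theorem F399650 : act 6 n196158 = n176707 := d21_3 F380399 F376127 D196158 (iv1 F328210) (iv6 D109258) D109257 (iv1 F393870) F393871 (iv6 F363523) (iv1 F380402)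
theorem F399651 : act 0 n164120 = n196158 := d19_0 (iv5 D196158) (iv4 D106712) (iv3 F164458) F164460 (iv5 D71419) (iv4 D33045) F25398 F53960 D33363 (iv4 F310148) F57440 (iv1 F116614) (iv5 F300356) (iv4 F322742) (iv3 F323083) (iv1 F324516) (iv5 D78844) D78843 D164120
theorem F399652 : act 1 n194925 = n196158 := d15_0 (iv0 F399651) (iv7 F394573) (iv2 F395026)
theorem F399653 : act 7 n176727 = n196158 := d14_0 F399650 F358412 (iv6 F358104) F348780 D176727
def n196159 : Q := act 6 n106712
theorem D196159 : act 6 n106712 = n196159 := rfl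
theorem F399654 : act 4 n196159 = n106713 := d10_1 D196159 (iv6 D106713) D106712
def n196160 : Q := act 7 n106712
theorem D196160 : act 7 n106712 = n196160 := rfl
theorem F399655 : act 2 n196160 = n106718 := d4_1 D196160 (iv7 F399636) F399635
theorem F399656 : act 4 n196160 = n106714 := d11_1 D196160 (iv7 D106714) D106712
theorem F399657 : act 5 n196160 = n176727 := d13_1 D196160 F399653 (iv5 D196158)
theorem F399658 : act 1 n189295 = n196160 := d15_1 F399638 (iv7 D196160) (iv2 F399635)
theorem F399659 : act 1 n196160 = n190017 := d15_1 F399658 F378573 (iv2 F376354)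
def n196161 : Q := act 0 n106713
theorem D196161 : act 0 n106713 = n196161 := rfl
theorem F399660 : act 6 n196161 = n190343 := d21_5 (iv5 D24071) D24068 D49311 D106713 D196161 F379467 (iv1 F383116) F383113 (iv6 D106727) (iv1 D49320)
theorem F399661 : act 2 n195989 = n196161 := d15_3 (iv0 D196161) (iv0 F399600) F399599
theorem F399662 : act 3 n133392 = n196161 := d7_3 F399660 F379468 F367249
theorem F399663 : act 4 n190344 = n196161 := d10_3 F399660 (iv4 D190343) D190344
theorem F399664 : act 2 n130599 = n133392 := d0_5 F399662 (iv2 F399661) (iv3 D195989) F349632 (iv3 F377276)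
theorem F399665 : act 7 n133392 = n130600 := d4_2 F398991 F399664 (iv2 F398992)
theorem E103649 : n195991 = n133393 := ((c15_2 (iv0 D133392) D133393 F398991 F399664)).symm
theorem F399666 : act 2 n133393 = n130600 := (sb E103649 F398992)
theorem F399667 : act 3 n133393 = n106503 := (sb E103649 (iv3 D195991))
theorem F399668 : act 7 n133393 = n130599 := (sb E103649 F398991)
def n196162 : Q := act 7 n106713
theorem D196162 : act 7 n106713 = n196162 := rfl
def n196163 : Q := act 6 n106714
theorem D196163 : act 6 n106714 = n196163 := rfl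
theorem F399669 : act 2 n196163 = n106719 := d3_1 D196163 (iv6 D106719) (iv2 F164475)
theorem F399670 : act 3 n196163 = n107916 := d7_1 D196163 (iv6 D107916) (iv3 F164476)
def n196164 : Q := act 6 n106717
theorem D196164 : act 6 n106717 = n196164 := rfl
theorem F399671 : act 4 n196164 = n188462 := d10_1 D196164 (iv6 F379631) F379630
def n196165 : Q := act 3 n106718
theorem D196165 : act 3 n106718 = n196165 := rfl
theorem F399672 : act 0 n188218 = n196165 := d20_4 (iv4 F370134) F347529 F284452 (iv3 F372715) (iv3 D196165) (iv4 D106718) F163359 F340332 F363597 (iv1 F370131)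
theorem F399673 : act 5 n196165 = n174274 := d17_1 F399672 (iv1 F398640) F398637 F377429 F238452 F238455 D195201 (iv0 F396227) (iv4 F372716)
theorem F399674 : act 6 n196128 = n196165 := d21_5 F96053 D107115 F352892 (iv6 F349638) D196128 F399673 (iv1 F398640) F398637 F377430 (iv1 D131138)
def n196166 : Q := act 5 n106718
theorem D196166 : act 5 n106718 = n196166 := rfl
theorem F399675 : act 2 n196166 = n176727 := d2_1 D196166 (iv5 F399657) F399655
theorem F399676 : act 3 n196166 = n174274 := d6_1 D196166 (iv5 F399673) (iv3 D196165)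
theorem F399677 : act 0 n196166 = n164120 := d18_0 (iv4 F394572) F394574 F395344 (iv5 D194997) (iv4 F340321) F171426 D189216 F376128 D196166
theorem F399678 : act 6 n196166 = n158869 := d21_3 (iv5 F147687) (iv1 F363520) D196166 (iv1 D158869) (iv6 F340710) D189934 (iv1 F378747) (iv5 F378751) F378723 (iv1 D185467)
theorem F399679 : act 0 n194925 = n196166 := d21_10 (iv5 D196166) (iv1 F376128) (iv5 F380399) (iv6 D190634) F148098 F343703 (iv5 F337359) (iv1 F362527) (iv5 F362525) D194925
def n196167 : Q := act 6 n106718
theorem D196167 : act 6 n106718 = n196167 := rfl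
theorem F399680 : act 3 n196167 = n196128 := d7_1 D196167 F399674 (iv3 D196165)
theorem F399681 : act 4 n196167 = n106719 := d10_1 D196167 (iv6 D106719) D106718
theorem F399682 : act 0 n196167 = n190504 := d19_4 F83227 F176066 (iv4 F399529) (iv3 F399680) F399397 (iv4 D196098) (iv3 D106647) (iv1 F77865) F37690 F23244 F10758 (iv1 F4675) (iv5 F5086) F3606 (iv3 F3603) D5446 F10887 D14061 D29605
def n196168 : Q := act 1 n106719
theorem D196168 : act 1 n106719 = n196168 := rfl
def n196169 : Q := act 7 n106719
theorem D196169 : act 7 n106719 = n196169 := rfl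
theorem F399683 : act 3 n196169 = n151450 := d8_1 D196169 (iv7 F238200) (iv3 F334834)
theorem F399684 : act 0 n196169 = n196002 := d20_4 F165935 (iv1 F166719) (iv4 F238197) (iv3 F399683) (iv3 D196002) F364642 (iv1 D107563) F324327 F322881 D107552
theorem F399685 : act 1 n196163 = n196002 := d15_0 (iv0 F399684) (iv7 D196169) (iv2 F399669)
def n196170 : Q := act 4 n106721
theorem D196170 : act 4 n106721 = n196170 := rfl
theorem F399686 : act 2 n196170 = n106726 := d1_1 D196170 (iv4 D106726) (iv2 F164501)
theorem F399687 : act 5 n196170 = n185467 := d9_2 F164500 D196170 (iv4 F363525) D194933 F395070 (iv5 D106287) F77570 D49126 D106293 (iv5 F363521) F363515 (iv5 F160520) F340310 F178637 F83553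
theorem F399688 : act 6 n196170 = n189848 := d10_2 F348080 D196170 F377981
theorem F399689 : act 7 n196170 = n106724 := d11_2 (iv7 F164499) D196170 (iv4 D106724)
theorem F399690 : act 0 n196170 = n195813 := d18_2 (iv1 F164498) D196170 F398293 F178634 F171419 F171417 F95767 (iv0 F77964) (iv5 F77984)
theorem F399691 : act 1 n196170 = n195812 := d18_6 F69408 (iv4 F68985) F83554 F83553 F164500 D196170 F398290 (iv0 D114557) (iv5 D52879)
def n196171 : Q := act 3 n106722
theorem D196171 : act 3 n106722 = n196171 := rfl
theorem F399692 : act 4 n196171 = n108169 := d5_2 D106722 D196171 F167270 F79013 (iv3 F77975)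
theorem F399693 : act 6 n196171 = n190444 := d7_2 (iv6 F356826) D196171 (iv3 D190444)
theorem F399694 : act 7 n196171 = n157231 := d8_2 F175882 D196171 F247448
theorem F399695 : act 0 n179101 = n196171 := d20_4 F145476 D94342 D189697 F377439 (iv3 D196171) (iv4 D106722) F77976 D106293 F377416 (iv1 D189693)
def n196172 : Q := act 5 n106722
theorem D196172 : act 5 n106722 = n196172 := rfl
theorem F399696 : act 2 n196172 = n106731 := d2_1 D196172 (iv5 D106731) (iv2 F164502)
theorem F399697 : act 6 n196172 = n194377 := d12_2 (iv6 F356826) D196172 (iv5 D194377) F379785 (iv5 D190445)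
theorem F399698 : act 7 n196172 = n194956 := d13_2 F175882 D196172 F395178
theorem F399699 : act 4 n196172 = n194839 := d16_2 D106722 D196172 F394683 F164515 F77984 F37680 (iv5 F77984) (iv7 D49323) (iv2 F77974)
theorem F399700 : act 0 n196172 = n194997 := d17_2 F340314 D196172 (iv5 D194997) (iv4 F340321) (iv5 D110746) D110745 (iv5 F376368) (iv0 F376370) (iv4 F340310)
theorem F399701 : act 1 n196172 = n194994 := d17_6 F340326 F164477 (iv1 F77966) D49318 D106722 D196172 (iv5 D194994) (iv0 D104851) D104853
def n196173 : Q := act 7 n106723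
theorem D196173 : act 7 n106723 = n196173 := rfl
theorem F399702 : act 2 n196173 = n106736 := d4_1 D196173 (iv7 D106736) (iv2 F164503)
theorem F399703 : act 3 n196173 = n113040 := d8_1 D196173 (iv7 D113040) (iv3 F164504)
theorem F399704 : act 4 n196173 = n190006 := d11_1 D196173 F378545 F356824
theorem F399705 : act 5 n196173 = n147301 := d13_1 D196173 (iv7 D147301) (iv5 F164505)
theorem F399706 : act 1 n106735 = n196173 := d15_1 D106735 (iv7 D196173) F164503
theorem F399707 : act 1 n196173 = n106734 := d15_1 F399706 F348079 F348087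
def n196174 : Q := act 0 n106724
theorem D196174 : act 0 n106724 = n196174 := rfl
theorem F399708 : act 5 n196174 = n194925 := d17_1 D196174 F399679 (iv5 D196166) (iv4 D106718) (iv5 D49316) F77408 (iv5 F82408) F82412 D106724
theorem F399709 : act 4 n196174 = n195810 := d18_1 D196174 (iv1 F398285) (iv4 F340310) F160520 (iv4 F363515) (iv0 D185466) (iv4 F287730) (iv0 F363516) F356902
theorem F399710 : act 1 n106726 = n196174 := d15_0 (iv0 D196174) (iv7 F399689) F399686
theorem F399711 : act 2 n195812 = n196174 := d1_3 F399709 (iv2 F398284) (iv4 F398290)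
theorem F399712 : act 7 n195813 = n196174 := d11_0 F399709 F398286 (iv4 F398293)
def n196175 : Q := act 1 n106724
theorem D196175 : act 1 n106724 = n196175 := rfl
theorem F399713 : act 1 n196175 = n106726 := d15_1 D196175 F164509 (iv2 F164506)
theorem F399714 : act 7 n196175 = n195812 := d15_2 (iv0 D196174) D196175 F399711
theorem F399715 : act 4 n196175 = n189299 := d17_9 (iv1 F376371) (iv5 D106287) F77571 D93869 D189295 F376357 (iv0 F363516) F356902 D196175
theorem F399716 : act 5 n164120 = n196175 := d21_0 (iv1 D196175) (iv5 F356902) F358432 (iv1 D112221) D112224 (iv5 F377482) (iv1 F377485) (iv5 F348777) (iv6 F399678) F399677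
theorem F399717 : act 6 n130568 = n196175 := d21_9 (iv5 F356902) F363516 (iv5 F376357) F376355 D189617 (iv6 F377130) (iv5 D133364) (iv1 F97607) D130568 (iv1 D196175)
theorem F399718 : act 2 n196175 = n195813 := d3_1 F399717 (iv6 F398294) (iv2 F366280)
theorem F399719 : act 3 n196175 = n164121 := d6_1 F399716 (iv5 D164121) D164120
def n196176 : Q := act 3 n106724
theorem D196176 : act 3 n106724 = n196176 := rfl
theorem F399720 : act 4 n196176 = n130604 := d5_2 D106724 D196176 F341584 (iv4 D151319) F107808
theorem F399721 : act 5 n196176 = n194992 := d6_2 F356902 D196176 (iv3 D194992)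
theorem F399722 : act 6 n143976 = n196176 := d10_0 F399720 F209178 (iv4 F331509)
theorem F399723 : act 0 n130560 = n196176 := d20_1 (iv4 F209144) F399720 F341584 F238039 (iv3 F324329) (iv4 F325498) D106845 F364643 (iv3 F364648) (iv1 D130596)
def n196177 : Q := act 6 n106724
theorem D196177 : act 6 n106724 = n196177 := rfl
theorem F399724 : act 2 n196177 = n195811 := d3_1 D196177 F398288 (iv2 F164506)
theorem F399725 : act 3 n196177 = n143976 := d7_1 D196177 F399722 (iv3 D196176)
theorem F399726 : act 4 n196177 = n106725 := d10_1 D196177 (iv6 D106725) D106724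
theorem F399727 : act 5 n196177 = n143975 := d21_6 (iv5 D133364) (iv1 F97607) D130568 F399717 (iv1 D196175) D196177 F226629 F363580 F355410 (iv1 F214418)
theorem F399728 : act 0 n136199 = n191563 := d19_16 (iv1 F226630) (iv5 F399727) F399726 (iv3 F238035) (iv1 F355815) (iv5 D144940) (iv4 F183937) (iv3 D117431) (iv1 F85434) F328419 (iv4 F48867) (iv3 F100603) F164721 F331028 (iv4 D136200) D136199 F383836 F333095 F172177
theorem F399729 : act 1 n136199 = n186695 := d15_1 (iv0 F399728) (iv7 F367710) (iv2 F383834)
def n196178 : Q := act 7 n106725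
theorem D196178 : act 7 n106725 = n196178 := rfl
theorem F399730 : act 2 n196178 = n140853 := d4_1 D196178 F350236 (iv2 F164507)
theorem F399731 : act 5 n196178 = n140804 := d13_1 D196178 F318363 (iv5 F164508)
theorem F399732 : act 6 n196178 = n189989 := d14_1 D196178 F378470 F348080 F164499 D106725
theorem F399733 : act 1 n113052 = n196178 := d15_1 F348088 (iv7 D196178) F164507
theorem F399734 : act 1 n196178 = n145519 := d15_1 F399733 F228575 (iv2 F325371)
def n196179 : Q := act 5 n106730
theorem D196179 : act 5 n106730 = n196179 := rfl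
theorem F399735 : act 2 n196179 = n133070 := d2_1 D196179 (iv5 F382297) (iv2 F382300)
theorem F399736 : act 3 n196179 = n106731 := d6_1 D196179 (iv5 D106731) D106730
theorem F399737 : act 4 n196179 = n133025 := d9_1 D196179 (iv5 D133025) (iv4 D62423) (iv5 D29514) (iv4 F47004) D61982 D132103 F211639 (iv4 D131540) (iv5 D61725) F46920 (iv5 F23393) (iv4 F47008) (iv5 F77996) (iv4 F164511)
theorem F399738 : act 7 n196179 = n132116 := d13_2 F164512 D196179 (iv5 D132116)
def n196180 : Q := act 0 n106731
theorem D196180 : act 0 n106731 = n196180 := rfl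
theorem F399739 : act 5 n196180 = n190387 := d17_3 F356895 D106731 D196180 F379637 (iv5 D106710) (iv0 F114393) (iv5 F178634) (iv0 F376122) F376120
theorem F399740 : act 4 n196180 = n196166 := d18_1 D196180 F399677 (iv4 F394572) (iv5 F398291) F398290 (iv0 D114557) (iv4 F340324) F340323 D106731
theorem F399741 : act 0 n196180 = n194956 := d18_0 F395177 D196180 F399740 (iv5 D196166) (iv4 D106718) F163360 (iv4 F340316) D190387 (iv5 F399739)
theorem F399742 : act 2 n194997 = n196180 := d1_3 F399740 F399675 F395344
theorem F399743 : act 6 n187372 = n196180 := d10_0 F399740 F399678 (iv4 F370039)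
theorem F399744 : act 7 n194994 = n196180 := d15_2 (iv0 F399700) F399701 (iv2 F399742)
def n196181 : Q := act 1 n106731
theorem D196181 : act 1 n106731 = n196181 := rfl
theorem F399745 : act 1 n196181 = n194956 := d15_1 D196181 (iv7 F399698) F399696
theorem F399746 : act 7 n196181 = n194997 := d15_2 (iv0 D196180) D196181 F399742
theorem F399747 : act 5 n196181 = n190386 := d17_7 (iv1 F163360) (iv5 D49316) (iv1 D24069) D24071 D49321 D106731 D196181 (iv0 D190386) F340316
theorem F399748 : act 4 n196181 = n196158 := d17_9 (iv1 F399652) (iv5 F399708) (iv1 F399710) F363530 (iv4 D104843) D104844 F340323 D106731 D196181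
theorem F399749 : act 2 n194994 = n196181 := d16_9 F399748 (iv5 D196158) (iv4 D106712) (iv5 D49311) D49310 D106710 (iv4 F379637) (iv5 F399739) (iv7 F399744)
theorem F399750 : act 0 n188462 = n190392 := d21_4 (iv5 F395178) (iv1 F399745) F399747 F379631 (iv6 D190392) F306964 (iv1 F165366) D142434 F356888 F340322
def n196182 : Q := act 5 n106732
theorem D196182 : act 5 n106732 = n196182 := rfl
theorem F399751 : act 2 n196182 = n190445 := d2_1 D196182 (iv5 D190445) (iv2 F356825)
theorem F399752 : act 3 n196182 = n112968 := d6_1 D196182 F358248 F348083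
theorem F399753 : act 6 n196182 = n194252 := d12_2 D106732 D196182 F395015 (iv6 F395013) (iv5 D106731)
theorem F399754 : act 7 n196182 = n147290 := d13_2 F355502 D196182 (iv5 F355469)
theorem F399755 : act 4 n196182 = n130519 := d16_2 (iv4 F164513) D196182 F355455 F105267 (iv5 F105274) (iv4 F230929) (iv5 F399705) (iv7 D196173) F164503
theorem F399756 : act 1 n196182 = n194311 := d17_8 (iv1 D125004) (iv5 F192196) F339809 (iv5 F336315) F158474 (iv5 F147176) F372129 D196182 F392785
theorem F399757 : act 0 n196182 = n190350 := d21_7 F147574 F324998 (iv5 F335105) F160700 F356895 D106732 D196182 (iv5 D190350) (iv6 D95920) D95917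
def n196183 : Q := act 6 n106733
theorem D196183 : act 6 n106733 = n196183 := rfl
theorem F399758 : act 2 n196183 = n176875 := d3_1 D196183 (iv6 F356891) F175881
theorem F399759 : act 3 n196183 = n132117 := d7_1 D196183 (iv6 D132117) (iv3 F164514)
theorem F399760 : act 4 n196183 = n106737 := d10_1 D196183 (iv6 D106737) (iv4 F164515)
theorem F399761 : act 5 n196183 = n165769 := d12_1 D196183 (iv6 F336532) F364241 D194839 F394683
theorem F399762 : act 7 n196183 = n190443 := d14_2 D106733 D196183 (iv6 D190443) F355502 (iv6 D106732)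
theorem F399763 : act 0 n190481 = n196183 := d17_2 (iv1 F392215) (iv5 F392216) F399761 (iv4 D165769) (iv5 F336581) F336580 F322727 F334288 D130326
def n196184 : Q := act 3 n106735
theorem D196184 : act 3 n106735 = n196184 := rfl
theorem F399764 : act 2 n196184 = n159989 := d0_1 D196184 (iv3 F365582) F210417 D131304 F348087
theorem F399765 : act 4 n196184 = n186253 := d5_2 F380011 D196184 (iv3 D186253) (iv4 F352837) (iv3 F380010)
theorem F399766 : act 5 n196184 = n151402 := d6_2 F398310 D196184 (iv3 F398307)
theorem F399767 : act 7 n196184 = n159988 := d8_2 (iv7 F348086) D196184 F397521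
theorem F399768 : act 0 n196184 = n121361 := d19_4 (iv1 F319048) (iv5 F380012) F380011 D196184 (iv5 D121361) (iv4 F107997) (iv3 F197760) F337783 (iv5 D130214) (iv4 D61125) (iv3 D28960) D28958 (iv5 F47843) (iv4 F98052) (iv3 F307703) F131025 (iv5 D39466) D39465 D85459
theorem F399769 : act 0 n186253 = n159686 := d20_7 (iv4 F399031) (iv1 F399032) F382226 (iv3 F399703) (iv1 F399706) D196184 F399765 (iv4 D159686) F114534 D113006
theorem F399770 : act 0 n191711 = n186253 := d20_1 (iv4 F384231) (iv4 F399765) (iv3 D196184) (iv1 D106735) F77981 (iv4 F77999) D106753 F177802 D110778 F258979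
theorem F399771 : act 0 n159991 = n196184 := d18_0 F399765 F399769 (iv4 D159686) (iv5 D76398) (iv4 F114531) D159679 (iv4 F261874) F193582 (iv5 F252362)
theorem E103650 : n189440 = n187902 := (c20_4 (iv4 F377556) (iv1 F377560) (iv4 F385126) F385125 (iv1 D187902) (iv3 F371720) F371722 F399771 F399765 (iv3 D186253) (iv1 F288672))
theorem F399772 : act 2 n187902 = n93970 := (sb E103650 F376609)
theorem F399773 : act 3 n187902 = n102912 := (sb E103650 (iv3 F385125))
theorem F399774 : act 7 n187902 = n93969 := (sb E103650 (iv7 D189440))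
theorem E103651 : n189436 = n187901 := (c15_4 (iv0 D187901) D187902 F399774 D189436)
theorem F399775 : act 2 n187901 = n93969 := (sb E103651 (iv2 D189436))
theorem F399776 : act 7 n187901 = n93970 := (sb E103651 (iv7 F376608))
theorem F399777 : act 0 n134069 = n151402 := d21_10 (iv5 F399766) F399768 (iv5 D121361) (iv6 D55987) (iv1 F46144) D60115 D127955 F386971 F351274 (iv6 F343211)
def n196185 : Q := act 6 n106735
theorem D196185 : act 6 n106735 = n196185 := rfl
theorem F399778 : act 2 n196185 = n190452 := d3_1 D196185 F379802 F348087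
theorem F399779 : act 7 n196185 = n190009 := d14_2 (iv7 F348086) D196185 (iv6 D190009) (iv7 F147183) D96040
theorem F399780 : act 1 n190450 = n196185 := d15_1 D190450 F399779 F378554
theorem F399781 : act 1 n196185 = n190425 := d15_0 (iv0 F379751) D190452 (iv2 F399778)
def n196186 : Q := act 6 n106736
theorem D196186 : act 6 n106736 = n196186 := rfl
theorem F399782 : act 3 n196186 = n106763 := d7_1 D196186 (iv6 D106763) (iv3 F164516)
theorem F399783 : act 4 n196186 = n190443 := d10_1 D196186 (iv6 D190443) (iv4 F355470)
theorem F399784 : act 7 n196186 = n106737 := d14_2 D106736 D196186 (iv6 D106737) (iv7 D49323) D49322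
def n196187 : Q := act 0 n106737
theorem D196187 : act 0 n106737 = n196187 := rfl
theorem F399785 : act 6 n196187 = n189610 := d21_5 (iv5 D106707) (iv1 F77965) (iv5 F77984) D106737 D196187 (iv5 D189610) (iv1 F178359) (iv5 F175847) (iv6 D112915) F164456
def n196188 : Q := act 5 n106737
theorem D196188 : act 5 n106737 = n196188 := rfl
theorem F399786 : act 2 n196188 = n107539 := d2_1 D196188 (iv5 F175887) F175885
theorem F399787 : act 3 n196188 = n106766 := d6_1 D196188 (iv5 D106766) (iv3 F164518)
theorem F399788 : act 6 n196188 = n106738 := d12_2 D106737 D196188 (iv5 D106738) (iv6 D49324) (iv5 F77984)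
theorem F399789 : act 1 n196188 = n190524 := d17_6 (iv1 D96010) D96011 F364242 (iv5 F399761) F399760 D196188 (iv5 D190524) (iv0 F379687) (iv4 D190405)
theorem F399790 : act 5 n127394 = n190450 := d21_0 (iv1 D190450) D190451 (iv6 F379991) (iv1 F399789) F399788 (iv5 D106738) (iv1 F94162) F94167 D106247 F374542
theorem F399791 : act 3 n190450 = n127396 := d6_1 F399790 (iv5 D127396) D127394
theorem F399792 : act 0 n196188 = n195830 := d21_4 F115177 (iv1 F94159) D106738 (iv6 F399788) (iv6 D195830) (iv5 D106323) (iv1 D49138) (iv5 F77516) (iv6 D49102) D49099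
def n196189 : Q := act 4 n106738
theorem D196189 : act 4 n106738 = n196189 := rfl
theorem F399793 : act 2 n196189 = n107538 := d1_1 D196189 (iv4 D107538) (iv2 F164519)
theorem F399794 : act 7 n196189 = n114022 := d11_2 (iv7 F164521) D196189 (iv4 D114022)
theorem F399795 : act 0 n196189 = n113792 := d18_2 F164523 D196189 (iv4 D113792) (iv5 D52545) (iv4 F77492) F77490 F37401 (iv0 F77085) D105762
def n196190 : Q := act 0 n106739
theorem D196190 : act 0 n106739 = n196190 := rfl
theorem F399796 : act 5 n196190 = n189333 := d17_1 D196190 (iv1 F376423) (iv5 D189329) F164427 (iv5 D106506) F77936 D106695 F164416 D106739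
theorem F399797 : act 4 n196190 = n133401 := d18_3 F161588 D106739 D196190 (iv5 D133401) (iv4 F97647) (iv0 D49203) (iv4 F37664) (iv0 F76664) D105370
theorem F399798 : act 1 n189632 = n196190 := d15_0 (iv0 D196190) F164524 (iv2 F377204)
theorem F399799 : act 2 n189302 = n196190 := d1_3 F399797 F214491 D189302
theorem F399800 : act 6 n189403 = n196190 := d10_0 F399797 F214495 D189403
theorem F399801 : act 7 n189300 = n196190 := d11_0 F399797 F214492 D189300
def n196191 : Q := act 1 n106739
theorem D196191 : act 1 n106739 = n196191 := rfl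
theorem F399802 : act 1 n196191 = n189632 := d15_1 D196191 F377205 F187336
theorem F399803 : act 7 n196191 = n189302 := d15_2 (iv0 D196190) D196191 F399799
theorem F399804 : act 4 n196191 = n133400 := d18_7 (iv1 F65522) (iv4 F68995) (iv1 F68997) F65509 (iv5 F77989) D106739 D196191 F214490 F97664
theorem F399805 : act 2 n189300 = n196191 := d1_3 F399804 F214486 D189300
theorem F399806 : act 3 n189339 = n196191 := d5_5 F399804 F214487 (iv4 F176080) (iv3 F376412) (iv4 F376430)
theorem F399807 : act 5 n189334 = n196191 := d9_0 F399804 (iv5 D133400) (iv4 F114356) D76302 D159503 (iv5 F377280) F377279 (iv5 F399796) F399797 (iv5 D133401) (iv4 F97647) F145399 D189634 (iv5 F377284) F377283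
def n196192 : Q := act 5 n106739
theorem D196192 : act 5 n106739 = n196192 := rfl
theorem F399808 : act 2 n196192 = n189336 := d2_1 D196192 F376425 F187336
theorem F399809 : act 7 n196192 = n189335 := d13_2 (iv7 F164524) D196192 F376424
theorem F399810 : act 4 n196192 = n189636 := d16_2 D106739 D196192 (iv5 D189636) (iv4 D94265) (iv5 D44068) D44067 D94263 F145397 F86695
theorem F399811 : act 0 n196192 = n189239 := d17_2 (iv1 D196191) D196192 (iv5 D189239) (iv4 D93796) (iv5 D43843) F65519 D71387 (iv0 F214489) (iv4 F399804)
theorem F399812 : act 1 n196192 = n189339 := d17_6 F164421 F163767 (iv1 D49682) (iv5 F77989) D106739 D196192 F376431 F376181 F376178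
def n196193 : Q := act 7 n106740
theorem D196193 : act 7 n106740 = n196193 := rfl
theorem F399813 : act 2 n196193 = n189528 := d4_1 D196193 F376814 F187329
theorem F399814 : act 3 n196193 = n106743 := d8_1 D196193 (iv7 D106743) (iv3 F164525)
theorem F399815 : act 6 n196193 = n196014 := d14_1 D196193 (iv7 D196014) (iv6 D106526) (iv7 F77990) D106740
theorem F399816 : act 1 n188557 = n196193 := d15_1 (iv0 F373947) (iv7 D196193) (iv2 F187329)
theorem F399817 : act 1 n196193 = n189529 := d15_1 F399816 (iv7 D189529) (iv2 F373944)
def n196194 : Q := act 6 n106746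
theorem D196194 : act 6 n106746 = n196194 := rfl
theorem F399818 : act 2 n196194 = n189514 := d3_1 D196194 F399073 (iv2 F356958)
theorem F399819 : act 3 n196194 = n190375 := d7_1 D196194 (iv6 D190375) (iv3 F356942)
theorem F399820 : act 5 n196194 = n196004 := d12_1 D196194 F399619 F284758 (iv6 F372193) F372192
theorem F399821 : act 7 n196194 = n189515 := d14_2 F356943 D196194 F395357 (iv7 D96045) (iv6 F147589)
theorem F399822 : act 0 n189506 = n196194 := d21_4 (iv5 D90111) (iv1 F205495) D94009 D189506 (iv6 D196194) (iv5 F372192) (iv1 D188041) D188042 F372196 F205526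
def n196195 : Q := act 4 n106749
theorem D196195 : act 4 n106749 = n196195 := rfl
theorem F399823 : act 2 n196195 = n132111 := d1_1 D196195 (iv4 D132111) (iv2 F216666)
theorem F399824 : act 3 n196195 = n128565 := d5_1 D196195 F206792 (iv3 F339723) F361102 (iv3 F361103)
theorem F399825 : act 7 n196195 = n132107 := d11_2 (iv7 F216667) D196195 (iv4 D132107)
theorem F399826 : act 5 n196195 = n189875 := d16_1 D196195 F378059 (iv5 D131534) (iv4 F98492) F211218 F209333 (iv5 F211217) F216665 (iv2 F216666)
theorem F399827 : act 6 n196195 = n126933 := d21_9 (iv5 D144546) F331271 F134944 (iv6 D86897) D86896 D181932 (iv5 F348710) D189875 (iv5 F399826) F227413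
def n196196 : Q := act 6 n106749
theorem D196196 : act 6 n106749 = n196196 := rfl
theorem F399828 : act 2 n196196 = n132113 := d3_1 D196196 (iv6 D132113) (iv2 F216666)
theorem F399829 : act 4 n196196 = n126933 := d10_1 D196196 (iv6 F399827) (iv4 D196195)
def n196197 : Q := act 3 n106750
theorem D196197 : act 3 n106750 = n196197 := rfl
theorem F399830 : act 5 n196197 = n190535 := d6_2 (iv5 F211217) D196197 (iv3 F380021)
theorem F399831 : act 7 n196197 = n132110 := d8_2 (iv7 F216665) D196197 (iv3 D132110)
theorem F399832 : act 1 n131947 = n196197 := d15_1 (iv0 F382347) F399831 (iv2 F382346)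
def n196198 : Q := act 4 n106750
theorem D196198 : act 4 n106750 = n196198 := rfl
theorem F399833 : act 2 n196198 = n132107 := d1_1 D196198 (iv4 D132107) (iv2 F216664)
theorem F399834 : act 5 n196198 = n189876 := d9_2 (iv5 F211217) D196198 F378061 (iv5 D131530) (iv4 F314724) (iv5 F317031) F212525 F211044 D196195 F399826 F378059 (iv5 D131534) (iv4 F98492) F211218 F209333
theorem F399835 : act 6 n196198 = n183255 := d10_2 (iv6 F363608) D196198 (iv4 F332552)
theorem F399836 : act 7 n196198 = n132111 := d11_2 (iv7 F216665) D196198 (iv4 D132111)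
def n196199 : Q := act 5 n106754
theorem D196199 : act 5 n106754 = n196199 := rfl
theorem F399837 : act 2 n196199 = n196019 := d2_1 D196199 (iv5 D196019) (iv2 F177804)
theorem F399838 : act 3 n196199 = n132450 := d6_1 D196199 (iv5 F347530) (iv3 F347533)
theorem F399839 : act 4 n196199 = n132452 := d9_1 D196199 F212546 (iv4 F333200) (iv5 F179033) F179032 (iv5 F161768) (iv4 F177802) (iv5 F358221) F327330 (iv5 D129103) (iv4 F97708) (iv5 F333208) F177784 F80537 (iv4 F177805)
theorem F399840 : act 6 n196199 = n113323 := d12_2 F347535 D196199 (iv5 F326810) F326811 D126186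
theorem F399841 : act 7 n196199 = n196018 := d13_2 (iv7 F177806) D196199 (iv5 D196018)
theorem F399842 : act 0 n196048 = n106789 := d17_0 F358364 (iv1 F164550) D196199 F399839 F212546 F333191 (iv5 F333193) D126507 (iv4 F399188)
def n196200 : Q := act 1 n106755
theorem D196200 : act 1 n106755 = n196200 := rfl
theorem F399843 : act 1 n196200 = n106789 := d15_1 D196200 (iv7 F358370) (iv2 F164551)
theorem F399844 : act 7 n196200 = n132933 := d15_2 (iv0 F399192) D196200 (iv2 F399187)
theorem F399845 : act 5 n196200 = n120121 := d17_7 (iv1 F193524) (iv5 D76361) (iv1 D34886) (iv5 F37693) (iv4 F77999) D106755 D196200 (iv0 F259060) (iv4 D164416)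
theorem F399846 : act 4 n196200 = n126506 := d17_9 (iv1 F203595) F212400 (iv1 D129101) D129103 (iv4 F327330) F358221 (iv0 D106753) D106755 D196200
theorem F399847 : act 3 n129696 = n196200 := d20_3 D61977 F211551 D129696 (iv1 D196200) F358318 (iv4 D128628) D128625 F206915 F164247 (iv1 F96565)
theorem F399848 : act 2 n196200 = n126524 := d0_1 F399847 (iv3 F203444) F203512 (iv3 F208647) (iv2 F207877)
def n196201 : Q := act 4 n106755
theorem D196201 : act 4 n106755 = n196201 := rfl
theorem F399849 : act 2 n196201 = n196020 := d1_1 D196201 (iv4 D196020) (iv2 F164551)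
theorem F399850 : act 3 n196201 = n129640 := d5_1 D196201 (iv4 F358341) F358340 D128628 (iv3 F358318)
theorem F399851 : act 6 n196201 = n132159 := d10_2 (iv6 F164552) D196201 (iv4 D132159)
theorem F399852 : act 5 n196201 = n159557 := d16_1 D196201 F251297 F114425 (iv4 F83152) F83153 (iv4 F163788) (iv5 F358364) (iv7 F358370) (iv2 F164551)
theorem F399853 : act 1 n196201 = n132013 := d18_6 (iv1 F177834) (iv4 D106761) (iv1 D49332) (iv4 F77999) D106755 D196201 (iv4 D132013) F164234 (iv5 F341594)
theorem F399854 : act 0 n196201 = n132008 := d20_1 D196201 (iv4 D132008) D132007 F216344 (iv3 D61976) D61977 F211551 D129696 F399847 (iv1 D196200)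
theorem F399855 : act 7 n135497 = n196201 := d13_0 F399852 (iv7 D159557) (iv5 F362915)
def n196202 : Q := act 7 n106755
theorem D196202 : act 7 n106755 = n196202 := rfl
theorem F399856 : act 2 n196202 = n106789 := d4_1 D196202 (iv7 F358370) (iv2 F164551)
theorem F399857 : act 4 n196202 = n135497 := d11_1 D196202 F399855 (iv4 D196201)
theorem F399858 : act 5 n196202 = n106756 := d13_1 D196202 (iv7 D106756) D106755
theorem F399859 : act 1 n126524 = n196202 := d15_1 (iv0 F392334) (iv7 D196202) F164551
theorem F399860 : act 1 n196202 = n132933 := d15_1 F399859 (iv7 F399844) F399848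
def n196203 : Q := act 0 n106757
theorem D196203 : act 0 n106757 = n196203 := rfl
theorem F399861 : act 5 n196203 = n114101 := d19_1 D196203 F336380 F221477 F100738 (iv5 D51272) F39079 (iv3 F38965) (iv1 F38012) F18665 (iv4 F8928) F8927 (iv1 F10254) D11290 D24056 D49288 D106674 F341608 (iv4 D106758) D106757
theorem F399862 : act 2 n189566 = n196203 := d15_3 (iv0 D196203) (iv0 F398466) (iv7 F376906)
theorem F399863 : act 1 n196023 = n196203 := d15_0 (iv0 D196203) F164559 D196023
theorem F399864 : act 7 n196203 = n114100 := d15_2 (iv0 F399104) F399863 (iv2 F178102)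
theorem F399865 : act 3 n159991 = n196203 := d8_3 F399864 F177697 D159991
theorem F399866 : act 6 n189275 = n196203 := d14_5 F399864 F177698 (iv7 F164414) F164417 (iv7 F376303)
def n196204 : Q := act 2 n106757
theorem D196204 : act 2 n106757 = n196204 := rfl
theorem F399867 : act 3 n196204 = n164226 := d0_2 D106757 D196204 (iv2 F363498) (iv3 D106538) F163476
theorem F399868 : act 7 n196204 = n196023 := d4_2 (iv7 F164559) D196204 (iv2 D196023)
theorem F399869 : act 1 n196204 = n114100 := d15_0 (iv0 F357305) (iv7 F164559) D196204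
theorem F399870 : act 1 n189566 = n196204 := d15_0 F399869 (iv7 F399864) (iv2 F399862)
def n196205 : Q := act 4 n106757
theorem D196205 : act 4 n106757 = n196205 := rfl
theorem F399871 : act 7 n196205 = n196024 := d11_2 (iv7 F164559) D196205 (iv4 D196024)
def n196206 : Q := act 6 n106757
theorem D196206 : act 6 n106757 = n196206 := rfl
theorem F399872 : act 3 n196206 = n106759 := d7_1 D196206 (iv6 D106759) D106757
theorem F399873 : act 5 n196206 = n186248 := d21_6 (iv5 D106506) F77733 D105370 (iv6 F178103) F398466 D196206 (iv1 F344971) (iv5 F376728) F376729 (iv1 F164425)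
theorem F399874 : act 7 n190461 = n196206 := d13_0 F399873 (iv7 F373654) (iv5 F379820)
theorem F399875 : act 0 n189547 = n196206 := d21_10 F399873 (iv1 F344971) (iv5 F376728) F376729 (iv1 F164425) D195994 F399001 F376832 (iv5 D189546) D189547
def n196207 : Q := act 3 n106758
theorem D196207 : act 3 n106758 = n196207 := rfl
theorem F399876 : act 5 n196207 = n196117 := d6_2 F341608 D196207 (iv3 D196117)
theorem F399877 : act 7 n196207 = n196025 := d8_2 (iv7 F164561) D196207 (iv3 D196025)
theorem F399878 : act 0 n196207 = n132093 := d19_4 F177675 (iv5 F163479) D106758 D196207 (iv5 D132093) D132092 F211627 F213223 (iv5 F359671) (iv4 D117383) (iv3 D54093) (iv1 F41525) (iv5 F50677) F312726 (iv3 F226430) F380988 F380984 F364498 F177911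
def n196208 : Q := act 6 n106758
theorem D196208 : act 6 n106758 = n196208 := rfl
theorem F399879 : act 2 n196208 = n190465 := d3_1 D196208 F379830 (iv2 F164560)
theorem F399880 : act 4 n196208 = n106759 := d10_1 D196208 (iv6 D106759) D106758
theorem F399881 : act 7 n196208 = n190462 := d14_2 (iv7 F164561) D196208 (iv6 F379825) F202086 F332815
def n196209 : Q := act 4 n106760
theorem D196209 : act 4 n106760 = n196209 := rfl
theorem F399882 : act 2 n196209 = n189264 := d1_1 D196209 F376254 (iv2 F334820)
theorem F399883 : act 7 n196209 = n196021 := d11_2 (iv7 F164564) D196209 (iv4 D196021)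
theorem F399884 : act 5 n196209 = n184492 := d16_5 (iv4 F249851) (iv5 F340657) (iv4 F340665) (iv5 F164563) D196209 (iv4 D184492) (iv5 D87981) D87982 F134990
theorem F399885 : act 0 n196209 = n133406 := d18_2 (iv1 F340667) D196209 F214508 F97662 (iv4 F120189) F327804 (iv4 F327774) F258962 (iv5 F239641)
theorem F399886 : act 6 n186327 = n196209 := d21_3 (iv5 D92487) (iv1 F293183) D186327 F399885 (iv6 D133406) (iv5 F314242) F314239 F247887 (iv6 F345018) F144908
theorem F399887 : act 3 n196209 = n189506 := d7_1 F399886 (iv6 D189506) (iv3 F362414)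
def n196210 : Q := act 6 n106760
theorem D196210 : act 6 n106760 = n196210 := rfl
theorem F399888 : act 2 n196210 = n189263 := d3_1 D196210 F376252 (iv2 F334820)
theorem F399889 : act 3 n196210 = n106762 := d7_1 D196210 (iv6 D106762) D106760
theorem F399890 : act 4 n196210 = n186327 := d10_1 D196210 F399886 (iv4 D196209)
theorem F399891 : act 5 n196210 = n134495 := d12_1 D196210 (iv6 F359182) (iv5 D106159) D106160 (iv5 F164563)
theorem F399892 : act 7 n189554 = n196210 := d13_0 F399891 (iv7 F364870) F376871
theorem F399893 : act 0 n144942 = n196210 := d21_10 F399891 (iv1 D134495) D134496 F216448 D134501 (iv6 F345017) (iv5 D144911) (iv1 F104031) D67949 D144942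
theorem F399894 : act 0 n196210 = n186407 := d21_7 F157531 (iv1 F144900) F142370 D146892 (iv1 F397798) F359182 (iv5 F399891) (iv5 F364868) F204709 F159976
theorem E103652 : n191201 = n96024 := (c20_7 (iv4 F326237) (iv1 F345028) (iv4 F399890) F399889 F259067 (iv3 F399791) (iv4 F382560) (iv1 D96024) (iv4 F147648) (iv3 F379734) F379735)
theorem E103653 : n190428 = n97376 := ((D190428).symm.trans (sb E103652 (iv3 D191201)))
theorem E103654 : n190450 = n190429 := (((D190429).symm.trans (sb E103652 F382560))).symm
theorem F399895 : act 3 n97376 = n96024 := (sb E103653 (iv3 D190428))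
theorem F399896 : act 0 n190429 = n96038 := (sb E103654 (iv1 D190450))
theorem F399897 : act 1 n190429 = n196185 := (sb E103654 F399780)
theorem F399898 : act 3 n190429 = n127396 := (sb E103654 F399791)
theorem F399899 : act 5 n190429 = n127394 := (sb E103654 (iv5 F399790))
theorem F399900 : act 3 n190430 = n191202 := d6_3 (iv5 D191202) F399895 D190430
theorem F399901 : act 3 n190431 = n191203 := d7_3 (iv6 D191203) F399895 D190431
theorem F399902 : act 3 n190423 = n191196 := d8_3 (iv7 F382554) F399895 F379748
theorem F399903 : act 2 n191197 = n190424 := d0_3 F399902 (iv2 D191196) D191197 (iv3 D190424) D190423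
theorem F399904 : act 4 n190424 = n186422 := d1_2 F382555 F399903 (iv2 F362552)
theorem F399905 : act 3 n187325 = n190313 := d7_3 F379753 F399900 F382562
def n196211 : Q := act 3 n106761
theorem D196211 : act 3 n106761 = n196211 := rfl
theorem F399906 : act 4 n196211 = n189506 := d5_2 D106761 D196211 (iv3 F399887) (iv4 D196209) (iv3 D106760)
theorem F399907 : act 5 n196211 = n196120 := d6_2 (iv5 F322877) D196211 (iv3 D196120)
theorem F399908 : act 6 n196211 = n189505 := d7_2 (iv6 F332816) D196211 (iv3 F376750)
theorem F399909 : act 7 n196211 = n196022 := d8_2 (iv7 F164566) D196211 (iv3 D196022)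
theorem F399910 : act 2 n189513 = n196211 := d3_3 F399908 F376748 D189513
def n196212 : Q := act 7 n106762
theorem D196212 : act 7 n106762 = n196212 := rfl
theorem F399911 : act 2 n196212 = n190463 := d4_1 D196212 F379821 (iv2 F164567)
theorem F399912 : act 3 n196212 = n189554 := d8_1 D196212 F399892 F399889
theorem F399913 : act 4 n196212 = n113414 := d11_1 D196212 F202085 F332818
theorem F399914 : act 5 n196212 = n195673 := d13_1 D196212 (iv7 D195673) (iv5 F164568)
theorem F399915 : act 6 n196212 = n190460 := d14_1 D196212 F379817 F376746 (iv7 F163474) D106762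
theorem F399916 : act 1 n113692 = n196212 := d15_1 F251392 (iv7 D196212) F164567
theorem F399917 : act 1 n196212 = n113688 := d15_1 F399916 (iv7 F204739) F204738
def n196213 : Q := act 5 n106763
theorem D196213 : act 5 n106763 = n196213 := rfl
theorem F399918 : act 2 n196213 = n159558 := d2_1 D196213 F251301 (iv2 F164569)
theorem F399919 : act 6 n196213 = n114035 := d12_2 D106763 D196213 F177520 F83142 (iv5 F78003)
theorem F399920 : act 7 n196213 = n106766 := d13_2 (iv7 F164571) D196213 (iv5 D106766)
theorem F399921 : act 1 n159574 = n196213 := d15_1 D159574 F399920 F164576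
theorem F399922 : act 0 n130703 = n196213 := d21_4 F163131 (iv1 F120162) D164472 (iv6 F362426) F399919 F177520 (iv1 F83144) D76330 D159547 (iv1 F259204)
def n196214 : Q := act 5 n106764
theorem D196214 : act 5 n106764 = n196214 := rfl
theorem F399923 : act 2 n196214 = n134500 := d2_1 D196214 F365945 (iv2 F365944)
theorem F399924 : act 3 n196214 = n188738 := d6_1 D196214 F374651 F205519
theorem F399925 : act 6 n196214 = n188737 := d12_2 (iv6 F205518) D196214 F374645 (iv6 D93826) D93825
theorem F399926 : act 7 n196214 = n196026 := d13_2 F365946 D196214 (iv5 D196026)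
def n196215 : Q := act 6 n106765
theorem D196215 : act 6 n106765 = n196215 := rfl
theorem F399927 : act 2 n196215 = n189517 := d3_1 D196215 F376782 F365948
theorem F399928 : act 3 n196215 = n196021 := d7_1 D196215 F399098 F365949
theorem F399929 : act 4 n196215 = n196022 := d10_1 D196215 F399101 F365951
theorem F399930 : act 7 n196215 = n189506 := d14_2 (iv7 F365947) D196215 (iv6 D189506) (iv7 F373827) F373830
theorem F399931 : act 1 n189515 = n196215 := d15_1 D189515 F399930 F376751
theorem F399932 : act 1 n189517 = n196194 := d15_0 (iv0 F399822) (iv7 F399930) F399927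
theorem F399933 : act 0 n189514 = n196215 := d20_1 F399076 F399929 (iv3 D196022) (iv1 F319140) F164235 F77854 (iv1 F77692) (iv4 F96518) D131954 F370128
def n196216 : Q := act 1 n106766
theorem D196216 : act 1 n106766 = n196216 := rfl
theorem F399934 : act 1 n196216 = n159558 := d15_1 D196216 F251302 (iv2 F164576)
theorem F399935 : act 7 n196216 = n130703 := d15_2 (iv0 F397780) D196216 (iv2 F397778)
theorem F399936 : act 2 n159574 = n196216 := d4_3 F399935 (iv2 F397778) (iv7 F397781)
theorem F399937 : act 3 n115102 = n196216 := d8_3 F399935 (iv3 D130703) F179239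
theorem F399938 : act 6 n135524 = n196216 := d14_5 F399935 F362426 F362427 F363882 (iv7 F217931)
theorem F399939 : act 4 n196216 = n129169 := d10_1 F399938 (iv6 F211902) (iv4 F217930)
theorem F399940 : act 0 n129169 = n148767 := d18_2 (iv1 F399934) F399939 F233568 F114504 F78526 D106851 F365951 F164575 (iv5 F251301)
def n196217 : Q := act 4 n106770
theorem D196217 : act 4 n106770 = n196217 := rfl
theorem F399941 : act 6 n196217 = n140652 := d10_2 (iv6 F165327) D196217 (iv4 F342468)
theorem F399942 : act 7 n196217 = n111117 := d11_2 F165480 D196217 F172322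
theorem F399943 : act 0 n196217 = n144299 := d18_2 (iv1 F165489) D196217 F227004 F103525 D128685 F211331 F211329 F209495 F209493
theorem F399944 : act 1 n196217 = n127087 := d18_6 (iv1 D49256) (iv4 F77820) D106588 F165533 D106770 D196217 F204333 (iv0 F96449) F80845
theorem F399945 : act 3 n140655 = n196217 := d7_3 F399941 (iv3 D140652) D140655
def n196218 : Q := act 4 n106783
theorem D196218 : act 4 n106783 = n196218 := rfl
theorem F399946 : act 2 n196218 = n106785 := d1_1 D196218 (iv4 D106785) D106783
theorem F399947 : act 7 n196218 = n106790 := d11_2 F164588 D196218 (iv4 D106790)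
theorem F399948 : act 5 n196218 = n195192 := d16_1 D196218 F396183 F335139 (iv4 D96556) D96557 D190772 F380993 (iv7 D106788) D106783
theorem F399949 : act 0 n196218 = n170448 := d17_0 (iv5 D170448) (iv1 F313244) F177505 (iv4 F335827) F335829 (iv0 D110770) F80532 (iv0 F358358) D196218
theorem F399950 : act 3 n196218 = n126458 := d20_3 F83928 (iv1 F358359) D196218 (iv1 F332595) (iv3 F332606) (iv4 F394445) (iv1 F394449) (iv4 F371221) F371220 F211603
def n196219 : Q := act 1 n106784
theorem D196219 : act 1 n106784 = n196219 := rfl
theorem F399951 : act 3 n132938 = n196219 := d20_3 (iv4 F81135) D111435 F213557 (iv1 D196219) (iv3 D106784) D106785 F382144 F382142 (iv3 D132041) (iv1 D61960)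
theorem F399952 : act 2 n196219 = n131938 := d0_1 F399951 (iv3 D131938) (iv2 F355035) (iv3 F217217) F355040
theorem F399953 : act 4 n196219 = n128832 := d5_2 F213557 F399951 (iv3 D128832) D128833 (iv3 F207098)
def n196220 : Q := act 6 n106784
theorem D196220 : act 6 n106784 = n196220 := rfl
theorem F399954 : act 2 n196220 = n132123 := d3_1 D196220 F358319 (iv2 F358352)
theorem F399955 : act 3 n196220 = n106787 := d7_1 D196220 (iv6 D106787) D106784
theorem F399956 : act 5 n196220 = n132061 := d12_1 D196220 (iv6 D132061) (iv5 F164544) (iv6 F382208) F382207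
def n196221 : Q := act 6 n106785
theorem D196221 : act 6 n106785 = n196221 := rfl
theorem F399957 : act 3 n196221 = n185742 := d7_1 D196221 F398212 (iv3 F398211)
theorem F399958 : act 4 n196221 = n106787 := d10_1 D196221 (iv6 D106787) D106785
theorem F399959 : act 5 n185741 = n196221 := d21_8 (iv5 D191080) F360947 D114020 F177508 F94275 D106238 F163263 F290206 (iv6 D196221) F382144
theorem F399960 : act 7 n196221 = n188717 := d13_2 (iv7 F288017) F399959 (iv5 D188717)
def n196222 : Q := act 7 n106785
theorem D196222 : act 7 n106785 = n196222 := rfl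
theorem F399961 : act 2 n196222 = n106790 := d4_1 D196222 (iv7 F399947) F399946
theorem F399962 : act 3 n196222 = n113693 := d8_1 D196222 (iv7 F398210) (iv3 F398211)
theorem F399963 : act 4 n196222 = n106788 := d11_1 D196222 (iv7 D106788) D106785
theorem F399964 : act 5 n196222 = n145520 := d13_1 D196222 (iv7 F382273) F382271
theorem F399965 : act 6 n196222 = n113690 := d14_1 D196222 (iv7 F204730) F374541 (iv7 F399960) (iv6 D196221)
theorem F399966 : act 0 n170448 = n196222 := d17_2 F313245 D170448 F399964 F228577 (iv5 F334479) F335134 (iv5 F313082) F230883 F230880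
def n196223 : Q := act 0 n106787
theorem D196223 : act 0 n106787 = n196223 := rfl
theorem F399967 : act 2 n131960 = n196223 := d15_3 (iv0 D196223) F399242 F399241
theorem F399968 : act 4 n196223 = n185855 := d1_2 F349140 F399967 F344296
def n196224 : Q := act 7 n106787
theorem D196224 : act 7 n106787 = n196224 := rfl
theorem F399969 : act 4 n196224 = n188717 := d11_1 D196224 (iv7 F399960) F399958
theorem F399970 : act 0 n131960 = n196224 := d18_2 D185753 F349140 F399969 (iv5 D188717) F142880 (iv0 F288044) (iv4 D185748) (iv0 D88469) D88471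
def n196225 : Q := act 6 n106788
theorem D196225 : act 6 n106788 = n196225 := rfl
theorem F399971 : act 2 n196225 = n106792 := d3_1 D196225 (iv6 D106792) (iv2 F164589)
theorem F399972 : act 3 n196225 = n195005 := d7_1 D196225 (iv6 F395381) (iv3 F358356)
theorem F399973 : act 4 n196225 = n113690 := d10_1 D196225 (iv6 F399965) F399963
theorem F399974 : act 5 n113590 = n196225 := d19_1 D113590 F399973 (iv3 D113690) (iv1 D52493) (iv5 F77947) (iv4 F164186) F382599 (iv1 D191211) F294896 F122723 (iv3 D79200) (iv1 F56797) (iv5 F320282) (iv4 D28933) D28932 (iv1 F168039) F37596 (iv4 F40235) (iv3 F82774)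
theorem F399975 : act 0 n131997 = n196225 := d20_10 F399973 F397998 F397996 F267341 (iv1 F132069) F327654 F96561 (iv1 F78046) (iv4 F165593) D131997
def n196226 : Q := act 4 n106789
theorem D196226 : act 4 n106789 = n196226 := rfl
theorem F399976 : act 2 n196226 = n135497 := d1_1 D196226 (iv4 F399857) F399856
theorem F399977 : act 5 n196226 = n114034 := d9_2 (iv5 F358364) D196226 (iv4 D114034) (iv5 D52628) F40376 (iv5 F37693) (iv4 F77999) D106755 D196201 F399852 F251297 F114425 (iv4 F83152) F83153 (iv4 F163788)
theorem F399978 : act 7 n196226 = n196020 := d11_2 F358370 D196226 (iv4 D196020)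
theorem F399979 : act 0 n196226 = n132013 := d18_2 F399842 D196226 (iv4 D132013) D132014 F341592 F193524 D164416 F259061 (iv5 F399189)
theorem F399980 : act 1 n196226 = n132008 := d18_6 (iv1 F177832) (iv4 D106758) (iv1 F78004) (iv4 F163788) (iv5 F358364) D196226 (iv4 D132008) (iv0 D61948) F322879
def n196227 : Q := act 6 n106789
theorem D196227 : act 6 n106789 = n196227 := rfl
theorem F399981 : act 3 n196227 = n106792 := d7_1 D196227 (iv6 D106792) D106789
theorem F399982 : act 5 n196227 = n129068 := d12_1 D196227 F207307 F206944 F164278 (iv5 F358364)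
theorem F399983 : act 7 n196227 = n129067 := d14_2 F358370 D196227 F207305 F206949 F164283
def n196228 : Q := act 0 n106792
theorem D196228 : act 0 n106792 = n196228 := rfl
def n196229 : Q := act 1 n106792
theorem D196229 : act 1 n106792 = n196229 := rfl
def n196230 : Q := act 5 n106792
theorem D196230 : act 5 n106792 = n196230 := rfl
theorem F399984 : act 2 n196230 = n113590 := d2_1 D196230 F399974 F399971
theorem F399985 : act 3 n196230 = n129068 := d6_1 D196230 (iv5 F399982) F399981
theorem F399986 : act 7 n113591 = n196230 := d8_0 F399985 (iv7 D129068) (iv3 F341835)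
theorem F399987 : act 0 n196230 = n113593 := d20_4 (iv4 F358307) (iv1 F206945) (iv4 F207306) (iv3 F399985) F176751 F82775 (iv1 F76590) (iv4 F164339) D113274 F327651
def n196231 : Q := act 7 n106792
theorem D196231 : act 7 n106792 = n196231 := rfl
theorem F399988 : act 3 n196231 = n129067 := d8_1 D196231 (iv7 F399983) F399981
theorem F399989 : act 5 n196231 = n113591 := d13_1 D196231 F399986 (iv5 D196230)
theorem F399990 : act 1 n131997 = n196231 := d15_1 (iv0 F399975) (iv7 D196231) (iv2 F399971)
def n196232 : Q := act 3 n106801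
theorem D196232 : act 3 n106801 = n196232 := rfl
theorem F399991 : act 7 n196232 = n190465 := d8_2 (iv7 F365953) D196232 F379829
theorem F399992 : act 4 n196232 = n190460 := d20_6 (iv4 F119747) (iv1 F293596) D87476 (iv3 F330368) D106801 D196232 (iv1 F379819) (iv4 F294889) (iv3 D91871) (iv1 F119745)
theorem F399993 : act 2 n190462 = n196232 := d1_3 F399992 (iv2 D190460) D190462
theorem F399994 : act 6 n113414 = n196232 := d10_0 F399992 (iv6 F399915) F399913
def n196233 : Q := act 6 n106801
theorem D196233 : act 6 n106801 = n196233 := rfl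
theorem F399995 : act 2 n196233 = n189272 := d3_1 D196233 F376286 (iv2 F365955)
theorem F399996 : act 3 n196233 = n113414 := d7_1 D196233 F399994 (iv3 D196232)
theorem F399997 : act 4 n196233 = n188531 := d10_1 D196233 F373830 F354467
theorem F399998 : act 5 n196233 = n113413 := d12_1 D196233 (iv6 F346880) F343938 (iv6 F397859) F381033
theorem F399999 : act 7 n196233 = n189505 := d14_2 (iv7 F365953) D196233 (iv6 F399908) F399909 F399101
theorem F400000 : act 0 n196233 = n189510 := d21_10 F376767 F343672 (iv5 F372210) F372208 (iv1 F211473) (iv6 F381061) (iv5 D190783) D190781 F381033 D196233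
theorem F400001 : act 1 n196233 = n189509 := d15_1 (iv0 F400000) (iv7 F377357) F377354
def n196234 : Q := act 3 n106802
theorem D196234 : act 3 n106802 = n196234 := rfl
def n196235 : Q := act 6 n106802
theorem D196235 : act 6 n106802 = n196235 := rfl
theorem F400002 : act 2 n196235 = n196022 := d3_1 D196235 F399101 (iv2 F365952)
theorem F400003 : act 4 n196235 = n189517 := d10_1 D196235 F376782 F362862
theorem F400004 : act 7 n196235 = n189513 := d14_2 F365957 D196235 (iv6 D189513) (iv7 F376287) F376286
def n196236 : Q := act 0 n106804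
theorem D196236 : act 0 n106804 = n196236 := rfl
theorem F400005 : act 5 n196236 = n129100 := d17_3 F102058 D106804 D196236 (iv4 D129100) (iv5 D60692) F46439 F37614 F46438 D60686
theorem F400006 : act 1 n132025 = n196236 := d15_0 (iv0 D196236) (iv7 F207093) (iv2 F362879)
theorem F400007 : act 2 n132022 = n196236 := d2_3 F400005 (iv2 F211687) (iv5 F362882)
theorem F400008 : act 7 n132023 = n196236 := d13_0 F400005 (iv7 F211709) F366018
def n196237 : Q := act 1 n106804
theorem D196237 : act 1 n106804 = n196237 := rfl
theorem F400009 : act 1 n196237 = n132025 := d15_1 D196237 (iv7 D132025) (iv2 F325490)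
theorem F400010 : act 7 n196237 = n132022 := d15_2 (iv0 D196236) D196237 F400007
theorem F400011 : act 5 n196237 = n129096 := d17_7 F216104 (iv5 D106806) (iv1 D49350) F37709 (iv4 F78016) D106804 D196237 (iv0 F216106) (iv4 F216101)
theorem F400012 : act 2 n132023 = n196237 := d2_3 F400011 (iv2 F211707) F366018
def n196238 : Q := act 4 n106804
theorem D196238 : act 4 n106804 = n196238 := rfl
theorem F400013 : act 2 n196238 = n126579 := d1_1 D196238 F203601 (iv2 F325490)
theorem F400014 : act 6 n196238 = n126577 := d10_2 (iv6 F325491) D196238 F203593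
def n196239 : Q := act 4 n106805
theorem D196239 : act 4 n106805 = n196239 := rfl
theorem F400015 : act 6 n196239 = n132269 := d10_2 F209494 D196239 F211944
theorem F400016 : act 5 n196239 = n132157 := d17_5 (iv1 D49350) F37709 D49349 D106805 D196239 (iv0 D132157) (iv5 D61997) D61996 (iv4 F102072)
theorem F400017 : act 1 n196239 = n131861 := d18_6 (iv1 D29361) (iv4 F47016) D61995 (iv4 F102050) D106805 D196239 F211272 (iv0 F96590) (iv5 D62005)
def n196240 : Q := act 4 n106806
theorem D196240 : act 4 n106806 = n196240 := rfl
theorem F400018 : act 6 n196240 = n131802 := d10_2 (iv6 F164597) D196240 F211189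
theorem F400019 : act 5 n196240 = n132158 := d17_5 (iv1 F78038) F78035 (iv1 F78037) D106806 D196240 F211679 (iv5 D128651) F96584 (iv4 F102050)
theorem F400020 : act 0 n196240 = n131861 := d20_7 F306795 F305436 F95872 (iv3 F95869) F164123 (iv3 F164596) D196240 F211272 F164069 F47360
def n196241 : Q := act 0 n106808
theorem D196241 : act 0 n106808 = n196241 := rfl
theorem F400021 : act 5 n196241 = n128926 := d19_1 D196241 (iv4 F395186) (iv3 D194959) (iv1 D104807) (iv5 F293049) (iv4 F138387) F340293 F95331 (iv5 D29346) (iv4 F36901) F36902 (iv1 F23827) F23814 F11053 (iv3 F11068) (iv1 F18456) D24085 D49351 D106808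
theorem F400022 : act 1 n128668 = n196241 := d15_0 (iv0 D196241) F164602 D128668
theorem F400023 : act 2 n128667 = n196241 := d2_3 F400021 (iv2 F362944) F395753
theorem F400024 : act 7 n128666 = n196241 := d13_0 F400021 (iv7 F395670) F395669
theorem F400025 : act 1 n195096 = n128668 := d15_0 F400022 (iv7 F400024) (iv2 F395748)
theorem F400026 : act 1 n106808 = n195096 := d15_1 (iv0 D196241) (iv7 F395751) F400023
def n196242 : Q := act 2 n106808
theorem D196242 : act 2 n106808 = n196242 := rfl
theorem F400027 : act 3 n196242 = n128763 := d0_2 D106808 D196242 (iv2 D128763) (iv3 D60558) (iv2 F78017)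
theorem F400028 : act 7 n196242 = n128668 := d4_2 (iv7 F164602) D196242 (iv2 D128668)
theorem F400029 : act 1 n196242 = n128666 := d15_0 (iv0 D128666) (iv7 F164602) D196242
theorem F400030 : act 1 n128667 = n196242 := d15_0 F400029 F400024 (iv2 F400023)
def n196243 : Q := act 6 n106808
theorem D196243 : act 6 n106808 = n196243 := rfl
theorem F400031 : act 3 n196243 = n106809 := d7_1 D196243 (iv6 D106809) D106808
def n196244 : Q := act 5 n106809
theorem D196244 : act 5 n106809 = n196244 := rfl
theorem F400032 : act 2 n196244 = n128765 := d2_1 D196244 (iv5 D128765) (iv2 F164603)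
theorem F400033 : act 0 n196244 = n145453 := d17_2 F164605 D196244 (iv5 F398154) F398156 F164167 (iv0 D67618) F49671 (iv0 F46336) D59641
def n196245 : Q := act 4 n106811
theorem D196245 : act 4 n106811 = n196245 := rfl
theorem F400034 : act 2 n196245 = n126593 := d1_1 D196245 (iv4 F343606) (iv2 F343569)
theorem F400035 : act 3 n196245 = n126604 := d5_1 D196245 (iv4 F208362) (iv3 D61118) D61119 F208363
theorem F400036 : act 7 n196245 = n130289 := d11_2 (iv7 F208387) D196245 F208824
def n196246 : Q := act 6 n106811
theorem D196246 : act 6 n106811 = n196246 := rfl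
theorem F400037 : act 3 n196246 = n130199 := d7_1 D196246 (iv6 D130199) F208363
theorem F400038 : act 5 n196246 = n176680 := d12_1 D196246 (iv6 F377759) (iv5 F377762) (iv6 D113566) (iv5 F343570)
theorem F400039 : act 0 n128856 = n196246 := d17_2 (iv1 D190608) (iv5 F362290) F400038 (iv4 D176680) F331196 (iv0 D48016) D48018 D103678 F380277
def n196247 : Q := act 3 n106812
theorem D196247 : act 3 n106812 = n196247 := rfl
theorem F400040 : act 2 n196247 = n130235 := d0_1 D196247 F208753 F95647 D61151 (iv2 F218489)
theorem F400041 : act 5 n196247 = n113568 := d6_2 (iv5 F343567) D196247 (iv3 D113568)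
theorem F400042 : act 7 n196247 = n130232 := d8_2 (iv7 F343568) D196247 F349814
theorem F400043 : act 4 n134372 = n196247 := d11_3 F400042 (iv4 F349808) F349811
theorem F400044 : act 1 n130231 = n196247 := d15_1 D130231 F400042 (iv2 D130232)
theorem F400045 : act 1 n196247 = n128827 := d15_1 F400044 (iv7 F355025) (iv2 F355041)
def n196248 : Q := act 4 n106812
theorem D196248 : act 4 n106812 = n196248 := rfl
theorem F400046 : act 2 n196248 = n130289 := d1_1 D196248 F208824 (iv2 F218489)
theorem F400047 : act 3 n196248 = n126597 := d5_1 D196248 F337003 (iv3 F360768) F400043 (iv3 D196247)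
theorem F400048 : act 7 n196248 = n126593 := d11_2 (iv7 F343568) D196248 (iv4 F343606)
def n196249 : Q := act 6 n106812
theorem D196249 : act 6 n106812 = n196249 := rfl
theorem F400049 : act 2 n196249 = n130302 := d3_1 D196249 (iv6 D130302) (iv2 F218489)
def n196250 : Q := act 0 n106817
theorem D196250 : act 0 n106817 = n196250 := rfl
theorem F400050 : act 4 n196250 = n129065 := d18_1 D196250 (iv1 F207314) F207311 F206944 F164277 F164574 (iv4 F365956) (iv0 D106850) (iv5 F164626)
theorem F400051 : act 3 n129065 = n165783 := d20_9 F358994 F338348 D133022 F338345 (iv1 F161121) D113274 (iv4 F358303) D196250 F400050 (iv1 F358991)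
theorem F400052 : act 1 n135697 = n196250 := d15_0 (iv0 D196250) (iv7 F343668) F343666
theorem F400053 : act 7 n129081 = n129065 := d8_0 F400051 (iv7 F373727) (iv3 F362863)
theorem F400054 : act 7 n196250 = n135696 := d11_2 F400053 (iv4 F400050) F362861
theorem F400055 : act 2 n129065 = n129080 := d15_3 (iv0 D129080) D129081 F400053
theorem F400056 : act 2 n129081 = n129066 := d15_3 F207313 F207314 (iv7 F400053)
theorem F400057 : act 7 n129066 = n129080 := d4_2 (iv7 F400053) F400056 (iv2 F400055)
theorem F400058 : act 2 n135695 = n196250 := d1_3 F400050 F400055 (iv4 F354466)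
def n196251 : Q := act 1 n106817
theorem D196251 : act 1 n106817 = n196251 := rfl
theorem F400059 : act 1 n196251 = n135697 := d15_1 D196251 (iv7 D135697) (iv2 F164625)
theorem F400060 : act 7 n196251 = n135695 := d15_2 (iv0 D196250) D196251 F400058
theorem F400061 : act 4 n129066 = n196251 := d20_0 (iv1 D196251) F358303 (iv3 D113274) (iv1 D52282) (iv3 F82658) F82659 D111406 F365872 (iv3 F343673) (iv1 F207313)
theorem F400062 : act 2 n196251 = n135696 := d1_1 F400061 F362861 F400056
def n196252 : Q := act 4 n106822
theorem D196252 : act 4 n106822 = n196252 := rfl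
theorem F400063 : act 2 n196252 = n196217 := d1_1 D196252 (iv4 D196217) (iv2 F165488)
theorem F400064 : act 7 n196252 = n107413 := d11_2 F165487 D196252 F165674
theorem F400065 : act 5 n196252 = n145307 := d17_5 (iv1 F78153) F37850 D49358 D106822 D196252 (iv0 D145307) (iv5 D68124) D68123 (iv4 F104283)
theorem F400066 : act 1 n196252 = n107206 := d18_6 (iv1 D29336) (iv4 F46996) D61915 F165525 D106822 D196252 F165220 F100238 F100216
theorem F400067 : act 4 n190086 = n145300 := d19_18 D145307 (iv5 F400065) (iv4 D196252) (iv3 F179273) F179276 F111491 (iv4 F326339) (iv3 D90500) (iv1 F65433) (iv5 D41295) (iv4 D19424) (iv3 F35313) (iv1 D19397) D19400 D41242 D88352 D185469 (iv5 F378815) F228329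
def n196253 : Q := act 5 n106834
theorem D196253 : act 5 n106834 = n196253 := rfl
theorem F400068 : act 2 n196253 = n106836 := d2_1 D196253 (iv5 D106836) D106834
theorem F400069 : act 3 n196253 = n188454 := d6_1 D196253 F373544 F213558
theorem F400070 : act 6 n196253 = n191136 := d12_2 (iv6 F396155) D196253 F382367 F365812 D195186
theorem F400071 : act 7 n196253 = n106841 := d13_2 F164642 D196253 (iv5 D106841)
theorem F400072 : act 4 n196253 = n196194 := d17_4 (iv1 F165950) (iv5 D106844) (iv1 F213173) D196253 F399820 F399631 F399629 F164446 F364645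
theorem F400073 : act 1 n131824 = n196253 := d15_1 (iv0 F361707) F400071 (iv2 F213647)
def n196254 : Q := act 0 n106835
theorem D196254 : act 0 n106835 = n196254 := rfl
theorem F400074 : act 4 n196254 = n196052 := d18_3 D49364 D106835 D196254 (iv5 D196052) F164151 D106703 (iv4 F364643) (iv0 D106845) (iv5 D49367)
theorem F400075 : act 1 n106840 = n196254 := d15_0 (iv0 D196254) (iv7 F213629) F213627
theorem F400076 : act 6 n196059 = n196254 := d10_0 F400074 F399217 D196059
def n196255 : Q := act 1 n106835
theorem D196255 : act 1 n106835 = n196255 := rfl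
theorem F400077 : act 1 n196255 = n106840 := d15_1 D196255 (iv7 F396559) F396557
theorem F400078 : act 4 n196077 = n196255 := d20_6 (iv4 F211558) (iv1 F211564) (iv4 D61977) D61976 D132089 F399336 (iv1 D196255) (iv4 D106835) (iv3 F213163) F213161
theorem F400079 : act 3 n196255 = n195251 := d5_1 F400078 (iv4 F396469) (iv3 D134332) (iv4 F211626) F399336
def n196256 : Q := act 5 n106835
theorem D196256 : act 5 n106835 = n196256 := rfl
def n196257 : Q := act 6 n106835
theorem D196257 : act 6 n106835 = n196257 := rfl
theorem F400080 : act 4 n196257 = n106837 := d10_1 D196257 (iv6 D106837) D106835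
theorem F400081 : act 5 n114912 = n196257 := d16_1 (iv4 F179004) F400080 F365928 (iv4 D52613) D52614 D113997 F177634 (iv7 F193505) (iv2 F193507)
def n196258 : Q := act 0 n106837
theorem D196258 : act 0 n106837 = n196258 := rfl
theorem F400082 : act 5 n196258 = n195241 := d17_3 F177631 (iv5 F365928) D196258 F396428 F163170 F178185 F114422 F77528 (iv4 F163135)
theorem F400083 : act 2 n196054 = n196258 := d15_3 (iv0 D196258) (iv0 F364239) (iv7 F399229)
theorem F400084 : act 1 n113977 = n196258 := d15_0 (iv0 D196258) (iv7 F396142) F396141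
theorem F400085 : act 3 n196223 = n196258 := d19_19 (iv1 F400084) (iv5 D113977) (iv4 D52608) D52607 D113967 F336815 D114920 F309263 (iv1 F136931) (iv5 F67005) (iv4 F67002) F35976 (iv1 F290869) (iv5 F32417) (iv4 F67789) (iv3 F142287) (iv1 F364365) (iv5 F290245) (iv4 F399968)
def n196259 : Q := act 5 n106840
theorem D196259 : act 5 n106840 = n196259 := rfl
def n196260 : Q := act 6 n106840
theorem D196260 : act 6 n106840 = n196260 := rfl
theorem F400086 : act 3 n196260 = n182386 := d7_1 D196260 (iv6 F363957) F207584
theorem F400087 : act 4 n196260 = n106842 := d10_1 D196260 (iv6 D106842) D106840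
theorem F400088 : act 7 n183411 = n196260 := d11_0 F400087 F359003 (iv4 F285130)
def n196261 : Q := act 1 n106842
theorem D196261 : act 1 n106842 = n196261 := rfl
theorem F400089 : act 1 n196261 = n183519 := d15_1 D196261 F359004 F213650
theorem F400090 : act 7 n196261 = n183518 := d15_2 F359015 D196261 (iv2 F359012)
theorem F400091 : act 5 n157786 = n196261 := d21_6 (iv5 F373472) (iv1 F370265) F288005 (iv6 F358241) (iv1 F358239) F377861 (iv1 D196261) F359002 (iv6 F296040) D188437
theorem F400092 : act 2 n196261 = n183517 := d2_1 F400091 F359007 F363216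
def n196262 : Q := act 3 n106845
theorem D196262 : act 3 n106845 = n196262 := rfl
theorem F400093 : act 5 n196262 = n129195 := d6_2 (iv5 F358298) D196262 (iv3 F211237)
theorem F400094 : act 0 n196262 = n196084 := d20_4 F211433 (iv1 F164439) (iv4 F364643) D196262 F399351 (iv4 F343654) (iv1 F164393) (iv4 F211657) (iv3 F398934) (iv1 F398953)
theorem F400095 : act 4 n196262 = n190776 := d20_6 F77871 (iv1 F37998) F37995 (iv3 F78054) D106845 D196262 F381010 F164511 (iv3 D49329) (iv1 F77868)
theorem F400096 : act 2 n191118 = n196262 := d1_3 F400095 F381008 (iv4 F382293)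
theorem F400097 : act 6 n110771 = n196262 := d10_0 F400095 (iv6 D190776) F358381
def n196263 : Q := act 6 n106845
theorem D196263 : act 6 n106845 = n196263 := rfl
theorem F400098 : act 3 n196263 = n110771 := d7_1 D196263 F400097 (iv3 D196262)
theorem F400099 : act 4 n196263 = n164417 := d10_1 D196263 (iv6 F259066) (iv4 F364643)
theorem F400100 : act 0 n196263 = n164205 := d21_10 F363068 (iv1 F399860) F399858 F164555 (iv1 F164275) F358289 (iv5 D131824) D131821 (iv5 F358298) D196263
theorem E103655 : n189450 = n189419 := ((c20_7 (iv4 F400099) F400100 (iv4 D164205) (iv3 F293801) F293798 F377438 D189419 (iv1 D189450) (iv4 F144878) (iv3 F177536) (iv1 F259065))).symm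
theorem F400101 : act 0 n189419 = n93973 := (sb E103655 (iv1 D189450))
theorem F400102 : act 1 n196263 = n164208 := d15_1 (iv0 F400100) F258828 (iv2 F258815)
theorem F400103 : act 7 n164416 = n196263 := d11_0 F400099 (iv7 D164417) D164416
def n196264 : Q := act 3 n106846
theorem D196264 : act 3 n106846 = n196264 := rfl
theorem F400104 : act 4 n196264 = n191172 := d5_2 (iv4 F364644) D196264 F382468 F399607 (iv3 D196145)
theorem F400105 : act 0 n190480 = n191172 := d20_1 F399277 (iv4 F400104) (iv3 D196264) (iv1 D106846) F78054 (iv4 F37995) (iv1 F37997) (iv4 F77864) D106647 F399278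
theorem F400106 : act 6 n191171 = n196264 := d10_0 F400104 (iv6 D191172) D191171
def n196265 : Q := act 6 n106846
theorem D196265 : act 6 n106846 = n196265 := rfl
theorem F400107 : act 3 n196265 = n191171 := d7_1 D196265 F400106 (iv3 D196264)
theorem F400108 : act 4 n196265 = n196147 := d10_1 D196265 (iv6 D196147) (iv4 F364644)
def n196266 : Q := act 3 n106850
theorem D196266 : act 3 n106850 = n196266 := rfl
theorem F400109 : act 4 n196266 = n189444 := d5_2 (iv4 F365956) D196266 F376615 F376292 F205519
theorem F400110 : act 6 n196266 = n191258 := d7_2 F376286 D196266 F382776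
theorem F400111 : act 7 n196266 = n196234 := d8_2 (iv7 F365957) D196266 (iv3 D196234)
theorem F400112 : act 5 n189453 = n189444 := d19_1 D189453 (iv4 F400109) (iv3 D196266) (iv1 F164651) (iv5 F218192) F330373 (iv3 D86128) (iv1 F70012) D95269 F146890 (iv3 F294941) (iv1 F157824) F157822 (iv4 F144867) (iv3 D94032) (iv1 F69087) D43970 F69127 D93974
def n196267 : Q := act 5 n106850
theorem D196267 : act 5 n106850 = n196267 := rfl
theorem F400113 : act 2 n196267 = n190781 := d2_1 D196267 F381033 F365955
theorem F400114 : act 7 n196267 = n190782 := d13_2 (iv7 F365957) D196267 F381037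
theorem F400115 : act 0 n196267 = n160995 := d17_2 D106850 D196267 (iv5 F380440) (iv4 F399574) F399575 (iv0 F360350) F288367 (iv0 F157310) F78526
theorem F400116 : act 4 n190660 = n196267 := d20_6 F58171 (iv1 D21479) D21480 D44987 D96344 D190660 F400115 F254496 (iv3 D86360) F60838
theorem F400117 : act 1 n196267 = n113403 := d15_1 (iv0 F400115) (iv7 F202938) (iv2 F364787)
theorem F400118 : act 6 n196267 = n195693 := d10_2 (iv6 F380484) F400116 F397876
theorem F400119 : act 5 n180328 = n190793 := d21_0 (iv1 F381092) (iv5 F362766) (iv6 F202897) (iv1 F397878) (iv6 F400118) (iv5 D196267) (iv1 F164651) (iv5 F218192) F330374 D180328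
def n196268 : Q := act 4 n106854
theorem D196268 : act 4 n106854 = n196268 := rfl
theorem F400120 : act 2 n196268 = n196239 := d1_1 D196268 (iv4 D196239) (iv2 F164655)
theorem F400121 : act 3 n196268 = n189785 := d5_1 D196268 (iv4 D189785) F366836 F329430 (iv3 F164656)
theorem F400122 : act 6 n196268 = n128678 := d10_2 F164879 D196268 F211348
theorem F400123 : act 7 n196268 = n196240 := d11_2 (iv7 F164657) D196268 (iv4 D196240)
theorem F400124 : act 5 n196268 = n129089 := d17_5 (iv1 D49372) F37736 D49371 D106854 D196268 F207321 (iv5 D106654) F95276 (iv4 F102064)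
theorem F400125 : act 0 n196268 = n128749 := d18_2 F164658 D196268 F207018 (iv5 F96446) (iv4 F211272) (iv0 F400020) (iv4 D196240) (iv0 F216104) F216102
theorem F400126 : act 1 n196268 = n196033 := d18_6 (iv1 F46438) (iv4 F77876) (iv1 F95277) (iv4 F102053) D106854 D196268 F399133 F163835 (iv5 D60687)
theorem F400127 : act 3 n129089 = n132948 := d6_1 F400124 (iv5 F394695) (iv3 F400121)
def n196269 : Q := act 4 n106855
theorem D196269 : act 4 n106855 = n196269 := rfl
theorem F400128 : act 2 n196269 = n196240 := d1_1 D196269 (iv4 D196240) (iv2 F164660)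
theorem F400129 : act 6 n196269 = n113662 := d10_2 (iv6 F164662) D196269 F358165
theorem F400130 : act 7 n196269 = n196239 := d11_2 (iv7 F164661) D196269 (iv4 D196239)
theorem F400131 : act 5 n196269 = n113540 := d17_5 (iv1 F78059) F48376 (iv1 F78060) D106855 D196269 F399091 (iv5 D60683) D60682 (iv4 F102053)
theorem F400132 : act 1 n196269 = n128749 := d18_6 (iv1 D28803) (iv4 F46437) D60681 (iv4 F102064) D106855 D196269 F207018 (iv0 F96448) (iv5 D60692)
theorem F400133 : act 0 n196269 = n196033 := d20_1 D196269 F399133 (iv3 F176761) F176764 (iv3 F211690) F338657 (iv1 D114766) (iv4 F329476) (iv3 F176483) F176486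
theorem F400134 : act 3 n113543 = n196269 := d6_3 F400131 F176703 D113543
def n196270 : Q := act 0 n106857
theorem D196270 : act 0 n106857 = n196270 := rfl
theorem F400135 : act 5 n196270 = n188150 := d17_1 D196270 (iv1 F372492) (iv5 D109045) D109044 (iv5 F373095) F387860 F387858 (iv0 F173534) F173532
theorem F400136 : act 2 n140349 = n196270 := d15_3 (iv0 D196270) (iv0 F378256) (iv7 F378258)
theorem F400137 : act 1 n140350 = n196270 := d15_0 (iv0 D196270) F164672 D140350
theorem F400138 : act 7 n196270 = n140348 := d15_2 (iv0 F378257) F400137 (iv2 F378254)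
theorem F400139 : act 6 n174093 = n196270 := d21_9 F387477 (iv1 F387468) (iv5 D109042) F378714 (iv1 D51475) D51479 D111625 F343719 D174093 (iv1 F400137)
theorem F400140 : act 4 n196270 = n174271 := d10_1 F400139 (iv6 D174271) (iv4 F272897)
def n196271 : Q := act 2 n106857
theorem D196271 : act 2 n106857 = n196271 := rfl
theorem F400141 : act 3 n196271 = n113575 := d0_2 D106857 D196271 (iv2 D113575) (iv3 D52421) (iv2 F78061)
theorem F400142 : act 5 n196271 = n109184 := d2_2 (iv5 F164671) D196271 (iv2 D109184)
theorem F400143 : act 7 n196271 = n140350 := d4_2 (iv7 F164672) D196271 (iv2 D140350)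
theorem F400144 : act 1 n196271 = n140348 := d15_0 (iv0 D140348) (iv7 F164672) D196271
theorem F400145 : act 1 n140349 = n196271 := d15_0 F400144 (iv7 F400138) (iv2 F400136)
def n196272 : Q := act 6 n106857
theorem D196272 : act 6 n106857 = n196272 := rfl
theorem F400146 : act 3 n196272 = n106858 := d7_1 D196272 (iv6 D106858) D106857
theorem F400147 : act 4 n196272 = n158032 := d10_1 D196272 F365578 F173532
def n196273 : Q := act 5 n106858
theorem D196273 : act 5 n106858 = n196273 := rfl
theorem F400148 : act 2 n196273 = n113577 := d2_1 D196273 (iv5 D113577) (iv2 F164673)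
theorem F400149 : act 6 n196273 = n109189 := d12_2 D106858 D196273 (iv5 D109189) (iv6 D50390) F78065
theorem F400150 : act 0 n196273 = n141965 := d17_2 F168436 D196273 F343768 (iv4 D111317) F81028 (iv0 D50237) (iv5 D24497) D24496 D50234
theorem F400151 : act 1 n196273 = n109991 := d17_6 (iv1 F173238) (iv5 F97078) (iv1 F168011) F80575 (iv4 F164674) D196273 (iv5 D109991) (iv0 F171524) (iv4 F173235)
def n196274 : Q := act 3 n106862
theorem D196274 : act 3 n106862 = n196274 := rfl
theorem F400152 : act 5 n196274 = n111515 := d6_2 (iv5 F224839) D196274 (iv3 F224836)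
theorem F400153 : act 7 n196274 = n140355 := d8_2 (iv7 F224841) D196274 (iv3 D140355)
theorem F400154 : act 4 n196274 = n137699 := d20_6 (iv4 D14612) (iv1 F18488) D24098 D49376 D106862 D196274 (iv1 F220881) F168835 (iv3 D50259) F38494
theorem F400155 : act 0 n196274 = n140494 := d20_10 (iv4 F223848) (iv1 D137125) D137127 (iv3 F223827) (iv1 F388306) F388302 F155613 D100992 F357501 D196274
def n196275 : Q := act 6 n106862
theorem D196275 : act 6 n106862 = n196275 := rfl
theorem F400156 : act 2 n196275 = n140363 := d3_1 D196275 (iv6 D140363) (iv2 F224840)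
theorem F400157 : act 4 n196275 = n192951 := d10_1 D196275 (iv6 D192951) F357501
theorem F400158 : act 5 n196275 = n189916 := d12_1 D196275 F378235 F378262 (iv6 F370875) (iv5 F224839)
def n196276 : Q := act 3 n106863
theorem D196276 : act 3 n106863 = n196276 := rfl
theorem F400159 : act 4 n196276 = n129322 := d5_2 (iv4 F357507) D196276 F348507 (iv4 F354174) (iv3 F357509)
theorem F400160 : act 7 n196276 = n140360 := d8_2 (iv7 F224844) D196276 (iv3 D140360)
theorem F400161 : act 0 n140515 = n196276 := d20_4 (iv4 F182940) F223667 (iv4 D140516) D140515 (iv3 D196276) F357507 (iv1 D100993) (iv4 F155613) (iv3 F388302) F388307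
def n196277 : Q := act 6 n106863
theorem D196277 : act 6 n106863 = n196277 := rfl
theorem F400162 : act 2 n196277 = n140358 := d3_1 D196277 (iv6 D140358) (iv2 F224843)
theorem F400163 : act 4 n196277 = n192952 := d10_1 D196277 (iv6 D192952) (iv4 F357507)
theorem F400164 : act 5 n196277 = n180788 := d12_1 D196277 (iv6 D180788) (iv5 F248825) F350367 (iv5 F224847)
theorem F400165 : act 1 n108528 = n196277 := d17_6 F328763 (iv5 F328786) (iv1 F334684) (iv5 D125292) (iv4 F304199) (iv5 F363313) F400164 (iv0 F355395) F280524
theorem F400166 : act 0 n139424 = n174442 := d20_4 (iv4 F101618) (iv1 F166278) F166275 D139424 (iv3 F388316) (iv4 F400163) (iv1 F400165) (iv4 F172474) F172473 F103415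
def n196278 : Q := act 5 n106864
theorem D196278 : act 5 n106864 = n196278 := rfl
theorem F400167 : act 2 n196278 = n106865 := d2_1 D196278 (iv5 D106865) D106864
theorem F400168 : act 3 n196278 = n115768 := d6_1 D196278 (iv5 D115768) (iv3 F164685)
theorem F400169 : act 6 n196278 = n189001 := d12_2 (iv6 F331774) D196278 (iv5 D189001) (iv6 D92978) (iv5 F143292)
theorem F400170 : act 7 n196278 = n140364 := d13_2 (iv7 F164687) D196278 (iv5 D140364)
theorem F400171 : act 0 n196278 = n140367 := d17_2 (iv1 F164688) D196278 F350396 D141816 (iv5 F364783) (iv0 D101182) (iv5 F294234) F357567 (iv4 D140356)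
theorem F400172 : act 1 n196278 = n139327 := d17_6 D110879 F350405 (iv1 D100599) F329481 (iv4 F164686) D196278 (iv5 F222515) (iv0 D66489) (iv4 F80649)
theorem F400173 : act 4 n196278 = n188139 := d18_5 (iv1 F388311) F388312 (iv1 F172956) (iv4 F164686) D196278 (iv0 D188139) (iv4 F371957) (iv0 F387687) (iv5 F387688)
def n196279 : Q := act 0 n106865
theorem D196279 : act 0 n106865 = n196279 := rfl
theorem F400174 : act 4 n196279 = n110906 := d18_1 D196279 F354331 D192760 (iv5 F387688) (iv4 F375609) F375613 F357501 (iv0 D106862) D106865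
theorem F400175 : act 3 n196279 = n111404 := d20_5 D49399 F78122 (iv4 F78078) (iv3 F164691) D196279 (iv4 D111404) D111402 F354461 (iv3 D106925) (iv1 D49398)
theorem F400176 : act 2 n140367 = n196279 := d15_3 (iv0 D196279) F350413 (iv7 F350394)
theorem F400177 : act 1 n140364 = n196279 := d15_0 (iv0 D196279) F164692 (iv2 F223474)
theorem F400178 : act 7 n196279 = n139327 := d15_2 F372466 F400177 (iv2 F350371)
theorem F400179 : act 5 n196279 = n106871 := d17_7 D66197 (iv5 F361316) (iv1 F350410) (iv5 F350400) F172958 D140364 F400177 (iv0 D106871) F78090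
theorem F400180 : act 6 n191952 = n196279 := d21_9 (iv5 D140364) (iv1 F164689) F224847 (iv6 F350367) (iv1 D157928) (iv6 F345257) F345256 (iv1 F345263) (iv5 F384972) (iv1 F400177)
def n196280 : Q := act 3 n106868
theorem D196280 : act 3 n106868 = n196280 := rfl
theorem F400181 : act 4 n196280 = n115366 := d5_2 F167974 D196280 (iv3 D115366) F165010 F167971
theorem F400182 : act 7 n196280 = n115786 := d8_2 (iv7 F164698) D196280 (iv3 D115786)
theorem F400183 : act 0 n196280 = n140492 := d20_4 F168660 (iv1 F167969) F167974 D196280 F371650 (iv4 F371646) F371645 (iv4 F180169) (iv3 D115795) (iv1 F168663)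
def n196281 : Q := act 4 n106871
theorem D196281 : act 4 n106871 = n196281 := rfl
theorem F400184 : act 2 n196281 = n141816 := d1_1 D196281 (iv4 D141816) (iv2 F219094)
theorem F400185 : act 3 n196281 = n194037 := d5_1 D196281 (iv4 D194037) F333119 D136119 F219089
theorem F400186 : act 7 n196281 = n141813 := d11_2 (iv7 F219092) D196281 (iv4 D141813)
theorem F400187 : act 5 n196281 = n188139 := d16_1 D196281 (iv4 F400173) (iv5 D196278) F164686 (iv5 F329481) (iv4 F154662) (iv5 F350393) (iv7 F219095) (iv2 F219094)
theorem F400188 : act 0 n139284 = n196281 := d20_10 (iv4 D196281) (iv1 F164706) (iv4 F171781) F171780 (iv1 F84539) D66228 (iv4 F181718) F206754 F206753 D139284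
theorem F400189 : act 6 n196281 = n137184 := d21_5 (iv5 F352526) F380046 F380045 (iv6 F380080) F400188 (iv5 D137184) (iv1 D64483) D64484 (iv6 F220344) (iv1 F352527)
def n196282 : Q := act 6 n106871
theorem D196282 : act 6 n106871 = n196282 := rfl
theorem F400190 : act 2 n196282 = n141818 := d3_1 D196282 (iv6 D141818) (iv2 F219094)
theorem F400191 : act 3 n196282 = n157636 := d7_1 D196282 F350378 F219089
theorem F400192 : act 4 n196282 = n137184 := d10_1 D196282 (iv6 F400189) (iv4 D196281)
theorem F400193 : act 0 n140344 = n196282 := d20_4 F79291 (iv1 F49245) D65874 D140344 F400191 (iv4 D157636) (iv1 F351596) D138207 F221369 (iv1 F101522)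
def n196283 : Q := act 3 n106872
theorem D196283 : act 3 n106872 = n196283 := rfl
theorem F400194 : act 5 n196283 = n192756 := d6_2 (iv5 F350393) D196283 F387680
theorem F400195 : act 7 n196283 = n141815 := d8_2 F219095 D196283 (iv3 D141815)
theorem F400196 : act 4 n196283 = n126975 := d20_6 (iv4 D53527) (iv1 F40983) (iv4 F49457) (iv3 F102376) (iv1 F164711) D196283 (iv1 D126975) F101516 F181445 (iv1 D116130)
theorem F400197 : act 0 n141855 = n196283 := d20_10 F400196 (iv1 D126975) F101516 F181445 (iv1 D116130) D116131 (iv4 F339993) F339990 (iv4 D141856) D141855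
def n196284 : Q := act 4 n106872
theorem D196284 : act 4 n106872 = n196284 := rfl
theorem F400198 : act 2 n196284 = n141813 := d1_1 D196284 (iv4 D141813) F219093
theorem F400199 : act 5 n196284 = n140368 := d9_2 (iv5 F350393) D196284 (iv4 D140368) (iv5 D65884) (iv4 F81165) (iv5 F171816) (iv4 F400174) F400179 D196281 F400187 (iv4 F400173) (iv5 D196278) F164686 (iv5 F329481) (iv4 F154662)
theorem F400200 : act 6 n196284 = n186957 := d10_2 F364387 D196284 F368660
theorem F400201 : act 7 n196284 = n141816 := d11_2 F219095 D196284 (iv4 D141816)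
theorem F400202 : act 3 n196284 = n126873 := d20_3 F171781 (iv1 F164711) D196284 (iv1 F204113) F179847 (iv4 D115548) (iv1 F179518) (iv4 F224101) (iv3 D141124) (iv1 F171783)
theorem F400203 : act 1 n139284 = n196284 := d15_1 (iv0 F400188) F400201 (iv2 F400184)
def n196285 : Q := act 5 n106873
theorem D196285 : act 5 n106873 = n196285 := rfl
theorem F400204 : act 2 n196285 = n106874 := d2_1 D196285 (iv5 D106874) D106873
theorem F400205 : act 3 n196285 = n116092 := d6_1 D196285 (iv5 D116092) (iv3 F164707)
theorem F400206 : act 4 n196285 = n192950 := d9_1 D196285 (iv5 D192950) F357501 F224839 (iv4 F224837) (iv5 D110882) F80649 D66492 D141823 F357505 (iv4 F357507) F224847 F224849 (iv5 D141133) (iv4 F164708)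
theorem F400207 : act 7 n196285 = n141819 := d13_2 (iv7 F164709) D196285 (iv5 D141819)
theorem F400208 : act 1 n196285 = n141821 := d17_6 D65391 D139316 (iv1 F357508) (iv5 D141133) (iv4 F164708) D196285 (iv5 F224839) (iv0 D106862) F78075
theorem F400209 : act 0 n196285 = n141822 := d21_1 D196285 (iv5 F224847) D196277 (iv1 F400165) (iv6 D108528) D108527 F371972 F350373 F338935 (iv1 F164710)
theorem F400210 : act 6 n184123 = n196285 := d21_3 F241639 F373454 F373451 F400209 (iv6 F350367) F248825 (iv1 D86346) D86348 D180791 (iv1 F353013)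
def n196286 : Q := act 4 n106874
theorem D196286 : act 4 n106874 = n196286 := rfl
theorem F400211 : act 2 n196286 = n192950 := d1_1 D196286 (iv4 F400206) F400204
theorem F400212 : act 3 n196286 = n109087 := d5_1 D196286 (iv4 D109087) F79741 (iv4 F78093) (iv3 F164713)
theorem F400213 : act 7 n196286 = n141823 := d11_2 (iv7 F164714) D196286 (iv4 D141823)
theorem F400214 : act 5 n196286 = n140361 := d16_1 D196286 (iv4 D140361) D140362 (iv4 F387571) (iv5 F387573) F171781 D141819 (iv7 F400207) F400204
theorem F400215 : act 0 n188161 = n196286 := d21_10 F400214 (iv1 F357566) (iv5 F372462) F372463 (iv1 F153265) D101148 (iv5 F368007) F372508 (iv5 D188160) D188161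
def n196287 : Q := act 6 n106874
theorem D196287 : act 6 n106874 = n196287 := rfl
theorem F400216 : act 2 n196287 = n184123 := d3_1 D196287 F400210 F400204
theorem F400217 : act 3 n196287 = n106876 := d7_1 D196287 (iv6 D106876) (iv3 F164713)
theorem F400218 : act 5 n196287 = n128389 := d21_6 (iv5 F387477) F378257 (iv5 F378261) (iv6 F372498) (iv1 F350421) D196287 (iv1 D128389) D128391 F355979 (iv1 F387478)
theorem F400219 : act 0 n196287 = n153755 := d21_10 (iv5 D153755) F353004 D103843 F351158 (iv1 F153059) D100597 (iv5 F350393) (iv1 D106872) D106874 D196287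
theorem F400220 : act 0 n194592 = n196287 := d17_2 D103840 D194592 F400218 (iv4 F244852) F362971 F385591 (iv5 F385589) (iv0 D103278) (iv4 F75521)
def n196288 : Q := act 5 n106875
theorem D196288 : act 5 n106875 = n196288 := rfl
theorem F400221 : act 3 n196288 = n106879 := d6_1 D196288 (iv5 D106879) (iv3 F164715)
theorem F400222 : act 4 n196288 = n110397 := d9_1 D196288 (iv5 D110397) F80318 D107171 (iv4 F227809) F360363 D192411 F386663 F273433 F128536 (iv4 F328794) (iv5 F355849) F355868 (iv5 D141140) (iv4 F164716)
theorem F400223 : act 6 n196288 = n128389 := d12_2 D106875 D196288 (iv5 F400218) (iv6 D196287) (iv5 D106874)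
theorem F400224 : act 7 n196288 = n175026 := d13_2 (iv7 F393146) D196288 (iv5 F393141)
theorem E103656 : n195925 = n111029 := ((c20_10 (iv4 F392267) F355863 (iv4 F400222) F400221 (iv1 F331822) F165217 F78290 (iv1 F77654) F102172 D111029 (iv1 D195925))).symm
theorem F400225 : act 0 n111029 = n106436 := (sb E103656 (iv1 D195925))
theorem F400226 : act 5 n111029 = n192407 := (sb E103656 F398745)
theorem F400227 : act 3 n192407 = n111030 := d6_1 F400226 (iv5 D111030) D111029
theorem F400228 : act 5 n192509 = n107213 := d13_3 (iv7 F172188) F400226 (iv7 F386886)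
theorem F400229 : act 3 n107214 = n192509 := d6_3 F400228 (iv3 D107213) D107214
theorem F400230 : act 2 n107213 = n195924 := d15_3 (iv0 D195924) (iv0 F400225) F172188
theorem F400231 : act 3 n195924 = n107341 := d0_2 D107213 F400230 (iv2 F360692) (iv3 D111027) (iv2 F102176)
theorem F400232 : act 5 n195924 = n192408 := d2_2 F400228 F400230 (iv2 F386885)
def n196289 : Q := act 5 n106876
theorem D196289 : act 5 n106876 = n196289 := rfl
theorem F400233 : act 2 n196289 = n116104 := d2_1 D196289 (iv5 D116104) (iv2 F164717)
theorem F400234 : act 3 n196289 = n128389 := d6_1 D196289 (iv5 F400218) F400217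
theorem F400235 : act 6 n196289 = n106879 := d12_2 D106876 D196289 (iv5 D106879) (iv6 D49382) D49381
theorem F400236 : act 0 n196289 = n125494 := d21_1 D196289 (iv5 F362343) (iv6 D106928) F78122 D50392 D109198 F364776 D138453 F373410 (iv1 F373408)
def n196290 : Q := act 3 n106877
theorem D196290 : act 3 n106877 = n196290 := rfl
theorem F400237 : act 4 n196290 = n195539 := d5_2 (iv4 F164719) D196290 (iv3 D195539) (iv4 D105664) D105663
theorem F400238 : act 6 n196290 = n138772 := d7_2 (iv6 F171593) D196290 (iv3 D138772)
theorem F400239 : act 7 n196290 = n116109 := d8_2 F172149 D196290 (iv3 D116109)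
theorem F400240 : act 0 n196290 = n127086 := d19_4 (iv1 F364302) (iv5 F331028) (iv4 F164719) D196290 (iv5 D127086) (iv4 D59638) F328410 F328026 F327563 (iv4 D54115) (iv3 F85421) F85423 (iv5 D52674) F76601 (iv3 F76600) D52635 (iv5 F177148) (iv4 D113854) D113853
theorem F400241 : act 5 n128803 = n196290 := d17_1 (iv1 F207057) F400240 (iv5 D127086) (iv4 D59638) F328411 D113861 F328775 F95191 (iv4 F104328)
theorem F400242 : act 1 n196290 = n127081 := d15_1 (iv0 F400240) F204322 (iv2 F204330)
def n196291 : Q := act 5 n106877
theorem D196291 : act 5 n106877 = n196291 := rfl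
theorem F400243 : act 2 n196291 = n116108 := d2_1 D196291 (iv5 D116108) (iv2 F172150)
theorem F400244 : act 3 n196291 = n128803 := d6_1 D196291 F400241 (iv3 D196290)
theorem F400245 : act 7 n196291 = n116110 := d13_2 F172149 D196291 (iv5 D116110)
theorem F400246 : act 1 n196291 = n115282 := d17_6 D134823 (iv5 F336154) (iv1 F364302) (iv5 F331028) (iv4 F164719) D196291 (iv5 F331023) F222784 F111560
theorem F400247 : act 6 n145320 = n196291 := d7_0 F400244 (iv6 F207059) D145320
theorem F400248 : act 0 n145320 = n107081 := d21_4 (iv5 D106879) D106877 D196291 (iv6 F400247) (iv6 D107081) (iv5 F166899) (iv1 F93286) (iv5 F78287) D107197 F331817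
def n196292 : Q := act 3 n106878
theorem D196292 : act 3 n106878 = n196292 := rfl
theorem F400249 : act 4 n196292 = n115479 := d5_2 (iv4 F204066) D196292 (iv3 D115479) (iv4 F179780) D126818
theorem F400250 : act 6 n196292 = n108889 := d7_2 F362634 D196292 F345431
theorem F400251 : act 7 n196292 = n116106 := d8_2 (iv7 F172152) D196292 (iv3 D116106)
theorem F400252 : act 0 n192406 = n115506 := d20_10 (iv4 D115506) (iv1 F365189) (iv4 F400249) (iv3 D196292) (iv1 D106878) (iv3 F164715) F164716 F360355 (iv4 F154092) (iv3 F386659)
theorem F400253 : act 0 n196292 = n141848 := d21_4 (iv5 D65908) F79651 D108889 (iv6 F400250) (iv6 D141848) D141847 F345314 (iv5 D140498) (iv6 F351309) (iv1 D140418)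
def n196293 : Q := act 5 n106878
theorem D196293 : act 5 n106878 = n196293 := rfl
theorem F400254 : act 2 n196293 = n116110 := d2_1 D196293 (iv5 D116110) F172151
theorem F400255 : act 6 n196293 = n161962 := d12_2 F362634 D196293 (iv5 D161962) F301968 D123490
theorem F400256 : act 7 n196293 = n116108 := d13_2 (iv7 F172152) D196293 (iv5 D116108)
theorem F400257 : act 0 n196293 = n115282 := d17_2 (iv1 F164722) D196293 (iv5 F331023) (iv4 D139622) (iv5 F216877) (iv0 F216880) F98851 F78099 (iv4 F84431)
def n196294 : Q := act 3 n106881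
theorem D196294 : act 3 n106881 = n196294 := rfl
theorem F400258 : act 4 n196294 = n126854 := d5_2 D106881 D196294 (iv3 D126854) F102189 (iv3 F102187)
theorem F400259 : act 6 n196294 = n138780 := d7_2 (iv6 F164730) D196294 (iv3 D138780)
theorem F400260 : act 7 n196294 = n116122 := d8_2 (iv7 F164731) D196294 (iv3 D116122)
theorem F400261 : act 2 n154770 = n196294 := d3_3 F400259 F359344 D154770
theorem F400262 : act 1 n154770 = n134735 := d15_0 (iv0 F360185) (iv7 F400260) (iv2 F400261)
theorem F400263 : act 0 n140331 = n196294 := d20_7 F203781 (iv1 F93786) D59535 (iv3 F102339) F321546 (iv3 F204237) (iv4 F223443) F400258 (iv3 D126854) (iv1 F203784)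
def n196295 : Q := act 5 n106881
theorem D196295 : act 5 n106881 = n196295 := rfl
theorem F400264 : act 2 n196295 = n116117 := d2_1 D196295 (iv5 D116117) (iv2 F164729)
theorem F400265 : act 7 n196295 = n116123 := d13_2 (iv7 F164731) D196295 (iv5 D116123)
theorem F400266 : act 4 n196295 = n115280 := d18_5 (iv1 D106878) F78098 D49383 D106881 D196295 (iv0 D115280) D115282 (iv0 F400257) (iv5 D196293)
def n196296 : Q := act 4 n106882
theorem D196296 : act 4 n106882 = n196296 := rfl
theorem F400267 : act 2 n196296 = n116118 := d1_1 D196296 (iv4 D116118) (iv2 F164733)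
theorem F400268 : act 6 n196296 = n141156 := d10_2 (iv6 F164735) D196296 (iv4 D141156)
theorem F400269 : act 7 n196296 = n116125 := d11_2 (iv7 F164736) D196296 (iv4 D116125)
theorem F400270 : act 5 n196296 = n136844 := d17_5 (iv1 F95955) F47990 D49383 D106882 D196296 F365680 (iv5 D134196) (iv0 F209720) (iv4 D131028)
theorem F400271 : act 0 n196296 = n134291 := d17_0 F331009 F179537 F331018 F98241 (iv5 F49158) (iv0 F163937) F163940 (iv0 F164737) D196296
theorem F400272 : act 3 n136846 = n196296 := d20_5 (iv4 F93770) (iv1 F98533) F98531 D64370 (iv1 F220495) (iv4 D196296) F164737 (iv4 F323861) F48564 D30191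
def n196297 : Q := act 3 n106883
theorem D196297 : act 3 n106883 = n196297 := rfl
theorem F400273 : act 4 n196297 = n107219 := d5_2 D106883 D196297 (iv3 D107219) (iv4 D49537) (iv3 F102055)
theorem F400274 : act 7 n196297 = n116116 := d8_2 (iv7 F164740) D196297 (iv3 D116116)
theorem F400275 : act 0 n196297 = n106908 := d20_4 F84431 (iv1 F78099) D106883 D196297 (iv3 F340045) F340044 F397284 (iv4 F400237) (iv3 D196290) F164720
def n196298 : Q := act 5 n106883
theorem D196298 : act 5 n106883 = n196298 := rfl
theorem F400276 : act 2 n196298 = n116123 := d2_1 D196298 (iv5 D116123) (iv2 F164739)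
theorem F400277 : act 7 n196298 = n116117 := d13_2 (iv7 F164740) D196298 (iv5 D116117)
def n196299 : Q := act 3 n106885
theorem D196299 : act 3 n106885 = n196299 := rfl
theorem F400278 : act 7 n196299 = n141130 := d8_2 (iv7 F397103) D196299 F224103
theorem F400279 : act 4 n196299 = n110880 := d20_6 (iv4 F40972) D28711 F46300 D49386 D106885 D196299 (iv1 D110880) F80649 (iv3 D31040) (iv1 F40970)
theorem F400280 : act 2 n141125 = n196299 := d1_3 F400279 F361311 D141125
theorem F400281 : act 5 n193065 = n196299 := d16_1 (iv4 F388643) F400279 (iv5 F350412) D192758 F387684 F155613 (iv5 F294249) D188140 F372460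
def n196300 : Q := act 4 n106885
theorem D196300 : act 4 n106885 = n196300 := rfl
def n196301 : Q := act 5 n106885
theorem D196301 : act 5 n106885 = n196301 := rfl
theorem F400282 : act 3 n196301 = n193065 := d6_1 D196301 F400281 (iv3 D196299)
theorem F400283 : act 7 n196301 = n193097 := d13_2 (iv7 F397103) D196301 (iv5 F388739)
theorem F400284 : act 6 n193064 = n196301 := d14_5 F400283 (iv6 D193097) (iv7 D101176) (iv6 F155849) D193064
theorem F400285 : act 0 n106923 = n196301 := d20_4 F84247 (iv1 F79575) F78115 D106923 F400282 F388643 (iv1 F372458) (iv4 D140368) F101548 (iv1 F84244)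
def n196302 : Q := act 6 n106885
theorem D196302 : act 6 n106885 = n196302 := rfl
def n196303 : Q := act 3 n106886
theorem D196303 : act 3 n106886 = n196303 := rfl
def n196304 : Q := act 5 n106886
theorem D196304 : act 5 n106886 = n196304 := rfl
theorem F400286 : act 2 n196304 = n193097 := d2_1 D196304 (iv5 F388739) F397102
theorem F400287 : act 6 n196304 = n193086 := d12_2 (iv6 F397101) D196304 F388715 (iv6 D179747) (iv5 F343119)
def n196305 : Q := act 5 n106887
theorem D196305 : act 5 n106887 = n196305 := rfl
theorem F400288 : act 2 n196305 = n106888 := d2_1 D196305 (iv5 D106888) D106887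
theorem F400289 : act 3 n196305 = n137677 := d6_1 D196305 (iv5 D137677) (iv3 F164748)
def n196306 : Q := act 6 n106887
theorem D196306 : act 6 n106887 = n196306 := rfl
theorem F400290 : act 2 n196306 = n106889 := d3_1 D196306 (iv6 D106889) D106887
theorem F400291 : act 3 n196306 = n137678 := d7_1 D196306 (iv6 D137678) (iv3 F164748)
def n196307 : Q := act 0 n106888
theorem D196307 : act 0 n106888 = n196307 := rfl
def n196308 : Q := act 1 n106888
theorem D196308 : act 1 n106888 = n196308 := rfl
theorem F400292 : act 6 n108998 = n196308 := d21_9 (iv5 D106888) D106885 D196301 (iv6 F400284) (iv1 F388641) (iv6 F372898) (iv5 D108864) (iv1 F167985) F352236 (iv1 D196308)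
def n196309 : Q := act 4 n106888
theorem D196309 : act 4 n106888 = n196309 := rfl
theorem F400293 : act 3 n196309 = n108999 := d5_1 D196309 (iv4 D108999) F79708 (iv4 F78106) (iv3 F164749)
def n196310 : Q := act 6 n106888
theorem D196310 : act 6 n106888 = n196310 := rfl
theorem F400294 : act 3 n196310 = n106890 := d7_1 D196310 (iv6 D106890) (iv3 F164749)
def n196311 : Q := act 0 n106889
theorem D196311 : act 0 n106889 = n196311 := rfl
theorem F400295 : act 3 n196311 = n191671 := d20_5 (iv4 F172148) (iv1 F180901) F94993 (iv3 F164750) D196311 (iv4 D191671) (iv1 F360360) (iv4 F393142) F393143 (iv1 F164727)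
theorem F400296 : act 6 n191916 = n196311 := d7_0 F400295 F384102 D191916
def n196312 : Q := act 1 n106889
theorem D196312 : act 1 n106889 = n196312 := rfl
def n196313 : Q := act 5 n106889
theorem D196313 : act 5 n106889 = n196313 := rfl
theorem F400297 : act 3 n196313 = n106891 := d6_1 D196313 (iv5 D106891) (iv3 F164750)
def n196314 : Q := act 7 n106889
theorem D196314 : act 7 n106889 = n196314 := rfl
theorem F400298 : act 3 n196314 = n106892 := d8_1 D196314 (iv7 D106892) (iv3 F164750)
theorem F400299 : act 6 n196314 = n141979 := d14_1 D196314 F225010 (iv6 D134730) F98541 D106889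
def n196315 : Q := act 0 n106890
theorem D196315 : act 0 n106890 = n196315 := rfl
def n196316 : Q := act 1 n106890
theorem D196316 : act 1 n106890 = n196316 := rfl
theorem F400300 : act 4 n196316 = n109094 := d18_7 F351314 (iv4 F186824) F351279 F351281 F351283 (iv4 F164751) D196316 (iv0 F360004) F342493
theorem F400301 : act 0 n109000 = n192697 := d20_4 (iv4 F400300) (iv1 D196316) F164751 (iv3 F169006) (iv3 D192697) F154596 (iv1 D48148) D48149 D104011 F360004
theorem F400302 : act 3 n151234 = n196316 := d5_5 F400300 F360002 (iv4 D71279) D71278 D151234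
theorem F400303 : act 7 n187826 = n196316 := d11_0 F400300 F362686 (iv4 F371625)
theorem F400304 : act 2 n187826 = n196315 := d15_3 (iv0 D196315) D196316 (iv7 F400303)
theorem F400305 : act 4 n196315 = n109093 := d1_2 (iv4 F371625) F400304 (iv2 F362687)
def n196317 : Q := act 5 n106890
theorem D196317 : act 5 n106890 = n196317 := rfl
theorem F400306 : act 6 n196317 = n106891 := d12_2 D106890 D196317 (iv5 D106891) (iv6 D49388) D49387
def n196318 : Q := act 7 n106890
theorem D196318 : act 7 n106890 = n196318 := rfl
theorem F400307 : act 4 n196318 = n109008 := d11_1 D196318 (iv7 D109008) (iv4 F164751)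
theorem F400308 : act 0 n187826 = n196318 := d18_2 (iv1 F362683) (iv4 F371625) F400307 F351303 (iv4 F370521) F370524 F216938 D134866 F351197
def n196319 : Q := act 4 n106891
theorem D196319 : act 4 n106891 = n196319 := rfl
theorem F400309 : act 5 n196319 = n136911 := d16_3 F94993 D106891 D196319 (iv4 D136911) F328194 F203283 (iv5 F220936) (iv7 D137722) F100602
theorem F400310 : act 0 n196319 = n136173 := d18_2 F223765 D196319 (iv4 F331830) F180902 F111560 F214385 (iv4 F216241) F216240 D140673
theorem F400311 : act 1 n196319 = n107179 := d18_6 (iv1 F164727) (iv4 F172148) (iv1 F180901) F94993 D106891 D196319 F165182 D107199 (iv5 F364939)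
theorem F400312 : act 1 n136792 = n136911 := d18_8 F400310 (iv4 F331830) (iv1 F364937) F364941 (iv5 D115302) F84025 D64311 D136792 (iv5 F400309)
def n196320 : Q := act 7 n106891
theorem D196320 : act 7 n106891 = n196320 := rfl
theorem F400313 : act 5 n196320 = n106892 := d13_1 D196320 (iv7 D106892) D106891
theorem F400314 : act 0 n139621 = n196320 := d17_2 (iv1 D139620) D139621 F400313 (iv4 F206702) F206703 (iv0 D74401) D74402 (iv0 F226748) F226750
def n196321 : Q := act 5 n106893
theorem D196321 : act 5 n106893 = n196321 := rfl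
theorem F400315 : act 2 n196321 = n114330 := d2_1 D196321 F363660 (iv2 F164763)
theorem F400316 : act 3 n196321 = n116139 := d6_1 D196321 (iv5 D116139) (iv3 F164754)
theorem F400317 : act 7 n196321 = n137685 := d13_2 F164756 D196321 (iv5 D137685)
theorem F400318 : act 4 n196321 = n111712 := d19_2 D106893 D196321 (iv3 D111712) (iv1 D51512) (iv5 D25029) F19568 (iv3 D5606) D5604 (iv5 F8708) (iv4 D5664) (iv3 F8704) D11992 F20310 D24797 (iv3 F79686) (iv1 F79689) (iv5 F46305) (iv4 F46307) D49389
theorem F400319 : act 0 n106925 = n196321 := d20_1 F354461 F400318 (iv3 D111712) (iv1 D51512) F39265 D25032 (iv1 F80662) (iv4 F80666) (iv3 F81103) D111402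
theorem F400320 : act 6 n114366 = n196321 := d7_0 F400316 F340011 F205646
theorem E103657 : n188948 = n111712 := ((c10_2 F400320 F400318 (iv6 D188948) F365818)).symm
theorem F400321 : act 6 n111712 = n92922 := (sb E103657 (iv6 D188948))
theorem E103658 : n188946 = n111714 := (c7_2 F400321 D188946 (iv6 D111714) D111712)
theorem F400322 : act 3 n111714 = n92922 := (sb E103658 (iv3 D188946))
def n196322 : Q := act 3 n106894
theorem D196322 : act 3 n106894 = n196322 := rfl
theorem F400323 : act 2 n196322 = n116131 := d0_1 D196322 (iv3 D116131) F102522 (iv3 F100594) F164761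
theorem F400324 : act 4 n196322 = n195207 := d5_2 F218893 D196322 F396259 (iv4 D136031) D136030
theorem F400325 : act 7 n196322 = n114331 := d8_2 F164762 D196322 F340003
theorem F400326 : act 0 n196322 = n142013 := d20_10 (iv4 F225052) (iv1 F103307) (iv4 F180862) F180861 F180853 (iv3 F349719) (iv4 F349707) (iv1 F345444) F218893 D196322
theorem F400327 : act 0 n106905 = n196322 := d20_4 (iv4 F371993) (iv1 F225612) (iv4 D106906) D106905 (iv3 D196322) (iv4 F218893) F345442 (iv4 F345447) (iv3 F336131) (iv1 F371991)
theorem F400328 : act 5 n196322 = n114332 := d17_1 F400327 (iv1 F205558) (iv5 F339974) (iv4 F223826) (iv5 F325796) (iv0 D113045) (iv5 F331474) D67452 (iv4 F164776)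
def n196323 : Q := act 5 n106894
theorem D196323 : act 5 n106894 = n196323 := rfl
theorem F400329 : act 2 n196323 = n137685 := d2_1 D196323 (iv5 D137685) F164761
theorem F400330 : act 3 n196323 = n114332 := d6_1 D196323 (iv5 F400328) (iv3 D196322)
theorem F400331 : act 6 n196323 = n156608 := d12_2 F389119 D196323 (iv5 D156608) D156609 (iv5 F389118)
theorem F400332 : act 7 n196323 = n114330 := d13_2 F164762 D196323 F363660
theorem F400333 : act 0 n196323 = n106925 := d17_2 (iv1 F164760) D196323 F164791 (iv4 F168835) F168836 F219111 (iv5 D136120) F99601 D64719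
def n196324 : Q := act 1 n106896
theorem D196324 : act 1 n106896 = n196324 := rfl
theorem F400334 : act 1 n196324 = n137677 := d15_1 D196324 (iv7 F394326) F394324
theorem F400335 : act 7 n196324 = n137691 := d15_2 F223867 D196324 (iv2 F394330)
theorem F400336 : act 5 n137127 = n196324 := d21_6 (iv5 D187329) (iv1 F360816) (iv5 D101444) D101445 (iv1 F389430) F389405 (iv1 D196324) (iv5 D106896) (iv6 F328556) (iv1 F369856)
theorem F400337 : act 2 n196324 = n137690 := d2_1 F400336 (iv5 F220864) (iv2 F220314)
def n196325 : Q := act 6 n106896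
theorem D196325 : act 6 n106896 = n196325 := rfl
theorem F400338 : act 3 n196325 = n106898 := d7_1 D196325 (iv6 D106898) (iv3 F164765)
theorem F400339 : act 5 n196325 = n190198 := d12_1 D196325 (iv6 D190198) (iv5 F149684) F328556 D106896
def n196326 : Q := act 0 n106898
theorem D196326 : act 0 n106898 = n196326 := rfl
def n196327 : Q := act 1 n106898
theorem D196327 : act 1 n106898 = n196327 := rfl
def n196328 : Q := act 5 n106898
theorem D196328 : act 5 n106898 = n196328 := rfl
theorem F400340 : act 2 n196328 = n163975 := d2_1 D196328 (iv5 F343789) F216760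
theorem F400341 : act 3 n196328 = n190198 := d6_1 D196328 (iv5 F400339) F400338
theorem F400342 : act 6 n196328 = n106901 := d12_2 D106898 D196328 (iv5 D106901) (iv6 D49391) D49390
theorem F400343 : act 0 n196328 = n163943 := d21_7 (iv5 D110222) (iv1 F327001) D56645 F341290 F84217 D106898 D196328 F360116 F360101 (iv1 F327007)
theorem F400344 : act 4 n196327 = n109066 := d17_9 (iv1 D109066) D109067 (iv1 F360103) (iv5 D140625) D140624 (iv5 F360116) (iv0 F400343) (iv5 D196328) D196327
theorem F400345 : act 0 n163977 = n196328 := d21_1 (iv5 F360121) (iv5 D196328) (iv6 D106898) (iv1 F84197) (iv6 F336708) F79673 F49285 D50147 D108609 (iv1 F360126)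
theorem F400346 : act 2 n187915 = n196327 := d1_3 F400344 (iv2 F331097) (iv4 F371834)
theorem F400347 : act 6 n109005 = n196327 := d10_0 F400344 (iv6 F342495) (iv4 F351299)
def n196329 : Q := act 7 n106898
theorem D196329 : act 7 n106898 = n196329 := rfl
theorem F400348 : act 4 n196329 = n108948 := d11_1 D196329 (iv7 D108948) (iv4 F164769)
def n196330 : Q := act 0 n106901
theorem D196330 : act 0 n106901 = n196330 := rfl
theorem F400349 : act 5 n196330 = n108440 := d17_3 (iv1 F166087) D106901 D196330 (iv4 D108440) (iv5 F79263) (iv0 D30524) F24125 D14693 D31068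
theorem F400350 : act 1 n141980 = n196330 := d15_0 (iv0 D196330) (iv7 F365370) (iv2 F365371)
theorem F400351 : act 2 n156341 = n196330 := d2_3 F400349 F167665 D156341
theorem F400352 : act 7 n156339 = n196330 := d13_0 F400349 F167666 D156339
theorem F400353 : act 4 n141973 = n196330 := d18_3 (iv1 D66552) D66553 D141973 F400349 (iv4 D108440) F79262 (iv4 F111578) (iv0 F167650) F167646
def n196331 : Q := act 1 n106901
theorem D196331 : act 1 n106901 = n196331 := rfl
theorem F400354 : act 1 n196331 = n141980 := d15_1 D196331 F225011 F216762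
theorem F400355 : act 7 n196331 = n156341 := d15_2 (iv0 D196330) D196331 F400351
theorem F400356 : act 5 n196331 = n108439 := d17_7 D63358 F215963 (iv1 D134019) F98224 F94995 D106901 D196331 F167668 F98661
theorem F400357 : act 2 n156339 = n196331 := d2_3 F400356 F167662 D156339
theorem F400358 : act 4 n141974 = n196331 := d18_7 (iv1 F102424) (iv4 D31068) (iv1 D14693) (iv4 F24369) D31059 D66553 D141974 F400354 (iv5 D141980)
def n196332 : Q := act 4 n106901
theorem D196332 : act 4 n106901 = n196332 := rfl
theorem F400359 : act 3 n196332 = n190136 := d5_1 D196332 F378951 F147353 (iv4 F147383) (iv3 F365372)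
theorem F400360 : act 7 n196332 = n190134 := d11_2 F365370 D196332 F378945
def n196333 : Q := act 6 n106903
theorem D196333 : act 6 n106903 = n196333 := rfl
theorem F400361 : act 2 n196333 = n106922 := d3_1 D196333 (iv6 D106922) F164770
theorem F400362 : act 3 n196333 = n140332 := d7_1 D196333 (iv6 D140332) (iv3 F164771)
theorem F400363 : act 4 n196333 = n107317 := d10_1 D196333 (iv6 D107317) (iv4 F164772)
def n196334 : Q := act 3 n106904
theorem D196334 : act 3 n106904 = n196334 := rfl
theorem F400364 : act 4 n196334 = n111065 := d5_2 (iv4 F181252) D196334 (iv3 D111065) (iv4 D51228) D51227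
theorem F400365 : act 7 n196334 = n106910 := d8_2 F164775 D196334 (iv3 D106910)
theorem F400366 : act 0 n196334 = n141125 := d20_10 (iv4 D141125) (iv1 F171783) F171781 F102376 F84422 F165404 F165403 F102891 (iv4 F181252) D196334
theorem F400367 : act 1 n196334 = n141130 := d15_1 (iv0 F400366) (iv7 F400278) (iv2 F400280)
theorem F400368 : act 6 n192408 = n196334 := d10_0 F400364 (iv6 F380081) (iv4 F386660)
def n196335 : Q := act 6 n106904
theorem D196335 : act 6 n106904 = n196335 := rfl
theorem F400369 : act 2 n196335 = n106908 := d3_1 D196335 (iv6 D106908) D106904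
theorem F400370 : act 3 n196335 = n192408 := d7_1 D196335 F400368 (iv3 D196334)
theorem F400371 : act 4 n196335 = n111062 := d10_1 D196335 (iv6 D111062) (iv4 F181252)
theorem F400372 : act 0 n196335 = n116116 := d20_7 F78325 (iv1 F45812) (iv4 F102059) D107204 F386818 (iv3 F172258) (iv4 F400371) F180904 (iv3 D111027) (iv1 F80779)
theorem F400373 : act 5 n107341 = n196335 := d6_0 F400370 (iv5 F400232) F400231
def n196336 : Q := act 3 n106906
theorem D196336 : act 3 n106906 = n196336 := rfl
theorem F400374 : act 2 n196336 = n111055 := d0_1 D196336 (iv3 D111055) (iv2 D51226) D51227 (iv2 F181253)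
theorem F400375 : act 4 n196336 = n143975 := d5_2 D106906 D196336 (iv3 D143975) (iv4 F164776) (iv3 D106905)
theorem F400376 : act 7 n196336 = n111080 := d8_2 F225601 D196336 F225603
theorem F400377 : act 0 n196336 = n107188 := d20_4 (iv4 F37769) D49392 D106906 D196336 (iv3 D107188) D107189 F165407 (iv4 D107348) (iv3 D49592) (iv1 D24190)
theorem F400378 : act 5 n116855 = n196336 := d17_1 D116855 F400377 F172108 (iv4 D53652) D53653 F172105 F49571 F41149 D53848
theorem F400379 : act 1 n196336 = n111079 := d15_1 (iv0 F400377) (iv7 F172271) F172109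
def n196337 : Q := act 5 n106906
theorem D196337 : act 5 n106906 = n196337 := rfl
theorem F400380 : act 2 n196337 = n111061 := d2_1 D196337 (iv5 D111061) (iv2 F181253)
theorem F400381 : act 3 n196337 = n116855 := d6_1 D196337 F400378 (iv3 D196336)
theorem F400382 : act 7 n196337 = n145470 := d13_2 F225601 D196337 F228513
theorem F400383 : act 4 n196337 = n136738 := d17_4 F398689 F398687 (iv1 F225612) D196337 (iv5 F336043) (iv0 F336046) (iv5 D107383) D107382 (iv4 F171416)
theorem F400384 : act 1 n196337 = n112672 := d17_6 (iv1 D115730) D115732 (iv1 F223624) (iv5 D106907) D106906 D196337 F180740 F228316 F228314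
theorem F400385 : act 0 n196337 = n145474 := d18_0 (iv4 F343455) (iv1 F343456) (iv4 D145329) (iv5 F336126) (iv4 F165393) F336130 (iv4 F181493) (iv0 F181498) D196337
theorem F400386 : act 6 n140925 = n196337 := d10_0 F400383 F322684 (iv4 F223959)
def n196338 : Q := act 6 n106906
theorem D196338 : act 6 n106906 = n196338 := rfl
theorem F400387 : act 2 n196338 = n111062 := d3_1 D196338 (iv6 D111062) (iv2 F181253)
theorem F400388 : act 4 n196338 = n106908 := d10_1 D196338 (iv6 D106908) D106906
def n196339 : Q := act 4 n106907
theorem D196339 : act 4 n106907 = n196339 := rfl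
theorem F400389 : act 3 n196339 = n195599 := d5_1 D196339 F397536 F316819 D157720 F363656
theorem F400390 : act 5 n196339 = n187727 := d16_5 (iv4 F400383) (iv5 D196337) (iv4 D106906) D106907 D196339 F371334 F361997 (iv7 F219915) (iv2 F219916)
theorem F400391 : act 6 n159369 = n196339 := d12_0 F400390 (iv6 D187727) (iv5 D90495) F114226 D159369
theorem F400392 : act 0 n194174 = n133397 := d21_1 (iv5 F392253) (iv5 F398542) (iv6 D195869) (iv1 F250902) F400391 F400390 F391722 F391720 (iv6 D192805) (iv1 F377629)
def n196340 : Q := act 6 n106907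
theorem D196340 : act 6 n106907 = n196340 := rfl
theorem F400393 : act 2 n196340 = n187814 := d3_1 D196340 (iv6 F371640) F228367
theorem F400394 : act 3 n196340 = n107460 := d7_1 D196340 F340039 F363656
theorem F400395 : act 4 n196340 = n159369 := d10_1 D196340 F400391 (iv4 D196339)
theorem F400396 : act 5 n196340 = n144303 := d12_1 D196340 F227012 (iv5 F340046) (iv6 D106908) D106907
theorem F400397 : act 7 n196340 = n187815 := d14_2 (iv7 F228370) D196340 (iv6 F372359) F372360 F371837
theorem F400398 : act 1 n187517 = n196340 := d15_1 (iv0 F370652) F400397 (iv2 F371599)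
theorem F400399 : act 1 n196340 = n151234 := d15_1 F400398 F237965 (iv2 F370650)
def n196341 : Q := act 0 n106908
theorem D196341 : act 0 n106908 = n196341 := rfl
theorem F400400 : act 6 n196341 = n154767 := d21_5 D115732 (iv1 F223624) (iv5 D106907) D106908 D196341 (iv5 F392910) F178125 D188811 (iv6 F374979) (iv1 D115730)
theorem F400401 : act 2 n116116 = n196341 := d15_3 (iv0 D196341) (iv0 F400275) F400274
theorem F400402 : act 3 n196341 = n154770 := d0_2 D116116 F400401 F400261 (iv3 D196294) F164729
theorem F400403 : act 4 n196341 = n107341 := d1_2 (iv4 F180904) F400401 (iv2 F360692)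
def n196342 : Q := act 7 n106908
theorem D196342 : act 7 n106908 = n196342 := rfl
theorem F400404 : act 3 n196342 = n107220 := d8_1 D196342 (iv7 F172187) F340045
theorem F400405 : act 5 n196342 = n107219 := d13_1 D196342 (iv7 F172185) (iv5 F340046)
def n196343 : Q := act 6 n106909
theorem D196343 : act 6 n106909 = n196343 := rfl
theorem F400406 : act 2 n196343 = n106913 := d3_1 D196343 (iv6 D106913) (iv2 F164778)
theorem F400407 : act 0 n196343 = n141983 := d21_4 D65920 D140438 F228371 D196343 (iv6 F348948) (iv5 D174502) D174499 F386481 (iv6 D140435) (iv1 D65918)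
theorem F400408 : act 1 n196343 = n141843 := d15_1 (iv0 F400407) F224888 D141983
def n196344 : Q := act 0 n106910
theorem D196344 : act 0 n106910 = n196344 := rfl
theorem F400409 : act 4 n196344 = n110879 := d20_0 (iv1 F171779) (iv4 F164708) F164707 (iv1 F84426) D66520 (iv4 F181493) F181495 (iv4 D106911) D106910 D196344
theorem F400410 : act 2 n141130 = n196344 := d1_3 F400409 F361306 D141130
theorem F400411 : act 5 n187960 = n196344 := d9_0 F400409 F350405 D192760 (iv5 F387688) (iv4 F375609) F375610 (iv4 F388643) F400281 F400279 (iv5 F350412) D192758 F387684 F155613 (iv5 F294249) (iv4 F371957)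
theorem F400412 : act 6 n187963 = n196344 := d10_0 F400409 (iv6 F350407) (iv4 F377632)
theorem F400413 : act 7 n141125 = n196344 := d11_0 F400409 F361307 D141125
theorem F400414 : act 1 n106910 = n196299 := d15_1 (iv0 D196344) F400278 F400410
def n196345 : Q := act 2 n106910
theorem D196345 : act 2 n106910 = n196345 := rfl
theorem F400415 : act 3 n196345 = n142013 := d0_2 D106910 D196345 F225053 F206761 F164778
theorem F400416 : act 1 n196345 = n141125 := d15_0 (iv0 F400366) F400365 D196345
theorem F400417 : act 1 n141130 = n196345 := d15_0 F400416 F400413 (iv2 F400410)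
theorem F400418 : act 4 n196345 = n133977 := d20_2 D141125 (iv1 F400416) (iv3 D133977) (iv1 D62937) (iv3 D29773) (iv4 D14147) (iv1 F19552) D14648 D30941 D66197
theorem F400419 : act 6 n189143 = n196345 := d10_0 F400418 (iv6 F372454) D189143
def n196346 : Q := act 4 n106910
theorem D196346 : act 4 n106910 = n196346 := rfl
theorem F400420 : act 2 n196346 = n133977 := d1_1 D196346 (iv4 F400418) (iv2 D196345)
theorem F400421 : act 3 n196346 = n111068 := d5_1 D196346 F172263 (iv3 F181247) (iv4 D106911) D106910
theorem F400422 : act 7 n196346 = n111065 := d11_2 F400365 D196346 (iv4 F400364)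
theorem F400423 : act 0 n196346 = n196284 := d17_0 F400199 (iv1 F372450) F294249 (iv4 F155613) (iv5 F387684) F388741 F400411 (iv0 D196344) D196346
theorem F400424 : act 1 n196346 = n196281 := d18_8 (iv1 F372459) (iv4 F388643) (iv1 F388645) (iv4 D192760) (iv5 F350405) (iv4 F400409) (iv0 D196344) D196346 F400187
theorem F400425 : act 5 n188161 = n196346 := d17_7 (iv1 F164706) D141819 (iv1 F350420) (iv5 D140362) D140361 (iv5 F400214) (iv0 F400215) F400424 (iv4 D196281)
theorem F400426 : act 6 n196346 = n188699 := d21_5 (iv5 F157101) F346631 D137184 (iv6 F400189) (iv1 F400424) (iv5 D188699) (iv1 F142805) (iv5 F143588) F346650 (iv1 F346651)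
def n196347 : Q := act 5 n106910
theorem D196347 : act 5 n106910 = n196347 := rfl
theorem F400427 : act 3 n196347 = n106912 := d6_1 D196347 (iv5 D106912) D106910
theorem F400428 : act 4 n196347 = n141135 := d17_4 F388646 F400281 (iv1 F400414) D196347 F350418 (iv0 D111447) (iv5 F171816) F350411 D192758
def n196348 : Q := act 6 n106910
theorem D196348 : act 6 n106910 = n196348 := rfl
theorem F400429 : act 2 n196348 = n189143 := d3_1 D196348 F400419 (iv2 D196345)
theorem F400430 : act 3 n196348 = n106913 := d7_1 D196348 (iv6 D106913) D106910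
theorem F400431 : act 4 n196348 = n188699 := d10_1 D196348 (iv6 F400426) (iv4 D196346)
theorem F400432 : act 7 n196348 = n189155 := d14_2 F400365 D196348 (iv6 F386876) F386877 F400368
theorem F400433 : act 1 n192346 = n196348 := d18_6 (iv1 F389711) (iv4 F391398) F391399 F372604 (iv5 F154038) (iv4 F386526) F400431 F388146 (iv5 F389710)
theorem E103659 : n141982 = n106913 := ((c20_4 F389269 (iv1 F388146) (iv4 F400431) F400430 (iv1 D141982) (iv3 D66567) (iv4 D31063) (iv1 F49456) (iv4 F102383) (iv3 F224853) F389273)).symm
theorem F400434 : act 0 n106913 = n66567 := (sb E103659 (iv1 D141982))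
def n196349 : Q := act 5 n106911
theorem D196349 : act 5 n106911 = n196349 := rfl
theorem F400435 : act 2 n196349 = n145470 := d2_1 D196349 F228513 F225604
theorem F400436 : act 3 n196349 = n107438 := d6_1 D196349 F180609 (iv3 F181247)
theorem F400437 : act 7 n196349 = n111061 := d13_2 (iv7 F181248) D196349 (iv5 D111061)
theorem F400438 : act 4 n196349 = n136739 := d16_2 D106911 D196349 (iv5 F361997) (iv4 F371334) (iv5 F400390) (iv4 D196339) (iv5 D106907) D106909 F164778
theorem F400439 : act 1 n196349 = n145474 := d17_6 (iv1 F180052) D140436 (iv1 F228372) (iv5 D106912) D106911 D196349 (iv5 D145474) D145473 (iv4 F228518)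
theorem F400440 : act 6 n153754 = n196349 := d10_0 F400438 (iv6 F337553) (iv4 F241615)
theorem F400441 : act 1 n112672 = n196349 := d17_8 (iv1 D136739) (iv5 F204092) (iv1 F336047) (iv5 F320299) (iv4 F225588) (iv5 F228520) F228516 (iv5 F180740) F400438
def n196350 : Q := act 6 n106911
theorem D196350 : act 6 n106911 = n196350 := rfl
theorem F400442 : act 3 n196350 = n111078 := d7_1 D196350 (iv6 D111078) (iv3 F181247)
theorem F400443 : act 4 n196350 = n106913 := d10_1 D196350 (iv6 D106913) D106911
theorem F400444 : act 5 n187992 = n196350 := d21_8 (iv5 F398687) (iv1 F398690) F223613 (iv6 F363558) (iv1 D153519) (iv6 F241044) (iv5 F241045) D187992 (iv6 D196350) (iv1 F225611)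
theorem F400445 : act 0 n195916 = n111078 := d20_4 F80807 (iv1 F78475) F163682 D195916 (iv3 F400442) F400443 F400434 (iv4 F165314) (iv3 D107268) F104347
theorem F400446 : act 1 n195916 = n111091 := d15_1 (iv0 F400445) (iv7 D111091) (iv2 F172268)
def n196351 : Q := act 1 n106913
theorem D196351 : act 1 n106913 = n196351 := rfl
theorem F400447 : act 7 n196351 = n141983 := d15_2 (iv0 F400434) D196351 (iv2 D141983)
theorem F400448 : act 2 n141843 = n196351 := d4_3 F400447 (iv2 D141983) (iv7 F224888)
theorem F400449 : act 3 n196351 = n141994 := d0_2 D141843 F400448 (iv2 D141994) (iv3 D66579) (iv2 F102445)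
theorem F400450 : act 4 n196351 = n107357 := d1_2 (iv4 F224887) F400448 (iv2 F389246)
theorem F400451 : act 1 n196351 = n141981 := d15_0 (iv0 D141981) (iv7 F224888) F400448
theorem F400452 : act 7 n141981 = n196343 := d15_2 D196351 F400451 F400406
theorem F400453 : act 6 n196342 = n141981 := d14_5 F400452 (iv6 D196343) (iv7 D106909) D106908 D196342
theorem E103660 : n192722 = n187992 := (c18_4 (iv1 D192719) F154631 D100557 D192722 F400444 F400443 D196351 F400450 F389245 F389243)
theorem F400454 : act 4 n187992 = n100557 := (sb E103660 (iv4 D192722))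
theorem F400455 : act 0 n141994 = n134737 := d20_4 (iv4 F389239) (iv1 F389245) (iv4 F400450) F400449 (iv3 F225049) F225050 F322368 F224930 F389279 (iv1 D193240)
def n196352 : Q := act 5 n106913
theorem D196352 : act 5 n106913 = n196352 := rfl
def n196353 : Q := act 7 n106913
theorem D196353 : act 7 n106913 = n196353 := rfl
theorem F400456 : act 2 n196353 = n141981 := d4_1 D196353 F400452 F400406
theorem F400457 : act 3 n196353 = n189155 := d8_1 D196353 (iv7 F400432) F400430
theorem F400458 : act 1 n141843 = n196353 := d15_1 F400408 (iv7 D196353) (iv2 F400406)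
theorem F400459 : act 1 n196353 = n141983 := d15_1 F400458 (iv7 F400447) (iv2 F400448)
def n196354 : Q := act 4 n106917
theorem D196354 : act 4 n106917 = n196354 := rfl
theorem F400460 : act 2 n196354 = n192806 := d1_1 D196354 F387846 (iv2 F371884)
theorem F400461 : act 3 n196354 = n146455 := d5_1 D196354 F229790 (iv3 F325419) (iv4 F205554) F363663
theorem F400462 : act 5 n196354 = n146454 := d9_2 (iv5 F225650) D196354 F365175 F336037 (iv4 F171416) (iv5 F223618) (iv4 D140434) (iv5 F223615) (iv4 F336038) (iv5 D130940) F95934 F323658 (iv4 F204478) F223613 (iv4 D140429)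
theorem F400463 : act 7 n196354 = n192807 := d11_2 F371888 D196354 F387852
theorem F400464 : act 0 n196354 = n192805 := d18_2 D106917 D196354 F387839 F223711 (iv4 F181493) (iv0 F181498) (iv4 D106906) (iv0 D49392) D49395
theorem F400465 : act 1 n196354 = n187634 := d18_8 F374584 F371334 (iv1 F361998) F336033 F288353 (iv4 F371894) F371897 D196354 (iv5 F374583)
def n196355 : Q := act 6 n106917
theorem D196355 : act 6 n106917 = n196355 := rfl
def n196356 : Q := act 6 n106918
theorem D196356 : act 6 n106918 = n196356 := rfl
def n196357 : Q := act 0 n106922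
theorem D196357 : act 0 n106922 = n196357 := rfl
theorem F400466 : act 5 n196357 = n192927 := d19_1 D196357 (iv4 D192927) F388092 (iv1 D192879) F335336 (iv4 D83886) (iv3 F86992) D119489 F343414 F96335 F46925 D29300 F315196 (iv4 D14773) D14772 (iv1 F163962) F37775 (iv4 F78129) (iv3 F164787)
def n196358 : Q := act 1 n106922
theorem D196358 : act 1 n106922 = n196358 := rfl
def n196359 : Q := act 5 n106922
theorem D196359 : act 5 n106922 = n196359 := rfl
theorem F400467 : act 3 n196359 = n106935 := d6_1 D196359 (iv5 D106935) (iv3 F164787)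
def n196360 : Q := act 1 n106923
theorem D196360 : act 1 n106923 = n196360 := rfl
def n196361 : Q := act 2 n106923
theorem D196361 : act 2 n106923 = n196361 := rfl
theorem F400468 : act 5 n196361 = n108711 := d2_2 (iv5 F164789) D196361 (iv2 D108711)
theorem F400469 : act 1 n196361 = n193097 := d15_0 (iv0 F388731) F216779 D196361
theorem E103661 : n195432 = n195392 := (c17_2 D105591 D195432 (iv1 F396978) F396975 F396592 (iv5 F400468) F400469 (iv5 F388739) (iv0 D134726) F98540)
theorem F400470 : act 5 n195392 = n105591 := (sb E103661 (iv5 D195432))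
theorem F400471 : act 5 n195383 = n196308 := d21_2 F400468 (iv1 F396894) (iv6 F400292) (iv1 D108998) D109000 (iv5 F372896) (iv1 F372899) F370765 D193097 (iv1 F400469)
theorem F400472 : act 6 n178098 = n195383 := d12_0 F400471 (iv6 F400292) (iv5 F352236) F325298 D178098
theorem F400473 : act 1 n195300 = n195389 := d17_6 (iv1 F396894) F400471 (iv1 D196308) (iv5 D106888) (iv4 F161968) D195300 (iv5 D195389) F396595 F396592
theorem F400474 : act 3 n195383 = n178102 := d7_1 F400472 (iv6 D178102) (iv3 F277635)
def n196362 : Q := act 4 n106923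
theorem D196362 : act 4 n106923 = n196362 := rfl
theorem F400475 : act 3 n196362 = n108868 := d5_1 D196362 (iv4 D108868) F79648 F78115 D106923
def n196363 : Q := act 6 n106923
theorem D196363 : act 6 n106923 = n196363 := rfl
theorem F400476 : act 3 n196363 = n106924 := d7_1 D196363 (iv6 D106924) D106923
def n196364 : Q := act 0 n106924
theorem D196364 : act 0 n106924 = n196364 := rfl
theorem F400477 : act 4 n196364 = n109196 := d20_2 (iv4 F164790) D196364 F351199 F98574 (iv3 F167643) (iv4 F370771) (iv1 F370777) (iv4 F371959) F371958 F364229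
theorem F400478 : act 3 n135154 = n196364 := d5_5 F400477 F351199 F98573 (iv3 F98829) (iv4 F217357)
theorem F400479 : act 7 n108779 = n196364 := d11_0 F400477 F351202 (iv4 F345285)
def n196365 : Q := act 5 n106924
theorem D196365 : act 5 n106924 = n196365 := rfl
theorem F400480 : act 6 n196365 = n108713 := d12_2 D106924 D196365 (iv5 D108713) (iv6 D50197) (iv5 F78114)
theorem F400481 : act 4 n135923 = n196365 := d10_3 F400480 F386305 (iv6 F386306)
theorem F400482 : act 0 n196365 = n124004 := d21_4 F345073 (iv1 F101923) D108713 (iv6 F400480) (iv6 D124004) (iv5 F191920) (iv1 F327319) F327322 (iv6 F153012) (iv1 F345070)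
theorem F400483 : act 4 n124005 = n109216 := d18_3 F400482 F198407 D124005 (iv5 D109216) D109215 (iv0 F351198) (iv4 F400477) (iv0 D196364) D196365
theorem F400484 : act 7 n188374 = n124005 := d11_0 F400483 F351232 (iv4 F373202)
theorem F400485 : act 3 n188377 = n124005 := d20_5 (iv4 F388600) (iv1 D193052) F352965 F351895 (iv1 F373352) F400483 (iv1 F363280) (iv4 F363276) F218639 D136640
def n196366 : Q := act 7 n106924
theorem D196366 : act 7 n106924 = n196366 := rfl
theorem F400486 : act 4 n196366 = n108877 := d11_1 D196366 (iv7 D108877) (iv4 F164790)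
theorem F400487 : act 1 n108779 = n196366 := d15_1 (iv0 F364227) (iv7 D196366) (iv2 F216776)
def n196367 : Q := act 2 n106925
theorem D196367 : act 2 n106925 = n196367 := rfl
theorem F400488 : act 5 n196367 = n108844 := d2_2 (iv5 F164791) D196367 (iv2 D108844)
theorem F400489 : act 1 n196367 = n137685 := d15_0 (iv0 F223822) F216775 D196367
theorem F400490 : act 1 n114330 = n196367 := d15_0 F400489 (iv7 F400317) F400315
def n196368 : Q := act 6 n106925
theorem D196368 : act 6 n106925 = n196368 := rfl
theorem F400491 : act 3 n196368 = n106926 := d7_1 D196368 (iv6 D106926) D106925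
theorem F400492 : act 5 n107309 = n196368 := d21_8 (iv5 D196321) (iv1 F164755) D137677 (iv6 F350043) (iv1 F322063) F165771 (iv5 D107311) D107309 (iv6 D196368) F400319
theorem F400493 : act 0 n196368 = n194545 := d17_2 D107309 F400492 (iv5 D194545) (iv4 D103757) (iv5 F288198) F341047 D190315 F379357 F350559
theorem F400494 : act 1 n196368 = n194548 := d17_6 F353236 (iv5 F350623) F365227 D190677 (iv4 F380546) F400492 (iv5 D194548) (iv0 F390577) (iv4 D193655)
def n196369 : Q := act 0 n106926
theorem D196369 : act 0 n106926 = n196369 := rfl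
def n196370 : Q := act 5 n106926
theorem D196370 : act 5 n106926 = n196370 := rfl
theorem F400495 : act 3 n196370 = n107309 := d6_1 D196370 F400492 F400491
theorem F400496 : act 6 n196370 = n108846 := d12_2 D106926 D196370 (iv5 D108846) (iv6 D50260) (iv5 F78118)
def n196371 : Q := act 7 n106926
theorem D196371 : act 7 n106926 = n196371 := rfl
theorem F400497 : act 4 n196371 = n108783 := d11_1 D196371 (iv7 D108783) (iv4 F164792)
theorem F400498 : act 1 n180387 = n196371 := d15_1 (iv0 F363355) (iv7 D196371) (iv2 F216780)
def n196372 : Q := act 0 n106927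
theorem D196372 : act 0 n106927 = n196372 := rfl
theorem F400499 : act 6 n196372 = n134861 := d21_5 F201811 F201809 D125496 F356665 D196372 F364953 (iv1 D156311) (iv5 F221903) (iv6 F364952) (iv1 F202874)
theorem F400500 : act 1 n108679 = n196372 := d15_0 (iv0 D196372) F164794 (iv2 F168611)
theorem F400501 : act 5 n108718 = n196372 := d21_2 (iv5 D108721) D108718 F400499 (iv1 D134861) F331540 (iv5 D52865) D52862 (iv5 F94498) (iv6 F356727) F356724
def n196373 : Q := act 1 n106927
theorem D196373 : act 1 n106927 = n196373 := rfl
theorem F400502 : act 5 n108719 = n196373 := d21_6 (iv5 D60578) F46406 D49416 D106964 F337390 F345343 (iv1 D196373) F164793 F330485 (iv1 F95194)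
def n196374 : Q := act 2 n106927
theorem D196374 : act 2 n106927 = n196374 := rfl
theorem F400503 : act 3 n196374 = n109101 := d0_2 D106927 D196374 F169089 F79755 (iv2 F78120)
theorem F400504 : act 5 n196374 = n106992 := d2_2 (iv5 F164793) D196374 F330489
theorem F400505 : act 6 n196374 = n106994 := d3_2 F356665 D196374 (iv2 F201841)
theorem F400506 : act 7 n196374 = n108679 := d4_2 (iv7 F164794) D196374 F168611
theorem F400507 : act 1 n196374 = n108680 := d15_0 (iv0 D108680) (iv7 F164794) D196374
theorem F400508 : act 1 n196373 = n108679 := d15_1 D196373 (iv7 F400506) (iv2 D196374)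
theorem F400509 : act 1 n108681 = n196374 := d15_1 D108681 F400506 F168611
def n196375 : Q := act 3 n106930
theorem D196375 : act 3 n106930 = n196375 := rfl
theorem F400510 : act 2 n196375 = n114365 := d0_1 D196375 (iv3 F372026) D193087 F388719 (iv2 F351290)
theorem F400511 : act 7 n196375 = n114364 := d8_2 (iv7 F351288) D196375 F372029
def n196376 : Q := act 4 n106930
theorem D196376 : act 4 n106930 = n196376 := rfl
theorem F400512 : act 0 n196376 = n108777 := d18_2 (iv1 F216788) D196376 F331535 (iv5 F331536) (iv4 F216938) (iv0 F370501) F370499 F167929 (iv5 F216785)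
theorem F400513 : act 0 n114368 = n196375 := d20_4 F83507 (iv1 F46033) (iv4 F83376) (iv3 F178378) (iv3 D196375) D196376 F400512 F331535 (iv3 D52864) D52862
theorem F400514 : act 1 n114366 = n196375 := d15_0 (iv0 F400513) (iv7 D114368) D114366
def n196377 : Q := act 5 n106930
theorem D196377 : act 5 n106930 = n196377 := rfl
theorem F400515 : act 0 n196377 = n192699 := d17_2 (iv1 F216788) D196377 F387519 F351285 F351293 F393343 F393340 F345206 (iv4 F216784)
def n196378 : Q := act 6 n106930
theorem D196378 : act 6 n106930 = n196378 := rfl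
def n196379 : Q := act 1 n106932
theorem D196379 : act 1 n106932 = n196379 := rfl
theorem F400516 : act 1 n196379 = n108874 := d15_1 D196379 F343113 (iv2 F164797)
theorem F400517 : act 7 n196379 = n108621 := d15_2 (iv0 F364229) D196379 F168488
theorem F400518 : act 2 n108877 = n196379 := d4_3 F400517 F168488 D108877
theorem F400519 : act 6 n108783 = n196379 := d14_5 F400517 (iv6 D108621) F79460 D50223 D108783
def n196380 : Q := act 5 n106932
theorem D196380 : act 5 n106932 = n196380 := rfl
theorem F400520 : act 2 n196380 = n109206 := d2_1 D196380 (iv5 D109206) (iv2 F164797)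
theorem F400521 : act 6 n196380 = n106935 := d12_2 D106932 D196380 (iv5 D106935) (iv6 D49402) (iv5 F78127)
theorem F400522 : act 4 n196380 = n178663 := d16_2 (iv4 F164798) D196380 (iv5 D178663) F316199 F337455 F173439 F81286 (iv7 D50397) (iv2 F79527)
def n196381 : Q := act 5 n106933
theorem D196381 : act 5 n106933 = n196381 := rfl
theorem F400523 : act 2 n196381 = n140336 := d2_1 D196381 (iv5 D140336) F202584
theorem F400524 : act 6 n196381 = n124220 := d12_2 F344447 D196381 (iv5 D124220) F300878 F299222
theorem F400525 : act 7 n196381 = n140339 := d13_2 (iv7 F202583) D196381 (iv5 D140339)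
def n196382 : Q := act 3 n106934
theorem D196382 : act 3 n106934 = n196382 := rfl
theorem F400526 : act 4 n196382 = n136242 := d5_2 F168142 D196382 (iv3 D136242) (iv4 F201784) F201783
theorem F400527 : act 7 n196382 = n138207 := d8_2 F202579 D196382 F221369
theorem F400528 : act 0 n196382 = n137686 := d20_4 F111751 (iv1 F103302) F168142 D196382 F220856 F102555 F327174 (iv4 F182405) (iv3 D116820) F168105
theorem F400529 : act 5 n154695 = n196382 := d18_9 F400528 F339063 (iv1 F307576) D193137 F388876 F226578 (iv0 F320343) (iv4 F388900) F388905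
theorem F400530 : act 1 n196382 = n157596 := d15_1 (iv0 F400528) (iv7 F389120) F389117
def n196383 : Q := act 5 n106934
theorem D196383 : act 5 n106934 = n196383 := rfl
theorem F400531 : act 2 n196383 = n140339 := d2_1 D196383 (iv5 D140339) F202581
theorem F400532 : act 3 n196383 = n154695 := d6_1 D196383 F400529 (iv3 D196382)
theorem F400533 : act 7 n196383 = n140336 := d13_2 F202579 D196383 (iv5 D140336)
def n196384 : Q := act 6 n106934
theorem D196384 : act 6 n106934 = n196384 := rfl
theorem F400534 : act 2 n196384 = n140340 := d3_1 D196384 (iv6 D140340) F202581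
theorem F400535 : act 4 n196384 = n126171 := d10_1 D196384 F202891 F168142
theorem F400536 : act 7 n196384 = n141990 := d14_2 F202579 D196384 F362635 (iv7 F341287) (iv6 D140337)
theorem F400537 : act 0 n140685 = n196384 := d18_2 F101693 D140685 F400535 (iv5 D126171) F168959 F168521 F168518 F79485 D50308
theorem F400538 : act 1 n140682 = n196384 := d18_6 (iv1 D108850) D108851 (iv1 F172834) (iv4 D66005) D66006 D140682 F400535 (iv0 F225001) F225000
def n196385 : Q := act 0 n106935
theorem D196385 : act 0 n106935 = n196385 := rfl
theorem F400539 : act 1 n108593 = n196385 := d15_0 (iv0 D196385) (iv7 F167724) (iv2 F167933)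
def n196386 : Q := act 1 n106935
theorem D196386 : act 1 n106935 = n196386 := rfl
theorem F400540 : act 1 n196386 = n108593 := d15_1 D196386 F167934 (iv2 F164801)
theorem F400541 : act 5 n196386 = n140479 := d17_7 (iv1 D67434) (iv5 D31339) (iv1 F163962) F37775 (iv4 F78129) D106935 D196386 (iv0 F226613) (iv4 D143932)
def n196387 : Q := act 4 n106935
theorem D196387 : act 4 n106935 = n196387 := rfl
theorem F400542 : act 2 n196387 = n140343 := d1_1 D196387 (iv4 D140343) (iv2 F164801)
theorem F400543 : act 6 n196387 = n178663 := d10_2 F400521 D196387 (iv4 F400522)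
theorem F400544 : act 3 n178667 = n196387 := d7_3 F400543 F278472 D178667
def n196388 : Q := act 3 n106936
theorem D196388 : act 3 n106936 = n196388 := rfl
theorem F400545 : act 4 n196388 = n139309 := d5_2 D106936 D196388 (iv3 D139309) (iv4 D65384) (iv3 F168211)
theorem F400546 : act 6 n196388 = n180171 := d7_2 (iv6 F362633) D196388 F280525
theorem F400547 : act 7 n196388 = n140344 := d8_2 (iv7 F164803) D196388 (iv3 D140344)
theorem F400548 : act 0 n141818 = n196388 := d21_4 D196278 F400171 F350396 D141818 F400546 (iv5 D180171) D180168 F358732 (iv6 D140358) (iv1 F164688)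
def n196389 : Q := act 5 n106936
theorem D196389 : act 5 n106936 = n196389 := rfl
theorem F400549 : act 2 n196389 = n116821 := d2_1 D196389 (iv5 D116821) (iv2 F164802)
theorem F400550 : act 6 n196389 = n124215 := d12_2 (iv6 F362633) D196389 (iv5 D124215) (iv6 F299737) D86085
theorem F400551 : act 7 n196389 = n140345 := d13_2 (iv7 F164803) D196389 (iv5 D140345)
theorem F400552 : act 0 n196389 = n143928 := d17_2 F168122 D196389 (iv5 F226565) F180165 (iv5 F216983) (iv0 F217055) (iv5 D134870) F98687 (iv4 F84416)
theorem F400553 : act 1 n196389 = n143927 := d15_0 (iv0 D143927) (iv7 F182407) (iv2 F400549)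
theorem F400554 : act 6 n193286 = n143927 := d21_3 (iv5 F381931) F381932 F389402 (iv1 F400553) F400550 (iv5 D124215) F191504 F297435 D178161 (iv1 F360795)
def n196390 : Q := act 4 n106937
theorem D196390 : act 4 n106937 = n196390 := rfl
theorem F400555 : act 2 n196390 = n116823 := d1_1 D196390 (iv4 D116823) (iv2 F164806)
theorem F400556 : act 6 n196390 = n139622 := d10_2 (iv6 F164810) D196390 (iv4 D139622)
theorem F400557 : act 7 n196390 = n140347 := d11_2 (iv7 F164808) D196390 (iv4 D140347)
theorem F400558 : act 0 n196390 = n143934 := d18_2 F164811 D196390 F226573 F216983 (iv4 F180165) (iv0 F226566) (iv4 D140347) (iv0 F167673) F167671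
theorem F400559 : act 0 n143933 = n196390 := d21_4 D65162 D138773 F221908 (iv6 F226577) F400556 F331023 (iv1 F400246) (iv5 D196291) F171593 (iv1 D65161)
def n196391 : Q := act 0 n106941
theorem D196391 : act 0 n106941 = n196391 := rfl
theorem F400560 : act 5 n196391 = n110958 := d19_1 D196391 F342046 (iv3 D131546) (iv1 F96329) F96327 (iv4 D50037) (iv3 D24404) (iv1 D11506) (iv5 D5365) (iv4 D2208) F1997 D1546 F3871 (iv4 F5020) (iv3 F11302) (iv1 F24425) (iv5 F38191) (iv4 F78135) D106941
theorem F400561 : act 1 n144310 = n196391 := d15_0 (iv0 D196391) F164825 D144310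
def n196392 : Q := act 1 n106941
theorem D196392 : act 1 n106941 = n196392 := rfl
def n196393 : Q := act 2 n106941
theorem D196393 : act 2 n106941 = n196393 := rfl
theorem F400562 : act 3 n196393 = n144320 := d0_2 D106941 D196393 (iv2 D144320) (iv3 D67619) F78136
theorem F400563 : act 4 n196393 = n138296 := d1_2 (iv4 F164824) D196393 (iv2 D138296)
theorem F400564 : act 7 n196393 = n144310 := d4_2 (iv7 F164825) D196393 (iv2 D144310)
theorem F400565 : act 1 n196393 = n144308 := d15_0 (iv0 D144308) (iv7 F164825) D196393
theorem F400566 : act 1 n196392 = n144310 := d15_1 D196392 (iv7 F400564) (iv2 D196393)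
theorem F400567 : act 5 n110959 = n196392 := d17_7 (iv1 F245991) F348678 (iv1 F338238) (iv5 D110826) F80600 D51161 D110959 F400566 (iv4 F245987)
theorem F400568 : act 1 n144309 = n196393 := d15_1 D144309 F400564 (iv2 D144310)
def n196394 : Q := act 5 n106941
theorem D196394 : act 5 n106941 = n196394 := rfl
theorem F400569 : act 3 n196394 = n106942 := d6_1 D196394 (iv5 D106942) D106941
theorem F400570 : act 7 n196394 = n144311 := d13_2 (iv7 F164825) D196394 (iv5 D144311)
theorem F400571 : act 4 n196394 = n178237 := d16_4 F380188 F329492 (iv4 F164824) D196394 F339241 F188776 D179979 F280306 (iv2 F380187)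
theorem F400572 : act 6 n178235 = n196394 := d10_0 F400571 (iv6 D178237) D178235
def n196395 : Q := act 6 n106942
theorem D196395 : act 6 n106942 = n196395 := rfl
theorem F400573 : act 2 n196395 = n144322 := d3_1 D196395 (iv6 D144322) (iv2 F164826)
theorem F400574 : act 3 n196395 = n178235 := d7_1 D196395 F400572 F400569
theorem F400575 : act 3 n194962 = n144322 := d0_4 F400574 (iv2 F353915) (iv3 F380593) F395199 (iv2 F400573)
theorem F400576 : act 0 n180166 = n196395 := d20_4 F126227 F123094 (iv4 F132040) D180166 F400574 (iv4 D178235) (iv1 D84831) (iv4 F130024) (iv3 D84828) (iv1 F301417)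
theorem F400577 : act 3 n144324 = n194913 := d5_3 (iv4 F395198) F400575 (iv4 F227055) (iv4 D194913) (iv3 F380578)
theorem F400578 : act 6 n144321 = n194962 := d7_0 F400575 (iv6 D144322) (iv3 F227052)
theorem F400579 : act 6 n194913 = n144323 := d7_2 D144324 F400577 (iv3 D144323)
theorem F400580 : act 4 n144323 = n194914 := d10_1 F400579 (iv6 D194914) D194913
def n196396 : Q := act 3 n106943
theorem D196396 : act 3 n106943 = n196396 := rfl
theorem F400581 : act 5 n196396 = n111764 := d6_2 (iv5 F332222) D196396 (iv3 D111764)
theorem F400582 : act 4 n196396 = n112969 := d20_6 F53879 (iv1 D24111) D24112 D49407 D106943 D196396 (iv1 D112969) (iv4 F92818) (iv3 D58743) (iv1 F53878)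
def n196397 : Q := act 4 n106943
theorem D196397 : act 4 n106943 = n196397 := rfl
def n196398 : Q := act 6 n106943
theorem D196398 : act 6 n106943 = n196398 := rfl
theorem F400583 : act 5 n196398 = n133571 := d12_1 D196398 F214870 F337412 (iv6 D111766) (iv5 F332222)
theorem F400584 : act 0 n196398 = n196293 := d21_4 (iv5 F330480) (iv1 F81288) (iv5 F332222) D196398 F400255 (iv5 D161962) F117626 D159185 (iv6 F363573) F330479
theorem F400585 : act 1 n196398 = n196291 := d15_1 (iv0 F400584) F400245 (iv2 F400254)
def n196399 : Q := act 3 n106944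
theorem D196399 : act 3 n106944 = n196399 := rfl
theorem F400586 : act 5 n196399 = n111761 := d6_2 (iv5 F332218) D196399 (iv3 D111761)
theorem F400587 : act 6 n196399 = n192361 := d7_2 (iv6 F363570) D196399 F386567
theorem F400588 : act 4 n192362 = n196399 := d20_2 F359162 F386571 (iv3 D196399) (iv1 D106944) (iv3 D49407) (iv4 D24112) D24110 (iv4 F53876) D74715 D157148
theorem F400589 : act 0 n196399 = n179609 := d18_2 F386571 F400588 F279725 (iv5 F326620) F239652 (iv0 F326296) F350628 F355847 (iv5 F359160)
theorem F400590 : act 0 n175993 = n196399 := d17_0 F400586 F355981 F355980 F206483 D128484 (iv0 F339214) (iv5 F331957) F331956 D175993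
def n196400 : Q := act 4 n106944
theorem D196400 : act 4 n106944 = n196400 := rfl
def n196401 : Q := act 6 n106945
theorem D196401 : act 6 n106945 = n196401 := rfl
theorem F400591 : act 2 n196401 = n106947 := d3_1 D196401 (iv6 D106947) D106945
theorem F400592 : act 4 n196401 = n137647 := d10_1 D196401 (iv6 F245035) F245034
def n196402 : Q := act 0 n106946
theorem D196402 : act 0 n106946 = n196402 := rfl
theorem F400593 : act 5 n196402 = n106972 := d17_1 D196402 F330474 (iv5 D50401) F38554 F18960 D24569 D50410 F169182 (iv4 F337399)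
theorem F400594 : act 4 n196402 = n125938 := d18_3 D109235 (iv4 F337399) D196402 (iv5 D125938) F93168 F81068 F81066 F39180 D50405
theorem F400595 : act 6 n196402 = n108724 := d21_5 D108664 (iv1 F367469) F367466 F363738 D196402 F343737 F304010 F343755 (iv6 F81834) (iv1 F163208)
theorem F400596 : act 1 n108803 = n196402 := d15_0 (iv0 D196402) (iv7 F201868) F337398
def n196403 : Q := act 1 n106947
theorem D196403 : act 1 n106947 = n196403 := rfl
theorem F400597 : act 6 n109129 = n196403 := d21_3 (iv5 D162074) F324503 D109129 (iv1 D196403) (iv6 D106947) D106946 D196402 F400593 (iv6 F345413) F344462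
theorem F400598 : act 5 n196403 = n109125 := d12_1 F400597 (iv6 D109125) (iv5 D50373) D50374 D109129
def n196404 : Q := act 5 n106947
theorem D196404 : act 5 n106947 = n196404 := rfl
theorem F400599 : act 3 n196404 = n106951 := d6_1 D196404 (iv5 D106951) (iv3 F164831)
theorem F400600 : act 6 n196404 = n186621 := d12_2 D106947 D196404 F367466 F363738 (iv5 D106946)
theorem F400601 : act 4 n179770 = n196404 := d10_3 F400600 (iv4 D186621) (iv6 F280003)
def n196405 : Q := act 7 n106947
theorem D196405 : act 7 n106947 = n196405 := rfl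
theorem F400602 : act 3 n196405 = n106952 := d8_1 D196405 (iv7 D106952) (iv3 F164831)
theorem F400603 : act 4 n196405 = n137649 := d11_1 D196405 (iv7 D137649) (iv4 F164832)
def n196406 : Q := act 5 n106948
theorem D196406 : act 5 n106948 = n196406 := rfl
theorem F400604 : act 2 n196406 = n157902 := d2_1 D196406 (iv5 D157902) (iv2 F337387)
theorem F400605 : act 3 n196406 = n186621 := d6_1 D196406 F367466 (iv3 F337388)
theorem F400606 : act 6 n196406 = n106951 := d12_2 D106948 D196406 (iv5 D106951) (iv6 D49409) D49408
theorem F400607 : act 0 n114526 = n196406 := d21_7 F92870 (iv1 F45134) D49429 D106992 F330487 D108676 F356730 (iv5 D196406) (iv6 D106948) (iv1 F92872)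
theorem F400608 : act 4 n114518 = n196406 := d20_8 (iv4 F372961) F372963 F343087 (iv3 F362335) (iv1 F354719) F365245 F178374 D114518 F400605 F367468
def n196407 : Q := act 3 n106950
theorem D196407 : act 3 n106950 = n196407 := rfl
theorem F400609 : act 4 n196407 = n138326 := d5_2 (iv4 F164833) D196407 (iv3 D138326) (iv4 F111424) F111423
theorem F400610 : act 7 n196407 = n157173 := d8_2 F164835 D196407 (iv3 D157173)
def n196408 : Q := act 6 n106950
theorem D196408 : act 6 n106950 = n196408 := rfl
theorem F400611 : act 2 n196408 = n157178 := d3_1 D196408 (iv6 D157178) F164834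
theorem F400612 : act 4 n196408 = n110932 := d10_1 D196408 (iv6 D110932) (iv4 F164833)
theorem F400613 : act 5 n196408 = n108671 := d12_1 D196408 (iv6 D108671) D108670 F356736 F165310
theorem F400614 : act 7 n196408 = n107096 := d14_2 F164835 D196408 (iv6 D107096) F111249 (iv6 F112158)
theorem F400615 : act 0 n196408 = n195935 := d21_10 F398771 (iv1 D110964) F80710 (iv6 D24922) F19213 D24181 D49556 D107264 F165310 D196408
theorem F400616 : act 0 n107423 = n108671 := d21_1 D107423 (iv5 F400613) (iv6 D196408) (iv1 D106950) (iv6 D49409) D49408 (iv1 F92872) F92870 (iv6 F80837) (iv1 F165547)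
theorem F400617 : act 1 n107412 = n108671 := d15_0 (iv0 F400616) (iv7 F351078) F351076
theorem F400618 : act 1 n196408 = n195934 := d17_8 F164849 F164845 F78358 (iv5 D49613) D49612 D107412 F400617 (iv5 F400613) (iv4 D195934)
def n196409 : Q := act 4 n106951
theorem D196409 : act 4 n106951 = n196409 := rfl
theorem F400619 : act 6 n196409 = n114518 := d10_2 F400606 D196409 F400608
theorem F400620 : act 5 n196409 = n195807 := d16_3 (iv4 F78138) D106951 D196409 F398265 (iv5 F350552) F206749 (iv5 F163574) (iv7 D106404) F77630
theorem F400621 : act 0 n196409 = n114508 := d17_0 (iv5 F193539) F259234 F259233 (iv4 F352666) F165313 F163688 D195915 F398716 D196409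
def n196410 : Q := act 7 n106951
theorem D196410 : act 7 n106951 = n196410 := rfl
theorem F400622 : act 5 n196410 = n106952 := d13_1 D196410 (iv7 D106952) D106951
theorem F400623 : act 1 n107262 = n196410 := d15_1 F360115 (iv7 D196410) (iv2 F360113)
theorem F400624 : act 1 n196410 = n107258 := d15_1 F400623 (iv7 F398720) F398719
def n196411 : Q := act 0 n106955
theorem D196411 : act 0 n106955 = n196411 := rfl
theorem F400625 : act 5 n196411 = n136782 := d17_1 D196411 (iv1 D136782) F220005 F220001 F330465 D109180 F345393 (iv0 D106959) (iv4 F164852)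
theorem F400626 : act 2 n156039 = n196411 := d15_3 (iv0 D196411) (iv0 F397093) (iv7 F397086)
theorem F400627 : act 1 n156040 = n196411 := d15_0 (iv0 D196411) F164853 D156040
theorem F400628 : act 7 n196411 = n156038 := d15_2 F397094 F400627 F397089
def n196412 : Q := act 6 n106956
theorem D196412 : act 6 n106956 = n196412 := rfl
theorem F400629 : act 2 n196412 = n108149 := d3_1 D196412 (iv6 D108149) (iv2 F164854)
theorem F400630 : act 4 n196412 = n155986 := d10_1 D196412 (iv6 D155986) (iv4 F164855)
def n196413 : Q := act 4 n106959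
theorem D196413 : act 4 n106959 = n196413 := rfl
theorem F400631 : act 3 n196413 = n157191 := d5_1 D196413 (iv4 D157191) (iv3 D74739) D74740 (iv3 F164870)
def n196414 : Q := act 3 n106960
theorem D196414 : act 3 n106960 = n196414 := rfl
theorem F400632 : act 2 n196414 = n157183 := d0_1 D196414 (iv3 D157183) (iv2 F212158) (iv3 F398578) F398581
theorem F400633 : act 5 n196414 = n175636 := d6_2 F358803 D196414 F358643
def n196415 : Q := act 4 n106960
theorem D196415 : act 4 n106960 = n196415 := rfl
def n196416 : Q := act 6 n106960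
theorem D196416 : act 6 n106960 = n196416 := rfl
def n196417 : Q := act 6 n106961
theorem D196417 : act 6 n106961 = n196417 := rfl
theorem F400634 : act 2 n196417 = n106963 := d3_1 D196417 (iv6 D106963) D106961
theorem F400635 : act 5 n196417 = n162235 := d12_1 D196417 (iv6 D162235) (iv5 D77941) D77942 (iv5 F358806)
theorem F400636 : act 0 n107139 = n196417 := d21_4 F77650 D52000 (iv5 F180733) D107139 (iv6 D196417) F358806 (iv1 F299718) (iv5 F344465) (iv6 F345396) (iv1 D106413)
def n196418 : Q := act 0 n106963
theorem D196418 : act 0 n106963 = n196418 := rfl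
def n196419 : Q := act 5 n106963
theorem D196419 : act 5 n106963 = n196419 := rfl
theorem F400637 : act 2 n196419 = n162235 := d2_1 D196419 (iv5 F400635) F400634
theorem F400638 : act 3 n196419 = n106966 := d6_1 D196419 (iv5 D106966) (iv3 F164872)
theorem F400639 : act 6 n196419 = n120275 := d12_2 D106963 D196419 F191512 (iv6 F337379) (iv5 D106962)
theorem F400640 : act 0 n196419 = n191014 := d21_4 (iv5 D55359) D55356 (iv5 F191512) (iv6 F400639) F381876 D191028 F381924 (iv5 F360037) (iv6 D162293) F119176
def n196420 : Q := act 1 n106964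
theorem D196420 : act 1 n106964 = n196420 := rfl
theorem F400641 : act 1 n196420 = n108797 := d15_1 D196420 (iv7 F364142) F201869
theorem F400642 : act 2 n180688 = n196420 := d15_3 F400641 F364145 (iv7 F281218)
def n196421 : Q := act 5 n106964
theorem D196421 : act 5 n106964 = n196421 := rfl
theorem F400643 : act 3 n196421 = n120275 := d6_1 D196421 F191512 (iv3 F337391)
theorem F400644 : act 6 n196421 = n106966 := d12_2 D106964 D196421 (iv5 D106966) (iv6 D49417) D49416
def n196422 : Q := act 0 n106966
theorem D196422 : act 0 n106966 = n196422 := rfl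
theorem F400645 : act 5 n196422 = n107206 := d17_3 F78386 D106966 D196422 F165220 (iv5 F96701) (iv0 D62056) F47068 (iv0 F38202) (iv4 F78385)
def n196423 : Q := act 1 n106966
theorem D196423 : act 1 n106966 = n196423 := rfl
def n196424 : Q := act 4 n106966
theorem D196424 : act 4 n106966 = n196424 := rfl
def n196425 : Q := act 3 n106967
theorem D196425 : act 3 n106967 = n196425 := rfl
theorem F400646 : act 2 n196425 = n174599 := d0_1 D196425 (iv3 D174599) (iv2 F330954) F228383 (iv2 F164873)
theorem F400647 : act 4 n196425 = n138492 := d5_2 D106967 D196425 (iv3 D138492) (iv4 D65049) F79362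
theorem F400648 : act 6 n196425 = n145354 := d7_2 (iv6 F164874) D196425 F228398
theorem F400649 : act 7 n196425 = n107074 := d8_2 (iv7 F164875) D196425 F165053
def n196426 : Q := act 5 n106967
theorem D196426 : act 5 n106967 = n196426 := rfl
theorem F400650 : act 2 n196426 = n145343 := d2_1 D196426 F228386 (iv2 F164873)
theorem F400651 : act 7 n196426 = n107076 := d13_2 (iv7 F164875) D196426 (iv5 D107076)
theorem F400652 : act 0 n196426 = n145341 := d17_2 (iv1 F164876) D196426 (iv5 F228385) F165446 F100216 F77825 (iv5 F78392) F78395 (iv4 F92821)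
theorem F400653 : act 1 n196426 = n145340 := d17_6 (iv1 F165489) (iv5 D106770) (iv1 F78045) (iv5 F78361) D106967 D196426 F228384 F211448 F172192
def n196427 : Q := act 3 n106972
theorem D196427 : act 3 n106972 = n196427 := rfl
theorem F400654 : act 7 n196427 = n142746 := d8_2 F363568 D196427 (iv3 F363565)
theorem F400655 : act 4 n196427 = n110999 := d20_6 (iv4 D11333) D11331 D24124 D49422 D106972 D196427 (iv1 D110999) F80745 (iv3 D49436) (iv1 D24130)
theorem F400656 : act 2 n194572 = n196427 := d1_3 F400655 (iv2 F363577) D194572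
theorem F400657 : act 1 n110951 = n196427 := d18_6 (iv1 F293087) (iv4 F382206) F382209 F294900 (iv5 F294901) F368599 F400655 (iv0 F295624) F348758
theorem F400658 : act 0 n194631 = n196427 := d20_10 F400655 (iv1 D110999) F80745 (iv3 D49436) (iv1 D24130) D24131 (iv4 F38303) D50085 D108472 (iv3 F393878)
theorem F400659 : act 0 n111648 = n109226 := d18_0 (iv4 F202430) F348764 (iv4 F343553) (iv5 D107009) (iv4 F80745) D110999 (iv4 F400655) (iv0 F400658) F393880
def n196428 : Q := act 4 n106972
theorem D196428 : act 4 n106972 = n196428 := rfl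
theorem F400660 : act 3 n196428 = n156199 := d19_3 D196402 F400593 D196428 (iv1 F245473) F245083 F245079 F324667 (iv1 D85508) (iv5 F113812) (iv4 F330641) (iv3 F330642) (iv1 F345978) F221798 F111669 (iv3 D67615) (iv1 F53455) (iv5 F92860) (iv4 F92862) (iv3 F164830)
def n196429 : Q := act 1 n106976
theorem D196429 : act 1 n106976 = n196429 := rfl
def n196430 : Q := act 7 n106976
theorem D196430 : act 7 n106976 = n196430 := rfl
theorem F400661 : act 3 n196430 = n106981 := d8_1 D196430 (iv7 D106981) (iv3 F164890)
def n196431 : Q := act 3 n106978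
theorem D196431 : act 3 n106978 = n196431 := rfl
theorem F400662 : act 4 n196431 = n136494 := d5_2 (iv4 F166502) D196431 (iv3 D136494) F167115 (iv3 F167113)
theorem F400663 : act 6 n196431 = n107261 := d7_2 (iv6 F166503) D196431 (iv3 D107261)
def n196432 : Q := act 5 n106978
theorem D196432 : act 5 n106978 = n196432 := rfl
def n196433 : Q := act 3 n106979
theorem D196433 : act 3 n106979 = n196433 := rfl
theorem F400664 : act 4 n196433 = n138636 := d5_2 (iv4 F164891) D196433 (iv3 D138636) (iv4 F171628) (iv3 F171629)
theorem F400665 : act 0 n194642 = n196433 := d20_4 (iv4 D194649) (iv1 D103912) (iv4 F159344) (iv3 F393923) (iv3 D196433) F164891 (iv1 D51156) (iv4 F80700) (iv3 F171973) (iv1 F393951)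
def n196434 : Q := act 5 n106979
theorem D196434 : act 5 n106979 = n196434 := rfl
def n196435 : Q := act 1 n106980
theorem D196435 : act 1 n106980 = n196435 := rfl
theorem F400666 : act 1 n196435 = n145322 := d15_1 D196435 (iv7 F228360) F201826
theorem F400667 : act 7 n196435 = n107432 := d15_2 (iv0 F164892) D196435 F165721
theorem F400668 : act 5 n196435 = n107433 := d17_7 F82131 F82127 (iv1 F76519) (iv5 F40187) (iv4 F78158) D106980 D196435 F165727 F165715
theorem F400669 : act 2 n145324 = n196435 := d2_3 F400668 F165723 (iv5 F228361)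
def n196436 : Q := act 4 n106980
theorem D196436 : act 4 n106980 = n196436 := rfl
def n196437 : Q := act 7 n106980
theorem D196437 : act 7 n106980 = n196437 := rfl
theorem F400670 : act 2 n196437 = n145322 := d4_1 D196437 (iv7 F228360) F201826
theorem F400671 : act 5 n196437 = n106981 := d13_1 D196437 (iv7 D106981) D106980
theorem F400672 : act 1 n145324 = n196437 := d15_1 F228362 (iv7 D196437) (iv2 F201826)
theorem F400673 : act 1 n196437 = n107432 := d15_1 F400672 (iv7 F400667) (iv2 F400669)
def n196438 : Q := act 3 n106983
theorem D196438 : act 3 n106983 = n196438 := rfl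
theorem F400674 : act 6 n196438 = n107275 := d7_2 (iv6 F164899) D196438 (iv3 D107275)
def n196439 : Q := act 5 n106983
theorem D196439 : act 5 n106983 = n196439 := rfl
theorem F400675 : act 0 n196439 = n145326 := d17_2 (iv1 F171954) D196439 (iv5 D145326) (iv4 D68137) D68138 (iv0 F166505) (iv5 D107760) (iv0 D49775) (iv4 F78162)
theorem F400676 : act 1 n196439 = n144406 := d17_6 D51997 (iv5 F174359) F174361 (iv5 D106984) D106983 D196439 (iv5 D144406) F164023 F50033
def n196440 : Q := act 4 n106984
theorem D196440 : act 4 n106984 = n196440 := rfl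
theorem F400677 : act 3 n196440 = n163673 := d5_1 D196440 (iv4 D163673) D163672 F363262 F363266
theorem F400678 : act 7 n196440 = n113570 := d11_2 (iv7 F164900) D196440 F176715
theorem F400679 : act 0 n196440 = n113405 := d17_0 F395594 (iv1 D195055) (iv5 D105204) F76512 (iv5 F39775) D51998 (iv5 F82733) F164901 D196440
theorem F400680 : act 1 n196440 = n125748 := d18_6 (iv1 D49776) (iv4 F78162) (iv1 F171954) (iv4 D106983) D106984 D196440 F202242 (iv0 F100276) F93418
def n196441 : Q := act 4 n106987
theorem D196441 : act 4 n106987 = n196441 := rfl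
theorem F400681 : act 3 n196441 = n156780 := d5_1 D196441 (iv4 D156780) (iv3 D74563) D74564 (iv3 F164907)
theorem F400682 : act 6 n196441 = n107244 := d10_2 (iv6 F323815) D196441 (iv4 D107244)
theorem F400683 : act 5 n196441 = n196415 := d16_1 D196441 (iv4 D196415) (iv5 F358803) (iv4 F344525) (iv5 D121284) D121283 F344466 (iv7 F214174) (iv2 F214173)
def n196442 : Q := act 3 n106988
theorem D196442 : act 3 n106988 = n196442 := rfl
theorem F400684 : act 2 n196442 = n156774 := d0_1 D196442 (iv3 D156774) F214170 (iv3 F201812) F214172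
theorem F400685 : act 5 n196442 = n163541 := d6_2 F344466 D196442 (iv3 F299583)
theorem F400686 : act 7 n196442 = n192690 := d8_2 F214174 D196442 F387501
theorem F400687 : act 4 n196442 = n192691 := d20_6 (iv4 D156137) (iv1 F111476) F330481 (iv3 F170526) F330467 D196442 (iv1 F387504) (iv4 D107022) D107021 (iv1 F358704)
theorem F400688 : act 0 n110946 = n196442 := d18_0 F400687 (iv1 F387504) (iv4 D107022) D107023 F358678 F332201 D161589 F337636 (iv5 F333021)
theorem F400689 : act 1 n194630 = n196442 := d15_0 (iv0 F400688) (iv7 F357641) (iv2 F393872)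
def n196443 : Q := act 4 n106988
theorem D196443 : act 4 n106988 = n196443 := rfl
theorem F400690 : act 5 n196443 = n196413 := d9_2 F344466 D196443 (iv4 D196413) (iv5 F345393) (iv4 F325651) (iv5 D121281) D121280 (iv5 F337373) D196441 F400683 (iv4 D196415) (iv5 F358803) (iv4 F344525) (iv5 D121284) D121283
def n196444 : Q := act 6 n106988
theorem D196444 : act 6 n106988 = n196444 := rfl
theorem F400691 : act 2 n196444 = n140690 := d3_1 D196444 (iv6 F351102) F214172
theorem F400692 : act 5 n196444 = n111367 := d12_1 D196444 (iv6 F175106) F343738 F302540 F344466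
theorem F400693 : act 7 n196444 = n107250 := d14_2 F214174 D196444 (iv6 D107250) F163633 F345396
theorem F400694 : act 0 n196444 = n107422 := d21_4 (iv5 D180403) (iv1 F299581) F344466 D196444 (iv6 F342477) F246270 F246269 F223736 (iv6 F345395) F345392
theorem F400695 : act 1 n196444 = n112203 := d15_1 (iv0 F400694) F174475 F351093
def n196445 : Q := act 6 n106989
theorem D196445 : act 6 n106989 = n196445 := rfl
theorem F400696 : act 2 n196445 = n106991 := d3_1 D196445 (iv6 D106991) D106989
theorem F400697 : act 3 n196445 = n109221 := d7_1 D196445 F169173 F330466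
theorem F400698 : act 5 n196445 = n109178 := d12_1 D196445 (iv6 D109178) F79756 D50388 (iv5 F330465)
theorem F400699 : act 7 n179798 = n196445 := d13_0 F400698 F343153 D179798
def n196446 : Q := act 1 n106991
theorem D196446 : act 1 n106991 = n196446 := rfl
theorem F400700 : act 1 n196446 = n179798 := d15_1 D196446 F400699 F400696
def n196447 : Q := act 5 n106991
theorem D196447 : act 5 n106991 = n196447 := rfl
theorem F400701 : act 2 n196447 = n109178 := d2_1 D196447 (iv5 F400698) F400696
theorem F400702 : act 3 n196447 = n106994 := d6_1 D196447 (iv5 D106994) (iv3 F164909)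
theorem F400703 : act 6 n196447 = n109101 := d12_2 D106991 D196447 (iv5 D109101) (iv6 F330463) (iv5 D106990)
theorem F400704 : act 0 n196447 = n153779 := d21_7 (iv5 F169075) (iv1 F172824) (iv5 F400692) (iv6 D196444) (iv1 D106988) D106991 D196447 F241634 D153780 F331124
theorem F400705 : act 0 n153774 = n196447 := d21_1 D153774 (iv5 D196447) (iv6 D106991) D106987 F323815 F172110 (iv1 F163676) F163674 D126159 F331117
theorem F400706 : act 7 n196447 = n153776 := d15_2 (iv0 F360788) (iv0 F400704) F342485
theorem F400707 : act 4 n179717 = n196447 := d11_3 F400706 F342486 D179717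
def n196448 : Q := act 7 n106991
theorem D196448 : act 7 n106991 = n196448 := rfl
theorem F400708 : act 2 n196448 = n179798 := d4_1 D196448 F400699 F400696
theorem F400709 : act 3 n196448 = n106995 := d8_1 D196448 (iv7 D106995) (iv3 F164909)
theorem F400710 : act 5 n196448 = n153776 := d13_1 D196448 (iv7 F400706) (iv5 D196447)
theorem F400711 : act 1 n179798 = n128383 := d15_0 (iv0 F366454) D196448 F400708
theorem F400712 : act 2 n151166 = n196446 := d15_3 F400700 F400711 (iv7 F237857)
theorem F400713 : act 0 n196448 = n151166 := d20_4 F164914 F111167 (iv4 F164910) (iv3 F400709) (iv3 D151166) (iv4 D71243) (iv1 D32973) D32974 (iv3 F317410) D67610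
theorem F400714 : act 1 n196445 = n151166 := d15_0 (iv0 F400713) (iv7 D196448) (iv2 F400696)
def n196449 : Q := act 3 n106996
theorem D196449 : act 3 n106996 = n196449 := rfl
theorem F400715 : act 4 n196449 = n138777 := d5_2 D106996 D196449 (iv3 D138777) (iv4 D65166) (iv3 F111456)
theorem F400716 : act 5 n196449 = n187815 := d6_2 F172035 D196449 (iv3 F371600)
theorem F400717 : act 7 n196449 = n144303 := d8_2 (iv7 F164911) D196449 (iv3 D144303)
theorem F400718 : act 0 n107024 = n196449 := d17_0 F400716 (iv1 D187815) D187817 F371621 (iv5 F371618) F371620 (iv5 D154712) D154710 (iv4 F361660)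
def n196450 : Q := act 6 n106996
theorem D196450 : act 6 n106996 = n196450 := rfl
theorem F400719 : act 2 n196450 = n144302 := d3_1 D196450 (iv6 D144302) (iv2 F164913)
theorem F400720 : act 4 n196450 = n106997 := d10_1 D196450 (iv6 D106997) D106996
theorem F400721 : act 7 n196450 = n107221 := d14_2 (iv7 F164911) D196450 (iv6 D107221) F102166 (iv6 F111177)
theorem F400722 : act 0 n196450 = n107398 := d21_10 F228385 (iv1 D145341) (iv5 D68143) (iv6 D31726) (iv1 F24587) D24899 D51171 D110987 F172035 D196450
theorem F400723 : act 1 n196450 = n131970 := d15_1 (iv0 F400722) F211447 (iv2 F165445)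
def n196451 : Q := act 3 n107000
theorem D196451 : act 3 n107000 = n196451 := rfl
theorem F400724 : act 5 n196451 = n108191 := d6_2 (iv5 F164936) D196451 (iv3 D108191)
theorem F400725 : act 7 n196451 = n144323 := d8_2 F164940 D196451 (iv3 D144323)
def n196452 : Q := act 6 n107000
theorem D196452 : act 6 n107000 = n196452 := rfl
theorem F400726 : act 2 n196452 = n144326 := d3_1 D196452 (iv6 D144326) F164939
theorem F400727 : act 4 n196452 = n128809 := d10_1 D196452 (iv6 D128809) (iv4 F164937)
def n196453 : Q := act 3 n107001
theorem D196453 : act 3 n107001 = n196453 := rfl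
theorem F400728 : act 4 n196453 = n192637 := d5_2 (iv4 F164944) D196453 F387304 (iv4 F400571) F400569
theorem F400729 : act 5 n196453 = n108192 := d6_2 (iv5 F164943) D196453 (iv3 D108192)
theorem F400730 : act 7 n196453 = n144325 := d8_2 (iv7 F164942) D196453 (iv3 D144325)
theorem F400731 : act 0 n196453 = n107018 := d20_10 F337617 (iv1 D161588) D161589 (iv3 F358712) (iv1 F330460) F164908 (iv4 F92839) (iv1 F164829) (iv4 F164944) D196453
theorem F400732 : act 0 n107023 = n196453 := d20_4 (iv4 F93168) F166186 F80427 (iv3 F358677) (iv3 D196453) F164944 F164828 F92845 F330484 (iv1 F81068)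
def n196454 : Q := act 6 n107001
theorem D196454 : act 6 n107001 = n196454 := rfl
theorem F400733 : act 2 n196454 = n144324 := d3_1 D196454 (iv6 D144324) F164945
theorem F400734 : act 4 n196454 = n196395 := d10_1 D196454 (iv6 D196395) (iv4 F164944)
def n196455 : Q := act 0 n107002
theorem D196455 : act 0 n107002 = n196455 := rfl
theorem F400735 : act 4 n196455 = n108672 := d20_0 F356731 (iv4 F81050) F81049 (iv1 F80206) D110278 F170516 F176604 F176603 F348767 D196455
theorem F400736 : act 2 n108674 = n196455 := d1_3 F400735 F168608 D108674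
theorem F400737 : act 7 n108669 = n196455 := d11_0 F400735 (iv7 D108672) D108669
def n196456 : Q := act 1 n107002
theorem D196456 : act 1 n107002 = n196456 := rfl
theorem F400738 : act 7 n196456 = n108674 := d15_2 (iv0 D196455) D196456 F400736
theorem F400739 : act 4 n108667 = n196456 := d20_0 (iv1 D196456) (iv4 F164952) F361198 F176607 F170311 F80180 (iv1 F170124) (iv4 F38547) (iv3 F79514) (iv1 F356738)
theorem F400740 : act 2 n196456 = n108669 := d1_1 F400739 (iv4 D108669) D108667
theorem F400741 : act 3 n196456 = n133969 := d20_9 (iv4 F175409) (iv1 F175412) (iv4 F170501) (iv3 D110273) (iv1 F80205) (iv3 F81049) F81050 (iv1 F356738) F400739 (iv1 F215892)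
theorem F400742 : act 1 n111507 = n108674 := d15_1 (iv0 F173422) (iv7 F400738) F400740
def n196457 : Q := act 5 n107002
theorem D196457 : act 5 n107002 = n196457 := rfl
theorem F400743 : act 6 n196457 = n107004 := d12_2 D107002 D196457 (iv5 D107004) (iv6 D49435) D49434
def n196458 : Q := act 4 n107004
theorem D196458 : act 4 n107004 = n196458 := rfl
def n196459 : Q := act 3 n107006
theorem D196459 : act 3 n107006 = n196459 := rfl
theorem F400744 : act 6 n196459 = n107294 := d7_2 (iv6 F366087) D196459 (iv3 D107294)
theorem F400745 : act 4 n196459 = n108119 := d20_6 F39033 (iv1 F22146) (iv4 F37810) D49436 D107006 D196459 (iv1 D108119) (iv4 F92835) (iv3 D58748) (iv1 F45125)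
theorem F400746 : act 5 n121275 = n196459 := d18_4 F299555 F119158 D77943 (iv4 F256385) F400745 F220006 F220001 F201813 (iv5 F351103)
def n196460 : Q := act 5 n107006
theorem D196460 : act 5 n107006 = n196460 := rfl
theorem F400747 : act 3 n196460 = n121275 := d6_1 D196460 F400746 (iv3 D196459)
theorem F400748 : act 6 n196460 = n177213 := d12_2 (iv6 F366087) D196460 (iv5 D177213) F322898 F172098
theorem F400749 : act 0 n196460 = n128641 := d17_2 D107006 D196460 F206928 (iv4 F175711) (iv5 F340427) D191098 (iv5 F382213) (iv0 D110998) F80745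
theorem F400750 : act 4 n196460 = n163495 := d19_2 D107006 D196460 (iv3 D163495) (iv1 F330384) (iv5 D135690) F99174 F48425 (iv1 F48358) (iv5 F93647) (iv4 D59369) F45599 (iv1 F46941) F46943 F40224 (iv3 F38440) (iv1 D14783) F22147 (iv4 F37810) D49436
theorem F400751 : act 0 n107034 = n196460 := d21_7 F80767 (iv1 F78401) F180716 D110976 F390651 (iv6 D125478) (iv5 F164972) (iv5 D196460) F366087 (iv1 F80769)
def n196461 : Q := act 3 n107007
theorem D196461 : act 3 n107007 = n196461 := rfl
theorem F400752 : act 0 n107016 = n196461 := d20_4 (iv4 F316130) F316129 (iv4 D107017) D107016 (iv3 D196461) F393363 (iv1 D103881) (iv4 F159305) (iv3 F393873) (iv1 F393877)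
def n196462 : Q := act 5 n107007
theorem D196462 : act 5 n107007 = n196462 := rfl
theorem F400753 : act 0 n196462 = n107034 := d17_2 (iv1 F171970) D196462 F164972 F92818 F164264 F382220 F382210 (iv0 F295624) F295628
theorem F400754 : act 1 n196462 = n128641 := d15_1 (iv0 F400753) F207276 F207273
def n196463 : Q := act 6 n107007
theorem D196463 : act 6 n107007 = n196463 := rfl
theorem F400755 : act 4 n196463 = n194635 := d10_1 D196463 (iv6 D194635) (iv4 F393363)
theorem F400756 : act 7 n196463 = n107302 := d14_2 F366908 D196463 (iv6 D107302) F172101 (iv6 F366907)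
def n196464 : Q := act 0 n107009
theorem D196464 : act 0 n107009 = n196464 := rfl
theorem F400757 : act 3 n196464 = n110300 := d20_5 (iv4 F164944) (iv1 D107001) (iv4 F78164) (iv3 F164949) D196464 (iv4 D110300) (iv1 F80215) (iv4 F170404) F330457 (iv1 F164829)
theorem F400758 : act 6 n124216 = n196464 := d7_0 F400757 F327886 D124216
def n196465 : Q := act 1 n107009
theorem D196465 : act 1 n107009 = n196465 := rfl
theorem F400759 : act 5 n196465 = n110923 := d17_7 (iv1 F175923) F358271 (iv1 D97387) (iv5 F295476) F80745 D107009 D196465 F201792 F201788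
theorem F400760 : act 6 n107502 = n110923 := d21_5 F293231 (iv1 F140342) F292871 D103820 (iv1 F359489) (iv5 F400759) (iv1 D196465) (iv5 D107009) (iv6 F295631) (iv1 F159294)
def n196466 : Q := act 5 n107011
theorem D196466 : act 5 n107011 = n196466 := rfl
theorem F400761 : act 2 n196466 = n144305 := d2_1 D196466 F227013 (iv2 F164951)
theorem F400762 : act 3 n196466 = n184593 := d6_1 D196466 F361217 (iv3 F361198)
theorem F400763 : act 6 n196466 = n107012 := d12_2 D107011 D196466 (iv5 D107012) (iv6 D49438) D49437
def n196467 : Q := act 7 n107011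
theorem D196467 : act 7 n107011 = n196467 := rfl
theorem F400764 : act 2 n196467 = n108927 := d4_1 D196467 F348803 (iv2 F164951)
theorem F400765 : act 3 n196467 = n110155 := d8_1 D196467 (iv7 F204627) (iv3 F361198)
theorem F400766 : act 4 n196467 = n111507 := d11_1 D196467 F348798 (iv4 F164952)
theorem F400767 : act 1 n144328 = n196467 := d15_1 D144328 (iv7 D196467) F164951
theorem F400768 : act 1 n196467 = n144327 := d15_1 F400767 F361212 F361213
theorem F400769 : act 4 n151247 = n127808 := d18_1 D151247 (iv1 F205615) (iv4 F356735) (iv5 D108670) D108669 (iv0 F173422) (iv4 F400766) F400768 F363666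
def n196468 : Q := act 6 n107014
theorem D196468 : act 6 n107014 = n196468 := rfl
theorem F400770 : act 2 n196468 = n107033 := d3_1 D196468 (iv6 D107033) F164958
theorem F400771 : act 7 n196468 = n107317 := d14_2 (iv7 F164959) D196468 (iv6 D107317) F78331 (iv6 F78167)
theorem F400772 : act 0 n196468 = n107389 := d21_4 (iv5 F358644) (iv1 F358666) (iv5 F337620) D196468 (iv6 F390081) F388210 F384794 (iv5 D145403) (iv6 F112137) D157152
theorem F400773 : act 1 n196468 = n107388 := d15_0 (iv0 D107388) (iv7 F164971) (iv2 F400770)
def n196469 : Q := act 1 n107016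
theorem D196469 : act 1 n107016 = n196469 := rfl
def n196470 : Q := act 2 n107016
theorem D196470 : act 2 n107016 = n196470 := rfl
def n196471 : Q := act 5 n107016
theorem D196471 : act 5 n107016 = n196471 := rfl
theorem F400774 : act 3 n196471 = n107018 := d6_1 D196471 (iv5 D107018) D107016
def n196472 : Q := act 6 n107016
theorem D196472 : act 6 n107016 = n196472 := rfl
theorem F400775 : act 3 n196472 = n107019 := d7_1 D196472 (iv6 D107019) D107016
def n196473 : Q := act 7 n107016
theorem D196473 : act 7 n107016 = n196473 := rfl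
theorem F400776 : act 3 n196473 = n107020 := d8_1 D196473 (iv7 D107020) D107016
theorem F400777 : act 4 n125470 = n196473 := d20_2 (iv4 F219573) (iv1 F219576) F400776 F358709 (iv3 F163606) (iv4 F176258) F319234 (iv4 F366485) (iv3 D125500) D125498
theorem F400778 : act 7 n136459 = n125470 := d11_0 F400777 (iv7 D196473) F219571
theorem F400779 : act 2 n125470 = n136458 := d15_3 (iv0 D136458) D136459 F400778
theorem F400780 : act 2 n136459 = n125469 := d15_3 (iv0 D125469) D125470 (iv7 F400778)
theorem F400781 : act 4 n125469 = n196470 := d1_2 F219571 F400780 (iv2 D196470)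
theorem F400782 : act 7 n125469 = n136458 := d4_2 (iv7 F400778) F400780 (iv2 F400779)
def n196474 : Q := act 3 n107017
theorem D196474 : act 3 n107017 = n196474 := rfl
def n196475 : Q := act 0 n107018
theorem D196475 : act 0 n107018 = n196475 := rfl
theorem F400783 : act 5 n196475 = n157154 := d17_3 D49439 D107018 D196475 F247327 (iv5 F387337) (iv0 D192645) F357957 (iv0 D50085) F38303
theorem F400784 : act 4 n196475 = n192638 := d18_1 D196475 (iv1 D192638) D192639 F387313 (iv4 D108477) F167705 F167703 (iv0 D107014) D107018
theorem F400785 : act 0 n188885 = n107019 := d21_4 (iv5 D192912) (iv1 D100960) D100962 (iv6 F375132) (iv6 D107019) D107018 D196475 F400783 F247328 (iv1 F388194)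
theorem F400786 : act 2 n144325 = n196475 := d15_3 (iv0 D196475) (iv0 F400731) F400730
theorem F400787 : act 1 n107023 = n196475 := d15_0 (iv0 D196475) F358708 (iv2 F358676)
def n196476 : Q := act 0 n107019
theorem D196476 : act 0 n107019 = n196476 := rfl
def n196477 : Q := act 5 n107019
theorem D196477 : act 5 n107019 = n196477 := rfl
def n196478 : Q := act 7 n107019
theorem D196478 : act 7 n107019 = n196478 := rfl
def n196479 : Q := act 4 n107021
theorem D196479 : act 4 n107021 = n196479 := rfl
theorem F400788 : act 2 n196479 = n156016 := d1_1 D196479 F358700 (iv2 F358692)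
theorem F400789 : act 1 n196479 = n196428 := d18_6 (iv1 F81068) (iv4 F93168) F166186 F80427 (iv5 F358693) D196479 (iv4 D196428) (iv0 D106972) (iv5 F330482)
theorem F400790 : act 0 n196479 = n156184 := d20_1 D196479 F245449 (iv3 F360001) F279177 F279068 (iv4 D125163) D125161 F309720 (iv3 F245365) (iv1 F358691)
def n196480 : Q := act 6 n107021
theorem D196480 : act 6 n107021 = n196480 := rfl
theorem F400791 : act 3 n196480 = n107024 := d7_1 D196480 (iv6 D107024) D107021
theorem F400792 : act 5 n196480 = n108777 := d12_1 D196480 (iv6 D108777) F79574 D50290 (iv5 F358693)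
def n196481 : Q := act 1 n107024
theorem D196481 : act 1 n107024 = n196481 := rfl
theorem F400793 : act 5 n196481 = n187814 := d17_7 F83497 (iv5 D52841) (iv1 D25647) D25648 D52843 (iv5 F361661) D196481 (iv0 D187814) (iv4 D90592)
theorem F400794 : act 4 n196481 = n154767 := d17_9 F392909 F371566 F371564 (iv5 F349169) F222735 (iv5 F349170) (iv0 D114482) (iv5 F361661) D196481
theorem F400795 : act 6 n107341 = n196481 := d10_0 F400794 (iv6 F400400) F400403
theorem F400796 : act 2 n144303 = n196481 := d16_9 F400794 (iv5 F392910) (iv4 D114280) (iv5 D52745) F77182 D105381 (iv4 F371598) (iv5 F400716) F400717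
def n196482 : Q := act 6 n107027
theorem D196482 : act 6 n107027 = n196482 := rfl
theorem F400797 : act 2 n196482 = n107031 := d3_1 D196482 (iv6 D107031) (iv2 F164965)
theorem F400798 : act 5 n196482 = n107371 := d12_1 D196482 (iv6 D107371) (iv5 D49598) (iv6 F78167) D107027
def n196483 : Q := act 3 n107028
theorem D196483 : act 3 n107028 = n196483 := rfl
theorem F400799 : act 5 n196483 = n193260 := d6_2 (iv5 F358644) D196483 F389352
theorem F400800 : act 6 n196483 = n180448 := d7_2 (iv6 F342031) D196483 (iv3 D180448)
def n196484 : Q := act 3 n107029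
theorem D196484 : act 3 n107029 = n196484 := rfl
theorem F400801 : act 4 n196484 = n112612 := d5_2 F337614 D196484 F175216 (iv4 F175220) F337611
theorem F400802 : act 0 n196484 = n111779 := d19_4 (iv1 F309545) (iv5 F330874) F337614 D196484 (iv5 F332215) (iv4 D156137) F320584 (iv1 D85203) (iv5 D39385) (iv4 D18665) F13645 D8771 D18704 F29965 (iv3 F297178) (iv1 F28681) (iv5 F28152) (iv4 F56149) F311019
theorem F400803 : act 1 n196484 = n111773 := d15_1 (iv0 F400802) F173461 (iv2 F173473)
theorem F400804 : act 2 n108791 = n196484 := d15_3 F400803 F222467 F172900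
theorem F400805 : act 6 n196484 = n108611 := d3_2 D108791 F400804 F170682
def n196485 : Q := act 6 n107029
theorem D196485 : act 6 n107029 = n196485 := rfl
theorem F400806 : act 3 n196485 = n108611 := d7_1 D196485 (iv6 F400805) (iv3 D196484)
theorem F400807 : act 4 n196485 = n112613 := d10_1 D196485 F336092 F337614
theorem F400808 : act 7 n196485 = n108785 := d14_2 (iv7 F337616) D196485 F327949 F261309 D157956
def n196486 : Q := act 0 n107031
theorem D196486 : act 0 n107031 = n196486 := rfl
def n196487 : Q := act 0 n107033
theorem D196487 : act 0 n107033 = n196487 := rfl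
theorem F400809 : act 1 n107317 = n196487 := d15_0 (iv0 D196487) F164971 (iv2 F165377)
theorem F400810 : act 6 n192367 = n196487 := d21_3 F385632 F385629 D192367 (iv1 F400809) (iv6 D107317) F78330 (iv1 F78343) (iv5 F223614) F388195 F388193
theorem F400811 : act 2 n196487 = n107389 := d3_1 F400810 (iv6 F390081) (iv2 F388211)
theorem F400812 : act 7 n107388 = n196487 := d15_2 (iv0 F400772) F400773 F400811
def n196488 : Q := act 1 n107033
theorem D196488 : act 1 n107033 = n196488 := rfl
theorem F400813 : act 1 n196488 = n107317 := d15_1 D196488 (iv7 F400771) F400770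
theorem F400814 : act 7 n196488 = n107389 := d15_2 (iv0 D196487) D196488 (iv2 F400811)
theorem F400815 : act 2 n107388 = n196488 := d4_3 F400814 (iv2 F400811) (iv7 F400812)
theorem F400816 : act 3 n124442 = n196488 := d8_3 F400814 (iv3 F394593) F277625
theorem F400817 : act 5 n124441 = n196488 := d13_3 F400814 F394591 (iv7 F277623)
def n196489 : Q := act 6 n107034
theorem D196489 : act 6 n107034 = n196489 := rfl
theorem F400818 : act 2 n196489 = n163949 := d3_1 D196489 (iv6 F341834) F207273
theorem F400819 : act 3 n196489 = n107035 := d7_1 D196489 (iv6 D107035) D107034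
theorem F400820 : act 0 n196489 = n121267 := d20_4 (iv4 F380718) (iv1 D157165) (iv4 F164973) (iv3 F400819) (iv3 D121267) F88527 (iv1 F87593) (iv4 F91643) D124230 F281219
theorem F400821 : act 7 n163950 = n196489 := d15_2 (iv0 D163949) D163950 F400818
def n196490 : Q := act 0 n107035
theorem D196490 : act 0 n107035 = n196490 := rfl
theorem F400822 : act 4 n196490 = n157899 := d20_2 (iv4 F164973) D196490 (iv3 F304021) (iv1 F348608) (iv3 D157923) (iv4 F119847) (iv1 F258033) (iv4 F280814) F380705 (iv1 D157165)
def n196491 : Q := act 1 n107035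
theorem D196491 : act 1 n107035 = n196491 := rfl
theorem F400823 : act 4 n157900 = n196491 := d20_0 (iv1 D196491) F164973 (iv3 F354463) (iv1 D111407) F81104 F39194 D24979 D51388 D111426 F327449
theorem F400824 : act 3 n163938 = n196491 := d20_5 (iv4 D35136) F28320 D35860 D78760 D163938 (iv4 F400823) (iv1 D157900) (iv4 F337392) F337391 (iv1 F87613)
def n196492 : Q := act 5 n107035
theorem D196492 : act 5 n107035 = n196492 := rfl
theorem F400825 : act 6 n196492 = n125479 := d12_2 D107035 D196492 (iv5 D125479) (iv6 D58744) (iv5 F78170)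
def n196493 : Q := act 7 n107035
theorem D196493 : act 7 n107035 = n196493 := rfl
theorem F400826 : act 3 n196493 = n163950 := d8_1 D196493 F400821 F400819
theorem F400827 : act 4 n196493 = n157167 := d11_1 D196493 (iv7 D157167) (iv4 F164973)
def n196494 : Q := act 0 n107036
theorem D196494 : act 0 n107036 = n196494 := rfl
theorem F400828 : act 4 n196494 = n164561 := d18_1 D196494 (iv1 D164561) D164562 F338230 F246725 (iv0 F368619) (iv4 F368621) F357639 (iv5 F164974)
theorem F400829 : act 3 n196494 = n174876 := d20_5 F78171 (iv1 D49444) D49445 D107036 D196494 (iv4 F330853) F330850 F332997 F78168 (iv1 F53882)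
theorem F400830 : act 1 n110957 = n196494 := d15_0 (iv0 D196494) F164975 (iv2 F172005)
theorem F400831 : act 5 n196494 = n144308 := d17_7 D156463 F358661 (iv1 F278770) F338240 F171646 D110957 F400830 (iv0 D144308) (iv4 F111669)
theorem F400832 : act 6 n145298 = n144308 := d21_5 (iv5 F180606) (iv1 D107439) F78382 D68121 D145298 (iv5 F400831) (iv1 F400830) (iv5 D110957) F80707 F181242
theorem F400833 : act 6 n180646 = n196494 := d7_0 F400829 (iv6 F365184) F281181
theorem F400834 : act 7 n110958 = n196494 := d8_0 F400829 (iv7 F330848) F342047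
theorem F400835 : act 7 n144308 = n196391 := d13_2 F400834 F400831 F400560
theorem F400836 : act 2 n196391 = n144309 := d15_3 F400568 F400565 F400835
theorem F400837 : act 2 n144308 = n196392 := d15_3 F400566 F400561 (iv7 F400835)
theorem F400838 : act 2 n110959 = n196494 := d2_3 F400831 F400837 (iv5 F400567)
theorem F400839 : act 7 n196392 = n144309 := d4_2 (iv7 F400835) F400837 (iv2 F400836)
def n196495 : Q := act 1 n107036
theorem D196495 : act 1 n107036 = n196495 := rfl
theorem F400840 : act 7 n196495 = n110959 := d15_2 (iv0 D196494) D196495 F400838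
theorem F400841 : act 5 n196495 = n144309 := d17_7 (iv1 F245990) F358659 (iv1 F338233) F246021 F111874 (iv5 F164974) D196495 F400568 F400563
theorem F400842 : act 4 n196495 = n164560 := d18_7 D79033 (iv4 F234128) (iv1 F234131) (iv4 F128243) (iv5 F322707) F338241 D196495 (iv0 D164560) (iv5 D79035)
theorem F400843 : act 2 n110958 = n196495 := d1_3 F400842 (iv2 F342063) (iv4 F342046)
theorem F400844 : act 0 n110957 = n196495 := d18_2 (iv1 F322703) (iv4 F333003) F400842 F342065 (iv4 F282516) F348719 (iv4 D178853) (iv0 D85265) F322714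
def n196496 : Q := act 2 n107036
theorem D196496 : act 2 n107036 = n196496 := rfl
theorem F400845 : act 4 n196496 = n152630 := d1_2 F338241 D196496 (iv2 F322705)
theorem F400846 : act 5 n196496 = n110944 := d2_2 (iv5 F164974) D196496 (iv2 F171996)
theorem F400847 : act 7 n196496 = n110957 := d4_2 (iv7 F164975) D196496 F172005
theorem F400848 : act 1 n196496 = n110958 := d15_0 (iv0 D110958) (iv7 F164975) D196496
theorem F400849 : act 1 n110959 = n196496 := d15_0 F400848 F400834 (iv2 F400838)
def n196497 : Q := act 0 n107037
theorem D196497 : act 0 n107037 = n196497 := rfl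
theorem F400850 : act 4 n196497 = n110963 := d18_3 (iv1 D107039) (iv4 F164976) D196497 (iv5 F398766) (iv4 D195934) (iv0 F163702) (iv4 F172034) F204580 F172338
theorem F400851 : act 3 n108727 = n196497 := d5_5 F400850 F364760 F172827 F81080 (iv4 F168684)
theorem F400852 : act 7 n108722 = n196497 := d11_0 F400850 (iv7 F364759) F351067
def n196498 : Q := act 1 n107037
theorem D196498 : act 1 n107037 = n196498 := rfl
theorem F400853 : act 4 n196498 = n110964 := d18_7 (iv1 F80834) F165545 (iv1 D49185) (iv4 F37908) (iv5 F78174) (iv4 F164976) D196498 F172013 (iv5 D110966)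
theorem F400854 : act 3 n111538 = n196498 := d20_3 F301653 (iv1 F300806) (iv4 F343761) (iv1 D196498) (iv3 F362030) (iv4 D177517) (iv1 D84566) (iv4 F129724) (iv3 D84561) D84559
theorem F400855 : act 4 n196486 = n159201 := d20_0 (iv1 D159201) (iv4 F250664) (iv3 D159184) (iv1 F325842) F364754 (iv4 F400853) (iv1 D196498) F164976 (iv3 F164966) D196486
theorem F400856 : act 6 n108720 = n196498 := d21_3 F356733 (iv1 F363679) (iv5 F363678) (iv1 D196498) (iv6 D107037) F78172 (iv1 F45126) D58752 (iv6 F330485) (iv1 F356732)
theorem F400857 : act 2 n196498 = n108722 := d3_1 F400856 (iv6 D108722) D108720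
theorem F400858 : act 5 n111537 = n196498 := d2_0 F400857 F351074 F360127
theorem F400859 : act 6 n180112 = n196486 := d10_0 F400855 F342101 D180112
def n196499 : Q := act 5 n107037
theorem D196499 : act 5 n107037 = n196499 := rfl
theorem F400860 : act 6 n196499 = n110966 := d12_2 D107037 D196499 (iv5 D110966) (iv6 D51164) (iv5 F78172)
theorem F400861 : act 4 n196499 = n107042 := d16_2 (iv4 F164976) D196499 (iv5 D107042) F78177 F37815 (iv4 F78177) D107042 F164980 F78355
theorem F400862 : act 7 n196499 = n107404 := d16_8 F164976 F78174 F37908 F37519 (iv4 F37908) (iv5 F78174) (iv4 F164976) D196499 F165454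
theorem F400863 : act 0 n196499 = n196498 := d17_2 (iv1 D196498) D196499 (iv5 F400858) F173059 F351077 (iv0 D51243) (iv5 F80710) D110964 (iv4 F400853)
theorem F400864 : act 1 n196499 = n196497 := d15_1 (iv0 F400863) (iv7 F400852) (iv2 F400857)
def n196500 : Q := act 7 n107037
theorem D196500 : act 7 n107037 = n196500 := rfl
theorem F400865 : act 2 n196500 = n196499 := d4_1 D196500 F400862 F165454
theorem F400866 : act 4 n196500 = n107040 := d11_1 D196500 (iv7 D107040) (iv4 F164976)
theorem F400867 : act 5 n196500 = n107404 := d13_1 D196500 (iv7 F400862) (iv5 D196499)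
theorem F400868 : act 6 n196500 = n110965 := d14_1 D196500 (iv7 D110965) (iv6 D51163) F78173 D107037
theorem F400869 : act 1 n108722 = n196500 := d15_1 (iv0 F356739) (iv7 D196500) (iv2 F165454)
theorem F400870 : act 0 n108721 = n108670 := d21_7 (iv5 D107412) F165539 (iv5 F172010) (iv6 F400868) (iv1 F400869) (iv6 D108722) D108721 (iv5 D108670) D108671 (iv1 F400617)
def n196501 : Q := act 3 n107038
theorem D196501 : act 3 n107038 = n196501 := rfl
def n196502 : Q := act 4 n107038
theorem D196502 : act 4 n107038 = n196502 := rfl
theorem F400871 : act 2 n196502 = n174150 := d1_1 D196502 F362033 F204576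
theorem F400872 : act 7 n196502 = n174151 := d11_2 (iv7 F204579) D196502 F364763
theorem F400873 : act 0 n196502 = n174154 := d18_2 D107038 D196502 F346368 F172010 F80836 F45140 (iv4 F163993) (iv0 D49604) (iv5 F78174)
theorem F400874 : act 1 n196502 = n111123 := d18_6 (iv1 F247365) F165070 F80844 D111124 F172335 D196502 (iv4 D111123) D111122 (iv5 F172332)
def n196503 : Q := act 6 n107038
theorem D196503 : act 6 n107038 = n196503 := rfl
def n196504 : Q := act 3 n107039
theorem D196504 : act 3 n107039 = n196504 := rfl
theorem F400875 : act 5 n196504 = n167687 := d6_2 F172338 D196504 F364417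
theorem F400876 : act 4 n125615 = n196504 := d20_8 (iv4 F164976) D196497 F400850 F364760 (iv1 F172829) D140689 F360011 (iv1 F360405) (iv3 D196504) (iv1 D107039)
theorem F400877 : act 6 n196504 = n125613 := d10_2 D125615 F400876 (iv4 D125613)
theorem F400878 : act 0 n196504 = n177213 := d18_2 (iv1 F360405) F400876 (iv4 F276607) F299651 (iv4 D78327) (iv0 F119522) (iv4 F326471) F326469 D176998
theorem F400879 : act 1 n196504 = n177245 := d18_6 D38994 F296364 (iv1 F122694) D79972 (iv5 F360407) F400876 F276639 (iv0 D84543) (iv5 D38997)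
def n196505 : Q := act 4 n107039
theorem D196505 : act 4 n107039 = n196505 := rfl
theorem F400880 : act 2 n196505 = n174151 := d1_1 D196505 F364763 (iv2 F204578)
theorem F400881 : act 7 n196505 = n174150 := d11_2 F204577 D196505 F362033
theorem F400882 : act 0 n196505 = n111123 := d18_2 (iv1 F164981) D196505 (iv4 D111123) (iv5 D51248) F39070 D24925 (iv4 F163988) F78348 D107042
theorem F400883 : act 1 n196505 = n174154 := d18_6 F247366 F247362 F112161 D111125 F172338 D196505 F346368 F172330 F172329
theorem F400884 : act 0 n177517 = n174895 := d20_4 (iv4 D196505) (iv1 D107039) (iv4 F164976) (iv3 F362030) (iv3 D174895) F128638 (iv1 F127708) (iv4 F128329) (iv3 F272946) (iv1 F400883)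
def n196506 : Q := act 6 n107039
theorem D196506 : act 6 n107039 = n196506 := rfl
theorem F400885 : act 3 n196506 = n125613 := d7_1 D196506 (iv6 F400877) (iv3 D196504)
def n196507 : Q := act 0 n107043
theorem D196507 : act 0 n107043 = n196507 := rfl
theorem F400886 : act 4 n196507 = n136908 := d18_3 (iv1 D135944) (iv4 F164983) D196507 (iv5 F365676) F217393 (iv0 F98852) (iv4 F323861) D64038 (iv5 F331026)
theorem F400887 : act 3 n136908 = n193333 := d20_9 F218715 (iv1 D108843) (iv4 F168835) (iv3 D108840) F79637 D63921 (iv4 F164983) D196507 F400886 F389486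
theorem F400888 : act 1 n115301 = n196507 := d15_0 (iv0 D196507) F164984 D115301
theorem F400889 : act 6 n193331 = n136908 := d7_0 F400887 (iv6 D193333) D193331
theorem F400890 : act 6 n196507 = n152345 := d10_2 F400889 (iv4 F400886) (iv4 F389481)
theorem F400891 : act 5 n115280 = n196507 := d16_1 F400266 F400886 (iv5 F365676) F217393 F98851 D106883 D196298 F400277 (iv2 F400264)
def n196508 : Q := act 1 n107043
theorem D196508 : act 1 n107043 = n196508 := rfl
theorem F400892 : act 4 n196508 = n136844 := d18_7 (iv1 D63040) F47987 (iv1 F95817) D61467 (iv5 F326702) (iv4 F164983) D196508 F365680 (iv5 D134196)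
theorem F400893 : act 0 n115301 = n196508 := d18_2 (iv1 F218677) (iv4 F179567) F400892 (iv5 F400270) (iv4 D196296) (iv0 F216879) (iv4 F331024) F204277 (iv5 F350326)
theorem F400894 : act 5 n196508 = n115281 := d17_1 F400893 (iv1 D115281) (iv5 D53184) F40759 D30189 D64038 (iv5 F331026) F218681 (iv4 F179567)
theorem F400895 : act 4 n115281 = n196298 := d9_1 F400894 (iv5 D196298) (iv4 D106883) (iv5 F98851) (iv4 F217393) F365676 (iv4 F400886) (iv5 F400891) (iv4 F400266) (iv5 D196295) (iv4 D106881) D106882 D196296 F400270 (iv4 F400892)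
def n196509 : Q := act 2 n107043
theorem D196509 : act 2 n107043 = n196509 := rfl
theorem F400896 : act 3 n196509 = n115313 := d0_2 D107043 D196509 (iv2 D115313) (iv3 D53201) (iv2 F78179)
theorem F400897 : act 4 n196509 = n135945 := d1_2 (iv4 F164983) D196509 (iv2 D135945)
theorem F400898 : act 5 n196509 = n116114 := d2_2 F179878 D196509 F364946
theorem F400899 : act 7 n196509 = n115301 := d4_2 (iv7 F164984) D196509 (iv2 D115301)
theorem F400900 : act 1 n196509 = n115299 := d15_0 (iv0 D115299) (iv7 F164984) D196509
theorem F400901 : act 1 n115300 = n196509 := d15_1 D115300 F400899 (iv2 D115301)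
def n196510 : Q := act 0 n107044
theorem D196510 : act 0 n107044 = n196510 := rfl
theorem F400902 : act 3 n196510 = n115804 := d20_5 (iv4 D52222) F79551 F79550 D107044 D196510 (iv4 D115804) (iv1 D53401) (iv4 F84041) (iv3 D53201) (iv1 F82577)
theorem F400903 : act 1 n115330 = n196510 := d15_0 (iv0 D196510) F164986 D115330
theorem F400904 : act 7 n115328 = n196510 := d8_0 F400902 F180193 (iv3 F179621)
def n196511 : Q := act 1 n107044
theorem D196511 : act 1 n107044 = n196511 := rfl
def n196512 : Q := act 2 n107044
theorem D196512 : act 2 n107044 = n196512 := rfl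
theorem F400905 : act 3 n196512 = n115322 := d0_2 D107044 D196512 (iv2 D115322) (iv3 D53204) F78183
theorem F400906 : act 4 n196512 = n115750 := d1_2 (iv4 F164985) D196512 (iv2 D115750)
theorem F400907 : act 5 n196512 = n193894 := d2_2 F179772 D196512 (iv2 F391311)
theorem F400908 : act 7 n196512 = n115330 := d4_2 (iv7 F164986) D196512 (iv2 D115330)
theorem F400909 : act 1 n196512 = n115328 := d15_0 (iv0 D115328) (iv7 F164986) D196512
theorem F400910 : act 1 n196511 = n115330 := d15_1 D196511 (iv7 F400908) (iv2 D196512)
theorem F400911 : act 2 n115328 = n196511 := d15_3 F400910 F400903 (iv7 F400904)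
theorem F400912 : act 6 n196511 = n152813 := d3_2 (iv6 F322283) F400911 (iv2 D152813)
theorem F400913 : act 7 n115329 = n196511 := d15_2 (iv0 D115328) D115329 (iv2 F400911)
theorem F400914 : act 2 n196510 = n115329 := d4_3 F400913 (iv2 F400911) F400904
theorem F400915 : act 1 n115329 = n196512 := d15_0 F400909 F400904 F400914
theorem F400916 : act 6 n177978 = n196512 := d10_0 F400906 F345323 (iv4 F277529)
def n196513 : Q := act 6 n107044
theorem D196513 : act 6 n107044 = n196513 := rfl
theorem F400917 : act 2 n196513 = n177978 := d3_1 D196513 F400916 (iv2 D196512)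
theorem F400918 : act 3 n196513 = n107045 := d7_1 D196513 (iv6 D107045) D107044
theorem F400919 : act 4 n196513 = n115751 := d10_1 D196513 (iv6 D115751) (iv4 F164985)
theorem F400920 : act 7 n196513 = n177965 := d14_2 (iv7 F164986) D196513 F351214 F245257 (iv6 D115332)
theorem F400921 : act 5 n177766 = n196513 := d13_3 F400920 (iv5 D177965) (iv7 F277229)
def n196514 : Q := act 5 n107045
theorem D196514 : act 5 n107045 = n196514 := rfl
theorem F400922 : act 2 n196514 = n115326 := d2_1 D196514 (iv5 D115326) (iv2 F164987)
theorem F400923 : act 3 n196514 = n177766 := d6_1 D196514 F400921 F400918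
theorem F400924 : act 7 n196514 = n156125 := d13_2 F245260 D196514 F245336
theorem F400925 : act 0 n196514 = n156127 := d17_2 F169650 D196514 F245337 F111151 (iv5 F81358) (iv0 D25097) (iv5 F24221) D30723 D65550
theorem F400926 : act 1 n196514 = n155995 := d17_6 F175782 (iv5 F82843) F93026 (iv5 F168651) F168650 D196514 (iv5 D155995) D155994 F245065
def n196515 : Q := act 4 n107046
theorem D196515 : act 4 n107046 = n196515 := rfl
theorem F400927 : act 2 n196515 = n107446 := d1_1 D196515 F165766 (iv2 F180677)
theorem F400928 : act 3 n196515 = n145367 := d5_1 D196515 F228409 F223165 (iv4 F330601) F330600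
theorem F400929 : act 7 n196515 = n115395 := d11_2 (iv7 F180678) D196515 (iv4 D115395)
theorem F400930 : act 1 n196515 = n145348 := d18_8 D195927 F398747 (iv1 F165274) (iv4 F163627) F163628 (iv4 F84086) F164988 D196515 F228395
theorem F400931 : act 1 n145359 = n196515 := d15_1 D145359 F400929 F180679
def n196516 : Q := act 6 n107046
theorem D196516 : act 6 n107046 = n196516 := rfl
theorem F400932 : act 2 n196516 = n115401 := d3_1 D196516 (iv6 D115401) (iv2 F180677)
def n196517 : Q := act 5 n107048
theorem D196517 : act 5 n107048 = n196517 := rfl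
theorem F400933 : act 2 n196517 = n107049 := d2_1 D196517 (iv5 D107049) D107048
theorem F400934 : act 3 n196517 = n115346 := d6_1 D196517 (iv5 D115346) (iv3 F164991)
theorem F400935 : act 7 n196517 = n115402 := d13_2 (iv7 F164993) D196517 (iv5 D115402)
theorem F400936 : act 1 n196517 = n115404 := d17_6 D106423 F172093 (iv1 F102877) F78311 (iv4 F164992) D196517 F359951 (iv0 D53280) (iv4 F77663)
theorem F400937 : act 1 n115405 = n196517 := d15_1 D115405 F400935 F179705
def n196518 : Q := act 6 n107048
theorem D196518 : act 6 n107048 = n196518 := rfl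
theorem F400938 : act 2 n196518 = n107050 := d3_1 D196518 (iv6 D107050) D107048
theorem F400939 : act 3 n196518 = n115347 := d7_1 D196518 (iv6 D115347) (iv3 F164991)
theorem F400940 : act 4 n196518 = n107087 := d10_1 D196518 (iv6 D107087) (iv4 F164992)
def n196519 : Q := act 0 n107049
theorem D196519 : act 0 n107049 = n196519 := rfl
theorem F400941 : act 3 n196519 = n155982 := d20_5 F80331 (iv1 F82205) F82202 (iv3 F164996) D196519 F245028 F207641 (iv4 F330578) (iv3 D115287) (iv1 D53187)
theorem F400942 : act 1 n115402 = n196519 := d15_0 (iv0 D196519) F164997 (iv2 F179705)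
theorem F400943 : act 5 n196519 = n107175 := d17_7 D49522 (iv5 F172110) (iv1 F163630) F163628 (iv4 F84086) D115402 F400942 (iv0 D107175) F78273
theorem F400944 : act 2 n115405 = n196519 := d2_3 F400943 (iv2 F165340) (iv5 F179708)
theorem F400945 : act 7 n115404 = n196519 := d13_0 F400943 F165341 (iv5 F359951)
theorem F400946 : act 4 n196519 = n156309 := d19_2 D107175 (iv5 F400943) F245631 (iv1 F222784) F331023 (iv4 D115282) F84000 D53186 F84003 (iv4 D28224) F22615 D13480 F22624 F19106 (iv3 F19638) (iv1 F19662) F19040 D24169 D49516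
theorem F400947 : act 6 n155981 = n196519 := d10_0 F400946 (iv6 D156309) (iv4 F245024)
def n196520 : Q := act 1 n107049
theorem D196520 : act 1 n107049 = n196520 := rfl
theorem F400948 : act 1 n196520 = n115402 := d15_1 D196520 (iv7 F400935) F400933
theorem F400949 : act 7 n196520 = n115405 := d15_2 (iv0 D196519) D196520 F400944
theorem F400950 : act 5 n196520 = n107176 := d17_7 (iv1 F163678) (iv5 F172113) (iv1 D49551) F37899 (iv4 F78186) D107049 D196520 (iv0 F165173) (iv4 F163673)
theorem F400951 : act 2 n115404 = n196520 := d2_3 F400950 F165339 (iv5 F359951)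
theorem F400952 : act 3 n116574 = n196520 := d6_3 F400950 F165172 D116574
theorem F400953 : act 4 n195900 = n196520 := d16_4 F398747 F347204 (iv4 F163637) D195900 F400950 (iv4 F165171) (iv5 F172163) F172164 F398748
theorem F400954 : act 0 n156080 = n115403 := d21_4 F111471 (iv1 F245053) F245374 D156080 (iv6 D115403) D115402 (iv1 F400948) F400950 (iv6 F351547) (iv1 D155991)
theorem F400955 : act 1 n156080 = n115411 := d15_1 (iv0 F400954) (iv7 D115411) (iv2 F179706)
def n196521 : Q := act 4 n107049
theorem D196521 : act 4 n107049 = n196521 := rfl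
theorem F400956 : act 7 n196521 = n115406 := d11_2 (iv7 F164997) D196521 (iv4 D115406)
theorem F400957 : act 6 n178101 = n196521 := d14_5 F400956 F351863 (iv7 F400525) F400524 F303666
def n196522 : Q := act 6 n107049
theorem D196522 : act 6 n107049 = n196522 := rfl
theorem F400958 : act 3 n196522 = n107052 := d7_1 D196522 (iv6 D107052) (iv3 F164996)
theorem F400959 : act 4 n196522 = n178101 := d10_1 D196522 F400957 (iv4 D196521)
theorem F400960 : act 0 n196522 = n196513 := d21_10 (iv5 F400921) (iv1 F303658) F356035 (iv6 D152782) D152778 F366404 (iv5 F182525) (iv1 D107047) D107049 D196522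
theorem F400961 : act 5 n177925 = n196522 := d17_1 (iv1 F277492) F400960 (iv5 F400921) (iv4 D177766) (iv5 F129832) (iv0 F301820) F301822 F129934 D84712
def n196523 : Q := act 0 n107050
theorem D196523 : act 0 n107050 = n196523 := rfl
def n196524 : Q := act 1 n107050
theorem D196524 : act 1 n107050 = n196524 := rfl
theorem F400962 : act 3 n128363 = n196524 := d20_3 D72116 (iv1 F162642) D128363 (iv1 D196524) F164998 F78191 F111216 D30806 F322253 D33297
theorem F400963 : act 4 n128365 = n196524 := d20_6 F111251 (iv1 F39047) (iv4 F78406) F320598 (iv1 F94876) D128365 (iv1 D196524) F164999 F78218 D49468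
theorem F400964 : act 7 n196524 = n152791 := d8_2 (iv7 F206486) F400962 (iv3 D152791)
theorem F400965 : act 2 n152791 = n196523 := d15_3 (iv0 D196523) D196524 F400964
def n196525 : Q := act 5 n107050
theorem D196525 : act 5 n107050 = n196525 := rfl
theorem F400966 : act 3 n196525 = n107054 := d6_1 D196525 (iv5 D107054) (iv3 F164998)
theorem F400967 : act 6 n196525 = n177925 := d12_2 D107050 D196525 F400961 (iv6 D196522) (iv5 D107049)
def n196526 : Q := act 7 n107050
theorem D196526 : act 7 n107050 = n196526 := rfl
theorem F400968 : act 3 n196526 = n107055 := d8_1 D196526 (iv7 D107055) (iv3 F164998)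
theorem F400969 : act 4 n196526 = n107091 := d11_1 D196526 (iv7 D107091) (iv4 F164999)
theorem F400970 : act 6 n196526 = n115411 := d14_1 D196526 (iv7 D115411) (iv6 D53240) (iv7 F78187) D107050
theorem F400971 : act 0 n152791 = n196526 := d20_4 (iv4 F323309) F323306 F162621 D152791 F400968 F165013 (iv1 F78197) D53227 F321635 (iv1 F108350)
def n196527 : Q := act 3 n107051
theorem D196527 : act 3 n107051 = n196527 := rfl
theorem F400972 : act 4 n196527 = n160307 := d5_2 (iv4 F165001) D196527 (iv3 F390555) F390556 F165996
theorem F400973 : act 5 n196527 = n107173 := d6_2 (iv5 F165000) D196527 (iv3 D107173)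
theorem F400974 : act 7 n196527 = n115358 := d8_2 (iv7 F165004) D196527 (iv3 D115358)
def n196528 : Q := act 6 n107051
theorem D196528 : act 6 n107051 = n196528 := rfl
theorem F400975 : act 2 n196528 = n115357 := d3_1 D196528 (iv6 D115357) F165002
theorem F400976 : act 4 n196528 = n107595 := d10_1 D196528 (iv6 D107595) (iv4 F165001)
theorem F400977 : act 5 n156114 = n196528 := d21_8 F80338 (iv1 F49635) (iv5 F84108) D115470 F354573 F188676 (iv5 F320582) (iv1 F245314) (iv6 D196528) (iv1 F165003)
def n196529 : Q := act 0 n107052
theorem D196529 : act 0 n107052 = n196529 := rfl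
def n196530 : Q := act 1 n107052
theorem D196530 : act 1 n107052 = n196530 := rfl
theorem F400978 : act 1 n196530 = n115363 := d15_1 D196530 (iv7 D115363) (iv2 F165005)
def n196531 : Q := act 5 n107052
theorem D196531 : act 5 n107052 = n196531 := rfl
theorem F400979 : act 2 n196531 = n115362 := d2_1 D196531 (iv5 D115362) (iv2 F165005)
theorem F400980 : act 3 n196531 = n177925 := d6_1 D196531 F400961 F400958
theorem F400981 : act 6 n196531 = n107054 := d12_2 D107052 D196531 (iv5 D107054) (iv6 D49453) D49452
def n196532 : Q := act 7 n107052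
theorem D196532 : act 7 n107052 = n196532 := rfl
theorem F400982 : act 2 n196532 = n115363 := d4_1 D196532 (iv7 D115363) (iv2 F165005)
theorem F400983 : act 6 n196532 = n115415 := d14_1 D196532 (iv7 D115415) (iv6 D53241) (iv7 F78189) D107052
theorem F400984 : act 1 n115363 = n196529 := d15_0 (iv0 D196529) D196532 F400982
theorem F400985 : act 1 n115361 = n196532 := d15_1 D115361 (iv7 D196532) F165005
theorem F400986 : act 4 n126730 = n196529 := d20_0 (iv1 F400984) F179640 (iv3 F349402) (iv1 F349404) F318610 F103656 (iv1 F93847) D126710 (iv3 F362473) F365198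
theorem F400987 : act 6 n196529 = n126728 := d10_2 D126730 F400986 (iv4 D126728)
theorem F400988 : act 1 n196532 = n115360 := d15_0 (iv0 D115360) D115363 (iv2 F400982)
def n196533 : Q := act 3 n107053
theorem D196533 : act 3 n107053 = n196533 := rfl
theorem F400989 : act 4 n196533 = n115786 := d5_2 F168668 D196533 (iv3 D115786) (iv4 F111368) D108715
theorem F400990 : act 6 n196533 = n137640 := d7_2 F167027 D196533 (iv3 D137640)
theorem F400991 : act 7 n196533 = n115366 := d8_2 F165007 D196533 (iv3 D115366)
theorem F400992 : act 0 n196533 = n152329 := d20_4 F176281 F168669 F168668 D196533 (iv3 D152329) (iv4 D71868) (iv1 F52441) (iv4 F52536) (iv3 F321635) F176282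
theorem F400993 : act 2 n196533 = n152811 := d15_3 (iv0 D152811) (iv0 F366268) (iv7 F400991)
theorem F400994 : act 0 n152813 = n196533 := d20_1 F386748 F400989 (iv3 D115786) F329685 (iv3 D46769) (iv4 D22420) D22418 D46761 D100193 D192454
def n196534 : Q := act 4 n107054
theorem D196534 : act 4 n107054 = n196534 := rfl
theorem F400995 : act 2 n196534 = n115371 := d1_1 D196534 (iv4 D115371) (iv2 F165011)
def n196535 : Q := act 7 n107054
theorem D196535 : act 7 n107054 = n196535 := rfl
theorem F400996 : act 2 n196535 = n115372 := d4_1 D196535 (iv7 D115372) (iv2 F165011)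
theorem F400997 : act 5 n196535 = n107055 := d13_1 D196535 (iv7 D107055) D107054
theorem F400998 : act 1 n115370 = n196535 := d15_1 D115370 (iv7 D196535) F165011
theorem F400999 : act 1 n196535 = n115369 := d15_1 F400998 (iv7 F245409) F245408
def n196536 : Q := act 6 n107058
theorem D196536 : act 6 n107058 = n196536 := rfl
theorem F401000 : act 2 n196536 = n107059 := d3_1 D196536 (iv6 D107059) D107058
theorem F401001 : act 3 n196536 = n145350 := d7_1 D196536 (iv6 D145350) (iv3 F165018)
theorem F401002 : act 4 n196536 = n174603 := d10_1 D196536 F346549 F346547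
theorem F401003 : act 7 n196536 = n174600 := d14_2 (iv7 F165020) D196536 (iv6 D174600) (iv7 F199345) F330948
def n196537 : Q := act 0 n107059
theorem D196537 : act 0 n107059 = n196537 := rfl
def n196538 : Q := act 1 n107059
theorem D196538 : act 1 n107059 = n196538 := rfl
theorem F401004 : act 1 n196538 = n174600 := d15_1 D196538 (iv7 F401003) F401000
theorem F401005 : act 4 n196538 = n174525 := d18_7 D162537 F354964 (iv1 F336066) (iv4 F336059) (iv5 F346556) F219920 D196538 (iv0 D174525) F298302
theorem F401006 : act 6 n192409 = n196538 := d21_3 F400232 (iv1 D192408) D192409 (iv1 D196538) (iv6 D107059) F78206 D68145 F228319 D106436 D195924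
theorem F401007 : act 5 n196538 = n188995 := d12_1 F401006 (iv6 D188995) F292001 D100160 D192409
def n196539 : Q := act 5 n107059
theorem D196539 : act 5 n107059 = n196539 := rfl
theorem F401008 : act 3 n196539 = n107062 := d6_1 D196539 (iv5 D107062) (iv3 F165024)
theorem F401009 : act 6 n196539 = n145353 := d12_2 D107059 D196539 (iv5 D145353) (iv6 D68148) (iv5 F78206)
def n196540 : Q := act 7 n107059
theorem D196540 : act 7 n107059 = n196540 := rfl
theorem F401010 : act 2 n196540 = n174600 := d4_1 D196540 (iv7 F401003) F401000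
theorem F401011 : act 3 n196540 = n107063 := d8_1 D196540 (iv7 D107063) (iv3 F165024)
theorem F401012 : act 4 n196540 = n170734 := d11_1 D196540 F346554 F219920
theorem F401013 : act 6 n196540 = n145339 := d14_1 D196540 (iv7 D145339) (iv6 D68142) (iv7 F78207) D107059
theorem F401014 : act 1 n174600 = n196537 := d15_0 (iv0 D196537) D196540 F401010
theorem F401015 : act 4 n196537 = n174526 := d18_7 (iv1 F344835) (iv4 D132811) (iv1 F336061) (iv4 F298185) F249568 (iv4 F273456) F401014 F366950 F256825
def n196541 : Q := act 3 n107060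
theorem D196541 : act 3 n107060 = n196541 := rfl
theorem F401016 : act 4 n196541 = n144066 := d5_2 (iv4 F165030) D196541 (iv3 D144066) (iv4 D67499) (iv3 F168087)
theorem F401017 : act 7 n196541 = n145325 := d8_2 (iv7 F165031) D196541 (iv3 D145325)
def n196542 : Q := act 5 n107060
theorem D196542 : act 5 n107060 = n196542 := rfl
theorem F401018 : act 2 n196542 = n144406 := d2_1 D196542 (iv5 D144406) F165029
theorem F401019 : act 7 n196542 = n145326 := d13_2 (iv7 F165031) D196542 (iv5 D145326)
def n196543 : Q := act 3 n107061
theorem D196543 : act 3 n107061 = n196543 := rfl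
theorem F401020 : act 4 n196543 = n109674 := d5_2 (iv4 F165026) D196543 (iv3 D109674) F79944 (iv3 F100157)
theorem F401021 : act 7 n196543 = n139716 := d8_2 F165028 D196543 F222889
theorem F401022 : act 2 n196543 = n145370 := d15_3 F357270 (iv0 F361889) (iv7 F401021)
theorem F401023 : act 0 n145372 = n196543 := d18_2 D103708 F341051 F401020 (iv5 F342460) F314955 F147272 F340929 (iv0 D48028) D48030
theorem F401024 : act 1 n107449 = n196543 := d18_6 F324925 D156826 (iv1 F366429) F267881 F159155 F336842 F401020 F342462 (iv5 F228589)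
theorem F401025 : act 0 n194526 = n145317 := d20_4 (iv4 F336842) (iv1 D103709) D103710 D194526 F228356 F104293 (iv1 F78369) (iv4 F165026) D196543 (iv1 F401024)
def n196544 : Q := act 5 n107061
theorem D196544 : act 5 n107061 = n196544 := rfl
theorem F401026 : act 2 n196544 = n145326 := d2_1 D196544 (iv5 D145326) F165027
theorem F401027 : act 7 n196544 = n144406 := d13_2 F165028 D196544 (iv5 D144406)
def n196545 : Q := act 0 n107062
theorem D196545 : act 0 n107062 = n196545 := rfl
theorem F401028 : act 5 n196545 = n110942 := d17_3 (iv1 D107061) D107062 D196545 F171988 F80703 (iv0 D28382) (iv5 F37917) D49623 (iv4 F165026)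
theorem F401029 : act 6 n188880 = n145326 := d21_5 F401028 (iv1 F171990) F375140 (iv6 D188882) D188880 (iv5 D145326) F104294 D68150 (iv6 F165034) D196545
theorem F401030 : act 2 n145355 = n196545 := d15_3 (iv0 D196545) F165035 F228400
theorem F401031 : act 7 n196545 = n110941 := d4_2 F228400 F401030 F171985
theorem F401032 : act 1 n145357 = n196545 := d15_1 F228402 F401031 F171985
theorem F401033 : act 3 n194579 = n196545 := d6_3 F401028 F362346 D194579
def n196546 : Q := act 4 n107062
theorem D196546 : act 4 n107062 = n196546 := rfl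
theorem F401034 : act 2 n196546 = n145356 := d1_1 D196546 (iv4 D145356) (iv2 F165033)
theorem F401035 : act 6 n196546 = n145356 := d10_2 (iv6 F165034) D196546 (iv4 D145356)
theorem F401036 : act 1 n196546 = n196436 := d18_6 (iv1 F165726) F104292 (iv1 D49459) (iv4 F78209) D107062 D196546 (iv4 D196436) D196435 F400668
def n196547 : Q := act 7 n107062
theorem D196547 : act 7 n107062 = n196547 := rfl
theorem F401037 : act 2 n196547 = n145357 := d4_1 D196547 (iv7 D145357) (iv2 F165033)
theorem F401038 : act 5 n196547 = n107063 := d13_1 D196547 (iv7 D107063) D107062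
theorem F401039 : act 1 n110941 = n196547 := d15_1 (iv0 F171986) (iv7 D196547) F165033
theorem F401040 : act 1 n196547 = n145355 := d15_1 F401039 (iv7 F228400) (iv2 F171985)
def n196548 : Q := act 4 n107071
theorem D196548 : act 4 n107071 = n196548 := rfl
theorem F401041 : act 2 n196548 = n140489 := d1_1 D196548 F223655 (iv2 F359116)
theorem F401042 : act 7 n196548 = n140555 := d11_2 (iv7 F359117) D196548 F223696
theorem F401043 : act 0 n196548 = n140557 := d20_1 D196548 F223697 (iv3 D107141) (iv1 D49498) (iv3 D24162) (iv4 D11349) (iv1 F18512) D24142 D49461 D107071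
theorem F401044 : act 0 n115765 = n196548 := d20_10 (iv4 D196548) (iv1 F165045) (iv4 F180054) F180053 (iv1 F180087) (iv3 F180221) F322260 (iv1 F321954) F84229 D115765
theorem F401045 : act 6 n154685 = n196548 := d3_0 F401041 (iv6 F371649) (iv2 F399021)
def n196549 : Q := act 6 n107071
theorem D196549 : act 6 n107071 = n196549 := rfl
theorem F401046 : act 2 n196549 = n145349 := d3_1 D196549 (iv6 D145349) (iv2 F359116)
theorem F401047 : act 4 n196549 = n154685 := d10_1 D196549 F401045 (iv4 D196548)
theorem F401048 : act 7 n196549 = n187817 := d14_2 (iv7 F359117) D196549 (iv6 F388189) F388179 (iv6 D145346)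
theorem F401049 : act 5 n187517 = n196549 := d21_8 (iv5 F165019) (iv1 F165023) (iv5 F336114) D107323 F386491 (iv6 F227012) (iv5 F400396) (iv1 F400398) (iv6 D196549) (iv1 F165045)
theorem F401050 : act 1 n196549 = n107104 := d17_6 (iv1 F138887) F65527 (iv1 F65150) D90295 D187517 F401049 (iv5 F349170) (iv0 D114482) (iv4 D52843)
def n196550 : Q := act 3 n107072
theorem D196550 : act 3 n107072 = n196550 := rfl
theorem F401051 : act 2 n196550 = n145359 := d0_1 D196550 (iv3 F228403) F359142 (iv3 D145345) (iv2 F359120)
theorem F401052 : act 5 n196550 = n107378 := d6_2 (iv5 F223614) D196550 (iv3 D107378)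
theorem F401053 : act 7 n196550 = n145348 := d8_2 (iv7 F359121) D196550 (iv3 D145348)
theorem F401054 : act 0 n107446 = n196550 := d17_0 F401052 F397060 F397059 F165400 (iv5 F359951) (iv0 D115404) (iv5 D53239) D53237 (iv4 F165766)
theorem F401055 : act 1 n115395 = n196550 := d18_8 F397060 (iv4 D195460) (iv1 F165278) F165276 F78311 (iv4 F164992) F164994 D115395 F401052
def n196551 : Q := act 4 n107072
theorem D196551 : act 4 n107072 = n196551 := rfl
theorem F401056 : act 2 n196551 = n140555 := d1_1 D196551 F223696 (iv2 F359120)
theorem F401057 : act 7 n196551 = n140489 := d11_2 (iv7 F359121) D196551 F223655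
theorem F401058 : act 0 n196551 = n115765 := d18_2 (iv1 F165051) D196551 F180134 D145474 (iv4 F343455) (iv0 F343457) (iv4 D145333) F165023 F165019
theorem F401059 : act 1 n196551 = n140557 := d18_6 (iv1 F225608) (iv4 F351324) (iv1 F354334) (iv4 D107379) (iv5 F223614) D196551 F223697 F228316 F228312
theorem F401060 : act 3 n196551 = n115748 := d20_3 F180054 (iv1 F165051) D196551 (iv1 F180099) (iv3 F180114) (iv4 F182837) (iv1 F182841) (iv4 F223609) (iv3 D140428) (iv1 F180056)
def n196552 : Q := act 6 n107073
theorem D196552 : act 6 n107073 = n196552 := rfl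
theorem F401061 : act 2 n196552 = n107074 := d3_1 D196552 (iv6 D107074) D107073
theorem F401062 : act 3 n196552 = n124633 := d7_1 D196552 F330948 (iv3 F165046)
theorem F401063 : act 4 n196552 = n140437 := d10_1 D196552 (iv6 D140437) (iv4 F165047)
theorem F401064 : act 7 n174599 = n196552 := d8_0 F401062 F199345 D174599
def n196553 : Q := act 0 n107074
theorem D196553 : act 0 n107074 = n196553 := rfl
theorem F401065 : act 1 n174599 = n196553 := d15_0 (iv0 D196553) (iv7 F400649) F400646
def n196554 : Q := act 1 n107074
theorem D196554 : act 1 n107074 = n196554 := rfl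
theorem F401066 : act 1 n196554 = n174599 := d15_1 D196554 F401064 F401061
def n196555 : Q := act 5 n107074
theorem D196555 : act 5 n107074 = n196555 := rfl
theorem F401067 : act 3 n196555 = n107076 := d6_1 D196555 (iv5 D107076) (iv3 F165053)
theorem F401068 : act 6 n196555 = n145338 := d12_2 D107074 D196555 (iv5 D145338) (iv6 D68142) (iv5 F78212)
theorem F401069 : act 4 n174620 = n196555 := d10_3 F401068 F330951 D174620
def n196556 : Q := act 3 n107075
theorem D196556 : act 3 n107075 = n196556 := rfl
theorem F401070 : act 4 n196556 = n144103 := d5_2 (iv4 F165057) D196556 (iv3 D144103) (iv4 D67518) F78390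
theorem F401071 : act 6 n196556 = n194456 := d7_2 F171957 D196556 F393288
theorem F401072 : act 7 n196556 = n125478 := d8_2 (iv7 F165056) D196556 F201793
theorem F401073 : act 2 n194546 = n196556 := d3_3 F401071 F393287 D194546
def n196557 : Q := act 5 n107075
theorem D196557 : act 5 n107075 = n196557 := rfl
theorem F401074 : act 2 n196557 = n144490 := d2_1 D196557 (iv5 D144490) F165058
theorem F401075 : act 7 n196557 = n125479 := d13_2 (iv7 F165056) D196557 (iv5 D125479)
def n196558 : Q := act 0 n107076
theorem D196558 : act 0 n107076 = n196558 := rfl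
theorem F401076 : act 5 n196558 = n129794 := d17_3 (iv1 D107075) D107076 D196558 (iv4 D129794) (iv5 D60960) F100247 (iv5 F37925) D49628 (iv4 F165057)
theorem F401077 : act 1 n145343 = n196558 := d15_0 (iv0 D196558) (iv7 F400651) F400650
theorem F401078 : act 2 n145340 = n196558 := d2_3 F401076 (iv2 F211445) (iv5 F228384)
theorem F401079 : act 7 n145341 = n196558 := d13_0 F401076 F208145 F228385
def n196559 : Q := act 1 n107076
theorem D196559 : act 1 n107076 = n196559 := rfl
theorem F401080 : act 1 n196559 = n145343 := d15_1 D196559 (iv7 D145343) (iv2 F165059)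
theorem F401081 : act 7 n196559 = n145340 := d15_2 (iv0 D196558) D196559 F401078
theorem F401082 : act 5 n196559 = n107393 := d17_7 F245359 F163703 (iv1 D49359) (iv5 F37850) (iv4 F78215) D107076 D196559 F227010 (iv4 F245356)
theorem F401083 : act 2 n145341 = n196559 := d2_3 F401082 (iv2 F165445) F228385
def n196560 : Q := act 4 n107076
theorem D196560 : act 4 n107076 = n196560 := rfl
theorem F401084 : act 2 n196560 = n145342 := d1_1 D196560 (iv4 D145342) (iv2 F165059)
theorem F401085 : act 6 n196560 = n145342 := d10_2 (iv6 F165060) D196560 (iv4 D145342)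
theorem F401086 : act 5 n196560 = n129641 := d16_1 D196560 (iv4 F362876) F211526 F96557 (iv5 F82121) (iv4 F104299) (iv5 F228386) (iv7 D145343) (iv2 F165059)
theorem F401087 : act 3 n129642 = n196560 := d6_3 F401086 F207824 D129642
def n196561 : Q := act 0 n107079
theorem D196561 : act 0 n107079 = n196561 := rfl
theorem F401088 : act 4 n196561 = n196550 := d20_2 D107079 D196561 (iv3 D196550) (iv1 D107072) (iv3 D49461) (iv4 D24142) (iv1 D11338) D11339 D24144 D49464
theorem F401089 : act 1 n107084 = n196561 := d15_0 (iv0 D196561) F182543 F182534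
def n196562 : Q := act 1 n107079
theorem D196562 : act 1 n107079 = n196562 := rfl
theorem F401090 : act 1 n196562 = n107084 := d15_1 D196562 (iv7 F182533) F182544
def n196563 : Q := act 3 n107079
theorem D196563 : act 3 n107079 = n196563 := rfl
theorem F401091 : act 0 n196563 = n139633 := d20_4 F78186 D49464 D107079 D196563 (iv3 D139633) (iv4 F180631) (iv1 F180645) D139970 F223190 (iv1 D107047)
def n196564 : Q := act 5 n107079
theorem D196564 : act 5 n107079 = n196564 := rfl
def n196565 : Q := act 6 n107079
theorem D196565 : act 6 n107079 = n196565 := rfl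
theorem F401092 : act 4 n196565 = n107081 := d10_1 D196565 (iv6 D107081) D107079
def n196566 : Q := act 0 n107081
theorem D196566 : act 0 n107081 = n196566 := rfl
theorem F401093 : act 6 n196566 = n124456 := d21_5 F77664 D59116 F166899 D107081 D196566 F325848 (iv1 F325845) D160373 F345397 (iv1 D106424)
theorem F401094 : act 3 n140697 = n196566 := d7_3 F401093 F325847 D140697
theorem F401095 : act 5 n140709 = n196566 := d12_5 F401093 F325848 F101697 D66021 D140709
def n196567 : Q := act 5 n107081
theorem D196567 : act 5 n107081 = n196567 := rfl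
theorem F401096 : act 2 n196567 = n111758 := d2_1 D196567 F363569 (iv2 F182552)
theorem F401097 : act 0 n110909 = n196567 := d21_10 (iv5 D196567) D196566 (iv5 F401095) (iv6 D140709) F343747 (iv6 D51483) (iv5 D25019) (iv1 F39174) (iv5 F80668) D110909
theorem F401098 : act 7 n111759 = n196567 := d15_2 (iv0 D111758) D111759 F401096
theorem F401099 : act 4 n196567 = n123856 := d11_1 F401098 F362802 F363105
theorem F401100 : act 4 n134014 = n111758 := d1_2 F401099 F362804 (iv2 F401096)
def n196568 : Q := act 7 n107081
theorem D196568 : act 7 n107081 = n196568 := rfl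
theorem F401101 : act 5 n196568 = n111759 := d13_1 D196568 F401098 (iv5 D196567)
def n196569 : Q := act 3 n107084
theorem D196569 : act 3 n107084 = n196569 := rfl
theorem F401102 : act 4 n196569 = n129528 := d5_2 D107084 D196569 (iv3 F350867) (iv4 F343453) (iv3 D107083)
theorem F401103 : act 7 n196569 = n126684 := d8_2 F182533 D196569 F203868
theorem F401104 : act 0 n196569 = n126686 := d20_4 F84086 (iv1 F82137) D107084 D196569 (iv3 F330605) (iv4 F330570) (iv1 F222574) (iv4 F330601) F330600 (iv1 F164988)
theorem F401105 : act 0 n108822 = n196569 := d20_4 (iv4 F79550) F79549 D50247 D108822 (iv3 D196569) (iv4 D107084) (iv1 D49465) (iv4 F78186) (iv3 D49451) D49450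
theorem F401106 : act 5 n196569 = n192400 := d17_1 F401105 F386646 F359765 D115584 F347030 F347026 (iv5 F220092) (iv0 D126629) (iv4 F168785)
theorem F401107 : act 2 n126685 = n196569 := d2_3 F401106 F386651 F359763
def n196570 : Q := act 5 n107084
theorem D196570 : act 5 n107084 = n196570 := rfl
theorem F401108 : act 3 n196570 = n192400 := d6_1 D196570 (iv5 F401106) (iv3 D196569)
theorem F401109 : act 4 n192406 = n196570 := d5_0 F401108 F386645 F154081 (iv4 F154092) (iv3 F386659)
theorem F401110 : act 6 n192398 = n196570 := d7_0 F401108 (iv6 D192400) D192398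
def n196571 : Q := act 6 n107084
theorem D196571 : act 6 n107084 = n196571 := rfl
theorem F401111 : act 4 n196571 = n107086 := d10_1 D196571 (iv6 D107086) D107084
def n196572 : Q := act 1 n107086
theorem D196572 : act 1 n107086 = n196572 := rfl
def n196573 : Q := act 5 n107086
theorem D196573 : act 5 n107086 = n196573 := rfl
theorem F401112 : act 3 n196573 = n162671 := d6_1 D196573 F302245 (iv3 F362961)
def n196574 : Q := act 4 n107089
theorem D196574 : act 4 n107089 = n196574 := rfl
theorem F401113 : act 6 n196574 = n124457 := d10_2 (iv6 F345409) D196574 (iv4 D124457)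
def n196575 : Q := act 5 n107092
theorem D196575 : act 5 n107092 = n196575 := rfl
theorem F401114 : act 3 n196575 = n107093 := d6_1 D196575 (iv5 D107093) D107092
theorem F401115 : act 6 n114355 = n196575 := d7_0 F401114 F339925 D114355
theorem F401116 : act 0 n154778 = n196575 := d20_4 (iv4 D128042) F94710 D73395 D154778 F401114 F339924 D114357 F339945 F319665 (iv1 F206047)
theorem F401117 : act 2 n196575 = n192753 := d3_1 F401115 (iv6 D192753) (iv2 F365261)
theorem F401118 : act 5 n192753 = n153742 := d2_2 D196575 F401117 F385263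
def n196576 : Q := act 5 n107094
theorem D196576 : act 5 n107094 = n196576 := rfl
theorem F401119 : act 2 n196576 = n184111 := d2_1 D196576 (iv5 F385036) (iv2 F385038)
theorem F401120 : act 3 n196576 = n107095 := d6_1 D196576 (iv5 D107095) D107094
theorem F401121 : act 7 n196576 = n184110 := d13_2 F165779 D196576 (iv5 F362355)
theorem F401122 : act 4 n196576 = n193036 := d16_2 (iv4 F165068) D196576 (iv5 D193036) (iv4 F285841) (iv5 F285838) (iv4 F343898) F343899 (iv7 F364425) (iv2 D139563)
theorem F401123 : act 0 n196576 = n184112 := d17_2 F385029 D196576 (iv5 F375582) (iv4 D189046) (iv5 D93078) D93075 (iv5 F357587) F357578 D191965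
theorem F401124 : act 0 n184114 = n196576 := d19_0 (iv5 D196576) F165068 (iv3 D65488) (iv1 D30698) D30699 D65493 (iv3 F329535) (iv1 F134959) D87991 D184508 F363652 (iv1 D90621) (iv5 D42425) D42424 (iv3 F66347) (iv1 F36477) (iv5 F62009) (iv4 F134788) (iv3 F286057)
def n196577 : Q := act 6 n107095
theorem D196577 : act 6 n107095 = n196577 := rfl
theorem F401125 : act 4 n196577 = n114352 := d10_1 D196577 (iv6 F205459) (iv4 F339956)
theorem F401126 : act 7 n196577 = n114349 := d14_2 F165781 D196577 (iv6 D114349) (iv7 F83510) (iv6 F339927)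
theorem F401127 : act 5 n196577 = n180781 := d21_6 (iv5 D108670) (iv1 F330488) (iv5 F400504) F400505 (iv1 F165069) D196577 (iv1 D180781) (iv5 F248827) F351075 F400870
theorem F401128 : act 0 n196406 = n196577 := d21_4 F165310 (iv1 D106950) D106951 (iv6 F400606) (iv6 D196577) (iv5 D107095) (iv1 D49469) D49470 (iv6 F78313) D107264
theorem F401129 : act 1 n180393 = n196577 := d15_1 (iv0 F370803) F401126 (iv2 F178587)
def n196578 : Q := act 5 n107096
theorem D196578 : act 5 n107096 = n196578 := rfl
theorem F401130 : act 6 n196578 = n180781 := d12_2 D107096 D196578 (iv5 F401127) (iv6 D196577) (iv5 D107095)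
theorem F401131 : act 7 n196578 = n108671 := d13_2 F400614 D196578 (iv5 F400613)
theorem F401132 : act 0 n196578 = n111119 := d17_2 (iv1 F247365) D196578 (iv5 D111119) F165545 D106450 (iv0 F164847) F164845 (iv0 F164848) D107425
theorem F401133 : act 1 n196578 = n108962 := d17_6 F100218 D59787 F171964 F171961 (iv4 F165070) D196578 F351077 (iv0 D51243) F39068
def n196579 : Q := act 3 n107097
theorem D196579 : act 3 n107097 = n196579 := rfl
def n196580 : Q := act 6 n107097
theorem D196580 : act 6 n107097 = n196580 := rfl
theorem F401134 : act 4 n196580 = n188981 := d10_1 D196580 (iv6 D188981) (iv4 F339935)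
theorem F401135 : act 0 n196580 = n113913 := d21_4 (iv5 D125496) (iv1 F201799) F201798 D196580 F177206 (iv5 F163118) F163119 F94494 (iv6 F339927) (iv1 F201843)
def n196581 : Q := act 3 n107098
theorem D196581 : act 3 n107098 = n196581 := rfl
theorem F401136 : act 4 n196581 = n193044 := d5_2 F335543 D196581 (iv3 F388580) (iv4 D188031) F251140
theorem F401137 : act 5 n196581 = n192285 := d6_2 (iv5 F201811) D196581 F386295
theorem F401138 : act 0 n188415 = n196581 := d20_4 (iv4 D87805) (iv1 F134775) (iv4 F140502) D188415 (iv3 D196581) (iv4 F335543) F360287 (iv4 D110989) (iv3 F302684) F140340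
def n196582 : Q := act 6 n107100
theorem D196582 : act 6 n107100 = n196582 := rfl
theorem F401139 : act 2 n196582 = n138764 := d3_1 D196582 (iv6 F364952) F202872
theorem F401140 : act 3 n196582 = n157937 := d7_1 D196582 F357952 (iv3 F351292)
theorem F401141 : act 4 n196582 = n187525 := d10_1 D196582 (iv6 D187525) F335540
theorem F401142 : act 5 n196582 = n156312 := d12_1 D196582 (iv6 F331799) F175351 F82143 (iv5 F165071)
theorem F401143 : act 0 n196582 = n134855 := d21_10 (iv5 D134855) (iv1 D63376) D63378 F331540 F83515 (iv6 F339927) (iv5 D107464) F111358 (iv5 F165071) D196582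
theorem F401144 : act 0 n134850 = n196582 := d21_1 D134850 F401142 (iv6 F331799) (iv1 F175353) (iv6 F340481) F340478 (iv1 D114510) (iv5 F331530) F84418 D63375
def n196583 : Q := act 1 n107104
theorem D196583 : act 1 n107104 = n196583 := rfl
theorem F401145 : act 7 n196583 = n145349 := d15_2 F401050 D196583 (iv2 F401046)
theorem F401146 : act 5 n196583 = n151234 := d17_7 F163519 F163516 (iv1 F142208) (iv5 F179194) (iv4 F179197) F349170 D196583 F237966 (iv4 D114245)
theorem F401147 : act 4 n196583 = n154686 := d18_7 (iv1 F178146) (iv4 F178085) (iv1 F178087) D114287 (iv5 F349169) F222735 D196583 F242846 F241516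
theorem F401148 : act 2 n187817 = n196583 := d1_3 F401147 (iv2 F399023) (iv4 F371621)
theorem F401149 : act 6 n196583 = n145401 := d3_2 F388189 F401148 (iv2 F388178)
def n196584 : Q := act 2 n107104
theorem D196584 : act 2 n107104 = n196584 := rfl
theorem F401150 : act 4 n196584 = n192541 := d1_2 F222735 D196584 F387011
theorem F401151 : act 5 n196584 = n152546 := d2_2 F349170 D196584 F239726
theorem F401152 : act 1 n196584 = n187817 := d15_0 (iv0 F371601) F172025 D196584
theorem F401153 : act 1 n145349 = n196584 := d15_0 F401152 (iv7 F401048) F401046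
def n196585 : Q := act 6 n107104
theorem D196585 : act 6 n107104 = n196585 := rfl
theorem F401154 : act 3 n196585 = n107106 := d7_1 D196585 (iv6 D107106) D107104
theorem F401155 : act 4 n196585 = n192459 := d10_1 D196585 F386754 F222735
theorem F401156 : act 5 n196585 = n170868 := d12_1 D196585 (iv6 D170868) D170867 (iv6 F372144) F349170
theorem F401157 : act 0 n124441 = n170868 := d21_1 (iv5 F400817) (iv5 F401156) (iv6 D196585) (iv1 F401050) (iv6 D196549) F220042 (iv1 F78342) (iv5 F78330) D107317 (iv1 F400813)
def n196586 : Q := act 6 n107105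
theorem D196586 : act 6 n107105 = n196586 := rfl
theorem F401158 : act 3 n196586 = n170867 := d7_1 D196586 (iv6 F372144) (iv3 F349171)
theorem F401159 : act 4 n196586 = n157741 := d10_1 D196586 F248617 (iv4 F345182)
theorem F401160 : act 7 n196586 = n127820 := d14_2 F172027 D196586 (iv6 D127820) F94510 (iv6 F339958)
theorem F401161 : act 0 n157166 = n196586 := d21_4 F165374 (iv1 D74725) D74726 (iv6 F247338) (iv6 D196586) (iv5 D107105) F111260 D49636 F78405 D107313
theorem F401162 : act 0 n180385 = n170867 := d20_4 F126244 (iv1 F132115) F132113 (iv3 F280714) (iv3 F401158) F401159 (iv1 F248619) (iv4 F365247) F280730 F132114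
theorem F401163 : act 5 n170865 = n196586 := d6_0 F401158 (iv5 D170867) D170865
def n196587 : Q := act 5 n107106
theorem D196587 : act 5 n107106 = n196587 := rfl
theorem F401164 : act 3 n196587 = n170868 := d6_1 D196587 (iv5 F401156) F401154
theorem F401165 : act 6 n196587 = n170865 := d12_2 D107106 D196587 F401163 (iv6 D196586) (iv5 D107105)
theorem F401166 : act 0 n196587 = n107394 := d17_2 F228310 D196587 (iv5 D107394) F163988 D51257 (iv0 F112161) F112159 F104271 D145292
theorem F401167 : act 1 n196587 = n107392 := d17_6 D49184 D106445 F164849 F164845 (iv4 F165078) D196587 (iv5 D107392) (iv0 D49604) F37908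
def n196588 : Q := act 3 n107110
theorem D196588 : act 3 n107110 = n196588 := rfl
theorem F401168 : act 4 n196588 = n137035 := d5_2 (iv4 F165792) D196588 (iv3 D137035) (iv4 F172049) (iv3 D110991)
theorem F401169 : act 5 n196588 = n190042 := d6_2 F350537 D196588 F378633
theorem F401170 : act 7 n196588 = n194395 := d8_2 F331326 D196588 (iv3 D194395)
theorem F401171 : act 0 n196588 = n194441 := d19_4 D58745 F92823 (iv4 F165792) D196588 (iv5 D194441) (iv4 D103592) F75353 (iv1 F157783) (iv5 F365283) (iv4 D100879) D100878 (iv1 F365063) (iv5 F365340) F153283 F75412 F157743 F295723 (iv4 D51182) (iv3 F45120)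
theorem F401172 : act 0 n137035 = n194234 := d20_7 (iv4 F352873) (iv1 D136525) (iv4 F165087) (iv3 D107112) D107110 D196588 F401168 (iv4 D194234) (iv3 F385139) F385140
theorem F401173 : act 0 n194230 = n137035 := d20_1 D194230 (iv4 F401168) (iv3 D196588) (iv1 F331303) F139573 D103061 (iv1 F347878) F347880 (iv3 F286308) F363044
theorem F401174 : act 0 n112989 = n196588 := d20_4 F114297 (iv1 F114299) (iv4 F110824) (iv3 F366636) (iv3 D196588) F165792 F321408 (iv4 F107784) (iv3 D71290) D71288
def n196589 : Q := act 6 n107110
theorem D196589 : act 6 n107110 = n196589 := rfl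
theorem F401175 : act 2 n196589 = n194394 := d3_1 D196589 (iv6 D194394) F331319
theorem F401176 : act 4 n196589 = n110992 := d10_1 D196589 (iv6 D110992) (iv4 F165792)
theorem F401177 : act 5 n196589 = n133381 := d12_1 D196589 F378635 (iv5 D95579) D95580 F350537
theorem F401178 : act 7 n196589 = n195543 := d14_2 F331326 D196589 (iv6 D195543) (iv7 F172140) (iv6 F331325)
def n196590 : Q := act 3 n107116
theorem D196590 : act 3 n107116 = n196590 := rfl
theorem F401179 : act 5 n196590 = n142368 := d6_2 F352960 D196590 (iv3 F356106)
theorem F401180 : act 6 n196590 = n142371 := d7_2 (iv6 F361826) D196590 F361828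
theorem F401181 : act 0 n196590 = n179093 := d21_4 F366289 (iv1 D142370) D142371 (iv6 F401180) (iv6 F358509) F358508 (iv1 D103852) D103853 D194609 F393811
theorem F401182 : act 0 n112982 = n196590 := d21_7 F225287 (iv1 F103769) D67745 D144549 F376738 D186400 (iv5 F367386) F401179 (iv6 D142368) D142365
def n196591 : Q := act 3 n107125
theorem D196591 : act 3 n107125 = n196591 := rfl
theorem F401183 : act 4 n196591 = n137820 := d20_6 F76859 (iv1 D24155) D24156 D49490 D107125 D196591 F347248 F162007 (iv3 D48796) D48794
theorem F401184 : act 5 n132430 = n196591 := d17_3 (iv1 F347211) (iv5 D132433) D132430 F401183 (iv5 D137820) F219054 (iv5 D136099) F99583 D64752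
theorem F401185 : act 1 n139824 = n196591 := d17_8 F347248 F162008 (iv1 F360511) (iv5 D136093) D136092 F347219 F179746 (iv5 F336173) F401183
theorem F401186 : act 0 n195429 = n196591 := d18_0 F401183 F347248 F162007 D105543 (iv4 F360490) (iv0 D106411) F77648 (iv0 F162197) D195429
theorem F401187 : act 5 n107125 = n195466 := d6_2 F401184 (iv3 D196591) F397071
def n196592 : Q := act 4 n107125
theorem D196592 : act 4 n107125 = n196592 := rfl
theorem F401188 : act 2 n196592 = n107491 := d1_1 D196592 F169277 F180743
theorem F401189 : act 5 n196592 = n115395 := d17_5 (iv1 D105610) D105612 D195466 (iv5 F401187) D196592 F401055 F401052 F397061 F165359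
theorem F401190 : act 0 n140672 = n196592 := d17_2 (iv1 F336120) (iv5 F386486) F401189 (iv4 D115395) D115396 F180738 (iv5 D107178) D107176 (iv4 F165171)
def n196593 : Q := act 6 n107125
theorem D196593 : act 6 n107125 = n196593 := rfl
def n196594 : Q := act 3 n107126
theorem D196594 : act 3 n107126 = n196594 := rfl
def n196595 : Q := act 6 n107126
theorem D196595 : act 6 n107126 = n196595 := rfl
def n196596 : Q := act 5 n107127
theorem D196596 : act 5 n107127 = n196596 := rfl
theorem F401191 : act 2 n196596 = n107128 := d2_1 D196596 (iv5 D107128) D107127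
theorem F401192 : act 3 n196596 = n195507 := d6_1 D196596 F397185 F227207
theorem F401193 : act 7 n196596 = n195470 := d13_2 F169280 D196596 F397074
theorem F401194 : act 1 n196596 = n195461 := d17_6 F102876 (iv5 F172093) (iv1 F163671) F78287 (iv4 F165109) D196596 (iv5 D195461) (iv0 D105609) (iv4 F77649)
theorem F401195 : act 1 n195463 = n196596 := d15_0 F401194 F397063 (iv2 F397067)
def n196597 : Q := act 1 n107128
theorem D196597 : act 1 n107128 = n196597 := rfl
theorem F401196 : act 1 n196597 = n195470 := d15_1 D196597 (iv7 F401193) F401191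
theorem F401197 : act 7 n196597 = n195463 := d15_2 (iv0 F360522) D196597 F397067
theorem F401198 : act 5 n196597 = n107233 := d17_7 (iv1 F163635) F172113 (iv1 D49523) F37885 (iv4 F78239) D107128 D196597 F165279 (iv4 F163627)
theorem F401199 : act 2 n195461 = n196597 := d2_3 F401198 F172168 D195461
theorem F401200 : act 3 n195515 = n196597 := d6_3 F401198 (iv3 F396694) D195515
def n196598 : Q := act 4 n107128
theorem D196598 : act 4 n107128 = n196598 := rfl
theorem F401201 : act 7 n196598 = n195504 := d11_2 (iv7 F165111) D196598 (iv4 D195504)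
def n196599 : Q := act 6 n107128
theorem D196599 : act 6 n107128 = n196599 := rfl
theorem F401202 : act 3 n196599 = n107130 := d7_1 D196599 (iv6 D107130) (iv3 F165110)
def n196600 : Q := act 0 n107129
theorem D196600 : act 0 n107129 = n196600 := rfl
theorem F401203 : act 4 n196600 = n140669 := d18_3 (iv1 D107147) (iv4 F165113) D196600 F223761 F223447 (iv0 F204374) (iv4 F223753) F223754 F363739
def n196601 : Q := act 1 n107129
theorem D196601 : act 1 n107129 = n196601 := rfl
theorem F401204 : act 4 n196601 = n140670 := d18_7 F100431 F79642 D50261 F101679 (iv5 F331789) (iv4 F165113) D196601 F223763 (iv5 D66002)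
theorem F401205 : act 6 n156039 = n196601 := d21_3 (iv5 F167203) D108118 F358807 (iv1 D196601) (iv6 D107129) D107128 F360522 (iv5 F347204) (iv6 F397084) (iv1 F219999)
def n196602 : Q := act 0 n107130
theorem D196602 : act 0 n107130 = n196602 := rfl
def n196603 : Q := act 1 n107130
theorem D196603 : act 1 n107130 = n196603 := rfl
theorem F401206 : act 1 n196603 = n195512 := d15_1 D196603 (iv7 D195512) (iv2 F165114)
def n196604 : Q := act 5 n107130
theorem D196604 : act 5 n107130 = n196604 := rfl
theorem F401207 : act 2 n196604 = n195511 := d2_1 D196604 (iv5 D195511) (iv2 F165114)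
theorem F401208 : act 6 n196604 = n107131 := d12_2 D107130 D196604 (iv5 D107131) (iv6 D49492) D49491
def n196605 : Q := act 7 n107130
theorem D196605 : act 7 n107130 = n196605 := rfl
theorem F401209 : act 2 n196605 = n195512 := d4_1 D196605 (iv7 D195512) (iv2 F165114)
theorem F401210 : act 4 n196605 = n194619 := d11_1 D196605 F393848 F169223
theorem F401211 : act 6 n196605 = n194325 := d14_1 D196605 (iv7 F392834) (iv6 D105639) (iv7 F78241) D107130
theorem F401212 : act 1 n195512 = n196602 := d15_0 (iv0 D196602) D196605 F401209
theorem F401213 : act 1 n195510 = n196605 := d15_1 D195510 (iv7 D196605) F165114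
theorem F401214 : act 1 n196605 = n195509 := d15_0 (iv0 D195509) D195512 (iv2 F401209)
def n196606 : Q := act 0 n107131
theorem D196606 : act 0 n107131 = n196606 := rfl
def n196607 : Q := act 1 n107131
theorem D196607 : act 1 n107131 = n196607 := rfl
theorem F401215 : act 5 n195457 = n196607 := d21_6 D67670 F103688 (iv5 D48831) D48832 (iv1 F166105) D195457 (iv1 D196607) (iv5 D107131) (iv6 D49492) (iv1 F49719)
def n196608 : Q := act 4 n107131
theorem D196608 : act 4 n107131 = n196608 := rfl
def n196609 : Q := act 5 n107134
theorem D196609 : act 5 n107134 = n196609 := rfl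
theorem F401216 : act 2 n196609 = n107242 := d2_1 D196609 F168798 (iv2 F173800)
theorem F401217 : act 3 n196609 = n111539 := d6_1 D196609 F173062 (iv3 F173801)
theorem F401218 : act 6 n196609 = n107229 := d12_2 (iv6 F173802) D196609 F165253 D136062 F218957
theorem F401219 : act 7 n196609 = n138646 := d13_2 (iv7 F173803) D196609 F221813
theorem F401220 : act 0 n196609 = n107421 := d17_2 (iv1 F168806) D196609 F327225 (iv4 D78425) D78426 (iv0 F359730) (iv5 F317713) F175544 F175542
theorem F401221 : act 1 n196609 = n112135 := d17_6 (iv1 F202619) D125983 F366441 F366439 F175495 D196609 (iv5 D112135) F168167 (iv4 F161144)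
def n196610 : Q := act 0 n107137
theorem D196610 : act 0 n107137 = n196610 := rfl
theorem F401222 : act 4 n196610 = n107349 := d18_3 D49497 D107137 D196610 (iv5 D107349) D107348 (iv0 F165407) (iv4 D107189) (iv0 D49522) F37885
theorem F401223 : act 1 n107142 = n196610 := d15_0 (iv0 D196610) (iv7 F202848) F202846
def n196611 : Q := act 1 n107137
theorem D196611 : act 1 n107137 = n196611 := rfl
theorem F401224 : act 1 n196611 = n107142 := d15_1 D196611 (iv7 F202855) F202854
def n196612 : Q := act 5 n107137
theorem D196612 : act 5 n107137 = n196612 := rfl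
theorem F401225 : act 3 n196612 = n195552 := d6_1 D196612 F397322 F182592
def n196613 : Q := act 6 n107137
theorem D196613 : act 6 n107137 = n196613 := rfl
theorem F401226 : act 4 n196613 = n107139 := d10_1 D196613 (iv6 D107139) D107137
def n196614 : Q := act 5 n107139
theorem D196614 : act 5 n107139 = n196614 := rfl
def n196615 : Q := act 7 n107139
theorem D196615 : act 7 n107139 = n196615 := rfl
def n196616 : Q := act 6 n107141
theorem D196616 : act 6 n107141 = n196616 := rfl
theorem F401227 : act 3 n196616 = n107144 := d7_1 D196616 (iv6 D107144) D107141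
def n196617 : Q := act 5 n107142
theorem D196617 : act 5 n107142 = n196617 := rfl
def n196618 : Q := act 6 n107142
theorem D196618 : act 6 n107142 = n196618 := rfl
theorem F401228 : act 4 n196618 = n107144 := d10_1 D196618 (iv6 D107144) D107142
def n196619 : Q := act 1 n107144
theorem D196619 : act 1 n107144 = n196619 := rfl
theorem F401229 : act 7 n196619 = n140697 := d15_2 (iv0 F360135) D196619 (iv2 F360132)
theorem F401230 : act 5 n140712 = n196619 := d13_3 F401229 F223788 D140712
def n196620 : Q := act 5 n107144
theorem D196620 : act 5 n107144 = n196620 := rfl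
theorem F401231 : act 6 n196620 = n111758 := d12_2 D107144 D196620 F363569 (iv6 D112675) (iv5 F180739)
theorem F401232 : act 0 n110284 = n196620 := d21_10 (iv5 D196620) F360135 (iv5 F360131) (iv6 D111365) F81073 (iv6 F343750) (iv5 D110279) (iv1 D50851) D50852 D110284
theorem F401233 : act 1 n124155 = n196620 := d15_0 (iv0 F401232) (iv7 F364129) F366922
theorem F401234 : act 4 n123979 = n196620 := d10_3 F401231 (iv4 F401100) F363298
def n196621 : Q := act 7 n107144
theorem D196621 : act 7 n107144 = n196621 := rfl
def n196622 : Q := act 4 n107146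
theorem D196622 : act 4 n107146 = n196622 := rfl
theorem F401235 : act 3 n196622 = n195521 := d5_1 D196622 (iv4 F397208) (iv3 D145540) (iv4 F342415) F342414
theorem F401236 : act 5 n196622 = n195520 := d16_1 D196622 F397205 (iv5 D108963) (iv4 D50307) D50308 D108964 F363739 F363741 (iv2 F331802)
def n196623 : Q := act 6 n107146
theorem D196623 : act 6 n107146 = n196623 := rfl
theorem F401237 : act 5 n196623 = n143930 := d12_1 D196623 (iv6 D143930) (iv5 D67431) D67432 (iv5 F331803)
theorem F401238 : act 0 n143930 = n140635 := d21_7 F172113 (iv1 D49523) F37885 D49500 D107146 D196623 F401237 (iv5 F398650) (iv6 D195897) (iv1 F163635)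
def n196624 : Q := act 3 n107147
theorem D196624 : act 3 n107147 = n196624 := rfl
theorem F401239 : act 5 n196624 = n192342 := d6_2 F363739 D196624 F386517
def n196625 : Q := act 4 n107147
theorem D196625 : act 4 n107147 = n196625 := rfl
def n196626 : Q := act 3 n107150
theorem D196626 : act 3 n107150 = n196626 := rfl
def n196627 : Q := act 3 n107151
theorem D196627 : act 3 n107151 = n196627 := rfl
def n196628 : Q := act 1 n107152
theorem D196628 : act 1 n107152 = n196628 := rfl
theorem F401240 : act 7 n196628 = n145407 := d15_2 (iv0 F388047) D196628 (iv2 F388042)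
theorem F401241 : act 4 n196628 = n107506 := d18_7 (iv1 F78261) (iv4 D49508) (iv1 D24165) (iv4 F37877) D49503 D107152 D196628 F165851 F104320
theorem F401242 : act 6 n116969 = n196628 := d21_3 F331484 D112946 F331456 (iv1 D196628) (iv6 F165223) (iv5 F342871) D195080 F395690 (iv6 D128542) (iv1 F103310)
theorem F401243 : act 2 n196628 = n144040 := d3_1 F401242 (iv6 D144040) (iv2 F331457)
def n196629 : Q := act 5 n107152
theorem D196629 : act 5 n107152 = n196629 := rfl
theorem F401244 : act 3 n196629 = n117031 := d6_1 D196629 (iv5 D117031) (iv3 F331785)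
def n196630 : Q := act 6 n107154
theorem D196630 : act 6 n107154 = n196630 := rfl
theorem F401245 : act 3 n196630 = n107156 := d7_1 D196630 (iv6 D107156) D107154
theorem F401246 : act 4 n196630 = n140668 := d10_1 D196630 (iv6 D140668) (iv4 F165127)
def n196631 : Q := act 0 n107155
theorem D196631 : act 0 n107155 = n196631 := rfl
theorem F401247 : act 5 n196631 = n107395 := d17_3 (iv1 F78263) D107155 D196631 F165439 F80848 F78452 (iv5 D49665) (iv0 D24219) (iv4 F37963)
theorem F401248 : act 1 n107159 = n196631 := d15_0 (iv0 D196631) F165130 (iv2 F165139)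
theorem F401249 : act 2 n145396 = n196631 := d2_3 F401247 (iv2 F165450) (iv5 F228430)
theorem F401250 : act 7 n145397 = n196631 := d13_0 F401247 (iv7 F203159) F228433
def n196632 : Q := act 1 n107155
theorem D196632 : act 1 n107155 = n196632 := rfl
theorem F401251 : act 1 n196632 = n107159 := d15_1 D196632 F165140 (iv2 F165129)
theorem F401252 : act 7 n196632 = n145396 := d15_2 (iv0 D196631) D196632 F401249
theorem F401253 : act 5 n196632 = n125746 := d17_7 F175367 (iv5 F165326) (iv1 F161075) (iv5 D49506) D49505 D107155 D196632 F228441 F228437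
theorem F401254 : act 3 n193235 = n196632 := d19_19 (iv1 D196632) (iv5 D107155) (iv4 D49505) F53450 (iv1 F49271) (iv5 F81081) (iv4 F172827) (iv3 F364760) (iv1 F172014) (iv5 D110966) F80711 (iv3 F80603) F166985 D127075 (iv4 F222590) F349413 F354191 (iv5 F156189) (iv4 F389268)
theorem F401255 : act 4 n196632 = n193608 := d5_2 (iv4 F389268) F401254 F390449 F156975 (iv3 F156188)
theorem F401256 : act 6 n196632 = n193234 := d7_2 D193235 F401254 (iv3 D193234)
theorem F401257 : act 2 n145397 = n196632 := d3_3 F401256 F389264 F388152
theorem F401258 : act 6 n190203 = n145340 := d12_2 F401256 F389266 F228384 F211446 (iv5 F401253)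
theorem F401259 : act 3 n145340 = n190204 := d7_1 F401258 (iv6 D190204) D190203
theorem F401260 : act 3 n191008 = n196558 := d0_4 F401259 F379067 (iv3 F379296) (iv2 F381859) (iv2 F401078)
theorem F401261 : act 3 n145341 = n190291 := d8_3 (iv7 F381861) F401260 (iv7 F401079)
def n196633 : Q := act 4 n107155
theorem D196633 : act 4 n107155 = n196633 := rfl
theorem F401262 : act 2 n196633 = n145398 := d1_1 D196633 (iv4 D145398) (iv2 F165129)
theorem F401263 : act 3 n196633 = n173856 := d5_1 D196633 (iv4 F272498) F334410 D192116 (iv3 F385631)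
theorem F401264 : act 7 n196633 = n145404 := d11_2 (iv7 F165130) D196633 (iv4 D145404)
theorem F401265 : act 5 n196633 = n125821 := d16_1 D196633 (iv4 D125821) (iv5 D58920) (iv4 F76477) F76478 D49508 D107159 F165140 (iv2 F165129)
theorem F401266 : act 1 n125821 = n196629 := d17_6 (iv1 D107506) (iv5 D49661) (iv1 F78263) D107155 D196633 F401265 (iv5 D196629) D196628 F401241
theorem F401267 : act 6 n196633 = n143996 := d21_3 D196629 (iv1 F401266) (iv5 F401265) (iv1 F226652) F331494 F331484 D112946 F331456 F401242 (iv1 D196628)
theorem F401268 : act 6 n143985 = n145398 := d3_2 F401267 F365019 (iv2 F401262)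
theorem F401269 : act 4 n145399 = n143985 := d10_3 F401268 (iv4 D145398) D145399
def n196634 : Q := act 6 n107155
theorem D196634 : act 6 n107155 = n196634 := rfl
theorem F401270 : act 2 n196634 = n145399 := d3_1 D196634 (iv6 D145399) (iv2 F165129)
theorem F401271 : act 4 n196634 = n143996 := d10_1 D196634 (iv6 F401267) (iv4 D196633)
theorem F401272 : act 5 n193216 = n196634 := d21_8 F401247 (iv1 F228438) (iv5 D145408) (iv6 F364960) (iv1 F388299) (iv6 F389205) (iv5 F389209) (iv1 F389210) (iv6 D196634) D196631
theorem F401273 : act 6 n107290 = n193216 := d12_0 F401272 (iv6 D196634) (iv5 D107155) D107156 F165356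
def n196635 : Q := act 3 n107157
theorem D196635 : act 3 n107157 = n196635 := rfl
theorem F401274 : act 4 n196635 = n108940 := d5_2 D107157 D196635 F168945 F79683 (iv3 F78256)
theorem F401275 : act 6 n196635 = n125839 := d7_2 (iv6 F165134) D196635 F202338
theorem F401276 : act 7 n196635 = n108908 := d8_2 (iv7 F165135) D196635 F168919
def n196636 : Q := act 5 n107157
theorem D196636 : act 5 n107157 = n196636 := rfl
theorem F401277 : act 2 n196636 = n125822 := d2_1 D196636 F202330 (iv2 F165133)
theorem F401278 : act 6 n196636 = n113660 := d12_2 (iv6 F165134) D196636 F358208 (iv6 F96547) F327447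
theorem F401279 : act 7 n196636 = n108911 := d13_2 (iv7 F165135) D196636 (iv5 D108911)
theorem F401280 : act 0 n196636 = n125820 := d17_2 (iv1 F165136) D196636 F202329 F104365 F50045 F37969 D49665 F78453 D58879
theorem F401281 : act 1 n196636 = n107526 := d17_6 (iv1 D49510) (iv5 D24166) D24164 D49506 D107157 D196636 (iv5 D107526) (iv0 F165148) (iv4 D107162)
def n196637 : Q := act 2 n107158
theorem D196637 : act 2 n107158 = n196637 := rfl
theorem F401282 : act 3 n196637 = n145402 := d0_2 D107158 D196637 (iv2 D145402) (iv3 D68169) (iv2 F78259)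
theorem F401283 : act 4 n196637 = n162043 := d1_2 (iv4 F331954) D196637 F311769
theorem F401284 : act 7 n196637 = n145393 := d4_2 (iv7 F165138) D196637 (iv2 D145393)
theorem F401285 : act 1 n196637 = n145391 := d15_0 (iv0 D145391) (iv7 F165138) D196637
theorem F401286 : act 1 n140667 = n196637 := d15_0 F401285 F385599 (iv2 F386482)
def n196638 : Q := act 5 n107158
theorem D196638 : act 5 n107158 = n196638 := rfl
theorem F401287 : act 3 n196638 = n107159 := d6_1 D196638 (iv5 D107159) D107158
theorem F401288 : act 4 n196638 = n192387 := d9_1 D196638 F386623 (iv4 D100930) (iv5 D47039) F155084 D83571 (iv4 F362960) F390073 F390071 F386624 (iv4 D100946) (iv5 D47044) F155082 D83576 (iv4 F331954)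
theorem F401289 : act 7 n196638 = n145394 := d13_2 (iv7 F165138) D196638 (iv5 D145394)
theorem F401290 : act 0 n196638 = n174502 := d17_2 F390030 D196638 (iv5 D174502) (iv4 D83399) (iv5 D38416) D38415 D83395 F273360 D193487
theorem F401291 : act 1 n196638 = n192917 := d17_8 D192915 F388206 F384768 D193498 F390077 F386494 (iv0 F343468) D196638 (iv4 D192917)
def n196639 : Q := act 4 n107159
theorem D196639 : act 4 n107159 = n196639 := rfl
theorem F401292 : act 2 n196639 = n145404 := d1_1 D196639 (iv4 D145404) (iv2 F165139)
theorem F401293 : act 7 n196639 = n145398 := d11_2 (iv7 F165140) D196639 (iv4 D145398)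
def n196640 : Q := act 6 n107159
theorem D196640 : act 6 n107159 = n196640 := rfl
theorem F401294 : act 2 n196640 = n145405 := d3_1 D196640 (iv6 D145405) (iv2 F165139)
theorem F401295 : act 5 n196640 = n196452 := d12_1 D196640 (iv6 D196452) F164936 (iv6 F79038) D107159
def n196641 : Q := act 3 n107160
theorem D196641 : act 3 n107160 = n196641 := rfl
theorem F401296 : act 2 n196641 = n163021 := d0_1 D196641 F257378 (iv2 F357899) (iv3 D145442) (iv2 F165143)
theorem F401297 : act 4 n196641 = n140680 := d5_2 D107160 D196641 (iv3 D140680) (iv4 D66005) (iv3 F161348)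
theorem F401298 : act 5 n196641 = n163020 := d6_2 F395631 D196641 (iv3 F395632)
theorem F401299 : act 7 n196641 = n145444 := d8_2 (iv7 F165141) D196641 (iv3 D145444)
theorem F401300 : act 0 n195048 = n196641 := d17_2 (iv1 F395573) (iv5 F395572) F401298 F257377 D163043 (iv0 F345640) (iv5 D162950) (iv0 D78349) (iv4 F119523)
def n196642 : Q := act 1 n107165
theorem D196642 : act 1 n107165 = n196642 := rfl
theorem F401301 : act 4 n196642 = n162801 := d17_9 (iv1 F276963) F339184 (iv1 D84608) (iv5 D39074) (iv4 F60009) D84541 D177451 F357893 D196642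
theorem F401302 : act 2 n162802 = n196642 := d1_3 F401301 (iv2 D162801) D162802
theorem F401303 : act 6 n174850 = n196642 := d10_0 F401301 F320350 (iv4 F273710)
theorem F401304 : act 0 n167778 = n196642 := d18_0 F401301 (iv1 F276963) F339183 (iv5 D174849) (iv4 D83522) D83521 D174843 F342130 (iv5 F363868)
theorem F401305 : act 5 n174830 = n196642 := d18_4 (iv1 F345737) F327210 F334674 D174830 F401301 F333806 (iv4 F268191) (iv0 F345762) (iv5 F345741)
def n196643 : Q := act 2 n107165
theorem D196643 : act 2 n107165 = n196643 := rfl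
theorem F401306 : act 4 n196643 = n167782 := d1_2 F170764 D196643 F354773
theorem F401307 : act 6 n196643 = n107170 := d3_2 (iv6 F165159) D196643 (iv2 D107170)
theorem F401308 : act 7 n196643 = n167778 := d4_2 (iv7 F354770) D196643 (iv2 F363869)
theorem F401309 : act 1 n196643 = n162802 := d15_0 (iv0 F354771) (iv7 F354770) D196643
def n196644 : Q := act 4 n107166
theorem D196644 : act 4 n107166 = n196644 := rfl
theorem F401310 : act 1 n196644 = n125821 := d18_6 (iv1 F165149) (iv4 D107162) (iv1 D49510) D49511 D107166 D196644 (iv4 D125821) D125820 F202329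
def n196645 : Q := act 3 n107169
theorem D196645 : act 3 n107169 = n196645 := rfl
theorem F401311 : act 2 n196645 = n190708 := d0_1 D196645 F380719 F148456 (iv3 F160848) F324564
theorem F401312 : act 5 n196645 = n195170 := d6_2 (iv5 F345753) D196645 (iv3 D195170)
theorem F401313 : act 6 n196645 = n190707 := d7_2 (iv6 F345241) D196645 F380699
theorem F401314 : act 0 n196645 = n111392 := d20_10 (iv4 D111392) (iv1 F172630) F172628 F161126 (iv1 F161112) D195039 (iv4 F395530) (iv1 F339192) F355864 D196645
theorem F401315 : act 1 n196645 = n111397 := d15_1 (iv0 F401314) (iv7 F203752) (iv2 F203771)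
def n196646 : Q := act 1 n107173
theorem D196646 : act 1 n107173 = n196646 := rfl
theorem F401316 : act 7 n196646 = n115447 := d15_2 (iv0 F165166) D196646 F223430
theorem F401317 : act 3 n107180 = n196646 := d20_3 (iv4 F351321) (iv1 F351327) F202678 (iv1 D196646) (iv3 D107173) F78269 (iv1 F40834) (iv4 D25844) D25843 D53314
theorem F401318 : act 4 n134733 = n196646 := d20_6 (iv4 D14685) (iv1 F19209) D14205 D29915 D63317 D134733 (iv1 D196646) F165164 (iv3 D53502) (iv1 F40967)
theorem F401319 : act 2 n196646 = n115446 := d1_1 F401318 (iv4 F225036) F225035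
theorem F401320 : act 0 n115448 = n196646 := d20_1 (iv4 F179757) (iv4 F401318) (iv3 D134733) (iv1 F101518) (iv3 F164771) F164772 (iv1 F78332) D49593 D107351 (iv1 F165411)
theorem F401321 : act 5 n196646 = n136156 := d17_1 F401320 (iv1 F391261) (iv5 D115331) F84051 D65945 D140501 F345332 (iv0 F180853) (iv4 F179757)
theorem F401322 : act 6 n107178 = n196646 := d12_0 F401321 (iv6 D136156) (iv5 F330554) (iv6 D107179) D107178
def n196647 : Q := act 2 n107173
theorem D196647 : act 2 n107173 = n196647 := rfl
theorem F401323 : act 3 n196647 = n115443 := d0_2 D107173 D196647 (iv2 D115443) (iv3 D53255) F78270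
theorem F401324 : act 4 n196647 = n116082 := d1_2 (iv4 F165164) D196647 (iv2 D116082)
theorem F401325 : act 7 n196647 = n115448 := d4_2 (iv7 F165165) D196647 (iv2 D115448)
theorem F401326 : act 1 n196647 = n115446 := d15_0 (iv0 D115446) (iv7 F165165) D196647
theorem F401327 : act 1 n115447 = n196647 := d15_0 F401326 F181469 (iv2 F223430)
def n196648 : Q := act 6 n107173
theorem D196648 : act 6 n107173 = n196648 := rfl
theorem F401328 : act 3 n196648 = n107174 := d7_1 D196648 (iv6 D107174) D107173
theorem F401329 : act 4 n196648 = n116083 := d10_1 D196648 (iv6 D116083) (iv4 F165164)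
theorem F401330 : act 7 n196648 = n137056 := d14_2 (iv7 F165165) D196648 (iv6 D137056) (iv7 F111150) F111149
theorem F401331 : act 5 n141870 = n196648 := d16_7 (iv4 D141870) (iv5 D66514) (iv4 F49598) F49599 F49598 D66514 D141870 F401330 F345299
def n196649 : Q := act 5 n107174
theorem D196649 : act 5 n107174 = n196649 := rfl
theorem F401332 : act 2 n196649 = n115445 := d2_1 D196649 (iv5 D115445) (iv2 F165167)
theorem F401333 : act 3 n196649 = n141870 := d6_1 D196649 F401331 F401328
theorem F401334 : act 6 n196649 = n156114 := d12_2 D107174 D196649 F400977 (iv6 D196528) F165000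
theorem F401335 : act 7 n196649 = n137058 := d13_2 (iv7 F165169) D196649 (iv5 D137058)
def n196650 : Q := act 3 n107175
theorem D196650 : act 3 n107175 = n196650 := rfl
theorem F401336 : act 2 n196650 = n115483 := d0_1 D196650 F330539 F179796 (iv3 D115500) F165340
theorem F401337 : act 5 n196650 = n155982 := d6_2 F400943 D196650 (iv3 F400941)
theorem F401338 : act 7 n196650 = n115484 := d8_2 (iv7 F165341) D196650 F330544
theorem F401339 : act 4 n196650 = n110865 := d20_6 (iv4 D12247) F19042 D24169 D49516 D107175 D196650 (iv1 D110865) (iv4 F83992) (iv3 D53178) (iv1 D25791)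
theorem F401340 : act 0 n107183 = n196650 := d18_0 F401339 (iv1 D110865) (iv4 F83992) (iv5 F330513) F179509 F179870 F179866 (iv0 D107181) D107183
theorem F401341 : act 1 n115486 = n196650 := d15_1 (iv0 F330547) F401338 F330543
def n196651 : Q := act 4 n107175
theorem D196651 : act 4 n107175 = n196651 := rfl
theorem F401342 : act 2 n196651 = n107278 := d1_1 D196651 F165337 F165340
theorem F401343 : act 3 n196651 = n142802 := d5_1 D196651 (iv4 F361551) F361550 (iv4 F401339) (iv3 D196650)
theorem F401344 : act 7 n196651 = n107346 := d11_2 (iv7 F165341) D196651 F165400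
theorem F401345 : act 5 n196651 = n195927 := d16_1 D196651 F398747 F347204 (iv4 F163637) D195900 F400953 F400950 (iv7 F165338) F165340
theorem F401346 : act 1 n196651 = n107320 := d18_8 F401190 (iv4 D196592) (iv1 F169281) F169279 (iv5 F163674) F163673 F165170 D196651 (iv5 F386486)
theorem E103662 : n137124 = n136849 := ((c19_8 D196519 F400943 D196651 F401343 (iv1 F225706) (iv5 F220040) (iv4 D136850) D136849 (iv1 F223849) (iv5 F349662) F349661 F176686 (iv1 F355862) (iv5 D107171) (iv4 F80318) (iv3 D50908) (iv1 F39816) D52025 F82202 (iv3 F164996))).symm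
theorem F401347 : act 0 n136849 = n140764 := (sb E103662 (iv1 F223849))
theorem F401348 : act 1 n136849 = n64467 := (sb E103662 (iv0 D137124))
theorem F401349 : act 0 n196651 = n107347 := d20_1 D196651 (iv4 F220501) (iv3 D115273) (iv1 D53182) (iv3 D25792) (iv4 D12247) F19042 D24169 D49516 D107175
theorem F401350 : act 6 n160398 = n196651 := d7_0 F401343 F361553 (iv3 F361555)
theorem F401351 : act 5 n160466 = n145360 := d21_8 F228395 D195927 (iv5 F401345) (iv6 F401350) (iv1 D160398) D160400 F253346 D160466 (iv6 D145360) (iv1 F387844)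
theorem F401352 : act 3 n145364 = n160466 := d6_3 F401351 F228404 D145364
def n196652 : Q := act 6 n107175
theorem D196652 : act 6 n107175 = n196652 := rfl
theorem F401353 : act 2 n196652 = n115501 := d3_1 D196652 (iv6 D115501) F165340
theorem F401354 : act 4 n196652 = n160398 := d10_1 D196652 F401350 (iv4 D196651)
theorem F401355 : act 5 n196652 = n160317 := d12_1 D196652 (iv6 F344869) (iv5 F245025) F400947 F400943
theorem F401356 : act 0 n115726 = n196652 := d17_2 (iv1 F303344) F351086 F401355 (iv4 D160317) (iv5 D76834) (iv0 D35117) D35119 D76842 D160331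
def n196653 : Q := act 5 n107177
theorem D196653 : act 5 n107177 = n196653 := rfl
theorem F401357 : act 2 n196653 = n107178 := d2_1 D196653 (iv5 D107178) D107177
theorem F401358 : act 3 n196653 = n115459 := d6_1 D196653 (iv5 D115459) (iv3 F165174)
theorem F401359 : act 7 n196653 = n115502 := d13_2 (iv7 F165176) D196653 (iv5 D115502)
theorem F401360 : act 1 n196653 = n115479 := d17_6 D49464 (iv5 F166899) (iv1 F93286) (iv5 F78287) (iv4 F165175) D196653 F365191 (iv0 D107046) F78186
theorem F401361 : act 0 n196653 = n115505 := d21_1 D196653 (iv5 F182525) (iv6 F366111) (iv1 D156087) (iv6 D74248) F111124 (iv1 F245038) F245379 (iv6 F351548) (iv1 F165177)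
theorem F401362 : act 6 n115446 = n196653 := d21_9 (iv5 F182525) (iv1 D107047) D107049 D196522 F400960 (iv6 D196513) (iv5 F179772) F391318 F391315 F401361
def n196654 : Q := act 6 n107177
theorem D196654 : act 6 n107177 = n196654 := rfl
theorem F401363 : act 2 n196654 = n107179 := d3_1 D196654 (iv6 D107179) D107177
theorem F401364 : act 3 n196654 = n115460 := d7_1 D196654 (iv6 D115460) (iv3 F165174)
theorem F401365 : act 4 n196654 = n107197 := d10_1 D196654 (iv6 D107197) (iv4 F165175)
theorem F401366 : act 5 n196654 = n136144 := d12_1 D196654 (iv6 F391316) F391315 F401362 (iv5 D196653)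
theorem F401367 : act 7 n136173 = n196654 := d13_0 F401366 F219187 D136173
def n196655 : Q := act 4 n107178
theorem D196655 : act 4 n107178 = n196655 := rfl
theorem F401368 : act 3 n196655 = n134735 := d5_1 D196655 (iv4 F350842) F202674 F93208 (iv3 F165179)
theorem F401369 : act 6 n196655 = n134733 := d10_2 (iv6 F401322) D196655 F401318
theorem F401370 : act 7 n196655 = n115506 := d11_2 (iv7 F165180) D196655 (iv4 D115506)
def n196656 : Q := act 1 n107179
theorem D196656 : act 1 n107179 = n196656 := rfl
theorem F401371 : act 1 n196656 = n136173 := d15_1 D196656 F401367 F401363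
def n196657 : Q := act 7 n107179
theorem D196657 : act 7 n107179 = n196657 := rfl
theorem F401372 : act 2 n196657 = n136173 := d4_1 D196657 F401367 F401363
theorem F401373 : act 3 n196657 = n107184 := d8_1 D196657 (iv7 D107184) (iv3 F165181)
theorem F401374 : act 4 n196657 = n107201 := d11_1 D196657 (iv7 D107201) (iv4 F165182)
theorem F401375 : act 5 n196657 = n136157 := d13_1 D196657 (iv7 D136157) (iv5 F330554)
theorem F401376 : act 6 n196657 = n115511 := d14_1 D196657 (iv7 D115511) (iv6 D53284) (iv7 F78274) D107179
def n196658 : Q := act 5 n107180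
theorem D196658 : act 5 n107180 = n196658 := rfl
theorem F401377 : act 2 n196658 = n115475 := d2_1 D196658 (iv5 D115475) (iv2 F165183)
theorem F401378 : act 3 n196658 = n136156 := d6_1 D196658 (iv5 F401321) (iv3 F401317)
theorem F401379 : act 6 n196658 = n107183 := d12_2 D107180 D196658 (iv5 D107183) (iv6 D49518) D49517
def n196659 : Q := act 7 n107180
theorem D196659 : act 7 n107180 = n196659 := rfl
theorem F401380 : act 2 n196659 = n115476 := d4_1 D196659 (iv7 D115476) (iv2 F165183)
theorem F401381 : act 3 n196659 = n115447 := d8_1 D196659 (iv7 F401316) (iv3 F401317)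
theorem F401382 : act 4 n196659 = n126991 := d11_1 D196659 (iv7 F350847) F202678
theorem F401383 : act 6 n196659 = n115515 := d14_1 D196659 (iv7 D115515) (iv6 D53285) (iv7 F78276) D107180
theorem F401384 : act 1 n115474 = n196659 := d15_1 D115474 (iv7 D196659) F165183
theorem F401385 : act 1 n196659 = n115450 := d15_1 F401384 (iv7 F218819) (iv2 F326814)
def n196660 : Q := act 3 n107182
theorem D196660 : act 3 n107182 = n196660 := rfl
theorem F401386 : act 2 n196660 = n116582 := d0_1 D196660 (iv3 F181937) (iv2 F365190) (iv3 D115479) (iv2 F165199)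
theorem F401387 : act 4 n196660 = n195541 := d5_2 F165185 D196660 (iv3 D195541) (iv4 D105667) D105666
theorem F401388 : act 7 n196660 = n115477 := d8_2 (iv7 F165197) D196660 (iv3 D115477)
theorem F401389 : act 0 n196660 = n116544 := d20_4 F179509 F179213 F165185 D196660 (iv3 F391313) F391314 F343229 (iv4 F179783) (iv3 D115487) (iv1 F179512)
theorem F401390 : act 5 n116012 = n196660 := d17_1 F180748 F401389 (iv5 D116544) (iv4 D53710) D53711 F181962 (iv5 D65562) F84254 D115801
theorem F401391 : act 1 n196660 = n116585 := d15_1 (iv0 F401389) (iv7 D116585) (iv2 F181886)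
def n196661 : Q := act 5 n107182
theorem D196661 : act 5 n107182 = n196661 := rfl
theorem F401392 : act 2 n196661 = n115481 := d2_1 D196661 (iv5 D115481) (iv2 F165199)
theorem F401393 : act 3 n196661 = n116012 := d6_1 D196661 F401390 (iv3 D196660)
theorem F401394 : act 7 n196661 = n115478 := d13_2 (iv7 F165197) D196661 (iv5 D115478)
theorem F401395 : act 4 n196661 = n116015 := d16_4 F327849 F211700 F165185 D196661 F363775 F239986 (iv5 F177045) (iv7 F363771) (iv2 F327848)
def n196662 : Q := act 6 n107182
theorem D196662 : act 6 n107182 = n196662 := rfl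
theorem F401396 : act 2 n196662 = n115482 := d3_1 D196662 (iv6 D115482) (iv2 F165199)
theorem F401397 : act 4 n196662 = n195540 := d10_1 D196662 (iv6 D195540) F165185
theorem F401398 : act 7 n196662 = n137036 := d14_2 (iv7 F165197) D196662 (iv6 D137036) F172050 F165798
theorem F401399 : act 5 n196662 = n192248 := d21_6 (iv5 F346058) D192960 F388343 F179487 (iv1 F165184) D196662 F386201 F245267 F111127 (iv1 F111095)
theorem F401400 : act 0 n115724 = n196662 := d17_0 F401399 F386201 F245267 F111126 (iv5 F95921) F97429 (iv5 F165208) (iv0 F165210) (iv4 F180049)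
def n196663 : Q := act 7 n107183
theorem D196663 : act 7 n107183 = n196663 := rfl
theorem F401401 : act 2 n196663 = n115486 := d4_1 D196663 (iv7 D115486) (iv2 F165186)
theorem F401402 : act 3 n196663 = n136157 := d8_1 D196663 (iv7 D136157) (iv3 F330549)
theorem F401403 : act 5 n196663 = n107184 := d13_1 D196663 (iv7 D107184) D107183
theorem F401404 : act 1 n115484 = n196663 := d15_1 D115484 (iv7 D196663) F165186
theorem F401405 : act 1 n196663 = n115483 := d15_1 F401404 F330541 (iv2 F330543)
def n196664 : Q := act 6 n107188
theorem D196664 : act 6 n107188 = n196664 := rfl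
theorem F401406 : act 2 n196664 = n142705 := d3_1 D196664 (iv6 D142705) F172109
theorem F401407 : act 3 n196664 = n107191 := d7_1 D196664 (iv6 D107191) D107188
def n196665 : Q := act 1 n107189
theorem D196665 : act 1 n107189 = n196665 := rfl
theorem F401408 : act 1 n196665 = n107194 := d15_1 D196665 (iv7 F398692) F398691
theorem F401409 : act 7 n196665 = n115273 := d15_2 (iv0 F165407) D196665 (iv2 F220503)
theorem F401410 : act 3 n115267 = n196665 := d20_9 (iv4 D107189) (iv1 F163676) F163673 (iv3 F179471) (iv1 F179476) D115455 (iv4 F331007) (iv1 D134198) (iv4 F362205) (iv1 D196665)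
def n196666 : Q := act 3 n107189
theorem D196666 : act 3 n107189 = n196666 := rfl
theorem F401411 : act 2 n196666 = n115580 := d0_1 D196666 (iv3 D115580) (iv2 F351375) (iv3 F398693) F398691
theorem F401412 : act 7 n196666 = n115616 := d8_2 F398684 D196666 (iv3 F398685)
theorem F401413 : act 0 n196666 = n115621 := d20_4 F78273 D49522 D107189 D196666 F179954 (iv4 F179981) (iv1 F179982) (iv4 F102801) (iv3 F165172) (iv1 D107176)
theorem F401414 : act 5 n108151 = n196666 := d2_0 F401411 F351405 (iv2 F167241)
theorem F401415 : act 6 n156034 = n196666 := d3_0 F401411 F351406 (iv2 F245152)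
theorem F401416 : act 6 n115616 = n156215 := d14_3 (iv7 F245153) F401415 F401412 F359955 F347955
theorem F401417 : act 0 n115617 = n196666 := d21_4 (iv5 D25850) D25847 D53330 (iv6 F336229) (iv6 F401415) (iv5 D156034) (iv1 F111049) (iv5 F339865) (iv6 D115657) (iv1 D53341)
def n196667 : Q := act 5 n107189
theorem D196667 : act 5 n107189 = n196667 := rfl
theorem F401418 : act 3 n196667 = n108151 := d6_1 D196667 F401414 (iv3 D196666)
theorem F401419 : act 6 n108150 = n196667 := d7_0 F401418 (iv6 D108151) D108150
def n196668 : Q := act 6 n107189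
theorem D196668 : act 6 n107189 = n196668 := rfl
theorem F401420 : act 3 n196668 = n156034 := d7_1 D196668 F401415 (iv3 D196666)
theorem F401421 : act 4 n196668 = n107191 := d10_1 D196668 (iv6 D107191) D107189
theorem F401422 : act 5 n196668 = n156027 := d12_1 D196668 (iv6 D156027) (iv5 F167239) F401419 (iv5 D196667)
def n196669 : Q := act 2 n107193
theorem D196669 : act 2 n107193 = n196669 := rfl
theorem F401423 : act 3 n196669 = n111079 := d0_2 D107193 D196669 (iv2 F172270) F172092 (iv2 F172112)
theorem F401424 : act 4 n196669 = n126925 := d1_2 F351324 D196669 F355498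
theorem F401425 : act 5 n196669 = n116389 := d2_2 (iv5 F172119) D196669 F181492
theorem F401426 : act 7 n196669 = n142703 := d4_2 F398688 D196669 (iv2 F398686)
theorem F401427 : act 1 n196669 = n127204 := d15_0 F398690 F398688 D196669
theorem F401428 : act 1 n110740 = n196669 := d15_0 F401427 (iv7 F225589) F225587
def n196670 : Q := act 5 n107194
theorem D196670 : act 5 n107194 = n196670 := rfl
theorem F401429 : act 3 n196670 = n115577 := d6_1 D196670 (iv5 D115577) F165213
def n196671 : Q := act 0 n107202
theorem D196671 : act 0 n107202 = n196671 := rfl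
theorem F401430 : act 4 n196671 = n193851 := d20_2 (iv4 F165218) D196671 F391204 F394298 (iv3 D194735) D194736 F394302 (iv4 F357295) F357299 F360688
theorem F401431 : act 6 n193850 = n196671 := d10_0 F401430 (iv6 D193851) D193850
theorem F401432 : act 7 n110742 = n196671 := d11_0 F401430 F391206 F221112
def n196672 : Q := act 2 n107202
theorem D196672 : act 2 n107202 = n196672 := rfl
theorem F401433 : act 3 n196672 = n111074 := d0_2 D107202 D196672 (iv2 F386816) (iv3 D127080) F103598
theorem F401434 : act 4 n196672 = n137422 := d1_2 (iv4 F165218) D196672 (iv2 D137422)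
def n196673 : Q := act 5 n107202
theorem D196673 : act 5 n107202 = n196673 := rfl
theorem F401435 : act 3 n196673 = n107203 := d6_1 D196673 (iv5 D107203) D107202
def n196674 : Q := act 0 n107203
theorem D196674 : act 0 n107203 = n196674 := rfl
theorem F401436 : act 5 n196674 = n144315 := d17_3 D49526 D107203 D196674 F227035 F175335 (iv0 D107215) (iv5 D49533) (iv0 D24173) (iv4 F37886)
theorem F401437 : act 6 n144316 = n140531 := d21_3 F401436 (iv1 D144315) D144316 (iv1 D140531) (iv6 D65954) D65953 (iv1 F339985) (iv5 F331556) F339933 D196674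
theorem F401438 : act 2 n196290 = n196674 := d15_3 (iv0 D196674) (iv0 F353086) (iv7 F400239)
theorem F401439 : act 1 n107205 = n196674 := d15_0 (iv0 D196674) (iv7 F204331) F204330
theorem F401440 : act 4 n196674 = n194618 := d18_7 (iv1 F395693) (iv4 D105252) (iv1 D48663) (iv4 F48582) D64079 (iv4 F347203) F401439 (iv0 F393844) (iv5 F395690)
theorem F401441 : act 6 n194342 = n196674 := d10_0 F401440 (iv6 D194618) (iv4 F392882)
theorem F401442 : act 5 n140531 = n144313 := d12_1 F401437 (iv6 D144313) (iv5 D67616) D67617 D144316
def n196675 : Q := act 4 n107203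
theorem D196675 : act 4 n107203 = n196675 := rfl
theorem F401443 : act 2 n196675 = n111956 := d1_1 D196675 F347201 F204321
theorem F401444 : act 5 n196675 = n111955 := d9_2 D107203 D196675 F173970 F161198 F329139 (iv5 D51208) (iv4 F102059) D107205 F347203 (iv5 D64079) F48582 D48665 F328779 (iv5 D51203) (iv4 F103596)
theorem F401445 : act 6 n196675 = n142469 := d10_2 F339933 D196675 F225384
theorem F401446 : act 7 n196675 = n136299 := d11_2 F204331 D196675 F347202
theorem F401447 : act 0 n196675 = n136301 := d17_0 (iv5 F353195) (iv1 D109297) D109299 F349524 (iv5 D144316) D144315 (iv5 F401436) (iv0 D196674) D196675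
theorem F401448 : act 1 n196675 = n136300 := d18_8 (iv1 F174030) (iv4 F175378) (iv1 F204595) (iv4 F394528) F394529 (iv4 F401440) (iv0 D196674) D196675 (iv5 F362623)
theorem F401449 : act 3 n189204 = n196675 := d8_3 F401446 (iv3 F322989) (iv7 F376069)
def n196676 : Q := act 1 n107204
theorem D196676 : act 1 n107204 = n196676 := rfl
theorem F401450 : act 7 n196676 = n111058 := d15_2 (iv0 F386818) D196676 F172256
theorem F401451 : act 2 n111077 = n196676 := d4_3 F401450 F172256 D111077
theorem F401452 : act 6 n111091 = n196676 := d14_5 F401450 (iv6 D111058) (iv7 F80820) D51235 D111091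
theorem F401453 : act 1 n127080 = n111058 := d15_1 (iv0 F393160) (iv7 F401450) (iv2 F401451)
theorem F401454 : act 1 n196676 = n111074 := d15_0 (iv0 D111074) D111077 F401451
def n196677 : Q := act 2 n107204
theorem D196677 : act 2 n107204 = n196677 := rfl
theorem F401455 : act 4 n196677 = n141263 := d1_2 (iv4 F165219) D196677 (iv2 D141263)
theorem F401456 : act 7 n196677 = n111074 := d4_2 F204320 D196677 (iv2 F386816)
theorem F401457 : act 1 n196677 = n111077 := d15_0 (iv0 F393160) F204320 D196677
theorem F401458 : act 1 n111058 = n196677 := d15_0 F401457 (iv7 D111077) (iv2 F172256)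
def n196678 : Q := act 5 n107204
theorem D196678 : act 5 n107204 = n196678 := rfl
theorem F401459 : act 3 n196678 = n107205 := d6_1 D196678 (iv5 D107205) D107204
theorem F401460 : act 7 n196678 = n195318 := d13_2 F204320 D196678 F396683
theorem F401461 : act 4 n196678 = n136306 := d16_2 (iv4 F165219) D196678 F219364 F162003 F93811 (iv4 F100695) D138022 F357361 (iv2 D141263)
theorem F401462 : act 0 n154732 = n196678 := d19_0 (iv5 D196678) F165219 (iv3 D66255) (iv1 D30958) D30959 D66260 (iv3 F328809) (iv1 F203281) F95171 F76890 (iv3 F99588) (iv1 F349488) F349490 (iv4 D117704) (iv3 F337297) F337294 F105406 (iv4 F110083) (iv3 F243408)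
def n196679 : Q := act 6 n107204
theorem D196679 : act 6 n107204 = n196679 := rfl
theorem F401463 : act 3 n196679 = n107206 := d7_1 D196679 (iv6 D107206) D107204
theorem F401464 : act 4 n196679 = n141265 := d10_1 D196679 (iv6 D141265) (iv4 F165219)
def n196680 : Q := act 3 n107207
theorem D196680 : act 3 n107207 = n196680 := rfl
theorem F401465 : act 5 n196680 = n128804 := d6_2 (iv5 F165221) D196680 (iv3 D128804)
def n196681 : Q := act 4 n107207
theorem D196681 : act 4 n107207 = n196681 := rfl
theorem F401466 : act 2 n196681 = n109299 := d1_1 D196681 F349524 F227038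
theorem F401467 : act 5 n196681 = n109298 := d9_2 (iv5 F165221) D196681 (iv4 F204592) (iv5 F328812) F165245 (iv5 F80792) (iv4 F104328) F165222 (iv4 F359480) (iv5 D111981) (iv4 F82173) F328854 F46403 D28766 D60576
theorem F401468 : act 7 n196681 = n193543 := d11_2 F398660 D196681 (iv4 F398662)
theorem F401469 : act 0 n196681 = n136297 := d17_0 (iv5 D136297) (iv1 D64077) D64079 (iv4 F347203) (iv5 D107205) F163643 (iv5 F398672) F398675 D196681
theorem F401470 : act 1 n196681 = n111034 := d18_6 (iv1 F207054) (iv4 D128801) (iv1 D60575) D60576 (iv5 F165221) D196681 (iv4 D111034) D111033 (iv5 F172199)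
def n196682 : Q := act 6 n107207
theorem D196682 : act 6 n107207 = n196682 := rfl
theorem F401471 : act 2 n196682 = n140531 := d3_1 D196682 (iv6 F401437) F227038
theorem F401472 : act 5 n196682 = n128809 := d12_1 D196682 (iv6 D128809) (iv5 D60578) (iv6 F95192) (iv5 F165221)
theorem F401473 : act 0 n196682 = n140525 := d21_4 (iv5 F400241) (iv1 D128803) (iv5 F165221) D196682 (iv6 D140525) D140524 (iv1 F331545) F331546 (iv6 F339932) (iv1 F400242)
theorem F401474 : act 1 n196682 = n140533 := d15_1 (iv0 F401473) (iv7 D140533) (iv2 F223673)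
def n196683 : Q := act 3 n107208
theorem D196683 : act 3 n107208 = n196683 := rfl
theorem F401475 : act 4 n196683 = n144410 := d5_2 F359480 D196683 F227192 F103687 (iv3 F174033)
theorem F401476 : act 5 n196683 = n145425 := d6_2 F165222 D196683 F228450
theorem F401477 : act 0 n196683 = n111076 := d19_4 (iv1 D111979) D111981 F359480 D196683 (iv5 D111076) (iv4 F172261) F380083 (iv1 D103454) F295239 F352456 (iv3 F352455) D195003 F395365 F323930 F255039 (iv1 D80002) F57227 (iv4 F119654) (iv3 F326098)
def n196684 : Q := act 6 n107208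
theorem D196684 : act 6 n107208 = n196684 := rfl
theorem F401478 : act 2 n196684 = n193542 := d3_1 D196684 F398664 (iv2 F398663)
theorem F401479 : act 4 n196684 = n127339 := d10_1 D196684 (iv6 F346859) F359480
theorem F401480 : act 5 n196684 = n145429 := d12_1 D196684 (iv6 D145429) (iv5 D68178) D68179 F165222
theorem F401481 : act 7 n193539 = n196684 := d11_0 F401479 F357180 D193539
theorem F401482 : act 5 n141865 = n193539 := d13_3 F401481 F401480 (iv7 F345309)
def n196685 : Q := act 0 n107209
theorem D196685 : act 0 n107209 = n196685 := rfl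
theorem F401483 : act 4 n196685 = n107289 := d18_3 (iv1 D107208) D107209 D196685 F165355 F112134 D106940 (iv4 F207058) F207057 F165222
theorem F401484 : act 1 n195090 = n196685 := d15_0 (iv0 D196685) (iv7 F331828) (iv2 F395724)
def n196686 : Q := act 1 n107209
theorem D196686 : act 1 n107209 = n196686 := rfl
theorem F401485 : act 1 n196686 = n195090 := d15_1 D196686 F398669 F398666
theorem F401486 : act 4 n196686 = n107290 := d17_9 (iv1 D107290) (iv5 D49574) (iv1 F102175) D107214 (iv4 F340043) (iv5 F395690) (iv0 D195080) F342871 D196686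
theorem F401487 : act 6 n143995 = n196686 := d21_3 (iv5 D112999) (iv1 F103318) D143995 (iv1 D196686) F165223 D196629 (iv1 F401266) (iv5 F401265) F401267 (iv1 F226652)
def n196687 : Q := act 4 n107212
theorem D196687 : act 4 n107212 = n196687 := rfl
theorem F401488 : act 2 n196687 = n137319 := d1_1 D196687 (iv4 D137319) (iv2 F165228)
theorem F401489 : act 7 n196687 = n137320 := d11_2 (iv7 F165230) D196687 (iv4 D137320)
theorem F401490 : act 0 n196687 = n129860 := d18_2 F217897 D196687 F208213 F166233 F344735 F344737 F204057 F214312 (iv5 F217896)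
theorem F401491 : act 1 n196687 = n129685 := d18_6 (iv1 D59418) (iv4 F93780) F165227 (iv4 D107211) D107212 D196687 F207866 (iv0 F203465) F203466
def n196688 : Q := act 0 n107213
theorem D196688 : act 0 n107213 = n196688 := rfl
def n196689 : Q := act 1 n107213
theorem D196689 : act 1 n107213 = n196689 := rfl
def n196690 : Q := act 0 n107214
theorem D196690 : act 0 n107214 = n196690 := rfl
theorem F401492 : act 5 n196690 = n128801 := d17_3 (iv1 F102175) D107214 D196690 (iv4 D128801) (iv5 F328775) F328772 (iv5 D59635) (iv0 D28297) (iv4 F37903)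
theorem F401493 : act 3 n196690 = n116171 := d20_5 F393156 (iv1 F158766) D192509 (iv3 F400229) D196690 (iv4 D116171) (iv1 F180962) (iv4 F330608) (iv3 F386662) (iv1 F393159)
theorem F401494 : act 1 n107220 = n196690 := d15_0 (iv0 D196690) (iv7 F172190) F172189
theorem F401495 : act 6 n147922 = n196690 := d21_9 (iv5 D107220) F102056 D49574 (iv6 F78441) (iv1 F331778) F155576 (iv5 F293127) D188880 F375125 (iv1 F401494)
def n196691 : Q := act 1 n107214
theorem D196691 : act 1 n107214 = n196691 := rfl
theorem F401496 : act 1 n196691 = n107220 := d15_1 D196691 (iv7 F172187) F172186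
theorem F401497 : act 5 n196691 = n128800 := d17_7 F165686 F165683 F165502 (iv5 D49533) D49532 D107214 D196691 (iv0 F207051) F167301
theorem F401498 : act 3 n137694 = n196691 := d20_3 F381935 F385728 F385727 (iv1 D196691) F400229 (iv4 D192509) (iv1 D100246) (iv4 F154230) (iv3 F386862) (iv1 F386867)
def n196692 : Q := act 3 n107217
theorem D196692 : act 3 n107217 = n196692 := rfl
theorem F401499 : act 5 n196692 = n195694 := d6_2 F342895 D196692 F397880
theorem F401500 : act 0 n196692 = n191665 := d20_4 F342853 F165502 D107217 D196692 F384085 F152018 D98621 (iv4 F383736) F161560 (iv1 F161211)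
theorem F401501 : act 1 n196692 = n195705 := d15_1 (iv0 F401500) F397900 F397686
def n196693 : Q := act 6 n107217
theorem D196693 : act 6 n107217 = n196693 := rfl
theorem F401502 : act 2 n196693 = n141285 := d3_1 D196693 (iv6 F398678) F398676
theorem F401503 : act 4 n196693 = n107218 := d10_1 D196693 (iv6 D107218) D107217
theorem F401504 : act 7 n196693 = n129085 := d14_2 (iv7 F211670) D196693 (iv6 D129085) (iv7 F102158) D132153
theorem F401505 : act 0 n196693 = n125842 := d21_4 D127090 (iv1 F342887) F342895 D196693 F202339 (iv5 D58930) F327087 D81512 (iv6 F328082) F165242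
theorem F401506 : act 1 n196693 = n128868 := d15_1 (iv0 F401505) (iv7 F211502) F360469
def n196694 : Q := act 1 n107219
theorem D196694 : act 1 n107219 = n196694 := rfl
theorem F401507 : act 7 n196694 = n107323 := d15_2 (iv0 F360689) D196694 F165385
theorem F401508 : act 3 n139621 = n196694 := d20_3 D116114 (iv1 F331022) (iv4 F331019) (iv1 D196694) (iv3 D107219) (iv4 D49537) (iv1 D24174) (iv4 F37886) (iv3 F78288) (iv1 F331816)
theorem F401509 : act 5 n196694 = n139617 := d6_2 D139621 F401508 F222774
theorem F401510 : act 6 n107359 = n196694 := d12_0 F401509 (iv6 D139617) D139616 (iv6 F387721) F388939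
theorem F401511 : act 0 n107341 = n196694 := d21_7 F357933 (iv1 D101150) (iv5 F332989) F79281 (iv1 F181251) D196335 (iv5 F400373) F401509 (iv6 D139617) D139613
theorem F401512 : act 2 n107344 = n196694 := d15_3 (iv0 F401511) (iv0 D107341) D107344
def n196695 : Q := act 2 n107219
theorem D196695 : act 2 n107219 = n196695 := rfl
theorem F401513 : act 7 n196695 = n107341 := d4_2 F172185 D196695 (iv2 F360692)
theorem F401514 : act 1 n196695 = n107344 := d15_0 (iv0 F389251) F172185 D196695
theorem F401515 : act 1 n107323 = n196695 := d15_0 F401514 (iv7 D107344) (iv2 F165385)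
def n196696 : Q := act 6 n107219
theorem D196696 : act 6 n107219 = n196696 := rfl
theorem F401516 : act 3 n196696 = n107221 := d7_1 D196696 (iv6 D107221) D107219
def n196697 : Q := act 4 n107220
theorem D196697 : act 4 n107220 = n196697 := rfl
theorem F401517 : act 5 n196697 = n195081 := d9_2 D107220 D196697 F395695 F342895 (iv4 D107217) (iv5 D49533) D49532 D107214 (iv4 F340043) (iv5 F395690) F395691 F355991 (iv4 D107222) (iv5 D49538) D49537
theorem F401518 : act 7 n196697 = n143977 := d11_2 F172187 D196697 (iv4 F340044)
theorem F401519 : act 1 n196697 = n194618 := d18_6 (iv1 F163644) F163641 (iv1 F77661) D49537 D107220 D196697 (iv4 F401440) (iv0 D196674) (iv5 D107203)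
theorem F401520 : act 3 n196697 = n194627 := d19_3 (iv1 F102057) D107220 D196697 (iv1 F393869) (iv5 D109257) (iv4 F81322) (iv3 D51544) F39290 D50538 (iv4 F80449) F84782 (iv1 D53774) D53775 (iv4 F334015) (iv3 F276259) (iv1 F393669) (iv5 D194544) (iv4 F356936) F172183
theorem F401521 : act 6 n195652 = n196697 := d7_0 F401520 F393868 (iv3 F397733)
def n196698 : Q := act 6 n107220
theorem D196698 : act 6 n107220 = n196698 := rfl
theorem F401522 : act 3 n196698 = n141981 := d7_1 D196698 (iv6 F400453) F400404
theorem F401523 : act 4 n196698 = n195652 := d10_1 D196698 F401521 (iv4 D196697)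
theorem F401524 : act 0 n142138 = n196698 := d21_4 D192914 (iv1 F388205) F228433 (iv6 F388152) (iv6 D196698) (iv5 D107220) F102056 D49574 (iv6 F78441) (iv1 F331778)
theorem F401525 : act 0 n196698 = n189599 := d20_7 (iv4 D46634) (iv1 F73653) (iv4 F74600) D102023 (iv1 F348026) (iv3 F397733) (iv4 F401523) F377069 (iv3 D189162) F294827
theorem F401526 : act 0 n190906 = n193310 := d21_1 (iv5 F381505) (iv5 D193310) D193311 F397744 (iv6 F363390) F172204 (iv1 F102057) D107220 D196698 F401525
def n196699 : Q := act 5 n107221
theorem D196699 : act 5 n107221 = n196699 := rfl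
theorem F401527 : act 0 n196699 = n144490 := d17_2 (iv1 F211349) D196699 (iv5 D144490) (iv4 D67709) (iv5 F96482) (iv0 F96484) F95137 (iv0 F96449) (iv4 F165438)
theorem F401528 : act 1 n196699 = n125479 := d17_6 F39773 D49419 D106968 F164878 (iv4 F165239) D196699 (iv5 D125479) (iv0 F92822) F50032
def n196700 : Q := act 0 n107226
theorem D196700 : act 0 n107226 = n196700 := rfl
theorem F401529 : act 6 n196700 = n128693 := d21_5 F358361 F348991 F211424 (iv6 F165248) D196700 F341951 (iv1 F330384) (iv5 D135690) F99175 (iv1 F358359)
def n196701 : Q := act 1 n107226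
theorem D196701 : act 1 n107226 = n196701 := rfl
theorem F401530 : act 4 n196701 = n146458 := d17_9 (iv1 D146458) D146460 F398150 (iv5 D195781) (iv4 F398128) (iv5 F398129) (iv0 D195089) F342868 D196701
theorem F401531 : act 5 n113652 = n196701 := d21_6 D78609 D163606 F257872 F362482 (iv1 F277847) (iv6 F356013) (iv1 D196701) (iv5 F342868) F353616 (iv1 D78607)
theorem F401532 : act 3 n196701 = n113654 := d6_1 F401531 (iv5 D113654) D113652
def n196702 : Q := act 2 n107226
theorem D196702 : act 2 n107226 = n196702 := rfl
theorem F401533 : act 5 n196702 = n166598 := d2_2 F342868 D196702 (iv2 F353614)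
theorem F401534 : act 6 n196702 = n195936 := d3_2 (iv6 F165248) D196702 (iv2 D195936)
def n196703 : Q := act 7 n107226
theorem D196703 : act 7 n107226 = n196703 := rfl
theorem F401535 : act 3 n196703 = n107228 := d8_1 D196703 (iv7 D107228) D107226
theorem F401536 : act 4 n196703 = n135727 := d11_1 D196703 F218238 F209227
theorem F401537 : act 5 n196703 = n195075 := d13_1 D196703 F395674 F342868
theorem F401538 : act 0 n135823 = n135727 := d20_1 F359051 (iv4 F401536) F401535 (iv1 F165251) (iv3 F328468) (iv4 D31518) F24512 (iv4 F40201) (iv3 F82727) D113392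
def n196704 : Q := act 6 n107233
theorem D196704 : act 6 n107233 = n196704 := rfl
theorem F401539 : act 2 n196704 = n195462 := d3_1 D196704 (iv6 D195462) (iv2 F172168)
theorem F401540 : act 3 n196704 = n195516 := d7_1 D196704 (iv6 D195516) F396694
theorem F401541 : act 4 n196704 = n140681 := d10_1 D196704 (iv6 F358698) F172165
theorem F401542 : act 1 n195520 = n196704 := d18_6 (iv1 D50301) F38516 D24535 D50307 D108963 (iv4 F397205) F401541 F223770 (iv5 D108956)
theorem F401543 : act 0 n107399 = n111018 := d20_4 F80711 (iv1 F50019) (iv4 F163977) D107399 (iv3 F358701) (iv4 F401541) (iv1 F401542) F397205 F351098 (iv1 F80838)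
theorem F401544 : act 1 n107399 = n196463 := d15_1 (iv0 F401543) F400756 (iv2 F172172)
def n196705 : Q := act 5 n107234
theorem D196705 : act 5 n107234 = n196705 := rfl
theorem F401545 : act 2 n196705 = n107235 := d2_1 D196705 (iv5 D107235) D107234
theorem F401546 : act 3 n196705 = n195480 := d6_1 D196705 (iv5 D195480) (iv3 F165275)
theorem F401547 : act 7 n196705 = n195465 := d13_2 (iv7 F165277) D196705 (iv5 D195465)
theorem F401548 : act 1 n196705 = n195466 := d17_6 D49497 F180733 (iv1 F82132) (iv5 F78311) (iv4 F165276) D196705 (iv5 F401187) (iv0 D107125) F78239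
theorem F401549 : act 6 n196600 = n196705 := d21_5 (iv5 F401198) (iv1 D196597) (iv5 D107128) D107129 D196600 (iv5 D196705) (iv1 F165280) D195463 (iv6 F397069) (iv1 F165279)
theorem F401550 : act 1 n195467 = n196705 := d15_1 D195467 F401547 F397070
def n196706 : Q := act 6 n107234
theorem D196706 : act 6 n107234 = n196706 := rfl
theorem F401551 : act 2 n196706 = n107236 := d3_1 D196706 (iv6 D107236) D107234
theorem F401552 : act 3 n196706 = n195481 := d7_1 D196706 (iv6 D195481) (iv3 F165275)
theorem F401553 : act 4 n196706 = n107251 := d10_1 D196706 (iv6 D107251) (iv4 F165276)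
def n196707 : Q := act 0 n107235
theorem D196707 : act 0 n107235 = n196707 := rfl
theorem F401554 : act 3 n196707 = n145656 := d20_5 F101144 (iv1 F79970) F79969 (iv3 F165281) D196707 F228677 (iv1 D133344) (iv4 F342914) F162177 (iv1 F101146)
theorem F401555 : act 1 n195465 = n196707 := d15_0 (iv0 D196707) F165282 (iv2 F397070)
theorem F401556 : act 5 n196707 = n109274 := d17_7 D59116 F166899 (iv1 F82135) (iv5 F163628) F163627 D195465 F401555 (iv0 D109274) F79799
theorem F401557 : act 2 n195467 = n196707 := d2_3 F401556 (iv2 F180742) (iv5 F397072)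
theorem F401558 : act 7 n195466 = n196707 := d13_0 F401556 (iv7 F180744) F401187
def n196708 : Q := act 1 n107235
theorem D196708 : act 1 n107235 = n196708 := rfl
theorem F401559 : act 1 n196708 = n195465 := d15_1 D196708 (iv7 F401547) F401545
theorem F401560 : act 7 n196708 = n195467 := d15_2 (iv0 D196707) D196708 F401557
theorem F401561 : act 5 n196708 = n109275 := d17_7 (iv1 F93290) F182523 (iv1 D49465) (iv5 F37899) (iv4 F78303) D107235 D196708 F169278 F165109
theorem F401562 : act 2 n195466 = n196708 := d2_3 F401561 F180743 F401187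
def n196709 : Q := act 4 n107235
theorem D196709 : act 4 n107235 = n196709 := rfl
theorem F401563 : act 7 n196709 = n195468 := d11_2 (iv7 F165282) D196709 (iv4 D195468)
def n196710 : Q := act 6 n107235
theorem D196710 : act 6 n107235 = n196710 := rfl
theorem F401564 : act 2 n196710 = n196600 := d3_1 D196710 F401549 F401545
theorem F401565 : act 3 n196710 = n107237 := d7_1 D196710 (iv6 D107237) (iv3 F165281)
theorem F401566 : act 7 n196710 = n196601 := d14_2 (iv7 F165282) D196710 (iv6 F401205) F397086 (iv6 D195469)
theorem F401567 : act 0 n140638 = n196710 := d21_4 D195461 (iv1 F401194) (iv5 D196596) (iv6 F364955) (iv6 D196710) (iv5 D107235) D107232 F347204 (iv6 D105613) D105609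
def n196711 : Q := act 0 n107236
theorem D196711 : act 0 n107236 = n196711 := rfl
theorem F401568 : act 3 n196711 = n193923 := d20_5 F166500 (iv1 D49548) (iv4 F78309) (iv3 F165283) D196711 (iv4 D193923) F329324 (iv4 F221045) (iv3 F396658) (iv1 F396662)
def n196712 : Q := act 1 n107236
theorem D196712 : act 1 n107236 = n196712 := rfl
theorem F401569 : act 3 n195518 = n196712 := d20_3 F396832 (iv1 F390457) (iv4 F397202) (iv1 D196712) F165283 F78309 D49547 (iv4 F166137) D195448 F397011
def n196713 : Q := act 5 n107236
theorem D196713 : act 5 n107236 = n196713 := rfl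
theorem F401570 : act 3 n196713 = n107239 := d6_1 D196713 (iv5 D107239) (iv3 F165283)
def n196714 : Q := act 7 n107236
theorem D196714 : act 7 n107236 = n196714 := rfl
theorem F401571 : act 3 n196714 = n107240 := d8_1 D196714 (iv7 D107240) (iv3 F165283)
theorem F401572 : act 4 n196714 = n107255 := d11_1 D196714 (iv7 D107255) (iv4 F165284)
theorem F401573 : act 6 n196714 = n195461 := d14_1 D196714 F397063 (iv6 D105613) (iv7 F78304) D107236
def n196715 : Q := act 0 n107237
theorem D196715 : act 0 n107237 = n196715 := rfl
def n196716 : Q := act 1 n107237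
theorem D196716 : act 1 n107237 = n196716 := rfl
theorem F401574 : act 1 n196716 = n195492 := d15_1 D196716 (iv7 D195492) (iv2 F165285)
theorem F401575 : act 4 n196716 = n194373 := d20_8 F392512 (iv1 F385577) F385576 (iv3 F390874) F390877 (iv3 F352927) (iv4 F397133) (iv1 F401574) F392965 (iv1 F392508)
theorem F401576 : act 2 n195490 = n196716 := d1_3 F401575 F392964 F397129
theorem F401577 : act 7 n194371 = n196716 := d11_0 F401575 (iv7 D194373) (iv4 F392962)
theorem F401578 : act 2 n194371 = n196715 := d15_3 (iv0 D196715) D196716 (iv7 F401577)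
theorem F401579 : act 4 n196715 = n194367 := d1_2 (iv4 F392962) F401578 F392953
theorem F401580 : act 6 n196715 = n194366 := d3_2 D194371 F401578 F392951
theorem F401581 : act 7 n196715 = n195490 := d4_2 (iv7 F401577) F401578 F401576
theorem F401582 : act 1 n195492 = n196715 := d15_1 F401574 F401581 F401576
def n196717 : Q := act 5 n107237
theorem D196717 : act 5 n107237 = n196717 := rfl
theorem F401583 : act 2 n196717 = n195491 := d2_1 D196717 (iv5 D195491) (iv2 F165285)
theorem F401584 : act 6 n196717 = n107239 := d12_2 D107237 D196717 (iv5 D107239) (iv6 D49546) D49545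
theorem F401585 : act 4 n163075 = n196717 := d10_3 F401584 F344890 (iv6 F353970)
def n196718 : Q := act 7 n107237
theorem D196718 : act 7 n107237 = n196718 := rfl
theorem F401586 : act 2 n196718 = n195492 := d4_1 D196718 (iv7 D195492) (iv2 F165285)
theorem F401587 : act 3 n196718 = n196601 := d8_1 D196718 (iv7 F401566) F401565
theorem F401588 : act 6 n196718 = n195474 := d14_1 D196718 (iv7 D195474) (iv6 D105614) (iv7 F78306) D107237
theorem F401589 : act 1 n195490 = n196718 := d15_1 D195490 (iv7 D196718) F165285
theorem F401590 : act 1 n196718 = n194371 := d15_1 F401589 F401577 (iv2 F401576)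
def n196719 : Q := act 3 n107238
theorem D196719 : act 3 n107238 = n196719 := rfl
theorem F401591 : act 7 n196719 = n195458 := d8_2 F166100 D196719 (iv3 D195458)
def n196720 : Q := act 5 n107238
theorem D196720 : act 5 n107238 = n196720 := rfl
theorem F401592 : act 2 n196720 = n195456 := d2_1 D196720 (iv5 D195456) F166106
theorem F401593 : act 7 n196720 = n195459 := d13_2 F166100 D196720 (iv5 D195459)
theorem F401594 : act 1 n196720 = n156042 := d17_6 (iv1 D49912) (iv5 F45660) D59422 (iv5 F161989) F166066 D196720 (iv5 D156042) (iv0 F167091) (iv4 D108071)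
def n196721 : Q := act 6 n107238
theorem D196721 : act 6 n107238 = n196721 := rfl
theorem F401595 : act 2 n196721 = n195457 := d3_1 D196721 (iv6 D195457) F166106
theorem F401596 : act 4 n196721 = n112738 := d10_1 D196721 F175511 F166066
theorem F401597 : act 0 n196721 = n195525 := d21_4 D156042 (iv1 F401594) (iv5 D196720) D196721 (iv6 D195525) D195524 F397214 (iv5 F351850) F227567 F167091
def n196722 : Q := act 0 n107239
theorem D196722 : act 0 n107239 = n196722 := rfl
theorem F401598 : act 5 n196722 = n126913 := d17_3 F104362 D107239 D196722 (iv4 D126913) (iv5 F93987) (iv0 D49730) (iv5 F76822) (iv0 F166071) D59684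
theorem F401599 : act 2 n195493 = n196722 := d15_3 (iv0 D196722) (iv0 F247404) F397138
theorem F401600 : act 1 n195495 = n196722 := d15_0 (iv0 D196722) (iv7 F362458) (iv2 F397143)
theorem F401601 : act 7 n196722 = n195494 := d15_2 F397146 F401600 (iv2 F397142)
theorem F401602 : act 6 n196722 = n144460 := d3_2 F397137 F401599 F227273
def n196723 : Q := act 1 n107242
theorem D196723 : act 1 n107242 = n196723 := rfl
theorem F401603 : act 1 n196723 = n138646 := d15_1 D196723 (iv7 F401219) F401216
theorem F401604 : act 7 n196723 = n107421 := d15_2 (iv0 F245607) D196723 (iv2 F245602)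
theorem F401605 : act 5 n111291 = n196723 := d21_0 (iv1 D196723) F168798 (iv6 F170915) (iv1 D64464) F48785 (iv5 D14408) D14407 (iv5 F39279) D51330 D111291
theorem F401606 : act 6 n141306 = n196723 := d21_3 (iv5 F83826) F168431 (iv5 F224328) (iv1 D196723) (iv6 D107242) F163543 (iv1 F163536) (iv5 F111066) F111067 (iv1 D65429)
theorem F401607 : act 2 n196723 = n112135 := d3_1 F401606 (iv6 F216427) F224329
theorem F401608 : act 3 n196723 = n107273 := d7_1 F401606 (iv6 F165327) F224332
def n196724 : Q := act 0 n107244
theorem D196724 : act 0 n107244 = n196724 := rfl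
theorem F401609 : act 4 n196724 = n107378 := d18_3 D49550 D107244 D196724 (iv5 F401052) (iv4 F401088) (iv0 D196561) (iv4 D107079) (iv0 D49464) (iv5 F37899)
theorem F401610 : act 3 n196724 = n126660 := d20_5 (iv4 F102984) (iv1 F102939) D116397 F181512 D196724 (iv4 D126660) D126658 (iv4 F224386) (iv3 D141350) F102214
theorem F401611 : act 1 n107248 = n196724 := d15_0 (iv0 D196724) (iv7 F225641) (iv2 F225642)
theorem F401612 : act 7 n195929 = n196724 := d11_0 F401609 (iv7 F359157) D195929
def n196725 : Q := act 1 n107244
theorem D196725 : act 1 n107244 = n196725 := rfl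
theorem F401613 : act 1 n196725 = n107248 := d15_1 D196725 (iv7 F396993) F396991
theorem F401614 : act 4 n195928 = n196725 := d20_0 (iv1 D196725) (iv4 D107244) F84647 (iv1 F172308) (iv3 D111106) (iv4 F80831) (iv1 F219213) D137780 (iv3 F397058) (iv1 F398752)
theorem F401615 : act 2 n196725 = n195929 := d1_1 F401614 (iv4 D195929) D195928
theorem F401616 : act 3 n196725 = n133992 := d20_3 D195460 (iv1 F398752) F401614 (iv1 D133992) (iv3 D62942) (iv4 D29775) F37504 (iv4 F37502) D48827 D105609
def n196726 : Q := act 5 n107244
theorem D196726 : act 5 n107244 = n196726 := rfl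
def n196727 : Q := act 6 n107247
theorem D196727 : act 6 n107247 = n196727 := rfl
theorem F401617 : act 3 n196727 = n107250 := d7_1 D196727 (iv6 D107250) D107247
theorem F401618 : act 5 n140686 = n196727 := d6_0 F401617 F331101 D140686
def n196728 : Q := act 5 n107248
theorem D196728 : act 5 n107248 = n196728 := rfl
def n196729 : Q := act 6 n107248
theorem D196729 : act 6 n107248 = n196729 := rfl
theorem F401619 : act 4 n196729 = n107250 := d10_1 D196729 (iv6 D107250) D107248
theorem F401620 : act 5 n140653 = n196729 := d16_5 F175463 (iv5 F204373) (iv4 F223753) (iv5 D140654) D140653 F401619 F331101 (iv7 F175473) (iv2 F175474)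
def n196730 : Q := act 3 n107253
theorem D196730 : act 3 n107253 = n196730 := rfl
theorem F401621 : act 4 n193239 = n196730 := d20_2 F389239 D193239 (iv3 D196730) (iv1 D107253) F78312 F37900 D24182 D49560 D107268 F389241
def n196731 : Q := act 4 n107253
theorem D196731 : act 4 n107253 = n196731 := rfl
def n196732 : Q := act 6 n107253
theorem D196732 : act 6 n107253 = n196732 := rfl
theorem F401622 : act 5 n140710 = n196732 := d21_2 F223788 D140710 (iv6 D196732) (iv1 D107253) (iv6 D49553) F37899 D49464 (iv5 F166899) D126155 F365132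
def n196733 : Q := act 0 n107257
theorem D196733 : act 0 n107257 = n196733 := rfl
theorem F401623 : act 2 n111091 = n196733 := d15_3 (iv0 D196733) F393619 D111091
theorem F401624 : act 6 n196733 = n111077 := d3_2 (iv6 F401452) F401623 F401451
theorem F401625 : act 7 n196733 = n111078 := d4_2 D111091 F401623 F172268
theorem F401626 : act 1 n111089 = n196733 := d15_1 D111089 F401625 F172268
theorem F401627 : act 2 n195916 = n111089 := d15_3 F401626 (iv0 D196733) (iv7 F398718)
theorem F401628 : act 4 n189152 = n196733 := d10_3 F401624 F386874 F386872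
def n196734 : Q := act 2 n107257
theorem D196734 : act 2 n107257 = n196734 := rfl
theorem F401629 : act 3 n196734 = n193224 := d0_2 D107257 D196734 (iv2 F398711) (iv3 D195914) F166403
theorem F401630 : act 7 n196734 = n111089 := d4_2 F398718 D196734 (iv2 F401627)
theorem F401631 : act 1 n196734 = n111078 := d15_0 (iv0 F400445) F398718 D196734
theorem F401632 : act 1 n111091 = n196734 := d15_0 F401631 (iv7 F401625) (iv2 F401623)
theorem F401633 : act 4 n194025 = n196734 := d5_0 F401629 (iv4 D193224) F362213 (iv4 F362215) D194025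
def n196735 : Q := act 4 n107257
theorem D196735 : act 4 n107257 = n196735 := rfl
theorem F401634 : act 2 n196735 = n194025 := d1_1 D196735 F401633 (iv2 D196734)
theorem F401635 : act 3 n196735 = n110872 := d5_1 D196735 (iv4 D110872) F166201 (iv4 F163694) D107257
theorem F401636 : act 7 n196735 = n116269 := d11_2 F398718 D196735 (iv4 F398717)
theorem F401637 : act 6 n148968 = n196735 := d7_0 F401635 F332943 (iv3 F234109)
theorem F401638 : act 0 n110896 = n196735 := d21_4 D139466 (iv1 F224265) (iv5 D110895) D110896 (iv6 F401637) (iv5 D148968) F232803 (iv5 F236295) (iv6 F362369) (iv1 F180521)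
def n196736 : Q := act 5 n107257
theorem D196736 : act 5 n107257 = n196736 := rfl
theorem F401639 : act 3 n196736 = n107258 := d6_1 D196736 (iv5 D107258) D107257
def n196737 : Q := act 6 n107257
theorem D196737 : act 6 n107257 = n196737 := rfl
theorem F401640 : act 3 n196737 = n107259 := d7_1 D196737 (iv6 D107259) D107257
theorem F401641 : act 4 n196737 = n148968 := d10_1 D196737 F401637 (iv4 D196735)
theorem F401642 : act 1 n193485 = n196737 := d18_6 (iv1 F301980) F163050 (iv1 F321072) F156772 D101815 D193485 F401641 (iv0 F361475) (iv5 D154110)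
def n196738 : Q := act 1 n107261
theorem D196738 : act 1 n107261 = n196738 := rfl
theorem F401643 : act 7 n196738 = n110744 := d15_2 F371286 D196738 (iv2 F172304)
theorem F401644 : act 4 n187711 = n196738 := d20_0 (iv1 D196738) F165308 (iv3 D64674) (iv1 D30427) (iv3 F329048) D22778 (iv1 F74599) F74600 D99829 F371276
theorem F401645 : act 2 n196738 = n193850 := d1_1 F401644 (iv4 D193850) (iv2 F371272)
theorem F401646 : act 1 n196738 = n193224 := d18_6 (iv1 D101187) (iv4 F138848) D187494 F370572 D187711 F401644 (iv4 D193224) F362211 F362209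
def n196739 : Q := act 2 n107261
theorem D196739 : act 2 n107261 = n196739 := rfl
theorem F401647 : act 3 n196739 = n111089 := d0_2 D107261 D196739 (iv2 F401627) (iv3 D195916) F166412
theorem F401648 : act 4 n196739 = n137601 := d1_2 (iv4 F165308) D196739 (iv2 D137601)
theorem F401649 : act 7 n196739 = n193224 := d4_2 F398708 D196739 (iv2 F398711)
theorem F401650 : act 1 n196739 = n193850 := d15_0 (iv0 F398709) F398708 D196739
theorem F401651 : act 1 n110744 = n196739 := d15_0 F401650 F391202 F172304
def n196740 : Q := act 5 n107261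
theorem D196740 : act 5 n107261 = n196740 := rfl
theorem F401652 : act 3 n196740 = n107262 := d6_1 D196740 (iv5 D107262) D107261
def n196741 : Q := act 4 n107262
theorem D196741 : act 4 n107262 = n196741 := rfl
theorem F401653 : act 5 n196741 = n114236 := d9_2 D107262 D196741 F353120 (iv5 D127124) (iv4 D59671) F82339 (iv4 F163694) D107258 (iv4 F339929) F178302 (iv4 F352674) (iv5 D127127) (iv4 D59675) (iv5 F80801) (iv4 F163690)
theorem F401654 : act 7 n196741 = n127789 := d11_2 F398714 D196741 (iv4 F398715)
theorem F401655 : act 0 n196741 = n157171 := d17_0 (iv5 F350576) F234602 (iv5 F94496) (iv4 F205596) F339918 F164840 F360111 F360115 D196741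
theorem F401656 : act 6 n196001 = n196741 := d21_9 (iv5 F350576) F234602 (iv5 F94496) (iv6 D60016) (iv1 F77741) (iv6 F163775) (iv5 D106513) D106511 D196001 F401655
theorem F401657 : act 3 n114241 = n196741 := d8_3 F401654 F359296 F251108
def n196742 : Q := act 6 n107262
theorem D196742 : act 6 n107262 = n196742 := rfl
theorem F401658 : act 4 n196742 = n196001 := d10_1 D196742 F401656 (iv4 D196741)
theorem F401659 : act 0 n196742 = n108683 := d21_4 F398725 (iv1 F163689) D107262 D196742 (iv6 D108683) (iv5 D50179) D50176 D108670 F356736 (iv1 F398728)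
theorem F401660 : act 0 n179712 = n196742 := d21_4 (iv5 F201798) F201800 (iv5 F371918) (iv6 F371921) (iv6 D196742) (iv5 D107262) (iv1 D49555) D49556 F78313 D107097
def n196743 : Q := act 3 n107264
theorem D196743 : act 3 n107264 = n196743 := rfl
theorem F401661 : act 5 n196743 = n196407 := d6_2 (iv5 F165310) D196743 (iv3 D196407)
def n196744 : Q := act 3 n107265
theorem D196744 : act 3 n107265 = n196744 := rfl
theorem F401662 : act 4 n196744 = n159479 := d5_2 (iv4 F339921) D196744 (iv3 D159479) (iv4 D76287) (iv3 F83356)
theorem F401663 : act 5 n196744 = n193222 := d6_2 (iv5 F165311) D196744 F389232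
theorem F401664 : act 6 n196744 = n114334 := d7_2 (iv6 F339922) D196744 (iv3 D114334)
def n196745 : Q := act 6 n107267
theorem D196745 : act 6 n107267 = n196745 := rfl
theorem F401665 : act 2 n196745 = n138460 := d3_1 D196745 (iv6 F398726) F398722
theorem F401666 : act 5 n196745 = n138459 := d12_1 D196745 (iv6 F398673) F398672 F163642 (iv5 F165313)
theorem F401667 : act 7 n196745 = n196582 := d14_2 D107267 D196745 (iv6 D196582) (iv7 D107100) (iv6 F78313)
def n196746 : Q := act 2 n107268
theorem D196746 : act 2 n107268 = n196746 := rfl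
theorem F401668 : act 4 n196746 = n141983 := d1_2 (iv4 F165314) D196746 (iv2 D141983)
theorem F401669 : act 7 n196746 = n107357 := d4_2 F172230 D196746 (iv2 F389246)
theorem F401670 : act 1 n196746 = n107345 := d15_0 (iv0 F388933) F172230 D196746
theorem F401671 : act 1 n107359 = n196746 := d15_0 F401670 (iv7 F389240) (iv2 F389242)
def n196747 : Q := act 5 n107268
theorem D196747 : act 5 n107268 = n196747 := rfl
theorem F401672 : act 3 n196747 = n107269 := d6_1 D196747 (iv5 D107269) D107268
theorem F401673 : act 6 n196747 = n193099 := d12_2 (iv6 F388221) D196747 F388743 (iv6 D192919) (iv5 F388216)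
def n196748 : Q := act 5 n107271
theorem D196748 : act 5 n107271 = n196748 := rfl
theorem F401674 : act 2 n196748 = n127114 := d2_1 D196748 (iv5 D127114) (iv2 F165317)
theorem F401675 : act 3 n196748 = n194051 := d6_1 D196748 (iv5 D194051) (iv3 F362229)
theorem F401676 : act 7 n196748 = n127117 := d13_2 (iv7 F165318) D196748 (iv5 D127117)
theorem F401677 : act 1 n196748 = n112846 := d17_6 (iv1 D29005) F23054 D24182 D49561 D107271 D196748 (iv5 D112846) F104360 (iv4 D61273)
theorem F401678 : act 6 n196748 = n127593 := d21_3 F350557 (iv1 F165319) D196748 (iv1 F316659) (iv6 D97208) F71678 (iv1 F36274) (iv5 F56636) D78993 (iv1 F350555)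
theorem F401679 : act 4 n151645 = n196748 := d10_3 F401678 F347763 D151645
theorem F401680 : act 0 n130589 = n151645 := d18_2 F204378 D130589 F401679 (iv5 D196748) (iv4 D107271) (iv0 F82462) (iv4 F95010) (iv0 F163546) D127127
def n196749 : Q := act 6 n107271
theorem D196749 : act 6 n107271 = n196749 := rfl
theorem F401681 : act 2 n196749 = n127115 := d3_1 D196749 (iv6 D127115) (iv2 F165317)
theorem F401682 : act 3 n196749 = n158856 := d7_1 D196749 (iv6 F364235) (iv3 F362229)
theorem F401683 : act 4 n196749 = n107272 := d10_1 D196749 (iv6 D107272) D107271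
theorem F401684 : act 5 n196749 = n117027 := d12_1 D196749 F346884 (iv5 F347764) (iv6 F401678) (iv5 D196748)
theorem F401685 : act 0 n196749 = n126178 := d21_4 D112846 (iv1 F401677) (iv5 D196748) D196749 F202908 D127339 (iv1 F357171) (iv5 F357172) (iv6 D130594) (iv1 F104360)
theorem F401686 : act 1 n196749 = n126175 := d15_1 (iv0 F401685) (iv7 F397847) F397845
theorem F401687 : act 3 n193944 = n173825 := d20_3 F391235 (iv1 F385923) D193944 F300475 (iv3 F401682) F401683 (iv1 F168340) (iv4 F221457) (iv3 F365682) D193489
theorem F401688 : act 5 n173824 = n193944 := d6_0 F401687 (iv5 D173825) D173824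
def n196750 : Q := act 0 n107275
theorem D196750 : act 0 n107275 = n196750 := rfl
def n196751 : Q := act 1 n107275
theorem D196751 : act 1 n107275 = n196751 := rfl
def n196752 : Q := act 2 n107275
theorem D196752 : act 2 n107275 = n196752 := rfl
theorem F401689 : act 3 n196752 = n107357 := d0_2 D107275 D196752 (iv2 F389246) (iv3 D111046) (iv2 F104358)
def n196753 : Q := act 5 n107275
theorem D196753 : act 5 n107275 = n196753 := rfl
theorem F401690 : act 3 n196753 = n107276 := d6_1 D196753 (iv5 D107276) D107275
def n196754 : Q := act 4 n107276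
theorem D196754 : act 4 n107276 = n196754 := rfl
theorem F401691 : act 7 n196754 = n114508 := d11_2 F172220 D196754 F339969
theorem F401692 : act 5 n196754 = n151645 := d16_1 D196754 F401679 (iv5 D196748) (iv4 D107271) (iv5 D49561) D49560 D107269 (iv7 F172232) F172231
theorem F401693 : act 3 n151653 = n196754 := d6_3 F401692 F238509 D151653
theorem F401694 : act 6 n195979 = n196754 := d12_0 F401692 (iv6 D151645) D151644 F342970 D195979
theorem F401695 : act 0 n151653 = n114901 := d19_4 (iv1 F104357) D107276 D196754 (iv3 F401693) (iv5 D114901) D114900 F178978 F191341 (iv5 F383504) F383502 (iv3 F362740) F280235 F241343 F109135 F52834 F190099 F318494 (iv4 F102895) F102894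
def n196755 : Q := act 6 n107276
theorem D196755 : act 6 n107276 = n196755 := rfl
theorem F401696 : act 4 n196755 = n195979 := d10_1 D196755 F401694 (iv4 D196754)
theorem F401697 : act 0 n184567 = n196755 := d21_4 F165775 (iv1 F345172) F294312 (iv6 F286555) (iv6 D196755) (iv5 D107276) F104356 D49583 (iv6 F78405) D107459
def n196756 : Q := act 5 n107277
theorem D196756 : act 5 n107277 = n196756 := rfl
theorem F401698 : act 2 n196756 = n127117 := d2_1 D196756 (iv5 D127117) (iv2 F165330)
theorem F401699 : act 4 n196756 = n114847 := d9_1 D196756 (iv5 F248600) (iv4 F339970) (iv5 D107269) (iv4 D49560) D49561 D107271 D196748 (iv4 F401679) (iv5 F401692) (iv4 D196754) (iv5 D107276) (iv4 D49565) D49566 D107277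
theorem F401700 : act 7 n196756 = n127114 := d13_2 (iv7 F165331) D196756 (iv5 D127114)
theorem F401701 : act 0 n196756 = n112846 := d17_2 (iv1 F165332) D196756 (iv5 D112846) F82328 F39942 D49676 F94057 F94056 (iv4 F94070)
theorem F401702 : act 6 n196756 = n114846 := d21_3 F350566 (iv1 F165332) D196756 (iv1 F379548) F379546 (iv5 D102262) (iv1 D47461) D47463 D102270 F357185
def n196757 : Q := act 1 n107278
theorem D196757 : act 1 n107278 = n196757 := rfl
theorem F401703 : act 1 n196757 = n107346 := d15_1 D196757 (iv7 F401344) F401342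
theorem F401704 : act 7 n196757 = n107347 := d15_2 F165402 D196757 (iv2 D107347)
theorem F401705 : act 3 n107326 = n196757 := d19_19 (iv1 D196757) (iv5 F172096) F165359 F396698 (iv1 D195322) (iv5 F166978) F166977 (iv3 F339875) F357073 (iv5 F168786) F168785 (iv3 D59411) F48698 (iv5 F93943) F93944 (iv3 F100291) F330976 (iv5 F330978) F336138
theorem F401706 : act 4 n196665 = n196757 := d20_0 (iv1 D196757) F165337 D115500 (iv1 F181458) (iv3 F326824) F326825 F351323 F351321 F165213 (iv1 F401408)
theorem F401707 : act 2 n196757 = n107320 := d0_1 F401705 (iv3 D107320) (iv2 D49586) D49587 D107326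
def n196758 : Q := act 5 n107284
theorem D196758 : act 5 n107284 = n196758 := rfl
theorem F401708 : act 2 n196758 = n107287 := d2_1 D196758 (iv5 D107287) (iv2 F165349)
def n196759 : Q := act 3 n107286
theorem D196759 : act 3 n107286 = n196759 := rfl
def n196760 : Q := act 0 n107287
theorem D196760 : act 0 n107287 = n196760 := rfl
theorem F401709 : act 3 n196760 = n139620 := d20_5 F398662 F390206 (iv4 D107291) (iv3 F165351) D196760 (iv4 F226750) F226748 (iv4 F111650) (iv3 F331825) (iv1 F398659)
theorem F401710 : act 5 n196760 = n157155 := d21_2 D107287 D196760 (iv6 D157155) (iv1 F167308) (iv6 F366102) F381355 (iv1 D190858) D190860 F381358 (iv1 D107286)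
def n196761 : Q := act 7 n107287
theorem D196761 : act 7 n107287 = n196761 := rfl
theorem F401711 : act 3 n196761 = n107292 := d8_1 D196761 (iv7 D107292) (iv3 F165351)
theorem F401712 : act 5 n196761 = n107288 := d13_1 D196761 (iv7 D107288) D107287
theorem F401713 : act 6 n134835 = n196761 := d21_5 F360803 D187249 F369623 D193163 (iv1 F389000) F401712 F394290 (iv5 D194734) (iv6 D104247) (iv1 F156181)
def n196762 : Q := act 3 n107289
theorem D196762 : act 3 n107289 = n196762 := rfl
theorem F401714 : act 5 n196762 = n157151 := d6_2 (iv5 F165355) D196762 F247325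
def n196763 : Q := act 6 n107289
theorem D196763 : act 6 n107289 = n196763 := rfl
theorem F401715 : act 5 n196763 = n144324 := d12_1 D196763 (iv6 D144324) F103637 D74716 (iv5 F165355)
def n196764 : Q := act 3 n107290
theorem D196764 : act 3 n107290 = n196764 := rfl
theorem F401716 : act 5 n196764 = n196630 := d6_2 F165356 D196764 F401245
theorem F401717 : act 0 n139617 = n196764 := d20_4 (iv4 D133571) F163937 (iv4 F101249) (iv3 F222774) (iv3 D196764) (iv4 F401486) (iv1 D196686) (iv4 D107209) (iv3 F165215) F331790
theorem F401718 : act 1 n107343 = n196764 := d15_0 (iv0 F401717) (iv7 F223760) F386489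
def n196765 : Q := act 6 n107292
theorem D196765 : act 6 n107292 = n196765 := rfl
theorem F401719 : act 2 n196765 = n156363 := d3_1 D196765 (iv6 F363390) F172203
theorem F401720 : act 3 n196765 = n134835 := d7_1 D196765 F401713 F401711
def n196766 : Q := act 0 n107295
theorem D196766 : act 0 n107295 = n196766 := rfl
theorem F401721 : act 5 n196766 = n195811 := d17_3 (iv1 F378586) F378588 D196766 (iv4 D195811) (iv5 D106290) F318361 D142713 F379932 F379930
theorem F401722 : act 4 n196766 = n111055 := d18_1 D196766 (iv1 F180290) (iv4 F172088) (iv5 F226680) (iv4 F226682) F378581 F378578 D190021 F378588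
theorem F401723 : act 2 n143975 = n196766 := d15_3 (iv0 D196766) (iv0 F206759) (iv7 F226628)
theorem F401724 : act 1 n107300 = n196766 := d15_0 (iv0 D196766) (iv7 F172171) F172170
theorem F401725 : act 7 n196766 = n111081 := d15_2 F206760 F401724 (iv2 F206758)
theorem F401726 : act 3 n133974 = n196766 := d20_3 F82504 D62936 D133974 (iv1 F401724) (iv3 F361817) (iv4 D102627) (iv1 D47596) (iv4 F74849) (iv3 F157825) F333131
theorem F401727 : act 6 n194628 = n196766 := d12_0 F401721 F398288 (iv5 F363521) F363523 (iv5 F393871)
def n196767 : Q := act 3 n107295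
theorem D196767 : act 3 n107295 = n196767 := rfl
theorem F401728 : act 2 n196767 = n194059 := d0_1 D196767 (iv3 D194059) F333099 F172177 F172175
theorem F401729 : act 4 n196767 = n195322 := d5_2 D107295 D196767 (iv3 F396698) (iv4 F165359) (iv3 D107294)
theorem F401730 : act 6 n196767 = n194632 := d7_2 (iv6 F366088) D196767 (iv3 D194632)
theorem F401731 : act 7 n196767 = n195514 := d8_2 F172171 D196767 F397197
theorem F401732 : act 0 n196767 = n112019 := d19_4 D49568 F172098 D107295 D196767 F336220 (iv4 D128576) F95038 D60474 F95039 (iv4 D30276) F23996 D14372 F24002 (iv4 F20030) F20029 (iv1 F10186) (iv5 F10467) (iv4 F18542) D24185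
theorem F401733 : act 0 n142357 = n196767 := d20_4 (iv4 F84701) (iv1 F162314) (iv4 F102626) D142357 (iv3 D196767) (iv4 D107295) (iv1 F80769) (iv4 F102644) (iv3 D66788) (iv1 F84700)
def n196768 : Q := act 6 n107299
theorem D196768 : act 6 n107299 = n196768 := rfl
theorem F401734 : act 3 n196768 = n107302 := d7_1 D196768 (iv6 D107302) D107299
theorem F401735 : act 4 n196768 = n194066 := d10_1 D196768 (iv6 D194066) F361822
theorem F401736 : act 0 n196768 = n160395 := d19_4 D193470 (iv5 F389966) (iv4 F389955) (iv3 F401734) (iv5 D160395) F115501 (iv3 D35165) F299648 F314096 F47090 (iv3 F47834) F307416 (iv5 D47167) F35278 F17277 D10753 D22737 D47305 D101776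
def n196769 : Q := act 1 n107302
theorem D196769 : act 1 n107302 = n196769 := rfl
def n196770 : Q := act 5 n107302
theorem D196770 : act 5 n107302 = n196770 := rfl
theorem F401737 : act 2 n196770 = n140680 := d2_1 D196770 (iv5 F358702) F172172
theorem F401738 : act 6 n196770 = n129031 := d12_2 D107302 D196770 (iv5 F208893) F320212 F172102
theorem F401739 : act 4 n196770 = n163021 := d16_4 (iv4 F389963) (iv5 F389966) (iv4 F389955) D196770 (iv5 D163021) F119595 D78399 (iv7 F129752) (iv2 F276999)
theorem F401740 : act 3 n142765 = n196769 := d19_19 (iv1 D196769) D196770 F401739 F257378 (iv1 F299712) (iv5 D159216) (iv4 D76161) F54998 F44695 (iv5 D27695) (iv4 F42698) F310318 (iv1 F308424) (iv5 F110034) (iv4 F185289) F108815 F308112 F322205 D142765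
theorem F401741 : act 2 n196769 = n107399 := d0_1 F401740 (iv3 D107399) (iv2 F163986) F163987 (iv2 F322209)
theorem F401742 : act 0 n111394 = n196770 := d21_4 D111310 (iv1 F219102) (iv5 D111393) D111394 F401738 (iv5 F208893) (iv1 D74571) D74572 (iv6 F348768) (iv1 D111308)
def n196771 : Q := act 3 n107306
theorem D196771 : act 3 n107306 = n196771 := rfl
theorem F401743 : act 4 n196771 = n196666 := d5_2 F165368 D196771 (iv3 D196666) (iv4 D107189) D107188
theorem F401744 : act 5 n196771 = n190390 := d6_2 F306960 D196771 (iv3 D190390)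
theorem F401745 : act 0 n196771 = n192208 := d20_4 (iv4 F400375) F400377 F165368 D196771 F386001 F153748 D99856 F333095 F172177 (iv1 F226630)
def n196772 : Q := act 6 n107306
theorem D196772 : act 6 n107306 = n196772 := rfl
theorem F401746 : act 4 n196772 = n196664 := d10_1 D196772 (iv6 D196664) F165368
theorem F401747 : act 0 n196772 = n143999 := d21_10 (iv5 F390203) (iv1 D103288) (iv5 F75524) (iv6 D48074) F70375 (iv6 F302682) (iv5 F305026) D95986 F306960 D196772
def n196773 : Q := act 6 n107309
theorem D196773 : act 6 n107309 = n196773 := rfl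
theorem F401748 : act 3 n196773 = n108846 := d7_1 D196773 (iv6 F400496) F400495
theorem F401749 : act 5 n196773 = n108845 := d12_1 D196773 (iv6 D108845) (iv5 F164791) D196368 (iv5 F400492)
def n196774 : Q := act 5 n107310
theorem D196774 : act 5 n107310 = n196774 := rfl
theorem F401750 : act 3 n196774 = n193906 := d6_1 D196774 (iv5 D193906) (iv3 F356928)
theorem F401751 : act 0 n196774 = n194548 := d17_2 (iv1 F356927) D196774 (iv5 D194548) (iv4 D103762) (iv5 F148717) (iv0 F341045) (iv5 F393276) F393274 F356926
theorem F401752 : act 1 n196774 = n194545 := d17_6 D184216 (iv5 F361888) (iv1 F368500) F368496 F356929 D196774 (iv5 D194545) F365228 (iv4 D184218)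
def n196775 : Q := act 0 n107311
theorem D196775 : act 0 n107311 = n196775 := rfl
def n196776 : Q := act 1 n107311
theorem D196776 : act 1 n107311 = n196776 := rfl
theorem F401753 : act 5 n196776 = n190060 := d17_7 F150032 (iv5 D47987) D47985 D103602 F350559 D107311 D196776 F378739 F337157
theorem F401754 : act 3 n193858 = n196776 := d6_3 F401753 F378737 D193858
def n196777 : Q := act 4 n107311
theorem D196777 : act 4 n107311 = n196777 := rfl
theorem F401755 : act 3 n196777 = n188673 := d5_1 D196777 F374393 (iv3 F339910) (iv4 D107315) (iv3 F165372)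
theorem F401756 : act 6 n196777 = n154683 := d10_2 F165771 D196777 (iv4 F322065)
theorem F401757 : act 0 n196777 = n177184 := d18_2 (iv1 D196776) D196777 (iv4 F393690) F393691 F159196 F158957 D194456 F393290 (iv5 F401753)
def n196778 : Q := act 3 n107313
theorem D196778 : act 3 n107313 = n196778 := rfl
theorem F401758 : act 5 n196778 = n157169 := d6_2 (iv5 F165374) D196778 (iv3 D157169)
theorem F401759 : act 6 n196778 = n192703 := d7_2 F339966 D196778 F387539
theorem F401760 : act 7 n196778 = n191955 := d8_2 F172239 D196778 F384986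
theorem F401761 : act 0 n196778 = n192719 := d19_4 F335530 F193577 F346744 D196778 (iv5 F389243) F389239 (iv3 D101391) D101389 F360812 (iv4 D97000) (iv3 F149595) D190865 F381378 (iv4 F385135) F385134 F335341 F74570 D89424 F355677
theorem F401762 : act 4 n191958 = n196778 := d19_2 (iv1 F391620) F391617 (iv3 D196778) (iv1 F172247) F172245 F80807 F39063 (iv1 F37150) (iv5 F37145) (iv4 F53667) D53625 F321631 (iv5 D32861) D32860 D70939 F306599 F314153 (iv4 F226223) F391345
theorem F401763 : act 2 n196778 = n192721 := d1_1 F401762 F387597 (iv2 F384993)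
theorem F401764 : act 1 n196778 = n107358 := d15_0 F388935 D192721 (iv2 F401763)
def n196779 : Q := act 5 n107315
theorem D196779 : act 5 n107315 = n196779 := rfl
theorem F401765 : act 2 n196779 = n164384 := d2_1 D196779 (iv5 F350597) F172242
theorem F401766 : act 3 n196779 = n185835 := d6_1 D196779 F288221 (iv3 F339910)
theorem F401767 : act 6 n196779 = n185834 := d12_2 (iv6 F339911) D196779 (iv5 D185834) F135506 D92633
theorem F401768 : act 7 n196779 = n164383 := d13_2 (iv7 F350589) D196779 F259036
theorem F401769 : act 0 n196779 = n114155 := d17_2 (iv1 F339909) D196779 (iv5 F205553) (iv4 F398715) (iv5 D195915) (iv0 D106427) D106429 (iv0 F339916) F205596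
theorem F401770 : act 1 n196779 = n164385 := d17_8 F220695 F209161 (iv1 F175728) (iv5 F339730) F251085 (iv5 F178311) (iv0 F339908) D196779 (iv4 F353121)
def n196780 : Q := act 6 n107316
theorem D196780 : act 6 n107316 = n196780 := rfl
theorem F401771 : act 3 n196780 = n124880 := d7_1 D196780 (iv6 F393664) F393663
theorem F401772 : act 4 n196780 = n188984 := d10_1 D196780 F375329 F350588
theorem F401773 : act 5 n196780 = n156363 := d12_1 D196780 (iv6 F363390) F172204 F80778 (iv5 F165376)
theorem F401774 : act 7 n196780 = n188982 := d14_2 D107316 D196780 (iv6 D188982) F339942 F78405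
def n196781 : Q := act 5 n107317
theorem D196781 : act 5 n107317 = n196781 := rfl
theorem F401775 : act 2 n196781 = n107390 := d2_1 D196781 (iv5 D107390) (iv2 F165377)
theorem F401776 : act 3 n196781 = n196482 := d6_1 D196781 F400798 F165422
theorem F401777 : act 6 n196781 = n195892 := d12_2 D107317 D196781 (iv5 D195892) F163607 (iv5 F78330)
def n196782 : Q := act 4 n107320
theorem D196782 : act 4 n107320 = n196782 := rfl
theorem F401778 : act 2 n196782 = n196665 := d1_1 D196782 F401706 F401707
theorem F401779 : act 3 n196782 = n141846 := d5_1 D196782 (iv4 D141846) (iv3 F336123) (iv4 D107321) D107320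
theorem F401780 : act 7 n196782 = n107348 := d11_2 (iv7 F165380) D196782 (iv4 D107348)
theorem F401781 : act 0 n196782 = n195908 := d18_2 (iv1 F336120) D196782 (iv4 D195908) F172122 (iv4 F396992) (iv0 F398754) (iv4 D195929) F398750 F172163
theorem F401782 : act 0 n195906 = n196782 := d20_1 D195906 (iv4 D196782) (iv3 D107320) (iv1 F336118) F37906 F18548 (iv1 F18296) D23996 D49176 D106423
def n196783 : Q := act 5 n107321
theorem D196783 : act 5 n107321 = n196783 := rfl
theorem F401783 : act 2 n196783 = n107333 := d2_1 D196783 (iv5 D107333) (iv2 F165381)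
theorem F401784 : act 3 n196783 = n141847 := d6_1 D196783 (iv5 D141847) (iv3 F336123)
theorem F401785 : act 7 n196783 = n107352 := d13_2 (iv7 F165382) D196783 (iv5 D107352)
theorem F401786 : act 4 n196783 = n114481 := d16_6 F336101 F336103 (iv4 D145333) (iv5 F336114) D107321 D196783 (iv5 F288345) (iv7 F288347) F288350
theorem F401787 : act 0 n196783 = n141893 := d17_2 F371989 D196783 F224937 F180134 D145474 (iv0 F400385) (iv5 D196337) F225612 F371993
theorem F401788 : act 6 n196783 = n114480 := d21_9 F373395 (iv1 D153519) F109100 F65526 D42462 D90707 D187976 F371989 D196783 F373399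
theorem F401789 : act 1 n140558 = n107352 := d15_1 (iv0 F387843) (iv7 F401785) F401783
def n196784 : Q := act 6 n107321
theorem D196784 : act 6 n107321 = n196784 := rfl
theorem F401790 : act 2 n196784 = n107334 := d3_1 D196784 (iv6 D107334) (iv2 F165381)
theorem F401791 : act 3 n196784 = n141848 := d7_1 D196784 (iv6 D141848) (iv3 F336123)
theorem F401792 : act 4 n196784 = n107323 := d10_1 D196784 (iv6 D107323) D107321
def n196785 : Q := act 6 n107325
theorem D196785 : act 6 n107325 = n196785 := rfl
def n196786 : Q := act 6 n107326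
theorem D196786 : act 6 n107326 = n196786 := rfl
theorem F401793 : act 2 n196786 = n107328 := d3_1 D196786 (iv6 D107328) D107326
theorem F401794 : act 1 n196786 = n193956 := d15_0 (iv0 F391511) F389250 (iv2 F401793)
def n196787 : Q := act 6 n107327
theorem D196787 : act 6 n107327 = n196787 := rfl
theorem F401795 : act 3 n196787 = n107339 := d7_1 D196787 (iv6 D107339) (iv3 F165386)
theorem F401796 : act 4 n196787 = n139465 := d10_1 D196787 (iv6 D139465) (iv4 F180529)
theorem F401797 : act 7 n196787 = n192976 := d14_2 (iv7 F362366) D196787 F388407 (iv7 F375897) F375896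
def n196788 : Q := act 0 n107328
theorem D196788 : act 0 n107328 = n196788 := rfl
theorem F401798 : act 4 n196788 = n192196 := d20_2 F220512 D196788 (iv3 D192196) (iv1 D99834) (iv3 F153698) (iv4 F353575) (iv1 F353578) F221290 (iv3 F226132) (iv1 F365534)
theorem F401799 : act 3 n194626 = n196788 := d5_5 F401798 (iv3 D192196) F344557 F352906 (iv4 F393863)
theorem F401800 : act 7 n193956 = n196788 := d11_0 F401798 F385953 D193956
theorem F401801 : act 5 n196788 = n140331 := d16_1 (iv4 F401798) F223443 F320642 F132220 D86266 D180610 F391510 F391507 (iv2 F385955)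
theorem F401802 : act 0 n127085 = n110742 := d20_10 (iv4 F221112) (iv1 F391208) (iv4 F401798) (iv3 F401799) F393866 F172183 F80777 (iv1 F45804) D59638 D127085
theorem F401803 : act 1 n196672 = n110742 := d15_0 (iv0 F401802) F204329 D196672
theorem F401804 : act 6 n194625 = n196788 := d12_0 F401801 (iv6 D140331) D140330 (iv6 F358527) (iv5 F393860)
def n196789 : Q := act 1 n107328
theorem D196789 : act 1 n107328 = n196789 := rfl
theorem F401805 : act 4 n193955 = n196789 := d20_0 (iv1 D196789) (iv4 F220512) (iv3 F357299) (iv1 F357279) (iv3 D143107) (iv4 F334860) (iv1 F221161) F221158 (iv3 F221118) (iv1 F391508)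
theorem F401806 : act 2 n196789 = n193956 := d1_1 F401805 (iv4 D193956) D193955
def n196790 : Q := act 5 n107328
theorem D196790 : act 5 n107328 = n196790 := rfl
theorem F401807 : act 3 n196790 = n107343 := d6_1 D196790 (iv5 D107343) (iv3 F165387)
def n196791 : Q := act 3 n107330
theorem D196791 : act 3 n107330 = n196791 := rfl
theorem F401808 : act 2 n196791 = n116088 := d0_1 D196791 (iv3 D116088) F102868 D66520 F165406
theorem F401809 : act 4 n196791 = n195298 := d5_2 (iv4 F165389) D196791 F396620 (iv4 D107248) D107247
theorem F401810 : act 7 n196791 = n141872 := d8_2 F371992 D196791 (iv3 F371987)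
theorem F401811 : act 0 n141860 = n196791 := d20_4 F340004 F224906 (iv4 D141861) D141860 (iv3 D196791) F165389 (iv1 F225605) (iv4 F225602) (iv3 F206761) (iv1 F340002)
theorem F401812 : act 1 n141871 = n196791 := d15_1 D141871 F401810 (iv2 D141872)
def n196792 : Q := act 6 n107330
theorem D196792 : act 6 n107330 = n196792 := rfl
theorem F401813 : act 2 n196792 = n141879 := d3_1 D196792 (iv6 D141879) F165406
theorem F401814 : act 4 n196792 = n196727 := d10_1 D196792 (iv6 D196727) (iv4 F165389)
def n196793 : Q := act 5 n107332
theorem D196793 : act 5 n107332 = n196793 := rfl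
theorem F401815 : act 3 n196793 = n107333 := d6_1 D196793 (iv5 D107333) D107332
theorem F401816 : act 6 n196793 = n128387 := d12_2 F357296 D196793 (iv5 D128387) (iv6 F105431) D147516
theorem F401817 : act 4 n196793 = n154714 := d16_2 F220508 D196793 F350079 (iv4 D113257) F349670 (iv4 F138496) F294262 D101417 (iv2 F345464)
def n196794 : Q := act 0 n107333
theorem D196794 : act 0 n107333 = n196794 := rfl
theorem F401818 : act 2 n141893 = n196794 := d15_3 (iv0 D196794) (iv0 F387843) (iv7 F224938)
def n196795 : Q := act 4 n107333
theorem D196795 : act 4 n107333 = n196795 := rfl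
theorem F401819 : act 2 n196795 = n114481 := d1_1 D196795 (iv4 F401786) F401783
theorem F401820 : act 5 n196795 = n185793 := d16_1 D196795 (iv4 F288115) (iv5 F336045) (iv4 D107354) (iv5 D49594) D49593 D107352 (iv7 F401785) F401783
theorem F401821 : act 1 n196795 = n151257 := d18_6 (iv1 D49393) F37769 D24189 D49588 D107333 D196795 F363673 F180534 (iv5 D106912)
theorem F401822 : act 6 n196795 = n114444 := d21_5 (iv5 F371663) (iv1 F353805) (iv5 F387733) (iv6 F387734) (iv1 F401821) (iv5 D114444) (iv1 D52821) (iv5 F65502) D90599 D187835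
theorem F401823 : act 7 n187922 = n196795 := d14_0 F401822 F178487 D114477 F368682 D187922
def n196796 : Q := act 6 n107333
theorem D196796 : act 6 n107333 = n196796 := rfl
theorem F401824 : act 2 n196796 = n114480 := d3_1 D196796 (iv6 F401788) F401783
theorem F401825 : act 3 n196796 = n128387 := d7_1 D196796 (iv6 F401816) F401815
theorem F401826 : act 4 n196796 = n114444 := d10_1 D196796 (iv6 F401822) (iv4 D196795)
theorem F401827 : act 5 n196796 = n128386 := d12_1 D196796 (iv6 F231301) F357300 (iv6 D107334) D107333
theorem F401828 : act 2 n128386 = n194629 := d2_1 F401827 F398539 (iv2 F401824)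
theorem F401829 : act 7 n114476 = n196796 := d13_0 F401827 (iv7 F237850) F241266
theorem F401830 : act 0 n188379 = n196796 := d17_0 F401827 F371683 (iv5 D187845) F139496 (iv5 D53102) F82922 D113737 F176978 (iv4 F373212)
theorem F401831 : act 1 n159486 = n196796 := d18_8 F371683 F371682 F364767 (iv4 F400715) F400716 F371598 F161707 D159486 F401827
theorem F401832 : act 3 n194629 = n196446 := d0_2 D128386 F401828 (iv2 F400712) (iv3 D151166) F107741
def n196797 : Q := act 7 n107333
theorem D196797 : act 7 n107333 = n196797 := rfl
theorem F401833 : act 2 n196797 = n107352 := d4_1 D196797 (iv7 F401785) F401783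
theorem F401834 : act 4 n196797 = n187922 := d11_1 D196797 F401823 (iv4 D196795)
theorem F401835 : act 5 n196797 = n107335 := d13_1 D196797 (iv7 D107335) D107333
theorem F401836 : act 1 n107352 = n196794 := d15_0 (iv0 D196794) D196797 F401833
theorem F401837 : act 6 n187921 = n196797 := d12_0 F401835 (iv6 F388929) F388928 (iv6 F379350) F378919
theorem F401838 : act 0 n141893 = n196797 := d17_2 F401058 (iv5 F224937) F401835 F165393 F336126 (iv0 D68139) (iv5 F78212) D107072 D196551
def n196798 : Q := act 0 n107334
theorem D196798 : act 0 n107334 = n196798 := rfl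
def n196799 : Q := act 1 n107334
theorem D196799 : act 1 n107334 = n196799 := rfl
theorem F401839 : act 3 n116099 = n196799 := d20_3 (iv4 D154738) (iv1 F308551) F350001 (iv1 D196799) F357297 (iv4 F357295) (iv1 F357279) (iv4 F335444) F335443 (iv1 F252893)
theorem F401840 : act 6 n196799 = n190784 := d7_2 F350002 F401839 (iv3 D190784)
def n196800 : Q := act 3 n107338
theorem D196800 : act 3 n107338 = n196800 := rfl
theorem F401841 : act 4 n196800 = n139464 := d5_2 D107338 D196800 (iv3 D139464) (iv4 F180529) F165386
theorem F401842 : act 6 n196800 = n154126 := d7_2 F343462 D196800 (iv3 F343470)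
theorem F401843 : act 7 n196800 = n189165 := d8_2 (iv7 F343464) D196800 F375912
theorem F401844 : act 0 n196800 = n137102 := d19_4 D24189 D49589 D107338 D196800 (iv5 F395652) (iv4 D195069) F161181 (iv1 F82178) (iv5 D52016) (iv4 D25247) F19801 (iv1 D11918) (iv5 D5592) (iv4 F7799) (iv3 D5238) (iv1 D2149) D2150 D5243 D11362
def n196801 : Q := act 5 n107338
theorem D196801 : act 5 n107338 = n196801 := rfl
theorem F401845 : act 2 n196801 = n138118 := d2_1 D196801 F336103 F343465
theorem F401846 : act 6 n196801 = n172270 := d12_2 F343462 D196801 (iv5 F271103) F271110 F273356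
theorem F401847 : act 4 n196801 = n185794 := d18_5 (iv1 D136739) F100084 F180531 D107338 D196801 F288355 (iv4 F336033) F361998 F361997
theorem F401848 : act 0 n196801 = n185799 := d18_0 F288117 F176876 F354327 (iv5 F322267) (iv4 F228512) (iv0 F228514) F343453 (iv0 F343461) D196801
theorem E103663 : n136956 = n136875 := ((c20_7 (iv4 F401847) F401848 F288117 (iv3 F230245) (iv1 D146855) (iv3 F229932) F395953 (iv1 D136956) D136958 F363977 (iv1 F288355))).symm
theorem F401849 : act 0 n136875 = n64372 := (sb E103663 (iv1 D136956))
def n196802 : Q := act 0 n107343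
theorem D196802 : act 0 n107343 = n196802 := rfl
def n196803 : Q := act 4 n107343
theorem D196803 : act 4 n107343 = n196803 := rfl
theorem F401850 : act 2 n196803 = n196630 := d1_1 D196803 F401246 F386489
theorem F401851 : act 6 n196803 = n193498 := d10_2 (iv6 F386493) D196803 F390077
def n196804 : Q := act 7 n107343
theorem D196804 : act 7 n107343 = n196804 := rfl
theorem F401852 : act 2 n196804 = n139617 := d4_1 D196804 (iv7 F223760) F386489
theorem F401853 : act 5 n196804 = n107344 := d13_1 D196804 (iv7 D107344) D107343
theorem F401854 : act 1 n139617 = n196802 := d15_0 (iv0 D196802) D196804 F401852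
theorem F401855 : act 6 n139615 = n196804 := d12_0 F401853 F389244 F389243 (iv6 F388592) F388594
def n196805 : Q := act 5 n107347
theorem D196805 : act 5 n107347 = n196805 := rfl
theorem F401856 : act 2 n196805 = n107349 := d2_1 D196805 (iv5 D107349) D107347
theorem F401857 : act 3 n196805 = n139461 := d6_1 D196805 F222653 (iv3 F220496)
theorem F401858 : act 0 n196805 = n110968 := d17_2 F401349 D196805 (iv5 F180732) F165766 D115400 F182531 (iv5 D115502) F165170 D196651
theorem F401859 : act 1 n196805 = n196592 := d17_8 (iv1 F169281) (iv5 F397074) (iv1 F401196) F401198 (iv4 F172165) F172163 (iv0 F220502) D196805 (iv4 D196592)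
def n196806 : Q := act 6 n107347
theorem D196806 : act 6 n107347 = n196806 := rfl
theorem F401860 : act 2 n196806 = n107350 := d3_1 D196806 (iv6 D107350) D107347
theorem F401861 : act 3 n196806 = n193905 := d7_1 D196806 F391360 (iv3 F220496)
def n196807 : Q := act 3 n107348
theorem D196807 : act 3 n107348 = n196807 := rfl
theorem F401862 : act 2 n196807 = n141851 := d0_1 D196807 (iv3 F345478) F179538 D115273 (iv2 F220503)
theorem F401863 : act 4 n196807 = n107351 := d5_2 D107348 D196807 (iv3 D107351) (iv4 D49593) D49592
theorem F401864 : act 7 n196807 = n141846 := d8_2 F401780 D196807 (iv3 F401779)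
def n196808 : Q := act 5 n107348
theorem D196808 : act 5 n107348 = n196808 := rfl
def n196809 : Q := act 6 n107348
theorem D196809 : act 6 n107348 = n196809 := rfl
theorem F401865 : act 4 n196809 = n107350 := d10_1 D196809 (iv6 D107350) D107348
def n196810 : Q := act 0 n107349
theorem D196810 : act 0 n107349 = n196810 := rfl
theorem F401866 : act 5 n196810 = n196515 := d17_3 (iv1 F165402) D107349 D196810 (iv4 D196515) (iv5 F365191) F365189 (iv5 D53283) D53281 (iv4 F165337)
theorem F401867 : act 4 n196810 = n109274 := d18_1 D196810 (iv1 F169276) F165109 (iv5 F78287) (iv4 F165175) F165177 (iv4 F165400) (iv0 D107346) D107349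
theorem F401868 : act 2 n110968 = n196810 := d15_3 (iv0 D196810) F397065 (iv7 F180728)
theorem F401869 : act 7 n196810 = n196592 := d4_2 (iv7 F180728) F401868 F401188
def n196811 : Q := act 6 n107349
theorem D196811 : act 6 n107349 = n196811 := rfl
theorem F401870 : act 3 n196811 = n107355 := d7_1 D196811 (iv6 D107355) (iv3 F165408)
theorem F401871 : act 0 n194610 = n196811 := d20_4 (iv4 F293311) (iv1 F294332) D103854 D194610 F401870 (iv4 F365291) (iv1 D103279) (iv4 F75521) (iv3 D48071) D48069
def n196812 : Q := act 0 n107350
theorem D196812 : act 0 n107350 = n196812 := rfl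
def n196813 : Q := act 1 n107350
theorem D196813 : act 1 n107350 = n196813 := rfl
theorem F401872 : act 3 n142773 = n196813 := d20_3 F322372 D150534 F353398 (iv1 D196813) F165409 (iv4 F165412) (iv1 F389287) (iv4 F389280) (iv3 D142884) D142882
theorem F401873 : act 7 n196813 = n142809 := d8_2 (iv7 F353397) F401872 (iv3 D142809)
theorem F401874 : act 4 n196813 = n115509 := d20_6 (iv4 F165334) (iv1 F78479) (iv4 F80807) (iv3 F102894) (iv1 F225668) F401872 (iv1 D115509) (iv4 F163680) F163679 D106427
theorem F401875 : act 2 n142809 = n196812 := d15_3 (iv0 D196812) D196813 F401873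
def n196814 : Q := act 5 n107350
theorem D196814 : act 5 n107350 = n196814 := rfl
theorem F401876 : act 3 n196814 = n107358 := d6_1 D196814 (iv5 D107358) (iv3 F165409)
theorem F401877 : act 7 n139618 = n196814 := d8_0 F401876 F388938 (iv3 F387726)
def n196815 : Q := act 7 n107350
theorem D196815 : act 7 n107350 = n196815 := rfl
theorem F401878 : act 3 n196815 = n107359 := d8_1 D196815 (iv7 D107359) (iv3 F165409)
theorem F401879 : act 5 n196815 = n139618 := d13_1 D196815 F401877 (iv5 D196814)
theorem F401880 : act 6 n196815 = n139621 := d14_1 D196815 (iv7 F223764) (iv6 F386492) F165380 D107350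
def n196816 : Q := act 4 n107352
theorem D196816 : act 4 n107352 = n196816 := rfl
theorem F401881 : act 2 n196816 = n187922 := d1_1 D196816 (iv4 F401834) F401833
theorem F401882 : act 5 n196816 = n185794 := d9_2 D107352 D196816 (iv4 F401847) (iv5 D196801) (iv4 D107338) (iv5 D49589) D49588 D107333 D196795 F401820 (iv4 F288115) (iv5 F336045) (iv4 D107354) (iv5 D49594) D49593
theorem F401883 : act 6 n196816 = n187538 := d10_2 (iv6 F388942) D196816 F378949
theorem F401884 : act 7 n196816 = n114481 := d11_2 F401785 D196816 (iv4 F401786)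
theorem F401885 : act 0 n196816 = n151257 := d17_0 (iv5 F363675) (iv1 F371913) (iv5 D187950) D187949 F371910 (iv0 D140555) D140558 F401789 D196816
def n196817 : Q := act 1 n107355
theorem D196817 : act 1 n107355 = n196817 := rfl
theorem F401886 : act 1 n196817 = n192981 := d15_1 D196817 F388420 (iv2 F364304)
theorem F401887 : act 7 n196817 = n193083 := d15_2 (iv0 F363880) D196817 F388698
theorem F401888 : act 4 n196817 = n155617 := d18_7 (iv1 F362164) (iv4 D136940) (iv1 D64367) (iv4 F100056) (iv5 F365292) F365291 D196817 (iv0 D155617) F110778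
theorem F401889 : act 5 n196817 = n193084 := d18_9 (iv1 F388705) (iv4 F388651) (iv1 D192012) (iv4 F351156) (iv5 D103843) F75521 D103279 F365291 D196817
theorem F401890 : act 3 n196584 = n196817 := d20_9 (iv4 F365291) (iv1 D103279) (iv4 F75521) (iv3 D48071) D48069 D103834 (iv4 F374996) (iv1 F387014) (iv4 F401150) (iv1 D196817)
theorem F401891 : act 2 n196817 = n110984 := d0_1 F401890 (iv3 D110984) (iv2 F111262) D107104 D196584
def n196818 : Q := act 5 n107355
theorem D196818 : act 5 n107355 = n196818 := rfl
theorem F401892 : act 6 n196818 = n107358 := d12_2 D107355 D196818 (iv5 D107358) (iv6 D49595) D49594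
theorem F401893 : act 4 n194690 = n196818 := d16_0 (iv5 D196818) (iv4 F365291) F365292 F100056 D64368 (iv4 F354887) D193562 F390290 (iv2 F394100)
def n196819 : Q := act 7 n107355
theorem D196819 : act 7 n107355 = n196819 := rfl
theorem F401894 : act 2 n196819 = n192981 := d4_1 D196819 F388420 (iv2 F364304)
theorem F401895 : act 4 n196819 = n155912 := d11_1 D196819 (iv7 F365289) F365291
theorem F401896 : act 6 n196819 = n193487 := d14_1 D196819 F390028 F386483 (iv7 F336115) D107355
theorem F401897 : act 1 n110984 = n196819 := d15_1 (iv0 F375900) (iv7 D196819) F364304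
theorem F401898 : act 1 n196819 = n193083 := d15_1 F401897 (iv7 F401887) F401891
def n196820 : Q := act 5 n107357
theorem D196820 : act 5 n107357 = n196820 := rfl
def n196821 : Q := act 6 n107357
theorem D196821 : act 6 n107357 = n196821 := rfl
def n196822 : Q := act 6 n107370
theorem D196822 : act 6 n107370 = n196822 := rfl
theorem F401899 : act 2 n196822 = n107384 := d3_1 D196822 (iv6 D107384) (iv2 F165416)
theorem F401900 : act 4 n196822 = n107371 := d10_1 D196822 (iv6 D107371) D107370
theorem F401901 : act 5 n196822 = n124486 := d12_1 D196822 F345546 F345539 D130163 (iv5 F336074)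
theorem F401902 : act 7 n196822 = n124484 := d14_2 (iv7 F165417) D196822 F345559 (iv7 F355333) F176259
theorem F401903 : act 0 n196822 = n162629 := d21_4 F322267 (iv1 F336081) (iv5 F336074) D196822 (iv6 D162629) (iv5 D78103) F298128 D38466 F330924 D126719
theorem F401904 : act 0 n162809 = n196822 := d21_4 F331962 (iv1 F127873) (iv5 F128657) (iv6 F322732) (iv6 D196822) F336074 F336080 (iv5 F330917) F331850 (iv1 F331960)
def n196823 : Q := act 0 n107371
theorem D196823 : act 0 n107371 = n196823 := rfl
theorem F401905 : act 4 n196823 = n173311 := d20_2 F401900 D196823 F353973 (iv1 D163075) F119607 F311367 (iv1 F316232) (iv4 F318504) (iv3 F257091) F401904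
theorem F401906 : act 6 n196823 = n173310 := d21_5 (iv5 F336126) F336124 D49598 D107371 D196823 F271728 (iv1 F330950) (iv5 D145338) (iv6 D68142) D68139
theorem F401907 : act 2 n174591 = n196823 := d3_3 F401906 F271726 D174591
theorem F401908 : act 5 n108950 = n196823 := d12_5 F401906 F271728 D174710 F345541 F173127
theorem F401909 : act 5 n174591 = n124488 := d2_2 F401908 (iv2 F401907) (iv2 F362196)
theorem F401910 : act 3 n196823 = n108951 := d6_1 F401908 (iv5 D108951) D108950
def n196824 : Q := act 1 n107371
theorem D196824 : act 1 n107371 = n196824 := rfl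
theorem F401911 : act 1 n196824 = n107387 := d15_1 D196824 (iv7 D107387) (iv2 F165421)
theorem F401912 : act 7 n196824 = n174591 := d15_2 (iv0 D196823) D196824 F401907
theorem F401913 : act 4 n174504 = n196824 := d11_3 F401912 F273447 (iv7 F273383)
theorem F401914 : act 6 n174503 = n196824 := d14_5 F401912 (iv6 D174591) (iv7 D83430) (iv6 F128509) D174503
def n196825 : Q := act 7 n107371
theorem D196825 : act 7 n107371 = n196825 := rfl
theorem F401915 : act 2 n196825 = n107387 := d4_1 D196825 (iv7 D107387) (iv2 F165421)
theorem F401916 : act 3 n196825 = n196468 := d8_1 D196825 F400771 (iv3 F165422)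
theorem F401917 : act 4 n196825 = n124484 := d11_1 D196825 (iv7 F401902) F401900
theorem F401918 : act 6 n196825 = n195881 := d14_1 D196825 F398591 F163607 (iv7 F78339) D107371
theorem F401919 : act 1 n107387 = n196823 := d15_0 (iv0 D196823) D196825 F401915
theorem F401920 : act 1 n107386 = n196825 := d15_1 D107386 (iv7 D196825) F165421
theorem F401921 : act 1 n196825 = n107385 := d15_0 (iv0 D107385) D107387 (iv2 F401915)
def n196826 : Q := act 6 n107373
theorem D196826 : act 6 n107373 = n196826 := rfl
theorem F401922 : act 3 n196826 = n107376 := d7_1 D196826 (iv6 D107376) D107373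
theorem F401923 : act 4 n196826 = n110896 := d10_1 D196826 (iv6 D110896) (iv4 F165424)
theorem E103664 : n196750 = n107376 := (c20_5 F163686 (iv1 F77673) D49565 D107275 D196750 (iv3 F401922) F401923 F401638 (iv4 D196735) (iv3 D107257) F163693)
theorem F401924 : act 1 n107376 = n107275 := (sb E103664 (iv0 D196750))
theorem E103665 : n196751 = n195933 := (c15_2 F401924 D196751 (iv7 D195933) F359158)
theorem F401925 : act 0 n195933 = n107275 := (sb E103665 (iv1 D196751))
def n196827 : Q := act 1 n107374
theorem D196827 : act 1 n107374 = n196827 := rfl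
theorem F401926 : act 1 n196827 = n107379 := d15_1 D196827 (iv7 F359113) (iv2 F359125)
theorem F401927 : act 7 n196827 = n126925 := d15_2 (iv0 F354333) D196827 F355498
theorem F401928 : act 4 n196827 = n142703 := d18_7 (iv1 D145473) (iv4 F180134) F401044 (iv4 D196548) F220042 D107374 D196827 F225615 (iv5 F228520)
theorem F401929 : act 2 n195921 = n196827 := d1_3 F401928 (iv2 F398686) (iv4 F398737)
theorem F401930 : act 3 n126651 = n196827 := d5_5 F401928 F225613 (iv4 F172088) F392736 F392737
def n196828 : Q := act 3 n107374
theorem D196828 : act 3 n107374 = n196828 := rfl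
theorem F401931 : act 2 n196828 = n126664 := d0_1 D196828 (iv3 D126664) (iv2 F203828) F359108 (iv2 F359125)
theorem F401932 : act 4 n196828 = n110894 := d5_2 D107374 D196828 (iv3 D110894) (iv4 F165424) (iv3 D107373)
theorem F401933 : act 7 n196828 = n195922 := d8_2 (iv7 F359123) D196828 (iv3 D195922)
theorem F401934 : act 0 n196828 = n126953 := d19_4 D107071 F220042 D107374 D196828 F204667 (iv4 D127362) F94220 F45878 (iv5 D23726) (iv4 D11110) (iv3 F11101) F20247 (iv5 F10365) (iv4 F22275) (iv3 D13397) (iv1 F19769) F19767 D24142 D49461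
theorem F401935 : act 1 n126664 = n137297 := d15_0 (iv0 F398741) (iv7 F401933) F401931
theorem F401936 : act 6 n149280 = n196828 := d3_0 F401931 F359168 F264136
def n196829 : Q := act 5 n107374
theorem D196829 : act 5 n107374 = n196829 := rfl
theorem F401937 : act 2 n196829 = n195931 := d2_1 D196829 (iv5 D195931) (iv2 F359125)
theorem F401938 : act 7 n196829 = n195923 := d13_2 (iv7 F359123) D196829 (iv5 D195923)
theorem F401939 : act 1 n196829 = n158744 := d17_6 (iv1 D68140) (iv5 F78212) D107071 F220042 D107374 D196829 F249924 (iv0 F343457) (iv4 D145333)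
theorem F401940 : act 6 n132440 = n196829 := d21_5 (iv5 F327763) (iv1 F328228) (iv5 F135447) (iv6 F319567) (iv1 F212508) (iv5 D196829) F354333 F354325 (iv6 D185799) (iv1 D88489)
theorem F401941 : act 1 n132479 = n196829 := d15_1 F359761 F401938 F398742
def n196830 : Q := act 6 n107374
theorem D196830 : act 6 n107374 = n196830 := rfl
theorem F401942 : act 2 n196830 = n193341 := d3_1 D196830 (iv6 F389514) (iv2 F359125)
theorem F401943 : act 3 n196830 = n149280 := d7_1 D196830 F401936 (iv3 D196828)
theorem F401944 : act 4 n196830 = n107376 := d10_1 D196830 (iv6 D107376) D107374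
theorem F401945 : act 0 n196830 = n174495 := d21_4 (iv5 F249924) (iv1 F401939) (iv5 D196829) D196830 (iv6 D174495) (iv5 F310445) F310443 (iv5 F386477) (iv6 F386479) F343457
theorem F401946 : act 1 n196830 = n193343 := d15_1 (iv0 F401945) (iv7 D193343) (iv2 F343417)
def n196831 : Q := act 0 n107376
theorem D196831 : act 0 n107376 = n196831 := rfl
theorem F401947 : act 4 n196831 = n173352 := d18_3 (iv1 F401946) F401944 D196831 (iv5 D173352) (iv4 F331866) (iv0 D72861) (iv4 F109328) (iv0 F306724) (iv5 F389519)
theorem F401948 : act 6 n196831 = n174499 := d21_5 (iv5 F78212) D107071 F220042 D107376 D196831 F386481 F385085 D140667 F386483 (iv1 D68140)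
theorem F401949 : act 2 n111043 = n196831 := d15_3 (iv0 D196831) F401924 (iv7 F172218)
theorem F401950 : act 3 n196831 = n196746 := d0_2 D111043 F401949 (iv2 D196746) (iv3 D107268) F104349
theorem F401951 : act 7 n196831 = n196752 := d4_2 (iv7 F172218) F401949 (iv2 D196752)
theorem E103666 : n196752 = n195932 := ((c15_2 (iv0 F389516) D195932 (iv7 F401951) (iv2 F401949))).symm
theorem F401952 : act 2 n195932 = n107275 := (sb E103666 (iv2 D196752))
theorem F401953 : act 3 n195932 = n107357 := (sb E103666 F401689)
theorem F401954 : act 7 n195932 = n196831 := (sb E103666 (iv7 F401951))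
theorem F401955 : act 1 n195933 = n196831 := d15_1 (iv0 F401925) (iv7 F401954) F401952
theorem F401956 : act 5 n196356 = n196831 := d12_5 F401948 F386481 (iv6 D140435) (iv5 F223615) D196356
def n196832 : Q := act 5 n107376
theorem D196832 : act 5 n107376 = n196832 := rfl
theorem F401957 : act 2 n196832 = n187828 := d2_1 D196832 F371648 F359158
theorem F401958 : act 6 n196832 = n187517 := d12_2 D107376 D196832 F401049 (iv6 D196549) F220042
theorem F401959 : act 0 n187881 = n196832 := d19_0 (iv5 D196832) (iv4 F401944) F401943 (iv1 D149280) (iv5 D70084) (iv4 D32521) (iv3 D15400) (iv1 F20784) (iv5 F41768) (iv4 F313946) D31874 F243110 D105758 F318007 F398266 (iv1 D195807) F163339 (iv4 F339962) (iv3 F371756)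
theorem F401960 : act 4 n187518 = n196832 := d10_3 F401958 (iv4 D187517) D187518
def n196833 : Q := act 7 n107376
theorem D196833 : act 7 n107376 = n196833 := rfl
theorem F401961 : act 2 n196833 = n195933 := d4_1 D196833 (iv7 D195933) F359158
theorem F401962 : act 6 n196833 = n195926 := d14_1 D196833 (iv7 D195926) (iv6 D106436) F359119 D107376
theorem F401963 : act 1 n195932 = n196833 := d15_1 D195932 (iv7 D196833) (iv2 F359158)
theorem F401964 : act 1 n196833 = n111043 := d15_1 F401963 F172218 (iv2 F401952)
def n196834 : Q := act 2 n107378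
theorem D196834 : act 2 n107378 = n196834 := rfl
theorem F401965 : act 3 n196834 = n110890 := d0_2 D107378 D196834 (iv2 F359131) (iv3 D106433) F359118
theorem F401966 : act 5 n196834 = n145359 := d2_2 F401052 D196834 (iv2 F401051)
theorem F401967 : act 7 n196834 = n195928 := d4_2 F359157 D196834 (iv2 D195928)
theorem F401968 : act 1 n196834 = n195927 := d15_0 (iv0 D195927) F359157 D196834
theorem F401969 : act 1 n111016 = n196834 := d15_0 F401968 (iv7 F398749) F397057
def n196835 : Q := act 6 n107378
theorem D196835 : act 6 n107378 = n196835 := rfl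
theorem F401970 : act 3 n196835 = n107381 := d7_1 D196835 (iv6 D107381) D107378
def n196836 : Q := act 6 n107379
theorem D196836 : act 6 n107379 = n196836 := rfl
theorem F401971 : act 2 n196836 = n113181 := d3_1 D196836 (iv6 F392266) F359124
theorem F401972 : act 3 n196836 = n126662 := d7_1 D196836 (iv6 D126662) F165426
theorem F401973 : act 4 n196836 = n107381 := d10_1 D196836 (iv6 D107381) D107379
theorem F401974 : act 5 n196836 = n113178 := d21_6 F359160 (iv1 F355847) (iv5 D179255) D179256 (iv1 F354334) D196836 F381056 D113185 (iv6 F230892) F359163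
theorem F401975 : act 0 n112742 = n196836 := d21_4 (iv5 F298802) F298800 F127802 (iv6 F328395) (iv6 D196836) (iv5 F359105) (iv1 F359159) F249924 (iv6 D83418) (iv1 F128519)
theorem E103667 : n196689 = n107381 := ((c20_1 F401973 (iv1 D196689) (iv4 F346500) F346499 (iv1 F179212) (iv3 F330508) F165969 (iv1 F84029) F84027 (iv3 F175521) F401975)).symm
theorem F401976 : act 0 n107381 = n107213 := (sb E103667 (iv1 D196689))
theorem F401977 : act 1 n174576 = n196836 := d15_0 (iv0 F401975) F175522 (iv2 F362991)
theorem F401978 : act 7 n113176 = n196836 := d13_0 F401974 (iv7 D113178) D113176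
def n196837 : Q := act 1 n107381
theorem D196837 : act 1 n107381 = n196837 := rfl
theorem F401979 : act 1 n196837 = n195926 := d15_1 D196837 (iv7 D195926) (iv2 F359156)
theorem F401980 : act 7 n196837 = n195924 := d15_2 (iv0 F401976) D196837 (iv2 F400230)
theorem F401981 : act 5 n196837 = n192507 := d17_7 (iv1 F360360) F383753 (iv1 D191544) D191545 (iv4 F388197) F388198 D196837 F386889 (iv4 D191671)
theorem F401982 : act 4 n173378 = n196837 := d20_0 (iv1 D196837) (iv4 F401973) F401972 F359111 F189651 F87426 D60436 (iv4 F189610) (iv3 F344751) (iv1 F339190)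
theorem F401983 : act 2 n196837 = n111029 := d1_1 F401982 F332390 (iv2 F271858)
theorem F401984 : act 6 n196837 = n173307 := d10_2 D173378 F401982 F271721
theorem F401985 : act 3 n196695 = n196837 := d0_0 F401983 (iv3 D111029) (iv2 F102170) D107219 D196695
theorem E103668 : n196688 = n195926 := ((c15_1 F401979 (iv0 D196688) (iv7 F172188) (iv2 F401983))).symm
theorem F401986 : act 1 n195926 = n107213 := (sb E103668 (iv0 D196688))
def n196838 : Q := act 7 n107381
theorem D196838 : act 7 n107381 = n196838 := rfl
theorem F401987 : act 2 n196838 = n195926 := d4_1 D196838 (iv7 D195926) (iv2 F359156)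
theorem F401988 : act 4 n196838 = n113176 := d11_1 D196838 F401978 F401973
theorem F401989 : act 6 n196838 = n195933 := d14_1 D196838 (iv7 D195933) (iv6 D106441) (iv7 F359115) D107381
theorem F401990 : act 1 n111029 = n196838 := d15_1 (iv0 F400225) (iv7 D196838) F359156
theorem F401991 : act 1 n196838 = n195924 := d15_1 F401990 (iv7 F401980) F401983
def n196839 : Q := act 1 n107384
theorem D196839 : act 1 n107384 = n196839 := rfl
theorem F401992 : act 1 n196839 = n124484 := d15_1 D196839 (iv7 F401902) F401899
theorem F401993 : act 7 n196839 = n162629 := d15_2 (iv0 F336027) D196839 F303416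
theorem F401994 : act 5 n162807 = n196839 := d21_0 (iv1 D196839) F336028 D124490 F336023 (iv6 F324593) (iv5 F346482) F349921 (iv5 D112730) D112731 F349923
theorem F401995 : act 6 n173375 = n196839 := d21_3 (iv5 D83571) (iv1 F127875) (iv5 F271852) (iv1 D196839) (iv6 D107384) D107383 F336046 F336043 F322684 (iv1 F325018)
theorem F401996 : act 2 n196839 = n162809 := d3_1 F401995 F322732 (iv2 F271851)
theorem F401997 : act 3 n196839 = n175717 := d7_1 F401995 (iv6 D175717) (iv3 F308626)
theorem E103669 : n174591 = n107385 := (c17_6 F349923 F401994 (iv1 D196839) F336028 D124488 (iv5 F401909) (iv0 D107385) (iv5 F164967) (iv0 F362031) (iv4 F175487))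
theorem F401998 : act 2 n107385 = n196823 := (sb E103669 F401907)
theorem F401999 : act 4 n107385 = n83431 := (sb E103669 F273447)
theorem F402000 : act 5 n107385 = n124488 := (sb E103669 F401909)
theorem F402001 : act 6 n107385 = n83430 := (sb E103669 (iv6 D174591))
theorem F402002 : act 7 n107385 = n196824 := (sb E103669 (iv7 F401912))
theorem F402003 : act 2 n196824 = n107386 := d15_3 F401920 F401921 F402002
theorem F402004 : act 7 n196823 = n107386 := d4_2 (iv7 F402002) F401998 (iv2 F402003)
theorem F402005 : act 5 n107386 = n124483 := d13_1 F402004 (iv7 F362197) F401908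
def n196840 : Q := act 7 n107384
theorem D196840 : act 7 n107384 = n196840 := rfl
theorem F402006 : act 2 n196840 = n124484 := d4_1 D196840 (iv7 F401902) F401899
theorem F402007 : act 3 n196840 = n113137 := d8_1 D196840 F176274 (iv3 F165432)
theorem F402008 : act 4 n196840 = n107387 := d11_1 D196840 (iv7 D107387) (iv4 F165433)
theorem F402009 : act 5 n196840 = n124481 := d13_1 D196840 (iv7 F199117) (iv5 F336028)
theorem F402010 : act 6 n196840 = n113134 := d14_1 D196840 (iv7 D113134) F82558 (iv7 F78345) D107384
theorem F402011 : act 1 n162809 = n196840 := d15_1 (iv0 F401904) (iv7 D196840) (iv2 F401899)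
theorem F402012 : act 1 n196840 = n162629 := d15_1 F402011 (iv7 F401993) F401996
def n196841 : Q := act 3 n107385
theorem D196841 : act 3 n107385 = n196841 := rfl
theorem F402013 : act 6 n196841 = n174587 := d7_2 (iv6 F402001) D196841 F273440
def n196842 : Q := act 3 n107386
theorem D196842 : act 3 n107386 = n196842 := rfl
theorem F402014 : act 5 n196842 = n108633 := d6_2 (iv5 F402005) D196842 (iv3 F362198)
theorem F402015 : act 7 n196842 = n108951 := d8_2 F402004 D196842 (iv3 F401910)
theorem F402016 : act 2 n196842 = n108956 := d15_3 F225003 F223773 (iv7 F402015)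
def n196843 : Q := act 4 n107386
theorem D196843 : act 4 n107386 = n196843 := rfl
theorem F402017 : act 2 n196843 = n174504 := d1_1 D196843 F401913 F402003
theorem F402018 : act 7 n196843 = n173311 := d11_2 F402004 D196843 (iv4 F401905)
theorem F402019 : act 5 n196843 = n174065 := d16_1 D196843 (iv4 F362029) F164967 (iv4 F165433) F336028 D124488 (iv5 F402000) F402002 F402003
theorem F402020 : act 3 n196843 = n177518 := d20_3 (iv4 F401917) (iv1 F401920) D196843 F353956 F193113 F318511 F316234 (iv4 F307235) (iv3 F320975) (iv1 F345558)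
theorem F402021 : act 6 n173293 = n196843 := d7_0 F402020 F339271 (iv3 F271686)
theorem F402022 : act 1 n174593 = n196843 := d15_1 D174593 F402018 F271731
theorem F402023 : act 1 n196843 = n174592 := d15_0 (iv0 D174592) (iv7 F273383) (iv2 F402017)
def n196844 : Q := act 6 n107386
theorem D196844 : act 6 n107386 = n196844 := rfl
theorem F402024 : act 2 n196844 = n174503 := d3_1 D196844 F401914 F402003
theorem F402025 : act 4 n196844 = n173293 := d10_1 D196844 F402021 (iv4 D196843)
theorem F402026 : act 7 n196844 = n173292 := d14_2 F402004 D196844 F271684 D173310 (iv6 F401906)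
theorem F402027 : act 5 n192917 = n196844 := d21_2 F390073 F390072 (iv6 D196844) (iv1 D107386) (iv6 D49602) (iv5 D24192) D24189 D49589 D107339 (iv1 F362959)
theorem F402028 : act 0 n196844 = n174500 := d17_2 F390072 F402027 (iv5 F362759) (iv4 F386615) (iv5 D192383) (iv0 D100133) D100136 D192388 (iv4 F390071)
theorem F402029 : act 1 n196844 = n174499 := d17_8 (iv1 F271854) F271852 (iv1 F127874) D83576 (iv4 F331954) D196638 F401291 F402027 F273893
def n196845 : Q := act 5 n107388
theorem D196845 : act 5 n107388 = n196845 := rfl
theorem F402030 : act 2 n196845 = n124441 := d2_1 D196845 F400817 (iv2 F400815)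
theorem F402031 : act 3 n196845 = n160394 := d6_1 D196845 (iv5 F389084) (iv3 F389085)
theorem F402032 : act 6 n160295 = n196845 := d7_0 F402031 F253341 (iv3 F253199)
def n196846 : Q := act 6 n107388
theorem D196846 : act 6 n107388 = n196846 := rfl
def n196847 : Q := act 4 n107389
theorem D196847 : act 4 n107389 = n196847 := rfl
def n196848 : Q := act 0 n107390
theorem D196848 : act 0 n107390 = n196848 := rfl
def n196849 : Q := act 1 n107390
theorem D196849 : act 1 n107390 = n196849 := rfl
def n196850 : Q := act 4 n107390
theorem D196850 : act 4 n107390 = n196850 := rfl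
theorem F402033 : act 6 n196850 = n195895 := d10_2 (iv6 F165437) D196850 (iv4 D195895)
theorem F402034 : act 5 n137089 = n196850 := d19_1 F390877 (iv4 D196850) F165436 D107402 (iv5 F204574) (iv4 D127337) F94135 F49804 (iv5 D31503) (iv4 F317301) (iv3 F86018) D118286 (iv5 F333663) F333729 (iv3 F360165) F360163 D192106 F385576 (iv3 F390874)
def n196851 : Q := act 0 n107391
theorem D196851 : act 0 n107391 = n196851 := rfl
theorem F402035 : act 2 n196463 = n196851 := d15_3 (iv0 D196851) (iv0 F389956) (iv7 F400756)
theorem F402036 : act 1 n196769 = n196851 := d15_0 (iv0 D196851) (iv7 F165447) (iv2 F401741)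
theorem F402037 : act 7 n196851 = n111018 := d15_2 D196769 F402036 F172172
theorem F402038 : act 6 n110933 = n196851 := d14_5 F402037 (iv6 D111018) F172099 (iv6 F366087) F366910
def n196852 : Q := act 2 n107391
theorem D196852 : act 2 n107391 = n196852 := rfl
theorem F402039 : act 3 n196852 = n177210 := d0_2 D107391 D196852 (iv2 F318312) (iv3 D107396) (iv2 F163992)
theorem F402040 : act 7 n196852 = n196769 := d4_2 F165447 D196852 F401741
theorem F402041 : act 1 n196852 = n111018 := d15_0 (iv0 F401543) F165447 D196852
theorem F402042 : act 1 n196463 = n196852 := d15_0 F402041 (iv7 F402037) (iv2 F402035)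
def n196853 : Q := act 5 n107391
theorem D196853 : act 5 n107391 = n196853 := rfl
theorem F402043 : act 3 n196853 = n107392 := d6_1 D196853 (iv5 D107392) D107391
theorem F402044 : act 0 n196853 = n108940 := d21_1 D196853 (iv5 F393820) (iv6 D194611) F325008 F323711 F80715 (iv1 F78321) F172102 D107302 F389956
def n196854 : Q := act 6 n107391
theorem D196854 : act 6 n107391 = n196854 := rfl
theorem F402045 : act 3 n196854 = n107393 := d7_1 D196854 (iv6 D107393) D107391
theorem F402046 : act 4 n196854 = n194563 := d10_1 D196854 F393698 F226654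
theorem F402047 : act 0 n194567 = n196854 := d21_4 (iv5 F345145) (iv1 F158604) (iv5 F294252) D194567 (iv6 D196854) D196853 F402044 (iv5 F393820) (iv6 D194611) F325008
def n196855 : Q := act 1 n107392
theorem D196855 : act 1 n107392 = n196855 := rfl
theorem F402048 : act 1 n196855 = n107394 := d15_1 D196855 (iv7 F165444) F165443
def n196856 : Q := act 4 n107392
theorem D196856 : act 4 n107392 = n196856 := rfl
theorem F402049 : act 5 n196856 = n196505 := d16_1 D196856 (iv4 D196505) (iv5 F172338) (iv4 D111125) (iv5 D51257) (iv4 F163988) D107394 (iv7 F165444) F165443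
def n196857 : Q := act 6 n107392
theorem D196857 : act 6 n107392 = n196857 := rfl
def n196858 : Q := act 4 n107394
theorem D196858 : act 4 n107394 = n196858 := rfl
theorem F402050 : act 5 n196858 = n196502 := d9_2 D107394 D196858 (iv4 D196502) (iv5 F172335) (iv4 D111124) (iv5 D51252) (iv4 F163993) D107392 D196856 F402049 (iv4 D196505) (iv5 F172338) (iv4 D111125) (iv5 D51257) (iv4 F163988)
def n196859 : Q := act 6 n107394
theorem D196859 : act 6 n107394 = n196859 := rfl
theorem F402051 : act 0 n144324 = n196859 := d21_4 (iv5 D34239) D34236 (iv5 F103637) D144324 (iv6 D196859) (iv5 D107394) (iv1 D49605) (iv5 F78174) (iv6 D49446) (iv1 F53882)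
def n196860 : Q := act 5 n107396
theorem D196860 : act 5 n107396 = n196860 := rfl
theorem F402052 : act 3 n196860 = n107397 := d6_1 D196860 (iv5 D107397) D107396
theorem F402053 : act 7 n196860 = n143828 := d13_2 (iv7 F165442) D196860 (iv5 D143828)
theorem F402054 : act 4 n196860 = n113431 := d16_2 (iv4 F165441) D196860 F331146 (iv4 D80486) (iv5 D36698) D36697 F322205 (iv7 F322206) F322212
theorem F402055 : act 0 n196860 = n160386 := d17_2 (iv1 F324275) D196860 F325521 (iv4 D84453) F299125 F123683 D80466 F322807 (iv4 F102892)
theorem F402056 : act 1 n196860 = n167690 := d17_6 F237837 F306671 F117054 F318313 (iv4 F165441) D196860 (iv5 D167690) D167688 (iv4 F308515)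
def n196861 : Q := act 6 n107396
theorem D196861 : act 6 n107396 = n196861 := rfl
theorem F402057 : act 3 n196861 = n107398 := d7_1 D196861 (iv6 D107398) D107396
theorem F402058 : act 4 n196861 = n116799 := d10_1 D196861 (iv6 D116799) (iv4 F165441)
theorem F402059 : act 5 n196861 = n190291 := d21_6 F78398 (iv1 F80770) F166927 D66938 (iv1 F324275) D196861 F380998 (iv5 D145364) (iv6 D68156) (iv1 F78400)
theorem F402060 : act 1 n190160 = n196861 := d18_6 (iv1 F190823) D157416 (iv1 F247920) (iv4 F215344) F215345 (iv4 F379007) F402058 F313666 (iv5 D74882)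
def n196862 : Q := act 0 n107397
theorem D196862 : act 0 n107397 = n196862 := rfl
theorem F402061 : act 5 n196862 = n110986 := d17_3 D49607 D107397 D196862 F172034 (iv5 F165675) (iv0 D107414) (iv5 D49613) (iv0 D24196) (iv4 F37910)
theorem F402062 : act 1 n107400 = n196862 := d15_0 (iv0 D196862) F165444 (iv2 F165448)
theorem F402063 : act 2 n196587 = n196862 := d2_3 F402061 F172033 D196587
theorem F402064 : act 7 n196855 = n196862 := d15_2 F401167 D196855 (iv2 F402063)
def n196863 : Q := act 1 n107397
theorem D196863 : act 1 n107397 = n196863 := rfl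
theorem F402065 : act 1 n196863 = n107400 := d15_1 D196863 F165449 (iv2 F165443)
theorem F402066 : act 7 n196863 = n196587 := d15_2 (iv0 D196862) D196863 F402063
theorem F402067 : act 5 n196863 = n157170 := d17_7 (iv1 F112162) F112159 F100229 (iv5 D59787) (iv4 F163980) D107397 D196863 F247343 (iv4 D111124)
theorem F402068 : act 6 n111336 = n196863 := d12_0 F402067 (iv6 D157170) (iv5 F165374) (iv6 F339966) F363668
theorem F402069 : act 4 n196863 = n111338 := d10_1 F402068 (iv6 D111338) D111336
theorem F402070 : act 0 n111338 = n123332 := d17_0 (iv5 F351074) F356739 (iv5 F400867) F400866 F164977 F78353 D107397 D196863 F402069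
theorem F402071 : act 3 n108938 = n107400 := d20_9 F402069 F402070 F351073 (iv3 F351072) F324498 D124333 F198849 D177013 F365958 (iv1 F402065)
theorem F402072 : act 5 n107399 = n108938 := d6_0 F402071 (iv5 D107400) D107399
theorem F402073 : act 7 n196853 = n108938 := d8_0 F402071 F165449 (iv3 F402043)
theorem F402074 : act 2 n196853 = n108937 := d15_3 (iv0 D108937) D108938 (iv7 F402073)
theorem F402075 : act 5 n108937 = n196852 := d2_2 D196853 F402074 (iv2 D196852)
theorem F402076 : act 0 n111363 = n111337 := d21_7 (iv5 F351074) F356739 (iv5 F400867) F400868 (iv1 F172331) F351068 D111363 (iv5 D111337) D111338 F402070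
theorem F402077 : act 2 n196855 = n196863 := d4_3 F402066 F402063 (iv7 F402064)
theorem F402078 : act 6 n144328 = n196855 := d3_0 F402077 (iv6 F402068) F361213
def n196864 : Q := act 4 n107397
theorem D196864 : act 4 n107397 = n196864 := rfl
theorem F402079 : act 2 n196864 = n196856 := d1_1 D196864 (iv4 D196856) (iv2 F165443)
theorem F402080 : act 7 n196864 = n196858 := d11_2 (iv7 F165444) D196864 (iv4 D196858)
theorem F402081 : act 5 n196864 = n174151 := d16_1 D196864 F364763 (iv5 F228309) (iv4 D145292) (iv5 D68116) (iv4 F163977) D107400 F165449 (iv2 F165443)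
def n196865 : Q := act 6 n107397
theorem D196865 : act 6 n107397 = n196865 := rfl
theorem F402082 : act 2 n196865 = n196857 := d3_1 D196865 (iv6 D196857) (iv2 F165443)
def n196866 : Q := act 4 n107399
theorem D196866 : act 4 n107399 = n196866 := rfl
theorem F402083 : act 3 n196866 = n112900 := d5_1 D196866 (iv4 D112900) F168094 (iv4 F163977) D107399
theorem F402084 : act 7 n196866 = n143999 := d11_2 (iv7 F165447) D196866 F226654
theorem F402085 : act 5 n196866 = n193541 := d16_1 D196866 (iv4 F390199) (iv5 D166646) (iv4 F327957) F365980 (iv4 F365972) F402075 F402040 F401741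
theorem F402086 : act 2 n194391 = n196866 := d2_3 F402085 F390198 D194391
theorem F402087 : act 4 n196769 = n194391 := d1_0 F402086 (iv4 D196866) (iv2 F401741)
theorem F402088 : act 1 n194574 = n143999 := d15_1 (iv0 F393729) (iv7 F402084) (iv2 F402086)
def n196867 : Q := act 6 n107399
theorem D196867 : act 6 n107399 = n196867 := rfl
theorem F402089 : act 3 n196867 = n107401 := d7_1 D196867 (iv6 D107401) D107399
def n196868 : Q := act 4 n107400
theorem D196868 : act 4 n107400 = n196868 := rfl
theorem F402090 : act 2 n196868 = n196858 := d1_1 D196868 (iv4 D196858) (iv2 F165448)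
theorem F402091 : act 5 n196868 = n174150 := d9_2 D107400 D196868 F362033 (iv5 F204574) (iv4 D127337) (iv5 D59787) (iv4 F163980) D107397 D196864 F402081 F364763 (iv5 F228309) (iv4 D145292) (iv5 D68116) (iv4 F163977)
theorem F402092 : act 7 n196868 = n196856 := d11_2 (iv7 F165449) D196868 (iv4 D196856)
def n196869 : Q := act 6 n107400
theorem D196869 : act 6 n107400 = n196869 := rfl
theorem F402093 : act 2 n196869 = n196859 := d3_1 D196869 (iv6 D196859) (iv2 F165448)
theorem F402094 : act 0 n196454 = n196869 := d21_4 (iv5 D51147) (iv1 F79040) (iv5 F164943) D196454 (iv6 D196869) (iv5 D107400) (iv1 D49608) D49609 F78356 (iv1 F80683)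
def n196870 : Q := act 3 n107402
theorem D196870 : act 3 n107402 = n196870 := rfl
theorem F402095 : act 5 n196870 = n153170 := d6_2 F204574 D196870 (iv3 F364419)
theorem F402096 : act 7 n196870 = n196504 := d8_2 (iv7 F204577) D196870 (iv3 D196504)
theorem F402097 : act 4 n177345 = n196870 := d20_2 F322344 (iv1 F276729) (iv3 D196870) (iv1 F165452) F362027 F272953 D174159 F393025 F276662 (iv1 F322343)
theorem F402098 : act 1 n196870 = n142806 := d18_6 F297489 F122679 F296249 F129663 (iv5 F276730) F402097 (iv4 F347428) F276425 F129715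
def n196871 : Q := act 6 n107402
theorem D196871 : act 6 n107402 = n196871 := rfl
theorem F402099 : act 2 n196871 = n196503 := d3_1 D196871 (iv6 D196503) (iv2 F204576)
def n196872 : Q := act 3 n107403
theorem D196872 : act 3 n107403 = n196872 := rfl
theorem F402100 : act 7 n196872 = n196501 := d8_2 F204579 D196872 (iv3 D196501)
theorem F402101 : act 0 n196872 = n140680 := d20_4 F346364 (iv1 F346366) F364763 D196872 (iv3 D140680) (iv4 D66005) F81085 (iv4 F172827) (iv3 F364760) (iv1 F172014)
def n196873 : Q := act 6 n107403
theorem D196873 : act 6 n107403 = n196873 := rfl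
theorem F402102 : act 2 n196873 = n196506 := d3_1 D196873 (iv6 D196506) F204578
theorem F402103 : act 3 n111282 = n196873 := d0_0 F402102 F400885 F203772 (iv3 D111391) (iv2 F203769)
theorem F402104 : act 6 n196872 = n111282 := d7_0 F402103 (iv6 D196873) D196872
theorem F402105 : act 7 n196873 = n111396 := d8_2 (iv7 F203770) F402103 (iv3 D111396)
theorem F402106 : act 2 n111394 = n196872 := d3_3 F402104 F203769 D111394
theorem F402107 : act 6 n177059 = n196501 := d14_5 (iv7 F402100) F402104 F203770 D111399 (iv7 F350058)
theorem F402108 : act 3 n196503 = n177059 := d7_3 F402107 (iv3 D196501) D196503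
theorem F402109 : act 5 n177058 = n196503 := d6_0 F402108 (iv5 D177059) D177058
theorem F402110 : act 0 n177058 = n196640 := d21_7 (iv5 D49437) (iv1 D24130) D24132 D49446 D107038 D196503 (iv5 F402109) F401295 (iv6 D196452) F164938
def n196874 : Q := act 0 n107404
theorem D196874 : act 0 n107404 = n196874 := rfl
theorem F402111 : act 4 n196874 = n111121 := d18_1 D196874 (iv1 F172330) (iv4 F346368) (iv5 F346365) (iv4 D111123) D111122 F351067 F400869 F400867
theorem E103670 : n196849 = n124431 := ((c20_4 (iv4 D76865) F299838 D58022 D124431 (iv1 D196849) F165436 D107404 D196874 F402111 (iv3 F353082) (iv1 D160358))).symm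
theorem F402112 : act 0 n124431 = n107390 := (sb E103670 (iv1 D196849))
theorem F402113 : act 2 n196497 = n196874 := d15_3 (iv0 D196874) (iv0 F356739) F400852
theorem F402114 : act 1 n196500 = n196874 := d15_0 (iv0 D196874) (iv7 F400862) (iv2 F400865)
theorem F402115 : act 7 n196874 = n196498 := d15_2 F400869 F402114 F400857
theorem F402116 : act 3 n159227 = n196874 := d8_3 F402115 (iv3 F400854) F343763
theorem F402117 : act 6 n177794 = n196874 := d14_5 F402115 (iv6 F400856) F345339 (iv6 D178127) (iv7 F277293)
def n196875 : Q := act 3 n107404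
theorem D196875 : act 3 n107404 = n196875 := rfl
theorem F402118 : act 6 n196875 = n125515 := d7_2 (iv6 F165455) D196875 F201861
def n196876 : Q := act 6 n107411
theorem D196876 : act 6 n107411 = n196876 := rfl
theorem F402119 : act 3 n196876 = n107413 := d7_1 D196876 (iv6 D107413) D107411
theorem F402120 : act 0 n174559 = n196876 := d20_4 (iv4 D38430) D38428 D83420 D174559 F402119 F165674 F164850 (iv4 F172192) F364877 (iv1 D83427)
def n196877 : Q := act 0 n107412
theorem D196877 : act 0 n107412 = n196877 := rfl
theorem F402121 : act 5 n196877 = n107468 := d17_3 (iv1 F165540) D107412 D196877 F165787 (iv5 F112159) F112162 (iv5 D51252) (iv0 D24924) (iv4 F39070)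
theorem F402122 : act 2 n196578 = n196877 := d15_3 (iv0 D196877) F400617 (iv7 F401131)
theorem F402123 : act 1 n107423 = n196877 := d15_0 (iv0 D196877) (iv7 F172325) F172324
theorem F402124 : act 6 n196877 = n180480 := d3_2 (iv6 F401130) F402122 (iv2 F363335)
def n196878 : Q := act 5 n107413
theorem D196878 : act 5 n107413 = n196878 := rfl
theorem F402125 : act 2 n196878 = n145308 := d2_1 D196878 (iv5 F228342) F172321
theorem F402126 : act 7 n196878 = n145307 := d13_2 F400064 D196878 (iv5 F400065)
theorem F402127 : act 0 n196878 = n107443 := d17_2 (iv1 F227006) D196878 (iv5 D107443) F78385 F37925 D49256 (iv5 F80845) (iv0 F103526) (iv4 F227004)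
theorem F402128 : act 1 n196878 = n145310 := d17_6 D49418 F78361 (iv1 F78044) (iv5 F78359) (iv4 F165674) D196878 F228343 F165535 F78151
def n196879 : Q := act 4 n107414
theorem D196879 : act 4 n107414 = n196879 := rfl
theorem F402129 : act 2 n196879 = n157170 := d1_1 D196879 F247340 F165676
theorem F402130 : act 6 n196879 = n110929 := d10_2 F165679 D196879 F171949
theorem F402131 : act 7 n196879 = n110986 := d11_2 (iv7 F165678) D196879 F172034
theorem F402132 : act 5 n196879 = n196855 := d17_5 (iv1 F77677) D106450 (iv1 F164851) (iv5 F165675) D196879 F402048 (iv5 D107394) F78348 F78177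
theorem F402133 : act 0 n196879 = n145292 := d17_0 F228309 (iv1 D107403) (iv5 D49609) F37910 F18550 D24197 D49618 F165677 D196879
theorem F402134 : act 1 n196879 = n127337 := d18_6 F112161 D111125 (iv1 F204580) F172034 (iv5 F165675) D196879 (iv4 D127337) (iv0 F100229) (iv5 F112159)
def n196880 : Q := act 3 n107419
theorem D196880 : act 3 n107419 = n196880 := rfl
theorem F402135 : act 4 n196880 = n107422 := d5_2 D107419 D196880 (iv3 D107422) (iv4 D49617) D49616
theorem F402136 : act 7 n196880 = n195520 := d8_2 (iv7 F165693) D196880 (iv3 D195520)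
theorem F402137 : act 0 n196880 = n195462 := d20_4 F167124 F168328 D107419 D196880 F397066 F221031 (iv1 F362502) (iv4 F397230) (iv3 D195529) F168376
def n196881 : Q := act 6 n107419
theorem D196881 : act 6 n107419 = n196881 := rfl
theorem F402138 : act 2 n196881 = n195525 := d3_1 D196881 (iv6 D195525) (iv2 F165692)
theorem F402139 : act 4 n196881 = n107421 := d10_1 D196881 (iv6 D107421) D107419
theorem F402140 : act 5 n196881 = n145652 := d21_6 D74216 F111059 F79004 D49954 F165694 D196881 (iv1 F396927) (iv5 D195410) F162157 (iv1 D74215)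
theorem F402141 : act 0 n195457 = n196881 := d17_0 F402140 (iv1 F396927) (iv5 D195410) (iv4 D105569) (iv5 F76879) D58976 (iv5 F167256) (iv0 F167257) (iv4 F397051)
def n196882 : Q := act 4 n107420
theorem D196882 : act 4 n107420 = n196882 := rfl
theorem F402142 : act 2 n196882 = n144724 := d1_1 D196882 (iv4 F227564) F222755
theorem F402143 : act 6 n196882 = n112786 := d10_2 F165698 D196882 F175589
theorem F402144 : act 7 n196882 = n144723 := d11_2 (iv7 F222750) D196882 F227562
theorem F402145 : act 0 n196882 = n144712 := d17_0 F351848 (iv1 F397215) (iv5 D195524) (iv4 F162243) F222754 F222752 F209163 (iv0 F209165) D196882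
theorem F402146 : act 1 n196882 = n144726 := d18_6 (iv1 D49956) (iv4 F79005) F165694 (iv4 D107419) D107420 D196882 F227566 (iv0 F167261) (iv5 D108165)
def n196883 : Q := act 4 n107423
theorem D196883 : act 4 n107423 = n196883 := rfl
theorem F402147 : act 3 n196883 = n111306 := d5_1 D196883 (iv4 D111306) F168243 D108636 F351081
theorem F402148 : act 5 n196883 = n196874 := d9_2 D107423 D196883 F402111 F172329 (iv4 D107415) (iv5 D49613) D49612 D107412 (iv4 F351073) (iv5 F351074) (iv4 F351067) (iv5 F172332) (iv4 D107425) (iv5 D49618) D49617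
theorem F402149 : act 7 n196883 = n111537 := d11_2 F351078 D196883 F173059
theorem F402150 : act 0 n196883 = n111338 := d18_2 (iv1 F402123) D196883 (iv4 F402069) F402067 F247340 (iv0 F164849) D195934 F398767 (iv5 F402121)
def n196884 : Q := act 6 n107423
theorem D196884 : act 6 n107423 = n196884 := rfl
theorem F402151 : act 3 n196884 = n156594 := d7_1 D196884 F337420 F351081
theorem F402152 : act 0 n144313 = n196884 := d21_4 F92853 F77628 D67616 D144313 (iv6 D196884) (iv5 D107423) F165546 D51248 F80842 D58759
theorem F402153 : act 5 n156593 = n196884 := d6_0 F402151 (iv5 D156594) D156593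
def n196885 : Q := act 5 n107424
theorem D196885 : act 5 n107424 = n196885 := rfl
theorem F402154 : act 2 n196885 = n145426 := d2_1 D196885 F228452 F172326
theorem F402155 : act 3 n196885 = n156595 := d6_1 D196885 (iv5 F246270) (iv3 F342476)
theorem F402156 : act 6 n196885 = n156593 := d12_2 D107424 D196885 F402153 (iv6 D196884) (iv5 D107423)
theorem F402157 : act 7 n196885 = n145427 := d13_2 F342471 D196885 (iv5 F342472)
theorem F402158 : act 0 n196885 = n107517 := d17_2 F228476 D196885 (iv5 D107517) (iv4 D49668) (iv5 F37967) D27994 (iv5 F80848) F104341 D145441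
theorem F402159 : act 1 n196885 = n107513 := d17_6 D25242 D52009 F82159 (iv5 F79670) (iv4 F165700) D196885 (iv5 D107513) F83907 F39778
theorem F402160 : act 0 n156593 = n134851 := d21_4 (iv5 F228475) F228476 D196885 F402156 (iv6 D134851) D134850 F401144 F401142 (iv6 F331799) (iv1 F175353)
theorem F402161 : act 6 n178124 = n157900 := d21_3 (iv5 F402153) F402160 F345336 (iv1 D157900) F337384 F92853 F77628 D67616 D144313 F402152
theorem F402162 : act 1 n178160 = n134851 := d15_0 (iv0 F402160) F246262 (iv2 F360080)
def n196886 : Q := act 4 n107426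
theorem D196886 : act 4 n107426 = n196886 := rfl
theorem F402163 : act 2 n196886 = n139356 := d1_1 D196886 F222578 (iv2 F220815)
theorem F402164 : act 3 n196886 = n189054 := d5_1 D196886 F375609 (iv3 D140433) D140434 F223619
theorem F402165 : act 7 n196886 = n139934 := d11_2 (iv7 F220817) D196886 (iv4 F223164)
theorem F402166 : act 5 n196886 = n192998 := d17_5 (iv1 F181241) F39067 D51052 (iv5 F220816) D196886 (iv0 F388478) (iv5 F220375) F361548 (iv4 D111056)
theorem F402167 : act 1 n196886 = n139935 := d18_6 (iv1 F220498) F220500 (iv1 F219046) (iv4 F102791) (iv5 F220816) D196886 (iv4 F228409) F228410 F222653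
theorem F402168 : act 0 n196886 = n115996 := d20_1 D196886 F180621 (iv3 D107451) (iv1 D49631) (iv3 D24203) (iv4 D11368) D11366 D24198 D49620 D107426
theorem F402169 : act 6 n150091 = n196886 := d12_0 F402166 (iv6 D192998) F155752 (iv6 F107094) (iv5 F236192)
def n196887 : Q := act 6 n107426
theorem D196887 : act 6 n107426 = n196887 := rfl
theorem F402170 : act 2 n196887 = n145296 := d3_1 D196887 (iv6 D145296) (iv2 F220815)
theorem F402171 : act 3 n196887 = n192385 := d7_1 D196887 (iv6 F386621) F223619
theorem F402172 : act 4 n196887 = n150091 := d10_1 D196887 F402169 (iv4 D196886)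
theorem F402173 : act 7 n196887 = n145421 := d14_2 (iv7 F220817) D196887 F331765 F357573 (iv6 D145294)
theorem F402174 : act 1 n145423 = n196887 := d15_1 (iv0 F388404) F402173 F331763
theorem F402175 : act 5 n192384 = n196887 := d16_7 (iv4 D149019) (iv5 D69886) F51537 D32460 D69900 D149029 (iv4 F386619) F402173 F331763
theorem F402176 : act 0 n107516 = n196887 := d19_0 (iv5 F402175) F386619 (iv3 F388164) F388167 F307371 (iv4 D162721) F119404 F319545 F317246 F113033 (iv3 F117066) (iv1 F58808) (iv5 F325135) F46777 F100164 (iv1 D27994) F37967 D49668 D107516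
def n196888 : Q := act 4 n107427
theorem D196888 : act 4 n107427 = n196888 := rfl
theorem F402177 : act 2 n196888 = n139934 := d1_1 D196888 (iv4 F223164) (iv2 F220818)
theorem F402178 : act 3 n196888 = n115925 := d5_1 D196888 F227342 (iv3 F373265) F373266 F363555
theorem F402179 : act 6 n196888 = n189053 := d10_2 (iv6 F363578) D196888 F375602
theorem F402180 : act 7 n196888 = n139356 := d11_2 (iv7 F220820) D196888 F222578
theorem F402181 : act 1 n196888 = n115996 := d18_6 (iv1 F220494) (iv4 F361822) F361819 F102786 (iv5 F220819) D196888 F180621 (iv0 F220059) (iv5 D107327)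
theorem F402182 : act 0 n196888 = n139935 := d20_1 D196888 (iv4 F228409) (iv3 F400928) (iv1 F400931) (iv3 F228403) (iv4 D136845) (iv1 F218708) F218706 F165746 (iv1 F165707)
theorem F402183 : act 5 n192974 = n196888 := d17_7 F222655 F222653 (iv1 F220498) (iv5 F225704) (iv4 F361551) F220375 (iv0 F388399) F402181 F180621
def n196889 : Q := act 6 n107428
theorem D196889 : act 6 n107428 = n196889 := rfl
theorem F402184 : act 2 n196889 = n107429 := d3_1 D196889 (iv6 D107429) D107428
theorem F402185 : act 3 n196889 = n145313 := d7_1 D196889 (iv6 D145313) (iv3 F165703)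
def n196890 : Q := act 0 n107429
theorem D196890 : act 0 n107429 = n196890 := rfl
def n196891 : Q := act 1 n107429
theorem D196891 : act 1 n107429 = n196891 := rfl
def n196892 : Q := act 5 n107429
theorem D196892 : act 5 n107429 = n196892 := rfl
theorem F402186 : act 3 n196892 = n107432 := d6_1 D196892 (iv5 D107432) (iv3 F165709)
theorem F402187 : act 6 n196892 = n145316 := d12_2 D107429 D196892 (iv5 D145316) (iv6 D68132) (iv5 F78365)
def n196893 : Q := act 7 n107429
theorem D196893 : act 7 n107429 = n196893 := rfl
theorem F402188 : act 3 n196893 = n107433 := d8_1 D196893 (iv7 D107433) (iv3 F165709)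
theorem F402189 : act 6 n196893 = n145301 := d14_1 D196893 (iv7 D145301) (iv6 D68121) (iv7 F78366) D107429
def n196894 : Q := act 3 n107430
theorem D196894 : act 3 n107430 = n196894 := rfl
theorem F402190 : act 2 n196894 = n196566 := d0_1 D196894 (iv3 F401094) (iv2 F360132) (iv3 D145318) F165714
theorem F402191 : act 7 n196894 = n145320 := d8_2 F165712 D196894 (iv3 D145320)
theorem F402192 : act 5 n123891 = n196894 := d2_0 F402190 (iv5 F401095) (iv2 F364128)
theorem F402193 : act 0 n112675 = n196894 := d21_1 F363569 (iv5 F402192) (iv6 F364127) F223795 F343750 (iv5 D51345) F39165 (iv5 F39269) D51524 D111758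
def n196895 : Q := act 5 n107430
theorem D196895 : act 5 n107430 = n196895 := rfl
theorem F402194 : act 2 n196895 = n145319 := d2_1 D196895 (iv5 D145319) F165714
theorem F402195 : act 3 n196895 = n123891 := d6_1 D196895 F402192 (iv3 D196894)
theorem F402196 : act 7 n196895 = n145321 := d13_2 F165712 D196895 (iv5 D145321)
theorem F402197 : act 0 n196895 = n196432 := d17_2 D107430 D196895 (iv5 D196432) F166502 D110943 (iv0 F171995) (iv5 D107435) (iv0 D49622) (iv4 F78368)
theorem F402198 : act 1 n196895 = n196434 := d17_6 (iv1 F82690) (iv5 F161233) F174362 F174359 (iv4 F165710) D196895 (iv5 D196434) (iv0 F176533) (iv4 D113329)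
def n196896 : Q := act 3 n107431
theorem D196896 : act 3 n107431 = n196896 := rfl
theorem F402199 : act 7 n196896 = n145318 := d8_2 (iv7 F165718) D196896 (iv3 D145318)
theorem F402200 : act 0 n196896 = n126155 := d20_4 F165037 (iv1 F82125) (iv4 F165719) D196896 F202850 F104396 F326749 D139716 F222889 (iv1 F165040)
theorem F402201 : act 1 n196896 = n196621 := d15_1 (iv0 F402200) (iv7 D196621) (iv2 F202849)
theorem F402202 : act 2 n196619 = n196896 := d4_3 F402199 F360132 (iv7 F401229)
theorem F402203 : act 1 n196621 = n140697 := d15_1 F402201 (iv7 F401229) F402202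
def n196897 : Q := act 5 n107431
theorem D196897 : act 5 n107431 = n196897 := rfl
theorem F402204 : act 2 n196897 = n145321 := d2_1 D196897 (iv5 D145321) F165720
theorem F402205 : act 7 n196897 = n145319 := d13_2 (iv7 F165718) D196897 (iv5 D145319)
theorem F402206 : act 0 n196897 = n196434 := d17_2 (iv1 F165717) D196897 (iv5 D196434) F164891 (iv5 F93171) (iv0 F93341) F93340 F78369 (iv4 F104293)
theorem F402207 : act 1 n196897 = n196432 := d17_6 D49425 D106984 (iv1 F164901) F82733 (iv4 F165719) D196897 (iv5 D196432) (iv0 D106978) F78158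
def n196898 : Q := act 4 n107432
theorem D196898 : act 4 n107432 = n196898 := rfl
theorem F402208 : act 2 n196898 = n145323 := d1_1 D196898 (iv4 D145323) (iv2 F165721)
theorem F402209 : act 6 n196898 = n145323 := d10_2 (iv6 F165722) D196898 (iv4 D145323)
theorem F402210 : act 1 n196898 = n196458 := d18_6 (iv1 F165025) F165026 (iv1 D49623) (iv4 F78368) D107432 D196898 (iv4 D196458) F228402 F228401
def n196899 : Q := act 4 n107435
theorem D196899 : act 4 n107435 = n196899 := rfl
theorem F402211 : act 2 n196899 = n125748 := d1_1 D196899 F202242 (iv2 F165734)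
theorem F402212 : act 3 n196899 = n127407 := d5_1 D196899 (iv4 F395124) F395123 F176552 F168143
theorem F402213 : act 6 n196899 = n108910 := d10_2 (iv6 F165735) D196899 F168924
theorem F402214 : act 7 n196899 = n113405 := d11_2 (iv7 F165736) D196899 F176595
theorem F402215 : act 5 n196899 = n113322 := d17_5 F39720 (iv5 F37917) D49622 D107435 D196899 (iv0 D113322) (iv5 D52306) (iv0 F82078) F82077
theorem F402216 : act 1 n196899 = n113570 := d18_6 (iv1 D49459) (iv4 F78209) D107060 F165030 D107435 D196899 F176715 (iv0 F163605) F161157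
def n196900 : Q := act 4 n107438
theorem D196900 : act 4 n107438 = n196900 := rfl
theorem F402217 : act 2 n196900 = n111086 := d1_1 D196900 (iv4 D111086) (iv2 F180608)
theorem F402218 : act 7 n196900 = n111071 := d11_2 (iv7 F180610) D196900 (iv4 D111071)
theorem F402219 : act 5 n137989 = n196900 := d2_0 F402217 F172288 D137989
def n196901 : Q := act 6 n107438
theorem D196901 : act 6 n107438 = n196901 := rfl
theorem F402220 : act 2 n196901 = n111087 := d3_1 D196901 (iv6 D111087) (iv2 F180608)
theorem F402221 : act 3 n196901 = n153754 := d7_1 D196901 F400440 F400436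
theorem F402222 : act 7 n153743 = n196901 := d8_0 F402221 F346523 F362003
theorem F402223 : act 0 n107466 = n196901 := d20_4 F80724 (iv1 F39048) D49643 D107466 F402221 F241615 (iv1 F349896) F219973 (iv3 D107101) F111269
theorem F402224 : act 0 n196901 = n153742 := d20_4 F401888 (iv1 F244651) (iv4 F241615) (iv3 F402221) (iv3 F388414) (iv4 D192979) (iv1 D101058) D101059 D192981 (iv1 F401886)
theorem F402225 : act 4 n196901 = n193859 := d20_6 (iv4 D103618) (iv1 F75379) (iv4 F75522) (iv3 F159251) F349904 (iv3 F402221) (iv1 D193859) (iv4 F380200) (iv3 D190581) (iv1 F158981)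
theorem F402226 : act 6 n193859 = n196900 := d10_2 D196901 F402225 (iv4 D196900)
theorem F402227 : act 0 n192753 = n153781 := d21_1 (iv5 F401118) (iv5 F366758) (iv6 D125508) (iv1 D58755) F45130 (iv5 F39067) (iv1 F181246) (iv5 F180609) D196901 F402224
def n196902 : Q := act 4 n107439
theorem D196902 : act 4 n107439 = n196902 := rfl
theorem F402228 : act 2 n196902 = n111071 := d1_1 D196902 (iv4 D111071) (iv2 F180604)
theorem F402229 : act 3 n196902 = n109592 := d5_1 D196902 (iv4 F169571) F180598 F180601 (iv3 F180605)
theorem F402230 : act 7 n196902 = n111086 := d11_2 (iv7 F180607) D196902 (iv4 D111086)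
theorem F402231 : act 5 n196902 = n137978 := d17_5 (iv1 F80828) (iv5 D51238) F181242 (iv5 F180606) D196902 (iv0 F383809) F383801 F361820 (iv4 F102791)
def n196903 : Q := act 6 n107439
theorem D196903 : act 6 n107439 = n196903 := rfl
theorem F402232 : act 2 n196903 = n111072 := d3_1 D196903 (iv6 D111072) (iv2 F180604)
theorem F402233 : act 3 n196903 = n140589 := d7_1 D196903 F348358 (iv3 F180605)
theorem F402234 : act 7 n196903 = n145431 := d14_2 (iv7 F180607) D196903 F348831 (iv7 F366149) (iv6 D111087)
theorem E103671 : n145430 = n111072 := ((c15_4 (iv0 D145430) D145431 (iv7 F402234) F402232)).symm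
theorem F402235 : act 1 n111072 = n68180 := (sb E103671 (iv0 D145430))
theorem F402236 : act 5 n140587 = n196903 := d6_0 F402233 (iv5 D140589) D140587
theorem F402237 : act 0 n196903 = n107512 := d20_4 (iv4 F348839) (iv1 D140820) (iv4 F342429) (iv3 F402233) (iv3 D107512) (iv4 D49664) (iv1 F37969) (iv4 F50039) (iv3 F104317) (iv1 F228417)
def n196904 : Q := act 6 n107440
theorem D196904 : act 6 n107440 = n196904 := rfl
theorem F402238 : act 2 n196904 = n107441 := d3_1 D196904 (iv6 D107441) D107440
theorem F402239 : act 3 n196904 = n145297 := d7_1 D196904 (iv6 D145297) (iv3 F165746)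
def n196905 : Q := act 0 n107441
theorem D196905 : act 0 n107441 = n196905 := rfl
theorem F402240 : act 3 n196905 = n174521 := d20_5 F165057 (iv1 D49628) (iv4 F78385) (iv3 F165752) D196905 F273402 F298757 (iv4 F330955) F228383 (iv1 F165055)
theorem F402241 : act 6 n128805 = n196905 := d7_0 F402240 (iv6 F275319) (iv3 F364904)
def n196906 : Q := act 1 n107441
theorem D196906 : act 1 n107441 = n196906 := rfl
def n196907 : Q := act 5 n107441
theorem D196907 : act 5 n107441 = n196907 := rfl
theorem F402242 : act 3 n196907 = n107443 := d6_1 D196907 (iv5 D107443) (iv3 F165752)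
theorem F402243 : act 6 n196907 = n145300 := d12_2 D107441 D196907 (iv5 D145300) (iv6 D68121) (iv5 F78382)
def n196908 : Q := act 7 n107441
theorem D196908 : act 7 n107441 = n196908 := rfl
theorem F402244 : act 3 n196908 = n107444 := d8_1 D196908 (iv7 D107444) (iv3 F165752)
theorem F402245 : act 4 n196908 = n193668 := d11_1 D196908 F390633 F218712
theorem F402246 : act 6 n196908 = n145317 := d14_1 D196908 (iv7 D145317) (iv6 D68132) (iv7 F78383) D107441
def n196909 : Q := act 3 n107442
theorem D196909 : act 3 n107442 = n196909 := rfl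
theorem F402247 : act 4 n196909 = n156089 := d5_2 (iv4 F165755) D196909 F245253 F111126 F82117
theorem F402248 : act 6 n196909 = n196405 := d7_2 F165757 D196909 F400602
theorem F402249 : act 7 n196909 = n145302 := d8_2 (iv7 F165754) D196909 (iv3 D145302)
theorem F402250 : act 0 n174522 = n196909 := d20_4 F330944 (iv1 D83408) D83409 D174522 (iv3 D196909) F165755 (iv1 D51995) (iv4 F50032) (iv3 F104298) D145336
theorem F402251 : act 1 n112670 = n196909 := d15_0 (iv0 F402250) F362962 (iv2 F182535)
def n196910 : Q := act 5 n107442
theorem D196910 : act 5 n107442 = n196910 := rfl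
theorem F402252 : act 2 n196910 = n145305 := d2_1 D196910 (iv5 D145305) F165756
theorem F402253 : act 7 n196910 = n145303 := d13_2 (iv7 F165754) D196910 (iv5 D145303)
theorem F402254 : act 1 n196910 = n196422 := d17_6 F165490 (iv5 F164878) (iv1 F164881) F163729 (iv4 F165755) D196910 F400645 (iv0 F245361) F172322
theorem F402255 : act 1 n196423 = n196910 := d15_1 D196423 F402253 F228334
def n196911 : Q := act 0 n107443
theorem D196911 : act 0 n107443 = n196911 := rfl
theorem F402256 : act 5 n196911 = n196217 := d17_3 (iv1 D107442) D107443 D196911 (iv4 D196217) (iv5 D106770) (iv0 D49336) (iv5 F39772) D51995 (iv4 F165755)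
theorem F402257 : act 2 n145307 = n196911 := d15_3 (iv0 D196911) (iv0 F402127) F402126
theorem F402258 : act 7 n196911 = n145308 := d4_2 F402126 F402257 (iv2 F402125)
theorem F402259 : act 1 n145310 = n196911 := d15_1 F402128 F402258 (iv2 F402125)
def n196912 : Q := act 4 n107443
theorem D196912 : act 4 n107443 = n196912 := rfl
theorem F402260 : act 2 n196912 = n145309 := d1_1 D196912 (iv4 D145309) (iv2 F165758)
theorem F402261 : act 6 n196912 = n145309 := d10_2 (iv6 F165759) D196912 (iv4 D145309)
def n196913 : Q := act 7 n107443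
theorem D196913 : act 7 n107443 = n196913 := rfl
theorem F402262 : act 2 n196913 = n145310 := d4_1 D196913 (iv7 D145310) (iv2 F165758)
theorem F402263 : act 5 n196913 = n107444 := d13_1 D196913 (iv7 D107444) D107443
theorem F402264 : act 1 n145308 = n196913 := d15_1 D145308 (iv7 D196913) F165758
theorem F402265 : act 1 n196913 = n145307 := d15_1 F402264 (iv7 F402126) F402125
def n196914 : Q := act 1 n107446
theorem D196914 : act 1 n107446 = n196914 := rfl
theorem F402266 : act 1 n196914 = n115395 := d15_1 D196914 (iv7 F400929) F400927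
theorem F402267 : act 7 n196914 = n145359 := d15_2 (iv0 F401054) D196914 (iv2 F401051)
theorem F402268 : act 5 n196914 = n195928 := d17_7 (iv1 F165278) D196705 (iv1 F401550) F397072 (iv4 F172016) (iv5 F180732) D196914 F398752 (iv4 D195460)
theorem F402269 : act 4 n196562 = n196914 := d20_0 (iv1 D196914) F165766 D115399 F180705 D139668 (iv4 F223104) F350870 (iv4 F401102) (iv3 D196569) (iv1 F401090)
theorem F402270 : act 3 n115300 = n196562 := d20_5 (iv4 D65554) (iv1 F84257) (iv4 F179601) (iv3 F400896) (iv1 F400901) F402269 (iv1 D196914) F165766 D115399 F180705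
theorem F402271 : act 2 n145348 = n196914 := d2_3 F402268 (iv2 D195928) (iv5 F228395)
def n196915 : Q := act 6 n107446
theorem D196915 : act 6 n107446 = n196915 := rfl
theorem F402272 : act 3 n196915 = n107449 := d7_1 D196915 (iv6 D107449) D107446
theorem F402273 : act 4 n196915 = n115401 := d10_1 D196915 (iv6 D115401) (iv4 F165766)
def n196916 : Q := act 0 n107449
theorem D196916 : act 0 n107449 = n196916 := rfl
theorem F402274 : act 4 n196916 = n116860 := d18_3 (iv1 F159154) F336842 D196916 F342457 F125269 D95594 F340933 F75489 (iv5 F129568)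
theorem F402275 : act 2 n139716 = n196916 := d15_3 (iv0 D196916) F401024 F401021
theorem F402276 : act 1 n145372 = n196916 := d15_0 (iv0 D196916) (iv7 F357272) (iv2 F357273)
theorem F402277 : act 7 n196916 = n145370 := d15_2 (iv0 F401023) F402276 (iv2 F401022)
theorem F402278 : act 6 n196916 = n153797 := d3_2 (iv6 F364418) F402275 F312393
def n196917 : Q := act 5 n107449
theorem D196917 : act 5 n107449 = n196917 := rfl
theorem F402279 : act 2 n196917 = n145371 := d2_1 D196917 (iv5 D145371) F180680
theorem F402280 : act 4 n196917 = n194550 := d16_2 F336842 D196917 (iv5 D194550) F378730 F378726 F378010 (iv5 F341052) F341053 (iv2 F336841)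
theorem F402281 : act 0 n196917 = n153716 := d17_2 (iv1 F401024) D196917 (iv5 D153716) F109217 (iv5 F105013) (iv0 F334482) F334486 (iv0 F342461) (iv4 F401020)
theorem F402282 : act 1 n196917 = n156803 := d17_6 (iv1 F341038) F201180 (iv1 F341036) F159155 F336842 D196917 (iv5 D156803) (iv0 F353404) F353405
def n196918 : Q := act 2 n107451
theorem D196918 : act 2 n107451 = n196918 := rfl
theorem F402283 : act 3 n196918 = n115395 := d0_2 D107451 D196918 F180679 (iv3 D68153) F180666
theorem F402284 : act 7 n196918 = n145367 := d4_2 (iv7 F180682) D196918 (iv2 D145367)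
theorem F402285 : act 1 n196918 = n145366 := d15_0 (iv0 D145366) (iv7 F180682) D196918
theorem F402286 : act 1 n145328 = n196918 := d15_0 F402285 (iv7 F362371) F362373
def n196919 : Q := act 6 n107451
theorem D196919 : act 6 n107451 = n196919 := rfl
theorem F402287 : act 3 n196919 = n107453 := d7_1 D196919 (iv6 D107453) D107451
def n196920 : Q := act 1 n107453
theorem D196920 : act 1 n107453 = n196920 := rfl
theorem F402288 : act 1 n196920 = n145365 := d15_1 D196920 (iv7 D145365) (iv2 F180681)
theorem F402289 : act 7 n196920 = n145362 := d15_2 (iv0 F364876) D196920 F366100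
theorem F402290 : act 4 n196920 = n116872 := d18_7 (iv1 D131608) F96342 D61752 D131613 (iv5 F333343) F180615 D196920 F182600 (iv5 F324910)
theorem F402291 : act 5 n196920 = n190157 := d18_9 (iv1 F381362) F381360 (iv1 F149586) D190155 F378998 F341147 F333344 F180615 D196920
theorem F402292 : act 3 n194546 = n196920 := d20_9 (iv4 F180615) (iv1 F333344) (iv4 F341147) (iv3 F341148) (iv1 D162611) D162612 F256840 F361617 (iv4 F393672) (iv1 D196920)
theorem F402293 : act 2 n196920 = n139786 := d0_1 F402292 F222969 F165058 D196556 (iv2 F401073)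
theorem F402294 : act 6 n196920 = n152937 := d7_2 D194546 F402292 (iv3 F361901)
def n196921 : Q := act 5 n107453
theorem D196921 : act 5 n107453 = n196921 := rfl
theorem F402295 : act 2 n196921 = n145364 := d2_1 D196921 (iv5 D145364) (iv2 F180681)
theorem F402296 : act 4 n196921 = n190846 := d16_2 F180615 D196921 F381309 F380360 (iv5 D131619) D131618 F341024 (iv7 F357276) F228405
theorem F402297 : act 1 n196921 = n191009 := d17_8 (iv1 F381854) (iv5 F381856) (iv1 F381005) F149949 (iv4 F379003) (iv5 F379004) (iv0 F364876) D196921 (iv4 D191009)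
theorem F402298 : act 0 n196921 = n191008 := d18_0 (iv4 D191008) F150040 D191113 F382284 F228529 (iv0 F340813) (iv4 F167317) (iv0 F364876) D196921
def n196922 : Q := act 7 n107453
theorem D196922 : act 7 n107453 = n196922 := rfl
theorem F402299 : act 2 n196922 = n145365 := d4_1 D196922 (iv7 D145365) (iv2 F180681)
theorem F402300 : act 4 n196922 = n156540 := d11_1 D196922 F363151 F180615
theorem F402301 : act 6 n196922 = n145372 := d14_1 D196922 (iv7 D145372) (iv6 D68160) F180665 D107453
theorem F402302 : act 1 n139786 = n196922 := d15_1 (iv0 F366108) (iv7 D196922) F180681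
theorem F402303 : act 1 n196922 = n145362 := d15_1 F402302 (iv7 F402289) F402293
def n196923 : Q := act 3 n107455
theorem D196923 : act 3 n107455 = n196923 := rfl
theorem F402304 : act 4 n196923 = n152791 := d5_2 (iv4 F322057) D196923 (iv3 D152791) (iv4 F162621) F162618
theorem F402305 : act 7 n196923 = n128365 := d8_2 (iv7 F322058) D196923 (iv3 D128365)
theorem F402306 : act 0 n196518 = n152791 := d20_1 (iv4 F400940) (iv4 F402304) (iv3 D196923) F322055 F325992 (iv4 D48064) (iv1 F75385) (iv4 F158992) (iv3 F393345) (iv1 F393347)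
theorem F402307 : act 5 n196923 = n196376 := d18_4 (iv1 F393347) (iv4 F400940) F402306 (iv4 F402304) (iv4 D196376) F216788 F216784 F345419 (iv5 F393346)
def n196924 : Q := act 5 n107455
theorem D196924 : act 5 n107455 = n196924 := rfl
theorem F402308 : act 2 n196924 = n127984 := d2_1 D196924 (iv5 D127984) (iv2 F322056)
theorem F402309 : act 3 n196924 = n196376 := d6_1 D196924 (iv5 F402307) (iv3 D196923)
theorem F402310 : act 7 n196924 = n128042 := d13_2 (iv7 F322058) D196924 F206045
theorem F402311 : act 4 n196924 = n128044 := d16_2 (iv4 F322057) D196924 F206049 F94711 F46161 (iv4 F50867) D59948 F94426 (iv2 F94421)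
theorem F402312 : act 0 n196924 = n150847 := d17_2 D107455 D196924 F237417 (iv4 D71238) (iv5 D32971) F50781 D16183 F320382 (iv4 F78404)
theorem F402313 : act 1 n196924 = n118429 := d17_6 (iv1 D59950) (iv5 D28471) D28469 D59947 (iv4 F322057) D196924 (iv5 D118429) D118427 F186223
theorem F402314 : act 6 n196924 = n196375 := d21_3 (iv5 D107457) D107455 D196924 (iv1 F400514) F400320 (iv5 D196321) (iv1 F164755) D137677 (iv6 F350043) (iv1 F322063)
theorem E103672 : n196378 = n196376 := (c7_3 F402314 (iv3 D196375) D196378 (iv3 F402309))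
theorem F402315 : act 6 n196376 = n106930 := (sb E103672 (iv6 D196378))
def n196925 : Q := act 5 n107456
theorem D196925 : act 5 n107456 = n196925 := rfl
theorem F402316 : act 2 n196925 = n128042 := d2_1 D196925 F206045 (iv2 F322060)
theorem F402317 : act 4 n196925 = n127949 := d9_1 D196925 (iv5 D127949) (iv4 D60111) (iv5 D28562) (iv4 F50870) D59947 (iv4 F322057) D196924 F402311 F206049 F94711 F46161 (iv4 F50867) D59948 F322626
theorem F402318 : act 7 n196925 = n127984 := d13_2 (iv7 F322061) D196925 (iv5 D127984)
theorem F402319 : act 0 n196925 = n118429 := d17_2 (iv1 F322059) D196925 (iv5 D118429) (iv4 D54537) (iv5 D26374) (iv0 F50786) (iv5 F25766) (iv0 F54204) D72211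
theorem F402320 : act 1 n196925 = n150847 := d17_6 (iv1 F94429) (iv5 D28504) (iv1 F45993) D59948 F322626 D196925 F237417 F186218 F186217
theorem E103673 : n196775 = n108936 := (c21_5 (iv5 D196925) (iv1 D107456) D107457 F165771 D196775 (iv6 D108936) (iv5 D50295) D50292 (iv5 F354397) F354398 (iv1 F402320))
theorem F402321 : act 1 n108936 = n107311 := (sb E103673 (iv0 D196775))
theorem F402322 : act 4 n196326 = n109065 := d20_8 F205596 (iv1 F339909) (iv4 D107315) (iv3 F165372) (iv1 F402321) F168943 (iv4 F164769) D196326 (iv3 F351238) (iv1 F339917)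
theorem F402323 : act 3 n187920 = n196326 := d5_5 F402322 (iv3 F351238) F352666 (iv3 F178408) (iv4 F371838)
theorem F402324 : act 7 n187915 = n196326 := d11_0 F402322 (iv7 F351239) (iv4 F371834)
def n196926 : Q := act 3 n107459
theorem D196926 : act 3 n107459 = n196926 := rfl
theorem F402325 : act 5 n196926 = n144301 := d6_2 (iv5 F165775) D196926 (iv3 D144301)
theorem F402326 : act 0 n196818 = n196926 := d17_2 (iv1 D196817) D196818 F402325 (iv4 F346507) (iv5 F362174) F362172 (iv5 F237111) F244651 (iv4 F401888)
def n196927 : Q := act 6 n107459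
theorem D196927 : act 6 n107459 = n196927 := rfl
theorem F402327 : act 4 n196927 = n113912 := d10_1 D196927 (iv6 F248589) F335542
theorem F402328 : act 0 n196927 = n113639 := d21_4 (iv5 D67612) D67610 (iv5 F165775) D196927 F176815 (iv5 F161471) F161472 F83390 (iv6 F339958) F172028
def n196928 : Q := act 2 n107466
theorem D196928 : act 2 n107466 = n196928 := rfl
theorem F402329 : act 3 n196928 = n191971 := d0_2 D107466 D196928 (iv2 F385038) (iv3 D107094) F111247
theorem F402330 : act 7 n196928 = n153742 := d4_2 (iv7 F165783) D196928 F385263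
theorem F402331 : act 1 n196928 = n153743 := d15_0 (iv0 F362004) (iv7 F165783) D196928
theorem F402332 : act 1 n111087 = n196928 := d15_0 F402331 F402222 F402220
def n196929 : Q := act 5 n107466
theorem D196929 : act 5 n107466 = n196929 := rfl
theorem F402333 : act 3 n196929 = n107467 := d6_1 D196929 (iv5 D107467) D107466
theorem F402334 : act 7 n196929 = n196575 := d13_2 (iv7 F165783) D196929 (iv5 D196575)
theorem F402335 : act 6 n188464 = n196929 := d14_5 F402334 (iv6 F401115) (iv7 F365260) D192755 (iv7 F387677)
theorem F402336 : act 4 n196929 = n188465 := d10_1 F402335 (iv6 D188465) D188464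
theorem F402337 : act 0 n153781 = n196929 := d20_4 F402311 (iv1 F206050) F109230 D153781 F402333 F345199 (iv1 F178326) F339944 F349172 (iv1 F402313)
def n196930 : Q := act 6 n107466
theorem D196930 : act 6 n107466 = n196930 := rfl
theorem F402338 : act 3 n196930 = n107468 := d7_1 D196930 (iv6 D107468) D107466
theorem F402339 : act 4 n196930 = n193178 := d10_1 D196930 (iv6 F389075) F218760
theorem F402340 : act 0 n176987 = n196930 := d18_2 F367484 F348200 F402339 (iv5 D193178) F351743 F330206 (iv4 F226274) (iv0 F351746) D186626
def n196931 : Q := act 6 n107467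
theorem D196931 : act 6 n107467 = n196931 := rfl
theorem F402341 : act 2 n196931 = n196577 := d3_1 D196931 (iv6 D196577) (iv2 F165784)
theorem F402342 : act 3 n196931 = n188464 := d7_1 D196931 F402335 F402333
theorem F402343 : act 4 n196931 = n127817 := d10_1 D196931 F205632 (iv4 F345199)
theorem F402344 : act 5 n196931 = n180480 := d12_1 D196931 (iv6 F402124) F402121 (iv6 D107468) D107467
theorem F402345 : act 7 n196931 = n114526 := d14_2 (iv7 F165785) D196931 (iv6 D114526) (iv7 F83509) (iv6 F339925)
theorem F402346 : act 0 n157902 = n196931 := d21_4 (iv5 D157177) F163566 F360111 F360110 (iv6 D196931) (iv5 D107467) F111356 D59122 (iv6 F163684) (iv1 F247361)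
def n196932 : Q := act 0 n107478
theorem D196932 : act 0 n107478 = n196932 := rfl
theorem F402347 : act 4 n196932 = n110335 := d20_2 (iv4 F165811) D196932 F376675 (iv1 D93984) F294561 (iv4 F142021) D188514 F373783 F364666 (iv1 D107480)
theorem F402348 : act 2 n133658 = n196932 := d1_3 F402347 (iv2 F171485) D133658
theorem F402349 : act 7 n133662 = n196932 := d11_0 F402347 F171484 D133662
def n196933 : Q := act 1 n107478
theorem D196933 : act 1 n107478 = n196933 := rfl
theorem F402350 : act 7 n196933 = n133658 := d15_2 (iv0 D196932) D196933 F402348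
theorem F402351 : act 4 n196933 = n110336 := d18_7 (iv1 F398817) (iv4 F398819) (iv1 F363245) F211178 F163715 (iv4 F165811) D196933 F170573 (iv5 F215071)
theorem F402352 : act 3 n144173 = n196933 := d20_3 (iv4 D94447) D94445 F359560 (iv1 D196933) F361219 (iv4 F348731) F257868 (iv4 F358961) F377671 (iv1 D189764)
theorem F402353 : act 6 n144170 = n196933 := d21_3 (iv5 F340475) F340473 D144170 (iv1 D196933) (iv6 D107478) F78418 (iv1 F40061) (iv5 F76747) (iv6 F161752) (iv1 F175892)
theorem F402354 : act 2 n133662 = n196933 := d1_3 F402351 F171482 D133662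
def n196934 : Q := act 5 n107478
theorem D196934 : act 5 n107478 = n196934 := rfl
theorem F402355 : act 3 n196934 = n166711 := d6_1 D196934 F348737 (iv3 F361219)
theorem F402356 : act 6 n196934 = n112857 := d12_2 D107478 D196934 (iv5 D112857) (iv6 D52092) (iv5 F78418)
theorem F402357 : act 7 n196934 = n187264 := d13_2 F361220 D196934 F369656
theorem F402358 : act 4 n196934 = n160678 := d16_2 (iv4 F165811) D196934 (iv5 D160678) (iv4 F122676) (iv5 F135433) (iv4 F287995) (iv5 F348094) (iv7 D113016) F82479
def n196935 : Q := act 3 n107479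
theorem D196935 : act 3 n107479 = n196935 := rfl
theorem F402359 : act 4 n111857 = n196935 := d19_2 D51777 (iv5 F174554) (iv3 D196935) (iv1 F176056) F348094 F287995 (iv3 D88459) (iv1 F293071) (iv5 F294069) (iv4 D41267) F31073 F28320 (iv5 D17366) F12901 (iv3 F17455) (iv1 F17495) F17497 D18470 F325262
theorem F402360 : act 0 n196935 = n189758 := d20_1 F402359 (iv4 F392399) (iv3 D194220) (iv1 D103000) (iv3 D47757) (iv4 D22978) (iv1 F291757) F291759 (iv3 F327199) D111857
theorem F402361 : act 1 n196935 = n112923 := d15_1 (iv0 F402360) (iv7 F362431) (iv2 F377642)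
def n196936 : Q := act 4 n107479
theorem D196936 : act 4 n107479 = n196936 := rfl
def n196937 : Q := act 6 n107479
theorem D196937 : act 6 n107479 = n196937 := rfl
theorem F402362 : act 5 n196937 = n107542 := d12_1 D196937 (iv6 F397806) (iv5 F399914) F399915 F379816
theorem F402363 : act 7 n196937 = n195867 := d14_2 (iv7 F176055) D196937 F398529 (iv7 F178007) F178009
def n196938 : Q := act 5 n107482
theorem D196938 : act 5 n107482 = n196938 := rfl
theorem F402364 : act 2 n196938 = n144007 := d2_1 D196938 (iv5 D144007) F182547
theorem F402365 : act 7 n196938 = n144004 := d13_2 (iv7 F182549) D196938 (iv5 D144004)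
theorem F402366 : act 4 n196938 = n145519 := d16_2 (iv4 F166902) D196938 (iv5 D145519) (iv4 D68236) (iv5 D31756) D31755 D68234 F182542 (iv2 F182548)
theorem F402367 : act 0 n196938 = n143661 := d17_2 D107482 D196938 (iv5 F356918) F356917 (iv5 F78398) F78400 (iv5 F166889) (iv0 D49657) (iv4 F78419)
theorem F402368 : act 1 n196938 = n111005 := d17_6 (iv1 F180291) F180289 (iv1 D68213) D68215 (iv4 F166902) D196938 (iv5 D111005) D111004 (iv4 F172091)
theorem F402369 : act 6 n196938 = n189999 := d21_3 F103448 D107482 D196938 (iv1 F378519) (iv6 F378549) F378548 F360549 (iv5 F379494) F379493 F306958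
theorem E103674 : n190423 = n189999 := ((c3_1 F402369 (iv2 D190423) F366864 (iv2 F402364))).symm
theorem F402370 : act 2 n189999 = n96023 := (sb E103674 (iv2 D190423))
theorem F402371 : act 3 n189999 = n191196 := (sb E103674 F399902)
theorem F402372 : act 7 n189999 = n96024 := (sb E103674 (iv7 F379748))
theorem E103675 : n190427 = n190000 := (c15_4 F378516 F378519 F402372 (iv2 F379752))
theorem F402373 : act 2 n190000 = n96024 := (sb E103675 F379752)
theorem F402374 : act 7 n190000 = n96023 := (sb E103675 (iv7 D190427))
def n196939 : Q := act 6 n107482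
theorem D196939 : act 6 n107482 = n196939 := rfl
theorem F402375 : act 2 n196939 = n144008 := d3_1 D196939 (iv6 D144008) F182547
theorem F402376 : act 3 n196939 = n128262 := d7_1 D196939 (iv6 F362964) (iv3 F219956)
theorem F402377 : act 4 n196939 = n145476 := d10_1 D196939 (iv6 D145476) (iv4 F166902)
theorem F402378 : act 0 n196939 = n194547 := d21_4 D111005 (iv1 F402368) (iv5 D196938) D196939 F393677 (iv5 F382218) (iv1 F393718) (iv5 D194571) F363564 (iv1 D111004)
theorem F402379 : act 0 n144103 = n196939 := d21_4 F320990 D127636 F334492 F361618 (iv6 D196939) D196938 F402367 (iv5 F356918) (iv6 D103734) D103731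
theorem F402380 : act 7 n128260 = n196939 := d11_0 F402377 (iv7 F362968) F256840
def n196940 : Q := act 3 n107483
theorem D196940 : act 3 n107483 = n196940 := rfl
theorem F402381 : act 4 n196940 = n196563 := d5_2 F166898 D196940 (iv3 D196563) (iv4 D107079) (iv3 F166897)
theorem F402382 : act 7 n196940 = n144006 := d8_2 F182545 D196940 (iv3 D144006)
theorem F402383 : act 0 n144078 = n196563 := d20_1 D144078 (iv4 F402381) (iv3 D196940) (iv1 D107483) (iv3 D49653) (iv4 D24214) (iv1 F18588) D14789 D31368 D67509
theorem F402384 : act 0 n144138 = n196940 := d20_10 F402381 F401091 F222799 (iv3 F182995) (iv1 D117046) D117047 F183001 D139495 F222679 D144138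
def n196941 : Q := act 5 n107483
theorem D196941 : act 5 n107483 = n196941 := rfl
theorem F402385 : act 2 n196941 = n144004 := d2_1 D196941 (iv5 D144004) (iv2 F182546)
theorem F402386 : act 4 n196941 = n113052 := d9_1 D196941 F325372 (iv4 D68220) (iv5 D31751) D31750 D68215 (iv4 F166902) D196938 F402366 (iv5 D145519) (iv4 D68236) (iv5 D31756) D31755 D68234 F166898
theorem F402387 : act 7 n196941 = n144007 := d13_2 F182545 D196941 (iv5 D144007)
theorem F402388 : act 0 n196941 = n111005 := d17_2 F165815 D196941 (iv5 D111005) F80749 F39055 D31730 F166900 F80719 (iv4 F103324)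
theorem F402389 : act 1 n196941 = n143661 := d17_6 (iv1 F180292) (iv5 F180286) (iv1 F104386) D68234 F166898 D196941 (iv5 F356918) F356914 F172088
def n196942 : Q := act 6 n107483
theorem D196942 : act 6 n107483 = n196942 := rfl
theorem F402390 : act 2 n196942 = n144005 := d3_1 D196942 (iv6 D144005) (iv2 F182546)
theorem F402391 : act 4 n196942 = n145513 := d10_1 D196942 (iv6 D145513) F166898
theorem F402392 : act 5 n196942 = n187343 := d21_6 (iv5 D42773) (iv1 F291402) D44794 (iv6 F302682) F165815 D196942 (iv1 D187343) F138066 (iv6 D48062) F292225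
theorem F402393 : act 2 n187343 = n187260 := d2_1 F402392 (iv5 F369650) (iv2 F402390)
theorem F402394 : act 7 n187259 = n187343 := d15_2 F369900 F369901 F402393
theorem F402395 : act 7 n187342 = n187260 := d15_2 F369893 F369899 (iv2 F402393)
theorem F402396 : act 2 n187259 = n187342 := d4_3 F402395 (iv2 F402393) (iv7 F402394)
theorem F402397 : act 0 n196942 = n144066 := d20_7 F104301 (iv1 F82130) (iv4 F104292) D145320 F400248 (iv3 F228571) (iv4 F402391) (iv4 F401016) (iv3 D196541) (iv1 F165032)
def n196943 : Q := act 3 n107486
theorem D196943 : act 3 n107486 = n196943 := rfl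
theorem F402398 : act 2 n196943 = n158862 := d0_1 D196943 (iv3 F359252) (iv2 F361843) (iv3 D117023) F165826
theorem F402399 : act 4 n196943 = n115977 := d5_2 (iv4 F165823) D196943 (iv3 D115977) (iv4 D53468) (iv3 F82711)
theorem F402400 : act 7 n196943 = n113371 := d8_2 (iv7 F165825) D196943 (iv3 D113371)
theorem F402401 : act 0 n196943 = n158812 := d19_4 (iv1 F76531) (iv5 F82712) (iv4 F165823) D196943 (iv5 D158812) (iv4 D75770) F54897 (iv1 F28004) (iv5 F28005) (iv4 F43122) (iv3 F46223) F307349 (iv5 F308993) F57761 F56165 D39285 F327551 (iv4 F119825) (iv3 F327666)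
theorem F402402 : act 5 n121051 = n196943 := d17_1 (iv1 F193048) F402401 (iv5 D158812) (iv4 D75770) (iv5 D34651) (iv0 F54654) (iv5 F325860) (iv0 F326666) D83121
theorem F402403 : act 1 n196943 = n144144 := d15_1 (iv0 F402401) (iv7 F356126) (iv2 F356127)
def n196944 : Q := act 5 n107486
theorem D196944 : act 5 n107486 = n196944 := rfl
theorem F402404 : act 2 n196944 = n117024 := d2_1 D196944 (iv5 D117024) F165826
theorem F402405 : act 3 n196944 = n121051 := d6_1 D196944 F402402 (iv3 D196943)
theorem F402406 : act 7 n196944 = n113372 := d13_2 (iv7 F165825) D196944 (iv5 D113372)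
theorem F402407 : act 4 n196944 = n167709 := d16_2 (iv4 F165823) D196944 (iv5 F362295) (iv4 D126215) (iv5 D59170) F45411 (iv5 F46629) F82703 (iv2 F82710)
theorem F402408 : act 0 n196944 = n111982 := d17_2 D107486 D196944 (iv5 F346857) (iv4 D126178) (iv5 D59145) F77453 F78429 (iv0 D49655) (iv4 F78422)
theorem F402409 : act 6 n196944 = n137261 := d21_3 (iv5 D107487) D107486 D196944 (iv1 D137261) F100440 D64525 (iv1 F318861) F338517 D155969 F350485
def n196945 : Q := act 4 n107487
theorem D196945 : act 4 n107487 = n196945 := rfl
theorem F402410 : act 2 n196945 = n117028 := d1_1 D196945 (iv4 D117028) (iv2 F165836)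
theorem F402411 : act 6 n196945 = n176852 := d10_2 (iv6 F346855) D196945 (iv4 D176852)
theorem F402412 : act 7 n196945 = n177440 := d11_2 F394721 D196945 (iv4 F394719)
theorem F402413 : act 5 n196945 = n195693 := d16_1 D196945 F397876 F202982 F170875 F80357 (iv4 F85067) (iv5 F350492) F350493 (iv2 F165836)
theorem F402414 : act 0 n195028 = n196945 := d20_10 (iv4 D196945) (iv1 F350488) (iv4 F296355) (iv3 D166624) (iv1 F296353) (iv3 F331138) D113441 F397856 F397855 (iv3 F395485)
theorem F402415 : act 3 n177444 = n196945 := d20_5 (iv4 D84363) (iv1 F59947) (iv4 F60011) (iv3 F129712) (iv1 F341724) (iv4 D196945) (iv1 F350488) (iv4 F296355) (iv3 D166624) (iv1 F296353)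
def n196946 : Q := act 1 n107491
theorem D196946 : act 1 n107491 = n196946 := rfl
theorem F402416 : act 1 n196946 = n196810 := d15_1 D196946 F401869 F401188
theorem F402417 : act 7 n196946 = n196805 := d15_2 F397065 D196946 F401856
theorem F402418 : act 5 n196946 = n196757 := d17_7 (iv1 F165177) D196653 F401361 (iv5 F182525) (iv4 F164989) F166891 D196946 F401703 F165400
theorem F402419 : act 3 n145366 = n196946 := d20_3 (iv4 F84350) D115938 (iv4 F228408) (iv1 D196946) (iv3 D107491) D107492 F373268 F373266 F363555 (iv1 D107427)
theorem F402420 : act 2 n196946 = n140672 := d0_1 F402419 F386485 (iv2 F336113) (iv3 F165386) (iv2 F362372)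
theorem F402421 : act 4 n196946 = n196611 := d20_6 F172278 (iv1 D65691) F50034 D68158 D145366 F402419 (iv1 D196611) (iv4 D107137) F84887 (iv1 F172277)
theorem F402422 : act 3 n196611 = n139395 := d20_3 (iv4 F401867) (iv1 F402416) F402421 (iv1 D139395) (iv3 D65426) (iv4 D30678) (iv1 F38579) D24578 D50426 D109274
theorem F402423 : act 6 n140385 = n196946 := d3_0 F402420 (iv6 D140672) (iv2 F223504)
def n196947 : Q := act 6 n107491
theorem D196947 : act 6 n107491 = n196947 := rfl
theorem F402424 : act 3 n196947 = n107494 := d7_1 D196947 (iv6 D107494) D107491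
def n196948 : Q := act 3 n107492
theorem D196948 : act 3 n107492 = n196948 := rfl
theorem F402425 : act 0 n196948 = n144077 := d20_4 F78419 D49657 D107492 D196948 (iv3 D144077) D144078 F402383 (iv4 F402381) (iv3 D196940) (iv1 D107483)
theorem F402426 : act 0 n144497 = n196948 := d20_4 (iv4 F85052) (iv1 F180263) (iv4 F103764) D144497 (iv3 D196948) (iv4 D107492) (iv1 F80717) (iv4 F103324) F103323 F85053
def n196949 : Q := act 5 n107492
theorem D196949 : act 5 n107492 = n196949 := rfl
theorem F402427 : act 7 n196949 = n191321 := d13_2 F180729 D196949 (iv5 F383034)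
theorem F402428 : act 4 n196949 = n143660 := d16_2 D107492 D196949 F226343 (iv4 F181585) (iv5 D65693) F50034 F166900 (iv7 F180715) F180714
theorem F402429 : act 1 n196949 = n196177 := d17_6 (iv1 D51193) F39055 D31729 (iv5 F166889) D107492 D196949 F399727 F226630 (iv4 D111020)
theorem F402430 : act 6 n190508 = n196949 := d21_5 F147201 (iv1 D44838) D44840 D96098 D190508 (iv5 D196949) F373268 F373267 (iv6 D95553) D95550
def n196950 : Q := act 6 n107492
theorem D196950 : act 6 n107492 = n196950 := rfl
theorem F402431 : act 2 n196950 = n193673 := d3_1 D196950 F390649 (iv2 F180726)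
theorem F402432 : act 4 n196950 = n107494 := d10_1 D196950 (iv6 D107494) D107492
def n196951 : Q := act 0 n107494
theorem D196951 : act 0 n107494 = n196951 := rfl
def n196952 : Q := act 1 n107494
theorem D196952 : act 1 n107494 = n196952 := rfl
def n196953 : Q := act 5 n107494
theorem D196953 : act 5 n107494 = n196953 := rfl
theorem F402433 : act 6 n196953 = n145364 := d12_2 D107494 D196953 (iv5 D145364) (iv6 D68156) (iv5 F166889)
theorem F402434 : act 4 n190879 = n196953 := d10_3 F402433 F378962 F381426
theorem F402435 : act 0 n196953 = n187330 := d21_4 F381345 F366108 D145364 (iv6 F402433) (iv6 D187330) D187329 F369855 (iv5 D97014) (iv6 F149582) D190857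
def n196954 : Q := act 7 n107494
theorem D196954 : act 7 n107494 = n196954 := rfl
theorem F402436 : act 1 n194546 = n196954 := d15_1 (iv0 F393673) (iv7 D196954) F180727
theorem F402437 : act 1 n196954 = n125478 := d15_1 F402436 (iv7 F401072) (iv2 F401073)
def n196955 : Q := act 2 n107496
theorem D196955 : act 2 n107496 = n196955 := rfl
theorem F402438 : act 3 n196955 = n196810 := d0_2 D107496 D196955 (iv2 F401868) (iv3 D110968) (iv2 F180712)
theorem F402439 : act 5 n196955 = n145367 := d2_2 (iv5 F166901) D196955 (iv2 D145367)
theorem F402440 : act 1 n145345 = n196955 := d17_6 (iv1 F180525) (iv5 F224262) (iv1 F359148) F359150 F359128 (iv5 F228390) F402439 F228410 (iv4 D139461)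
def n196956 : Q := act 4 n107496
theorem D196956 : act 4 n107496 = n196956 := rfl
theorem F402441 : act 0 n196956 = n196902 := d18_2 F336151 D196956 (iv4 D196902) F180606 D111056 F181243 F181238 (iv0 F220521) (iv5 F220040)
theorem F402442 : act 1 n196956 = n196900 := d18_6 D68118 F223164 (iv1 D139934) (iv4 F104312) (iv5 F166901) D196956 (iv4 D196900) (iv0 D107438) F78382
theorem F402443 : act 5 n137885 = n196956 := d17_7 (iv1 F165745) (iv5 F165704) (iv1 F165708) F177274 (iv4 F80831) D64807 D137885 F402442 (iv4 D196900)
def n196957 : Q := act 6 n107496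
theorem D196957 : act 6 n107496 = n196957 := rfl
theorem F402444 : act 3 n196957 = n107499 := d7_1 D196957 (iv6 D107499) D107496
def n196958 : Q := act 5 n107497
theorem D196958 : act 5 n107497 = n196958 := rfl
theorem F402445 : act 2 n196958 = n191321 := d2_1 D196958 (iv5 F383034) (iv2 F180730)
theorem F402446 : act 3 n196958 = n137492 := d6_1 D196958 F220898 F218664
theorem F402447 : act 4 n196958 = n143659 := d9_1 D196958 F226339 (iv4 F224491) F224492 (iv4 D68154) (iv5 F166889) D107492 D196949 F402428 F226343 (iv4 F181585) (iv5 D65693) F50034 F166900 D107497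
theorem F402448 : act 0 n196958 = n196177 := d17_2 (iv1 F373269) D196958 F399727 (iv4 F400375) (iv5 F400378) (iv0 D116855) D116857 (iv0 F363552) (iv4 F373266)
theorem F402449 : act 6 n191317 = n196958 := d10_0 F402447 F363539 D191317
def n196959 : Q := act 6 n107497
theorem D196959 : act 6 n107497 = n196959 := rfl
theorem F402450 : act 3 n196959 = n193518 := d7_1 D196959 (iv6 F390147) F218664
theorem F402451 : act 4 n196959 = n107499 := d10_1 D196959 (iv6 D107499) D107497
theorem F402452 : act 5 n196959 = n194910 := d21_6 (iv5 D103346) (iv1 F75191) D91290 D188390 (iv1 F373269) D196959 (iv1 D194910) F160417 (iv6 D103631) F294251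
def n196960 : Q := act 0 n107499
theorem D196960 : act 0 n107499 = n196960 := rfl
def n196961 : Q := act 1 n107499
theorem D196961 : act 1 n107499 = n196961 := rfl
theorem F402453 : act 6 n154760 = n196961 := d21_3 (iv5 F358488) F362631 D154760 (iv1 D196961) (iv6 D107499) (iv5 F166900) (iv1 D31730) (iv5 F39055) D51195 D111023
theorem F402454 : act 3 n196961 = n145370 := d7_1 F402453 (iv6 F357269) (iv3 F357268)
theorem F402455 : act 5 n196961 = n154757 := d12_1 F402453 (iv6 D154757) (iv5 D73388) D73389 D154760
theorem F402456 : act 2 n145325 = n196961 := d0_5 F402454 (iv2 F401022) (iv3 D196543) (iv2 F165027) D145325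
def n196962 : Q := act 5 n107499
theorem D196962 : act 5 n107499 = n196962 := rfl
theorem F402457 : act 6 n196962 = n145371 := d12_2 D107499 D196962 (iv5 D145371) (iv6 D68160) F166900
theorem F402458 : act 0 n196962 = n194579 := d21_1 D196962 (iv5 D194579) (iv6 D103808) (iv1 F159224) (iv6 F345149) (iv5 F358488) F362631 D154760 F402453 (iv1 D196961)
def n196963 : Q := act 7 n107499
theorem D196963 : act 7 n107499 = n196963 := rfl
def n196964 : Q := act 0 n107500
theorem D196964 : act 0 n107500 = n196964 := rfl
theorem F402459 : act 1 n107504 = n196964 := d15_0 (iv0 D196964) F359487 (iv2 F359485)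
def n196965 : Q := act 1 n107500
theorem D196965 : act 1 n107500 = n196965 := rfl
theorem F402460 : act 1 n196965 = n107504 := d15_1 D196965 (iv7 D107504) (iv2 F165846)
theorem F402461 : act 3 n196965 = n140670 := d20_5 (iv4 D31738) (iv1 F37971) (iv4 F78443) (iv3 F165850) (iv1 F402460) (iv4 F401204) (iv1 D196601) F165113 F78250 (iv1 F82147)
def n196966 : Q := act 5 n107500
theorem D196966 : act 5 n107500 = n196966 := rfl
theorem F402462 : act 2 n196966 = n107503 := d2_1 D196966 (iv5 D107503) (iv2 F165846)
theorem F402463 : act 3 n196966 = n140811 := d6_1 D196966 F331031 (iv3 F165847)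
theorem F402464 : act 6 n196966 = n196758 := d12_2 D107500 D196966 (iv5 D196758) (iv6 D107284) (iv5 F78438)
theorem F402465 : act 7 n196966 = n140904 := d13_2 (iv7 F359487) D196966 F359486
theorem F402466 : act 0 n108845 = n196966 := d19_0 (iv5 D196966) (iv4 F359488) (iv3 F359491) F346891 F347188 (iv4 F174038) (iv3 D110474) (iv1 D50941) F38773 (iv4 F41250) (iv3 F85060) D117013 F346904 F175062 (iv3 F175061) (iv1 D108850) (iv5 D50263) (iv4 F79642) (iv3 F168845)
def n196967 : Q := act 2 n107501
theorem D196967 : act 2 n107501 = n196967 := rfl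
theorem F402467 : act 7 n107502 = n196967 := d15_2 (iv0 D107501) D107502 (iv2 D196967)
def n196968 : Q := act 3 n107501
theorem D196968 : act 3 n107501 = n196968 := rfl
theorem F402468 : act 4 n196710 = n196968 := d20_2 D140638 F401567 (iv3 D196968) (iv1 F359501) F359484 F331039 (iv1 F104401) D68253 (iv3 F331808) (iv1 D140637)
theorem F402469 : act 2 n196968 = n140669 := d1_1 F402468 (iv4 F401203) (iv2 F401564)
theorem F402470 : act 6 n196968 = n196709 := d10_2 D196710 F402468 (iv4 D196709)
theorem F402471 : act 7 n196968 = n140670 := d11_2 (iv7 F401566) F402468 (iv4 F401204)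
theorem F402472 : act 5 n196968 = n196384 := d18_4 (iv1 D140637) D140638 F401567 F402468 F400535 (iv0 F225001) F224999 (iv0 F223494) F223736
theorem F402473 : act 0 n196710 = n140645 := d20_7 (iv4 D49668) (iv1 D24220) (iv4 F37963) (iv3 F78439) D107501 D196968 (iv4 F402468) (iv4 D140645) F331806 (iv1 F83905)
theorem F402474 : act 0 n140385 = n196968 := d18_0 (iv4 F402468) F402473 (iv4 D140645) (iv5 D65992) (iv4 F93314) F93312 (iv4 F168847) F168849 D140385
theorem F402475 : act 1 n108969 = n196968 := d15_0 (iv0 F402474) F223505 (iv2 F168967)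
theorem F402476 : act 7 n196965 = n107501 := d8_2 F402471 (iv3 F402461) D196968
theorem F402477 : act 2 n107502 = n196965 := d4_3 F402476 D196967 (iv7 F402467)
theorem E103676 : n196967 = n196964 := (c15_4 (iv0 D196964) D196965 F402476 D196967)
theorem F402478 : act 2 n196964 = n107501 := (sb E103676 (iv2 D196967))
theorem F402479 : act 7 n196964 = n107502 := (sb E103676 (iv7 F402467))
def n196969 : Q := act 4 n107501
theorem D196969 : act 4 n107501 = n196969 := rfl
theorem F402480 : act 3 n196969 = n109695 := d5_1 D196969 F169682 (iv3 F401565) F402468 (iv3 D196968)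
theorem F402481 : act 0 n196969 = n162985 := d20_1 D196969 (iv4 F393338) F393337 F363157 (iv3 D107516) (iv4 D49668) (iv1 D24220) (iv4 F37963) (iv3 F78439) D107501
theorem F402482 : act 6 n109693 = n196969 := d21_3 F393867 (iv1 D109691) D109693 F402481 F357426 F293229 (iv1 F292366) F75558 D103877 D194627
def n196970 : Q := act 5 n107501
theorem D196970 : act 5 n107501 = n196970 := rfl
theorem F402483 : act 3 n196970 = n196384 := d6_1 D196970 (iv5 F402472) (iv3 D196968)
theorem F402484 : act 6 n196970 = n196382 := d21_9 F345681 (iv1 F389189) (iv5 D193213) D193214 F389195 (iv6 F165849) (iv5 D107503) D107501 D196970 F400528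
theorem F402485 : act 0 n193235 = n196970 := d21_10 (iv5 D196970) (iv1 F359501) (iv5 F359486) (iv6 F365811) (iv1 F388999) (iv6 D193163) (iv5 F369623) (iv1 F369625) (iv5 F360808) D193235
theorem F402486 : act 4 n194731 = n196970 := d10_3 F402484 F400526 (iv6 F394283)
def n196971 : Q := act 6 n107501
theorem D196971 : act 6 n107501 = n196971 := rfl
theorem F402487 : act 3 n196971 = n196709 := d7_1 D196971 (iv6 F402470) (iv3 D196968)
theorem F402488 : act 4 n196971 = n109693 := d10_1 D196971 F402482 (iv4 D196969)
theorem F402489 : act 1 n154760 = n196971 := d17_8 (iv1 F382090) (iv5 D191069) F340703 (iv5 F391519) F391521 F363393 F252893 D154760 F402488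
def n196972 : Q := act 3 n107502
theorem D196972 : act 3 n107502 = n196972 := rfl
def n196973 : Q := act 4 n107502
theorem D196973 : act 4 n107502 = n196973 := rfl
theorem F402490 : act 6 n196973 = n193657 := d10_2 (iv6 F400760) D196973 F390586
theorem F402491 : act 3 n196973 = n193659 := d20_3 (iv4 F159242) (iv1 F359489) D196973 (iv1 F390601) (iv3 F389918) (iv4 D193460) (iv1 F386472) (iv4 F386473) (iv3 F386474) (iv1 D103822)
theorem F402492 : act 0 n162985 = n196973 := d20_10 (iv4 D196973) (iv1 D107502) (iv4 F165822) F165821 D107486 D196943 F402399 F329505 F310107 (iv3 F257341)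
def n196974 : Q := act 5 n107502
theorem D196974 : act 5 n107502 = n196974 := rfl
def n196975 : Q := act 0 n107503
theorem D196975 : act 0 n107503 = n196975 := rfl
theorem F402493 : act 4 n196975 = n137233 := d20_8 (iv4 D30368) (iv1 D14414) (iv4 F24064) (iv3 F48796) D64482 D137177 (iv4 F360844) D196975 (iv3 D137233) (iv1 F100433)
theorem F402494 : act 3 n108847 = n196975 := d5_5 F402493 (iv3 D137233) (iv4 F165859) (iv3 F165863) (iv4 F168847)
theorem F402495 : act 6 n196975 = n193324 := d7_2 (iv6 F222734) F402494 F389464
theorem F402496 : act 7 n196975 = n108845 := d8_2 D108847 F402494 F168845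
theorem F402497 : act 0 n196975 = n140904 := d19_4 (iv1 F175461) F168858 (iv4 F168847) F402494 F359486 F159242 (iv3 F159237) (iv1 F352794) F346903 (iv4 F175095) (iv3 F175096) (iv1 F92978) F80357 (iv4 F85067) (iv3 F346898) (iv1 F352805) (iv5 F346909) (iv4 F223532) F223533
def n196976 : Q := act 1 n107503
theorem D196976 : act 1 n107503 = n196976 := rfl
theorem F402498 : act 1 n196976 = n140904 := d15_1 D196976 (iv7 F402465) F402462
theorem F402499 : act 6 n108844 = n196976 := d21_3 D137685 (iv1 F400489) F400488 (iv1 D196976) F165849 (iv5 D107287) D107285 F350036 (iv6 D64725) D64722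
theorem F402500 : act 2 n196976 = n108845 := d3_1 F402499 (iv6 D108845) D108844
theorem F402501 : act 0 n108550 = n188375 := d21_1 D108550 F373207 F365811 (iv1 F402498) (iv6 F402499) (iv5 F400488) (iv1 F400490) F363660 (iv6 F327347) (iv1 D108548)
theorem F402502 : act 0 n150957 = n138756 := d20_7 F100932 (iv1 F98615) F98613 (iv3 F167872) F402501 F373205 F350064 (iv4 D138756) F100928 D65157
def n196977 : Q := act 7 n107503
theorem D196977 : act 7 n107503 = n196977 := rfl
theorem F402503 : act 2 n196977 = n140904 := d4_1 D196977 (iv7 F402465) F402462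
theorem F402504 : act 3 n196977 = n107508 := d8_1 D196977 (iv7 D107508) (iv3 F165848)
theorem F402505 : act 4 n196977 = n193277 := d11_1 D196977 (iv7 F389385) (iv4 F360844)
theorem F402506 : act 5 n196977 = n107504 := d13_1 D196977 (iv7 D107504) D107503
theorem F402507 : act 6 n196977 = n193275 := d14_1 D196977 F389377 F401713 (iv7 D196761) (iv6 F165849)
theorem F402508 : act 1 n108845 = n196977 := d15_1 (iv0 F402466) (iv7 D196977) (iv2 F402462)
def n196978 : Q := act 3 n107506
theorem D196978 : act 3 n107506 = n196978 := rfl
theorem F402509 : act 2 n196978 = n140435 := d0_1 D196978 (iv3 F385088) F385087 F331781 (iv2 F172225)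
theorem F402510 : act 7 n196978 = n140664 := d8_2 F172226 D196978 F362760
theorem F402511 : act 0 n108968 = n196978 := d20_4 F49328 (iv1 F38528) D50314 D108968 (iv3 D196978) (iv4 F401241) (iv1 D196628) (iv4 D107152) (iv3 F331787) F101553
theorem F402512 : act 6 n196978 = n115729 := d21_5 (iv5 F384943) F384944 (iv5 D138448) (iv6 F168965) F402511 (iv5 F371889) (iv1 D187940) F336079 (iv6 F79281) (iv1 F357643)
theorem F402513 : act 1 n140666 = n196978 := d15_0 (iv0 F402511) F168966 D140666
theorem F402514 : act 1 n191981 = n140666 := d15_0 F402513 F402510 (iv2 F385081)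
theorem F402515 : act 6 n193497 = n196358 := d21_3 F386494 (iv1 F362959) F390073 (iv1 D196358) (iv6 D106922) (iv5 F164786) (iv1 F371887) F371889 (iv6 F402512) (iv1 F402513)
theorem F402516 : act 3 n196358 = n193495 := d7_1 F402515 F390063 D193497
theorem F402517 : act 5 n137188 = n196358 := d21_8 F402027 F402028 (iv5 F362759) F374998 (iv1 F387014) (iv6 F388273) (iv5 D192936) (iv1 F391234) (iv6 F402515) F390072
def n196979 : Q := act 6 n107506
theorem D196979 : act 6 n107506 = n196979 := rfl
theorem F402518 : act 2 n196979 = n140729 := d3_1 D196979 F339975 (iv2 F172225)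
theorem F402519 : act 3 n196979 = n115729 := d7_1 D196979 (iv6 F402512) (iv3 D196978)
theorem F402520 : act 4 n196979 = n116969 := d10_1 D196979 F401242 F401241
theorem F402521 : act 5 n196979 = n114329 := d12_1 D196979 (iv6 F339967) (iv5 D111044) D111045 F172224
theorem F402522 : act 7 n196979 = n140428 := d14_2 F172226 D196979 (iv6 F379911) F379912 F364960
theorem F402523 : act 1 n140730 = n196979 := d15_1 F388306 F402522 (iv2 F388301)
theorem F402524 : act 1 n196979 = n115826 := d15_1 F402523 F180267 D140730
def n196980 : Q := act 0 n107507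
theorem D196980 : act 0 n107507 = n196980 := rfl
theorem F402525 : act 3 n196980 = n194367 := d20_5 F100364 D64482 D137178 F360843 D196980 (iv4 F401579) (iv1 F401582) F397133 F352927 (iv1 D137089)
theorem F402526 : act 4 n196980 = n112681 := d20_0 F331797 (iv4 F202910) (iv3 D126179) F93333 (iv3 F100363) F100364 D64482 D137178 F360843 D196980
theorem F402527 : act 2 n145413 = n196980 := d1_3 F402526 (iv2 F228468) F228464
theorem F402528 : act 7 n145414 = n196980 := d11_0 F402526 F228469 (iv4 F228443)
theorem F402529 : act 1 n145417 = n196980 := d18_6 (iv1 F83907) (iv4 D49664) (iv1 F37969) (iv4 F50039) (iv5 F104320) (iv4 F228444) F402526 (iv0 D112681) (iv5 D52006)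
theorem F402530 : act 6 n196980 = n193735 := d14_1 F402528 F390822 F367027 (iv7 F340476) (iv6 F340484)
theorem F402531 : act 5 n194862 = n196980 := d12_5 F402530 F390819 F376051 F370035 D194862
def n196981 : Q := act 1 n107507
theorem D196981 : act 1 n107507 = n196981 := rfl
theorem F402532 : act 1 n196981 = n145417 := d15_1 D196981 (iv7 D145417) (iv2 F165852)
theorem F402533 : act 7 n196981 = n145413 := d15_2 (iv0 D196980) D196981 F402527
theorem F402534 : act 4 n196981 = n112682 := d18_7 (iv1 F83905) (iv4 D49668) (iv1 D24220) (iv4 F37963) D49661 D107507 D196981 F331796 (iv5 F331800)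
theorem F402535 : act 6 n140516 = n196981 := d21_3 (iv5 D114418) (iv1 F176136) (iv5 F339983) (iv1 D196981) F165853 (iv5 F342888) (iv1 D111954) D111956 (iv6 F347200) (iv1 F339991)
theorem F402536 : act 2 n196981 = n145414 := d3_1 F402535 F340484 F340474
theorem F402537 : act 3 n196981 = n194254 := d7_1 F402535 F392517 (iv3 F367006)
theorem F402538 : act 5 n196981 = n194867 := d12_1 F402535 (iv6 F395237) F395236 F382493 (iv5 F339983)
def n196982 : Q := act 5 n107507
theorem D196982 : act 5 n107507 = n196982 := rfl
theorem F402539 : act 2 n196982 = n145416 := d2_1 D196982 (iv5 D145416) (iv2 F165852)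
theorem F402540 : act 6 n196982 = n194946 := d12_2 (iv6 F165853) D196982 (iv5 F395132) (iv6 F325608) F342888
theorem F402541 : act 4 n196982 = n125820 := d16_2 D107507 D196982 F202329 F104365 F50045 (iv4 F50039) (iv5 F104320) (iv7 D68174) (iv2 F78440)
theorem F402542 : act 0 n194812 = n196982 := d21_10 (iv5 D196982) D196980 (iv5 F402531) (iv6 D194862) (iv1 F160591) F362284 F381684 (iv1 D190954) (iv5 F160249) D194812
theorem F402543 : act 7 n145451 = n196982 := d11_0 F402541 F202328 D145451
theorem F402544 : act 1 n125742 = n196982 := d18_6 F165137 (iv4 D58883) (iv1 D27994) (iv4 F45263) D58875 D125742 F402541 (iv0 F401280) (iv5 D196636)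
def n196983 : Q := act 7 n107507
theorem D196983 : act 7 n107507 = n196983 := rfl
theorem F402545 : act 2 n196983 = n145417 := d4_1 D196983 (iv7 D145417) (iv2 F165852)
theorem F402546 : act 3 n196983 = n193663 := d8_1 D196983 F390612 F360843
theorem F402547 : act 4 n196983 = n107508 := d11_1 D196983 (iv7 D107508) D107507
theorem F402548 : act 5 n196983 = n145451 := d13_1 D196983 F402543 (iv5 D196982)
theorem F402549 : act 1 n145414 = n196983 := d15_1 D145414 (iv7 D196983) F165852
theorem F402550 : act 1 n196983 = n145413 := d15_1 F402549 (iv7 F402533) F402536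
theorem F402551 : act 6 n193662 = n196983 := d7_0 F402546 (iv6 D193663) D193662
def n196984 : Q := act 6 n107508
theorem D196984 : act 6 n107508 = n196984 := rfl
theorem F402552 : act 2 n196984 = n138508 := d3_1 D196984 F363392 (iv2 F165854)
theorem F402553 : act 3 n196984 = n193275 := d7_1 D196984 (iv6 F402507) F402504
theorem F402554 : act 4 n196984 = n193662 := d10_1 D196984 F402551 F402547
theorem F402555 : act 7 n196984 = n196765 := d14_2 D107508 D196984 (iv6 D196765) (iv7 D107292) (iv6 F78441)
theorem F402556 : act 1 n193311 = n196984 := d15_1 (iv0 F397744) F402555 F401719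
def n196985 : Q := act 0 n107511
theorem D196985 : act 0 n107511 = n196985 := rfl
theorem F402557 : act 5 n196985 = n113824 := d17_1 D196985 (iv1 D113824) (iv5 F328370) (iv4 D64595) (iv5 F328583) F85466 D117502 F184070 F328182
theorem F402558 : act 4 n196985 = n117491 := d18_1 D196985 F328031 F99728 F48607 (iv4 F326698) F56602 D54115 (iv0 F327560) (iv5 F165870)
theorem F402559 : act 3 n196985 = n144036 := d20_5 (iv4 F227028) (iv1 F227030) F165875 (iv3 F165868) D196985 F226750 (iv1 D139620) F101249 (iv3 F95177) F165686
theorem F402560 : act 2 n113858 = n196985 := d15_3 (iv0 D196985) F219460 (iv7 F328272)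
theorem F402561 : act 1 n110460 = n196985 := d15_0 (iv0 D196985) F165869 (iv2 F170849)
theorem F402562 : act 7 n196985 = n113855 := d15_2 (iv0 F219461) F402561 F328476
theorem F402563 : act 6 n126690 = n196985 := d14_5 F402562 F328478 F228350 (iv6 D145312) (iv7 F203875)
def n196986 : Q := act 0 n107512
theorem D196986 : act 0 n107512 = n196986 := rfl
theorem F402564 : act 3 n196986 = n193427 := d20_5 F37963 D24219 D49664 D107512 D196986 (iv4 D193427) F312796 (iv4 F331954) (iv3 D107158) (iv1 F78262)
theorem F402565 : act 4 n196986 = n193428 := d20_8 F389805 (iv1 D137110) F100387 F99485 D63953 D136014 F218846 D196986 (iv3 D193428) (iv1 F389804)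
theorem F402566 : act 2 n145431 = n196986 := d15_3 (iv0 D196986) (iv0 F402237) F402234
theorem F402567 : act 1 n145432 = n196986 := d15_0 (iv0 D196986) F165871 D145432
theorem F402568 : act 6 n196986 = n153743 := d3_2 (iv6 F348831) F402566 (iv2 D153743)
theorem F402569 : act 7 n196986 = n111072 := d4_2 F402234 F402566 (iv2 F402232)
theorem F402570 : act 1 n196903 = n145432 := d15_0 F402567 F402569 (iv2 F402232)
def n196987 : Q := act 2 n107512
theorem D196987 : act 2 n107512 = n196987 := rfl
theorem F402571 : act 3 n196987 = n145423 := d0_2 D107512 D196987 (iv2 D145423) (iv3 D68177) (iv2 F78447)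
theorem F402572 : act 7 n196987 = n145432 := d4_2 (iv7 F165871) D196987 (iv2 D145432)
theorem F402573 : act 1 n196987 = n111072 := d15_0 F402235 (iv7 F165871) D196987
theorem F402574 : act 1 n145431 = n196987 := d15_0 F402573 (iv7 F402569) (iv2 F402566)
def n196988 : Q := act 5 n107512
theorem D196988 : act 5 n107512 = n196988 := rfl
theorem F402575 : act 3 n196988 = n107513 := d6_1 D196988 (iv5 D107513) D107512
theorem F402576 : act 7 n196988 = n145433 := d13_2 (iv7 F165871) D196988 (iv5 D145433)
def n196989 : Q := act 6 n107512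
theorem D196989 : act 6 n107512 = n196989 := rfl
theorem F402577 : act 3 n196989 = n107514 := d7_1 D196989 (iv6 D107514) D107512
theorem F402578 : act 4 n196989 = n164575 := d10_1 D196989 (iv6 F365609) F218846
theorem F402579 : act 7 n196989 = n128804 := d14_2 (iv7 F165871) D196989 F207060 (iv7 F103633) (iv6 F104331)
def n196990 : Q := act 1 n107513
theorem D196990 : act 1 n107513 = n196990 := rfl
theorem F402580 : act 1 n196990 = n107517 := d15_1 D196990 F165885 (iv2 F165872)
theorem F402581 : act 7 n196990 = n145426 := d15_2 F402159 D196990 (iv2 F402154)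
theorem F402582 : act 2 n145427 = n196990 := d4_3 F402581 (iv2 F402154) F402157
def n196991 : Q := act 4 n107513
theorem D196991 : act 4 n107513 = n196991 := rfl
theorem F402583 : act 2 n196991 = n145428 := d1_1 D196991 (iv4 D145428) (iv2 F165872)
theorem F402584 : act 7 n196991 = n145434 := d11_2 (iv7 F165873) D196991 (iv4 D145434)
theorem F402585 : act 5 n196991 = n125742 := d16_1 D196991 (iv4 D125742) (iv5 D58875) F45263 F37967 D49668 D107517 F165885 (iv2 F165872)
theorem F402586 : act 1 n196991 = n193608 := d18_6 (iv1 F78262) F37963 D24219 D49664 D107513 D196991 (iv4 F401255) F401251 (iv5 D107159)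
def n196992 : Q := act 5 n107515
theorem D196992 : act 5 n107515 = n196992 := rfl
theorem F402587 : act 2 n196992 = n125743 := d2_1 D196992 F202238 (iv2 F165877)
theorem F402588 : act 3 n196992 = n194806 := d6_1 D196992 F394543 F377856
theorem F402589 : act 6 n196992 = n194804 := d12_2 (iv6 F165878) D196992 (iv5 F394536) (iv6 F206854) F332766
theorem F402590 : act 7 n196992 = n125545 := d13_2 (iv7 F165879) D196992 (iv5 D125545)
theorem F402591 : act 0 n196992 = n125741 := d17_2 (iv1 F165880) D196992 F202237 F165160 F78265 F39788 D52009 F82160 (iv4 F165565)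
theorem F402592 : act 1 n196992 = n112689 := d17_6 (iv1 D49670) (iv5 D24221) D24219 D49665 D107515 D196992 (iv5 D112689) (iv0 F165892) (iv4 D107524)
theorem F402593 : act 4 n196992 = n194812 := d19_2 (iv1 F165880) D196992 F394562 (iv1 F392985) (iv5 D194378) F386473 F386468 (iv1 F385597) (iv5 D192109) F153514 F334408 F320206 (iv5 F356133) (iv4 F356138) (iv3 D113371) F82709 D53932 D117028 F346879
def n196993 : Q := act 2 n107516
theorem D196993 : act 2 n107516 = n196993 := rfl
theorem F402594 : act 3 n196993 = n145432 := d0_2 D107516 D196993 (iv2 D145432) (iv3 D68180) (iv2 F78460)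
theorem F402595 : act 4 n196993 = n150125 := d1_2 F180576 D196993 (iv2 F361447)
theorem F402596 : act 6 n196993 = n196393 := d3_2 (iv6 F165882) D196993 (iv2 D196393)
theorem F402597 : act 7 n196993 = n145423 := d4_2 (iv7 F165883) D196993 (iv2 D145423)
theorem F402598 : act 1 n196993 = n145421 := d15_0 (iv0 D145421) (iv7 F165883) D196993
theorem F402599 : act 1 n145296 = n196993 := d15_0 F402598 (iv7 F402173) F402170
theorem F402600 : act 5 n175112 = n196993 := d16_7 (iv4 F228445) F328498 F163050 (iv5 F79217) (iv4 F311228) D83631 D175112 F402597 (iv2 D145423)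
def n196994 : Q := act 5 n107516
theorem D196994 : act 5 n107516 = n196994 := rfl
theorem F402601 : act 2 n196994 = n175112 := d2_1 D196994 F402600 (iv2 D196993)
theorem F402602 : act 3 n196994 = n107517 := d6_1 D196994 (iv5 D107517) D107516
theorem F402603 : act 6 n196994 = n119434 := d12_2 (iv6 F165882) D196994 (iv5 F337711) F400572 (iv5 D196394)
theorem F402604 : act 7 n196994 = n145424 := d13_2 (iv7 F165883) D196994 (iv5 D145424)
theorem F402605 : act 4 n196994 = n119420 := d16_2 F180576 D196994 (iv5 D119420) F309856 F163032 (iv4 F397611) F397613 F388401 (iv2 F361447)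
def n196995 : Q := act 4 n107517
theorem D196995 : act 4 n107517 = n196995 := rfl
theorem F402606 : act 2 n196995 = n145434 := d1_1 D196995 (iv4 D145434) (iv2 F165884)
theorem F402607 : act 3 n196995 = n194813 := d5_1 D196995 F394564 F364917 (iv4 F402605) F402602
theorem F402608 : act 5 n196995 = n194812 := d9_2 D107517 D196995 (iv4 F402593) (iv5 D196992) (iv4 D107515) (iv5 D49665) D49664 D107513 D196991 F402585 (iv4 D125742) (iv5 D58875) F45263 F37967 D49668
theorem F402609 : act 7 n196995 = n145428 := d11_2 (iv7 F165885) D196995 (iv4 D145428)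
theorem F402610 : act 0 n196995 = n193608 := d18_2 F402158 D196995 (iv4 F401255) F401253 (iv4 D125746) (iv0 F104334) D145438 F228465 D196885
def n196996 : Q := act 6 n107517
theorem D196996 : act 6 n107517 = n196996 := rfl
theorem F402611 : act 2 n196996 = n145435 := d3_1 D196996 (iv6 D145435) (iv2 F165884)
theorem F402612 : act 3 n196996 = n119434 := d7_1 D196996 (iv6 F402603) F402602
theorem F402613 : act 5 n196996 = n196395 := d12_1 D196996 (iv6 D196395) (iv5 D106942) (iv6 F78461) D107517
def n196997 : Q := act 5 n107519
theorem D196997 : act 5 n107519 = n196997 := rfl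
theorem F402614 : act 3 n196997 = n107521 := d6_1 D196997 (iv5 D107521) D107519
theorem F402615 : act 6 n196997 = n107761 := d12_2 F203109 D196997 (iv5 F203111) (iv6 D126316) D126315
theorem F402616 : act 7 n196997 = n137844 := d13_2 F166488 D196997 F221062
theorem F402617 : act 0 n138225 = n196997 := d21_10 (iv5 D196997) (iv1 F202146) F202144 (iv6 F165864) (iv1 F111442) D136990 F365572 F365575 (iv5 D138224) D138225
def n196998 : Q := act 3 n107520
theorem D196998 : act 3 n107520 = n196998 := rfl
theorem F402618 : act 4 n196998 = n194947 := d5_2 D107520 D196998 (iv3 F395136) F173549 (iv3 D107519)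
theorem F402619 : act 7 n196998 = n145439 := d8_2 F166489 D196998 (iv3 D145439)
theorem F402620 : act 0 n113658 = n196998 := d20_4 (iv4 D80480) F119480 D162858 F347426 (iv3 D196998) (iv4 D107520) (iv1 F78468) (iv4 F104365) (iv3 F325923) F300170
theorem F402621 : act 5 n196998 = n181140 := d21_0 (iv1 D181140) D181142 F358241 (iv1 F358161) (iv6 D113452) D113451 (iv1 F357984) (iv5 D113657) D113658 F402620
def n196999 : Q := act 5 n107520
theorem D196999 : act 5 n107520 = n196999 := rfl
theorem F402622 : act 2 n196999 = n145437 := d2_1 D196999 (iv5 D145437) (iv2 F166486)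
theorem F402623 : act 3 n196999 = n181140 := d6_1 D196999 (iv5 F402621) (iv3 D196998)
theorem F402624 : act 7 n196999 = n145440 := d13_2 F166489 D196999 (iv5 D145440)
theorem F402625 : act 4 n196999 = n194867 := d16_2 D107520 D196999 (iv5 F402538) F402534 (iv5 F175348) F165305 F80814 (iv7 F166399) F166398
def n197000 : Q := act 4 n107521
theorem D197000 : act 4 n107521 = n197000 := rfl
theorem F402626 : act 2 n197000 = n145438 := d1_1 D197000 (iv4 D145438) (iv2 F166400)
theorem F402627 : act 6 n197000 = n107762 := d10_2 (iv6 F165888) D197000 (iv4 D107762)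
theorem F402628 : act 7 n197000 = n145441 := d11_2 F166395 D197000 (iv4 D145441)
theorem F402629 : act 5 n197000 = n112681 := d16_7 (iv4 F402534) F402538 (iv4 F402625) (iv5 D196999) (iv4 D107520) D107521 D197000 F228469 (iv2 F228467)
theorem F402630 : act 0 n197000 = n140652 := d17_0 F342472 (iv1 D145427) (iv5 D68178) (iv4 D31738) (iv5 F45264) F100258 D59238 (iv0 F165889) D197000
theorem F402631 : act 1 n197000 = n111120 := d18_6 (iv1 D52012) D52013 (iv1 F166487) (iv4 D107520) D107521 D197000 F172327 (iv0 F163707) F82164
def n197001 : Q := act 3 n107524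
theorem D197001 : act 3 n107524 = n197001 := rfl
theorem F402632 : act 6 n197001 = n176998 := d7_2 F202043 D197001 F360020
theorem F402633 : act 7 n197001 = n145436 := d8_2 (iv7 F166485) D197001 (iv3 D145436)
theorem F402634 : act 2 n177346 = n197001 := d3_3 F402632 F276381 D177346
theorem F402635 : act 0 n197001 = n113583 := d21_4 (iv5 F326466) F326463 D176998 (iv6 F402632) (iv6 D113583) D113582 (iv1 F176745) (iv5 D113425) F331156 D177395
def n197002 : Q := act 5 n107524
theorem D197002 : act 5 n107524 = n197002 := rfl
theorem F402636 : act 2 n197002 = n145440 := d2_1 D197002 (iv5 D145440) (iv2 F166490)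
theorem F402637 : act 4 n197002 = n194862 := d9_1 D197002 F402531 F402526 (iv5 F402629) (iv4 D197000) (iv5 D107521) D107520 D196999 F402625 (iv5 F402538) F402534 (iv5 F175348) F165305 F80814 D107524
theorem F402638 : act 6 n197002 = n172540 := d12_2 F202043 D197002 (iv5 F361715) (iv6 F361369) F361368
theorem F402639 : act 7 n197002 = n145437 := d13_2 (iv7 F166485) D197002 (iv5 D145437)
def n197003 : Q := act 7 n107525
theorem D197003 : act 7 n107525 = n197003 := rfl
theorem F402640 : act 2 n197003 = n128731 := d4_1 D197003 F361370 (iv2 F348396)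
theorem F402641 : act 3 n197003 = n107527 := d8_1 D197003 (iv7 D107527) D107525
theorem F402642 : act 5 n197003 = n110475 := d13_1 D197003 (iv7 F202039) (iv5 F348397)
theorem F402643 : act 6 n197003 = n194864 := d14_1 D197003 F394794 (iv6 D113247) F82648 (iv6 F165894)
theorem F402644 : act 1 n113367 = n197003 := d15_1 (iv0 F348390) (iv7 D197003) F348396
theorem F402645 : act 1 n197003 = n113363 := d15_1 F402644 (iv7 F395616) F395615
theorem F402646 : act 4 n128786 = n197003 := d18_3 (iv1 D129049) F95268 D128786 F402642 (iv4 D110475) F92979 (iv4 F176522) (iv0 F176525) F365655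
theorem F402647 : act 3 n113321 = n128786 := d5_5 F402646 F402641 F165898 (iv3 F92975) (iv4 F176522)
theorem F402648 : act 6 n113319 = n128786 := d10_0 F402646 F402643 (iv4 F394795)
theorem F402649 : act 7 n125590 = n128786 := d11_0 F402646 (iv7 D197003) (iv4 F202021)
def n197004 : Q := act 4 n107526
theorem D197004 : act 4 n107526 = n197004 := rfl
theorem F402650 : act 2 n197004 = n145451 := d1_1 D197004 (iv4 D145451) (iv2 F165895)
theorem F402651 : act 3 n197004 = n109289 := d5_1 D197004 (iv4 F175095) (iv3 F175096) D125595 F348398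
theorem F402652 : act 5 n197004 = n145417 := d9_2 D107526 D197004 F228444 F104320 F50039 (iv5 F50045) (iv4 F104365) (iv5 F202329) (iv4 F402541) (iv5 D196982) (iv4 D107507) (iv5 D49661) F37963 D24221 D49671
theorem F402653 : act 0 n197004 = n194812 := d17_0 (iv5 F402608) F402610 (iv5 F394797) F394796 (iv5 D125747) (iv0 F165137) D196636 F401281 D197004
theorem F402654 : act 1 n197004 = n125742 := d18_6 (iv1 F165893) (iv4 D107524) (iv1 D49670) D49671 D107526 D197004 (iv4 D125742) D125741 F202237
theorem F402655 : act 7 n197004 = n145416 := d15_2 (iv0 F402542) (iv0 F402653) (iv2 F402539)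
def n197005 : Q := act 6 n107526
theorem D197005 : act 6 n107526 = n197005 := rfl
theorem F402656 : act 2 n197005 = n145452 := d3_1 D197005 (iv6 D145452) (iv2 F165895)
theorem F402657 : act 3 n197005 = n125949 := d7_1 D197005 F202449 F348398
theorem F402658 : act 5 n197005 = n107532 := d12_1 D197005 (iv6 D107532) (iv5 D49674) (iv6 F78465) D107526
theorem F402659 : act 0 n180340 = n197005 := d21_4 F363214 (iv1 D183518) (iv5 F295378) D180340 (iv6 D197005) (iv5 D107526) (iv1 F165150) (iv5 F395631) F395633 (iv1 F248681)
def n197006 : Q := act 7 n107526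
theorem D197006 : act 7 n107526 = n197006 := rfl
theorem F402660 : act 2 n197006 = n125820 := d4_1 D197006 F202328 (iv2 F165895)
theorem F402661 : act 3 n197006 = n110475 := d8_1 D197006 (iv7 F202039) F348398
theorem F402662 : act 4 n197006 = n145416 := d11_1 D197006 (iv7 F402655) (iv4 D197004)
theorem F402663 : act 5 n197006 = n107527 := d13_1 D197006 (iv7 D107527) D107526
theorem F402664 : act 1 n108911 = n197006 := d15_1 (iv0 F168927) (iv7 D197006) F165895
theorem F402665 : act 1 n197006 = n125822 := d15_1 F402664 (iv7 D125822) (iv2 F168926)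
theorem F402666 : act 6 n197006 = n145439 := d21_3 (iv5 D145443) (iv1 F165900) (iv5 F402663) F395831 (iv6 D195114) (iv5 F357994) (iv1 F204750) F204748 (iv6 F331157) (iv1 F228478)
def n197007 : Q := act 3 n107528
theorem D197007 : act 3 n107528 = n197007 := rfl
theorem F402667 : act 5 n197007 = n195633 := d6_2 (iv5 F361380) D197007 (iv3 D195633)
theorem F402668 : act 4 n197007 = n112740 := d20_6 (iv4 D12095) (iv1 F18604) D24224 D49673 D107528 D197007 (iv1 D112740) (iv4 F82645) (iv3 D52270) F40158
theorem F402669 : act 1 n195039 = n197007 := d18_8 (iv1 F397680) (iv4 F384090) (iv1 F352448) (iv4 F352451) (iv5 F345753) (iv4 F355864) F339192 F395530 F402667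
def n197008 : Q := act 4 n107528
theorem D197008 : act 4 n107528 = n197008 := rfl
def n197009 : Q := act 6 n107528
theorem D197009 : act 6 n107528 = n197009 := rfl
theorem F402670 : act 5 n197009 = n113436 := d12_1 D197009 (iv6 F396422) F397684 (iv6 D195635) (iv5 F361380)
theorem F402671 : act 0 n197009 = n124606 := d21_10 (iv5 F391724) F391725 (iv5 D128893) (iv6 D60616) (iv1 F95214) (iv6 F343588) F77469 D106106 (iv5 F361380) D197009
theorem F402672 : act 0 n113668 = n197009 := d21_4 F361379 F366359 F202322 (iv6 F176857) (iv6 D197009) F361380 (iv1 F163224) (iv5 D106219) (iv6 F92934) (iv1 F342902)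
def n197010 : Q := act 3 n107529
theorem D197010 : act 3 n107529 = n197010 := rfl
theorem F402673 : act 5 n197010 = n195636 := d6_2 (iv5 F395220) D197010 (iv3 D195636)
theorem F402674 : act 4 n197010 = n189830 := d20_6 (iv4 D59062) (iv1 F323119) D104978 F324558 (iv1 F176442) D197010 (iv1 F377914) F173636 (iv3 F324452) F324450
def n197011 : Q := act 5 n107530
theorem D197011 : act 5 n107530 = n197011 := rfl
theorem F402675 : act 2 n197011 = n107531 := d2_1 D197011 (iv5 D107531) D107530
theorem F402676 : act 3 n197011 = n145457 := d6_1 D197011 (iv5 D145457) (iv3 F165901)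
theorem F402677 : act 6 n197011 = n113561 := d12_2 (iv6 F325289) D197011 (iv5 F203105) F203103 F348385
theorem F402678 : act 7 n197011 = n195690 := d13_2 F176439 D197011 F397870
theorem F402679 : act 0 n197011 = n195685 := d21_1 D197011 (iv5 D195685) D195686 (iv1 F397857) F202897 F362766 (iv1 F381093) (iv5 F381095) F377923 (iv1 F176437)
theorem F402680 : act 0 n195692 = n197011 := d21_1 (iv5 F397872) (iv5 D197011) F325289 (iv1 F348389) F364827 (iv5 D60479) (iv1 F78157) (iv5 F95216) (iv6 F343588) (iv1 F381041)
theorem F402681 : act 4 n159568 = n197011 := d10_3 F402677 F349611 (iv6 F362914)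
theorem F402682 : act 1 n132417 = n159568 := d18_6 F381040 (iv4 F92933) (iv1 F342902) F342903 F342904 (iv4 F212487) F402681 (iv0 F402680) F397872
def n197012 : Q := act 0 n107532
theorem D197012 : act 0 n107532 = n197012 := rfl
theorem F402683 : act 3 n197012 = n128761 := d20_5 F343582 D129123 (iv4 F395784) (iv3 F395787) D197012 (iv4 F347325) (iv1 D96490) (iv4 F148591) F347328 (iv1 F202419)
theorem F402684 : act 4 n197012 = n113753 := d20_0 (iv1 F177009) F328472 (iv3 D60478) (iv1 F78157) (iv3 F343581) F343582 D129123 (iv4 F395784) (iv3 F395787) D197012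
theorem F402685 : act 6 n197012 = n125929 := d21_5 F45421 (iv1 F37977) D49674 D107532 D197012 (iv5 D125929) (iv1 D58957) (iv5 F45431) (iv6 D28115) D28113
theorem F402686 : act 7 n145461 = n197012 := d11_0 F402684 (iv7 F364863) F336927
theorem F402687 : act 1 n145462 = n197012 := d18_6 D79101 (iv4 F336923) (iv1 F380246) F380243 F177942 (iv4 F228500) F402684 (iv0 D113753) F82946
theorem F402688 : act 2 n197012 = n145460 := d15_3 (iv0 D145460) D145461 F402686
theorem F402689 : act 4 n145460 = n113605 := d1_2 (iv4 F402684) F402688 F364861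
def n197013 : Q := act 1 n107532
theorem D197013 : act 1 n107532 = n197013 := rfl
theorem F402690 : act 1 n197013 = n145462 := d15_1 D197013 (iv7 D145462) (iv2 F165904)
theorem F402691 : act 7 n197013 = n145460 := d15_2 (iv0 D197012) D197013 (iv2 F402688)
theorem F402692 : act 4 n197013 = n113754 := d18_7 (iv1 F120358) (iv4 F336918) (iv1 D159521) F114419 (iv5 F82802) (iv4 F165905) D197013 F177005 F176778
theorem F402693 : act 5 n197013 = n113449 := d18_9 F377948 (iv4 F392613) F395064 (iv4 F395063) (iv5 D128769) (iv4 F343528) (iv0 D113608) (iv4 F165905) D197013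
theorem F402694 : act 2 n145461 = n197013 := d2_3 F402693 (iv2 F395627) F395629
def n197014 : Q := act 7 n107532
theorem D197014 : act 7 n107532 = n197014 := rfl
theorem F402695 : act 2 n197014 = n145462 := d4_1 D197014 (iv7 D145462) (iv2 F165904)
theorem F402696 : act 3 n197014 = n113562 := d8_1 D197014 F395789 (iv3 F395787)
theorem F402697 : act 4 n197014 = n113610 := d11_1 D197014 (iv7 D113610) (iv4 F165905)
theorem F402698 : act 1 n145461 = n197014 := d15_1 D145461 (iv7 D197014) F165904
theorem F402699 : act 1 n197014 = n145460 := d15_1 F402698 (iv7 F402691) (iv2 F402694)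
def n197015 : Q := act 3 n107538
theorem D197015 : act 3 n107538 = n197015 := rfl
theorem F402700 : act 4 n197015 = n107540 := d5_2 D107538 D197015 (iv3 D107540) (iv4 D49680) (iv3 F78483)
theorem F402701 : act 7 n197015 = n145458 := d8_2 F176934 D197015 F228494
def n197016 : Q := act 5 n107538
theorem D197016 : act 5 n107538 = n197016 := rfl
def n197017 : Q := act 6 n107538
theorem D197017 : act 6 n107538 = n197017 := rfl
theorem F402702 : act 4 n197017 = n107539 := d10_1 D197017 (iv6 D107539) D107538
def n197018 : Q := act 0 n107539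
theorem D197018 : act 0 n107539 = n197018 := rfl
theorem F402703 : act 5 n197018 = n190525 := d19_1 D197018 F379993 F328694 F112881 (iv5 D38864) (iv4 D18467) (iv3 F325938) (iv1 F79862) F325363 (iv4 D12879) F16905 F33408 (iv5 F33413) D44510 D95280 D189811 F383828 F165921 (iv3 F165918)
theorem F402704 : act 6 n197018 = n195818 := d21_5 (iv5 F163265) (iv1 D49678) D49679 D107539 D197018 (iv5 D195818) (iv1 D106306) (iv5 F163277) (iv6 D106242) D106239
theorem F402705 : act 2 n195830 = n197018 := d3_3 F402704 F398313 D195830
theorem F402706 : act 7 n190524 = n197018 := d14_0 F402704 F398314 D195827 (iv7 F398360) (iv6 F379991)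
def n197019 : Q := act 1 n107539
theorem D197019 : act 1 n107539 = n197019 := rfl
theorem F402707 : act 7 n197019 = n195830 := d15_2 (iv0 D197018) D197019 F402705
theorem F402708 : act 5 n190023 = n197019 := d21_6 (iv5 F77980) F77897 (iv5 F340330) F160701 (iv1 F147229) D190023 (iv1 D197019) (iv5 F175887) (iv6 D112938) (iv1 F82410)
theorem F402709 : act 2 n197019 = n190524 := d2_1 F402708 (iv5 D190524) (iv2 F378596)
def n197020 : Q := act 7 n107539
theorem D197020 : act 7 n107539 = n197020 := rfl
theorem F402710 : act 3 n197020 = n107543 := d8_1 D197020 (iv7 D107543) (iv3 F165918)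
theorem F402711 : act 1 n190524 = n197020 := d15_1 F399789 (iv7 D197020) (iv2 F399786)
theorem F402712 : act 1 n197020 = n195830 := d15_1 F402711 (iv7 F402707) F402709
def n197021 : Q := act 6 n107540
theorem D197021 : act 6 n107540 = n197021 := rfl
theorem F402713 : act 3 n197021 = n107541 := d7_1 D197021 (iv6 D107541) D107540
theorem F402714 : act 4 n197021 = n190555 := d20_6 (iv4 D44568) D44566 (iv4 F146895) (iv3 F364803) (iv1 F376520) (iv3 F402713) (iv1 D190555) F147848 (iv3 D94809) (iv1 F294371)
theorem F402715 : act 3 n190555 = n197017 := d5_1 F402714 F402702 F165918 (iv4 F165921) (iv3 F402713)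
theorem F402716 : act 6 n190555 = n197015 := d10_2 D197021 F402714 F402700
def n197022 : Q := act 7 n107541
theorem D197022 : act 7 n107541 = n197022 := rfl
theorem F402717 : act 4 n197022 = n107543 := d11_1 D197022 (iv7 D107543) (iv4 F165921)
theorem F402718 : act 5 n197022 = n169910 := d13_1 D197022 F383832 F383828
theorem F402719 : act 6 n197022 = n145462 := d14_1 D197022 (iv7 D145462) (iv6 D68199) (iv7 F78485) D107541
theorem F402720 : act 0 n115003 = n197022 := d17_0 F402718 (iv1 F377834) (iv5 F377837) F377839 F177497 F175836 (iv5 F103899) F175394 (iv4 F179075)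
def n197023 : Q := act 4 n107542
theorem D197023 : act 4 n107542 = n197023 := rfl
theorem F402721 : act 2 n197023 = n144779 := d1_1 D197023 (iv4 F365045) (iv2 F176944)
theorem F402722 : act 6 n197023 = n128896 := d10_2 F397806 D197023 (iv4 F397805)
theorem F402723 : act 7 n197023 = n144778 := d11_2 (iv7 F165922) D197023 (iv4 F396124)
theorem F402724 : act 0 n197023 = n112699 := d18_2 (iv1 F176949) D197023 F175390 (iv5 F82382) (iv4 F97612) D133375 (iv4 F365043) F176094 (iv5 F176947)
theorem F402725 : act 0 n125792 = n197023 := d20_1 (iv4 F364798) (iv4 D197023) F398516 (iv1 D146864) (iv3 F230246) F367055 (iv1 D183483) (iv4 F364805) F179068 (iv1 F175394)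
def n197024 : Q := act 3 n107544
theorem D197024 : act 3 n107544 = n197024 := rfl
theorem F402726 : act 2 n197024 = n186402 := d0_1 D197024 F377002 (iv2 F376835) (iv3 F376271) F238530
theorem F402727 : act 4 n197024 = n131124 := d5_2 D107544 D197024 (iv3 D131124) (iv4 D61516) (iv3 F78502)
theorem F402728 : act 7 n197024 = n186401 := d8_2 F209172 D197024 (iv3 F367388)
theorem F402729 : act 0 n197024 = n186385 := d19_4 D24230 D49685 D107544 D197024 (iv5 F367396) (iv4 D136585) F100018 (iv1 F97757) (iv5 D62661) (iv4 D29629) F23501 F10901 (iv5 D3482) F5460 (iv3 F5461) (iv1 D2163) D2164 D5297 D11393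
theorem F402730 : act 0 n186403 = n197024 := d20_4 F368656 (iv1 F289227) F289223 (iv3 F289177) (iv3 D197024) (iv4 D107544) (iv1 F107894) (iv4 F360283) F145425 D94306
def n197025 : Q := act 5 n107544
theorem D197025 : act 5 n107544 = n197025 := rfl
theorem F402731 : act 4 n197025 = n107957 := d16_2 D107544 D197025 (iv5 F313755) F313754 F96070 F47449 D49687 (iv7 F108012) (iv2 F108010)
theorem F402732 : act 0 n197025 = n151696 := d17_2 F238331 D197025 (iv5 D151696) F187368 F187366 F94202 D106708 F164461 D151492
theorem F402733 : act 1 n197025 = n151699 := d17_6 (iv1 D49690) (iv5 D24233) D24230 D49685 D107544 D197025 (iv5 D151699) (iv0 F165931) (iv4 D107550)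
def n197026 : Q := act 6 n107544
theorem D197026 : act 6 n107544 = n197026 := rfl
theorem F402734 : act 2 n197026 = n190454 := d3_1 D197026 (iv6 F395957) F238530
theorem F402735 : act 4 n197026 = n107545 := d10_1 D197026 (iv6 D107545) D107544
theorem F402736 : act 0 n197026 = n190455 := d21_10 F379806 (iv1 D151979) (iv5 F238983) (iv6 D151972) (iv1 F164489) F334832 D151699 (iv1 F402733) (iv5 D197025) D197026
theorem F402737 : act 1 n197026 = n190008 := d15_1 (iv0 F402736) F378553 D190455
theorem F402738 : act 7 n190453 = n197026 := d16_8 F395956 F238536 (iv4 F395949) F395950 F372811 (iv5 F367588) (iv4 F379787) (iv5 F379803) F402734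
def n197027 : Q := act 0 n107545
theorem D197027 : act 0 n107545 = n197027 := rfl
theorem F402739 : act 5 n197027 = n194014 := d17_3 (iv1 F364606) F233636 D197027 (iv4 D194014) (iv5 D102589) F293612 F367626 F367624 (iv4 F347561)
theorem F402740 : act 2 n194048 = n197027 := d15_3 (iv0 D197027) (iv0 F398933) F398932
def n197028 : Q := act 7 n107545
theorem D197028 : act 7 n107545 = n197028 := rfl
theorem F402741 : act 3 n197028 = n131128 := d8_1 D197028 (iv7 D131128) (iv3 F165923)
theorem F402742 : act 4 n197028 = n190453 := d11_1 D197028 F402738 F402735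
theorem F402743 : act 5 n197028 = n186686 := d13_1 D197028 F367676 F233636
def n197029 : Q := act 5 n107546
theorem D197029 : act 5 n107546 = n197029 := rfl
theorem F402744 : act 3 n197029 = n189541 := d6_1 D197029 (iv5 D189541) (iv3 F376837)
theorem F402745 : act 4 n197029 = n107956 := d9_1 D197029 F166824 (iv4 D61391) (iv5 D29062) (iv4 F37986) D49685 D107544 D197025 F402731 (iv5 F313755) F313754 F96070 F47449 D49687 D107546
theorem F402746 : act 0 n197029 = n151699 := d17_2 F238342 D197029 (iv5 D151699) F114857 (iv5 D76589) (iv0 F78806) (iv5 F166729) F166731 D151496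
theorem F402747 : act 1 n197029 = n151696 := d17_6 D33072 F78513 (iv1 F78494) D49687 D107546 D197029 (iv5 D151696) (iv0 D71486) (iv4 D33073)
theorem F402748 : act 6 n188297 = n197029 := d10_0 F402745 (iv6 F374474) F374476
def n197030 : Q := act 6 n107546
theorem D197030 : act 6 n107546 = n197030 := rfl
theorem F402749 : act 3 n197030 = n189542 := d7_1 D197030 (iv6 D189542) (iv3 F376837)
theorem F402750 : act 4 n197030 = n107547 := d10_1 D197030 (iv6 D107547) D107546
theorem F402751 : act 0 n197030 = n147978 := d21_4 D151696 (iv1 F402747) (iv5 D197029) D197030 F231802 (iv5 D69324) D69322 (iv5 F334835) F108002 D71486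
theorem F402752 : act 0 n133694 = n197030 := d21_4 (iv5 D108298) F79111 D62758 D133694 (iv6 D197030) D197029 F402746 (iv5 D151699) (iv6 F334832) (iv1 F167454)
def n197031 : Q := act 1 n107547
theorem D197031 : act 1 n107547 = n197031 := rfl
theorem F402753 : act 6 n131298 = n197031 := d21_3 (iv5 F340673) F282920 F309949 (iv1 D197031) (iv6 D107547) (iv5 D49687) (iv1 D24231) D24233 D49692 D107558
theorem F402754 : act 2 n197031 = n195961 := d3_1 F402753 (iv6 D195961) (iv2 F210434)
theorem F402755 : act 4 n197031 = n131299 := d10_1 F402753 (iv6 D131299) D131298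
def n197032 : Q := act 7 n107547
theorem D197032 : act 7 n107547 = n197032 := rfl
theorem F402756 : act 1 n195961 = n197032 := d15_1 (iv0 F398870) (iv7 D197032) (iv2 F209175)
def n197033 : Q := act 3 n107550
theorem D197033 : act 3 n107550 = n197033 := rfl
theorem F402757 : act 4 n197033 = n189305 := d5_2 D107550 D197033 (iv3 D189305) (iv4 D93876) F78510
theorem F402758 : act 5 n197033 = n152053 := d6_2 (iv5 F165930) D197033 (iv3 D152053)
theorem F402759 : act 7 n197033 = n151452 := d8_2 (iv7 F165929) D197033 (iv3 D151452)
theorem F402760 : act 0 n197033 = n195994 := d20_4 (iv4 D71484) (iv1 F78511) D107550 D197033 F398999 F364640 (iv1 F319881) (iv4 F227966) (iv3 F341589) (iv1 F165944)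
theorem F402761 : act 0 n195999 = n197033 := d20_4 D195978 (iv1 F398953) F211433 (iv3 F399015) (iv3 D197033) (iv4 D107550) (iv1 D49690) D49691 (iv3 F322881) D106493
theorem F402762 : act 6 n189552 = n197033 := d21_5 (iv5 D92716) (iv1 F68120) D43951 D94038 D189552 F402758 F394208 F374510 (iv6 D93820) (iv1 F142929)
def n197034 : Q := act 6 n107550
theorem D197034 : act 6 n107550 = n197034 := rfl
theorem F402763 : act 2 n197034 = n151708 := d3_1 D197034 (iv6 D151708) (iv2 F165928)
theorem F402764 : act 3 n197034 = n189552 := d7_1 D197034 F402762 (iv3 D197033)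
theorem F402765 : act 4 n197034 = n107551 := d10_1 D197034 (iv6 D107551) D107550
theorem F402766 : act 5 n197034 = n134069 := d12_1 D197034 F343211 (iv5 F351274) (iv6 D152054) (iv5 F165930)
theorem F402767 : act 0 n159986 = n197034 := d21_4 F366992 F372609 (iv5 F376710) (iv6 F376713) (iv6 D197034) F165930 (iv1 F238584) F238585 D151977 F375295
def n197035 : Q := act 5 n107551
theorem D197035 : act 5 n107551 = n197035 := rfl
theorem F402768 : act 2 n197035 = n118775 := d2_1 D197035 F186827 (iv2 F165933)
theorem F402769 : act 3 n197035 = n187520 := d6_1 D197035 F370661 (iv3 F165934)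
theorem F402770 : act 6 n197035 = n118708 := d12_2 D107551 D197035 F186719 F86426 (iv5 F78508)
def n197036 : Q := act 7 n107551
theorem D197036 : act 7 n107551 = n197036 := rfl
theorem F402771 : act 2 n197036 = n151670 := d4_1 D197036 F238523 (iv2 F165933)
theorem F402772 : act 3 n197036 = n189310 := d8_1 D197036 (iv7 D189310) (iv3 F165934)
theorem F402773 : act 6 n197036 = n151447 := d14_1 D197036 (iv7 D151447) F107885 (iv7 F78507) D107551
theorem F402774 : act 1 n151710 = n197036 := d15_1 D151710 (iv7 D197036) F165933
theorem F402775 : act 1 n197036 = n151709 := d15_1 F402774 (iv7 F392242) F377396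
def n197037 : Q := act 5 n107552
theorem D197037 : act 5 n107552 = n197037 := rfl
theorem F402776 : act 4 n197037 = n107942 := d16_2 (iv4 F165935) D197037 (iv5 D107942) (iv4 D49857) (iv5 F46854) D61634 D131335 F210499 (iv2 F162587)
theorem F402777 : act 0 n197037 = n151678 := d17_2 D107552 D197037 (iv5 D151678) (iv4 D71479) (iv5 D33069) (iv0 D15947) D15949 (iv0 F43572) D49691
theorem F402778 : act 1 n197037 = n151683 := d17_6 F164460 (iv5 D71419) (iv1 F77194) D105866 (iv4 F165935) D197037 (iv5 D151683) F238538 F238537
theorem F402779 : act 3 n192591 = n107942 := d20_5 D179741 F338894 F338891 F338890 D192591 (iv4 F402776) F402777 F238545 (iv3 F315931) (iv1 F201026)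
theorem F402780 : act 5 n107941 = n192591 := d6_0 F402779 (iv5 D107942) D107941
def n197038 : Q := act 5 n107553
theorem D197038 : act 5 n107553 = n197038 := rfl
theorem F402781 : act 3 n197038 = n188918 := d6_1 D197038 (iv5 F383191) (iv3 F341585)
theorem F402782 : act 4 n197038 = n107935 := d9_1 D197038 (iv5 D107935) (iv4 D49854) F52274 (iv4 F77191) D105866 (iv4 F165935) D197037 F402776 (iv5 D107942) (iv4 D49857) (iv5 F46854) D61634 D131335 F210502
theorem F402783 : act 0 n197038 = n151683 := d17_2 (iv1 F165936) D197038 (iv5 D151683) (iv4 D71481) (iv5 D33071) F52226 (iv5 F78508) F78511 D71484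
theorem F402784 : act 1 n197038 = n151678 := d17_6 (iv1 F166730) (iv5 D71416) F96201 D131335 F210502 D197038 (iv5 D151678) D151676 F238543
def n197039 : Q := act 0 n107555
theorem D197039 : act 0 n107555 = n197039 := rfl
theorem F402785 : act 5 n197039 = n107897 := d17_1 D197039 (iv1 F360281) (iv5 F370761) F370760 (iv5 D133774) (iv0 F313752) F313755 F166826 (iv4 F165939)
theorem F402786 : act 4 n197039 = n107920 := d18_1 D197039 (iv1 F320824) D193396 F389702 F238197 F166719 (iv4 F165935) (iv0 D107552) D107555
theorem F402787 : act 7 n192064 = n197039 := d11_0 F402786 (iv7 F311994) D192064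
theorem F402788 : act 1 n107958 = n197039 := d17_8 (iv1 F320824) F320826 F107943 D107935 (iv4 F402782) (iv5 D197038) F165936 (iv5 F166827) F402786
def n197040 : Q := act 1 n107555
theorem D197040 : act 1 n107555 = n197040 := rfl
theorem F402789 : act 1 n197040 = n107958 := d15_1 D197040 F371589 F371585
theorem F402790 : act 5 n197040 = n107915 := d17_7 F107893 (iv5 D49687) (iv1 D24231) D24233 D49691 D107555 D197040 (iv0 F360280) F360283
theorem F402791 : act 4 n197040 = n107904 := d17_9 (iv1 F238359) (iv5 D151502) F107939 D107942 (iv4 F402776) (iv5 D197037) (iv0 D107552) D107555 D197040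
theorem F402792 : act 2 n192064 = n197040 := d1_3 F402791 (iv2 F311993) D192064
theorem F402793 : act 6 n186444 = n197040 := d10_0 F402791 F309781 D186444
def n197041 : Q := act 7 n107555
theorem D197041 : act 7 n107555 = n197041 := rfl
theorem F402794 : act 2 n197041 = n107958 := d4_1 D197041 F371589 F371585
theorem F402795 : act 3 n197041 = n195985 := d8_1 D197041 (iv7 D195985) (iv3 F322882)
theorem F402796 : act 4 n197041 = n107930 := d11_1 D197041 F166794 (iv4 F165939)
theorem F402797 : act 5 n197041 = n107557 := d13_1 D197041 (iv7 D107557) D107555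
theorem F402798 : act 1 n192064 = n197041 := d15_1 (iv0 F385403) (iv7 D197041) (iv2 F371585)
def n197042 : Q := act 3 n107559
theorem D197042 : act 3 n107559 = n197042 := rfl
theorem F402799 : act 2 n197042 = n133429 := d0_1 D197042 (iv3 D133429) (iv2 F396346) F396347 (iv2 F319145)
theorem F402800 : act 0 n197042 = n189301 := d19_4 F52363 D71650 (iv4 F319146) D197042 F376374 (iv4 F396188) F396187 F221505 (iv5 D74518) F53732 (iv3 D16545) F11943 D11493 F18784 (iv3 F38101) (iv1 F78837) F78839 (iv4 F52348) F52349
def n197043 : Q := act 6 n107559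
theorem D197043 : act 6 n107559 = n197043 := rfl
theorem F402801 : act 4 n197043 = n151972 := d10_1 D197043 (iv6 D151972) (iv4 F319146)
theorem F402802 : act 0 n197043 = n186687 := d21_4 (iv5 F309949) F396307 F396306 D197043 F367678 F251609 F293716 F293382 (iv6 F349249) F247646
theorem F402803 : act 0 n151659 = n197043 := d21_4 (iv5 D195247) (iv1 F354842) (iv5 D151658) D151659 (iv6 D197043) (iv5 F396306) (iv1 F396308) F340677 (iv6 F335461) (iv1 F396461)
theorem F402804 : act 3 n189362 = n197043 := d20_5 (iv4 D176939) (iv1 F270266) F270262 F355649 (iv1 F376473) F402801 F375299 F365424 F288875 (iv1 F365435)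
theorem F402805 : act 6 n197042 = n189362 := d7_0 F402804 (iv6 D197043) D197042
def n197044 : Q := act 1 n107561
theorem D197044 : act 1 n107561 = n197044 := rfl
theorem F402806 : act 1 n197044 = n151694 := d15_1 D197044 (iv7 D151694) (iv2 F165947)
theorem F402807 : act 7 n197044 = n151692 := d15_2 (iv0 F372535) D197044 F238573
theorem F402808 : act 2 n151693 = n197044 := d4_3 F402807 F238573 (iv7 F238574)
theorem F402809 : act 3 n189249 = n197044 := d8_3 F402807 (iv3 F238572) D189249
theorem F402810 : act 6 n189354 = n197044 := d14_5 F402807 F238571 F144605 D93906 D189354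
def n197045 : Q := act 3 n107562
theorem D197045 : act 3 n107562 = n197045 := rfl
theorem F402811 : act 5 n197045 = n132298 := d6_2 (iv5 F343683) D197045 (iv3 F214453)
theorem F402812 : act 7 n197045 = n196262 := d8_2 F358294 D197045 (iv3 D196262)
theorem F402813 : act 0 n197045 = n132936 := d20_4 F96520 D106511 F364645 D197045 (iv3 F398910) (iv4 D195971) (iv1 D106484) (iv4 F96580) (iv3 F341614) (iv1 D131957)
theorem F402814 : act 4 n197045 = n132115 := d20_6 F47010 F37543 D24235 D49694 D107562 D197045 (iv1 D132115) (iv4 D61985) F47006 D29356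
theorem F402815 : act 0 n132934 = n197045 := d20_4 D132126 F341596 D164205 (iv3 F363069) (iv3 D197045) (iv4 F364645) (iv1 F164446) (iv4 F399223) F399222 F211511
def n197046 : Q := act 6 n107562
theorem D197046 : act 6 n107562 = n197046 := rfl
theorem F402816 : act 2 n197046 = n196265 := d3_1 D197046 (iv6 D196265) (iv2 F358292)
theorem F402817 : act 4 n197046 = n114235 := d10_1 D197046 F364647 F364645
def n197047 : Q := act 3 n107563
theorem D197047 : act 3 n107563 = n197047 := rfl
theorem F402818 : act 7 n197047 = n196264 := d8_2 (iv7 F358295) D197047 (iv3 D196264)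
def n197048 : Q := act 6 n107563
theorem D197048 : act 6 n107563 = n197048 := rfl
theorem F402819 : act 2 n197048 = n196263 := d3_1 D197048 (iv6 D196263) F358296
theorem F402820 : act 4 n197048 = n159598 := d10_1 D197048 (iv6 F251390) F364642
theorem F402821 : act 0 n197048 = n120118 := d21_10 (iv5 F399189) F399842 F358364 (iv6 F164278) (iv1 F164280) D132150 F343682 (iv1 F214459) F358297 D197048
theorem F402822 : act 0 n120121 = n197048 := d21_4 F294062 D181694 F282818 F367149 (iv6 D197048) (iv5 F358297) (iv1 D133390) (iv5 F211428) (iv6 F382502) (iv1 D191182)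
def n197049 : Q := act 2 n107570
theorem D197049 : act 2 n107570 = n197049 := rfl
theorem F402823 : act 3 n197049 = n151571 := d0_2 D107570 D197049 (iv2 F259160) (iv3 D110778) F161770
theorem F402824 : act 1 n197049 = n195201 := d15_0 (iv0 F396227) F171487 D197049
theorem F402825 : act 1 n176048 = n197049 := d15_0 F402824 F396226 F377382
theorem F402826 : act 6 n197049 = n189484 := d21_5 F82966 (iv1 F114359) D106280 (iv6 F396225) (iv1 F402824) (iv5 D189484) (iv1 F376195) F376192 F373756 (iv1 F144704)
def n197050 : Q := act 4 n107570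
theorem D197050 : act 4 n107570 = n197050 := rfl
theorem F402827 : act 7 n197050 = n188218 := d11_2 F171487 D197050 F372716
def n197051 : Q := act 6 n107570
theorem D197051 : act 6 n107570 = n197051 := rfl
theorem F402828 : act 2 n197051 = n189484 := d3_1 D197051 (iv6 F402826) (iv2 D197049)
theorem F402829 : act 3 n197051 = n107572 := d7_1 D197051 (iv6 D107572) D107570
theorem F402830 : act 7 n197051 = n189489 := d14_2 F171487 D197051 F376666 (iv7 F364458) (iv6 F361703)
theorem F402831 : act 5 n197051 = n133661 := d21_6 (iv5 D90594) (iv1 F114355) D76302 (iv6 F178509) F396410 D197051 F376676 (iv5 F294563) F294564 F139487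
theorem F402832 : act 0 n190489 = n197051 := d21_4 (iv5 D187821) D187819 F371603 F379887 (iv6 D197051) (iv5 F396406) (iv1 F396408) (iv5 D194195) D194196 F392348
def n197052 : Q := act 1 n107572
theorem D197052 : act 1 n107572 = n197052 := rfl
theorem F402833 : act 1 n197052 = n133659 := d15_1 D197052 F215069 F171480
theorem F402834 : act 7 n197052 = n196135 := d15_2 (iv0 F398917) D197052 F399569
theorem F402835 : act 3 n194180 = n197052 := d20_9 F373521 (iv1 D97396) F71724 (iv3 D44813) D44811 D96037 F331359 (iv1 F331369) D194180 (iv1 D197052)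
def n197053 : Q := act 7 n107572
theorem D197053 : act 7 n107572 = n197053 := rfl
theorem F402836 : act 2 n197053 = n133659 := d4_1 D197053 F215069 F171480
theorem F402837 : act 3 n197053 = n189489 := d8_1 D197053 (iv7 F402830) F402829
theorem F402838 : act 4 n197053 = n188450 := d11_1 D197053 (iv7 F373518) (iv4 F373521)
theorem F402839 : act 5 n197053 = n110335 := d13_1 D197053 F171484 (iv5 F165960)
theorem F402840 : act 0 n196135 = n197053 := d20_10 F402838 (iv1 D188450) F294889 F147655 (iv1 F147178) F331354 F215226 F157710 D189683 (iv3 F399570)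
def n197054 : Q := act 4 n107573
theorem D197054 : act 4 n107573 = n197054 := rfl
theorem F402841 : act 0 n187869 = n197054 := d20_7 (iv4 F78523) (iv1 F177832) (iv4 D106758) D106757 D196203 (iv3 F399865) (iv4 F371722) (iv4 D197054) (iv3 D107573) (iv1 D49697)
def n197055 : Q := act 6 n107573
theorem D197055 : act 6 n107573 = n197055 := rfl
theorem F402842 : act 3 n197055 = n107575 := d7_1 D197055 (iv6 D107575) D107573
theorem F402843 : act 5 n197055 = n114939 := d12_1 D197055 (iv6 D114939) (iv5 D53034) D53035 (iv5 F165961)
def n197056 : Q := act 7 n107575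
theorem D197056 : act 7 n107575 = n197056 := rfl
theorem F402844 : act 4 n197056 = n126189 := d11_1 D197056 F202940 F347538
theorem F402845 : act 5 n197056 = n114965 := d13_1 D197056 (iv7 D114965) (iv5 F165962)
theorem F402846 : act 6 n197056 = n133659 := d14_1 D197056 F215069 (iv6 D110780) (iv7 F161769) D107575
theorem F402847 : act 1 n113930 = n197056 := d15_1 (iv0 F347541) (iv7 D197056) (iv2 F171490)
theorem F402848 : act 1 n197056 = n113926 := d15_1 F402847 (iv7 F342961) F342959
def n197057 : Q := act 5 n107577
theorem D197057 : act 5 n107577 = n197057 := rfl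
theorem F402849 : act 0 n135640 = n197057 := d21_10 (iv5 D197057) (iv1 D107577) (iv5 F114504) (iv6 D76386) (iv1 F55229) D69717 F106085 D105314 F333527 D135640
theorem F402850 : act 6 n146180 = n197057 := d21_5 F51385 F36970 D31891 D68548 D146180 (iv5 D197057) (iv1 D107577) (iv5 F114504) (iv6 D76386) (iv1 F55229)
def n197058 : Q := act 6 n107577
theorem D197058 : act 6 n107577 = n197058 := rfl
theorem F402851 : act 3 n197058 = n133772 := d7_1 D197058 (iv6 F377147) F377146
theorem F402852 : act 4 n197058 = n131824 := d10_1 D197058 (iv6 F358289) F358288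
theorem F402853 : act 7 n197058 = n151682 := d14_2 (iv7 F171500) D197058 F369392 F369389 (iv6 F171497)
theorem F402854 : act 0 n196133 = n197058 := d20_7 F77833 (iv1 F77688) (iv4 F96404) (iv3 F211173) F358254 (iv3 F399338) (iv4 F399552) F402852 F211239 F96429
def n197059 : Q := act 0 n107578
theorem D197059 : act 0 n107578 = n197059 := rfl
theorem F402855 : act 5 n197059 = n137119 := d17_1 D197059 (iv1 F220294) (iv5 F352223) F168808 D108864 F373173 (iv5 F330527) (iv0 D108626) (iv4 F165965)
theorem F402856 : act 1 n108973 = n197059 := d15_0 (iv0 D197059) F165966 D108973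
theorem F402857 : act 6 n164559 = n197059 := d21_3 F239777 (iv1 F120219) D164559 (iv1 F402856) F360220 (iv5 F328565) (iv1 F344345) (iv5 F347058) (iv6 F342066) (iv1 F259401)
theorem F402858 : act 2 n197059 = n108972 := d3_1 F402857 (iv6 F362662) (iv2 F259395)
theorem F402859 : act 7 n108971 = n197059 := d13_0 F402855 F220293 (iv5 F330500)
def n197060 : Q := act 1 n107578
theorem D197060 : act 1 n107578 = n197060 := rfl
theorem F402860 : act 7 n197060 = n108972 := d15_2 (iv0 D197059) D197060 (iv2 F402858)
theorem F402861 : act 5 n197060 = n130514 := d17_7 (iv1 D60850) (iv5 D28863) D28862 F95300 (iv4 F93954) (iv5 F330504) D197060 (iv0 F209078) (iv4 D129493)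
theorem F402862 : act 4 n109074 = n197060 := d20_6 (iv4 D30834) F37369 F37368 D24554 D50359 D109074 (iv1 D197060) F165965 (iv3 D50158) (iv1 F49281)
theorem F402863 : act 3 n197060 = n113481 := d5_1 F402862 (iv4 F397863) (iv3 F397861) (iv4 D109075) D109074
theorem F402864 : act 0 n126951 = n109074 := d20_1 D126951 F402862 F402863 (iv1 D113481) F324594 F115678 F92792 (iv4 F321462) F169003 F325254
theorem F402865 : act 0 n108973 = n197060 := d20_7 F168569 (iv1 F161179) (iv4 F168937) (iv3 D108922) (iv1 F168538) F168535 (iv4 F168975) (iv4 F402862) (iv3 D109074) (iv1 F168571)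
theorem F402866 : act 2 n108971 = n197060 := d15_3 (iv0 F402865) F402856 (iv7 F402859)
def n197061 : Q := act 2 n107578
theorem D197061 : act 2 n107578 = n197061 := rfl
theorem F402867 : act 3 n197061 = n113155 := d0_2 D107578 D197061 (iv2 D113155) (iv3 D52231) F78529
theorem F402868 : act 4 n197061 = n108628 := d1_2 (iv4 F165965) D197061 (iv2 D108628)
theorem F402869 : act 5 n197061 = n126643 := d2_2 (iv5 F330504) D197061 F203780
theorem F402870 : act 7 n197061 = n108973 := d4_2 (iv7 F165966) D197061 (iv2 D108973)
theorem F402871 : act 1 n197061 = n108971 := d15_0 (iv0 D108971) (iv7 F165966) D197061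
theorem F402872 : act 1 n108972 = n197061 := d15_0 F402871 F402859 F402858
theorem E103677 : n108993 = n108867 := (c17_2 (iv1 F168509) D108993 (iv1 D108867) (iv5 D50269) (iv4 F79627) D108832 F344737 (iv5 F330501) F402872 F402868)
theorem F402873 : act 2 n108867 = n129486 := (sb E103677 (iv2 F330528))
theorem F402874 : act 4 n108867 = n129423 := (sb E103677 F330531)
theorem F402875 : act 5 n108867 = n50324 := (sb E103677 (iv5 D108993))
def n197062 : Q := act 6 n107578
theorem D197062 : act 6 n107578 = n197062 := rfl
theorem F402876 : act 3 n197062 = n107580 := d7_1 D197062 (iv6 D107580) D107578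
theorem F402877 : act 4 n197062 = n108630 := d10_1 D197062 (iv6 D108630) (iv4 F165965)
theorem F402878 : act 0 n191394 = n197062 := d21_4 (iv5 D173520) F357796 (iv5 F151594) D191394 (iv6 D197062) F330504 F180909 F344738 F344740 (iv1 F361597)
def n197063 : Q := act 1 n107581
theorem D197063 : act 1 n107581 = n197063 := rfl
theorem F402879 : act 1 n197063 = n113155 := d15_1 D197063 (iv7 F360212) F341934
theorem F402880 : act 7 n197063 = n113154 := d15_2 (iv0 F170143) D197063 (iv2 F358200)
theorem F402881 : act 2 n112396 = n197063 := d4_3 F402880 (iv2 F358200) (iv7 F174857)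
def n197064 : Q := act 5 n107581
theorem D197064 : act 5 n107581 = n197064 := rfl
theorem F402882 : act 2 n197064 = n126640 := d2_1 D197064 F338382 F341934
theorem F402883 : act 3 n197064 = n107582 := d6_1 D197064 (iv5 D107582) D107581
theorem F402884 : act 6 n197064 = n126638 := d12_2 (iv6 F341933) D197064 F345628 F345634 (iv5 F345638)
theorem F402885 : act 7 n197064 = n113156 := d13_2 (iv7 F165975) D197064 (iv5 D113156)
theorem F402886 : act 4 n197064 = n189171 := d16_6 F216836 D195957 F398850 (iv5 D113210) (iv4 F165974) D197064 (iv5 F375938) (iv7 F375982) F375980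
theorem F402887 : act 0 n197064 = n120044 := d21_7 D162950 F345640 (iv5 D163043) F302615 (iv1 F194397) (iv6 F341933) D197064 F318577 (iv6 D78353) D78349
def n197065 : Q := act 5 n107583
theorem D197065 : act 5 n107583 = n197065 := rfl
theorem F402888 : act 2 n197065 = n108979 := d2_1 D197065 (iv5 D108979) (iv2 F165981)
theorem F402889 : act 3 n197065 = n129403 := d6_1 D197065 (iv5 F345638) F341935
theorem F402890 : act 6 n197065 = n126836 := d12_2 D107583 D197065 (iv5 D126836) (iv6 F330506) (iv5 D107582)
theorem F402891 : act 1 n197065 = n130813 := d17_6 D111267 F172571 (iv1 D64089) (iv5 F79700) (iv4 F165982) D197065 F330890 (iv0 F175051) F171170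
def n197066 : Q := act 3 n107585
theorem D197066 : act 3 n107585 = n197066 := rfl
theorem F402892 : act 4 n197066 = n127619 := d5_2 F165983 D197066 (iv3 D127619) (iv4 D59925) (iv3 F94397)
theorem F402893 : act 7 n197066 = n147375 := d8_2 F170589 D197066 F231092
theorem F402894 : act 6 n121193 = n197066 := d10_0 F402892 F334010 (iv4 F193278)
def n197067 : Q := act 6 n107585
theorem D197067 : act 6 n107585 = n197067 := rfl
theorem F402895 : act 2 n197067 = n164841 := d3_1 D197067 (iv6 F359282) (iv2 F170590)
theorem F402896 : act 3 n197067 = n121193 := d7_1 D197067 F402894 (iv3 D197066)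
theorem F402897 : act 4 n197067 = n127614 := d10_1 D197067 (iv6 D127614) F165983
theorem F402898 : act 0 n197067 = n126017 := d20_4 (iv4 F132216) (iv1 F254260) (iv4 F193278) (iv3 F402896) (iv3 D126017) (iv4 D59024) (iv1 F93218) F323874 F192514 (iv1 F132215)
def n197068 : Q := act 1 n107587
theorem D197068 : act 1 n107587 = n197068 := rfl
theorem F402899 : act 4 n197068 = n139814 := d17_9 F223009 (iv5 D67034) F49538 D66311 D141356 F224406 (iv0 D107584) D107587 D197068
theorem F402900 : act 2 n139827 = n197068 := d1_3 F402899 F223008 D139827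
theorem F402901 : act 5 n112718 = n197068 := d9_0 F402899 (iv5 D139814) (iv4 D65632) D65633 D139816 F373626 F373624 (iv5 F227229) (iv4 D144427) (iv5 D67679) F49726 (iv5 F49420) D66400 D141566 (iv4 F224605)
def n197069 : Q := act 6 n107587
theorem D197069 : act 6 n107587 = n197069 := rfl
theorem F402902 : act 3 n197069 = n107590 := d7_1 D197069 (iv6 D107590) (iv3 F165984)
theorem F402903 : act 4 n197069 = n111205 := d10_1 D197069 (iv6 F336192) F224370
theorem F402904 : act 0 n197069 = n178929 := d19_4 (iv1 F320579) (iv5 F336199) F179636 (iv3 F402902) (iv5 F355444) F230381 F105075 (iv1 F85390) (iv5 F309371) (iv4 D32058) (iv3 F50667) D68898 D146979 F336909 (iv3 D175389) (iv1 F274190) F274187 (iv4 D85204) (iv3 F130525)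
def n197070 : Q := act 6 n107588
theorem D197070 : act 6 n107588 = n197070 := rfl
theorem F402905 : act 2 n197070 = n113149 := d3_1 D197070 (iv6 D113149) F165988
theorem F402906 : act 3 n197070 = n127074 := d7_1 D197070 (iv6 F207642) (iv3 F359830)
theorem F402907 : act 4 n197070 = n115288 := d10_1 D197070 (iv6 D115288) (iv4 F165986)
theorem F402908 : act 5 n197070 = n177606 := d12_1 D197070 F359274 (iv5 F326781) (iv6 D108595) (iv5 F165985)
theorem F402909 : act 0 n197070 = n177658 := d21_4 (iv5 D52029) (iv1 F79429) (iv5 F165985) D197070 F363849 (iv5 D152927) (iv1 F188504) (iv5 D119528) F350933 F82589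
def n197071 : Q := act 3 n107589
theorem D197071 : act 3 n107589 = n197071 := rfl
theorem F402910 : act 2 n197071 = n147783 := d0_1 D197071 (iv3 F352232) F352231 F168809 F165994
theorem F402911 : act 5 n197071 = n108819 := d6_2 (iv5 F165992) D197071 (iv3 D108819)
theorem F402912 : act 7 n197071 = n113147 := d8_2 (iv7 F165991) D197071 F176292
theorem F402913 : act 0 n197071 = n124965 := d20_4 (iv4 F80331) D53186 (iv4 F165993) D197071 F200699 F92268 D58415 (iv4 F317198) F80325 D50919
theorem F402914 : act 4 n154528 = n197071 := d19_2 D87131 (iv5 F358597) (iv3 D197071) (iv1 D107589) (iv5 D49703) (iv4 D24240) (iv3 F37999) (iv1 F39647) (iv5 F37972) (iv4 F39792) (iv3 D25246) (iv1 F19799) (iv5 F19981) D25390 D52270 (iv1 F324563) F352457 (iv4 F352456) F133717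
theorem F402915 : act 6 n197071 = n147399 := d10_2 D154528 F402914 F231115
def n197072 : Q := act 6 n107589
theorem D197072 : act 6 n107589 = n197072 := rfl
theorem F402916 : act 2 n197072 = n108834 := d3_1 D197072 (iv6 D108834) F165994
theorem F402917 : act 3 n197072 = n147399 := d7_1 D197072 (iv6 F402915) (iv3 D197071)
theorem F402918 : act 4 n197072 = n115286 := d10_1 D197072 (iv6 D115286) (iv4 F165993)
theorem F402919 : act 5 n147380 = n197072 := d21_2 F188514 (iv1 F376353) (iv6 D197072) (iv1 D107589) D107590 (iv5 F166933) F355513 (iv5 D107672) D107673 F355514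
theorem F402920 : act 7 n197072 = n147379 := d13_2 D147380 F402919 (iv5 D147379)
def n197073 : Q := act 7 n107595
theorem D197073 : act 7 n107595 = n197073 := rfl
theorem F402921 : act 2 n197073 = n107640 := d4_1 D197073 F360182 (iv2 F165997)
theorem F402922 : act 3 n197073 = n136387 := d8_1 D197073 (iv7 F346475) F346481
theorem F402923 : act 1 n107641 = n197073 := d15_1 (iv0 F345603) (iv7 D197073) F165997
theorem F402924 : act 1 n197073 = n107598 := d15_1 F402923 F166004 D107641
def n197074 : Q := act 6 n107598
theorem D197074 : act 6 n107598 = n197074 := rfl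
theorem F402925 : act 3 n197074 = n107600 := d7_1 D197074 (iv6 D107600) D107598
theorem F402926 : act 5 n197074 = n118559 := d12_1 D197074 (iv6 D118559) D118558 (iv6 F382151) F382153
def n197075 : Q := act 5 n107600
theorem D197075 : act 5 n107600 = n197075 := rfl
theorem F402927 : act 2 n197075 = n107662 := d2_1 D197075 (iv5 D107662) (iv2 F166009)
theorem F402928 : act 3 n197075 = n118559 := d6_1 D197075 (iv5 F402926) F402925
theorem F402929 : act 6 n197075 = n118557 := d12_2 D107600 D197075 F332313 (iv6 F328859) (iv5 D107599)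
theorem F402930 : act 7 n197075 = n172565 := d13_2 F219944 D197075 F348183
theorem F402931 : act 0 n197075 = n172560 := d17_2 F166011 D197075 (iv5 F344426) F344425 (iv5 F209210) (iv0 D130637) F95782 (iv0 F79301) (iv4 F93863)
theorem F402932 : act 1 n197075 = n172567 := d17_6 F203387 (iv5 F166336) (iv1 D62024) (iv5 F78541) (iv4 F166010) D197075 (iv5 F271855) F332379 (iv4 F332372)
def n197076 : Q := act 7 n107603
theorem D197076 : act 7 n107603 = n197076 := rfl
theorem F402933 : act 2 n197076 = n107680 := d4_1 D197076 (iv7 D107680) (iv2 F166018)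
theorem F402934 : act 3 n197076 = n154602 := d8_1 D197076 F242688 F334598
theorem F402935 : act 4 n197076 = n107606 := d11_1 D197076 (iv7 D107606) (iv4 F166019)
theorem F402936 : act 5 n197076 = n154601 := d13_1 D197076 F362039 (iv5 F331694)
theorem F402937 : act 6 n197076 = n107697 := d14_1 D197076 (iv7 D107697) (iv6 D49752) (iv7 F78544) D107603
theorem F402938 : act 1 n107678 = n197076 := d15_1 D107678 (iv7 D197076) F166018
theorem F402939 : act 1 n197076 = n107677 := d15_1 F402938 (iv7 F344152) F344150
def n197077 : Q := act 6 n107613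
theorem D197077 : act 6 n107613 = n197077 := rfl
theorem F402940 : act 2 n197077 = n117821 := d3_1 D197077 (iv6 F192321) (iv2 F350991)
theorem F402941 : act 3 n197077 = n107615 := d7_1 D197077 (iv6 D107615) (iv3 F166040)
theorem F402942 : act 4 n197077 = n117820 := d10_1 D197077 F315552 (iv4 F322419)
theorem F402943 : act 5 n197077 = n126674 := d12_1 D197077 (iv6 D126674) (iv5 D59431) (iv6 F78552) D107613
theorem F402944 : act 7 n197077 = n134568 := d14_2 F179436 D197077 F334093 F187990 (iv6 F320638)
theorem F402945 : act 0 n197077 = n148386 := d21_4 F350975 F321286 D107613 D197077 F352082 (iv5 F239417) F239418 (iv5 F316420) F315899 D159037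
theorem F402946 : act 0 n143599 = n197077 := d21_4 D66823 D142530 F225422 D143599 (iv6 D197077) (iv5 D107613) (iv1 F321285) (iv5 F330654) (iv6 D142529) (iv1 D66822)
def n197078 : Q := act 1 n107615
theorem D197078 : act 1 n107615 = n197078 := rfl
theorem F402947 : act 1 n197078 = n107745 := d15_1 D197078 (iv7 D107745) (iv2 F166042)
theorem F402948 : act 7 n197078 = n107743 := d15_2 F346131 D197078 (iv2 F347679)
theorem F402949 : act 4 n197078 = n164342 := d17_9 (iv1 F346156) (iv5 F346151) (iv1 F231598) F319197 (iv4 F337846) (iv5 D135281) (iv0 F338469) (iv5 F166043) D197078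
theorem F402950 : act 3 n147466 = n197078 := d19_19 (iv1 D197078) F166043 F93818 (iv3 F100699) D138044 F361492 F307625 F96075 F303486 (iv5 F303487) (iv4 F200687) F344766 (iv1 D174509) (iv5 D83404) (iv4 F118459) (iv3 D58125) (iv1 F296508) D124171 (iv4 F348854)
theorem F402951 : act 6 n142530 = n197078 := d21_3 (iv5 D67251) D67249 (iv5 F225422) (iv1 D197078) (iv6 D107615) (iv5 D49713) (iv1 F48619) (iv5 F98907) D135253 F330325
theorem F402952 : act 2 n197078 = n107744 := d3_1 F402951 (iv6 F352072) F352070
def n197079 : Q := act 6 n107621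
theorem D197079 : act 6 n107621 = n197079 := rfl
theorem F402953 : act 2 n197079 = n144286 := d3_1 D197079 F226982 (iv2 F167031)
theorem F402954 : act 4 n197079 = n156064 := d10_1 D197079 (iv6 D156064) F167032
theorem F402955 : act 5 n197079 = n126689 := d12_1 D197079 (iv6 D126689) (iv5 F93835) (iv6 F201741) F201737
theorem F402956 : act 7 n197079 = n126689 := d14_2 (iv7 F167030) D197079 (iv6 D126689) (iv7 F168666) F168665
theorem F402957 : act 0 n197079 = n144285 := d21_4 (iv5 F92802) D125461 F201737 D197079 (iv6 F226980) D144354 (iv1 F392579) F392577 F166288 F166483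
theorem F402958 : act 0 n144284 = n197079 := d21_1 (iv5 F226974) F402955 (iv6 D126689) (iv1 D59440) (iv6 D28225) (iv5 D13475) F19816 D25250 D52020 D112702
def n197080 : Q := act 6 n107623
theorem D197080 : act 6 n107623 = n197080 := rfl
theorem F402959 : act 3 n197080 = n107624 := d7_1 D197080 (iv6 D107624) D107623
theorem F402960 : act 4 n197080 = n191792 := d10_1 D197080 (iv6 F384457) F167590
theorem F402961 : act 5 n197080 = n191710 := d12_1 D197080 F384230 F238466 (iv6 F114509) F329170
theorem F402962 : act 7 n197080 = n159677 := d14_2 (iv7 F328838) D197080 (iv6 D159677) (iv7 D76394) (iv6 F114507)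
def n197081 : Q := act 5 n107624
theorem D197081 : act 5 n107624 = n197081 := rfl
theorem F402963 : act 2 n197081 = n130622 := d2_1 D197081 (iv5 F328440) F202268
theorem F402964 : act 3 n197081 = n191710 := d6_1 D197081 (iv5 F402961) F402959
theorem F402965 : act 7 n197081 = n114597 := d13_2 F220678 D197081 (iv5 F327581)
theorem F402966 : act 0 n197081 = n130621 := d17_2 F169228 D197081 F363783 (iv4 D63195) (iv5 F81336) (iv0 D25142) (iv5 F23075) D29031 D61329
theorem F402967 : act 1 n197081 = n130620 := d17_6 (iv1 F203485) F203487 (iv1 D125749) F93106 (iv4 F166220) D197081 F363786 F168433 F99325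
def n197082 : Q := act 6 n107626
theorem D197082 : act 6 n107626 = n197082 := rfl
theorem F402968 : act 3 n197082 = n131795 := d7_1 D197082 (iv6 D131795) F171519
theorem F402969 : act 0 n113872 = n197082 := d21_4 (iv5 F397227) F397229 F328415 (iv6 F328645) (iv6 D197082) (iv5 F166222) (iv1 F395821) F395818 F203501 (iv1 F203337)
def n197083 : Q := act 6 n107629
theorem D197083 : act 6 n107629 = n197083 := rfl
theorem F402970 : act 2 n197083 = n129502 := d3_1 D197083 (iv6 D129502) (iv2 F166223)
theorem F402971 : act 3 n197083 = n116548 := d7_1 D197083 F339411 (iv3 F318490)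
theorem F402972 : act 4 n197083 = n130657 := d10_1 D197083 (iv6 D130657) (iv4 F166224)
theorem F402973 : act 5 n197083 = n111560 := d12_1 D197083 F336501 F325252 (iv6 D107630) D107629
theorem F402974 : act 7 n197083 = n116642 := d14_2 F166353 D197083 (iv6 F339235) F348643 (iv6 F348641)
theorem F402975 : act 0 n197083 = n147160 := d21_4 F78625 (iv1 F78586) D107629 D197083 F346137 F337852 (iv1 D59617) (iv5 F78628) (iv6 D49770) D49767
theorem F402976 : act 1 n197083 = n146541 := d15_1 (iv0 F402975) F229854 D147160
def n197084 : Q := act 1 n107630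
theorem D197084 : act 1 n107630 = n197084 := rfl
theorem F402977 : act 1 n197084 = n117096 := d15_1 D197084 F183133 (iv2 F166227)
theorem F402978 : act 7 n197084 = n129494 := d15_2 (iv0 F336492) D197084 F338763
theorem F402979 : act 5 n197084 = n180653 := d17_7 (iv1 D50267) D50269 D108866 F362480 D108987 F325252 D197084 (iv0 F336489) (iv4 D108861)
theorem F402980 : act 4 n197084 = n130516 := d17_9 (iv1 D130516) F95697 (iv1 F98733) F97745 (iv4 F100487) (iv5 F220482) (iv0 F325250) F325252 D197084
theorem F402981 : act 6 n126706 = n197084 := d21_3 F337679 D148290 F337674 (iv1 D197084) (iv6 D107630) D107629 F166225 F98907 D64148 F167352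
theorem F402982 : act 2 n197084 = n129495 := d3_1 F402981 F214327 F203914
def n197085 : Q := act 7 n107630
theorem D197085 : act 7 n107630 = n197085 := rfl
theorem F402983 : act 2 n197085 = n117096 := d4_1 D197085 F183133 (iv2 F166227)
theorem F402984 : act 3 n197085 = n195498 := d8_1 D197085 F397154 F353522
theorem F402985 : act 4 n197085 = n107633 := d11_1 D197085 (iv7 D107633) (iv4 F166228)
theorem F402986 : act 5 n197085 = n137316 := d13_1 D197085 (iv7 F325253) F325252
theorem F402987 : act 6 n197085 = n117093 := d14_1 D197085 F183123 (iv6 F97568) F97567 D107630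
theorem F402988 : act 1 n129495 = n197085 := d15_1 D129495 (iv7 D197085) F166227
theorem F402989 : act 1 n197085 = n129494 := d15_1 F402988 (iv7 F402978) F402982
def n197086 : Q := act 4 n107631
theorem D197086 : act 4 n107631 = n197086 := rfl
theorem F402990 : act 2 n197086 = n129491 := d1_1 D197086 (iv4 D129491) F171857
theorem F402991 : act 3 n197086 = n163508 := d5_1 D197086 F360195 F360187 (iv4 F227018) (iv3 F227023)
theorem F402992 : act 7 n197086 = n129493 := d11_2 F171860 D197086 (iv4 D129493)
theorem F402993 : act 5 n197086 = n163501 := d16_7 F79627 D50269 D108868 F362477 F207866 (iv5 F166229) D197086 F341852 (iv2 D108831)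
theorem F402994 : act 0 n197086 = n126808 := d17_0 (iv5 F330501) (iv1 D108972) (iv5 F330502) F45771 D28267 F46501 (iv5 F85109) (iv0 F166231) D197086
theorem F402995 : act 1 n197086 = n107636 := d18_8 (iv1 F402871) F402868 (iv1 F168509) D108992 F325257 F183132 (iv0 F166231) D197086 (iv5 F330500)
theorem F402996 : act 6 n111547 = n108971 := d21_5 F256339 D157968 (iv5 F327515) (iv6 D111551) D111547 F330500 (iv1 F402995) F402993 (iv6 D163501) (iv1 F257967)
def n197087 : Q := act 0 n107634
theorem D197087 : act 0 n107634 = n197087 := rfl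
theorem F402997 : act 2 n175373 = n197087 := d15_3 (iv0 D197087) (iv0 F379786) (iv7 F355519)
theorem F402998 : act 5 n197087 = n175161 := d2_2 D175373 F402997 F274176
def n197088 : Q := act 2 n107634
theorem D197088 : act 2 n107634 = n197088 := rfl
theorem F402999 : act 3 n197088 = n175992 := d0_2 D107634 D197088 (iv2 F345571) (iv3 D130513) F95692
theorem F403000 : act 4 n197088 = n134211 := d1_2 (iv4 F166241) D197088 (iv2 D134211)
theorem F403001 : act 1 n175373 = n197088 := d17_8 (iv1 F222789) F372901 (iv1 D108578) (iv5 D50133) (iv4 F79315) D108508 F382183 D175373 F403000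
def n197089 : Q := act 5 n107634
theorem D197089 : act 5 n107634 = n197089 := rfl
theorem F403002 : act 3 n197089 = n107635 := d6_1 D197089 (iv5 D107635) D107634
theorem F403003 : act 1 n197089 = n147292 := d17_8 (iv1 D134181) (iv5 D63036) D63033 D134173 (iv4 F341468) (iv5 F402998) (iv0 D197087) D197089 (iv4 F348522)
theorem F403004 : act 6 n197089 = n147136 := d21_9 (iv5 F354806) (iv1 F354856) (iv5 D147369) D147370 F343323 F334546 (iv5 F355517) F379786 D197089 (iv1 F354812)
def n197090 : Q := act 6 n107634
theorem D197090 : act 6 n107634 = n197090 := rfl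
theorem F403005 : act 3 n197090 = n107636 := d7_1 D197090 (iv6 D107636) D107634
theorem F403006 : act 4 n197090 = n134206 := d10_1 D197090 F216243 (iv4 F166241)
theorem F403007 : act 5 n180600 = n197090 := d6_0 F403005 (iv5 F330500) F366193
def n197091 : Q := act 6 n107635
theorem D197091 : act 6 n107635 = n197091 := rfl
theorem F403008 : act 3 n197091 = n147136 := d7_1 D197091 (iv6 F403004) F403002
theorem F403009 : act 4 n197091 = n133456 := d10_1 D197091 (iv6 D133456) (iv4 F166242)
theorem F403010 : act 5 n197091 = n111547 := d12_1 D197091 F402996 F330500 (iv6 D107636) D107635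
theorem F403011 : act 0 n111443 = n197091 := d21_4 F127937 (iv1 F127914) D173453 F354606 (iv6 D197091) (iv5 D107635) (iv1 F78590) D49737 D107660 F329470
def n197092 : Q := act 3 n107640
theorem D197092 : act 3 n107640 = n197092 := rfl
theorem F403012 : act 7 n197092 = n197069 := d8_2 (iv7 F360182) D197092 F402902
theorem F403013 : act 0 n197092 = n146987 := d19_4 (iv1 D112964) D112966 F175917 D197092 (iv5 D146987) (iv4 D68900) F50667 F311596 D67347 (iv4 F312726) (iv3 F105075) (iv1 F310936) F310938 (iv4 F231974) (iv3 F335200) F332252 (iv5 F320443) (iv4 D156958) F245464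
theorem F403014 : act 6 n152608 = n197092 := d21_3 F321174 (iv1 F120202) D152608 F403013 (iv6 F366671) (iv5 D172026) (iv1 D82391) D82392 F126902 D101620
def n197093 : Q := act 5 n107640
theorem D197093 : act 5 n107640 = n197093 := rfl
theorem F403015 : act 7 n197093 = n108015 := d13_2 (iv7 F360182) D197093 F166933
theorem F403016 : act 0 n197093 = n156197 := d18_0 (iv4 F392692) (iv1 F392693) F347907 F347903 (iv4 F176356) F347951 F166055 D107640 D197093
def n197094 : Q := act 6 n107640
theorem D197094 : act 6 n107640 = n197094 := rfl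
theorem F403017 : act 3 n197094 = n152608 := d7_1 D197094 F403014 (iv3 D197092)
theorem F403018 : act 7 n197094 = n110345 := d14_2 (iv7 F360182) D197094 (iv6 D110345) F80274 D107590
theorem F403019 : act 5 n131572 = n197094 := d21_2 F343414 D131572 (iv6 D197094) (iv1 D107640) F345599 (iv5 D54986) (iv1 D26590) D26591 (iv6 F86993) D119489
theorem F403020 : act 0 n197094 = n126633 := d17_2 D131572 F403019 F331936 (iv4 F185603) F318003 F167426 F333705 (iv0 D61748) (iv4 F96335)
theorem F403021 : act 1 n197094 = n193129 := d17_6 F314160 (iv5 F321155) (iv1 F361581) (iv5 F361580) (iv4 F333434) F403019 F388840 F187752 (iv4 F188276)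
def n197095 : Q := act 0 n107642
theorem D197095 : act 0 n107642 = n197095 := rfl
theorem F403022 : act 3 n197095 = n174761 := d20_5 D49769 (iv1 F83936) (iv4 F83938) (iv3 F166249) D197095 (iv4 D174761) F321887 D83967 (iv3 F324292) (iv1 D49768)
theorem F403023 : act 5 n107669 = n197095 := d6_0 F403022 F336421 (iv3 F344863)
def n197096 : Q := act 1 n107642
theorem D197096 : act 1 n107642 = n197096 := rfl
theorem F403024 : act 5 n197096 = n107670 := d18_9 (iv1 D107670) (iv4 F111013) D155998 F359957 (iv5 F279189) F350614 (iv0 F350615) (iv4 F328856) D197096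
def n197097 : Q := act 3 n107644
theorem D197097 : act 3 n107644 = n197097 := rfl
theorem F403025 : act 2 n197097 = n175372 := d0_1 D197097 F365407 (iv2 F324719) (iv3 F332574) F176267
theorem F403026 : act 5 n197097 = n107667 := d6_2 (iv5 F166251) D197097 (iv3 D107667)
theorem F403027 : act 7 n197097 = n108508 := d8_2 (iv7 F166254) D197097 F167752
theorem F403028 : act 0 n197097 = n175161 := d20_10 F341468 (iv1 F360209) (iv4 F352319) F352321 (iv1 D167569) (iv3 F325428) (iv4 D62649) D62647 (iv4 F166252) D197097
theorem F403029 : act 1 n197097 = n175374 := d15_1 (iv0 F403028) (iv7 D175374) (iv2 F274176)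
def n197098 : Q := act 6 n107644
theorem D197098 : act 6 n107644 = n197098 := rfl
theorem F403030 : act 2 n197098 = n178368 := d3_1 D197098 F335996 F176267
theorem F403031 : act 4 n197098 = n133479 := d10_1 D197098 (iv6 D133479) (iv4 F166252)
theorem F403032 : act 5 n197098 = n194849 := d12_1 D197098 (iv6 F394748) (iv5 F346277) (iv6 D107668) (iv5 F166251)
theorem F403033 : act 0 n197098 = n152481 := d21_10 (iv5 F353493) (iv1 F340641) (iv5 F346412) (iv6 F346409) (iv1 F362023) (iv6 D107676) (iv5 D49744) D49742 (iv5 F166251) D197098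
theorem F403034 : act 2 n194849 = n194957 := d2_1 F403032 F395179 (iv2 F403030)
theorem F403035 : act 7 n194958 = n194849 := d15_2 (iv0 D194957) D194958 F403034
theorem F403036 : act 7 n194848 = n194957 := d15_2 F394747 F394746 (iv2 F403034)
theorem F403037 : act 2 n194958 = n194848 := d4_3 F403036 (iv2 F403034) (iv7 F403035)
theorem F403038 : act 3 n166153 = n194848 := d8_3 F403036 (iv3 F395181) F345529
def n197099 : Q := act 3 n107646
theorem D197099 : act 3 n107646 = n197099 := rfl
theorem F403039 : act 6 n197099 = n126751 := d7_2 F166256 D197099 (iv3 D126751)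
theorem F403040 : act 0 n194310 = n197099 := d20_4 (iv4 F346782) (iv1 F158282) D103197 D194310 (iv3 D197099) F166255 (iv1 F99719) (iv4 F209091) (iv3 F346771) (iv1 F346780)
def n197100 : Q := act 6 n107647
theorem D197100 : act 6 n107647 = n197100 := rfl
theorem F403041 : act 4 n197100 = n136353 := d10_1 D197100 (iv6 D136353) F166257
theorem F403042 : act 7 n197100 = n126755 := d14_2 F209095 D197100 (iv6 D126755) F111353 (iv6 F209094)
theorem F403043 : act 0 n197100 = n144357 := d21_4 D59554 D126905 F204152 D197100 (iv6 D144357) (iv5 F332102) D147665 (iv5 F344153) (iv6 F166478) (iv1 D59553)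
def n197101 : Q := act 3 n107650
theorem D197101 : act 3 n107650 = n197101 := rfl
theorem F403044 : act 2 n197101 = n120094 := d0_1 D197101 F189703 F87448 (iv3 F319576) (iv2 F166259)
theorem F403045 : act 5 n197101 = n135407 := d6_2 F204226 D197101 (iv3 F358557)
theorem F403046 : act 6 n197101 = n120093 := d7_2 (iv6 F166260) D197101 F324657
theorem F403047 : act 0 n128170 = n197101 := d21_4 (iv5 F192320) F330640 F339417 (iv6 F341255) F403046 F189698 (iv1 F189633) F324692 (iv6 F351009) (iv1 D125064)
def n197102 : Q := act 6 n107651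
theorem D197102 : act 6 n107651 = n197102 := rfl
theorem F403048 : act 3 n197102 = n107652 := d7_1 D197102 (iv6 D107652) D107651
theorem F403049 : act 4 n197102 = n107659 := d10_1 D197102 (iv6 D107659) (iv4 F166262)
theorem F403050 : act 7 n197102 = n139424 := d14_2 (iv7 F166263) D197102 (iv6 F362976) (iv7 F362974) F356744
def n197103 : Q := act 5 n107652
theorem D197103 : act 5 n107652 = n197103 := rfl
theorem F403051 : act 2 n197103 = n134167 := d2_1 D197103 (iv5 D134167) (iv2 F166264)
theorem F403052 : act 7 n197103 = n139425 := d13_2 F166268 D197103 (iv5 D139425)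
theorem F403053 : act 0 n197103 = n141316 := d17_2 F166266 D197103 (iv5 D141316) F102197 (iv5 F98694) (iv0 D63387) F48151 (iv0 F40922) (iv4 F84345)
def n197104 : Q := act 6 n107658
theorem D197104 : act 6 n107658 = n197104 := rfl
theorem F403054 : act 2 n197104 = n128146 := d3_1 D197104 (iv6 F345981) F345979
theorem F403055 : act 3 n197104 = n107660 := d7_1 D197104 (iv6 D107660) (iv3 F166279)
theorem F403056 : act 4 n197104 = n123674 := d10_1 D197104 F198101 (iv4 F329468)
theorem F403057 : act 7 n197104 = n123670 := d14_2 (iv7 F329469) D197104 (iv6 D123670) F90820 D60204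
theorem F403058 : act 0 n197104 = n128144 := d21_4 F130610 (iv1 F320219) D107658 D197104 F347339 D147737 F392932 D194356 F392919 (iv1 D178959)
theorem F403059 : act 0 n128143 = n197104 := d21_4 (iv5 D174311) (iv1 D83316) D83317 (iv6 F342768) (iv6 D197104) (iv5 D107658) (iv1 F321899) (iv5 F250351) (iv6 F339311) F342713
theorem F403060 : act 5 n174033 = n197104 := d21_8 (iv5 F342707) F321601 (iv5 F336343) (iv6 F356772) F350770 D148812 F355022 F273971 (iv6 D197104) F330644
def n197105 : Q := act 1 n107659
theorem D197105 : act 1 n107659 = n197105 := rfl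
theorem F403061 : act 7 n197105 = n174939 := d15_2 (iv0 F342712) D197105 F354062
theorem F403062 : act 3 n127100 = n197105 := d20_3 F322447 (iv1 F200688) (iv4 F320395) (iv1 D197105) F166280 F78605 F53936 D74793 (iv3 F221754) (iv1 F341146)
theorem F403063 : act 6 n126623 = n197105 := d21_3 F345628 (iv1 D127096) F324860 (iv1 D197105) (iv6 D107659) D107658 F330644 (iv5 F342707) F336324 (iv1 F203736)
theorem F403064 : act 2 n197105 = n126789 := d3_1 F403063 (iv6 D126789) (iv2 F203696)
theorem F403065 : act 5 n197105 = n130060 := d12_1 F403063 (iv6 D130060) F95587 (iv6 F94046) F324860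
def n197106 : Q := act 5 n107659
theorem D197106 : act 5 n107659 = n197106 := rfl
theorem F403066 : act 3 n197106 = n107662 := d6_1 D197106 (iv5 D107662) (iv3 F166280)
theorem F403067 : act 6 n197106 = n174033 := d12_2 D107659 D197106 F403060 (iv6 D197104) (iv5 D107658)
theorem F403068 : act 4 n197106 = n174035 := d19_2 (iv1 D197105) D197106 F272766 (iv1 F338121) (iv5 F383677) F383678 F199412 (iv1 F92080) F60231 (iv4 D27096) (iv3 F43779) (iv1 F297421) F297423 (iv4 F298546) (iv3 F312780) (iv1 F209492) F209489 (iv4 F320395) F403062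
theorem F403069 : act 0 n155708 = n197106 := d21_10 (iv5 D197106) F342712 F354063 (iv6 D153243) D153241 (iv6 F343378) F334511 F343380 (iv5 F320267) F320268
theorem F403070 : act 7 n133080 = n197106 := d14_0 F403067 (iv7 F387367) (iv6 F387369) F311881 D133080
def n197107 : Q := act 7 n107659
theorem D197107 : act 7 n107659 = n197107 := rfl
theorem F403071 : act 3 n197107 = n107663 := d8_1 D197107 (iv7 D107663) (iv3 F166280)
theorem F403072 : act 4 n197107 = n139424 := d11_1 D197107 (iv7 F403050) F403049
theorem F403073 : act 5 n197107 = n133080 := d13_1 D197107 F403070 (iv5 D197106)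
theorem F403074 : act 6 n197107 = n128119 := d14_1 D197107 (iv7 D128119) F329665 (iv7 F320618) D107659
theorem F403075 : act 1 n126789 = n197107 := d15_1 F354065 (iv7 D197107) F366249
theorem F403076 : act 1 n197107 = n174939 := d15_1 F403075 (iv7 F403061) F403064
def n197108 : Q := act 1 n107662
theorem D197108 : act 1 n107662 = n197108 := rfl
theorem F403077 : act 1 n197108 = n172565 := d15_1 D197108 (iv7 F402930) F402927
theorem F403078 : act 7 n197108 = n172560 := d15_2 (iv0 F340660) D197108 F270741
theorem F403079 : act 3 n157091 = n197108 := d20_3 (iv4 F311189) (iv1 F313499) D157091 (iv1 D197108) (iv3 F403066) F403068 F356987 F273325 (iv3 F273324) F353053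
theorem F403080 : act 2 n197108 = n172567 := d0_1 F403079 F270743 (iv2 F128560) (iv3 F243738) F359312
def n197109 : Q := act 7 n107662
theorem D197109 : act 7 n107662 = n197109 := rfl
theorem F403081 : act 2 n197109 = n172565 := d4_1 D197109 (iv7 F402930) F402927
theorem F403082 : act 3 n197109 = n133080 := d8_1 D197109 F403070 F403066
theorem F403083 : act 4 n197109 = n191557 := d11_1 D197109 F384935 F384933
theorem F403084 : act 5 n197109 = n107663 := d13_1 D197109 (iv7 D107663) D107662
theorem F403085 : act 6 n197109 = n133077 := d14_1 D197109 F387376 (iv6 D192654) F286405 (iv6 F340655)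
theorem F403086 : act 1 n172567 = n197109 := d15_1 F402932 (iv7 D197109) (iv2 F402927)
theorem F403087 : act 1 n197109 = n172560 := d15_1 F403086 (iv7 F403078) F403080
def n197110 : Q := act 6 n107665
theorem D197110 : act 6 n107665 = n197110 := rfl
theorem F403088 : act 4 n197110 = n156124 := d10_1 D197110 (iv6 D156124) F175905
theorem F403089 : act 0 n197110 = n126333 := d21_4 F223590 (iv1 F392586) F392583 D197110 (iv6 F207853) (iv5 D129676) F203289 F203287 (iv6 F182861) F223589
theorem F403090 : act 5 n197110 = n140395 := d21_6 (iv5 F80731) (iv1 F111443) (iv5 F203898) F203899 (iv1 F175903) D197110 (iv1 F223535) F175065 F168795 F111379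
theorem F403091 : act 0 n112146 = n156124 := d18_2 F174058 D112146 (iv4 F403088) F403090 F223532 (iv0 D111984) F81542 D51649 D111989
def n197111 : Q := act 0 n107667
theorem D197111 : act 0 n107667 = n197111 := rfl
theorem F403092 : act 1 n108507 = n197111 := d15_0 (iv0 D197111) F166295 D108507
def n197112 : Q := act 1 n107667
theorem D197112 : act 1 n107667 = n197112 := rfl
theorem F403093 : act 3 n125051 = n197112 := d20_3 (iv4 F355172) (iv1 F372127) F372123 (iv1 D197112) (iv3 D107667) F78612 (iv1 F38590) (iv4 F78550) (iv3 F331338) (iv1 F354252)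
theorem F403094 : act 4 n134848 = n197112 := d20_6 (iv4 F38945) (iv1 D14221) D14222 D29944 D63375 D134848 (iv1 D197112) F166294 F79404 (iv1 F38364)
theorem F403095 : act 0 n125084 = n134848 := d20_1 D125084 F403094 (iv3 F403093) (iv1 D125051) (iv3 D58465) (iv4 D27819) (iv1 D13274) D13275 D27823 D58474
theorem F403096 : act 0 n108507 = n197112 := d20_10 (iv4 F403094) F366592 (iv4 D125089) D125088 F375967 F375964 (iv4 F398614) (iv1 F398613) (iv4 F176258) F176257
theorem F403097 : act 7 n197112 = n108506 := d8_2 (iv7 F355156) F403093 F360547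
theorem F403098 : act 2 n108506 = n197111 := d15_3 (iv0 D197111) D197112 F403097
theorem F403099 : act 2 n197112 = n108505 := d15_3 (iv0 D108505) D108506 (iv7 F403097)
theorem F403100 : act 7 n108505 = n197111 := d4_2 (iv7 F403097) F403099 (iv2 F403098)
def n197113 : Q := act 2 n107667
theorem D197113 : act 2 n107667 = n197113 := rfl
theorem F403101 : act 3 n197113 = n175990 := d0_2 D107667 D197113 (iv2 F345562) F176262 F82562
theorem F403102 : act 4 n197113 = n108563 := d1_2 (iv4 F166294) D197113 (iv2 F167900)
theorem F403103 : act 5 n197113 = n175372 := d2_2 F403026 D197113 (iv2 F403025)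
theorem F403104 : act 7 n197113 = n108507 := d4_2 (iv7 F166295) D197113 (iv2 D108507)
theorem F403105 : act 1 n197113 = n108505 := d15_0 (iv0 D108505) (iv7 F166295) D197113
theorem F403106 : act 1 n108506 = n197113 := d15_0 F403105 F403100 (iv2 F403098)
theorem F403107 : act 0 n108572 = n134212 := d17_2 (iv1 F167903) D108572 (iv5 D134212) (iv4 F166241) D197089 F403003 (iv5 F360548) F403106 F403102
theorem F403108 : act 6 n125988 = n197113 := d7_0 F403101 (iv6 F345559) (iv3 F365857)
def n197114 : Q := act 6 n107667
theorem D197114 : act 6 n107667 = n197114 := rfl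
theorem F403109 : act 2 n197114 = n125988 := d3_1 D197114 F403108 (iv2 D197113)
theorem F403110 : act 3 n197114 = n107668 := d7_1 D197114 (iv6 D107668) D107667
theorem F403111 : act 4 n197114 = n108582 := d10_1 D197114 (iv6 D108582) (iv4 F166294)
theorem F403112 : act 7 n197114 = n125983 := d14_2 (iv7 F166295) D197114 F351689 (iv7 F98528) F98527
theorem F403113 : act 5 n125959 = n197114 := d13_3 F403112 (iv5 D125983) (iv7 F202626)
def n197115 : Q := act 3 n107670
theorem D197115 : act 3 n107670 = n197115 := rfl
theorem F403114 : act 6 n197115 = n126832 := d7_2 (iv6 F351557) D197115 (iv3 D126832)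
theorem F403115 : act 0 n197115 = n179118 := d20_4 (iv4 F60326) D85197 (iv4 F320575) D197115 (iv3 D179118) (iv4 F360550) F360549 (iv4 D179277) (iv3 D85547) (iv1 D39489)
theorem F403116 : act 5 n146985 = n197115 := d18_9 F403115 (iv4 F354251) F354250 (iv4 D85534) (iv5 F113958) F313192 (iv0 D68898) D68900 D146985
theorem F403117 : act 3 n197096 = n146985 := d6_3 F403116 (iv3 D197115) (iv5 F403024)
def n197116 : Q := act 5 n107671
theorem D197116 : act 5 n107671 = n197116 := rfl
theorem F403118 : act 2 n197116 = n107672 := d2_1 D197116 (iv5 D107672) D107671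
theorem F403119 : act 3 n197116 = n159014 := d6_1 D197116 F336343 (iv3 F324667)
theorem F403120 : act 4 n197116 = n194293 := d9_1 D197116 F392702 (iv4 F367383) (iv5 D112983) F167210 (iv5 D74303) D74302 D156197 (iv4 F392692) (iv5 F392695) F392696 (iv5 D112988) D112987 F245083 F245079
theorem F403121 : act 0 n197116 = n197093 := d17_2 (iv1 F245459) D197116 (iv5 D197093) (iv4 F175917) (iv5 D112966) D112964 F245463 D156952 (iv4 F247024)
theorem F403122 : act 1 n197116 = n108020 := d17_6 (iv1 F347951) (iv5 F347954) (iv1 F245473) F245083 F245079 D197116 F166939 F360181 (iv4 F166055)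
def n197117 : Q := act 6 n107671
theorem D197117 : act 6 n107671 = n197117 := rfl
theorem F403123 : act 2 n197117 = n107673 := d3_1 D197117 (iv6 D107673) D107671
theorem F403124 : act 3 n197117 = n154599 := d7_1 D197117 F336313 (iv3 F324667)
theorem F403125 : act 5 n154598 = n197117 := d6_0 F403124 (iv5 D154599) D154598
def n197118 : Q := act 0 n107672
theorem D197118 : act 0 n107672 = n197118 := rfl
theorem F403126 : act 4 n197118 = n179312 := d18_1 D197118 (iv1 D179312) (iv4 D85556) (iv5 D39491) (iv4 F60326) D85198 (iv4 F344864) (iv0 D107669) D107672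
theorem F403127 : act 3 n197118 = n148873 := d20_5 (iv4 F97679) F97680 F83923 (iv3 F166299) D197118 F344862 (iv1 D83905) D83906 F321881 (iv1 F95410)
theorem F403128 : act 2 n197093 = n197118 := d15_3 (iv0 D197118) (iv0 F355513) (iv7 F403015)
theorem F403129 : act 5 n197118 = n197073 := d2_2 D197093 F403128 F402921
theorem F403130 : act 7 n197118 = n108020 := d4_2 (iv7 F403015) F403128 F166938
theorem F403131 : act 6 n175202 = n197118 := d14_5 F403130 (iv6 D108020) (iv7 F80433) D110585 (iv7 F363841)
def n197119 : Q := act 4 n107672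
theorem D197119 : act 4 n107672 = n197119 := rfl
theorem F403132 : act 2 n197119 = n194293 := d1_1 D197119 (iv4 F403120) F403118
theorem F403133 : act 7 n197119 = n194292 := d11_2 F245470 D197119 F392692
theorem F403134 : act 1 n197119 = n111782 := d18_6 (iv1 F351391) (iv4 F351396) (iv1 D155999) F111013 D107672 D197119 (iv4 F175185) F339812 (iv5 D85553)
theorem F403135 : act 1 n111782 = n190224 := d15_1 F403134 (iv7 F392701) (iv2 F403132)
theorem F403136 : act 1 n194288 = n197119 := d15_0 F403134 F347960 (iv2 F392672)
theorem F403137 : act 1 n190224 = n194288 := d15_0 F403136 F403133 (iv2 F392699)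
def n197120 : Q := act 6 n107672
theorem D197120 : act 6 n107672 = n197120 := rfl
theorem F403138 : act 3 n197120 = n107676 := d7_1 D197120 (iv6 D107676) (iv3 F166299)
theorem F403139 : act 5 n142511 = n197120 := d6_0 F403138 F331689 D142511
theorem F403140 : act 0 n197120 = n148876 := d20_10 F233920 F204861 F204859 (iv3 D68540) (iv1 D31888) D31889 (iv4 F104582) (iv1 F331691) F179400 (iv3 F403138)
def n197121 : Q := act 1 n107673
theorem D197121 : act 1 n107673 = n197121 := rfl
def n197122 : Q := act 5 n107673
theorem D197122 : act 5 n107673 = n197122 := rfl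
theorem F403141 : act 2 n197122 = n154598 := d2_1 D197122 F403125 F403123
theorem F403142 : act 3 n197122 = n107679 := d6_1 D197122 (iv5 D107679) (iv3 F166300)
theorem F403143 : act 6 n197122 = n142511 := d12_2 D107673 D197122 F403139 (iv6 D197120) (iv5 D107672)
theorem F403144 : act 0 n188570 = n197122 := d19_0 (iv5 D197122) (iv4 F245090) F245089 F166195 F340573 (iv4 D88359) F63089 (iv1 F62414) D88317 F135231 (iv3 F74822) F74825 (iv5 D41816) (iv4 F63532) D43243 F67766 D43274 D92492 D188570
theorem F403145 : act 0 n175313 = n142511 := d21_4 (iv5 F191403) (iv1 F313587) (iv5 F316068) D175313 (iv6 F403143) (iv5 D197122) F355514 F188514 (iv6 D83758) (iv1 F128710)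
def n197123 : Q := act 7 n107673
theorem D197123 : act 7 n107673 = n197123 := rfl
theorem F403146 : act 3 n197123 = n107680 := d8_1 D197123 (iv7 D107680) (iv3 F166300)
def n197124 : Q := act 3 n107674
theorem D197124 : act 3 n107674 = n197124 := rfl
theorem F403147 : act 5 n197124 = n130517 := d6_2 (iv5 F166301) D197124 (iv3 D130517)
theorem F403148 : act 6 n197124 = n175245 := d7_2 (iv6 F339217) D197124 F339751
theorem F403149 : act 7 n197124 = n197089 := d8_2 F166305 D197124 F403002
theorem F403150 : act 4 n197124 = n158963 := d20_6 F175185 (iv1 F403134) (iv4 D197119) F166299 D107674 D197124 (iv1 F391638) F391636 F200961 (iv1 F339812)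
theorem F403151 : act 0 n175373 = n130517 := d21_7 (iv5 D83694) (iv1 D38579) D38580 F59405 D38592 D83747 D175373 (iv5 F403147) F403148 (iv1 F274280)
def n197125 : Q := act 6 n107675
theorem D197125 : act 6 n107675 = n197125 := rfl
theorem F403152 : act 2 n197125 = n197091 := d3_1 D197125 (iv6 D197091) F166310
theorem F403153 : act 3 n197125 = n173647 := d7_1 D197125 F345563 F345573
theorem F403154 : act 4 n197125 = n130675 := d10_1 D197125 (iv6 D130675) (iv4 F166309)
theorem F403155 : act 7 n197125 = n175939 := d14_2 (iv7 F166307) D197125 (iv6 F342075) (iv7 F335508) F339216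
theorem F403156 : act 0 n197125 = n164283 := d21_4 (iv5 F329175) (iv1 F95695) (iv5 F166308) D197125 (iv6 D164283) (iv5 F338552) (iv1 F338562) F338565 (iv6 D108509) F329174
theorem F403157 : act 0 n173517 = n197125 := d21_4 F327795 (iv1 F127920) D83012 D173517 (iv6 D197125) F166308 F95694 D107599 F328859 (iv1 F327792)
def n197126 : Q := act 0 n107676
theorem D197126 : act 0 n107676 = n197126 := rfl
theorem F403158 : act 5 n197126 = n127706 := d17_3 F324237 (iv5 F331689) D197126 (iv4 D127706) (iv5 F101367) F180644 D66032 D140718 (iv4 F324240)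
theorem F403159 : act 4 n197126 = n135254 := d18_1 D197126 (iv1 F374010) F374006 F226286 (iv4 F225093) F225096 (iv4 F225407) (iv0 D142509) (iv5 F331689)
theorem F403160 : act 6 n197126 = n173498 := d21_5 (iv5 D52217) F45710 D49744 D107676 D197126 F338579 D184480 (iv5 F332315) (iv6 D107660) (iv1 F82561)
theorem F403161 : act 2 n175811 = n197126 := d15_3 (iv0 D197126) F362023 (iv7 F346413)
theorem F403162 : act 1 n142520 = n197126 := d15_0 (iv0 D197126) F331690 F227372
theorem F403163 : act 3 n197126 = n175313 := d0_2 (iv3 F275217) F403161 F365766 (iv3 D159884) (iv2 F327360)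
theorem F403164 : act 4 n175313 = n148793 := d5_2 (iv4 F403159) F403163 F392176 F392174 (iv3 F392175)
theorem F403165 : act 2 n148793 = n146898 := d1_1 F403164 (iv4 F252117) (iv2 F365766)
theorem F403166 : act 6 n148793 = n175311 := d10_2 D175313 F403164 (iv4 D175311)
theorem F403167 : act 7 n146897 = n148793 := d15_2 F233627 F233625 F403165
theorem F403168 : act 7 n148794 = n146898 := d15_2 (iv0 D148793) D148794 (iv2 F403165)
theorem F403169 : act 2 n146897 = n148794 := d4_3 F403168 (iv2 F403165) (iv7 F403167)
def n197127 : Q := act 3 n107677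
theorem D197127 : act 3 n107677 = n197127 := rfl
theorem F403170 : act 4 n197127 = n141996 := d5_2 (iv4 F166311) D197127 F225021 F102490 (iv3 F163552)
theorem F403171 : act 6 n197127 = n126903 := d7_2 F166478 D197127 (iv3 D126903)
def n197128 : Q := act 7 n107679
theorem D197128 : act 7 n107679 = n197128 := rfl
theorem F403172 : act 2 n197128 = n154601 := d4_1 D197128 F362039 (iv2 F331695)
theorem F403173 : act 4 n197128 = n120678 := d11_1 D197128 F322311 (iv4 F331696)
theorem F403174 : act 5 n197128 = n107680 := d13_1 D197128 (iv7 D107680) D107679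
theorem F403175 : act 1 n120682 = n197128 := d15_1 (iv0 F332299) (iv7 D197128) F331695
theorem F403176 : act 1 n197128 = n136742 := d15_1 F403175 F346275 F268251
def n197129 : Q := act 3 n107681
theorem D197129 : act 3 n107681 = n197129 := rfl
theorem F403177 : act 2 n197129 = n155884 := d0_1 D197129 (iv3 D155884) (iv2 F200084) (iv3 F319646) F167349
theorem F403178 : act 6 n197129 = n126911 := d7_2 (iv6 F166314) D197129 (iv3 D126911)
def n197130 : Q := act 5 n107693
theorem D197130 : act 5 n107693 = n197130 := rfl
theorem F403179 : act 3 n197130 = n194247 := d6_1 D197130 F392486 (iv3 F354954)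
theorem F403180 : act 6 n197130 = n107696 := d12_2 D107693 D197130 (iv5 D107696) (iv6 D49752) D49751
def n197131 : Q := act 5 n107694
theorem D197131 : act 5 n107694 = n197131 := rfl
theorem F403181 : act 2 n197131 = n126756 := d2_1 D197131 (iv5 F396868) (iv2 F396871)
theorem F403182 : act 3 n197131 = n136935 := d6_1 D197131 F362174 (iv3 F346510)
theorem F403183 : act 7 n197131 = n126757 := d13_2 F346511 D197131 (iv5 F346514)
theorem F403184 : act 0 n197131 = n126759 := d17_2 D107694 D197131 F203978 F93870 (iv5 F93881) (iv0 F101917) (iv5 F101920) (iv0 D49753) (iv4 F78618)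
theorem F403185 : act 1 n197131 = n126628 := d17_6 (iv1 D30287) D30288 D64303 (iv5 F169295) F175797 D197131 (iv5 D126628) (iv0 F111418) (iv4 D64301)
def n197132 : Q := act 5 n107695
theorem D197132 : act 5 n107695 = n197132 := rfl
theorem F403186 : act 2 n197132 = n126757 := d2_1 D197132 (iv5 F346514) F346513
theorem F403187 : act 3 n197132 = n126742 := d6_1 D197132 F392903 F392898
theorem F403188 : act 7 n197132 = n126756 := d13_2 F396872 D197132 (iv5 F396868)
theorem F403189 : act 0 n197132 = n126628 := d17_2 (iv1 F396885) D197132 (iv5 D126628) F93756 F45647 D49936 F93885 F162121 (iv4 F396882)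
theorem F403190 : act 1 n197132 = n126759 := d17_6 (iv1 F48710) (iv5 F100063) (iv1 F100129) (iv5 F100493) (iv4 F167749) D197132 F203978 F111383 (iv4 D64298)
theorem F403191 : act 0 n197130 = n193421 := d21_4 (iv5 D197132) (iv1 D107695) D107696 (iv6 F403180) (iv6 D193421) F156541 (iv1 F156532) D193406 F389746 (iv1 F403190)
def n197133 : Q := act 4 n107696
theorem D197133 : act 4 n107696 = n197133 := rfl
theorem F403192 : act 2 n197133 = n155789 := d1_1 D197133 (iv4 F396879) F396874
theorem F403193 : act 3 n197133 = n192418 := d5_1 D197133 (iv4 D192418) F154117 D103044 F336624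
theorem F403194 : act 7 n197133 = n155790 := d11_2 (iv7 F354579) D197133 (iv4 F328604)
theorem F403195 : act 0 n197133 = n120063 := d18_2 F203974 D197133 (iv4 D120063) F323699 (iv4 D53872) D53870 F329499 (iv0 F329607) D126752
theorem F403196 : act 1 n197133 = n155787 := d18_6 (iv1 F189628) F321638 (iv1 D49754) (iv4 F78618) D107696 D197133 (iv4 D155787) F189643 F338748
def n197134 : Q := act 5 n107702
theorem D197134 : act 5 n107702 = n197134 := rfl
theorem F403197 : act 3 n197134 = n194177 := d6_1 D197134 (iv5 F392265) (iv3 F355494)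
theorem F403198 : act 6 n197134 = n170592 := d12_2 (iv6 F355420) D197134 F337898 F355501 (iv5 D126927)
theorem F403199 : act 7 n197134 = n147894 := d13_2 (iv7 F355496) D197134 F354255
theorem F403200 : act 0 n197134 = n107737 := d17_2 (iv1 F350217) D197134 F166373 F95702 D61261 D130573 F355413 (iv0 F331334) (iv4 F350216)
theorem F403201 : act 4 n197134 = n147034 := d17_4 (iv1 F230408) D147286 (iv1 F350217) D197134 F311834 (iv0 F313101) (iv5 D69055) (iv0 F190185) D146996
def n197135 : Q := act 3 n107711
theorem D197135 : act 3 n107711 = n197135 := rfl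
theorem F403202 : act 5 n197135 = n128173 := d6_2 F344860 D197135 F353928
theorem F403203 : act 6 n197135 = n126953 := d7_2 (iv6 F346582) D197135 (iv3 D126953)
theorem F403204 : act 4 n197135 = n111152 := d20_6 F82563 (iv1 F40093) F38319 D49759 D107711 D197135 (iv1 D111152) (iv4 F166013) (iv3 D107601) (iv1 F82565)
theorem F403205 : act 0 n189177 = n197135 := d18_2 (iv1 F361443) (iv4 F375965) F403204 F336362 (iv4 F345976) F336346 (iv4 F348682) (iv0 F360537) (iv5 D179158)
def n197136 : Q := act 1 n107716
theorem D197136 : act 1 n107716 = n197136 := rfl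
theorem F403206 : act 1 n197136 = n188567 := d15_1 D197136 F374001 F353772
theorem F403207 : act 7 n197136 = n152183 := d15_2 (iv0 F364168) D197136 (iv2 F239556)
theorem F403208 : act 4 n197136 = n152186 := d18_7 F371831 (iv4 D185052) (iv1 D88204) (iv4 F135138) F321885 (iv4 F166356) D197136 F363828 (iv5 F371828)
theorem F403209 : act 3 n126707 = n197136 := d20_3 F331696 (iv1 F322306) (iv4 F337678) (iv1 D197136) F344840 (iv4 F344838) (iv1 F330899) F195631 (iv3 F268252) (iv1 F346276)
theorem F403210 : act 5 n197136 = n126703 := d6_2 D126707 F403209 F203904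
def n197137 : Q := act 5 n107716
theorem D197137 : act 5 n107716 = n197137 := rfl
theorem F403211 : act 2 n197137 = n155781 := d2_1 D197137 (iv5 F353774) F353772
theorem F403212 : act 3 n197137 = n162582 := d6_1 D197137 (iv5 D162582) (iv3 F344840)
theorem F403213 : act 6 n197137 = n107717 := d12_2 D107716 D197137 (iv5 D107717) (iv6 D49761) D49760
theorem F403214 : act 7 n197137 = n179229 := d13_2 (iv7 F354966) D197137 F355108
theorem F403215 : act 1 n155884 = n179229 := d15_1 (iv0 F353769) (iv7 F403214) F403211
theorem F403216 : act 0 n197137 = n148659 := d21_4 F110867 F321637 D107717 (iv6 F403213) F366114 (iv5 D119856) D119854 (iv5 F332035) F286245 (iv1 F331308)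
def n197138 : Q := act 4 n107717
theorem D197138 : act 4 n107717 = n197138 := rfl
theorem F403217 : act 2 n197138 = n155779 := d1_1 D197138 (iv4 D155779) (iv2 F325771)
theorem F403218 : act 7 n197138 = n155784 := d11_2 (iv7 F325772) D197138 (iv4 D155784)
def n197139 : Q := act 4 n107737
theorem D197139 : act 4 n107737 = n197139 := rfl
theorem F403219 : act 2 n197139 = n148501 := d1_1 D197139 (iv4 F335863) (iv2 F327106)
theorem F403220 : act 3 n197139 = n164234 := d5_1 D197139 F258865 F120078 (iv4 F326284) D107737
theorem F403221 : act 6 n197139 = n147566 := d10_2 (iv6 F327107) D197139 (iv4 D147566)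
theorem F403222 : act 5 n197139 = n148494 := d16_3 (iv4 F95702) (iv5 F166373) D197139 F313179 D159593 (iv4 F364333) (iv5 D133364) F97604 (iv2 D61260)
theorem F403223 : act 0 n197139 = n140786 := d17_0 (iv5 D140786) (iv1 F335052) F315568 (iv4 F230409) D147286 F355471 D179278 (iv0 F355476) D197139
theorem F403224 : act 1 n197139 = n170481 := d18_6 (iv1 F200788) F323572 (iv1 D61259) (iv4 F95702) (iv5 F166373) D197139 (iv4 F350201) F355414 (iv5 D178931)
def n197140 : Q := act 7 n107742
theorem D197140 : act 7 n107742 = n197140 := rfl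
theorem F403225 : act 2 n197140 = n191326 := d4_1 D197140 F383061 F179445
theorem F403226 : act 3 n197140 = n127739 := d8_1 D197140 (iv7 F315077) F338536
theorem F403227 : act 4 n197140 = n107745 := d11_1 D197140 (iv7 D107745) (iv4 F166377)
theorem F403228 : act 5 n197140 = n148695 := d13_1 D197140 F315077 F338537
theorem F403229 : act 6 n197140 = n115160 := d14_1 D197140 (iv7 D115160) (iv6 D53135) F78627 D107742
theorem F403230 : act 1 n121340 = n197140 := d15_1 (iv0 F338533) (iv7 D197140) (iv2 F179445)
def n197141 : Q := act 4 n107743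
theorem D197141 : act 4 n107743 = n197141 := rfl
theorem F403231 : act 2 n197141 = n164337 := d1_1 D197141 F346132 F347679
theorem F403232 : act 3 n197141 = n170543 := d5_1 D197141 F354306 F199147 D124511 F356285
theorem F403233 : act 7 n197141 = n164342 := d11_2 F402948 D197141 (iv4 F402949)
theorem F403234 : act 5 n197141 = n128455 := d17_5 (iv1 F334120) F334123 D129265 F338703 D197141 F316645 F106104 D78911 (iv4 F337846)
theorem F403235 : act 1 n197141 = n130696 := d18_8 F184632 F104088 (iv1 F155256) D105849 (iv5 F383059) F383058 F338702 D197141 F326630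
def n197142 : Q := act 3 n107744
theorem D197142 : act 3 n107744 = n197142 := rfl
theorem F403236 : act 2 n197142 = n167576 := d0_1 D197142 (iv3 F361188) F348855 F402950 F402952
theorem F403237 : act 5 n197142 = n180747 := d6_2 (iv5 F352074) D197142 F365713
theorem F403238 : act 6 n197142 = n160730 := d7_2 F352072 D197142 F359836
def n197143 : Q := act 1 n107746
theorem D197143 : act 1 n107746 = n197143 := rfl
theorem F403239 : act 1 n197143 = n166533 := d15_1 D197143 F335979 F179437
theorem F403240 : act 7 n197143 = n164144 := d15_2 (iv0 F336476) D197143 (iv2 F336471)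
theorem F403241 : act 5 n197143 = n121720 := d17_7 F369709 (iv5 F369788) F395260 (iv5 D194974) F352053 (iv5 F335977) D197143 F194281 D166408
theorem F403242 : act 4 n197143 = n187487 := d17_9 F370540 F214663 F359184 F176797 (iv4 F177570) (iv5 F340174) (iv0 D124643) (iv5 F335977) D197143
theorem F403243 : act 2 n166401 = n197143 := d1_3 F403242 F370537 (iv4 F340162)
theorem F403244 : act 6 n187486 = n197143 := d10_0 F403242 (iv6 D187487) D187486
def n197144 : Q := act 3 n107747
theorem D197144 : act 3 n107747 = n197144 := rfl
theorem F403245 : act 4 n197144 = n143994 := d5_2 F166383 D197144 (iv3 D143994) (iv4 F168205) F168204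
theorem F403246 : act 5 n197144 = n177525 := d6_2 (iv5 F338793) D197144 (iv3 D177525)
theorem F403247 : act 6 n197144 = n155134 := d7_2 (iv6 F360154) D197144 (iv3 D155134)
theorem F403248 : act 7 n197144 = n127059 := d8_2 (iv7 F166382) D197144 (iv3 D127059)
theorem F403249 : act 0 n197144 = n126923 := d20_4 F166296 (iv1 F100072) F166383 D197144 (iv3 F351380) F351381 F354528 F245590 (iv3 D127070) F166298
def n197145 : Q := act 3 n107751
theorem D197145 : act 3 n107751 = n197145 := rfl
theorem F403250 : act 4 n197145 = n115714 := d5_2 D107751 D197145 (iv3 D115714) (iv4 F166386) (iv3 D107750)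
theorem F403251 : act 7 n197145 = n127070 := d8_2 (iv7 F171931) D197145 (iv3 D127070)
theorem F403252 : act 0 n197145 = n126830 := d19_4 F112195 F103659 D107751 D197145 F351470 F258128 (iv3 F258115) F344879 (iv5 D157619) (iv4 D75041) (iv3 D34374) (iv1 F52723) (iv5 F108936) F209851 (iv3 D61828) (iv1 F47884) (iv5 F52106) F316503 (iv3 F112192)
theorem F403253 : act 5 n152877 = n115714 := d19_1 D152877 (iv4 F403250) (iv3 D197145) F166387 (iv5 F351045) F351044 F351041 (iv1 F169688) (iv5 F169731) F361567 F172316 D111121 F172329 (iv4 D107415) (iv3 F165671) F111556 F111225 (iv4 F179657) F321403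
theorem F403254 : act 3 n115657 = n152877 := d6_3 F403253 (iv3 D115714) (iv5 F339865)
theorem F403255 : act 6 n152877 = n115655 := d7_2 D115657 F403254 (iv3 D115655)
theorem F403256 : act 5 n131551 = n197145 := d17_1 F357679 F403252 F351470 F258128 (iv5 F330710) (iv0 D119371) D119372 (iv0 F188034) D174136
def n197146 : Q := act 5 n107751
theorem D197146 : act 5 n107751 = n197146 := rfl
theorem F403257 : act 2 n197146 = n127077 := d2_1 D197146 (iv5 D127077) F171932
theorem F403258 : act 3 n197146 = n131551 := d6_1 D197146 F403256 (iv3 D197145)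
theorem F403259 : act 7 n197146 = n127071 := d13_2 (iv7 F171931) D197146 (iv5 D127071)
theorem F403260 : act 4 n197146 = n174209 := d16_6 (iv4 F349864) (iv5 F349865) F227096 F103659 D107751 D197146 F353243 F353270 F349860
theorem F403261 : act 6 n131550 = n197146 := d14_5 F403259 (iv6 F353247) (iv7 D173411) (iv6 F307278) (iv7 F210801)
def n197147 : Q := act 6 n107751
theorem D197147 : act 6 n107751 = n197147 := rfl
theorem F403262 : act 2 n197147 = n126343 := d3_1 D197147 F203155 F171932
theorem F403263 : act 4 n197147 = n107752 := d10_1 D197147 (iv6 D107752) D107751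
theorem F403264 : act 5 n197147 = n119393 := d12_1 D197147 F309187 (iv5 F210800) F403261 (iv5 D197146)
theorem F403265 : act 7 n197147 = n126337 := d14_2 (iv7 F171931) D197147 (iv6 F207859) F207860 (iv6 D127072)
theorem F403266 : act 1 n155148 = n197147 := d15_1 (iv0 F347051) F403265 (iv2 F343950)
theorem F403267 : act 1 n197147 = n126902 := d15_1 F403266 (iv7 F343945) (iv2 F347069)
def n197148 : Q := act 4 n107756
theorem D197148 : act 4 n107756 = n197148 := rfl
theorem F403268 : act 2 n197148 = n127074 := d1_1 D197148 (iv4 D127074) (iv2 F171856)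
theorem F403269 : act 5 n197148 = n147676 := d9_2 D107756 D197148 F334021 (iv5 F353243) (iv4 F403260) (iv5 D197146) (iv4 D107751) (iv5 F103659) (iv4 F227096) F349865 F349864 (iv5 F338789) (iv4 F272998) (iv5 F349866) (iv4 D107755)
theorem F403270 : act 6 n197148 = n197086 := d10_2 (iv6 F166391) D197148 (iv4 D197086)
theorem F403271 : act 7 n197148 = n127078 := d11_2 (iv7 F171854) D197148 (iv4 D127078)
theorem F403272 : act 0 n197148 = n197100 := d18_2 F182647 D197148 F403041 F219446 (iv4 F203977) (iv0 F396887) (iv4 D127078) F204309 F204306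
theorem F403273 : act 1 n197148 = n136775 := d18_6 F163982 (iv4 F93940) F171830 (iv4 D107755) D107756 D197148 F219982 (iv0 F219285) (iv5 D136251)
theorem F403274 : act 3 n147722 = n197148 := d20_5 (iv4 F309331) (iv1 D33980) (iv4 F53322) (iv3 F110784) (iv1 F333977) (iv4 D197148) F166392 (iv4 F323020) (iv3 D121105) (iv1 F88387)
def n197149 : Q := act 5 n107758
theorem D197149 : act 5 n107758 = n197149 := rfl
theorem F403275 : act 3 n197149 = n107760 := d6_1 D197149 (iv5 D107760) D107758
theorem F403276 : act 7 n197149 = n125939 := d13_2 F171630 D197149 F202428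
theorem F403277 : act 0 n197149 = n144359 := d17_2 F166497 D197149 (iv5 D144359) (iv4 F168890) (iv5 F349416) (iv0 F349421) (iv5 D138643) F172392 F101611
theorem F403278 : act 0 n125702 = n197149 := d21_10 (iv5 D197149) F172409 (iv5 D65911) D65912 (iv1 F168853) F175105 (iv5 F204129) F204130 F171935 D125702
def n197150 : Q := act 3 n107759
theorem D197150 : act 3 n107759 = n197150 := rfl
theorem F403279 : act 6 n197150 = n195916 := d7_2 (iv6 F166494) D197150 (iv3 D195916)
theorem F403280 : act 7 n197150 = n196433 := d8_2 (iv7 F166495) D197150 (iv3 D196433)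
def n197151 : Q := act 5 n107759
theorem D197151 : act 5 n107759 = n197151 := rfl
theorem F403281 : act 2 n197151 = n196432 := d2_1 D197151 (iv5 D196432) F166501
theorem F403282 : act 7 n197151 = n196434 := d13_2 (iv7 F166495) D197151 (iv5 D196434)
theorem F403283 : act 0 n197151 = n145321 := d17_2 (iv1 F166511) D197151 (iv5 D145321) F104292 (iv5 F161157) (iv0 F246276) (iv5 D156597) (iv0 F163597) (iv4 F92841)
theorem F403284 : act 1 n197151 = n145319 := d17_6 (iv1 F100152) (iv5 F100156) F166506 (iv5 D107760) D107759 D197151 (iv5 D145319) (iv0 D68133) F50030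
def n197152 : Q := act 4 n107760
theorem D197152 : act 4 n107760 = n197152 := rfl
theorem F403285 : act 2 n197152 = n128932 := d1_1 D197152 (iv4 F352198) F171992
theorem F403286 : act 7 n197152 = n125942 := d11_2 (iv7 F166504) D197152 F202435
theorem F403287 : act 5 n197152 = n128921 := d17_5 (iv1 F40270) F39719 D49775 D107760 D197152 F352194 (iv5 D125610) F92991 F82852
theorem F403288 : act 0 n197152 = n195064 := d17_0 F395625 (iv1 D113665) (iv5 D52480) F40266 (iv5 F24585) D31723 D68138 (iv0 F166505) D197152
theorem F403289 : act 1 n197152 = n125740 := d18_6 (iv1 D106405) (iv4 F92841) (iv1 F166511) (iv4 D107759) D107760 D197152 F202232 (iv0 F165043) F163603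
theorem E103678 : n128914 = n128617 := (c21_4 (iv5 F164271) (iv1 F399312) (iv5 D196072) F399210 (iv1 F206896) D128921 (iv5 F403287) F403288 F395625 F363270 (iv1 D106675))
theorem F403290 : act 2 n128617 = n60629 := (sb E103678 F207144)
theorem F403291 : act 6 n128617 = n106620 := (sb E103678 (iv6 F399210))
theorem F403292 : act 7 n128617 = n60628 := (sb E103678 (iv7 D128914))
theorem E103679 : n128909 = n128618 := (c15_4 F206900 F206896 F403292 D128909)
theorem F403293 : act 2 n128618 = n60628 := (sb E103679 (iv2 D128909))
theorem F403294 : act 7 n128618 = n60629 := (sb E103679 (iv7 F207142))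
theorem F403295 : act 6 n128667 = n196124 := d21_3 D128920 (iv1 F395673) F395753 (iv1 D196124) (iv6 D106677) (iv5 F164271) (iv1 F399312) (iv5 D196072) (iv6 F403291) (iv1 F206896)
def n197153 : Q := act 3 n107762
theorem D197153 : act 3 n107762 = n197153 := rfl
theorem F403296 : act 7 n197153 = n196431 := d8_2 (iv7 F166508) D197153 (iv3 D196431)
def n197154 : Q := act 5 n107762
theorem D197154 : act 5 n107762 = n197154 := rfl
theorem F403297 : act 2 n197154 = n196434 := d2_1 D197154 (iv5 D196434) (iv2 F166507)
theorem F403298 : act 7 n197154 = n196432 := d13_2 (iv7 F166508) D197154 (iv5 D196432)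
theorem F403299 : act 0 n197154 = n145319 := d17_2 (iv1 F166510) D197154 (iv5 D145319) F165715 D107067 (iv0 F165043) F163603 F163601 (iv4 F164893)
theorem F403300 : act 1 n197154 = n145321 := d17_6 (iv1 F78374) D68138 F104297 F93418 D107762 D197154 (iv5 D145321) F165726 F165724
def n197155 : Q := act 5 n107763
theorem D197155 : act 5 n107763 = n197155 := rfl
def n197156 : Q := act 2 n107848
theorem D197156 : act 2 n107848 = n197156 := rfl
theorem F403301 : act 3 n197156 = n148464 := d0_2 D107848 D197156 (iv2 F309730) (iv3 D108293) (iv2 F200110)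
theorem F403302 : act 4 n197156 = n153661 := d1_2 (iv4 F312649) D197156 (iv2 F242038)
theorem F403303 : act 5 n197156 = n149416 := d2_2 (iv5 F312650) D197156 (iv2 F234969)
theorem F403304 : act 6 n197156 = n184828 := d3_2 (iv6 F312651) D197156 (iv2 F338003)
theorem F403305 : act 7 n197156 = n153656 := d4_2 (iv7 F200165) D197156 (iv2 F310504)
theorem F403306 : act 1 n156402 = n197156 := d15_1 (iv0 F339620) F403305 (iv2 F310504)
def n197157 : Q := act 0 n107869
theorem D197157 : act 0 n107869 = n197157 := rfl
theorem F403307 : act 3 n197157 = n118711 := d20_5 (iv4 F305282) D55126 (iv4 F307316) D107869 D197157 F186731 (iv1 F339032) F339033 (iv3 D108369) (iv1 D50040)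
theorem F403308 : act 5 n197157 = n119617 := d21_2 (iv5 F316175) D197157 F188661 (iv1 F108335) F313700 F220200 (iv1 D55295) F42834 D34228 D74690
theorem F403309 : act 6 n197157 = n118478 := d21_5 F322334 (iv1 F322333) (iv5 F222977) (iv6 F348134) D197157 F186358 (iv1 F86236) D54580 D118520 (iv1 F189775)
theorem F403310 : act 2 n118531 = n197157 := d15_3 (iv0 D197157) F208018 (iv7 F186436)
theorem F403311 : act 1 n118574 = n197157 := d15_0 (iv0 D197157) (iv7 F189568) (iv2 F209897)
theorem F403312 : act 7 n197157 = n118486 := d15_2 D118574 F403311 F186383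
def n197158 : Q := act 4 n107869
theorem D197158 : act 4 n107869 = n197158 := rfl
theorem F403313 : act 2 n197158 = n132342 := d1_1 D197158 (iv4 F345697) F345696
theorem F403314 : act 3 n197158 = n113170 := d5_1 D197158 F315493 F130926 (iv4 F307316) D107869
theorem F403315 : act 6 n197158 = n172502 := d10_2 (iv6 F348134) D197158 F363407
theorem F403316 : act 7 n197158 = n132325 := d11_2 F189568 D197158 F212243
theorem F403317 : act 5 n197158 = n113168 := d16_7 F88203 F323132 (iv4 F170808) (iv5 F351454) (iv4 D157096) (iv5 F316175) D197158 F320948 (iv2 D120924)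
theorem F403318 : act 0 n197158 = n127868 := d17_0 (iv5 F330744) F330741 F316538 F123345 (iv5 F309666) F188663 (iv5 F403308) (iv0 D197157) D197158
theorem F403319 : act 0 n120146 = n197158 := d20_1 F234285 (iv4 D197158) (iv3 D107869) F307315 D70528 (iv4 F297893) D87880 D184242 F351936 F351935
def n197159 : Q := act 6 n107877
theorem D197159 : act 6 n107877 = n197159 := rfl
theorem F403320 : act 2 n197159 = n157402 := d3_1 D197159 (iv6 D157402) F166674
theorem F403321 : act 3 n197159 = n179819 := d7_1 D197159 F344109 F337634
theorem F403322 : act 4 n197159 = n127853 := d10_1 D197159 (iv6 D127853) (iv4 F166673)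
theorem F403323 : act 7 n197159 = n186634 := d14_2 (iv7 F166672) D197159 (iv6 D186634) F272717 F321532
theorem F403324 : act 0 n197159 = n157673 := d21_4 D54844 (iv1 F357928) F357930 D197159 (iv6 D157673) D157672 (iv1 F362498) F362499 (iv6 D119175) (iv1 D54842)
theorem F403325 : act 1 n197159 = n179752 := d15_1 (iv0 F403324) F361466 (iv2 F248446)
def n197160 : Q := act 4 n107878
theorem D197160 : act 4 n107878 = n197160 := rfl
theorem F403326 : act 2 n197160 = n157393 := d1_1 D197160 F247870 F210052
theorem F403327 : act 5 n197160 = n130859 := d9_2 D107878 D197160 (iv4 D130859) (iv5 D61396) (iv4 D29064) D29065 D61398 D130862 (iv4 F398975) (iv5 D195987) (iv4 D106498) (iv5 D49213) F37550 D24291 D49822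
theorem F403328 : act 7 n197160 = n157403 := d11_2 (iv7 F166675) D197160 (iv4 D157403)
theorem F403329 : act 0 n197160 = n130871 := d17_0 F209468 F192342 D196011 F399054 F187535 (iv0 F307752) D192631 F387280 D197160
theorem F403330 : act 1 n197160 = n130618 := d18_6 (iv1 F97873) (iv4 D54837) F42471 D49822 D107878 D197160 F209196 F209465 F209464
theorem F403331 : act 3 n187566 = n197160 := d8_3 F403328 (iv3 F345022) D187566
theorem F403332 : act 6 n152394 = n197160 := d14_5 F403328 (iv6 F333557) F138965 D90812 (iv7 F239581)
def n197161 : Q := act 6 n107878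
theorem D197161 : act 6 n107878 = n197161 := rfl
theorem F403333 : act 3 n197161 = n153367 := d7_1 D197161 F240937 F315788
theorem F403334 : act 4 n197161 = n152394 := d10_1 D197161 F403332 (iv4 D197160)
theorem F403335 : act 5 n197161 = n153364 := d12_1 D197161 (iv6 D153364) F108987 F311641 D107878
theorem F403336 : act 7 n197161 = n188107 := d14_2 (iv7 F166675) D197161 (iv6 D188107) F364669 (iv6 D157404)
theorem F403337 : act 0 n197161 = n152236 := d21_4 F357930 (iv1 D107877) D107878 D197161 F239296 (iv5 F323338) (iv1 F140416) D99945 F364670 (iv1 F357928)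
def n197162 : Q := act 6 n107896
theorem D197162 : act 6 n107896 = n197162 := rfl
theorem F403338 : act 2 n197162 = n159992 := d3_1 D197162 (iv6 D159992) (iv2 F166723)
theorem F403339 : act 3 n197162 = n107898 := d7_1 D197162 (iv6 D107898) (iv3 F166724)
theorem F403340 : act 5 n197162 = n146320 := d12_1 D197162 (iv6 D146320) F104817 (iv6 F94190) D107896
theorem F403341 : act 7 n197162 = n151697 := d14_2 (iv7 F166725) D197162 (iv6 D151697) (iv7 F238202) F334833
theorem F403342 : act 0 n135518 = n197162 := d21_1 D135518 F403340 (iv6 D146320) (iv1 F104818) D68633 F104831 D71365 D151401 F364325 (iv1 D135517)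
def n197163 : Q := act 3 n107897
theorem D197163 : act 3 n107897 = n197163 := rfl
theorem F403343 : act 4 n197163 = n152452 := d5_2 D107897 D197163 (iv3 F340668) F215213 F166724
theorem F403344 : act 7 n197163 = n152451 := d8_2 F238542 D197163 F364516
theorem F403345 : act 6 n190416 = n197163 := d10_0 F403343 (iv6 F345011) (iv4 F379724)
theorem F403346 : act 6 n107897 = n189686 := d7_2 F403345 (iv3 D197163) F379726
theorem F403347 : act 4 n189686 = n107898 := d10_1 F403346 (iv6 D107898) D107897
theorem F403348 : act 0 n107898 = n190456 := d20_7 (iv4 D21337) D21335 D44806 D96021 D190416 (iv3 F379726) F403347 (iv4 D190456) (iv3 D96039) (iv1 D44812)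
def n197164 : Q := act 1 n107898
theorem D197164 : act 1 n107898 = n197164 := rfl
def n197165 : Q := act 5 n107898
theorem D197165 : act 5 n107898 = n197165 := rfl
theorem F403349 : act 2 n197165 = n144854 := d2_1 D197165 (iv5 F399641) F399639
theorem F403350 : act 3 n197165 = n146320 := d6_1 D197165 (iv5 F403340) F403339
theorem F403351 : act 6 n197165 = n107900 := d12_2 D107898 D197165 (iv5 D107900) (iv6 D49836) D49835
theorem F403352 : act 4 n197165 = n186674 := d16_4 D94336 D189686 F403347 D197165 (iv5 F367626) F148532 D102901 F331371 (iv2 D94335)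
theorem F403353 : act 7 n197165 = n186684 := d16_8 (iv4 D183494) F293619 F70076 (iv5 F292544) D94336 D189686 F403347 D197165 F367666
theorem F403354 : act 5 n135753 = n197164 := d17_1 (iv1 F391774) (iv1 D197164) D197165 F403352 (iv5 F367626) F293580 (iv5 F157822) F157824 D186681
theorem F403355 : act 3 n135760 = n197164 := d19_19 (iv1 D197164) D197165 F403352 F367628 F378884 (iv5 D190113) (iv4 F149885) F149884 (iv1 F293676) (iv5 F288984) (iv4 D186203) (iv3 F288978) (iv1 F377087) (iv5 D189604) (iv4 D94132) D94131 F151943 D191575 F383888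
theorem F403356 : act 0 n197165 = n188748 := d21_7 F367105 (iv1 F293117) (iv5 F108129) (iv6 D71639) (iv1 F78797) D107898 D197165 F374694 (iv6 D186142) D186139
theorem F403357 : act 6 n197164 = n135756 := d7_2 (iv6 F218296) F403355 F218291
def n197166 : Q := act 7 n107898
theorem D197166 : act 7 n107898 = n197166 := rfl
theorem F403358 : act 3 n197166 = n151697 := d8_1 D197166 (iv7 F403341) F403339
theorem F403359 : act 4 n197166 = n194184 := d11_1 D197166 F392297 F403347
theorem F403360 : act 5 n197166 = n186684 := d13_1 D197166 (iv7 F403353) (iv5 D197165)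
theorem F403361 : act 6 n151695 = n197166 := d7_0 F403358 (iv6 D151697) D151695
def n197167 : Q := act 6 n107899
theorem D197167 : act 6 n107899 = n197167 := rfl
theorem F403362 : act 2 n197167 = n107916 := d3_1 D197167 (iv6 D107916) (iv2 F166727)
theorem F403363 : act 3 n197167 = n151451 := d7_1 D197167 F334833 (iv3 F166728)
theorem F403364 : act 4 n197167 = n195962 := d10_1 D197167 F398872 F238543
theorem F403365 : act 5 n197167 = n151347 := d12_1 D197167 (iv6 D151347) (iv5 F115156) F115154 (iv5 F166729)
theorem F403366 : act 7 n197167 = n151695 := d14_2 D107899 D197167 F403361 (iv7 D197166) (iv6 D107898)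
def n197168 : Q := act 5 n107903
theorem D197168 : act 5 n107903 = n197168 := rfl
theorem F403367 : act 3 n197168 = n107904 := d6_1 D197168 (iv5 D107904) D107903
theorem F403368 : act 6 n197168 = n186441 := d12_2 (iv6 F305766) D197168 (iv5 D186441) (iv6 D88797) (iv5 F128824)
theorem F403369 : act 4 n197168 = n129876 := d16_2 F210625 D197168 (iv5 D129876) (iv4 D61007) (iv5 F207693) F312038 (iv5 F312039) (iv7 F342003) (iv2 F342004)
theorem F403370 : act 0 n197168 = n129472 := d17_2 (iv1 F308285) D197168 F355255 (iv4 F235638) F355256 (iv0 F212240) F207743 (iv0 F305764) (iv4 F132948)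
theorem F403371 : act 6 n129876 = n191866 := d10_2 (iv6 F403368) F403369 (iv4 F384614)
def n197169 : Q := act 6 n107911
theorem D197169 : act 6 n107911 = n197169 := rfl
theorem F403372 : act 2 n197169 = n127853 := d3_1 D197169 (iv6 D127853) F166751
theorem F403373 : act 3 n197169 = n131353 := d7_1 D197169 (iv6 D131353) (iv3 F166754)
theorem F403374 : act 4 n197169 = n157402 := d10_1 D197169 (iv6 D157402) (iv4 F166750)
theorem F403375 : act 5 n197169 = n149257 := d12_1 D197169 (iv6 D149257) F106449 F105047 (iv5 F166749)
theorem F403376 : act 0 n197169 = n131258 := d21_4 (iv5 D52883) D52882 (iv5 F166749) D197169 F236173 (iv5 D150080) (iv1 D70616) (iv5 F96308) (iv6 D61708) (iv1 F83564)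
def n197170 : Q := act 1 n107912
theorem D197170 : act 1 n107912 = n197170 := rfl
theorem F403377 : act 1 n197170 = n123507 := d15_1 D197170 (iv7 F348269) F215319
theorem F403378 : act 7 n197170 = n145269 := d15_2 (iv0 F348282) D197170 (iv2 F348271)
theorem F403379 : act 5 n197170 = n139978 := d18_9 (iv1 D139978) (iv4 F223200) F362577 F278460 F307601 (iv4 F132706) (iv0 F348260) F215095 D197170
theorem F403380 : act 3 n131272 = n197170 := d20_3 (iv4 F86759) D119130 (iv4 F350915) (iv1 D197170) F166755 (iv4 F166779) (iv1 F348289) F304747 F302280 (iv1 D81439)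
theorem F403381 : act 6 n191510 = n197170 := d21_3 (iv5 D101291) D101289 (iv5 F383619) (iv1 D197170) (iv6 D107912) (iv5 D49843) (iv1 F56577) (iv5 F94574) D127857 (iv1 F309064)
theorem F403382 : act 4 n197170 = n149111 := d10_1 F403381 F312628 (iv4 F383618)
def n197171 : Q := act 5 n107912
theorem D197171 : act 5 n107912 = n197171 := rfl
theorem F403383 : act 2 n197171 = n128370 := d2_1 D197171 (iv5 F215322) F215319
theorem F403384 : act 3 n197171 = n107924 := d6_1 D197171 (iv5 D107924) (iv3 F166755)
theorem F403385 : act 6 n197171 = n107914 := d12_2 D107912 D197171 (iv5 D107914) (iv6 D49844) D49843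
theorem F403386 : act 7 n197171 = n141537 := d13_2 F361518 D197171 F349464
theorem F403387 : act 4 n119630 = n197171 := d10_3 F403385 F166767 D119630
def n197172 : Q := act 3 n107915
theorem D197172 : act 3 n107915 = n197172 := rfl
def n197173 : Q := act 6 n107915
theorem D197173 : act 6 n107915 = n197173 := rfl
theorem F403388 : act 2 n197173 = n195962 := d3_1 D197173 F398872 (iv2 F238544)
theorem F403389 : act 4 n197173 = n107916 := d10_1 D197173 (iv6 D107916) D107915
theorem F403390 : act 0 n197173 = n195964 := d21_4 (iv5 F166827) (iv1 F402789) F402790 D197173 F398879 (iv5 F334859) F321492 D145005 F341588 (iv1 F165944)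
theorem F403391 : act 0 n131299 = n197173 := d21_4 (iv5 D62765) F47720 D61618 D131299 (iv6 D197173) (iv5 F402790) (iv1 D197040) (iv5 D107555) F321187 (iv1 F97931)
theorem F403392 : act 3 n114424 = n197173 := d20_3 (iv4 F82443) D112996 F365008 F403390 F398876 (iv4 F211657) (iv1 F382363) F382358 (iv3 F364989) (iv1 D112958)
theorem F403393 : act 6 n197172 = n114424 := d7_0 F403392 (iv6 D197173) D197172
theorem F403394 : act 7 n197173 = n195963 := d8_2 F365005 F403392 (iv3 F398874)
theorem F403395 : act 5 n159353 = n197172 := d21_2 F209181 (iv1 F250870) F403393 (iv1 F214526) F214523 F161754 (iv1 F76744) D52797 D114408 (iv1 F210029)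
theorem F403396 : act 3 n197040 = n159353 := d6_3 F403395 (iv3 D197172) (iv5 F402790)
def n197174 : Q := act 0 n107916
theorem D197174 : act 0 n107916 = n197174 := rfl
def n197175 : Q := act 1 n107916
theorem D197175 : act 1 n107916 = n197175 := rfl
theorem F403397 : act 1 n197175 = n151695 := d15_1 D197175 (iv7 F403366) F403362
theorem F403398 : act 4 n131287 = n197175 := d20_6 F214521 (iv1 F176238) F351258 (iv3 F356941) F363605 (iv3 F210414) (iv1 D197175) (iv4 F403389) (iv3 F403392) (iv1 F214526)
theorem F403399 : act 6 n131286 = n197175 := d21_3 F215190 F312192 (iv5 F335871) (iv1 D197175) (iv6 D107916) (iv5 D49845) (iv1 F78785) D107895 (iv6 F334829) (iv1 F215192)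
theorem F403400 : act 3 n197175 = n192804 := d7_1 F403399 F387838 (iv3 F355119)
theorem F403401 : act 5 n197175 = n147971 := d12_1 F403399 (iv6 D147971) F105599 (iv6 F107256) (iv5 F335871)
def n197176 : Q := act 5 n107916
theorem D197176 : act 5 n107916 = n197176 := rfl
theorem F403402 : act 2 n197176 = n151347 := d2_1 D197176 (iv5 F403365) F403362
theorem F403403 : act 6 n197176 = n107918 := d12_2 D107916 D197176 (iv5 D107918) (iv6 D49846) D49845
def n197177 : Q := act 7 n107916
theorem D197177 : act 7 n107916 = n197177 := rfl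
theorem F403404 : act 2 n197177 = n151695 := d4_1 D197177 (iv7 F403366) F403362
theorem F403405 : act 4 n197177 = n195963 := d11_1 D197177 (iv7 F403394) F403389
theorem F403406 : act 1 n151695 = n197174 := d15_0 (iv0 D197174) D197177 F403404
def n197178 : Q := act 2 n107919
theorem D197178 : act 2 n107919 = n197178 := rfl
theorem F403407 : act 3 n197178 = n133677 := d0_2 D107919 D197178 F342006 (iv3 F342008) F166742
theorem F403408 : act 7 n197178 = n154062 := d4_2 (iv7 F354645) D197178 F242110
theorem F403409 : act 1 n197178 = n191746 := d15_0 (iv0 F384334) (iv7 F354645) D197178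
theorem F403410 : act 1 n124808 = n197178 := d15_0 F403409 F384333 F319767
theorem F403411 : act 6 n154627 = n197178 := d14_5 F403408 (iv6 D154062) (iv7 F144658) D189278 (iv7 F376315)
def n197179 : Q := act 5 n107919
theorem D197179 : act 5 n107919 = n197179 := rfl
theorem F403412 : act 3 n197179 = n107920 := d6_1 D197179 (iv5 D107920) D107919
theorem F403413 : act 7 n197179 = n192063 := d13_2 (iv7 F354645) D197179 (iv5 D192063)
theorem F403414 : act 1 n197179 = n193380 := d17_8 (iv1 F384392) F384390 (iv1 D100393) D100394 D192565 F387096 (iv0 F217607) D197179 F389650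
def n197180 : Q := act 6 n107919
theorem D197180 : act 6 n107919 = n197180 := rfl
theorem F403415 : act 2 n197180 = n154627 := d3_1 D197180 F403411 (iv2 D197178)
theorem F403416 : act 3 n197180 = n107921 := d7_1 D197180 (iv6 D107921) D107919
theorem F403417 : act 7 n197180 = n154061 := d14_2 (iv7 F354645) D197180 (iv6 D154061) (iv7 F109449) D99597
theorem F403418 : act 0 n197180 = n154628 := d21_4 (iv5 F389648) (iv1 F403414) (iv5 D197179) D197180 F306375 F129895 F114960 (iv5 F115035) D160109 (iv1 F387087)
theorem F403419 : act 1 n197180 = n153867 := d15_1 (iv0 F403418) F241759 D154628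
theorem F403420 : act 5 n187662 = n197180 := d17_5 (iv1 F371161) (iv5 D100345) (iv1 F290210) D90433 D187662 F403419 (iv5 F349318) D188778 F374846
def n197181 : Q := act 6 n107920
theorem D197181 : act 6 n107920 = n197181 := rfl
theorem F403421 : act 7 n197181 = n187617 := d14_2 F311994 D197181 (iv6 D187617) (iv7 F294819) F294818
theorem F403422 : act 1 n188315 = n197181 := d15_1 (iv0 F373074) F403421 (iv2 F373072)
def n197182 : Q := act 5 n107921
theorem D197182 : act 5 n107921 = n197182 := rfl
theorem F403423 : act 2 n197182 = n192062 := d2_1 D197182 F385395 (iv2 F314381)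
theorem F403424 : act 3 n197182 = n187662 := d6_1 D197182 F403420 F403416
theorem F403425 : act 7 n197182 = n175477 := d13_2 (iv7 F314382) D197182 (iv5 D175477)
theorem F403426 : act 0 n197182 = n186806 := d17_2 (iv1 F314380) D197182 (iv5 F385170) F385169 (iv5 D155688) (iv0 D74063) (iv5 F96076) D131182 (iv4 F348285)
theorem F403427 : act 0 n143069 = n197182 := d21_10 (iv5 D197182) (iv1 F348289) D186805 F368070 (iv1 D143102) (iv6 D67059) (iv5 D31221) D31218 D67047 D143069
theorem F403428 : act 4 n134058 = n197182 := d11_3 F403425 (iv4 F374696) F374697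
theorem F403429 : act 6 n197182 = n134056 := d10_2 D134058 F403428 (iv4 D134056)
theorem F403430 : act 5 n134056 = n197181 := d12_1 F403429 (iv6 D197181) (iv5 D107920) D107921 D197182
def n197183 : Q := act 4 n107924
theorem D197183 : act 4 n107924 = n197183 := rfl
theorem F403431 : act 2 n197183 = n150774 := d1_1 D197183 F237338 (iv2 F166780)
theorem F403432 : act 6 n197183 = n107926 := d10_2 (iv6 F166781) D197183 (iv4 D107926)
theorem F403433 : act 7 n197183 = n141540 := d11_2 (iv7 F342383) D197183 F224585
theorem F403434 : act 1 n197183 = n155692 := d18_6 F331872 (iv4 F348285) (iv1 F314380) F166779 D107924 D197183 (iv4 D155692) F238096 (iv5 F340836)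
theorem F403435 : act 0 n197183 = n155687 := d20_1 D197183 (iv4 D155687) D155686 F340771 F125275 D81461 (iv1 F350080) F350081 D177054 (iv1 F366298)
theorem F403436 : act 3 n193121 = n197183 := d7_3 F403432 F349183 D193121
theorem F403437 : act 0 n193121 = n189190 := d20_4 F386722 (iv1 F366298) D197183 (iv3 F403436) (iv3 D189190) D189191 (iv1 F376018) F358787 (iv3 F358786) (iv1 F386726)
def n197184 : Q := act 6 n107930
theorem D197184 : act 6 n107930 = n197184 := rfl
theorem F403438 : act 2 n197184 = n107959 := d3_1 D197184 (iv6 D107959) (iv2 F166793)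
theorem F403439 : act 3 n197184 = n116267 := d7_1 D197184 F343173 (iv3 F366660)
theorem F403440 : act 5 n197184 = n116266 := d12_1 D197184 F360986 (iv5 D171052) F313616 D107930
theorem F403441 : act 7 n197184 = n194026 := d14_2 (iv7 F166794) D197184 (iv6 F391807) (iv7 F366224) (iv6 D152034)
def n197185 : Q := act 6 n107941
theorem D197185 : act 6 n107941 = n197185 := rfl
theorem F403442 : act 3 n197185 = n107943 := d7_1 D197185 (iv6 D107943) D107941
theorem F403443 : act 7 n197185 = n160108 := d14_2 F239013 D197185 (iv6 D160108) (iv7 F154448) F342639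
theorem F403444 : act 1 n171132 = n197185 := d15_1 (iv0 F374819) F403443 F252705
theorem F403445 : act 1 n197185 = n171127 := d15_1 F403444 (iv7 F384729) F384727
def n197186 : Q := act 5 n107948
theorem D197186 : act 5 n107948 = n197186 := rfl
theorem F403446 : act 3 n197186 = n107949 := d6_1 D197186 (iv5 D107949) D107948
theorem F403447 : act 4 n197186 = n136383 := d9_1 D197186 (iv5 D136383) D136382 F346456 F346450 (iv5 F334147) F178517 D153334 F346453 (iv5 D136388) D136387 (iv5 F346441) F344862 D175784 (iv4 F344948)
theorem F403448 : act 7 n197186 = n151508 := d13_2 (iv7 F166811) D197186 (iv5 D151508)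
theorem F403449 : act 1 n191751 = n197186 := d15_1 (iv0 F384353) F403448 F354515
def n197187 : Q := act 6 n107949
theorem D197187 : act 6 n107949 = n197187 := rfl
theorem F403450 : act 2 n197187 = n152058 := d3_1 D197187 (iv6 D152058) (iv2 F166812)
theorem F403451 : act 4 n197187 = n151707 := d10_1 D197187 (iv6 D151707) (iv4 F166813)
def n197188 : Q := act 3 n107952
theorem D197188 : act 3 n107952 = n197188 := rfl
theorem F403452 : act 4 n197188 = n133595 := d5_2 F166819 D197188 F214914 (iv4 D65333) D65332
theorem F403453 : act 5 n197188 = n179736 := d6_2 (iv5 F312682) D197188 (iv3 D179736)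
theorem F403454 : act 6 n197188 = n133594 := d7_2 (iv6 F322839) D197188 F333415
theorem F403455 : act 7 n197188 = n192324 := d8_2 (iv7 F209831) D197188 F386431
theorem F403456 : act 0 n197188 = n191900 := d20_4 F368313 F222261 F166819 D197188 F384742 (iv4 F155516) (iv1 F273365) F137014 (iv3 F137013) D186858
theorem F403457 : act 0 n152038 = n197188 := d20_4 F87626 D75324 (iv4 F319890) D152038 (iv3 D197188) (iv4 F166819) (iv1 F248141) (iv4 F217631) (iv3 D135393) F319895
def n197189 : Q := act 4 n107954
theorem D197189 : act 4 n107954 = n197189 := rfl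
theorem F403458 : act 2 n197189 = n193386 := d1_1 D197189 F389660 (iv2 F312698)
theorem F403459 : act 7 n197189 = n193385 := d11_2 F167420 D197189 F389655
theorem F403460 : act 5 n197189 = n134825 := d16_1 D197189 F216975 (iv5 D108140) F78983 D50000 D108266 F310493 (iv7 F305541) (iv2 F312698)
theorem F403461 : act 0 n197189 = n193375 := d17_0 F389634 (iv1 F167887) F343118 F343114 (iv5 D58506) F232488 D87369 (iv0 F312696) D197189
theorem F403462 : act 1 n197189 = n108558 := d18_6 F315122 (iv4 D107982) (iv1 D49869) (iv4 F78852) D107954 D197189 F343144 F389622 F389621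
def n197190 : Q := act 6 n107954
theorem D197190 : act 6 n107954 = n197190 := rfl
theorem F403463 : act 3 n197190 = n107959 := d7_1 D197190 (iv6 D107959) (iv3 F166821)
theorem F403464 : act 5 n197190 = n194025 := d12_1 D197190 F391805 (iv5 D150093) F311672 D107954
def n197191 : Q := act 3 n107957
theorem D197191 : act 3 n107957 = n197191 := rfl
theorem F403465 : act 5 n197191 = n173632 := d6_2 F313755 D197191 (iv3 F303846)
theorem F403466 : act 7 n197191 = n174746 := d8_2 F238941 D197191 F319030
theorem F403467 : act 4 n197191 = n136392 := d20_6 D81845 (iv1 F305169) (iv4 D120523) F315263 (iv1 F166826) D197191 (iv1 F390569) F390566 F191929 (iv1 F301567)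
theorem F403468 : act 0 n183104 = n197191 := d20_4 D98100 (iv1 F364058) (iv4 D183105) D183104 (iv3 D197191) (iv4 F402731) F402732 F238576 (iv3 F314766) (iv1 D98099)
theorem F403469 : act 2 n175734 = n197191 := d1_3 F403467 F346571 (iv4 F344853)
def n197192 : Q := act 6 n107958
theorem D197192 : act 6 n107958 = n197192 := rfl
theorem F403470 : act 3 n197192 = n192783 := d7_1 D197192 (iv6 F387750) F371612
theorem F403471 : act 4 n197192 = n107959 := d10_1 D197192 (iv6 D107959) D107958
theorem F403472 : act 5 n197192 = n193994 := d12_1 D197192 F394474 F394472 (iv6 D151691) (iv5 F166827)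
theorem F403473 : act 7 n197192 = n159333 := d14_2 (iv7 F371589) D197192 (iv6 D159333) (iv7 F139472) D187811
def n197193 : Q := act 0 n107959
theorem D197193 : act 0 n107959 = n197193 := rfl
def n197194 : Q := act 1 n107959
theorem D197194 : act 1 n107959 = n197194 := rfl
theorem F403474 : act 1 n197194 = n194026 := d15_1 D197194 (iv7 F403441) F403438
def n197195 : Q := act 7 n107959
theorem D197195 : act 7 n107959 = n197195 := rfl
theorem F403475 : act 2 n197195 = n194026 := d4_1 D197195 (iv7 F403441) F403438
theorem F403476 : act 4 n197195 = n159333 := d11_1 D197195 (iv7 F403473) F403471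
theorem F403477 : act 5 n197195 = n192176 := d13_1 D197195 F385877 (iv5 F366725)
theorem F403478 : act 6 n197195 = n159332 := d14_1 D197195 (iv7 F371581) (iv6 F371584) (iv7 D107960) D107959
theorem F403479 : act 1 n194026 = n197193 := d15_0 (iv0 D197193) D197195 F403475
def n197196 : Q := act 5 n107961
theorem D197196 : act 5 n107961 = n197196 := rfl
theorem F403480 : act 2 n197196 = n123241 := d2_1 D197196 F364468 (iv2 F364467)
theorem F403481 : act 3 n197196 = n192327 := d6_1 D197196 (iv5 D192327) (iv3 F351959)
theorem F403482 : act 7 n197196 = n123242 := d13_2 F314402 D197196 F366685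
theorem F403483 : act 0 n197196 = n115967 := d17_2 D107961 D197196 F328882 (iv4 F121564) F313374 (iv0 D86587) F303810 (iv0 D49864) (iv4 F78853)
theorem F403484 : act 1 n197196 = n123225 := d17_6 F307853 (iv5 F307712) (iv1 F209937) (iv5 D131090) (iv4 F166830) D197196 (iv5 D123225) D123224 (iv4 F307855)
theorem F403485 : act 6 n197196 = n115934 := d21_9 (iv5 F101831) (iv1 F224186) (iv5 D141163) (iv6 F333136) D102597 F366724 (iv5 D107963) D107961 D197196 (iv1 D115934)
def n197197 : Q := act 4 n107963
theorem D197197 : act 4 n107963 = n197197 := rfl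
theorem F403486 : act 2 n197197 = n137594 := d1_1 D197197 (iv4 F360985) (iv2 F366722)
theorem F403487 : act 6 n197197 = n137592 := d10_2 F366724 D197197 (iv4 F362215)
theorem F403488 : act 5 n197197 = n140115 := d16_1 D197197 F223303 (iv5 F322749) (iv4 F307963) F314125 (iv4 F153919) D192281 F386277 (iv2 F366722)
theorem F403489 : act 3 n193225 = n197197 := d7_3 F403487 (iv3 F362213) D193225
def n197198 : Q := act 7 n107963
theorem D197198 : act 7 n107963 = n197198 := rfl
theorem F403490 : act 2 n197198 = n192281 := d4_1 D197198 F386277 (iv2 F366722)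
theorem F403491 : act 3 n197198 = n149022 := d8_1 D197198 (iv7 F236200) F366723
theorem F403492 : act 5 n197198 = n107964 := d13_1 D197198 (iv7 D107964) D107963
def n197199 : Q := act 6 n107964
theorem D197199 : act 6 n107964 = n197199 := rfl
theorem F403493 : act 2 n197199 = n152037 := d3_1 D197199 (iv6 F332466) (iv2 F313557)
theorem F403494 : act 3 n197199 = n149023 := d7_1 D197199 (iv6 D149023) (iv3 F313558)
theorem F403495 : act 4 n197199 = n107972 := d10_1 D197199 (iv6 D107972) (iv4 F166831)
theorem F403496 : act 7 n197199 = n107965 := d14_2 D107964 D197199 (iv6 D107965) (iv7 D49863) D49862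
theorem F403497 : act 1 n130899 = n197199 := d15_1 (iv0 F247739) F403496 F166832
theorem F403498 : act 0 n152010 = n197199 := d18_2 D71668 D152010 F403495 (iv5 F229408) (iv4 F229863) F317052 F338148 (iv0 D117346) F85351
def n197200 : Q := act 1 n107965
theorem D197200 : act 1 n107965 = n197200 := rfl
theorem F403499 : act 1 n197200 = n152037 := d15_1 D197200 (iv7 D152037) (iv2 F166832)
theorem F403500 : act 7 n197200 = n152010 := d15_2 F332473 D197200 (iv2 F332474)
theorem F403501 : act 4 n197200 = n130898 := d18_7 F314143 (iv4 F314147) (iv1 F316588) F104898 F104729 (iv4 F166833) D197200 (iv0 F328585) (iv5 F314145)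
theorem F403502 : act 2 n130899 = n197200 := d1_3 F403501 (iv2 D130898) D130899
theorem F403503 : act 5 n177733 = n197200 := d17_3 (iv1 D84629) D84630 D177733 F403501 F328207 F357750 (iv5 D175210) F332511 F337509
def n197201 : Q := act 5 n107965
theorem D197201 : act 5 n107965 = n197201 := rfl
theorem F403504 : act 2 n197201 = n152036 := d2_1 D197201 (iv5 D152036) (iv2 F166832)
theorem F403505 : act 0 n197201 = n154836 := d17_2 (iv1 D197200) D197201 (iv5 D154836) F110140 (iv5 F306174) (iv0 F232476) D68687 F328584 (iv4 F403501)
theorem F403506 : act 4 n197201 = n194121 := d18_5 (iv1 F364029) (iv4 F337888) (iv1 D107974) (iv4 F166833) D197201 (iv0 D194121) (iv4 F348235) F348230 F308326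
theorem F403507 : act 5 n151602 = n194121 := d16_3 (iv4 D164323) (iv5 F319879) F361667 (iv4 F403506) (iv5 D197201) F166833 (iv5 F104729) D146156 (iv2 F337879)
theorem F403508 : act 6 n194121 = n127347 := d12_2 D151602 F403507 (iv5 D127347) (iv6 F105604) (iv5 F353546)
def n197202 : Q := act 3 n107974
theorem D197202 : act 3 n107974 = n197202 := rfl
def n197203 : Q := act 5 n107974
theorem D197203 : act 5 n107974 = n197203 := rfl
theorem F403509 : act 6 n197203 = n138697 := d12_2 F332416 D197203 (iv5 F332417) F180769 (iv5 F223216)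
theorem F403510 : act 1 n197203 = n124506 := d17_6 (iv1 D73168) D73171 D154471 F364030 (iv4 F337888) D197203 (iv5 D124506) D124505 F300043
def n197204 : Q := act 2 n107981
theorem D197204 : act 2 n107981 = n197204 := rfl
theorem F403511 : act 3 n197204 = n157070 := d0_2 D107981 D197204 F247161 (iv3 D108269) (iv2 F212679)
theorem F403512 : act 4 n197204 = n166905 := d1_2 (iv4 F312660) D197204 F303236
theorem F403513 : act 5 n197204 = n156356 := d2_2 F314452 D197204 F316787
theorem F403514 : act 6 n197204 = n175063 := d3_2 (iv6 F312661) D197204 F274021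
theorem F403515 : act 7 n197204 = n166900 := d4_2 F212684 D197204 (iv2 F310487)
theorem F403516 : act 1 n156394 = n197204 := d15_1 F362438 F403515 (iv2 F310487)
def n197205 : Q := act 0 n108008
theorem D197205 : act 0 n108008 = n197205 := rfl
theorem F403517 : act 3 n197205 = n131511 := d20_5 F45298 (iv1 F39155) (iv4 F78872) D108008 D197205 F352286 (iv1 D125994) (iv4 F93465) (iv3 D59247) F45489
theorem F403518 : act 1 n111549 = n197205 := d15_0 (iv0 D197205) F166883 D111549
theorem F403519 : act 6 n131508 = n197205 := d21_3 (iv5 D71964) F314756 D131508 (iv1 F403518) F328387 (iv5 F254081) (iv1 F258469) (iv5 F201643) (iv6 F342068) (iv1 D152588)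
theorem F403520 : act 2 n197205 = n111548 := d3_1 F403519 (iv6 F342072) (iv2 F314758)
theorem F403521 : act 7 n197205 = n111547 := d14_2 (iv7 F314759) F403519 F402996 F402859 (iv6 F402857)
def n197206 : Q := act 1 n108008
theorem D197206 : act 1 n108008 = n197206 := rfl
theorem F403522 : act 7 n197206 = n111548 := d15_2 (iv0 D197205) D197206 (iv2 F403520)
theorem F403523 : act 4 n111640 = n197206 := d20_6 F81005 F40901 (iv4 D25023) D25022 D51488 D111640 (iv1 D197206) F166882 (iv3 D51332) D51331
theorem F403524 : act 6 n197060 = n197206 := d21_9 F347796 (iv1 F321006) (iv5 F351725) F351724 (iv1 F352225) F341863 F352223 F209078 (iv5 F402861) (iv1 D197206)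
theorem F403525 : act 2 n197206 = n111547 := d3_1 F403524 F402996 F402866
theorem F403526 : act 3 n197206 = n177678 := d7_1 F403524 (iv6 F342151) (iv3 F402863)
theorem F403527 : act 5 n197206 = n197125 := d12_1 F403524 (iv6 D197125) F166308 D130514 (iv5 F402861)
theorem F403528 : act 0 n111549 = n197206 := d21_4 (iv5 F327247) F327243 F254081 (iv6 F328387) (iv6 F403524) F402861 F214320 F359829 F359831 (iv1 F280694)
theorem F403529 : act 0 n160571 = n111640 := d18_2 F336504 (iv4 F253653) F403523 F403527 F403154 F353827 D146541 (iv0 F352067) (iv5 D180579)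
def n197207 : Q := act 2 n108008
theorem D197207 : act 2 n108008 = n197207 := rfl
theorem F403530 : act 3 n197207 = n126199 := d0_2 D108008 D197207 F202944 F93357 F78873
theorem F403531 : act 4 n197207 = n111298 := d1_2 (iv4 F166882) D197207 (iv2 D111298)
theorem F403532 : act 5 n197207 = n147592 := d2_2 (iv5 F347796) D197207 F347792
theorem F403533 : act 7 n197207 = n111549 := d4_2 (iv7 F166883) D197207 (iv2 D111549)
theorem F403534 : act 1 n197207 = n111547 := d15_0 (iv0 D111547) (iv7 F166883) D197207
theorem F403535 : act 1 n111548 = n197207 := d15_0 F403534 (iv7 F403521) F403520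
theorem E103680 : n111566 = n111467 := (c17_2 (iv1 F172691) D111566 (iv1 D111467) (iv5 D51414) (iv4 F81148) D111443 (iv0 F353833) F342074 F403535 F403531)
theorem F403536 : act 3 n111467 = n180574 := (sb E103680 (iv3 F366159))
theorem F403537 : act 5 n111467 = n51456 := (sb E103680 (iv5 D111566))
theorem F403538 : act 6 n177547 = n197207 := d14_5 F403533 F328387 F257935 (iv6 F329757) F338329
def n197208 : Q := act 6 n108008
theorem D197208 : act 6 n108008 = n197208 := rfl
theorem F403539 : act 2 n197208 = n177547 := d3_1 D197208 F403538 (iv2 D197207)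
theorem F403540 : act 3 n197208 = n108010 := d7_1 D197208 (iv6 D108010) D108008
theorem F403541 : act 4 n197208 = n111300 := d10_1 D197208 (iv6 D111300) (iv4 F166882)
theorem F403542 : act 7 n197208 = n177628 := d14_2 (iv7 F166883) D197208 (iv6 F351049) (iv7 F327516) (iv6 D111551)
theorem F403543 : act 0 n197208 = n177630 := d21_4 (iv5 D71923) D71921 (iv5 F347796) D197208 (iv6 F362463) (iv5 F368050) F368051 F295103 F351733 (iv1 D152483)
theorem F403544 : act 1 n197208 = n177601 := d15_1 (iv0 F403543) F277067 D177630
theorem F403545 : act 1 n177601 = n163034 := d15_1 F403544 F338329 (iv2 F403539)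
def n197209 : Q := act 6 n108009
theorem D197209 : act 6 n108009 = n197209 := rfl
theorem F403546 : act 2 n197209 = n195058 := d3_1 D197209 (iv6 D195058) (iv2 F166884)
theorem F403547 : act 3 n197209 = n152476 := d7_1 D197209 (iv6 D152476) (iv3 F347789)
theorem F403548 : act 4 n197209 = n126183 := d10_1 D197209 (iv6 D126183) (iv4 F166885)
def n197210 : Q := act 5 n108010
theorem D197210 : act 5 n108010 = n197210 := rfl
theorem F403549 : act 2 n197210 = n195059 := d2_1 D197210 (iv5 D195059) (iv2 F166904)
theorem F403550 : act 0 n197210 = n112735 := d17_2 F202627 D197210 (iv5 D112735) F82233 F39853 D48809 (iv5 F76879) D58976 D125959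
theorem F403551 : act 4 n112735 = n163185 := d18_1 F403550 (iv1 D163185) (iv4 D78438) (iv5 D35742) (iv4 F325123) F93182 D125957 (iv0 F202618) D197210
def n197211 : Q := act 3 n108011
theorem D197211 : act 3 n108011 = n197211 := rfl
theorem F403552 : act 2 n197211 = n127619 := d0_1 D197211 (iv3 D127619) F94404 (iv3 F84788) F166907
theorem F403553 : act 5 n197211 = n116663 := d6_2 F166908 D197211 (iv3 D116663)
theorem F403554 : act 6 n197211 = n166725 := d7_2 (iv6 F340642) D197211 F262441
theorem F403555 : act 7 n197211 = n147371 := d8_2 (iv7 F166906) D197211 F231088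
theorem F403556 : act 0 n197211 = n147374 := d20_10 (iv4 F231093) (iv1 F202672) F321903 F132223 (iv1 F60747) D78726 (iv4 F323582) F349846 F340643 D197211
theorem F403557 : act 0 n131511 = n197211 := d21_4 (iv5 D29262) D29259 D61717 D131511 F403554 (iv5 F327241) (iv1 F170825) (iv5 F327255) F330857 (iv1 D61728)
def n197212 : Q := act 6 n108013
theorem D197212 : act 6 n108013 = n197212 := rfl
theorem F403558 : act 3 n197212 = n108015 := d7_1 D197212 (iv6 D108015) (iv3 F166915)
theorem F403559 : act 4 n197212 = n195545 := d10_1 D197212 (iv6 D195545) F166916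
theorem F403560 : act 5 n197212 = n197069 := d12_1 D197212 (iv6 D197069) (iv5 D107587) (iv6 F78876) D108013
theorem F403561 : act 0 n197212 = n142521 := d21_4 F166908 (iv1 D108011) D108013 D197212 (iv6 D142521) D142520 F362021 (iv5 D147657) (iv6 D69200) (iv1 F84775)
theorem F403562 : act 0 n170465 = n195545 := d20_10 (iv4 F403559) F403561 F225418 (iv3 F321854) (iv1 F84671) (iv3 F181618) F317990 F355438 F267926 (iv3 F267906)
def n197213 : Q := act 1 n108015
theorem D197213 : act 1 n108015 = n197213 := rfl
theorem F403563 : act 1 n197213 = n197118 := d15_1 D197213 F403130 F166938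
theorem F403564 : act 7 n197213 = n197116 := d15_2 (iv0 F355513) D197213 F403118
theorem F403565 : act 5 n197213 = n156193 := d17_7 (iv1 D85198) D85200 (iv1 F320579) (iv5 F336199) F179636 (iv5 F166933) D197213 F245456 F344864
theorem F403566 : act 4 n197213 = n190224 := d17_9 (iv1 F403135) (iv5 F340401) F382157 (iv5 D191083) D191082 F382153 F351355 (iv5 F166933) D197213
theorem F403567 : act 2 n156197 = n197213 := d1_3 F403566 F392699 F392692
theorem F403568 : act 6 n190222 = n197213 := d10_0 F403566 (iv6 D190224) D190222
theorem F403569 : act 3 n178959 = n197213 := d20_5 (iv4 F230934) (iv1 F233908) F233905 (iv3 F355446) (iv1 F278850) F403566 (iv1 F403135) (iv4 F175185) F175184 D147193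
def n197214 : Q := act 5 n108018
theorem D197214 : act 5 n108018 = n197214 := rfl
theorem F403570 : act 2 n197214 = n108019 := d2_1 D197214 (iv5 D108019) D108018
theorem F403571 : act 3 n197214 = n139685 := d6_1 D197214 F222862 (iv3 F166934)
theorem F403572 : act 6 n197214 = n148874 := d12_2 (iv6 F166935) D197214 (iv5 F346456) F346462 F346469
theorem F403573 : act 7 n197214 = n148879 := d13_2 (iv7 F323080) D197214 F323079
theorem F403574 : act 4 n197214 = n114464 := d16_2 F216945 D197214 (iv5 D114464) F83485 D52836 (iv4 F361650) F168709 (iv7 F98648) D134819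
theorem F403575 : act 0 n173640 = n197214 := d21_1 F334726 (iv5 D197214) F166935 (iv1 F175407) F325226 F316542 F296739 F117878 (iv6 F323459) D110606
def n197215 : Q := act 0 n108019
theorem D197215 : act 0 n108019 = n197215 := rfl
theorem F403576 : act 5 n197215 = n112564 := d17_1 D197215 (iv1 F175124) (iv5 F182080) F325852 (iv5 F298375) (iv0 F334745) (iv5 F228854) F228856 F166937
theorem F403577 : act 4 n197215 = n146170 := d20_2 F166937 D197215 (iv3 D146170) (iv1 D68543) (iv3 D31889) (iv4 D15010) F11561 D15302 D32404 D69785
theorem F403578 : act 3 n197215 = n173650 := d20_5 F80436 D51571 F81401 (iv3 F166936) D197215 (iv4 F342083) (iv1 F342084) F342087 (iv3 D112590) (iv1 F82046)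
theorem F403579 : act 6 n197215 = n172113 := d21_5 (iv5 F300824) D176155 (iv5 F346479) (iv6 F346418) D197215 F336064 F321693 D132807 F344783 F342675
theorem F403580 : act 1 n148879 = n197215 := d15_0 (iv0 D197215) (iv7 F171152) (iv2 F233926)
theorem F403581 : act 7 n173640 = n197215 := d14_0 F403579 F336065 (iv6 D83907) (iv7 F127984) D173640
def n197216 : Q := act 1 n108019
theorem D197216 : act 1 n108019 = n197216 := rfl
theorem F403582 : act 1 n197216 = n148879 := d15_1 D197216 (iv7 F403573) F403570
theorem F403583 : act 3 n125295 = n197216 := d20_3 F313883 (iv1 F131954) (iv4 F318681) (iv1 D197216) F166936 (iv4 F81401) (iv1 F81400) F79902 (iv3 F82040) F323152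
theorem F403584 : act 5 n112565 = n197216 := d21_0 (iv1 D197216) (iv5 D108019) F78878 D107591 F334616 F300624 (iv1 F117598) (iv5 F298149) (iv6 F324772) (iv1 F175129)
theorem F403585 : act 6 n173635 = n197216 := d21_3 (iv5 D83890) (iv1 F127980) D173635 (iv1 D197216) F346418 F346479 (iv1 F327863) (iv5 D175969) (iv6 D83969) (iv1 F278411)
theorem F403586 : act 2 n197216 = n173640 := d3_1 F403585 (iv6 D173640) (iv2 F272107)
def n197217 : Q := act 0 n108021
theorem D197217 : act 0 n108021 = n197217 := rfl
theorem F403587 : act 5 n197217 = n156780 := d17_3 (iv1 F280175) (iv5 F317336) D197217 (iv4 D156780) (iv5 F208903) F222368 (iv5 F214876) F340783 (iv4 F280174)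
theorem F403588 : act 3 n197217 = n196415 := d20_5 F111053 (iv1 D49887) D49888 D108021 D197217 (iv4 D196415) (iv1 D106960) (iv4 F164852) (iv3 D106955) (iv1 F111051)
theorem F403589 : act 1 n108078 = n197217 := d15_0 (iv0 D197217) F166941 D108078
theorem F403590 : act 2 n108077 = n197217 := d2_3 F403587 F246689 (iv5 F167384)
theorem F403591 : act 7 n108076 = n197217 := d13_0 F403587 F246690 (iv5 F167382)
def n197218 : Q := act 1 n108021
theorem D197218 : act 1 n108021 = n197218 := rfl
theorem F403592 : act 7 n197218 = n108077 := d15_2 (iv0 D197217) D197218 F403590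
theorem F403593 : act 5 n197218 = n124855 := d17_7 F167155 F38222 (iv1 F310484) F155150 D85963 (iv5 F317336) D197218 (iv0 F315136) (iv4 D108233)
theorem F403594 : act 3 n124813 = n197218 := d20_3 (iv4 F232989) (iv1 D124812) D124813 (iv1 D197218) (iv3 D108021) (iv4 D49888) F38117 D29417 D62135 (iv1 F316349)
theorem F403595 : act 4 n124827 = n197218 := d20_6 (iv4 D29825) (iv1 F23692) D14493 D30550 (iv1 F310576) D124827 (iv1 D197218) F166940 (iv3 D63356) F48120
theorem F403596 : act 6 n197218 = n195396 := d7_2 (iv6 F397217) F403594 (iv3 F397218)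
theorem F403597 : act 2 n108076 = n197218 := d2_3 F403593 (iv2 F313651) (iv5 F167382)
theorem F403598 : act 0 n108078 = n197218 := d17_2 (iv1 F315127) (iv5 F317328) F403593 (iv4 D124855) D124856 (iv0 F314140) (iv5 F314335) F314334 D157191
def n197219 : Q := act 2 n108021
theorem D197219 : act 2 n108021 = n197219 := rfl
theorem F403599 : act 3 n197219 = n108061 := d0_2 D108021 D197219 (iv2 D108061) (iv3 D49908) (iv2 F78886)
theorem F403600 : act 4 n197219 = n134827 := d1_2 (iv4 F166940) D197219 (iv2 D134827)
theorem F403601 : act 5 n197219 = n125170 := d2_2 (iv5 F317336) D197219 F201207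
theorem F403602 : act 7 n197219 = n108078 := d4_2 (iv7 F166941) D197219 (iv2 D108078)
theorem F403603 : act 1 n197219 = n108076 := d15_0 (iv0 D108076) (iv7 F166941) D197219
theorem F403604 : act 1 n108077 = n197219 := d15_0 F403603 F403591 (iv2 F403590)
theorem F403605 : act 1 n108143 = n134827 := d18_6 (iv1 F167381) (iv4 D49995) (iv1 D24376) (iv4 F38171) D49947 D108143 (iv4 F403600) F403603 F167382
def n197220 : Q := act 6 n108022
theorem D197220 : act 6 n108022 = n197220 := rfl
theorem F403606 : act 2 n197220 = n108065 := d3_1 D197220 (iv6 D108065) (iv2 F166942)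
theorem F403607 : act 3 n197220 = n144468 := d7_1 D197220 F317337 (iv3 F317335)
theorem F403608 : act 4 n197220 = n156030 := d10_1 D197220 (iv6 D156030) (iv4 F166944)
def n197221 : Q := act 0 n108023
theorem D197221 : act 0 n108023 = n197221 := rfl
theorem F403609 : act 5 n197221 = n113092 := d19_1 D197221 F176189 F82551 (iv1 F40083) D51185 F80747 F77729 (iv1 D49215) (iv5 D24019) F18352 (iv3 D5327) (iv1 F3576) F3573 (iv4 F3558) (iv3 F8120) (iv1 F18731) D24328 D49889 D108023
theorem F403610 : act 3 n197221 = n113094 := d20_5 (iv4 D29417) (iv1 F38120) D49889 D108023 D197221 F176194 (iv1 D74231) (iv4 F78994) (iv3 F78993) F53423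
theorem F403611 : act 1 n108061 = n197221 := d15_0 (iv0 D197221) F166946 D108061
theorem F403612 : act 7 n108059 = n197221 := d8_0 F403610 (iv7 D113094) (iv3 F167074)
def n197222 : Q := act 1 n108023
theorem D197222 : act 1 n108023 = n197222 := rfl
theorem F403613 : act 4 n136381 = n197222 := d20_0 (iv1 D197222) (iv4 F201750) (iv3 D125463) F92804 D64111 F99793 D64982 (iv4 F341560) (iv3 F385481) F385483
theorem F403614 : act 6 n195550 = n197222 := d21_9 (iv5 F396971) (iv1 D195425) F344606 F336212 (iv1 F162174) D195419 F397312 (iv1 D195548) D195550 (iv1 D197222)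
theorem F403615 : act 3 n197222 = n195555 := d7_1 F403614 (iv6 D195555) (iv3 F397318)
theorem F403616 : act 5 n197222 = n113091 := d12_1 F403614 (iv6 F219377) (iv5 F397321) (iv6 D195551) D195550
theorem F403617 : act 2 n108059 = n197222 := d2_3 F403616 (iv2 D113091) (iv5 F167073)
theorem F403618 : act 0 n108061 = n197222 := d17_2 D195424 F396963 F403616 F176185 D113117 F178456 (iv5 F361841) (iv0 D133345) (iv4 F344605)
theorem F403619 : act 7 n108060 = n197222 := d15_2 (iv0 D108059) D108060 (iv2 F403617)
theorem F403620 : act 2 n197221 = n108060 := d4_3 F403619 (iv2 F403617) F403612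
theorem F403621 : act 0 n195555 = n179951 := d20_10 (iv4 D179951) (iv1 D85989) (iv4 F131914) (iv3 D85968) D85966 D179905 (iv4 F385482) F385483 F403613 F403615
def n197223 : Q := act 2 n108023
theorem D197223 : act 2 n108023 = n197223 := rfl
theorem F403622 : act 3 n197223 = n108078 := d0_2 D108023 D197223 (iv2 D108078) (iv3 D49919) (iv2 F78888)
theorem F403623 : act 5 n197223 = n179897 := d2_2 F396971 D197223 (iv2 F396970)
theorem F403624 : act 7 n197223 = n108061 := d4_2 (iv7 F166946) D197223 (iv2 D108061)
theorem F403625 : act 1 n197223 = n108059 := d15_0 (iv0 D108059) (iv7 F166946) D197223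
theorem F403626 : act 1 n108060 = n197223 := d15_0 F403625 F403612 F403620
def n197224 : Q := act 6 n108024
theorem D197224 : act 6 n108024 = n197224 := rfl
theorem F403627 : act 2 n197224 = n108081 := d3_1 D197224 (iv6 D108081) (iv2 F166947)
theorem F403628 : act 4 n197224 = n156029 := d10_1 D197224 (iv6 D156029) (iv4 F166948)
def n197225 : Q := act 0 n108025
theorem D197225 : act 0 n108025 = n197225 := rfl
theorem F403629 : act 5 n197225 = n157191 := d17_3 (iv1 D108241) (iv5 F167058) D197225 (iv4 D157191) (iv5 F314339) F314614 (iv5 D65285) D65282 (iv4 F245503)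
theorem F403630 : act 3 n197225 = n196443 := d20_5 (iv4 D24330) D24329 D49890 D108025 D197225 (iv4 D196443) (iv1 D106988) (iv4 F100142) (iv3 D64308) F48724
theorem F403631 : act 1 n108109 = n197225 := d15_0 (iv0 D197225) F166952 D108109
theorem F403632 : act 2 n108108 = n197225 := d2_3 F403629 F314337 (iv5 F343143)
theorem F403633 : act 6 n145652 = n197225 := d12_0 F403629 (iv6 F366370) (iv5 F351846) D196881 F402140
theorem F403634 : act 0 n195511 = n126917 := d21_4 (iv5 D195410) (iv1 F162160) D144420 (iv6 F397188) F204173 F317336 F315131 (iv5 F403629) (iv6 F403633) (iv1 F396927)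
def n197226 : Q := act 1 n108025
theorem D197226 : act 1 n108025 = n197226 := rfl
theorem F403635 : act 7 n197226 = n108108 := d15_2 (iv0 D197225) D197226 F403632
theorem F403636 : act 5 n197226 = n179895 := d17_7 F312665 F311456 (iv1 F44972) F312689 D49990 (iv5 F167058) D197226 (iv0 D179895) (iv4 D85958)
theorem F403637 : act 3 n108241 = n197226 := d19_19 (iv1 D197226) F167058 (iv4 D49990) D49989 (iv1 F245502) F313376 F234269 F303438 F230637 D127891 F340252 (iv3 F323412) F323409 F103968 F94678 (iv3 F186833) (iv1 F313628) (iv5 D139075) (iv4 F245503)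
theorem F403638 : act 4 n138746 = n197226 := d20_6 F38362 (iv1 F19437) D14509 D30590 D65152 D138746 (iv1 D197226) F166951 (iv3 D50079) (iv1 F38365)
theorem F403639 : act 2 n197226 = n108107 := d1_1 F403638 (iv4 F387486) F387483
theorem F403640 : act 6 n197226 = n141873 := d10_2 (iv6 F325039) F403638 (iv4 D141873)
theorem F403641 : act 7 n197225 = n108107 := d16_8 (iv4 F403638) F387482 F387480 (iv5 D101548) (iv4 F190879) F314339 D157191 (iv5 F403629) (iv2 F403639)
theorem F403642 : act 0 n108109 = n197226 := d20_7 F111757 (iv1 F53645) (iv4 F312322) (iv3 F314709) (iv1 F167865) (iv3 F167883) F167884 (iv4 F403638) (iv3 D138746) (iv1 F111759)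
def n197227 : Q := act 2 n108025
theorem D197227 : act 2 n108025 = n197227 := rfl
theorem F403643 : act 3 n197227 = n108091 := d0_2 D108025 D197227 (iv2 D108091) (iv3 D49925) (iv2 F78890)
theorem F403644 : act 4 n197227 = n108454 := d1_2 (iv4 F166951) D197227 (iv2 D108454)
theorem F403645 : act 5 n197227 = n108233 := d2_2 (iv5 F167058) D197227 F167371
theorem F403646 : act 7 n197227 = n108109 := d4_2 (iv7 F166952) D197227 (iv2 D108109)
theorem F403647 : act 1 n197227 = n108107 := d15_0 (iv0 D108107) (iv7 F166952) D197227
theorem F403648 : act 1 n108108 = n197227 := d15_0 F403647 (iv7 F403641) (iv2 F403632)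
def n197228 : Q := act 6 n108025
theorem D197228 : act 6 n108025 = n197228 := rfl
theorem F403649 : act 3 n197228 = n108027 := d7_1 D197228 (iv6 D108027) D108025
theorem F403650 : act 4 n197228 = n108456 := d10_1 D197228 (iv6 D108456) (iv4 F166951)
def n197229 : Q := act 6 n108026
theorem D197229 : act 6 n108026 = n197229 := rfl
theorem F403651 : act 2 n197229 = n108096 := d3_1 D197229 (iv6 D108096) (iv2 F166953)
theorem F403652 : act 3 n197229 = n108242 := d7_1 D197229 (iv6 D108242) F167053
theorem F403653 : act 4 n197229 = n156007 := d10_1 D197229 (iv6 D156007) (iv4 F166954)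
def n197230 : Q := act 0 n108027
theorem D197230 : act 0 n108027 = n197230 := rfl
theorem F403654 : act 4 n197230 = n111201 := d20_2 (iv4 F166957) D197230 (iv3 F172461) F82548 (iv3 F167733) F167734 (iv1 F219553) F219555 F166961 (iv1 D108028)
theorem F403655 : act 2 n108097 = n197230 := d15_3 (iv0 D197230) (iv0 F221810) F221809
theorem F403656 : act 6 n197230 = n195305 := d3_2 F167171 F403655 (iv2 F396651)
theorem F403657 : act 7 n197230 = n108098 := d4_2 F221809 F403655 (iv2 F221808)
theorem F403658 : act 1 n108100 = n197230 := d15_1 (iv0 F221811) F403657 (iv2 F221808)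
def n197231 : Q := act 5 n108027
theorem D197231 : act 5 n108027 = n197231 := rfl
theorem F403659 : act 2 n197231 = n108099 := d2_1 D197231 (iv5 D108099) (iv2 F166956)
def n197232 : Q := act 7 n108027
theorem D197232 : act 7 n108027 = n197232 := rfl
theorem F403660 : act 2 n197232 = n108100 := d4_1 D197232 (iv7 D108100) (iv2 F166956)
theorem F403661 : act 4 n197232 = n108029 := d11_1 D197232 (iv7 D108029) (iv4 F166957)
theorem F403662 : act 6 n197232 = n108116 := d14_1 D197232 (iv7 D108116) (iv6 D49934) (iv7 F78891) D108027
theorem F403663 : act 1 n108098 = n197232 := d15_1 D108098 (iv7 D197232) F166956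
theorem F403664 : act 1 n197232 = n108097 := d15_1 F403663 (iv7 F221809) F221808
def n197233 : Q := act 2 n108030
theorem D197233 : act 2 n108030 = n197233 := rfl
theorem F403665 : act 5 n197233 = n108131 := d2_2 (iv5 F356564) D197233 F210278
theorem F403666 : act 7 n108031 = n197233 := d15_2 (iv0 D108030) D108031 (iv2 D197233)
theorem F403667 : act 3 n108133 = n197233 := d6_3 F403665 (iv3 D108131) D108133
theorem F403668 : act 0 n108032 = n197233 := d19_0 F403665 (iv4 F210277) (iv3 F316925) F316923 D138653 F330627 F102711 D66856 F313404 (iv4 F316144) (iv3 F311089) D85084 F316075 F313596 F107178 F310483 (iv5 D50000) (iv4 F78983) (iv3 F166968)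
theorem F403669 : act 1 n108034 = n197233 := d15_0 (iv0 F403668) F315144 (iv2 F320633)
def n197234 : Q := act 3 n108030
theorem D197234 : act 3 n108030 = n197234 := rfl
theorem F403670 : act 2 n197234 = n113107 := d0_1 D197234 F222285 F222267 F403667 (iv2 D197233)
theorem F403671 : act 4 n197234 = n113105 := d5_2 (iv4 F354251) D197234 F355246 F360550 D179118
theorem F403672 : act 7 n113112 = n197234 := d11_0 F403671 (iv7 F176228) D113112
theorem F403673 : act 0 n195517 = n197234 := d20_10 F403671 F360551 (iv4 F176189) F176188 (iv1 F82529) D59486 F93890 D64203 D136573 (iv3 F397200)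
def n197235 : Q := act 6 n108030
theorem D197235 : act 6 n108030 = n197235 := rfl
def n197236 : Q := act 7 n108030
theorem D197236 : act 7 n108030 = n197236 := rfl
theorem F403674 : act 2 n197236 = n108031 := d4_1 D197236 F403666 (iv2 D197233)
theorem F403675 : act 3 n197236 = n113112 := d8_1 D197236 F403672 (iv3 D197234)
theorem F403676 : act 4 n197236 = n194333 := d11_1 D197236 (iv7 F392858) (iv4 F354251)
theorem F403677 : act 1 n108032 = n197236 := d15_1 (iv0 F403668) (iv7 D197236) D197233
theorem F403678 : act 1 n197236 = n108034 := d15_1 F403677 (iv7 D108034) D108032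
theorem F403679 : act 6 n155790 = n197236 := d10_0 F403676 (iv6 D194333) F328604
def n197237 : Q := act 3 n108031
theorem D197237 : act 3 n108031 = n197237 := rfl
theorem F403680 : act 5 n197237 = n108135 := d6_2 (iv5 F366667) D197237 F210273
theorem F403681 : act 7 n197237 = n108133 := d8_2 (iv7 F403666) D197237 F403667
theorem F403682 : act 2 n108137 = n197237 := d4_3 F403681 (iv2 F222267) F222268
theorem F403683 : act 1 n125177 = n197237 := d15_1 F366615 F403681 (iv2 F222267)
theorem F403684 : act 1 n197237 = n156348 := d15_1 F403683 F245703 (iv2 F343121)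
def n197238 : Q := act 4 n108031
theorem D197238 : act 4 n108031 = n197238 := rfl
theorem F403685 : act 2 n197238 = n194333 := d1_1 D197238 (iv4 F403676) F403674
theorem F403686 : act 3 n197238 = n197111 := d20_3 D85534 (iv1 F366666) D197238 (iv1 F403092) (iv3 F176257) F176258 (iv1 F398611) F398606 (iv3 D179226) (iv1 D85532)
theorem F403687 : act 0 n181796 = n197238 := d20_10 (iv4 D197238) (iv1 D108031) F78896 (iv3 D49712) (iv1 F48619) D64147 F99857 D64155 F319243 D181796
theorem F403688 : act 6 n194332 = n197238 := d3_0 F403685 (iv6 D194333) D194332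
def n197239 : Q := act 6 n108031
theorem D197239 : act 6 n108031 = n197239 := rfl
theorem F403689 : act 2 n197239 = n155790 := d3_1 D197239 F403679 F403674
theorem F403690 : act 4 n197239 = n194332 := d10_1 D197239 F403688 (iv4 D197238)
theorem F403691 : act 7 n155789 = n197239 := d11_0 F403690 (iv7 F396876) F396879
theorem F403692 : act 0 n120063 = n197239 := d18_2 F325005 D120063 F403690 (iv5 F396883) F396882 F162122 (iv4 F319214) (iv0 F321263) D107717
theorem F403693 : act 1 n155787 = n197239 := d18_6 (iv1 D59470) F45727 D28241 D59475 (iv5 F324658) D155787 F403690 F392855 (iv5 D126754)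
def n197240 : Q := act 5 n108032
theorem D197240 : act 5 n108032 = n197240 := rfl
theorem F403694 : act 2 n197240 = n108033 := d2_1 D197240 (iv5 D108033) D108032
theorem F403695 : act 3 n197240 = n108140 := d6_1 D197240 (iv5 D108140) (iv3 F166968)
theorem F403696 : act 7 n197240 = n156270 := d13_2 (iv7 F315144) D197240 F366393
theorem F403697 : act 1 n197240 = n156268 := d17_6 F318486 D179952 F350989 F192320 F316893 D197240 (iv5 F356558) F355445 F167037
theorem F403698 : act 1 n156269 = n197240 := d15_1 D156269 F403696 (iv2 D156270)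
theorem F403699 : act 1 n146960 = n156270 := d15_1 (iv0 F356552) (iv7 F403696) F403694
def n197241 : Q := act 0 n108033
theorem D197241 : act 0 n108033 = n197241 := rfl
theorem F403700 : act 2 n156269 = n197241 := d15_3 (iv0 D197241) (iv0 F356552) F356551
theorem F403701 : act 1 n156270 = n197241 := d15_0 (iv0 D197241) (iv7 F166972) D156270
theorem F403702 : act 7 n197241 = n156268 := d15_2 F403699 F403701 (iv2 F356556)
theorem F403703 : act 4 n197241 = n134974 := d17_9 (iv1 F221491) F356543 (iv1 F356865) (iv5 D111249) D111248 (iv5 F366667) F366666 (iv5 F366393) F403701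
def n197242 : Q := act 4 n108033
theorem D197242 : act 4 n108033 = n197242 := rfl
theorem F403704 : act 3 n197242 = n156246 := d5_1 D197242 F245560 F111527 (iv4 F78899) (iv3 F166971)
theorem F403705 : act 7 n197242 = n156243 := d11_2 F166972 D197242 F245558
theorem F403706 : act 5 n197242 = n175389 := d16_1 D197242 (iv4 F336909) (iv5 D146979) (iv4 F313192) F113958 D85534 (iv5 F366393) (iv7 F403696) F403694
def n197243 : Q := act 6 n108033
theorem D197243 : act 6 n108033 = n197243 := rfl
theorem F403707 : act 3 n197243 = n108035 := d7_1 D197243 (iv6 D108035) (iv3 F166971)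
theorem F403708 : act 5 n197243 = n195319 := d12_1 D197243 (iv6 D195319) (iv5 D105516) (iv6 F78897) D108033
def n197244 : Q := act 6 n108034
theorem D197244 : act 6 n108034 = n197244 := rfl
theorem F403709 : act 2 n197244 = n163076 := d3_1 D197244 F316252 (iv2 F320633)
theorem F403710 : act 3 n197244 = n108036 := d7_1 D197244 (iv6 D108036) (iv3 F166973)
theorem F403711 : act 4 n197244 = n163070 := d10_1 D197244 F316251 (iv4 F320634)
theorem F403712 : act 7 n197244 = n195320 := d14_2 D108034 D197244 (iv6 D195320) (iv7 D105517) (iv6 F78897)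
theorem F403713 : act 1 n163076 = n195446 := d15_0 F397008 (iv7 F403712) F403709
def n197245 : Q := act 0 n108035
theorem D197245 : act 0 n108035 = n197245 := rfl
def n197246 : Q := act 1 n108035
theorem D197246 : act 1 n108035 = n197246 := rfl
theorem F403714 : act 1 n197246 = n108154 := d15_1 D197246 (iv7 D108154) (iv2 F166976)
def n197247 : Q := act 7 n108035
theorem D197247 : act 7 n108035 = n197247 := rfl
theorem F403715 : act 2 n197247 = n108154 := d4_1 D197247 (iv7 D108154) (iv2 F166976)
theorem F403716 : act 4 n197247 = n156286 := d11_1 D197247 F245583 (iv4 F166977)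
theorem F403717 : act 5 n197247 = n195323 := d13_1 D197247 (iv7 D195323) (iv5 F166978)
theorem F403718 : act 6 n197247 = n156275 := d14_1 D197247 (iv7 D156275) (iv6 D74335) F78900 D108035
theorem F403719 : act 1 n108154 = n197245 := d15_0 (iv0 D197245) D197247 F403715
theorem F403720 : act 1 n108153 = n197247 := d15_1 D108153 (iv7 D197247) F166976
theorem F403721 : act 1 n197247 = n108152 := d15_0 (iv0 D108152) D108154 (iv2 F403715)
def n197248 : Q := act 5 n108036
theorem D197248 : act 5 n108036 = n197248 := rfl
theorem F403722 : act 2 n197248 = n108157 := d2_1 D197248 (iv5 D108157) (iv2 F166979)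
theorem F403723 : act 6 n197248 = n141368 := d12_2 D108036 D197248 F357024 (iv6 D74335) (iv5 F78903)
theorem F403724 : act 7 n197248 = n195324 := d13_2 (iv7 F166981) D197248 (iv5 D195324)
theorem F403725 : act 4 n197248 = n140997 := d16_2 (iv4 F166980) D197248 F357076 F396706 (iv5 D105650) F76915 F37132 (iv7 F38176) (iv2 F78906)
theorem F403726 : act 0 n197248 = n195527 := d17_2 (iv1 F166983) D197248 F397223 (iv4 F227564) (iv5 F222754) F168292 F82533 (iv0 F168293) (iv4 F163991)
theorem F403727 : act 1 n197248 = n195526 := d17_6 D67822 F111409 (iv1 F78911) F78908 (iv4 F166980) D197248 F397222 (iv0 D144723) F103832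
def n197249 : Q := act 0 n108037
theorem D197249 : act 0 n108037 = n197249 := rfl
theorem F403728 : act 3 n197249 = n193656 := d20_5 F78915 (iv1 D49896) D49897 D108037 D197249 (iv4 D193656) F329288 F82446 (iv3 D30225) (iv1 F48611)
def n197250 : Q := act 1 n108037
theorem D197250 : act 1 n108037 = n197250 := rfl
def n197251 : Q := act 1 n108043
theorem D197251 : act 1 n108043 = n197251 := rfl
theorem F403729 : act 1 n197251 = n131873 := d15_1 D197251 (iv7 D131873) (iv2 F167003)
theorem F403730 : act 7 n197251 = n131871 := d15_2 (iv0 F207641) D197251 (iv2 F211296)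
theorem F403731 : act 4 n197251 = n115673 := d17_9 F330581 (iv5 F330518) (iv1 D115259) (iv5 F330513) F179509 (iv5 F95403) F96464 (iv5 F167005) D197251
theorem F403732 : act 5 n197251 = n131974 := d18_9 F211458 (iv4 F218157) (iv1 F363779) (iv4 F363764) F179282 D130955 F245031 F245028 D197251
theorem F403733 : act 3 n140426 = n197251 := d20_3 (iv4 F329233) F329230 F223601 (iv1 D197251) F167004 (iv4 F111560) (iv1 F222784) (iv4 D139622) (iv3 F168313) (iv1 F100742)
theorem F403734 : act 6 n140424 = n197251 := d21_3 (iv5 F392577) F392578 (iv5 F223590) (iv1 D197251) (iv6 D108043) F78925 F46507 F46502 D49741 D107664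
theorem F403735 : act 2 n197251 = n115674 := d3_1 F403734 F330589 (iv2 F223585)
def n197252 : Q := act 7 n108043
theorem D197252 : act 7 n108043 = n197252 := rfl
theorem F403736 : act 2 n197252 = n131873 := d4_1 D197252 (iv7 D131873) (iv2 F167003)
theorem F403737 : act 3 n197252 = n134824 := d8_1 D197252 (iv7 D134824) (iv3 F167004)
theorem F403738 : act 4 n197252 = n115418 := d11_1 D197252 (iv7 F245029) F245028
theorem F403739 : act 5 n197252 = n126544 := d13_1 D197252 (iv7 D126544) (iv5 F167005)
theorem F403740 : act 6 n197252 = n110842 := d14_1 D197252 F171688 (iv6 D107617) (iv7 F78928) D108043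
theorem F403741 : act 1 n115674 = n197252 := d15_1 (iv0 F330586) (iv7 D197252) F167003
theorem F403742 : act 1 n197252 = n131871 := d15_1 F403741 (iv7 F403730) F403735
def n197253 : Q := act 6 n108044
theorem D197253 : act 6 n108044 = n197253 := rfl
theorem F403743 : act 2 n197253 = n156239 := d3_1 D197253 (iv6 D156239) (iv2 F167009)
theorem F403744 : act 3 n197253 = n108045 := d7_1 D197253 (iv6 D108045) D108044
def n197254 : Q := act 5 n108049
theorem D197254 : act 5 n108049 = n197254 := rfl
theorem F403745 : act 3 n197254 = n108050 := d6_1 D197254 (iv5 D108050) D108049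
theorem F403746 : act 6 n197254 = n143038 := d12_2 (iv6 F353524) D197254 (iv5 D143038) (iv6 D67035) D67034
theorem F403747 : act 1 n197254 = n111248 := d17_6 D85531 (iv5 F350975) (iv1 F279791) (iv5 F318489) (iv4 F167037) D197254 (iv5 F366667) F366666 (iv4 D85534)
theorem F403748 : act 1 n111243 = n197254 := d15_0 F403747 F210274 F210278
def n197255 : Q := act 6 n108052
theorem D197255 : act 6 n108052 = n197255 := rfl
theorem F403749 : act 4 n197255 = n135740 := d10_1 D197255 (iv6 D135740) (iv4 F167044)
def n197256 : Q := act 0 n108053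
theorem D197256 : act 0 n108053 = n197256 := rfl
def n197257 : Q := act 1 n108053
theorem D197257 : act 1 n108053 = n197257 := rfl
def n197258 : Q := act 2 n108053
theorem D197258 : act 2 n108053 = n197258 := rfl
theorem F403750 : act 3 n197258 = n195302 := d0_2 D108053 D197258 F396633 F344604 F97586
theorem F403751 : act 4 n197258 = n134976 := d1_2 (iv4 F167048) D197258 (iv2 D134976)
theorem F403752 : act 6 n195300 = n197258 := d7_0 F403750 (iv6 D195302) (iv3 F396629)
def n197259 : Q := act 5 n108053
theorem D197259 : act 5 n108053 = n197259 := rfl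
theorem F403753 : act 3 n197259 = n108054 := d6_1 D197259 (iv5 D108054) D108053
theorem F403754 : act 4 n197115 = n197259 := d5_0 F403753 F167049 F320574 (iv4 F320575) D197115
theorem F403755 : act 0 n197238 = n197115 := d20_1 D197238 F403754 F403753 F167050 (iv3 F167053) (iv4 D49990) D49987 (iv4 F167218) F315119 (iv1 F366666)
def n197260 : Q := act 6 n108053
theorem D197260 : act 6 n108053 = n197260 := rfl
theorem F403756 : act 2 n197260 = n195300 := d3_1 D197260 F403752 (iv2 D197258)
theorem F403757 : act 3 n197260 = n108055 := d7_1 D197260 (iv6 D108055) D108053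
theorem F403758 : act 4 n197260 = n134971 := d10_1 D197260 F217188 (iv4 F167048)
theorem F403759 : act 5 n195299 = n197260 := d19_1 (iv1 F396627) F403758 (iv3 D134971) D134969 (iv5 F342842) (iv4 D141156) (iv3 F179747) F217255 F217253 (iv4 F228677) (iv3 F401554) (iv1 F401555) (iv5 D195465) (iv4 F163627) F163626 (iv1 F163677) F172122 (iv4 F396992) (iv3 D195431)
theorem F403760 : act 7 n197260 = n195435 := d13_2 (iv7 F396626) F403759 (iv5 D195435)
theorem F403761 : act 1 n195437 = n197260 := d15_1 D195437 F403760 F396994
theorem F403762 : act 1 n195389 = n195435 := d15_1 F400473 (iv7 F403760) F403756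
theorem F403763 : act 1 n197260 = n195436 := d15_0 (iv0 D195436) (iv7 F396630) (iv2 F403756)
def n197261 : Q := act 2 n108056
theorem D197261 : act 2 n108056 = n197261 := rfl
theorem F403764 : act 4 n197261 = n130543 := d1_2 (iv4 F167060) D197261 (iv2 D130543)
theorem F403765 : act 5 n197261 = n126770 := d2_2 F167126 D197261 (iv2 F204014)
theorem F403766 : act 7 n197261 = n195302 := d4_2 F344607 D197261 F396633
theorem F403767 : act 1 n197261 = n195424 := d15_0 (iv0 D195424) F344607 D197261
theorem F403768 : act 1 n195425 = n197261 := d15_0 F403767 (iv7 F396967) (iv2 F396970)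
theorem F403769 : act 4 n112254 = n195425 := d18_7 (iv1 D126770) F93890 D64203 D136573 F352946 F174599 D112254 F403768 F403765
theorem F403770 : act 3 n112254 = n130555 := d20_3 (iv4 F403764) (iv1 F403768) (iv4 F403769) (iv1 F211375) F211373 (iv4 F221653) (iv1 F245639) (iv4 F390791) F390790 (iv1 F214386)
theorem F403771 : act 2 n178869 = n112254 := d0_5 F403770 F245139 (iv3 F355485) (iv2 F201204) D178869
theorem F403772 : act 6 n195447 = n197261 := d14_5 F403766 (iv6 D195302) F161971 D105596 D195447
theorem F403773 : act 4 n195471 = n133345 := d18_1 D195471 (iv1 F214386) (iv4 F403764) F403765 (iv4 F219587) (iv0 F219588) (iv4 F222265) (iv0 F397081) (iv5 D195473)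
theorem F403774 : act 3 n195471 = n179906 := d19_3 D114421 (iv5 F361841) (iv4 F403773) F366580 F167229 F78987 F38221 (iv1 F18789) D14512 F24155 (iv3 F38076) F38078 (iv5 D14099) (iv4 F23551) (iv3 D14093) F10917 D12183 D25628 D52803
theorem F403775 : act 5 n179905 = n195471 := d6_0 F403774 (iv5 D179906) D179905
def n197262 : Q := act 6 n108056
theorem D197262 : act 6 n108056 = n197262 := rfl
theorem F403776 : act 2 n197262 = n195447 := d3_1 D197262 F403772 (iv2 D197261)
theorem F403777 : act 3 n197262 = n108058 := d7_1 D197262 (iv6 D108058) D108056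
theorem F403778 : act 4 n197262 = n130545 := d10_1 D197262 (iv6 D130545) (iv4 F167060)
theorem F403779 : act 7 n197262 = n195303 := d14_2 F344607 D197262 (iv6 D195303) F161985 D105579
theorem F403780 : act 1 n195445 = n197262 := d15_1 D195445 F403779 F396638
theorem F403781 : act 1 n197262 = n195444 := d15_0 (iv0 D195444) D195447 (iv2 F403776)
def n197263 : Q := act 6 n108057
theorem D197263 : act 6 n108057 = n197263 := rfl
theorem F403782 : act 4 n197263 = n137062 := d10_1 D197263 (iv6 D137062) (iv4 F167061)
def n197264 : Q := act 5 n108058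
theorem D197264 : act 5 n108058 = n197264 := rfl
theorem F403783 : act 2 n197264 = n195404 := d2_1 D197264 (iv5 D195404) (iv2 F167065)
theorem F403784 : act 7 n197264 = n195403 := d13_2 F167072 D197264 (iv5 D195403)
def n197265 : Q := act 4 n108059
theorem D197265 : act 4 n108059 = n197265 := rfl
theorem F403785 : act 2 n197265 = n136381 := d1_1 D197265 F403613 (iv2 F403617)
def n197266 : Q := act 6 n108059
theorem D197266 : act 6 n108059 = n197266 := rfl
theorem F403786 : act 2 n197266 = n195550 := d3_1 D197266 F403614 (iv2 F403617)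
theorem F403787 : act 3 n197266 = n113093 := d7_1 D197266 (iv6 D113093) (iv3 F167074)
theorem F403788 : act 5 n197266 = n195549 := d12_1 D197266 F397317 (iv5 D136314) F99691 (iv5 F167073)
def n197267 : Q := act 3 n108060
theorem D197267 : act 3 n108060 = n197267 := rfl
theorem F403789 : act 7 n197267 = n195555 := d8_2 (iv7 F403619) D197267 (iv3 F403615)
def n197268 : Q := act 5 n108060
theorem D197268 : act 5 n108060 = n197268 := rfl
theorem F403790 : act 2 n197268 = n113092 := d2_1 D197268 (iv5 F403609) F403620
theorem F403791 : act 7 n197268 = n113091 := d13_2 (iv7 F403619) D197268 (iv5 F403616)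
theorem F403792 : act 4 n197268 = n113104 := d17_4 F366549 (iv5 F403623) (iv1 F403626) D197268 (iv5 F178457) F178459 (iv5 F379515) (iv0 D130541) (iv4 F167060)
theorem F403793 : act 0 n113089 = n197268 := d19_0 (iv5 D197268) (iv4 F390558) (iv3 D193649) (iv1 D102162) D102163 (iv4 F367932) F367933 (iv1 F302880) (iv5 D58483) (iv4 D27829) F298936 F29779 (iv5 D6303) D6302 D13284 D27848 F313761 D108233 (iv3 F176176)
theorem F403794 : act 1 n113090 = n197268 := d15_0 (iv0 F403793) (iv7 F176178) (iv2 F176182)
def n197269 : Q := act 6 n108060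
theorem D197269 : act 6 n108060 = n197269 := rfl
theorem F403795 : act 0 n197269 = n195294 := d21_4 (iv5 F176179) F403793 (iv5 D197268) D197269 (iv6 D195294) (iv5 F336181) (iv1 D105581) (iv5 F344608) (iv6 F336212) (iv1 F204006)
def n197270 : Q := act 4 n108062
theorem D197270 : act 4 n108062 = n197270 := rfl
theorem F403796 : act 2 n197270 = n112253 := d1_1 D197270 (iv4 F396964) (iv2 F396966)
theorem F403797 : act 3 n197270 = n131916 := d5_1 D197270 F211370 (iv3 D74332) (iv4 F78964) (iv3 F167075)
theorem F403798 : act 7 n197270 = n112254 := d11_2 F396968 D197270 F403769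
theorem F403799 : act 0 n112225 = n197270 := d20_7 F167079 (iv1 F110974) (iv4 F164855) (iv3 F245163) (iv1 F397094) F397073 (iv4 F174522) (iv4 D197270) F167075 D108064
theorem F403800 : act 1 n112256 = n197270 := d15_1 F397096 F403798 (iv2 F403771)
def n197271 : Q := act 6 n108062
theorem D197271 : act 6 n108062 = n197271 := rfl
theorem F403801 : act 3 n197271 = n108065 := d7_1 D197271 (iv6 D108065) (iv3 F167075)
def n197272 : Q := act 0 n108063
theorem D197272 : act 0 n108063 = n197272 := rfl
def n197273 : Q := act 5 n108063
theorem D197273 : act 5 n108063 = n197273 := rfl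
theorem F403802 : act 3 n197273 = n108068 := d6_1 D197273 (iv5 D108068) (iv3 F167077)
def n197274 : Q := act 3 n108064
theorem D197274 : act 3 n108064 = n197274 := rfl
theorem F403803 : act 2 n197274 = n197267 := d0_1 D197274 (iv3 D197267) (iv2 F403620) F403610 F176193
theorem F403804 : act 4 n197274 = n197092 := d5_2 (iv4 F167079) D197274 (iv3 D197092) (iv4 F175917) F175916
theorem F403805 : act 5 n197274 = n108087 := d6_2 (iv5 F167078) D197274 (iv3 D108087)
theorem F403806 : act 7 n197274 = n111205 := d8_2 (iv7 F167081) D197274 F172463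
theorem F403807 : act 0 n197274 = n179946 := d20_10 (iv4 D179946) (iv1 F318487) (iv4 F167037) (iv3 D108049) F78936 (iv3 F111056) F111058 F110976 (iv4 F167079) D197274
theorem F403808 : act 1 n195555 = n179946 := d15_0 (iv0 F403807) F403806 (iv2 F397334)
theorem F403809 : act 5 n179946 = n197256 := d17_7 D134974 F340092 (iv1 F331630) (iv5 F331639) (iv4 F172462) (iv5 F397335) F403808 (iv0 D197256) F167048
theorem F403810 : act 6 n195412 = n195392 := d21_5 (iv5 F403809) (iv1 F403808) F397335 (iv6 F215917) F396931 F400470 (iv1 F396627) F403759 (iv6 D197260) D197256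
theorem F403811 : act 0 n179951 = n197274 := d20_1 D179951 F403804 (iv3 D197092) (iv1 D107640) (iv3 D49727) (iv4 D24252) D24251 D49723 D107628 F318486
def n197275 : Q := act 6 n108064
theorem D197275 : act 6 n108064 = n197275 := rfl
theorem F403812 : act 4 n197275 = n112967 := d10_1 D197275 (iv6 D112967) (iv4 F167079)
theorem F403813 : act 5 n141359 = n197275 := d16_1 F224409 F403812 (iv5 F206790) F206789 (iv5 F339018) (iv4 F339007) F339013 (iv7 F361582) (iv2 F361583)
theorem F403814 : act 0 n156283 = n197275 := d18_2 (iv1 F245150) D156283 F403812 (iv5 F206790) F206789 (iv0 F357032) (iv4 D115704) F179556 (iv5 F245148)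
theorem E103681 : n156283 = n155895 := ((c17_2 (iv1 D155894) D155895 F403814 (iv5 F403813) (iv4 F224409) F333276 F339003 (iv5 F231681) (iv0 F381022) F381024)).symm
theorem F403815 : act 0 n155895 = n197275 := (sb E103681 F403814)
theorem F403816 : act 4 n155895 = n74337 := (sb E103681 (iv4 D156283))
def n197276 : Q := act 0 n108065
theorem D197276 : act 0 n108065 = n197276 := rfl
def n197277 : Q := act 1 n108065
theorem D197277 : act 1 n108065 = n197277 := rfl
def n197278 : Q := act 5 n108065
theorem D197278 : act 5 n108065 = n197278 := rfl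
theorem F403817 : act 6 n197278 = n108068 := d12_2 D108065 D197278 (iv5 D108068) (iv6 D49910) D49909
theorem F403818 : act 4 n197278 = n172021 := d16_6 (iv4 F315046) D98465 F359546 (iv5 D156266) (iv4 F167083) D197278 (iv5 D172021) (iv7 F313122) F313121
def n197279 : Q := act 7 n108065
theorem D197279 : act 7 n108065 = n197279 := rfl
theorem F403819 : act 4 n197279 = n156267 := d11_1 D197279 (iv7 D156267) (iv4 F167083)
def n197280 : Q := act 3 n108066
theorem D197280 : act 3 n108066 = n197280 := rfl
theorem F403820 : act 6 n197280 = n184255 := d7_2 F167085 D197280 (iv3 F365055)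
theorem F403821 : act 0 n197280 = n156075 := d19_4 (iv1 F99720) (iv5 F111063) (iv4 F167084) D197280 (iv5 D156075) F111116 F53460 D74193 F110983 (iv4 F179261) F359553 (iv1 F374573) (iv5 F374577) (iv4 F369135) F220753 (iv1 F328963) (iv5 D102200) (iv4 F328961) (iv3 F99718)
def n197281 : Q := act 3 n108067
theorem D197281 : act 3 n108067 = n197281 := rfl
theorem F403822 : act 4 n197281 = n130593 := d5_2 (iv4 F167086) D197281 (iv3 D130593) (iv4 D61273) D61272
def n197282 : Q := act 6 n108067
theorem D197282 : act 6 n108067 = n197282 := rfl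
theorem F403823 : act 4 n197282 = n130592 := d10_1 D197282 (iv6 D130592) (iv4 F167086)
theorem F403824 : act 5 n197282 = n139823 := d12_1 D197282 (iv6 D139823) D139822 (iv6 F397035) F397031
theorem F403825 : act 7 n197282 = n195372 := d14_2 (iv7 F204167) D197282 (iv6 D195372) (iv7 F169291) F204166
def n197283 : Q := act 1 n108068
theorem D197283 : act 1 n108068 = n197283 := rfl
theorem F403826 : act 7 n197283 = n195449 := d15_2 (iv0 F396645) D197283 F397014
theorem F403827 : act 5 n197283 = n195305 := d17_7 (iv1 F166072) (iv5 F76976) F166073 F45660 (iv4 F78948) D108068 D197283 F396648 F162207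
theorem F403828 : act 2 n195452 = n197283 := d2_3 F403827 (iv2 F396651) D195452
theorem F403829 : act 4 n173280 = n197283 := d9_15 F403827 F396650 F165260 D107274 F348185 F304141 (iv5 F338740) (iv4 F227194) F396644 F396641 F165253 (iv4 F203791) F331900 F314818 D173280
def n197284 : Q := act 4 n108068
theorem D197284 : act 4 n108068 = n197284 := rfl
theorem F403830 : act 6 n197284 = n172021 := d10_2 F403817 D197284 (iv4 F403818)
def n197285 : Q := act 7 n108068
theorem D197285 : act 7 n108068 = n197285 := rfl
theorem F403831 : act 5 n197285 = n108069 := d13_1 D197285 (iv7 D108069) D108068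
theorem F403832 : act 1 n195452 = n197285 := d15_1 (iv0 F397030) (iv7 D197285) (iv2 F204174)
theorem F403833 : act 1 n197285 = n195449 := d15_1 F403832 (iv7 F403826) (iv2 F403828)
def n197286 : Q := act 3 n108070
theorem D197286 : act 3 n108070 = n197286 := rfl
theorem F403834 : act 4 n197286 = n197101 := d5_2 D108070 D197286 (iv3 D197101) (iv4 D107650) (iv3 F111406)
theorem F403835 : act 6 n197286 = n195377 := d7_2 (iv6 F167089) D197286 (iv3 D195377)
def n197287 : Q := act 0 n108072
theorem D197287 : act 0 n108072 = n197287 := rfl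
theorem F403836 : act 5 n197287 = n193385 := d17_1 D197287 (iv1 F389657) F343146 F167884 (iv5 F167193) F167381 (iv5 F167382) (iv0 D108076) (iv4 F167093)
theorem F403837 : act 3 n197287 = n192910 := d20_5 (iv4 F53572) F53570 D49915 D108072 D197287 F388187 (iv1 D111127) F80849 (iv3 D50067) (iv1 F48968)
theorem F403838 : act 2 n134826 = n197287 := d15_3 (iv0 D197287) (iv0 F167225) (iv7 F216973)
theorem F403839 : act 1 n134827 = n197287 := d15_0 (iv0 D197287) F167094 D134827
theorem F403840 : act 7 n197287 = n134825 := d15_2 F403605 F403839 (iv2 F216974)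
theorem F403841 : act 6 n192908 = n197287 := d7_0 F403837 (iv6 D192910) D192908
def n197288 : Q := act 2 n108072
theorem D197288 : act 2 n108072 = n197288 := rfl
theorem F403842 : act 3 n197288 = n134836 := d0_2 D108072 D197288 (iv2 D134836) (iv3 D63362) (iv2 F78954)
theorem F403843 : act 4 n197288 = n108078 := d1_2 (iv4 F167093) D197288 (iv2 D108078)
theorem F403844 : act 5 n197288 = n179744 := d2_2 F167919 D197288 (iv2 F366581)
theorem F403845 : act 7 n197288 = n134827 := d4_2 (iv7 F167094) D197288 (iv2 D134827)
theorem F403846 : act 1 n197288 = n134825 := d15_0 (iv0 D134825) (iv7 F167094) D197288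
theorem F403847 : act 1 n134826 = n197288 := d15_0 F403846 (iv7 F403840) (iv2 F403838)
def n197289 : Q := act 0 n108074
theorem D197289 : act 0 n108074 = n197289 := rfl
theorem F403848 : act 5 n197289 = n156215 := d17_1 D197289 (iv1 D156215) (iv5 F167148) D156193 (iv5 F403565) F403563 F403129 F402924 (iv4 F167099)
theorem F403849 : act 4 n197289 = n113195 := d18_3 (iv1 F351355) (iv4 F167099) D197289 (iv5 F347939) (iv4 F392673) F403136 (iv4 D197119) (iv0 F355513) F166933
theorem F403850 : act 3 n197289 = n196400 := d20_5 F110954 (iv1 F78927) D49917 D108074 D197289 (iv4 D196400) (iv1 D106944) (iv4 F110968) (iv3 D74189) D74187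
theorem F403851 : act 2 n115707 = n197289 := d15_3 (iv0 D197289) F355489 (iv7 F180043)
theorem F403852 : act 1 n115709 = n197289 := d15_0 (iv0 D197289) F167101 (iv2 F355509)
theorem F403853 : act 7 n197289 = n113192 := d15_2 D115709 F403852 F176355
theorem F403854 : act 6 n115291 = n197289 := d14_5 F403853 (iv6 D113192) F82606 D53188 D115291
def n197290 : Q := act 2 n108074
theorem D197290 : act 2 n108074 = n197290 := rfl
theorem F403855 : act 3 n197290 = n156234 := d0_2 D108074 D197290 (iv2 F245543) (iv3 F111523) (iv2 F95942)
theorem F403856 : act 4 n197290 = n179061 := d1_2 (iv4 F167099) D197290 (iv2 F362012)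
theorem F403857 : act 5 n197290 = n156262 := d2_2 (iv5 F167100) D197290 (iv2 D156262)
theorem F403858 : act 7 n197290 = n115709 := d4_2 (iv7 F167101) D197290 F355509
theorem F403859 : act 1 n197290 = n113192 := d15_0 F347951 (iv7 F167101) D197290
theorem F403860 : act 1 n115707 = n197290 := d15_0 F403859 (iv7 F403853) (iv2 F403851)
def n197291 : Q := act 6 n108074
theorem D197291 : act 6 n108074 = n197291 := rfl
theorem F403861 : act 3 n197291 = n108075 := d7_1 D197291 (iv6 D108075) D108074
theorem F403862 : act 4 n197291 = n197074 := d10_1 D197291 (iv6 D197074) (iv4 F167099)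
theorem F403863 : act 5 n192251 = n197291 := d16_1 (iv4 F386209) F403862 F402926 (iv4 F210715) (iv5 F227869) F227868 D146929 F386229 (iv2 D192259)
theorem F403864 : act 0 n197291 = n174510 := d20_7 (iv4 F330946) (iv1 D145337) F330932 (iv3 F330931) F166011 (iv3 F402925) (iv4 F403862) (iv4 D174510) F128511 D83407
def n197292 : Q := act 3 n108076
theorem D197292 : act 3 n108076 = n197292 := rfl
theorem F403865 : act 2 n197292 = n196413 := d0_1 D197292 F400631 F314337 F403594 (iv2 F403597)
theorem F403866 : act 7 n197292 = n196415 := d8_2 (iv7 F403591) D197292 (iv3 F403588)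
theorem F403867 : act 4 n197292 = n195880 := d20_6 (iv4 D49903) (iv1 F38150) D24345 D49919 D108076 D197292 (iv1 D195880) F163562 (iv3 D74221) (iv1 F78937)
theorem F403868 : act 6 n196625 = n197292 := d10_0 F403867 (iv6 F398585) D196625
def n197293 : Q := act 4 n108076
theorem D197293 : act 4 n108076 = n197293 := rfl
theorem F403869 : act 2 n197293 = n124827 := d1_1 D197293 F403595 (iv2 F403597)
theorem F403870 : act 5 n197293 = n193381 := d9_2 (iv5 F167382) D197293 (iv4 D193381) (iv5 F368312) F368313 (iv5 D139075) (iv4 F245503) (iv5 F167384) (iv4 F245642) (iv5 F389652) (iv4 D193383) (iv5 F312670) F217631 F215419 (iv4 F167380)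
def n197294 : Q := act 6 n108076
theorem D197294 : act 6 n108076 = n197294 := rfl
theorem F403871 : act 2 n197294 = n195396 := d3_1 D197294 (iv6 F403596) (iv2 F403597)
theorem F403872 : act 3 n197294 = n196625 := d7_1 D197294 F403868 (iv3 D197292)
theorem F403873 : act 0 n195398 = n197294 := d20_4 (iv4 D68271) (iv1 F76887) (iv4 F162146) (iv3 F396909) F403872 (iv4 D196625) (iv1 D107147) (iv4 F165113) F165112 F104419
theorem F403874 : act 1 n195391 = n197294 := d15_0 (iv0 F403873) (iv7 D195398) (iv2 F396906)
def n197295 : Q := act 6 n108077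
theorem D197295 : act 6 n108077 = n197295 := rfl
def n197296 : Q := act 6 n108078
theorem D197296 : act 6 n108078 = n197296 := rfl
theorem F403875 : act 2 n197296 = n108080 := d3_1 D197296 (iv6 D108080) D108078
def n197297 : Q := act 0 n108079
theorem D197297 : act 0 n108079 = n197297 := rfl
theorem F403876 : act 5 n197297 = n108107 := d17_1 D197297 (iv1 F403647) F403645 (iv4 D108233) (iv5 F313761) (iv0 D27848) D27851 D58543 (iv4 F312675)
theorem F403877 : act 4 n197297 = n108207 := d18_3 F311548 (iv4 F312675) D197297 (iv5 F312969) F232357 (iv0 D101539) F74499 (iv0 F155112) (iv5 F311550)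
theorem F403878 : act 5 n195437 = n140544 := d21_2 F403759 (iv1 F403761) F391427 F391428 (iv6 D108080) D108079 D197297 F403876 F387487 (iv1 F396627)
theorem F403879 : act 2 n179895 = n197297 := d15_3 (iv0 D197297) F312674 F280176
theorem F403880 : act 1 n125170 = n197297 := d15_0 (iv0 D197297) (iv7 F315132) (iv2 F201207)
theorem F403881 : act 7 n197297 = n157191 := d15_2 (iv0 F201209) F403880 F314337
theorem F403882 : act 2 n195387 = n195437 := d2_3 F403878 F223684 D195387
theorem F403883 : act 7 n195389 = n195437 := d13_0 F403878 F223682 D195389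
theorem F403884 : act 1 n195387 = n195300 := d15_0 F400473 F403883 (iv2 F403882)
theorem F403885 : act 2 n195389 = n195436 := d15_3 (iv0 D195436) D195437 (iv7 F403883)
theorem F403886 : act 5 n195436 = n195288 := d2_2 D195389 F403885 (iv2 F396587)
theorem F403887 : act 7 n195436 = n195387 := d4_2 (iv7 F403883) F403885 F403882
theorem F403888 : act 1 n195435 = n195387 := d15_1 F403762 (iv7 F403887) (iv2 F403885)
theorem F403889 : act 3 n196617 = n195436 := d6_3 F403886 F396586 D196617
theorem F403890 : act 0 n195388 = n197296 := d21_4 D195300 (iv1 F403884) (iv5 D195387) D195388 (iv6 D197296) F317328 D179895 (iv5 F403636) F403640 F224914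
theorem F403891 : act 1 n195388 = n144448 := d15_1 (iv0 F403890) F227245 (iv2 F403875)
theorem F403892 : act 5 n144448 = n192270 := d17_7 D99951 (iv5 F361849) F391409 (iv5 D193924) D193923 F396905 F403891 (iv0 D192270) (iv4 D99953)
theorem F403893 : act 3 n192270 = n144449 := d6_1 F403892 (iv5 D144449) D144448
def n197298 : Q := act 0 n108080
theorem D197298 : act 0 n108080 = n197298 := rfl
def n197299 : Q := act 5 n108080
theorem D197299 : act 5 n108080 = n197299 := rfl
theorem F403894 : act 3 n197299 = n108083 := d6_1 D197299 (iv5 D108083) (iv3 F167108)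
theorem F403895 : act 7 n197299 = n192270 := d13_2 F227245 D197299 (iv5 F403892)
theorem F403896 : act 0 n192168 = n197299 := d19_0 (iv5 D197299) (iv4 F223629) (iv3 D140449) F341275 (iv5 D84829) (iv4 D39240) F29835 (iv1 F29833) F43137 (iv4 F57635) D80549 (iv1 F155461) F106349 D149065 (iv3 F361275) F361279 (iv5 F157060) D193654 F390572
theorem F403897 : act 5 n197298 = n137837 := d17_3 F403896 (iv5 D197299) D197298 (iv4 D137837) D137838 F365471 D189600 F377074 D192168
theorem F403898 : act 2 n192271 = n197299 := d15_3 (iv0 F403896) F385840 (iv7 F386257)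
theorem F403899 : act 1 n192264 = n197299 := d15_0 (iv0 F403896) F385839 (iv2 F386237)
theorem F403900 : act 5 n197296 = n192271 := d2_0 F403898 (iv5 D197299) (iv2 F403875)
theorem F403901 : act 4 n194964 = n197298 := d9_15 F403897 (iv4 D137837) D137838 (iv4 F370020) F370021 D194852 F394755 (iv4 F391426) (iv5 D193929) (iv4 D102485) D102486 (iv4 F157428) F137942 D104812 D194964
theorem F403902 : act 7 n195388 = n197298 := d13_0 F403897 (iv7 F391402) F396905
def n197300 : Q := act 0 n108081
theorem D197300 : act 0 n108081 = n197300 := rfl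
theorem F403903 : act 5 n197300 = n192428 := d19_1 D197300 F386710 F154125 D100181 (iv5 F384758) (iv4 D191371) F151417 (iv1 F301691) (iv5 D84555) F60026 F29698 F13715 D8815 (iv4 F30062) (iv3 F60603) (iv1 F155242) D118110 (iv4 F241373) F366511
def n197301 : Q := act 1 n108081
theorem D197301 : act 1 n108081 = n197301 := rfl
def n197302 : Q := act 5 n108081
theorem D197302 : act 5 n108081 = n197302 := rfl
theorem F403904 : act 6 n197302 = n108083 := d12_2 D108081 D197302 (iv5 D108083) (iv6 D49921) D49920
def n197303 : Q := act 7 n108081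
theorem D197303 : act 7 n108081 = n197303 := rfl
theorem F403905 : act 3 n197303 = n118240 := d8_1 D197303 F241376 F366511
theorem F403906 : act 4 n197303 = n156259 := d11_1 D197303 (iv7 D156259) (iv4 F167109)
def n197304 : Q := act 3 n108082
theorem D197304 : act 3 n108082 = n197304 := rfl
theorem F403907 : act 4 n197304 = n157241 := d5_2 (iv4 F167110) D197304 (iv3 D157241) F112212 (iv3 F164859)
theorem F403908 : act 7 n197304 = n195354 := d8_2 F167111 D197304 F396810
def n197305 : Q := act 5 n108082
theorem D197305 : act 5 n108082 = n197305 := rfl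
theorem F403909 : act 7 n197305 = n195356 := d13_2 F167111 D197305 (iv5 D195356)
def n197306 : Q := act 6 n108082
theorem D197306 : act 6 n108082 = n197306 := rfl
theorem F403910 : act 2 n197306 = n195350 := d3_1 D197306 F396796 F222616
theorem F403911 : act 4 n197306 = n109273 := d10_1 D197306 F169273 (iv4 F167110)
theorem F403912 : act 7 n197306 = n109270 := d14_2 F167111 D197306 (iv6 D109270) F79794 D105539
theorem F403913 : act 1 n195342 = n197306 := d15_1 (iv0 F396767) F403912 F169261
theorem F403914 : act 1 n197306 = n195341 := d15_1 F403913 F396762 (iv2 F396764)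
def n197307 : Q := act 0 n108083
theorem D197307 : act 0 n108083 = n197307 := rfl
theorem F403915 : act 5 n197307 = n195427 := d17_3 F101148 D108083 D197307 F396981 (iv5 F217834) (iv0 D135472) F99022 (iv0 F78149) (iv4 F101147)
def n197308 : Q := act 1 n108083
theorem D197308 : act 1 n108083 = n197308 := rfl
def n197309 : Q := act 4 n108083
theorem D197309 : act 4 n108083 = n197309 := rfl
def n197310 : Q := act 5 n108084
theorem D197310 : act 5 n108084 = n197310 := rfl
theorem F403916 : act 3 n197310 = n110943 := d6_1 D197310 (iv5 D110943) F167113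
theorem F403917 : act 6 n197310 = n194266 := d12_2 (iv6 F167112) D197310 F392577 F166288 F94078
theorem F403918 : act 7 n197310 = n126316 := d13_2 (iv7 F167117) D197310 F203111
theorem F403919 : act 0 n197310 = n126185 := d17_2 D108084 D197310 F203877 (iv4 F203879) D136813 (iv0 F246404) (iv5 D156668) (iv0 F166184) F99394
theorem F403920 : act 4 n194267 = n197310 := d10_3 F403917 (iv4 D194266) D194267
def n197311 : Q := act 5 n108085
theorem D197311 : act 5 n108085 = n197311 := rfl
theorem F403921 : act 2 n197311 = n126316 := d2_1 D197311 F203111 F176834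
theorem F403922 : act 3 n197311 = n139280 := d6_1 D197311 (iv5 F223577) (iv3 F223582)
theorem F403923 : act 1 n197311 = n126185 := d17_6 F169552 F375832 F390638 (iv5 D136497) (iv4 F167118) D197311 F203877 F203874 F104287
theorem F403924 : act 6 n197311 = n110338 := d21_3 D113650 F176830 D197311 (iv1 D110338) (iv6 D50881) (iv5 D24745) F19057 D12104 D25466 D52472
def n197312 : Q := act 6 n108085
theorem D197312 : act 6 n108085 = n197312 := rfl
theorem F403925 : act 2 n197312 = n196997 := d3_1 D197312 F402615 F176834
theorem F403926 : act 3 n197312 = n192282 := d7_1 D197312 F386282 (iv3 F223582)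
theorem F403927 : act 4 n197312 = n136498 := d10_1 D197312 (iv6 D136498) (iv4 F167118)
theorem F403928 : act 7 n197312 = n137595 := d14_2 F201762 D197312 (iv6 D137595) (iv7 F166471) (iv6 F201759)
theorem F403929 : act 0 n197312 = n125980 := d21_4 (iv5 F203877) (iv1 F403923) (iv5 D197311) D197312 (iv6 F212786) (iv5 D132565) F203327 (iv5 F165742) F165743 (iv1 F203874)
theorem F403930 : act 5 n197312 = n137255 := d21_6 (iv5 F111432) (iv1 F176290) (iv5 F217028) F217029 F176830 D197312 F220397 F170721 (iv6 F162027) (iv1 F162028)
def n197313 : Q := act 0 n108087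
theorem D197313 : act 0 n108087 = n197313 := rfl
theorem F403931 : act 5 n197313 = n179222 := d17_3 F403811 F403805 D197313 (iv4 D179222) (iv5 F350975) (iv0 D159037) F113849 D85989 D179951
theorem F403932 : act 3 n197313 = n179222 := d20_5 (iv4 D34069) (iv1 F39094) (iv4 F78969) D108087 D197313 (iv4 D179222) F321286 (iv4 F78896) (iv3 D49892) (iv1 F53475)
theorem F403933 : act 1 n111204 = n197313 := d15_0 (iv0 D197313) F167123 D111204
def n197314 : Q := act 1 n108087
theorem D197314 : act 1 n108087 = n197314 := rfl
def n197315 : Q := act 2 n108087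
theorem D197315 : act 2 n108087 = n197315 := rfl
theorem F403934 : act 3 n197315 = n197268 := d0_2 D108087 D197315 F403790 F176188 F82527
theorem F403935 : act 4 n197315 = n111240 := d1_2 (iv4 F167122) D197315 (iv2 F172545)
theorem F403936 : act 5 n197315 = n197267 := d2_2 F403805 D197315 (iv2 F403803)
theorem F403937 : act 7 n197315 = n111204 := d4_2 (iv7 F167123) D197315 (iv2 D111204)
theorem F403938 : act 1 n197315 = n111202 := d15_0 (iv0 D111202) (iv7 F167123) D197315
theorem F403939 : act 1 n197314 = n111204 := d15_1 D197314 (iv7 F403937) (iv2 D197315)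
theorem F403940 : act 5 n179227 = n197314 := d17_5 (iv1 F318487) F318489 (iv1 F339409) F330654 D179227 F403939 (iv5 F397335) F403808 (iv4 D179946)
theorem F403941 : act 1 n111203 = n197315 := d15_1 D111203 F403937 (iv2 D111204)
def n197316 : Q := act 6 n108087
theorem D197316 : act 6 n108087 = n197316 := rfl
theorem F403942 : act 3 n197316 = n108088 := d7_1 D197316 (iv6 D108088) D108087
theorem F403943 : act 4 n197316 = n111258 := d10_1 D197316 (iv6 D111258) (iv4 F167122)
theorem F403944 : act 7 n197316 = n195414 := d14_2 (iv7 F167123) D197316 (iv6 D195414) F162169 F98194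
def n197317 : Q := act 5 n108088
theorem D197317 : act 5 n108088 = n197317 := rfl
theorem F403945 : act 6 n197317 = n141359 := d12_2 D108088 D197317 F403813 (iv6 D197275) F167078
theorem F403946 : act 7 n197317 = n195415 := d13_2 (iv7 F167125) D197317 (iv5 D195415)
theorem F403947 : act 1 n197317 = n140999 := d17_6 F180046 (iv5 D115720) (iv1 F168329) F80908 (iv4 F167124) D197317 (iv5 F351844) (iv0 F396846) F396844
def n197318 : Q := act 4 n108089
theorem D197318 : act 4 n108089 = n197318 := rfl
theorem F403948 : act 2 n197318 = n136467 := d1_1 D197318 F219587 (iv2 F204014)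
theorem F403949 : act 3 n197318 = n160318 := d5_1 D197318 F344868 (iv3 D137061) (iv4 F167061) (iv3 F167127)
theorem F403950 : act 7 n197318 = n139097 := d11_2 (iv7 F204007) D197318 (iv4 F222283)
theorem F403951 : act 0 n197318 = n139101 := d20_1 D197318 F222289 (iv3 D108136) (iv1 D49945) (iv3 D24355) (iv4 D11477) D11475 D24348 D49925 D108089
theorem F403952 : act 6 n152622 = n197318 := d7_0 F403949 (iv6 D160318) (iv3 F311976)
def n197319 : Q := act 6 n108089
theorem D197319 : act 6 n108089 = n197319 := rfl
theorem F403953 : act 3 n197319 = n197263 := d7_1 D197319 (iv6 D197263) (iv3 F167127)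
theorem F403954 : act 4 n197319 = n152622 := d10_1 D197319 F403952 (iv4 D197318)
theorem F403955 : act 7 n197319 = n195417 := d14_2 (iv7 F204007) D197319 (iv6 D195417) (iv7 F218968) (iv6 F336212)
theorem F403956 : act 5 n193414 = n197319 := d13_3 F403955 F396946 (iv7 F389780)
theorem F403957 : act 0 n195529 = n197319 := d18_2 (iv1 F362502) (iv4 F397230) F403954 (iv5 D152622) (iv4 D71998) D71997 (iv4 F308201) F362500 (iv5 D137789)
def n197320 : Q := act 3 n108090
theorem D197320 : act 3 n108090 = n197320 := rfl
theorem F403958 : act 2 n197320 = n197259 := d0_1 D197320 F403753 F167168 (iv3 F204005) F204016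
theorem F403959 : act 5 n197320 = n197258 := d6_2 F396635 D197320 F403750
theorem F403960 : act 6 n197320 = n195418 := d7_2 F336214 D197320 (iv3 D195418)
def n197321 : Q := act 4 n108090
theorem D197321 : act 4 n108090 = n197321 := rfl
theorem F403961 : act 2 n197321 = n139097 := d1_1 D197321 (iv4 F222283) F204016
theorem F403962 : act 6 n197321 = n136063 := d10_2 F336214 D197321 F218961
theorem F403963 : act 7 n197321 = n136467 := d11_2 (iv7 F204015) D197321 F219587
theorem F403964 : act 3 n197321 = n115388 := d19_3 (iv1 F396637) F396635 D197321 (iv1 F179692) D136476 F366168 F304333 (iv1 D55470) (iv5 D26788) F21269 F9418 D6065 D12829 D26832 F310465 (iv1 F79087) (iv5 F312666) D85958 D179897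
theorem F403965 : act 0 n139101 = n197321 := d20_10 (iv4 D197321) (iv1 D108090) (iv4 F99389) (iv3 D63902) (iv1 F48460) (iv3 F48634) F48635 (iv1 F210264) (iv4 F101030) (iv3 F222288)
theorem F403966 : act 0 n197320 = n179227 := d20_10 (iv4 D179227) (iv1 D85532) D85534 (iv3 F315119) (iv1 F167220) D108136 (iv4 F222289) F403965 (iv4 D197321) D197320
theorem F403967 : act 1 n139098 = n197321 := d15_0 (iv0 F403965) (iv7 D139101) D139098
theorem F403968 : act 1 n197318 = n139098 := d15_0 F403967 F403963 (iv2 F403948)
def n197322 : Q := act 6 n108091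
theorem D197322 : act 6 n108091 = n197322 := rfl
theorem F403969 : act 2 n197322 = n108093 := d3_1 D197322 (iv6 D108093) D108091
def n197323 : Q := act 6 n108092
theorem D197323 : act 6 n108092 = n197323 := rfl
theorem F403970 : act 3 n197323 = n108096 := d7_1 D197323 (iv6 D108096) (iv3 F167128)
def n197324 : Q := act 0 n108093
theorem D197324 : act 0 n108093 = n197324 := rfl
def n197325 : Q := act 1 n108093
theorem D197325 : act 1 n108093 = n197325 := rfl
def n197326 : Q := act 5 n108093
theorem D197326 : act 5 n108093 = n197326 := rfl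
theorem F403971 : act 3 n197326 = n108099 := d6_1 D197326 (iv5 D108099) (iv3 F167129)
def n197327 : Q := act 7 n108093
theorem D197327 : act 7 n108093 = n197327 := rfl
theorem F403972 : act 3 n197327 = n108100 := d8_1 D197327 (iv7 D108100) (iv3 F167129)
def n197328 : Q := act 3 n108094
theorem D197328 : act 3 n108094 = n197328 := rfl
theorem F403973 : act 5 n197328 = n136780 := d6_2 (iv5 F167130) D197328 (iv3 D136780)
theorem F403974 : act 7 n197328 = n197259 := d8_2 F167163 D197328 F403753
theorem F403975 : act 0 n197328 = n179222 := d20_10 (iv4 D179222) F321286 (iv4 F78896) (iv3 D49892) (iv1 F53475) (iv3 F100352) (iv4 D64432) D64430 (iv4 F167131) D197328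
theorem F403976 : act 1 n197320 = n179222 := d15_0 (iv0 F403975) F403974 (iv2 F403958)
theorem F403977 : act 0 n179227 = n197328 := d17_2 (iv1 F403939) (iv5 F403940) F403973 F219997 F329113 D123536 (iv5 F356861) F210276 (iv4 F172462)
def n197329 : Q := act 6 n108094
theorem D197329 : act 6 n108094 = n197329 := rfl
theorem F403978 : act 2 n197329 = n197263 := d3_1 D197329 (iv6 D197263) F167162
theorem F403979 : act 4 n197329 = n137064 := d10_1 D197329 (iv6 D137064) (iv4 F167131)
def n197330 : Q := act 0 n108096
theorem D197330 : act 0 n108096 = n197330 := rfl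
def n197331 : Q := act 1 n108096
theorem D197331 : act 1 n108096 = n197331 := rfl
def n197332 : Q := act 5 n108096
theorem D197332 : act 5 n108096 = n197332 := rfl
theorem F403980 : act 6 n197332 = n108099 := d12_2 D108096 D197332 (iv5 D108099) (iv6 D49927) D49926
def n197333 : Q := act 7 n108096
theorem D197333 : act 7 n108096 = n197333 := rfl
theorem F403981 : act 4 n197333 = n156209 := d11_1 D197333 (iv7 D156209) (iv4 F167169)
def n197334 : Q := act 3 n108097
theorem D197334 : act 3 n108097 = n197334 := rfl
theorem F403982 : act 6 n197334 = n195451 := d7_2 F167171 D197334 (iv3 D195451)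
def n197335 : Q := act 5 n108097
theorem D197335 : act 5 n108097 = n197335 := rfl
def n197336 : Q := act 3 n108098
theorem D197336 : act 3 n108098 = n197336 := rfl
def n197337 : Q := act 5 n108098
theorem D197337 : act 5 n108098 = n197337 := rfl
def n197338 : Q := act 6 n108098
theorem D197338 : act 6 n108098 = n197338 := rfl
theorem F403983 : act 4 n197338 = n156111 := d10_1 D197338 (iv6 D156111) (iv4 F171181)
theorem F403984 : act 7 n197338 = n195450 := d14_2 F403657 D197338 (iv6 D195450) (iv7 F396649) (iv6 F403656)
theorem F403985 : act 5 n195405 = n197338 := d21_2 D105567 D195405 (iv6 D197338) (iv1 D108098) (iv6 D49927) D49926 D108094 F167130 (iv6 F162144) (iv1 D105566)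
theorem F403986 : act 1 n197338 = n125990 := d17_8 F170642 (iv5 D68299) F166176 F80299 D68270 D145641 F396918 F403985 (iv4 D125990)
theorem F403987 : act 1 n125984 = n197338 := d18_6 (iv1 F327217) (iv4 F161144) (iv1 F202619) (iv4 D58988) D58989 D125984 F403983 (iv0 F245306) F327225
def n197339 : Q := act 1 n108099
theorem D197339 : act 1 n108099 = n197339 := rfl
theorem F403988 : act 5 n197339 = n197306 := d17_7 F162043 F82274 (iv1 F39870) F38826 (iv4 F78973) D108099 D197339 F403914 (iv4 D195341)
def n197340 : Q := act 4 n108099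
theorem D197340 : act 4 n108099 = n197340 := rfl
def n197341 : Q := act 7 n108099
theorem D197341 : act 7 n108099 = n197341 := rfl
theorem F403989 : act 5 n197341 = n108100 := d13_1 D197341 (iv7 D108100) D108099
def n197342 : Q := act 3 n108101
theorem D197342 : act 3 n108101 = n197342 := rfl
theorem F403990 : act 4 n197342 = n197129 := d5_2 D108101 D197342 (iv3 D197129) (iv4 D107681) F166133
theorem F403991 : act 6 n197342 = n195458 := d7_2 (iv6 F167174) D197342 (iv3 D195458)
def n197343 : Q := act 5 n108101
theorem D197343 : act 5 n108101 = n197343 := rfl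
theorem F403992 : act 2 n197343 = n197155 := d2_1 D197343 (iv5 D197155) (iv2 F167173)
def n197344 : Q := act 5 n108103
theorem D197344 : act 5 n108103 = n197344 := rfl
theorem F403993 : act 7 n197344 = n197155 := d13_2 (iv7 F167178) D197344 (iv5 D197155)
def n197345 : Q := act 6 n108104
theorem D197345 : act 6 n108104 = n197345 := rfl
theorem F403994 : act 2 n197345 = n134845 := d3_1 D197345 (iv6 D134845) F171587
theorem F403995 : act 4 n197345 = n138771 := d10_1 D197345 (iv6 D138771) F167848
theorem F403996 : act 5 n197345 = n123642 := d12_1 D197345 F328653 (iv5 F386343) (iv6 D192295) F329707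
theorem F403997 : act 0 n197345 = n128820 := d21_4 (iv5 F78617) (iv1 F329704) F329707 D197345 F207086 D134870 F217055 F216983 (iv6 D108717) (iv1 D50199)
theorem F403998 : act 0 n128819 = n197345 := d21_4 (iv5 D59136) D59134 D126169 (iv6 F207085) (iv6 D197345) (iv5 F329707) F329703 F171643 F167977 (iv1 F93312)
def n197346 : Q := act 3 n108107
theorem D197346 : act 3 n108107 = n197346 := rfl
theorem F403999 : act 2 n197346 = n196441 := d0_1 D197346 F400681 F246689 F403637 F403639
theorem F404000 : act 4 n197346 = n125484 := d5_2 F387486 D197346 (iv3 F387501) (iv4 D192690) (iv3 F387484)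
theorem F404001 : act 6 n197346 = n195431 := d7_2 (iv6 F387487) D197346 (iv3 D195431)
theorem F404002 : act 7 n197346 = n196443 := d8_2 F403641 D197346 (iv3 F403630)
def n197347 : Q := act 6 n108108
theorem D197347 : act 6 n108108 = n197347 := rfl
theorem F404003 : act 2 n197347 = n145652 := d3_1 D197347 F403633 (iv2 F403632)
theorem F404004 : act 5 n197347 = n195525 := d12_1 D197347 (iv6 D195525) D195524 (iv6 F397217) (iv5 F343143)
theorem F404005 : act 7 n197347 = n195434 := d14_2 F403635 D197347 (iv6 D195434) (iv7 F224913) (iv6 F403640)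
theorem E103682 : n195434 = n145653 := ((c15_2 (iv0 D145652) D145653 (iv7 F404005) F404003)).symm
theorem F404006 : act 6 n145653 = n105592 := (sb E103682 (iv6 D195434))
theorem F404007 : act 7 n145653 = n197347 := (sb E103682 (iv7 F404005))
theorem F404008 : act 0 n145643 = n197347 := d17_2 F104419 D145643 F404004 F397220 F245604 F172663 (iv5 F162151) (iv0 D49493) (iv4 F78244)
theorem F404009 : act 1 n117098 = n197347 := d17_6 F175513 (iv5 D58994) (iv1 D28032) (iv5 F41276) D53962 D117098 F404004 (iv0 F401597) F401596
def n197348 : Q := act 6 n108109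
theorem D197348 : act 6 n108109 = n197348 := rfl
theorem F404010 : act 2 n197348 = n108111 := d3_1 D197348 (iv6 D108111) D108109
theorem F404011 : act 5 n197348 = n150048 := d12_1 D197348 (iv6 D150048) (iv5 D70594) F315167 F167193
def n197349 : Q := act 0 n108111
theorem D197349 : act 0 n108111 = n197349 := rfl
theorem F404012 : act 2 n150036 = n197349 := d15_3 (iv0 D197349) (iv0 F366397) F242903
def n197350 : Q := act 5 n108111
theorem D197350 : act 5 n108111 = n197350 := rfl
theorem F404013 : act 2 n197350 = n150048 := d2_1 D197350 (iv5 F404011) F404010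
theorem F404014 : act 3 n197350 = n108115 := d6_1 D197350 (iv5 D108115) (iv3 F167194)
theorem F404015 : act 6 n197350 = n118168 := d12_2 D108111 D197350 (iv5 D118168) (iv6 F315140) (iv5 D108110)
def n197351 : Q := act 7 n108111
theorem D197351 : act 7 n108111 = n197351 := rfl
theorem F404016 : act 3 n197351 = n108116 := d8_1 D197351 (iv7 D108116) (iv3 F167194)
theorem F404017 : act 0 n150036 = n197351 := d20_4 F104148 F105563 (iv4 F107060) D150036 F404016 F167198 F321599 (iv4 F104150) (iv3 D68025) D68023
def n197352 : Q := act 0 n108112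
theorem D197352 : act 0 n108112 = n197352 := rfl
def n197353 : Q := act 1 n108112
theorem D197353 : act 1 n108112 = n197353 := rfl
def n197354 : Q := act 5 n108112
theorem D197354 : act 5 n108112 = n197354 := rfl
theorem F404018 : act 3 n197354 = n118168 := d6_1 D197354 (iv5 D118168) (iv3 F366545)
theorem F404019 : act 6 n197354 = n108115 := d12_2 D108112 D197354 (iv5 D108115) (iv6 D49934) D49933
def n197355 : Q := act 7 n108112
theorem D197355 : act 7 n108112 = n197355 := rfl
theorem F404020 : act 3 n197355 = n117180 := d8_1 D197355 F183333 (iv3 F366545)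
theorem F404021 : act 4 n197355 = n156181 := d11_1 D197355 (iv7 D156181) (iv4 F167195)
def n197356 : Q := act 5 n108113
theorem D197356 : act 5 n108113 = n197356 := rfl
theorem F404022 : act 2 n197356 = n195373 := d2_1 D197356 F396848 (iv2 F203990)
theorem F404023 : act 7 n197356 = n195374 := d13_2 F203994 D197356 F396851
theorem F404024 : act 0 n197356 = n195376 := d17_2 D108113 D197356 F396857 F162086 (iv5 F162119) F162122 F101920 F101918 (iv4 F78978)
theorem F404025 : act 1 n197356 = n195292 := d17_6 (iv1 F111291) D50430 D109281 F169295 (iv4 F175796) D197356 (iv5 D195292) F162089 (iv4 D65518)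
theorem F404026 : act 6 n192474 = n197356 := d21_9 F396857 (iv1 F162088) D139597 (iv6 F351853) (iv1 D145122) D145124 (iv5 F386768) (iv1 D192472) D192474 F404024
def n197357 : Q := act 6 n108113
theorem D197357 : act 6 n108113 = n197357 := rfl
theorem F404027 : act 4 n197357 = n136776 := d10_1 D197357 (iv6 D136776) (iv4 F175796)
theorem F404028 : act 5 n197357 = n192475 := d12_1 D197357 (iv6 D192475) D192474 F404026 (iv5 D197356)
theorem F404029 : act 7 n197357 = n195427 := d14_2 F203994 D197357 (iv6 D195427) F336182 (iv6 F360492)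
theorem F404030 : act 0 n197357 = n195530 := d21_4 D195292 (iv1 F404025) (iv5 D197356) D197357 (iv6 D195530) (iv5 F351843) (iv1 F228671) (iv5 F351845) (iv6 D139598) (iv1 F162089)
theorem F404031 : act 0 n192475 = n144447 := d21_7 (iv5 F167130) (iv1 F167132) (iv5 D49933) D49934 D108113 D197357 F404028 (iv5 D144447) F103719 (iv1 F100141)
theorem F404032 : act 1 n192475 = n144449 := d15_1 (iv0 F404031) F227246 (iv2 F227244)
theorem F404033 : act 4 n156075 = n192476 := d18_5 F162069 F162068 F78236 (iv4 F111116) D156075 (iv0 D192476) (iv4 F386771) F404032 (iv5 D144449)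
theorem F404034 : act 7 n197307 = n192475 := d13_2 F404029 (iv5 F403915) (iv5 F404028)
theorem F404035 : act 5 n129106 = n191840 := d16_3 F224325 (iv5 F213964) (iv4 F213967) F384568 (iv5 F154147) (iv4 F386771) (iv5 F404028) F404029 F396979
theorem F404036 : act 4 n192478 = n197307 := d11_3 F404034 F386771 D192478
theorem F404037 : act 3 n192552 = n197309 := d20_5 F172343 F374447 F374444 (iv3 F356754) (iv1 F387040) (iv4 D197309) D197307 (iv4 F404036) F386772 F374448
def n197358 : Q := act 3 n108114
theorem D197358 : act 3 n108114 = n197358 := rfl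
theorem F404038 : act 4 n197358 = n156715 := d5_2 (iv4 F167196) D197358 (iv3 D156715) (iv4 D74527) F102190
theorem F404039 : act 6 n197358 = n195426 := d7_2 F167197 D197358 (iv3 D195426)
def n197359 : Q := act 5 n108114
theorem D197359 : act 5 n108114 = n197359 := rfl
theorem F404040 : act 2 n197359 = n195374 := d2_1 D197359 F396851 (iv2 F203996)
theorem F404041 : act 7 n197359 = n195373 := d13_2 (iv7 F203991) D197359 F396848
theorem F404042 : act 0 n197359 = n195292 := d17_2 (iv1 F204003) D197359 (iv5 D195292) F161957 F76802 D49754 (iv5 F93885) F93884 (iv4 F204001)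
theorem F404043 : act 1 n197359 = n195376 := d17_6 (iv1 F84024) (iv5 F167746) (iv1 F167748) F100493 (iv4 F167196) D197359 F396857 (iv0 F169292) (iv4 D109280)
def n197360 : Q := act 4 n108115
theorem D197360 : act 4 n108115 = n197360 := rfl
theorem F404044 : act 0 n197360 = n144721 := d18_2 F396839 D197360 (iv4 D144721) (iv5 D67820) (iv4 D31497) D31495 D67812 F162084 D195370
theorem F404045 : act 1 n197360 = n155791 := d18_6 (iv1 F219995) (iv4 D108117) (iv1 D49936) (iv4 F78978) D108115 D197360 (iv4 F396865) F396867 F227560
def n197361 : Q := act 7 n108115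
theorem D197361 : act 7 n108115 = n197361 := rfl
theorem F404046 : act 5 n197361 = n108116 := d13_1 D197361 (iv7 D108116) D108115
theorem F404047 : act 0 n139597 = n197361 := d17_2 (iv1 F162088) D139597 F404046 F167198 (iv5 F101932) (iv0 F101939) F101941 (iv0 F101937) (iv4 F162086)
def n197362 : Q := act 3 n108117
theorem D197362 : act 3 n108117 = n197362 := rfl
theorem F404048 : act 2 n197362 = n120063 := d0_1 D197362 F189649 F94951 D68025 (iv2 F323288)
theorem F404049 : act 4 n197362 = n120062 := d5_2 D108117 D197362 F189644 F321638 F101890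
theorem F404050 : act 6 n197362 = n139825 := d7_2 (iv6 F167200) D197362 (iv3 F336170)
theorem F404051 : act 7 n197362 = n155787 := d8_2 F203982 D197362 F366456
theorem F404052 : act 0 n197362 = n155790 := d20_4 F204001 (iv1 F93884) D108117 D197362 F365605 (iv4 D103211) D103209 D194322 F392823 (iv1 F204004)
theorem F404053 : act 0 n195375 = n155890 := d17_2 F404052 (iv5 F396854) (iv5 D155890) F110862 F53337 D74117 F324692 F189648 (iv4 F404049)
theorem F404054 : act 5 n144721 = n197362 := d17_1 F404044 F404052 (iv5 F396854) (iv4 D195375) (iv5 D105549) D105548 D195371 F396841 D197360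
theorem F404055 : act 1 n197362 = n155789 := d15_1 (iv0 F404052) F403691 F403689
def n197363 : Q := act 5 n108117
theorem D197363 : act 5 n108117 = n197363 := rfl
theorem F404056 : act 2 n197363 = n145119 := d2_1 D197363 (iv5 D145119) (iv2 F323288)
theorem F404057 : act 3 n197363 = n144721 := d6_1 D197363 F404054 (iv3 D197362)
theorem F404058 : act 0 n197363 = n115297 := d17_2 (iv1 F219995) D197363 (iv5 D115297) F84016 (iv5 F79314) (iv0 F164924) (iv5 F164920) F100136 (iv4 F219993)
def n197364 : Q := act 4 n108118
theorem D197364 : act 4 n108118 = n197364 := rfl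
theorem F404059 : act 5 n197364 = n121276 := d18_4 (iv1 D125484) F92835 D108118 D197364 (iv4 F256104) F298089 F135925 (iv0 F257770) (iv5 F344465)
theorem F404060 : act 6 n140684 = n197364 := d12_0 F404059 F256105 (iv5 F341303) F173796 D140684
def n197365 : Q := act 6 n108118
theorem D197365 : act 6 n108118 = n197365 := rfl
theorem F404061 : act 4 n197365 = n140684 := d10_1 D197365 F404060 (iv4 D197364)
theorem F404062 : act 7 n197365 = n195462 := d14_2 F397085 D197365 (iv6 D195462) F172169 (iv6 F397084)
theorem F404063 : act 0 n195520 = n197365 := d18_2 F331099 (iv4 F397205) F404061 (iv5 D140684) (iv4 D66009) F81084 (iv4 F172827) F172830 (iv5 F331101)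
def n197366 : Q := act 3 n108119
theorem D197366 : act 3 n108119 = n197366 := rfl
theorem F404064 : act 2 n197366 = n195517 := d0_1 D197366 F397200 (iv2 F397076) F397082 F397088
theorem F404065 : act 4 n197366 = n194632 := d5_2 F400745 D197366 (iv3 D194632) F357666 D196459
theorem F404066 : act 6 n197366 = n195322 := d7_2 (iv6 F397090) D197366 (iv3 F396698)
theorem F404067 : act 0 n197366 = n113107 := d19_4 D121275 F400746 F400745 D197366 (iv5 F222284) F222265 (iv3 D65290) D65288 D139093 (iv4 F352965) F155841 (iv1 F155786) (iv5 F274810) (iv4 F311736) F255170 (iv1 F305096) F322714 (iv4 F193384) F193383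
theorem F404068 : act 1 n197366 = n113112 := d15_1 (iv0 F404067) F403672 F403670
def n197367 : Q := act 6 n108120
theorem D197367 : act 6 n108120 = n197367 := rfl
theorem F404069 : act 2 n197367 = n108121 := d3_1 D197367 (iv6 D108121) D108120
theorem F404070 : act 3 n197367 = n108123 := d7_1 D197367 (iv6 D108123) (iv3 F167202)
def n197368 : Q := act 0 n108121
theorem D197368 : act 0 n108121 = n197368 := rfl
def n197369 : Q := act 1 n108121
theorem D197369 : act 1 n108121 = n197369 := rfl
def n197370 : Q := act 5 n108121
theorem D197370 : act 5 n108121 = n197370 := rfl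
theorem F404071 : act 3 n197370 = n108124 := d6_1 D197370 (iv5 D108124) (iv3 F167204)
def n197371 : Q := act 7 n108121
theorem D197371 : act 7 n108121 = n197371 := rfl
theorem F404072 : act 3 n197371 = n108125 := d8_1 D197371 (iv7 D108125) (iv3 F167204)
def n197372 : Q := act 3 n108122
theorem D197372 : act 3 n108122 = n197372 := rfl
theorem F404073 : act 2 n197372 = n179913 := d0_1 D197372 F280196 (iv2 F316481) F245702 F167207
theorem F404074 : act 4 n197372 = n146964 := d5_2 (iv4 F167206) D197372 (iv3 F361429) (iv4 D156166) (iv3 F111498)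
theorem F404075 : act 5 n197372 = n156035 := d6_2 (iv5 F167205) D197372 (iv3 D156035)
theorem F404076 : act 7 n197372 = n197254 := d8_2 (iv7 F167209) D197372 F403745
theorem F404077 : act 0 n108131 = n197372 := d20_4 (iv4 D156780) F214158 F210281 D108131 (iv3 D197372) F167206 F95945 (iv4 F78977) (iv3 F167189) (iv1 F246691)
def n197373 : Q := act 6 n108122
theorem D197373 : act 6 n108122 = n197373 := rfl
theorem F404078 : act 2 n197373 = n197255 := d3_1 D197373 (iv6 D197255) F167207
theorem F404079 : act 4 n197373 = n130963 := d10_1 D197373 (iv6 D130963) (iv4 F167206)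
theorem F404080 : act 7 n197373 = n195479 := d14_2 (iv7 F167209) D197373 (iv6 D195479) (iv7 F360881) (iv6 F360860)
def n197374 : Q := act 0 n108123
theorem D197374 : act 0 n108123 = n197374 := rfl
def n197375 : Q := act 1 n108123
theorem D197375 : act 1 n108123 = n197375 := rfl
def n197376 : Q := act 5 n108123
theorem D197376 : act 5 n108123 = n197376 := rfl
theorem F404081 : act 6 n197376 = n108124 := d12_2 D108123 D197376 (iv5 D108124) (iv6 D49940) D49939
def n197377 : Q := act 7 n108123
theorem D197377 : act 7 n108123 = n197377 := rfl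
theorem F404082 : act 4 n197377 = n156153 := d11_1 D197377 (iv7 D156153) (iv4 F167211)
def n197378 : Q := act 1 n108124
theorem D197378 : act 1 n108124 = n197378 := rfl
theorem F404083 : act 7 n197378 = n112788 := d15_2 F396754 D197378 (iv2 F396753)
theorem F404084 : act 5 n197378 = n112789 := d17_7 (iv1 F169270) F165107 (iv1 F81147) F81145 F80905 D108124 D197378 (iv0 F222826) (iv4 D139658)
def n197379 : Q := act 4 n108124
theorem D197379 : act 4 n108124 = n197379 := rfl
theorem F404085 : act 5 n197379 = n123783 := d16_3 F80905 D108124 D197379 (iv4 F356460) (iv5 D121736) (iv4 F327260) (iv5 F111137) (iv7 D74258) (iv2 F80903)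
theorem F404086 : act 3 n123785 = n197379 := d6_3 F404085 (iv3 D123783) D123785
def n197380 : Q := act 7 n108124
theorem D197380 : act 7 n108124 = n197380 := rfl
theorem F404087 : act 5 n197380 = n108125 := d13_1 D197380 (iv7 D108125) D108124
theorem F404088 : act 0 n112788 = n197380 := d17_2 (iv1 D112787) D112788 F404087 F168824 (iv5 D108838) (iv0 D50254) (iv5 F78238) D107123 (iv4 F175590)
def n197381 : Q := act 0 n108126
theorem D197381 : act 0 n108126 = n197381 := rfl
def n197382 : Q := act 1 n108126
theorem D197382 : act 1 n108126 = n197382 := rfl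
def n197383 : Q := act 5 n108126
theorem D197383 : act 5 n108126 = n197383 := rfl
theorem F404089 : act 3 n197383 = n108127 := d6_1 D197383 (iv5 D108127) (iv3 F167212)
theorem F404090 : act 6 n197383 = n108127 := d12_2 D108126 D197383 (iv5 D108127) (iv6 D49943) (iv5 F96860)
def n197384 : Q := act 7 n108126
theorem D197384 : act 7 n108126 = n197384 := rfl
theorem F404091 : act 3 n197384 = n108128 := d8_1 D197384 (iv7 D108128) (iv3 F167212)
theorem F404092 : act 4 n197384 = n137042 := d11_1 D197384 (iv7 D137042) (iv4 F167213)
def n197385 : Q := act 4 n108127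
theorem D197385 : act 4 n108127 = n197385 := rfl
theorem F404093 : act 5 n197385 = n184256 := d16_1 D197385 F286185 F331291 F100123 (iv5 F100134) (iv4 F219993) (iv5 F227560) (iv7 F227561) F219990
theorem F404094 : act 3 n184257 = n197385 := d6_3 F404093 (iv3 D184256) D184257
def n197386 : Q := act 7 n108127
theorem D197386 : act 7 n108127 = n197386 := rfl
theorem F404095 : act 2 n197386 = n144720 := d4_1 D197386 (iv7 F227561) F219990
theorem F404096 : act 5 n197386 = n108128 := d13_1 D197386 (iv7 D108128) D108127
theorem F404097 : act 1 n116901 = n197386 := d15_1 F219991 (iv7 D197386) (iv2 F219990)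
theorem F404098 : act 1 n197386 = n144711 := d15_1 F404097 (iv7 F396864) F396863
def n197387 : Q := act 5 n108129
theorem D197387 : act 5 n108129 = n197387 := rfl
theorem F404099 : act 2 n197387 = n108145 := d2_1 D197387 F167229 F167217
theorem F404100 : act 3 n197387 = n156270 := d6_1 D197387 F366393 (iv3 F315119)
theorem F404101 : act 4 n197387 = n197287 := d9_1 D197387 F403836 F389655 (iv5 D108279) (iv4 D50003) (iv5 D24378) (iv4 F38171) D49947 D108143 F389661 F389660 (iv5 D120541) F303355 (iv5 F312658) (iv4 F167218)
theorem F404102 : act 7 n197387 = n108140 := d13_2 (iv7 F167219) D197387 (iv5 D108140)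
theorem F404103 : act 0 n197387 = n108142 := d17_2 D108129 D197387 (iv5 F316480) F316479 F214876 (iv0 F311683) (iv5 D124856) (iv0 F314320) F210281
theorem F404104 : act 1 n197387 = n108141 := d17_6 F311548 F310481 (iv1 F310476) (iv5 F312658) (iv4 F167218) D197387 (iv5 F316477) F316476 (iv4 D74368)
def n197388 : Q := act 6 n108129
theorem D197388 : act 6 n108129 = n197388 := rfl
theorem F404105 : act 2 n197388 = n108146 := d3_1 D197388 (iv6 D108146) F167217
theorem F404106 : act 3 n197388 = n163076 := d7_1 D197388 F316252 (iv3 F315119)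
theorem F404107 : act 4 n197388 = n108231 := d10_1 D197388 (iv6 D108231) (iv4 F167218)
theorem F404108 : act 7 n197388 = n141352 := d14_2 (iv7 F167219) D197388 (iv6 D141352) F102213 (iv6 F78984)
theorem F404109 : act 0 n197388 = n141359 := d21_4 F316477 (iv1 F404104) (iv5 D197387) D197388 (iv6 F403945) (iv5 D197317) (iv1 F169258) F351840 (iv6 F111595) (iv1 F316476)
theorem F404110 : act 0 n141358 = n197388 := d18_2 D142741 (iv4 F342366) F404107 F315121 F316596 F187760 F316594 (iv0 D84469) F322337
def n197389 : Q := act 1 n108131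
theorem D197389 : act 1 n108131 = n197389 := rfl
theorem F404111 : act 7 n197389 = n179913 := d15_2 (iv0 F404077) D197389 (iv2 F404073)
theorem F404112 : act 3 n125177 = n197389 := d20_3 (iv4 F79396) D108555 (iv4 F343126) (iv1 D197389) (iv3 D108131) (iv4 F210281) F314320 D124855 F340260 (iv1 D108108)
theorem F404113 : act 4 n146976 = n197389 := d20_6 (iv4 D65106) (iv1 F53743) (iv4 F111899) (iv3 F329726) F329723 F374451 (iv1 D197389) (iv4 F210277) (iv3 F316925) F316923
theorem F404114 : act 5 n197389 = n125176 := d9_2 D146976 F404113 F201219 (iv5 F131572) F320894 F320140 D68890 D146964 (iv4 F404074) F404075 F322250 (iv5 F339415) (iv4 D146977) (iv5 D68896) D68895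
theorem F404115 : act 6 n197389 = n195496 := d10_2 (iv6 F374453) F404113 (iv4 F397149)
theorem F404116 : act 0 n192423 = n146976 := d20_1 (iv4 F386699) F404113 (iv3 F404112) (iv1 F366615) (iv3 F222285) (iv4 D113107) D113104 (iv4 F403792) (iv3 F403934) (iv1 F403941)
theorem F404117 : act 2 n197254 = n197389 := d16_9 (iv4 F404113) (iv5 D146976) (iv4 D68895) D68896 D146977 F339415 (iv4 F322250) (iv5 F404075) F404076
def n197390 : Q := act 6 n108131
theorem D197390 : act 6 n108131 = n197390 := rfl
theorem F404118 : act 3 n197390 = n108134 := d7_1 D197390 (iv6 D108134) D108131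
def n197391 : Q := act 4 n108133
theorem D197391 : act 4 n108133 = n197391 := rfl
theorem F404119 : act 5 n197391 = n149093 := d9_2 D108133 D197391 (iv4 D149093) (iv5 D69966) (iv4 F51829) (iv5 F312279) F210265 D108137 F343128 F343130 (iv4 D179730) (iv5 D85851) (iv4 F133068) F314617 F210281
theorem F404120 : act 0 n197391 = n124858 := d18_2 (iv1 F222269) D197391 F316982 F343143 (iv4 D124813) D124812 F232989 F316349 D132437
theorem F404121 : act 1 n197391 = n192687 := d18_6 (iv1 F246691) (iv4 D156780) F214158 F210281 D108133 D197391 F387486 (iv0 D108107) D108110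
def n197392 : Q := act 6 n108133
theorem D197392 : act 6 n108133 = n197392 := rfl
def n197393 : Q := act 0 n108134
theorem D197393 : act 0 n108134 = n197393 := rfl
theorem F404122 : act 4 n197393 = n108247 := d18_3 F360664 F222264 D197393 F315152 (iv4 D114791) (iv0 D52970) (iv4 F83690) (iv0 F192428) (iv5 F340737)
theorem F404123 : act 2 n138712 = n197393 := d15_3 (iv0 D197393) (iv0 F361408) F246391
theorem F404124 : act 6 n197393 = n142249 := d3_2 (iv6 F221863) F404123 F225219
theorem F404125 : act 1 n145115 = n197393 := d18_6 (iv1 F317362) (iv4 F315727) F349973 (iv4 F104573) (iv5 F109141) (iv4 F228090) F404122 (iv0 D108247) D108249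
def n197394 : Q := act 5 n108134
theorem D197394 : act 5 n108134 = n197394 := rfl
def n197395 : Q := act 7 n108134
theorem D197395 : act 7 n108134 = n197395 := rfl
theorem F404126 : act 2 n197395 = n145115 := d4_1 D197395 F361409 F222270
theorem F404127 : act 4 n197395 = n146315 := d11_1 D197395 F334985 F222264
theorem F404128 : act 6 n197395 = n128494 := d14_1 D197395 F206649 (iv6 F315143) (iv7 D108135) D108134
theorem F404129 : act 0 n138712 = n197395 := d18_2 F317345 D138712 F404127 (iv5 D146315) (iv4 F318223) (iv0 F334434) (iv4 D139853) F319610 F317347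
def n197396 : Q := act 2 n108136
theorem D197396 : act 2 n108136 = n197396 := rfl
def n197397 : Q := act 5 n108136
theorem D197397 : act 5 n108136 = n197397 := rfl
theorem F404130 : act 3 n197397 = n108137 := d6_1 D197397 (iv5 D108137) D108136
theorem F404131 : act 7 n197397 = n113107 := d13_2 F222266 D197397 (iv5 F222284)
theorem F404132 : act 4 n197397 = n113110 := d18_5 D108089 D197318 F403951 F222289 D197397 F360554 (iv4 F176189) F176191 (iv5 D108092)
theorem F404133 : act 6 n194321 = n197397 := d21_5 (iv5 D31433) (iv1 F38582) (iv5 F76908) D105639 (iv1 F392821) (iv5 D197397) F394185 F352946 (iv6 D112252) F81775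
theorem F404134 : act 2 n197397 = n113112 := d3_1 F404133 F355181 (iv2 F392820)
theorem F404135 : act 5 n113112 = n197396 := d2_2 D197397 F404134 (iv2 D197396)
theorem F404136 : act 0 n197396 = n195473 := d18_0 (iv4 F397078) (iv1 D135894) F99389 D108092 (iv4 F175954) (iv0 F393881) (iv4 F404065) F404068 F404135
theorem F404137 : act 1 n195517 = n197397 := d15_1 (iv0 F403673) F404131 (iv2 F403670)
def n197398 : Q := act 6 n108137
theorem D197398 : act 6 n108137 = n197398 := rfl
theorem F404138 : act 3 n197398 = n194321 := d7_1 D197398 F404133 F404130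
theorem F404139 : act 4 n197398 = n154728 := d10_1 D197398 (iv6 F372084) (iv4 F343128)
def n197399 : Q := act 6 n108140
theorem D197399 : act 6 n108140 = n197399 := rfl
theorem F404140 : act 2 n197399 = n108144 := d3_1 D197399 (iv6 D108144) (iv2 F167224)
theorem F404141 : act 5 n197399 = n195308 := d12_1 D197399 F396664 (iv5 D105633) (iv6 F78984) D108140
theorem F404142 : act 7 n195313 = n197399 := d13_0 F404141 (iv7 F396665) D195313
theorem F404143 : act 1 n144410 = n197399 := d17_6 (iv1 F359085) F359086 (iv1 F207767) F324993 (iv4 F103685) D144410 F404141 F396675 F162000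
theorem F404144 : act 1 n108144 = n195335 := d15_0 F396743 F404142 F404140
def n197400 : Q := act 3 n108141
theorem D197400 : act 3 n108141 = n197400 := rfl
theorem F404145 : act 5 n197400 = n146960 := d6_2 F316477 D197400 (iv3 F356548)
theorem F404146 : act 7 n197400 = n179910 := d8_2 F366619 D197400 (iv3 F364195)
theorem F404147 : act 2 n197400 = n179911 := d15_3 F355445 F353528 (iv7 F404146)
theorem F404148 : act 0 n125176 = n197400 := d17_0 F404145 F356552 (iv5 D108033) F78896 D107613 F350992 (iv5 F350997) (iv0 D125187) (iv4 F201219)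
theorem F404149 : act 6 n197400 = n197285 := d21_9 (iv5 D195452) (iv1 D105598) D105599 (iv6 F397007) (iv1 F403713) F316252 (iv5 F366393) (iv1 F403699) (iv5 F404145) (iv1 F403832)
theorem F404150 : act 1 n156035 = n197400 := d15_0 (iv0 F404148) F201220 (iv2 F322249)
def n197401 : Q := act 4 n108141
theorem D197401 : act 4 n108141 = n197401 := rfl
theorem F404151 : act 0 n197401 = n124827 := d18_2 D108141 D197401 F403595 F403593 (iv4 D124855) (iv0 F314320) F210281 (iv0 D49944) D49947
def n197402 : Q := act 6 n108141
theorem D197402 : act 6 n108141 = n197402 := rfl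
theorem F404152 : act 3 n197402 = n197285 := d7_1 D197402 (iv6 F404149) (iv3 D197400)
theorem F404153 : act 5 n192269 = n197402 := d6_0 F404152 F403831 (iv3 F386254)
theorem F404154 : act 7 n197273 = n197402 := d8_0 F404152 (iv7 D197285) (iv3 F403802)
def n197403 : Q := act 3 n108142
theorem D197403 : act 3 n108142 = n197403 := rfl
theorem F404155 : act 7 n197403 = n195471 := d8_2 (iv7 F366617) D197403 F403774
theorem F404156 : act 4 n130541 = n197403 := d19_2 D113118 (iv5 F379515) (iv3 D197403) (iv1 D108142) (iv5 D49947) F38171 (iv3 D11492) (iv1 F11936) D16538 F26172 (iv3 F27091) (iv1 F46799) (iv5 D13866) (iv4 F23129) (iv3 D13860) (iv1 F20185) (iv5 F40531) F40530 (iv3 F82550)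
theorem F404157 : act 2 n197403 = n195472 := d1_1 F404156 (iv4 F397095) F379506
theorem F404158 : act 6 n197403 = n193713 := d10_2 (iv6 F379507) F404156 (iv4 D193713)
theorem F404159 : act 1 n197403 = n195474 := d18_8 F366313 (iv4 F222289) F403965 (iv4 D197321) (iv5 F396635) F396634 F214389 F404156 F397098
theorem F404160 : act 0 n197403 = n112252 := d20_1 F404156 F174599 (iv3 F352908) F329288 (iv3 D52156) (iv4 D25328) (iv1 F23052) D28997 D61250 D130541
def n197404 : Q := act 4 n108142
theorem D197404 : act 4 n108142 = n197404 := rfl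
theorem F404161 : act 3 n197404 = n138458 := d5_1 D197404 (iv4 F379510) F379509 F404156 (iv3 D197403)
theorem F404162 : act 1 n197404 = n124827 := d18_6 D179895 F280174 (iv1 F340783) (iv4 F316479) F316480 D197404 F403595 (iv0 F403598) F317328
theorem E103683 : n193722 = n157227 := (c20_8 (iv4 D124789) (iv1 F92210) D58362 D124827 (iv1 F404162) F404161 (iv4 F379510) D193722 F247441 (iv3 D156363) (iv1 F316707))
theorem F404163 : act 1 n157227 = n102258 := (sb E103683 (iv0 D193722))
theorem F404164 : act 6 n193717 = n197404 := d7_0 F404161 F379511 D193717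
def n197405 : Q := act 6 n108142
theorem D197405 : act 6 n108142 = n197405 := rfl
theorem F404165 : act 3 n197405 = n193713 := d7_1 D197405 (iv6 F404158) (iv3 D197403)
theorem F404166 : act 4 n197405 = n193717 := d10_1 D197405 F404164 (iv4 D197404)
def n197406 : Q := act 3 n108143
theorem D197406 : act 3 n108143 = n197406 := rfl
theorem F404167 : act 4 n197406 = n108150 := d5_2 D108143 D197406 (iv3 D108150) (iv4 D49951) (iv3 F78985)
theorem F404168 : act 7 n197406 = n156025 := d8_2 F216973 D197406 F245124
def n197407 : Q := act 6 n108143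
theorem D197407 : act 6 n108143 = n197407 := rfl
theorem F404169 : act 4 n197407 = n108144 := d10_1 D197407 (iv6 D108144) D108143
def n197408 : Q := act 0 n108144
theorem D197408 : act 0 n108144 = n197408 := rfl
theorem F404170 : act 5 n197408 = n141803 := d17_3 D105513 F361839 D197408 (iv4 D141803) (iv5 D66484) D66482 (iv5 F359100) (iv0 D59428) (iv4 F76823)
theorem F404171 : act 2 n144410 = n197408 := d15_3 (iv0 D197408) F404144 F396742
theorem F404172 : act 3 n197408 = n144425 := d0_2 (iv3 F227192) F404171 F227222 F103713 (iv2 F103686)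
def n197409 : Q := act 7 n108144
theorem D197409 : act 7 n108144 = n197409 := rfl
theorem F404173 : act 2 n197409 = n195313 := d4_1 D197409 F404142 F404140
theorem F404174 : act 3 n197409 = n108154 := d8_1 D197409 (iv7 D108154) (iv3 F167226)
theorem F404175 : act 5 n197409 = n195310 := d13_1 D197409 (iv7 D195310) F361839
theorem F404176 : act 1 n195313 = n197408 := d15_0 (iv0 D197408) D197409 F404173
theorem F404177 : act 1 n197409 = n144410 := d15_0 F404143 (iv7 F404142) (iv2 F404173)
def n197410 : Q := act 6 n108145
theorem D197410 : act 6 n108145 = n197410 := rfl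
theorem F404178 : act 3 n197410 = n108155 := d7_1 D197410 (iv6 D108155) (iv3 F167228)
def n197411 : Q := act 0 n108146
theorem D197411 : act 0 n108146 = n197411 := rfl
theorem F404179 : act 4 n197411 = n179168 := d18_3 (iv1 D108285) (iv4 F167231) D197411 (iv5 F361580) (iv4 F333434) (iv0 D131572) F96335 D61749 (iv5 F333698)
theorem F404180 : act 2 n141359 = n197411 := d15_3 (iv0 D197411) (iv0 F226249) F338997
theorem F404181 : act 1 n141352 = n197411 := d15_0 (iv0 D197411) F167232 (iv2 F224394)
theorem F404182 : act 7 n197411 = n141358 := d15_2 (iv0 F226250) F404181 (iv2 F363160)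
def n197412 : Q := act 5 n108146
theorem D197412 : act 5 n108146 = n197412 := rfl
theorem F404183 : act 3 n197412 = n108157 := d6_1 D197412 (iv5 D108157) (iv3 F167230)
theorem F404184 : act 7 n197412 = n141360 := d13_2 (iv7 F167232) D197412 (iv5 D141360)
def n197413 : Q := act 6 n108147
theorem D197413 : act 6 n108147 = n197413 := rfl
theorem F404185 : act 2 n197413 = n144437 := d3_1 D197413 F227237 (iv2 F167233)
theorem F404186 : act 3 n197413 = n108148 := d7_1 D197413 (iv6 D108148) D108147
theorem F404187 : act 4 n197413 = n196417 := d10_1 D197413 (iv6 D196417) F167235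
theorem F404188 : act 0 n196593 = n197413 := d21_4 D105612 D195466 (iv5 F401187) D196593 (iv6 D197413) F167234 D156038 F344467 F397090 (iv1 D105610)
def n197414 : Q := act 0 n108148
theorem D197414 : act 0 n108148 = n197414 := rfl
def n197415 : Q := act 1 n108148
theorem D197415 : act 1 n108148 = n197415 := rfl
theorem F404189 : act 1 n197415 = n144439 := d15_1 D197415 F245161 F245158
theorem F404190 : act 5 n197415 = n172030 := d19_1 (iv1 F404189) (iv4 D172030) F126901 D82400 F299448 F115927 (iv3 F296897) (iv1 F123863) F297868 (iv4 F122175) (iv3 F358211) (iv1 D113661) D113662 F358165 (iv3 F217832) (iv1 F217836) F213979 F110995 D144439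
def n197416 : Q := act 5 n108148
theorem D197416 : act 5 n108148 = n197416 := rfl
theorem F404191 : act 6 n197416 = n156042 := d12_2 D108148 D197416 (iv5 D156042) (iv6 D74222) (iv5 F78988)
def n197417 : Q := act 7 n108148
theorem D197417 : act 7 n108148 = n197417 := rfl
theorem F404192 : act 2 n197417 = n144439 := d4_1 D197417 F245161 F245158
theorem F404193 : act 4 n197417 = n156093 := d11_1 D197417 (iv7 D156093) (iv4 F167236)
theorem F404194 : act 1 n144439 = n197414 := d15_0 (iv0 D197414) D197417 F404192
def n197418 : Q := act 0 n108149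
theorem D197418 : act 0 n108149 = n197418 := rfl
def n197419 : Q := act 1 n108149
theorem D197419 : act 1 n108149 = n197419 := rfl
def n197420 : Q := act 5 n108149
theorem D197420 : act 5 n108149 = n197420 := rfl
theorem F404195 : act 3 n197420 = n156037 := d6_1 D197420 (iv5 D156037) (iv3 F167237)
theorem F404196 : act 6 n197420 = n156075 := d12_2 D108149 D197420 (iv5 D156075) (iv6 D74243) (iv5 F78992)
def n197421 : Q := act 7 n108149
theorem D197421 : act 7 n108149 = n197421 := rfl
theorem F404197 : act 3 n197421 = n144441 := d8_1 D197421 F227239 (iv3 F167237)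
theorem F404198 : act 4 n197421 = n156061 := d11_1 D197421 (iv7 D156061) (iv4 F167238)
theorem F404199 : act 6 n197421 = n144439 := d14_1 D197421 F245161 (iv6 D156036) F111057 D108149
def n197422 : Q := act 0 n108150
theorem D197422 : act 0 n108150 = n197422 := rfl
theorem F404200 : act 4 n197422 = n109198 := d20_0 F364776 (iv4 F111080) (iv3 D74228) (iv1 D34051) D34052 (iv4 F78994) (iv1 D49950) D49951 D108150 D197422
theorem F404201 : act 1 n156022 = n197422 := d15_0 (iv0 D197422) F167240 (iv2 F245122)
theorem F404202 : act 5 n197422 = n135735 := d17_7 D136354 (iv5 F359222) F359225 (iv5 D135922) (iv4 F111031) D156022 F404201 (iv0 D135735) (iv4 F99722)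
theorem F404203 : act 2 n156024 = n197422 := d1_3 F404200 F350388 F245623
theorem F404204 : act 6 n140419 = n197422 := d10_0 F404200 F169165 D140419
theorem F404205 : act 7 n156023 = n197422 := d11_0 F404200 (iv7 F350390) (iv4 F245625)
theorem F404206 : act 3 n135735 = n197422 := d20_5 (iv4 D16496) F23873 D30112 D63822 D135735 F404200 F364776 (iv4 F111080) (iv3 D74228) (iv1 D34051)
theorem F404207 : act 7 n178661 = n135735 := d8_0 F404206 (iv7 F404205) (iv3 F366517)
theorem F404208 : act 2 n135735 = n178660 := d15_3 (iv0 D178660) D178661 F404207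
theorem F404209 : act 2 n178661 = n135736 := d15_3 F366516 F359215 (iv7 F404207)
theorem F404210 : act 6 n135736 = n192279 := d3_2 (iv6 F388952) F404209 (iv2 F388944)
theorem F404211 : act 7 n135736 = n178660 := d4_2 (iv7 F404207) F404209 (iv2 F404208)
def n197423 : Q := act 1 n108150
theorem D197423 : act 1 n108150 = n197423 := rfl
theorem F404212 : act 7 n197423 = n156024 := d15_2 (iv0 D197422) D197423 F404203
theorem F404213 : act 5 n197423 = n135736 := d17_7 F343266 F343267 (iv1 D159160) (iv5 F324295) (iv4 F111035) (iv5 F167239) D197423 F366516 (iv4 F353362)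
theorem F404214 : act 4 n138450 = n197423 := d20_0 (iv1 D197423) (iv4 F404167) (iv3 D197406) F167225 (iv3 D108072) (iv4 D49915) D49914 F78949 D65034 D138450
theorem F404215 : act 2 n197423 = n156023 := d1_1 F404214 F245625 F364772
theorem F404216 : act 1 n197423 = n156022 := d15_0 F404201 (iv7 F404205) (iv2 F404215)
def n197424 : Q := act 2 n108150
theorem D197424 : act 2 n108150 = n197424 := rfl
theorem F404217 : act 3 n197424 = n156211 := d0_2 D108150 D197424 F245480 F111527 (iv2 F78996)
theorem F404218 : act 5 n197424 = n156009 := d2_2 (iv5 F167239) D197424 (iv2 F245110)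
theorem F404219 : act 7 n197424 = n156022 := d4_2 (iv7 F167240) D197424 F245122
theorem F404220 : act 1 n197424 = n156023 := d15_0 (iv0 D156023) (iv7 F167240) D197424
theorem F404221 : act 1 n156024 = n197424 := d15_0 F404220 F404205 (iv2 F404203)
def n197425 : Q := act 0 n108151
theorem D197425 : act 0 n108151 = n197425 := rfl
theorem F404222 : act 5 n197425 = n139633 := d17_3 F401417 (iv5 F401414) D197425 F222799 (iv5 F365103) F365027 (iv5 F365024) F182824 F179958
theorem F404223 : act 4 n197425 = n195353 := d18_1 D197425 F397345 F397344 (iv5 D128563) F95021 D60471 (iv4 F179955) (iv0 F401413) (iv5 F401414)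
theorem F404224 : act 3 n132431 = n108153 := d20_9 (iv4 F167242) D197425 F404223 F396808 F162065 F161983 (iv4 F347230) (iv1 F217132) F217137 (iv1 D108153)
theorem F404225 : act 6 n139633 = n115665 := d21_3 (iv5 F401414) D197425 F404222 (iv1 D115665) (iv6 D53343) (iv5 D25850) D25847 D53330 (iv6 F336229) F401417
theorem F404226 : act 3 n115665 = n139634 := d7_1 F404225 (iv6 D139634) D139633
theorem F404227 : act 4 n115665 = n144082 := d10_1 F404225 (iv6 D144082) (iv4 F222799)
theorem F404228 : act 7 n152830 = n115665 := d8_0 F404226 F351409 (iv3 F240046)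
theorem F404229 : act 2 n152830 = n115664 := d15_3 (iv0 D115664) D115665 (iv7 F404228)
theorem F404230 : act 6 n115664 = n152828 := d3_2 D152830 F404229 (iv2 D152828)
theorem F404231 : act 3 n115650 = n197425 := d5_5 F404223 F396808 F162064 D109728 F180019
theorem F404232 : act 7 n115653 = n197425 := d11_0 F404223 F396809 (iv4 F226834)
def n197426 : Q := act 1 n108151
theorem D197426 : act 1 n108151 = n197426 := rfl
theorem F404233 : act 1 n197426 = n156286 := d15_1 D197426 F245583 (iv2 F167241)
def n197427 : Q := act 7 n108151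
theorem D197427 : act 7 n108151 = n197427 := rfl
theorem F404234 : act 2 n197427 = n156286 := d4_1 D197427 F245583 (iv2 F167241)
theorem F404235 : act 4 n197427 = n108154 := d11_1 D197427 (iv7 D108154) (iv4 F167242)
theorem F404236 : act 5 n197427 = n115616 := d13_1 D197427 (iv7 F401412) (iv5 F401414)
theorem F404237 : act 6 n197427 = n156033 := d14_1 D197427 (iv7 D156033) (iv6 D74213) (iv7 F79000) D108151
theorem F404238 : act 1 n156286 = n197425 := d15_0 (iv0 D197425) D197427 F404234
theorem F404239 : act 1 n156288 = n197427 := d15_1 D156288 (iv7 D197427) F167241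
theorem E103684 : n156288 = n115653 := ((c18_8 (iv1 D115616) D115618 F179951 F85002 (iv5 F179635) F336195 (iv0 F336197) (iv4 F226834) F404239 F404236)).symm
theorem F404240 : act 0 n115653 = n74339 := (sb E103684 (iv1 D156288))
theorem F404241 : act 1 n115653 = n197427 := (sb E103684 F404239)
theorem F404242 : act 3 n145657 = n197245 := d20_9 (iv4 F404235) (iv1 F404241) F226834 F226833 (iv1 D105578) (iv3 F162177) F342914 F209564 (iv4 F228683) (iv1 F403719)
theorem F404243 : act 7 n197245 = n108153 := d8_2 (iv7 F228682) F404242 (iv3 F404224)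
theorem F404244 : act 2 n108153 = n197246 := d15_3 F403714 F403719 F404243
theorem F404245 : act 2 n197245 = n108152 := d15_3 (iv0 D108152) D108153 (iv7 F404243)
theorem F404246 : act 3 n108152 = n196708 := d0_2 F404242 F404245 (iv2 F401562) F397071 F228684
theorem F404247 : act 7 n108152 = n197246 := d4_2 (iv7 F404243) F404245 (iv2 F404244)
theorem F404248 : act 3 n197246 = n195467 := d8_1 F404247 (iv7 F401560) (iv3 F404246)
theorem F404249 : act 5 n196594 = n197246 := d6_0 F404248 F397072 D196594
theorem F404250 : act 0 n144112 = n196594 := d17_0 F404249 (iv1 D197246) F166978 (iv4 F173980) (iv5 F365093) (iv0 D144122) (iv5 D67523) D67520 D144112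
theorem F404251 : act 2 n197425 = n156287 := d15_3 (iv0 D156287) (iv0 F404240) F404232
theorem F404252 : act 7 n197426 = n156287 := d15_2 (iv0 D197425) D197426 (iv2 F404251)
theorem F404253 : act 5 n144078 = n197426 := d16_7 F404223 (iv5 D195353) F162061 D116993 (iv4 F365098) F365099 D144078 F404252 (iv2 F404251)
theorem F404254 : act 2 n115653 = n197426 := d4_3 F404252 (iv2 F404251) (iv7 F404232)
theorem F404255 : act 1 n197427 = n156287 := d15_1 F404241 (iv7 F404252) (iv2 F404254)
theorem F404256 : act 1 n195353 = n113093 := d18_8 F336228 F169246 D143968 (iv4 F396700) (iv5 F403717) F403716 F404238 F404223 (iv5 F219383)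
theorem F404257 : act 0 n195513 = n116993 := d17_2 (iv1 F347191) D195513 (iv5 D116993) (iv4 F162061) D195353 F404256 (iv5 F219383) (iv0 F340502) F219376
def n197428 : Q := act 4 n108152
theorem D197428 : act 4 n108152 = n197428 := rfl
theorem F404258 : act 5 n115320 = n197428 := d19_1 D115320 (iv4 D197428) F404246 (iv1 D196708) (iv5 D107235) F78303 (iv3 D24180) F18541 D11827 F19211 (iv3 F24569) (iv1 F48557) F48556 F38148 (iv3 F38132) F38720 (iv5 F41230) F41232 D53204
theorem F404259 : act 0 n115356 = n197428 := d20_1 (iv4 F336195) (iv4 D197428) F404246 (iv1 D196708) F165281 (iv4 F79969) (iv1 F79987) (iv4 F162184) (iv3 F226833) F336197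
def n197429 : Q := act 5 n108152
theorem D197429 : act 5 n108152 = n197429 := rfl
theorem F404260 : act 3 n197429 = n109275 := d6_1 D197429 (iv5 F401561) (iv3 F404246)
theorem F404261 : act 7 n197429 = n196594 := d13_2 (iv7 F404247) D197429 F404249
theorem F404262 : act 4 n197429 = n196948 := d18_5 F336197 (iv4 F336195) F404259 (iv4 D197428) D197429 (iv0 F402426) F227340 (iv0 D144118) D144120
def n197430 : Q := act 6 n108152
theorem D197430 : act 6 n108152 = n197430 := rfl
def n197431 : Q := act 4 n108153
theorem D197431 : act 4 n108153 = n197431 := rfl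
theorem F404263 : act 3 n197431 = n135730 := d5_1 D197431 (iv4 D135730) (iv3 F217134) F217137 F404224
theorem F404264 : act 0 n197431 = n115356 := d18_2 (iv1 F403720) D197431 F336195 (iv5 F215920) F215919 (iv0 F391908) F391906 F396701 (iv5 F403717)
theorem F404265 : act 5 n115321 = n197431 := d19_1 (iv1 F226789) (iv4 D197431) (iv3 F404224) (iv1 D132431) D132433 F347214 (iv3 F218881) (iv1 D136026) (iv5 F218743) F363975 F288338 D185879 F288345 (iv4 F401786) F401784 F345314 (iv5 D140498) (iv4 F179622) (iv3 F226784)
def n197432 : Q := act 5 n108153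
theorem D197432 : act 5 n108153 = n197432 := rfl
theorem F404266 : act 2 n197432 = n196594 := d2_1 D197432 F404249 (iv2 F404244)
def n197433 : Q := act 6 n108153
theorem D197433 : act 6 n108153 = n197433 := rfl
theorem F404267 : act 3 n197433 = n112787 := d7_1 D197433 (iv6 F217138) F404224
def n197434 : Q := act 6 n108154
theorem D197434 : act 6 n108154 = n197434 := rfl
theorem F404268 : act 2 n197434 = n156275 := d3_1 D197434 (iv6 F403718) F403715
theorem F404269 : act 4 n197434 = n156033 := d10_1 D197434 (iv6 F404237) F404235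
theorem F404270 : act 7 n197434 = n108155 := d14_2 D108154 D197434 (iv6 D108155) (iv7 D49953) D49952
theorem F404271 : act 1 n156273 = n197434 := d15_1 D156273 F404270 F167244
theorem F404272 : act 5 n141363 = n197434 := d16_7 F111532 F53510 (iv4 F84185) D115695 (iv4 F343405) F343406 D141363 F404270 F167244
theorem F404273 : act 1 n156278 = n197275 := d18_8 (iv1 D141359) F102222 D66313 D141363 F404272 F404269 F245151 D156278 (iv5 F403813)
theorem F404274 : act 6 n156278 = n139801 := d21_5 (iv5 D49926) D49924 (iv5 F167078) D197275 (iv1 F404273) (iv5 F396953) (iv1 D195421) F344610 F336210 (iv1 D108095)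
theorem F404275 : act 3 n139803 = n156278 := d7_3 F404274 (iv3 D139801) D139803
theorem F404276 : act 4 n139801 = n156280 := d10_1 F404274 (iv6 D156280) D156278
theorem F404277 : act 3 n156280 = n115312 := d5_1 F404276 (iv4 F179592) (iv3 D65625) D65626 D139801
theorem F404278 : act 7 n156280 = n139635 := d11_2 F227256 F404276 (iv4 F227255)
theorem E103685 : n156281 = n156032 := ((c14_4 F404278 F322285 (iv7 F239525) (iv6 F351787) (iv7 D156281) D156280)).symm
theorem F404279 : act 2 n156032 = n74337 := (sb E103685 F245582)
theorem F404280 : act 7 n156032 = n74336 := (sb E103685 (iv7 D156281))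
theorem E103686 : n156277 = n141071 := (c8_2 F404280 D156277 (iv7 F339867) F351786)
theorem F404281 : act 3 n141071 = n74336 := (sb E103686 (iv3 D156277))
theorem E103687 : n156276 = n156031 := (c15_4 (iv0 D156031) D156032 F404280 D156276)
theorem F404282 : act 2 n156031 = n74336 := (sb E103687 (iv2 D156276))
theorem F404283 : act 7 n156031 = n74337 := (sb E103687 (iv7 F245581))
theorem F404284 : act 3 n156279 = n115716 := d6_3 F224073 F404281 D156279
theorem F404285 : act 6 n115714 = n156279 := d7_0 F404284 (iv6 D115716) D115714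
theorem F404286 : act 5 n156280 = n115655 := d12_3 F404285 (iv5 D156279) D156280 (iv6 F403255) F403253
theorem F404287 : act 0 n115670 = n115714 := d21_4 F355512 F355475 F351402 (iv6 F351386) F404285 (iv5 D156279) (iv1 F245151) F245148 F403854 (iv1 F403852)
theorem F404288 : act 4 n140333 = n178524 := d20_8 (iv4 F351385) F404287 (iv4 F403250) (iv3 D197145) F166387 (iv3 F351687) F351688 D140333 (iv3 F350638) (iv1 D179286)
theorem F404289 : act 0 n127059 = n179279 := d20_4 F93940 D64244 F163985 D127059 F279194 (iv4 F351385) F404287 (iv4 F403250) (iv3 D197145) F166387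
theorem F404290 : act 6 n178523 = n140333 := d10_0 F404288 (iv6 D178524) (iv4 F278209)
theorem F404291 : act 0 n115655 = n178671 := d21_7 (iv5 D34090) (iv1 D16511) D16513 D34100 D74336 D156280 F404286 (iv5 F360874) F360875 (iv1 F111504)
theorem F404292 : act 0 n130959 = n115655 := d19_0 (iv5 F404286) (iv4 F404276) (iv3 D139801) F182595 (iv5 F397322) F397323 F373710 F386504 F386501 F176338 (iv3 F161197) (iv1 F161200) (iv5 F342867) (iv4 D49541) (iv3 F46667) F46669 D29083 D61442 D130959
theorem E103688 : n156282 = n115664 := (c0_3 F351786 F404279 D156282 (iv2 F404229) F240046 (iv2 F318317))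
theorem F404293 : act 3 n115664 = n74337 := (sb E103688 (iv3 D156282))
theorem F404294 : act 2 n156285 = n152338 := d3_3 (iv6 F351787) F404279 D156285
theorem F404295 : act 3 n152828 = n156285 := d0_0 F404294 (iv3 D152338) F108349 D72115 D152828
theorem F404296 : act 7 n152841 = n156285 := d4_0 F404294 F239525 D152841
theorem F404297 : act 1 n156285 = n152839 := d15_0 (iv0 D152839) (iv7 F239525) (iv2 F404294)
theorem F404298 : act 1 n152840 = n156285 := d15_1 D152840 (iv7 F404296) (iv2 D152841)
theorem F404299 : act 0 n144419 = n197434 := d20_10 F404269 (iv1 F245150) (iv4 F403816) F397004 (iv1 F403781) F403777 F167066 F95717 (iv4 F103705) (iv3 F227213)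
theorem F404300 : act 1 n115234 = n156057 := d18_8 (iv1 F365960) F365961 D161888 (iv4 F357023) (iv5 F245148) (iv4 F404269) (iv0 F404299) F227214 F245197
def n197435 : Q := act 0 n108155
theorem D197435 : act 0 n108155 = n197435 := rfl
theorem F404301 : act 6 n197435 = n144418 := d21_5 F100353 F53474 (iv5 F79004) D108155 D197435 (iv5 F397185) (iv1 F397186) (iv5 F360858) (iv6 F360860) F167040
theorem F404302 : act 1 n156275 = n197435 := d15_0 (iv0 D197435) (iv7 F404270) F404268
theorem F404303 : act 2 n144419 = n197435 := d3_3 F404301 (iv2 D144418) D144419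
theorem F404304 : act 3 n140638 = n197435 := d7_3 F404301 F227207 (iv6 F364955)
theorem F404305 : act 7 n156273 = n197435 := d15_2 F339887 D156273 (iv2 F404303)
def n197436 : Q := act 1 n108155
theorem D197436 : act 1 n108155 = n197436 := rfl
theorem F404306 : act 1 n197436 = n156275 := d15_1 D197436 (iv7 D156275) (iv2 F167244)
theorem F404307 : act 7 n197436 = n144419 := d15_2 (iv0 D197435) D197436 F404303
theorem F404308 : act 2 n156273 = n197436 := d4_3 F404307 F404303 (iv7 F404305)
theorem F404309 : act 3 n117097 = n197436 := d8_3 F404307 F227213 (iv7 F183135)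
theorem F404310 : act 6 n144713 = n197436 := d14_5 F404307 (iv6 D144419) F103703 D115296 (iv7 F227548)
def n197437 : Q := act 5 n108155
theorem D197437 : act 5 n108155 = n197437 := rfl
theorem F404311 : act 2 n197437 = n141368 := d2_1 D197437 F357024 (iv2 F167244)
theorem F404312 : act 6 n197437 = n108157 := d12_2 D108155 D197437 (iv5 D108157) (iv6 D49954) (iv5 F79004)
theorem F404313 : act 7 n197437 = n141363 := d13_2 F404270 D197437 F404272
theorem F404314 : act 4 n197437 = n108284 := d16_2 (iv4 F167245) D197437 F333705 (iv4 F333408) (iv5 F357062) F180040 (iv5 F111533) (iv7 D74338) (iv2 F111044)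
theorem F404315 : act 1 n142738 = n197437 := d18_6 F314103 F312335 F333719 F116297 F322337 (iv4 F225643) F404314 (iv0 D108284) D108286
def n197438 : Q := act 3 n108156
theorem D197438 : act 3 n108156 = n197438 := rfl
theorem F404316 : act 4 n197438 = n115722 := d5_2 F167248 D197438 (iv3 D115722) (iv4 D53361) D53360
theorem F404317 : act 7 n197438 = n195523 := d8_2 (iv7 F167247) D197438 (iv3 D195523)
def n197439 : Q := act 5 n108156
theorem D197439 : act 5 n108156 = n197439 := rfl
theorem F404318 : act 2 n197439 = n195521 := d2_1 D197439 (iv5 D195521) (iv2 F167249)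
theorem F404319 : act 7 n197439 = n195524 := d13_2 (iv7 F167247) D197439 (iv5 D195524)
theorem F404320 : act 0 n197439 = n118261 := d17_2 (iv1 F167246) D197439 F351847 F103832 D67824 (iv0 F167261) (iv5 D108165) F79008 (iv4 F162006)
theorem F404321 : act 1 n197439 = n144461 := d17_8 F167388 D68282 D145667 (iv5 F318637) (iv4 F396705) (iv5 D108157) D108156 D197439 F227280
def n197440 : Q := act 6 n108156
theorem D197440 : act 6 n108156 = n197440 := rfl
theorem F404322 : act 2 n197440 = n195522 := d3_1 D197440 (iv6 D195522) (iv2 F167249)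
theorem F404323 : act 4 n197440 = n115721 := d10_1 D197440 (iv6 D115721) F167248
theorem F404324 : act 5 n197440 = n144443 := d21_6 (iv5 F76908) (iv1 F99688) F99685 D105519 (iv1 F167246) D197440 (iv1 D144443) (iv5 D67684) (iv6 D31434) (iv1 F38582)
theorem F404325 : act 1 n195430 = n197440 := d18_6 (iv1 D133182) F97393 F212084 (iv4 D132291) (iv5 F162199) (iv4 F396989) F404323 (iv0 F219987) F219986
def n197441 : Q := act 0 n108157
theorem D197441 : act 0 n108157 = n197441 := rfl
theorem F404326 : act 5 n197441 = n196882 := d17_1 D197441 F402145 F351848 (iv4 D140990) F320850 F318701 D68282 D145668 (iv4 F396705)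
theorem F404327 : act 1 n195324 = n197441 := d15_0 (iv0 D197441) F167251 (iv2 F396703)
theorem F404328 : act 2 n195527 = n197441 := d2_3 F404326 F402142 (iv5 F397223)
theorem F404329 : act 7 n195526 = n197441 := d13_0 F404326 F402144 (iv5 F397222)
def n197442 : Q := act 1 n108157
theorem D197442 : act 1 n108157 = n197442 := rfl
theorem F404330 : act 1 n197442 = n195324 := d15_1 D197442 (iv7 F403724) F403722
theorem F404331 : act 7 n197442 = n195527 := d15_2 (iv0 D197441) D197442 F404328
theorem F404332 : act 2 n195526 = n197442 := d4_3 F404331 F404328 (iv7 F404329)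
theorem F404333 : act 4 n197442 = n145583 := d16_0 (iv5 D145583) D145582 (iv5 F351846) (iv4 D107419) D107420 D196882 (iv5 F404326) (iv7 F404329) F404332
theorem F404334 : act 6 n195561 = n197442 := d10_0 F404333 F351587 (iv4 F397351)
def n197443 : Q := act 6 n108159
theorem D197443 : act 6 n108159 = n197443 := rfl
theorem F404335 : act 2 n197443 = n125990 := d3_1 D197443 F202669 (iv2 F202567)
theorem F404336 : act 4 n197443 = n108161 := d10_1 D197443 (iv6 D108161) D108159
theorem F404337 : act 5 n197443 = n179918 := d12_1 D197443 (iv6 D179918) (iv5 D85969) D85970 (iv5 F351838)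
theorem F404338 : act 7 n197443 = n125984 := d14_2 F202556 D197443 (iv6 F212791) F397235 (iv6 D195530)
theorem F404339 : act 0 n179918 = n195404 := d21_7 D108022 (iv1 F176197) F176195 D113095 (iv1 F176201) D197443 F404337 (iv5 D195404) F162144 F100140
theorem F404340 : act 0 n195403 = n179918 := d21_1 D195403 (iv5 F404337) (iv6 D197443) F168321 (iv6 D105572) (iv5 F162074) (iv1 F162076) (iv5 D48807) D48808 D105565
theorem F404341 : act 0 n195450 = n197443 := d17_0 F404337 F404339 (iv5 D195404) (iv4 F162143) (iv5 F81004) D111292 (iv5 F245604) (iv0 F245607) (iv4 F397019)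
def n197444 : Q := act 4 n108160
theorem D197444 : act 4 n108160 = n197444 := rfl
theorem F404342 : act 2 n197444 = n144729 := d1_1 D197444 (iv4 D144729) (iv2 F202564)
theorem F404343 : act 6 n197444 = n112780 := d10_2 (iv6 F167253) D197444 (iv4 D112780)
theorem F404344 : act 7 n197444 = n144728 := d11_2 F202557 D197444 (iv4 D144728)
theorem F404345 : act 5 n197444 = n145669 := d16_1 D197444 (iv4 D145669) (iv5 D68282) (iv4 F104427) (iv5 F351842) (iv4 D108164) D108165 (iv7 F202563) (iv2 F202564)
theorem F404346 : act 0 n197444 = n139598 := d17_0 F351845 (iv1 D140995) (iv5 F351840) (iv4 D105657) F111407 (iv0 F204162) F204160 F167255 D197444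
theorem F404347 : act 1 n197444 = n197282 := d18_6 F168293 (iv4 F176199) (iv1 F176201) (iv4 D108159) D108160 D197444 F403823 F222746 F222745
def n197445 : Q := act 4 n108165
theorem D197445 : act 4 n108165 = n197445 := rfl
theorem F404348 : act 2 n197445 = n144728 := d1_1 D197445 (iv4 D144728) F202561
theorem F404349 : act 5 n197445 = n179926 := d9_2 D108165 D197445 (iv4 D179926) (iv5 D85973) (iv4 F131915) (iv5 F351838) (iv4 D108159) D108160 D197444 F404345 (iv4 D145669) (iv5 D68282) (iv4 F104427) (iv5 F351842) (iv4 D108164)
theorem F404350 : act 6 n197445 = n137805 := d10_2 (iv6 F167260) D197445 F344616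
theorem F404351 : act 7 n197445 = n144729 := d11_2 F202563 D197445 (iv4 D144729)
theorem F404352 : act 0 n197445 = n197282 := d17_0 F403824 F245706 F351843 (iv4 D105653) (iv5 F111409) (iv0 D67822) D67824 (iv0 F167261) D197445
theorem F404353 : act 1 n197445 = n139598 := d18_6 F168291 (iv4 F162170) F168295 (iv4 D108164) D108165 D197445 F222744 D139600 (iv5 F222754)
theorem E103689 : n195360 = n179943 := (c12_3 F404350 (iv5 F347236) D195360 (iv5 D179943) (iv6 F280206) (iv5 F404349))
theorem F404354 : act 0 n179943 = n144446 := (sb E103689 F396972)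
theorem F404355 : act 6 n179943 = n105541 := (sb E103689 (iv6 D195360))
theorem F404356 : act 6 n195359 = n195456 := d7_2 F404355 D195359 F397046
theorem F404357 : act 5 n144446 = n118244 := d17_3 F322290 D179943 F404354 F278982 (iv5 F241307) (iv0 D124815) D124817 F322287 (iv4 F162233)
theorem F404358 : act 3 n118244 = n144447 := d6_1 F404357 (iv5 D144447) D144446
theorem F404359 : act 3 n196607 = n197445 := d6_3 F404349 (iv3 F397050) F401215
def n197446 : Q := act 6 n108166
theorem D197446 : act 6 n108166 = n197446 := rfl
theorem F404360 : act 2 n197446 = n157228 := d3_1 D197446 (iv6 D157228) F245771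
theorem F404361 : act 3 n197446 = n110206 := d7_1 D197446 (iv6 F353350) F329275
theorem F404362 : act 5 n197446 = n110205 := d12_1 D197446 F325604 (iv5 F292432) (iv6 F353359) F246891
theorem F404363 : act 0 n148053 = n197446 := d21_4 (iv5 F379161) (iv1 D190242) (iv5 F361796) (iv6 F347166) (iv6 D197446) (iv5 F246891) (iv1 F246892) (iv5 D138923) D138924 (iv1 F366533)
theorem E103690 : n142504 = n110205 := (c21_8 D157229 (iv1 F247445) (iv5 D138935) F322929 (iv1 D31139) D31141 D66809 D142504 (iv5 F404362) (iv6 D197446) (iv1 F167263))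
theorem F404364 : act 1 n110205 = n66809 := (sb E103690 (iv0 D142504))
def n197447 : Q := act 3 n108167
theorem D197447 : act 3 n108167 = n197447 := rfl
theorem F404365 : act 2 n197447 = n193662 := d0_1 D197447 (iv3 D193662) F329279 (iv3 D157225) (iv2 F245772)
theorem F404366 : act 4 n197447 = n138508 := d5_2 F167264 D197447 (iv3 D138508) (iv4 D65052) D65051
theorem F404367 : act 6 n197447 = n145417 := d7_2 F352801 D197447 F348052
theorem F404368 : act 7 n197447 = n157227 := d8_2 (iv7 F245768) D197447 (iv3 D157227)
theorem F404369 : act 0 n197447 = n193712 := d20_4 F316054 (iv1 D138501) F167264 D197447 F390753 F355516 (iv1 D85315) F318269 F316057 D85279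
theorem F404370 : act 0 n193723 = n197447 := d20_4 F174522 D195471 F403773 (iv3 F390790) (iv3 D197447) (iv4 F167264) F316783 F131911 D178869 (iv1 F397080)
theorem F404371 : act 5 n197447 = n190436 := d21_6 F372086 (iv1 F376053) (iv5 F390819) (iv6 F402530) (iv1 F402529) (iv6 F404367) (iv1 D190436) (iv5 F372105) (iv6 D188014) D188011
theorem F404372 : act 3 n190436 = n156876 := d6_1 F404371 (iv5 F246899) D197447
def n197448 : Q := act 7 n108173
theorem D197448 : act 7 n108173 = n197448 := rfl
theorem F404373 : act 3 n197448 = n166517 := d8_1 D197448 F346940 F346942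
theorem F404374 : act 4 n197448 = n196779 := d11_1 D197448 F401768 (iv4 F350590)
theorem F404375 : act 5 n197448 = n108174 := d13_1 D197448 (iv7 D108174) D108173
theorem F404376 : act 1 n196756 = n197448 := d15_1 (iv0 F401701) (iv7 D197448) (iv2 F175714)
theorem F404377 : act 1 n197448 = n196748 := d15_1 F404376 F401676 (iv2 F401698)
def n197449 : Q := act 0 n108191
theorem D197449 : act 0 n108191 = n197449 := rfl
theorem F404378 : act 5 n197449 = n195893 := d17_1 D197449 (iv1 F398624) (iv5 F398590) F398589 (iv5 D175990) (iv0 F321689) F326620 (iv0 F331955) (iv4 F167295)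
theorem F404379 : act 1 n157150 = n197449 := d15_0 (iv0 D197449) F167297 D157150
def n197450 : Q := act 1 n108191
theorem D197450 : act 1 n108191 = n197450 := rfl
theorem F404380 : act 4 n162609 = n197450 := d20_0 (iv1 D197450) F167295 (iv3 D107637) (iv1 D49726) D49727 (iv4 F166055) (iv1 F347951) F176356 (iv3 F176350) F362989
theorem F404381 : act 2 n197450 = n157148 := d1_1 F404380 F359162 (iv2 F359161)
theorem F404382 : act 6 n197450 = n162608 := d10_2 D162609 F404380 (iv4 D162608)
theorem F404383 : act 1 n197450 = n157150 := d18_6 F321689 (iv4 F350990) F326574 (iv4 F300963) (iv5 F256839) F404380 (iv4 F345583) F327861 (iv5 F326620)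
theorem F404384 : act 5 n195894 = n197450 := d19_1 (iv1 F398631) (iv4 F404380) F360153 (iv1 D85989) (iv5 F113849) (iv4 F321863) F321862 (iv1 F102718) (iv5 F222887) F336913 F347352 F347355 (iv5 F387366) F387365 (iv3 D100493) F205698 D82894 D173222 (iv3 F346352)
theorem F404385 : act 7 n197449 = n157148 := d15_2 F404383 F404379 (iv2 F404381)
theorem F404386 : act 7 n157149 = n197450 := d15_2 (iv0 D157148) D157149 F404381
theorem F404387 : act 2 n157149 = n197449 := d4_3 F404385 (iv2 F404381) (iv7 F404386)
theorem F404388 : act 5 n180386 = n157149 := d2_0 F404387 F404378 F398630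
theorem F404389 : act 3 n157149 = n180389 := d6_1 F404388 (iv5 D180389) (iv3 F280716)
def n197451 : Q := act 2 n108191
theorem D197451 : act 2 n108191 = n197451 := rfl
theorem F404390 : act 3 n197451 = n157154 := d0_2 D108191 D197451 (iv2 D157154) (iv3 D74717) F79037
theorem F404391 : act 4 n197451 = n178918 := d1_2 (iv4 F167295) D197451 (iv2 F345585)
theorem F404392 : act 6 n197451 = n196637 := d3_2 (iv6 F167296) D197451 (iv2 D196637)
theorem F404393 : act 7 n197451 = n157150 := d4_2 (iv7 F167297) D197451 (iv2 D157150)
theorem F404394 : act 1 n197451 = n157148 := d15_0 (iv0 D157148) (iv7 F167297) D197451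
theorem F404395 : act 1 n157149 = n197451 := d15_0 F404394 (iv7 F404385) (iv2 F404387)
def n197452 : Q := act 0 n108192
theorem D197452 : act 0 n108192 = n197452 := rfl
theorem F404396 : act 5 n197452 = n174060 := d17_1 D197452 F358706 (iv5 D107027) (iv4 F79280) F332989 D101150 (iv5 F357933) (iv0 D139613) (iv4 F167298)
theorem F404397 : act 4 n197452 = n192684 := d18_3 (iv1 D139614) (iv4 F167298) D197452 (iv5 D192684) (iv4 F155366) F153265 F332980 F333007 F357938
theorem F404398 : act 1 n157154 = n197452 := d15_0 (iv0 D197452) F167299 D157154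
theorem F404399 : act 7 n157152 = n197452 := d11_0 F404397 (iv7 F389364) F389353
theorem F404400 : act 2 n157153 = n197452 := d2_3 F404396 F342038 F342035
theorem F404401 : act 6 n196553 = n197452 := d21_5 F336114 (iv1 D68140) (iv5 F78212) D107074 D196553 F404396 F358706 (iv5 D107027) F78167 F336119
def n197453 : Q := act 1 n108192
theorem D197453 : act 1 n108192 = n197453 := rfl
theorem F404402 : act 7 n197453 = n157153 := d15_2 (iv0 D197452) D197453 F404400
theorem F404403 : act 5 n197453 = n157956 := d17_7 (iv1 D166740) (iv5 F330849) (iv1 F342037) (iv5 F387300) (iv4 F400728) F400729 D197453 F337622 F333006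
theorem F404404 : act 4 n192681 = n197453 := d20_6 (iv4 D49915) D49914 F78949 D65034 D138450 (iv3 F387455) (iv1 D197453) F167298 (iv3 D65526) (iv1 F78957)
theorem F404405 : act 2 n197453 = n157152 := d1_1 F404404 (iv4 F389353) F389363
theorem F404406 : act 1 n197453 = n157154 := d18_6 (iv1 D101150) (iv4 D47114) D47112 (iv4 F274947) D192681 F404404 F247327 F222766 F357933
theorem F404407 : act 0 n192681 = n124794 := d20_1 (iv4 F404404) F312826 (iv3 D157183) (iv1 F314350) (iv3 F278799) (iv4 D178921) D178918 (iv4 F404391) F404390 (iv1 F404406)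
def n197454 : Q := act 2 n108192
theorem D197454 : act 2 n108192 = n197454 := rfl
theorem F404408 : act 3 n197454 = n157150 := d0_2 D108192 D197454 (iv2 D157150) (iv3 D74715) F79043
theorem F404409 : act 4 n197454 = n139615 := d1_2 (iv4 F167298) D197454 (iv2 D139615)
theorem F404410 : act 7 n197454 = n157154 := d4_2 (iv7 F167299) D197454 (iv2 D157154)
theorem F404411 : act 1 n197454 = n157152 := d15_0 (iv0 D157152) (iv7 F167299) D197454
theorem F404412 : act 1 n157153 = n197454 := d15_0 F404411 F404399 (iv2 F404400)
def n197455 : Q := act 6 n108192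
theorem D197455 : act 6 n108192 = n197455 := rfl
theorem F404413 : act 3 n197455 = n108193 := d7_1 D197455 (iv6 D108193) D108192
theorem F404414 : act 4 n197455 = n139617 := d10_1 D197455 (iv6 D139617) (iv4 F167298)
theorem F404415 : act 7 n197455 = n196630 := d14_2 (iv7 F167299) D197455 (iv6 D196630) F165128 (iv6 F112137)
def n197456 : Q := act 3 n108195
theorem D197456 : act 3 n108195 = n197456 := rfl
theorem F404416 : act 4 n197456 = n138361 := d5_2 F167304 D197456 (iv3 D138361) (iv4 D64993) D64992
theorem F404417 : act 5 n197456 = n193402 := d6_2 F246736 D197456 F389727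
theorem F404418 : act 7 n197456 = n157156 := d8_2 (iv7 F212174) D197456 (iv3 D157156)
def n197457 : Q := act 6 n108195
theorem D197457 : act 6 n108195 = n197457 := rfl
theorem F404419 : act 2 n197457 = n157155 := d3_1 D197457 (iv6 D157155) (iv2 F212176)
theorem F404420 : act 4 n197457 = n138358 := d10_1 D197457 (iv6 D138358) F167304
theorem F404421 : act 0 n197457 = n147506 := d21_10 F381494 (iv1 D137694) (iv5 F350036) F350034 (iv1 F186218) F316705 (iv5 F348814) F348810 F246736 D197457
theorem F404422 : act 0 n147492 = n197457 := d18_0 F404420 F355134 (iv4 F276669) (iv5 F355523) (iv4 D137715) (iv0 F329315) (iv4 F381490) (iv0 F381495) (iv5 F357258)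
def n197458 : Q := act 0 n108199
theorem D197458 : act 0 n108199 = n197458 := rfl
theorem F404423 : act 4 n197458 = n180391 := d20_0 (iv1 D180391) (iv4 F198717) (iv3 D124230) (iv1 D57921) D57922 (iv4 F119733) (iv1 F354389) F354392 (iv3 F354395) D197458
theorem F404424 : act 2 n196490 = n197458 := d1_3 F404423 (iv2 F363806) (iv4 F400822)
theorem F404425 : act 7 n196491 = n197458 := d11_0 F404423 F363807 F400823
def n197459 : Q := act 1 n108199
theorem D197459 : act 1 n108199 = n197459 := rfl
theorem F404426 : act 1 n197459 = n196493 := d15_1 D197459 (iv7 D196493) (iv2 F167318)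
theorem F404427 : act 7 n197459 = n196490 := d15_2 (iv0 D197458) D197459 F404424
theorem F404428 : act 2 n196491 = n197459 := d4_3 F404427 F404424 (iv7 F404425)
theorem F404429 : act 4 n180390 = n197459 := d11_3 F404427 F400822 F363804
theorem F404430 : act 1 n196493 = n197458 := d15_1 F404426 (iv7 F404425) F404428
def n197460 : Q := act 5 n108199
theorem D197460 : act 5 n108199 = n197460 := rfl
theorem F404431 : act 2 n197460 = n196492 := d2_1 D197460 (iv5 D196492) (iv2 F167318)
theorem F404432 : act 6 n197460 = n108200 := d12_2 D108199 D197460 (iv5 D108200) (iv6 D49973) D49972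
def n197461 : Q := act 7 n108199
theorem D197461 : act 7 n108199 = n197461 := rfl
theorem F404433 : act 2 n197461 = n196493 := d4_1 D197461 (iv7 D196493) (iv2 F167318)
theorem F404434 : act 6 n197461 = n157167 := d14_1 D197461 (iv7 D157167) (iv6 D74723) (iv7 F79047) D108199
theorem F404435 : act 1 n196491 = n197461 := d15_1 D196491 (iv7 D197461) F167318
theorem F404436 : act 1 n197461 = n196490 := d15_1 F404435 (iv7 F404427) (iv2 F404428)
def n197462 : Q := act 0 n108200
theorem D197462 : act 0 n108200 = n197462 := rfl
theorem F404437 : act 5 n197462 = n111031 := d17_3 F79051 D108200 D197462 F172192 (iv5 F209493) (iv0 D130905) F95914 (iv0 F53458) (iv4 F78215)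
theorem F404438 : act 1 n196557 = n197462 := d15_0 (iv0 D197462) (iv7 F227333) (iv2 F401074)
theorem F404439 : act 2 n196699 = n197462 := d2_3 F404437 F172191 D196699
theorem F404440 : act 3 n174581 = n197462 := d6_3 F404437 F364877 D174581
def n197463 : Q := act 1 n108200
theorem D197463 : act 1 n108200 = n197463 := rfl
theorem F404441 : act 1 n197463 = n196557 := d15_1 D197463 F401075 F201795
theorem F404442 : act 7 n197463 = n196699 := d15_2 (iv0 D197462) D197463 F404439
theorem F404443 : act 5 n197463 = n196450 := d17_7 F201805 F201802 (iv1 D62057) F47068 (iv4 F79050) D108200 D197463 F400723 (iv4 D131970)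
def n197464 : Q := act 4 n108200
theorem D197464 : act 4 n108200 = n197464 := rfl
def n197465 : Q := act 1 n108203
theorem D197465 : act 1 n108203 = n197465 := rfl
theorem F404444 : act 1 n197465 = n108208 := d15_1 D197465 F212157 (iv2 F212159)
theorem F404445 : act 7 n197465 = n157182 := d15_2 (iv0 F311284) D197465 F314351
theorem F404446 : act 4 n197465 = n125180 := d18_7 (iv1 F92456) D125157 F201157 (iv4 F94837) F310701 D108203 D197465 (iv0 F201229) (iv5 D60340)
theorem F404447 : act 2 n125181 = n197465 := d1_3 F404446 (iv2 D125180) D125181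
theorem F404448 : act 3 n197465 = n144319 := d20_3 F316711 F201229 (iv4 F404446) (iv1 D144319) (iv3 D67619) (iv4 D31409) (iv1 F24463) D16566 D34238 D74718
theorem F404449 : act 2 n144319 = n128805 := d0_1 F404448 F364904 (iv2 F341151) F278799 F404447
theorem F404450 : act 7 n144319 = n128806 := d8_2 (iv7 F404445) F404448 (iv3 F247374)
theorem F404451 : act 2 n128806 = n144318 := d15_3 (iv0 D144318) D144319 F404450
theorem F404452 : act 7 n128805 = n144318 := d4_2 (iv7 F404450) F404449 (iv2 F404451)
def n197466 : Q := act 3 n108203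
theorem D197466 : act 3 n108203 = n197466 := rfl
theorem F404453 : act 4 n197466 = n156317 := d5_2 D108203 D197466 (iv3 D156317) F312816 F311283
theorem F404454 : act 7 n197466 = n157183 := d8_2 F212196 D197466 (iv3 D157183)
theorem F404455 : act 5 n175420 = n197466 := d16_1 D175420 F404453 F387332 (iv4 D192642) F312631 F310441 D83855 (iv7 F309555) (iv2 F128800)
def n197467 : Q := act 5 n108203
theorem D197467 : act 5 n108203 = n197467 := rfl
theorem F404456 : act 2 n197467 = n128996 := d2_1 D197467 F208765 (iv2 F212159)
theorem F404457 : act 3 n197467 = n175420 := d6_1 D197467 F404455 (iv3 D197466)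
theorem F404458 : act 7 n197467 = n129012 := d13_2 F212196 D197467 (iv5 F208766)
theorem F404459 : act 4 n197467 = n128980 := d16_2 D108203 D197467 (iv5 D128980) F207217 F315358 F190882 F310703 (iv7 F212155) F212154
theorem F404460 : act 0 n197467 = n128362 := d17_2 (iv1 D197465) D197467 (iv5 D128362) (iv4 D60349) (iv5 D28659) D28658 D60345 F201232 (iv4 F404446)
theorem F404461 : act 6 n191390 = n197467 := d21_5 (iv5 F248832) (iv1 F386114) F386113 F386115 (iv1 F383311) (iv5 D197467) F311284 D179610 F365758 (iv1 D170827)
def n197468 : Q := act 6 n108207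
theorem D197468 : act 6 n108207 = n197468 := rfl
theorem F404462 : act 3 n197468 = n108210 := d7_1 D197468 (iv6 D108210) D108207
theorem F404463 : act 5 n197468 = n143058 := d12_1 D197468 (iv6 F360675) (iv5 F236031) (iv6 D150029) F312969
theorem F404464 : act 0 n148003 = n197468 := d21_4 F357845 F393650 F393649 (iv6 F364528) (iv6 D197468) (iv5 F312969) F232354 F314617 D139078 (iv1 F357844)
def n197469 : Q := act 5 n108208
theorem D197469 : act 5 n108208 = n197469 := rfl
theorem F404465 : act 2 n197469 = n129012 := d2_1 D197469 (iv5 F208766) (iv2 F212158)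
theorem F404466 : act 3 n197469 = n110286 := d6_1 D197469 (iv5 F398577) F398578
theorem F404467 : act 4 n197469 = n128998 := d9_1 D197469 F207252 (iv4 F315355) (iv5 D128268) (iv4 F94837) F310701 D108203 D197467 F404459 (iv5 D128980) F207217 F315358 F190882 F310703 D108208
theorem F404468 : act 7 n197469 = n128996 := d13_2 (iv7 F212157) D197469 F208765
theorem F404469 : act 1 n197469 = n128362 := d17_6 (iv1 F53808) (iv5 F312959) F199871 F310703 D108208 D197469 (iv5 D128362) F314326 (iv4 D74559)
theorem F404470 : act 6 n124209 = n197469 := d7_0 F404466 F326202 D124209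
def n197470 : Q := act 6 n108208
theorem D197470 : act 6 n108208 = n197470 := rfl
theorem F404471 : act 2 n197470 = n157184 := d3_1 D197470 (iv6 D157184) (iv2 F212158)
theorem F404472 : act 4 n197470 = n108210 := d10_1 D197470 (iv6 D108210) D108208
theorem F404473 : act 0 n179638 = n197470 := d18_0 F404472 F311291 D147506 F381494 (iv4 F385727) (iv0 F385728) (iv4 F381935) F386867 (iv5 F386865)
def n197471 : Q := act 5 n108217
theorem D197471 : act 5 n108217 = n197471 := rfl
theorem F404474 : act 2 n197471 = n196934 := d2_1 D197471 (iv5 D196934) (iv2 F167330)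
theorem F404475 : act 6 n197471 = n108220 := d12_2 D108217 D197471 (iv5 D108220) (iv6 D49980) D49979
def n197472 : Q := act 7 n108217
theorem D197472 : act 7 n108217 = n197472 := rfl
theorem F404476 : act 2 n197472 = n185660 := d4_1 D197472 F361220 (iv2 F167330)
theorem F404477 : act 3 n197472 = n191192 := d8_1 D197472 F382545 F222131
theorem F404478 : act 4 n197472 = n113016 := d11_1 D197472 (iv7 D113016) (iv4 F167331)
theorem F404479 : act 6 n197472 = n185656 := d14_1 D197472 (iv7 F292595) F294549 (iv7 F79061) D108217
theorem F404480 : act 1 n196933 = n197472 := d15_1 D196933 (iv7 D197472) F167330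
theorem F404481 : act 1 n197472 = n196932 := d15_1 F404480 (iv7 F402349) F402354
def n197473 : Q := act 3 n108218
theorem D197473 : act 3 n108218 = n197473 := rfl
theorem F404482 : act 6 n197473 = n136288 := d7_2 (iv6 F175749) D197473 (iv3 F382053)
def n197474 : Q := act 5 n108218
theorem D197474 : act 5 n108218 = n197474 := rfl
def n197475 : Q := act 3 n108219
theorem D197475 : act 3 n108219 = n197475 := rfl
def n197476 : Q := act 5 n108219
theorem D197476 : act 5 n108219 = n197476 := rfl
def n197477 : Q := act 6 n108219
theorem D197477 : act 6 n108219 = n197477 := rfl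
theorem F404483 : act 4 n197477 = n113062 := d10_1 D197477 (iv6 D113062) F167332
theorem F404484 : act 7 n197477 = n196749 := d14_2 (iv7 F175745) D197477 (iv6 D196749) F165318 F175744
theorem F404485 : act 5 n197477 = n160638 := d21_6 F296078 (iv1 D48057) D48059 D103803 F295864 D197477 (iv1 F350491) F350492 F85068 (iv1 F103330)
theorem F404486 : act 6 n197476 = n160644 := d12_2 (iv6 D197477) D197476 (iv5 D160644) (iv6 F253749) (iv5 F404485)
theorem F404487 : act 3 n160645 = n197476 := d7_3 F404486 F253755 D160645
theorem F404488 : act 5 n197475 = n160645 := d6_0 F404487 (iv5 D197476) D197475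
theorem F404489 : act 6 n160639 = n197475 := d12_0 F404488 (iv6 D160645) (iv5 D77044) (iv6 F115766) D160639
theorem F404490 : act 3 n197477 = n160639 := d7_3 F404489 (iv3 D197475) D197477
theorem F404491 : act 0 n195683 = n197477 := d17_0 F404485 (iv1 F350491) F350492 F85067 (iv5 F80357) F92978 (iv5 F167346) (iv0 F167347) D195683
theorem F404492 : act 1 n125991 = n197477 := d15_0 (iv0 F404491) F397847 F202901
def n197478 : Q := act 1 n108220
theorem D197478 : act 1 n108220 = n197478 := rfl
theorem F404493 : act 1 n197478 = n144134 := d15_1 D197478 (iv7 F226848) F175754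
theorem F404494 : act 7 n197478 = n117003 := d15_2 (iv0 F167333) D197478 F182925
theorem F404495 : act 5 n197478 = n117004 := d17_7 (iv1 F85034) F85030 (iv1 F45257) F38789 (iv4 F79063) D108220 D197478 F182931 (iv4 D67499)
theorem F404496 : act 1 n144064 = n187336 := d18_6 (iv1 F182930) (iv4 D67503) (iv1 D31364) (iv4 F49631) D67496 D144064 F369869 D197478 F404495
theorem F404497 : act 2 n144136 = n197478 := d2_3 F404495 F182927 (iv5 F226849)
def n197479 : Q := act 7 n108220
theorem D197479 : act 7 n108220 = n197479 := rfl
theorem F404498 : act 2 n197479 = n144134 := d4_1 D197479 (iv7 F226848) F175754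
theorem F404499 : act 3 n197479 = n151279 := d8_1 D197479 (iv7 F362037) F222132
theorem F404500 : act 4 n197479 = n187257 := d11_1 D197479 (iv7 F369871) F369869
theorem F404501 : act 5 n197479 = n108221 := d13_1 D197479 (iv7 D108221) D108220
theorem F404502 : act 1 n144136 = n197479 := d15_1 F226850 (iv7 D197479) (iv2 F175754)
theorem F404503 : act 1 n197479 = n117003 := d15_1 F404502 (iv7 F404494) (iv2 F404497)
theorem F404504 : act 6 n187339 = n197479 := d12_0 F404501 (iv6 F321405) (iv5 F323025) D103799 (iv5 F369884)
def n197480 : Q := act 5 n108222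
theorem D197480 : act 5 n108222 = n197480 := rfl
theorem F404505 : act 2 n197480 = n134841 := d2_1 D197480 (iv5 D134841) (iv2 F171747)
theorem F404506 : act 3 n197480 = n108224 := d6_1 D197480 (iv5 D108224) D108222
theorem F404507 : act 6 n197480 = n197149 := d12_2 (iv6 F167336) D197480 (iv5 D197149) F166492 F166140
theorem F404508 : act 7 n197480 = n126313 := d13_2 F171748 D197480 F203099
theorem F404509 : act 4 n197480 = n139735 := d16_2 F167337 D197480 (iv5 D139735) (iv4 D65587) F163942 (iv4 F168963) (iv5 F339609) F171754 (iv2 F171752)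
theorem F404510 : act 1 n197480 = n126172 := d17_8 (iv1 F336733) (iv5 D140478) (iv1 F180077) (iv5 F362636) F172639 F101584 (iv0 F171777) D197480 F202893
def n197481 : Q := act 3 n108223
theorem D197481 : act 3 n108223 = n197481 := rfl
theorem F404511 : act 4 n197481 = n141963 := d5_2 D108223 D197481 F225008 F167337 (iv3 D108222)
theorem F404512 : act 6 n197481 = n137507 := d7_2 (iv6 F167340) D197481 (iv3 D137507)
theorem F404513 : act 0 n141963 = n194345 := d20_7 D194359 F392941 (iv4 F175937) F175936 F171778 D197481 F404511 F392889 F158480 D103246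
def n197482 : Q := act 5 n108223
theorem D197482 : act 5 n108223 = n197482 := rfl
theorem F404514 : act 6 n197482 = n190283 := d12_2 (iv6 F167340) D197482 (iv5 F379273) F353125 (iv5 D137508)
def n197483 : Q := act 4 n108224
theorem D197483 : act 4 n108224 = n197483 := rfl
theorem F404515 : act 6 n197483 = n197152 := d10_2 (iv6 F167341) D197483 (iv4 D197152)
theorem F404516 : act 7 n197483 = n113557 := d11_2 (iv7 F167342) D197483 F176709
theorem F404517 : act 1 n197483 = n113368 := d18_6 (iv1 D52205) (iv4 F82436) F171778 (iv4 D108223) D108224 D197483 F176560 (iv0 F176155) F161230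
def n197484 : Q := act 6 n108225
theorem D197484 : act 6 n108225 = n197484 := rfl
theorem F404518 : act 2 n197484 = n197110 := d3_1 D197484 (iv6 D197110) (iv2 F175898)
theorem F404519 : act 3 n197484 = n108227 := d7_1 D197484 (iv6 D108227) D108225
theorem F404520 : act 5 n197484 = n112550 := d12_1 D197484 (iv6 F202440) (iv5 D125944) D125945 F202442
theorem F404521 : act 0 n197484 = n195681 := d21_10 (iv5 D195681) (iv1 F397837) F397834 (iv6 F403740) (iv1 F403741) F330589 (iv5 F203192) F203193 F202442 D197484
theorem F404522 : act 1 n197484 = n195682 := d15_1 (iv0 F404521) F397843 (iv2 F397838)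
def n197485 : Q := act 3 n108226
theorem D197485 : act 3 n108226 = n197485 := rfl
def n197486 : Q := act 5 n108226
theorem D197486 : act 5 n108226 = n197486 := rfl
def n197487 : Q := act 6 n108226
theorem D197487 : act 6 n108226 = n197487 := rfl
theorem F404523 : act 4 n197487 = n108227 := d10_1 D197487 (iv6 D108227) D108226
theorem F404524 : act 7 n197487 = n137506 := d14_2 F175762 D197487 (iv6 D137506) F166453 (iv6 F175761)
theorem F404525 : act 5 n137098 = n197487 := d21_2 D64445 D137098 (iv6 D197487) F167345 (iv6 D52148) (iv5 F80265) (iv1 F96048) F96050 (iv6 F93331) F93333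
theorem F404526 : act 1 n195060 = n197487 := d15_1 (iv0 F395607) F404524 F220697
theorem F404527 : act 1 n197487 = n138261 := d15_1 F404526 (iv7 F221458) (iv2 F395605)
def n197488 : Q := act 6 n108232
theorem D197488 : act 6 n108232 = n197488 := rfl
theorem F404528 : act 3 n197488 = n108235 := d7_1 D197488 (iv6 D108235) D108232
theorem F404529 : act 5 n197488 = n144967 := d12_1 D197488 (iv6 F233282) F233284 F184606 (iv5 F314600)
theorem F404530 : act 7 n197488 = n118251 := d14_2 (iv7 F167370) D197488 (iv6 D118251) F86006 F315164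
theorem F404531 : act 0 n150853 = n197488 := d17_0 F404529 (iv1 F397493) F397489 F226865 D144166 (iv0 F366204) (iv5 D138943) D138942 F366535
def n197489 : Q := act 6 n108233
theorem D197489 : act 6 n108233 = n197489 := rfl
theorem F404532 : act 2 n197489 = n108242 := d3_1 D197489 (iv6 D108242) (iv2 F167371)
theorem F404533 : act 4 n197489 = n108235 := d10_1 D197489 (iv6 D108235) D108233
theorem F404534 : act 7 n197489 = n118254 := d14_2 (iv7 F167372) D197489 (iv6 D118254) F86007 F315167
def n197490 : Q := act 0 n108239
theorem D197490 : act 0 n108239 = n197490 := rfl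
theorem F404535 : act 2 n177141 = n197490 := d15_3 (iv0 D197490) (iv0 F393561) F393559
theorem F404536 : act 3 n197490 = n116337 := d0_2 (iv3 F276558) F404535 F319536 (iv3 F353412) F311194
theorem F404537 : act 5 n197490 = n177139 := d2_2 D177141 F404535 (iv2 D177139)
theorem F404538 : act 7 n197490 = n138692 := d4_2 F393559 F404535 (iv2 F393557)
theorem F404539 : act 1 n177141 = n156220 := d15_0 F393564 (iv7 F404538) (iv2 F404535)
theorem F404540 : act 6 n116334 = n197490 := d12_0 F404537 F366833 (iv5 F305846) F305847 (iv5 F319700)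
theorem F404541 : act 4 n152785 = n197490 := d20_2 (iv4 F112063) (iv1 F320445) F404536 F319705 F86085 (iv4 F316162) (iv1 F26177) (iv4 F316088) D71304 F318290
theorem F404542 : act 6 n116639 = n152785 := d10_0 F404541 (iv6 F404540) F366197
def n197491 : Q := act 5 n108239
theorem D197491 : act 5 n108239 = n197491 := rfl
theorem F404543 : act 3 n197491 = n108249 := d6_1 D197491 (iv5 D108249) (iv3 F167379)
theorem F404544 : act 6 n197491 = n127645 := d12_2 D108239 D197491 (iv5 F205207) F184577 F313367
theorem F404545 : act 7 n197491 = n117109 := d13_2 (iv7 F315148) D197491 (iv5 F239723)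
def n197492 : Q := act 3 n108240
theorem D197492 : act 3 n108240 = n197492 := rfl
theorem F404546 : act 2 n197492 = n196443 := d0_1 D197492 (iv3 F403630) (iv2 F403632) (iv3 F340260) (iv2 F313651)
theorem F404547 : act 4 n197492 = n125483 := d5_2 (iv4 F167380) D197492 F201812 (iv4 D65251) D65250
theorem F404548 : act 5 n197492 = n197292 := d6_2 F167382 D197492 (iv3 D197292)
theorem F404549 : act 7 n197492 = n196441 := d8_2 F246690 D197492 F400681
def n197493 : Q := act 6 n108240
theorem D197493 : act 6 n108240 = n197493 := rfl
theorem F404550 : act 4 n197493 = n139003 := d10_1 D197493 (iv6 D139003) (iv4 F167380)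
theorem F404551 : act 7 n197493 = n142738 := d14_2 F246690 D197493 (iv6 D142738) (iv7 F181513) F366082
theorem F404552 : act 0 n197493 = n141368 := d21_4 (iv5 D108079) D108076 F167382 D197493 (iv6 F403723) (iv5 D197248) (iv1 F166982) D195524 (iv6 F397217) (iv1 F312674)
theorem F404553 : act 1 n197493 = n141363 := d15_1 (iv0 F404552) (iv7 F404313) F404311
def n197494 : Q := act 0 n108242
theorem D197494 : act 0 n108242 = n197494 := rfl
theorem F404554 : act 4 n197494 = n139087 := d18_3 (iv1 F317397) (iv4 F167385) D197494 (iv5 F393269) F393268 (iv0 D119046) (iv4 F187301) (iv0 F333644) F333647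
theorem F404555 : act 6 n142901 = n197494 := d10_0 F404554 F363426 D142901
theorem F404556 : act 1 n118254 = n197494 := d18_6 (iv1 F334440) F356608 (iv1 D144977) F104081 (iv5 F86008) (iv4 F185795) F404554 (iv0 D139087) D139089
def n197495 : Q := act 1 n108242
theorem D197495 : act 1 n108242 = n197495 := rfl
theorem F404557 : act 1 n197495 = n118254 := d15_1 D197495 (iv7 F404534) F404532
theorem F404558 : act 4 n139088 = n197495 := d20_6 (iv4 F404541) (iv1 D152785) F108550 (iv3 F105126) (iv1 F200567) F363420 (iv1 D197495) F167385 (iv3 F167379) D197490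
theorem F404559 : act 6 n197495 = n195527 := d21_5 (iv5 F241400) F241401 (iv5 D118253) D118254 (iv1 F404557) F397223 (iv1 D144724) (iv5 F351847) (iv6 D118261) (iv1 F109146)
def n197496 : Q := act 5 n108242
theorem D197496 : act 5 n108242 = n197496 := rfl
def n197497 : Q := act 7 n108242
theorem D197497 : act 7 n108242 = n197497 := rfl
theorem F404560 : act 2 n197497 = n118254 := d4_1 D197497 (iv7 F404534) F404532
theorem F404561 : act 4 n197497 = n108250 := d11_1 D197497 (iv7 D108250) (iv4 F167385)
theorem F404562 : act 6 n197497 = n117180 := d14_1 D197497 F183333 (iv6 F315140) F167190 D108242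
def n197498 : Q := act 4 n108249
theorem D197498 : act 4 n108249 = n197498 := rfl
theorem F404563 : act 2 n197498 = n144979 := d1_1 D197498 F227945 F317346
theorem F404564 : act 6 n197498 = n127738 := d10_2 (iv6 F315155) D197498 (iv4 D127738)
theorem F404565 : act 7 n197498 = n117112 := d11_2 (iv7 F315156) D197498 F183172
theorem F404566 : act 0 n197498 = n144977 := d17_0 F356611 (iv1 D152537) (iv5 F177735) (iv4 F178797) F333622 (iv0 D139818) F319628 F317362 D197498
theorem F404567 : act 1 n197498 = n144976 := d18_6 (iv1 F334986) F404558 (iv1 D197495) F167385 D108249 D197498 (iv4 F334437) (iv0 D146313) D146315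
theorem F404568 : act 0 n127679 = n197491 := d20_4 (iv4 F320042) (iv1 F361891) (iv4 D127680) D127679 F404543 D197498 F404566 (iv4 F356608) F228569 (iv1 F324918)
theorem F404569 : act 5 n197498 = n152523 := d21_2 (iv5 F355317) (iv1 F404567) (iv6 D152523) (iv1 D71936) F52468 (iv5 D16048) D16046 D33239 D71942 F143459
def n197499 : Q := act 5 n108252
theorem D197499 : act 5 n108252 = n197499 := rfl
theorem F404570 : act 2 n197499 = n138543 := d2_1 D197499 F222373 (iv2 F221941)
theorem F404571 : act 3 n197499 = n150356 := d6_1 D197499 F236650 (iv3 F312146)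
theorem F404572 : act 6 n197499 = n150654 := d12_2 (iv6 F322930) D197499 (iv5 F261566) (iv6 F322666) F223901
theorem F404573 : act 7 n197499 = n150079 := d13_2 F312263 D197499 (iv5 F236168)
theorem F404574 : act 0 n197499 = n197204 := d17_2 D108252 D197499 F403513 F316788 (iv5 F279042) (iv0 D179099) (iv5 D85460) D85458 F315162
theorem F404575 : act 4 n197499 = n131435 := d17_4 (iv1 D69928) F315163 D108252 D197499 (iv5 F345391) (iv0 F345387) (iv5 D118449) D118448 F200282
theorem F404576 : act 1 n197499 = n108273 := d17_6 (iv1 D74764) D74766 F246881 (iv5 D156870) (iv4 F167401) D197499 (iv5 F312679) F312678 F112205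
def n197500 : Q := act 3 n108270
theorem D197500 : act 3 n108270 = n197500 := rfl
theorem F404577 : act 2 n197500 = n120485 := d0_1 D197500 (iv3 F344940) F156394 F315126 (iv2 F212686)
theorem F404578 : act 4 n197500 = n173796 := d5_2 D108270 D197500 (iv3 F361340) (iv4 F189777) (iv3 D108269)
theorem F404579 : act 6 n197500 = n193500 := d7_2 (iv6 F310480) D197500 F390088
theorem F404580 : act 7 n197500 = n120409 := d8_2 F312672 D197500 F303368
theorem F404581 : act 0 n197500 = n120486 := d19_4 F311548 F310481 D108270 D197500 F367942 F367944 (iv3 D132243) F96687 (iv5 D58741) (iv4 D27929) F22134 (iv1 F22151) F18666 F11303 F11302 F8668 (iv5 F18758) (iv4 F26116) D34113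
theorem F404582 : act 0 n120310 = n197500 := d20_4 F87644 (iv1 F91433) F87635 D120310 (iv3 D197500) (iv4 D108270) (iv1 F310476) (iv4 F303355) (iv3 D55507) (iv1 F91216)
def n197501 : Q := act 5 n108270
theorem D197501 : act 5 n108270 = n197501 := rfl
theorem F404583 : act 2 n197501 = n193376 := d2_1 D197501 F389637 (iv2 F212686)
theorem F404584 : act 7 n197501 = n150237 := d13_2 F312672 D197501 (iv5 D150237)
theorem F404585 : act 0 n197501 = n193372 := d17_2 (iv1 F368315) D197501 (iv5 D193372) (iv4 F232357) F312969 F311288 F313679 (iv0 F222261) (iv4 F368313)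
theorem F404586 : act 1 n197501 = n124809 := d17_6 (iv1 F44967) (iv5 F311550) F311548 F310481 D108270 D197501 (iv5 D124809) (iv0 F155127) F155129
def n197502 : Q := act 6 n108279
theorem D197502 : act 6 n108279 = n197502 := rfl
theorem F404587 : act 3 n197502 = n187810 := d7_1 D197502 (iv6 F371584) (iv3 F167419)
theorem F404588 : act 4 n197502 = n187816 := d10_1 D197502 F389658 F389655
theorem F404589 : act 5 n197502 = n193643 := d21_6 (iv5 D183004) (iv1 D87364) D87365 F134130 (iv1 F315173) D197502 (iv1 D193643) (iv5 F373574) (iv6 D188465) (iv1 F333859)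
def n197503 : Q := act 5 n108280
theorem D197503 : act 5 n108280 = n197503 := rfl
theorem F404590 : act 2 n197503 = n149118 := d2_1 D197503 (iv5 F264401) F364034
theorem F404591 : act 3 n197503 = n197201 := d6_1 D197503 (iv5 D197201) (iv3 F167421)
theorem F404592 : act 6 n197503 = n193643 := d12_2 D108280 D197503 (iv5 F404589) (iv6 D197502) (iv5 D108279)
theorem F404593 : act 7 n197503 = n149117 := d13_2 (iv7 F364033) D197503 F234496
theorem F404594 : act 1 n197503 = n149049 := d17_6 (iv1 F51545) D69918 F312693 (iv5 F79094) (iv4 F167422) D197503 (iv5 D149049) F106337 F51571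
theorem F404595 : act 0 n197503 = n123385 := d21_7 D27494 D57478 F94620 (iv6 F311689) (iv1 D108278) D108280 D197503 (iv5 D123385) (iv6 D57475) (iv1 D27492)
def n197504 : Q := act 3 n108284
theorem D197504 : act 3 n108284 = n197504 := rfl
theorem F404596 : act 5 n197504 = n131598 := d6_2 (iv5 F333705) D197504 (iv3 D131598)
theorem F404597 : act 7 n197504 = n141362 := d8_2 (iv7 F359890) D197504 (iv3 D141362)
theorem F404598 : act 0 n197504 = n116295 := d19_4 (iv1 D197436) D197437 F404314 D197504 F351497 (iv4 F188029) F188028 F304755 F236450 (iv4 F381127) F381126 (iv1 F365654) (iv5 F365655) F174040 (iv3 F173806) (iv1 F168807) F168803 (iv4 F183136) F404309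
theorem F404599 : act 4 n197504 = n115669 := d20_6 F94145 (iv1 F22667) (iv4 F38227) (iv3 F79095) D108284 D197504 (iv1 D115669) F84184 F41104 D26018
theorem F404600 : act 3 n124457 = n115686 := d19_19 (iv1 D115686) (iv5 F359985) (iv4 F404599) (iv3 D197504) (iv1 F167426) (iv5 F318003) F185603 (iv3 D73641) D73639 D155148 (iv4 F347059) F220302 (iv1 F163910) (iv5 D51748) D51747 (iv3 F326936) (iv1 D58037) D58039 D124457
theorem F404601 : act 0 n174104 = n197504 := d20_4 (iv4 F165441) F318310 F319899 (iv3 F272912) (iv3 D197504) (iv4 F404314) (iv1 F404315) F225643 F102874 (iv1 F320483)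
theorem F404602 : act 2 n177199 = n197504 := d1_3 F404599 F359984 F351501
def n197505 : Q := act 3 n108285
theorem D197505 : act 3 n108285 = n197505 := rfl
theorem F404603 : act 5 n197505 = n131603 := d6_2 (iv5 F333698) D197505 (iv3 D131603)
theorem F404604 : act 7 n197505 = n141367 := d8_2 (iv7 F359887) D197505 (iv3 D141367)
theorem F404605 : act 4 n197505 = n142369 := d20_6 F323621 (iv1 F323619) F318511 (iv3 F102217) (iv1 F167427) D197505 (iv1 F366286) F200883 F92346 D58467
theorem F404606 : act 0 n116129 = n197505 := d20_10 F404605 (iv1 F366286) F200883 F92346 D58467 (iv3 F209892) (iv4 F389186) F389188 F180928 (iv3 F180922)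
theorem F404607 : act 1 n181764 = n197505 := d15_0 (iv0 F404606) (iv7 F361943) (iv2 F361944)
def n197506 : Q := act 4 n108285
theorem D197506 : act 4 n108285 = n197506 := rfl
theorem F404608 : act 2 n197506 = n141363 := d1_1 D197506 (iv4 D141363) (iv2 F359886)
theorem F404609 : act 5 n197506 = n156275 := d9_2 (iv5 F333698) D197506 F245580 F111533 (iv4 F180040) F357062 F333408 (iv5 F333705) (iv4 F404314) (iv5 D197437) F167245 F111045 (iv4 F170800) F350645 (iv4 F317489)
theorem F404610 : act 7 n197506 = n141368 := d11_2 (iv7 F359887) D197506 (iv4 D141368)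
theorem F404611 : act 1 n197506 = n142738 := d18_6 F339000 F132400 F155518 (iv4 F317489) (iv5 F333698) D197506 F225643 (iv0 F339009) F333276
def n197507 : Q := act 0 n108288
theorem D197507 : act 0 n108288 = n197507 := rfl
theorem F404612 : act 5 n197507 = n140832 := d17_1 D197507 F363054 F315746 (iv4 D72879) D72880 (iv0 F310388) F310389 F242044 (iv4 F310505)
theorem F404613 : act 4 n197507 = n152899 := d18_1 D197507 (iv1 F242091) (iv4 D154054) (iv5 D72932) D72931 (iv0 F320225) F320228 (iv0 F205953) (iv5 F310506)
theorem F404614 : act 3 n197507 = n150081 := d20_5 (iv4 F42844) D55303 F167442 D108288 D197507 (iv4 F259326) F339365 F239916 F313601 (iv1 D34233)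
theorem F404615 : act 6 n197507 = n127862 := d21_5 F381163 (iv1 D127211) (iv5 F321590) (iv6 F310507) D197507 (iv5 F210341) (iv1 F310909) (iv5 D101296) D101297 F381166
theorem F404616 : act 2 n150423 = n197507 := d15_3 (iv0 D197507) (iv0 F339620) F339626
theorem F404617 : act 1 n197156 = n197507 := d15_0 (iv0 D197507) (iv7 F200165) D197156
theorem F404618 : act 7 n197507 = n138546 := d15_2 F403306 F404617 F245863
def n197508 : Q := act 6 n108293
theorem D197508 : act 6 n108293 = n197508 := rfl
theorem F404619 : act 2 n197508 = n154938 := d3_1 D197508 F243640 (iv2 F309730)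
theorem F404620 : act 3 n197508 = n108296 := d7_1 D197508 (iv6 D108296) D108293
theorem F404621 : act 4 n197508 = n139213 := d10_1 D197508 F353452 (iv4 F309731)
theorem F404622 : act 5 n197508 = n130084 := d12_1 D197508 (iv6 F339438) F339437 (iv6 F336865) (iv5 F310510)
theorem F404623 : act 7 n197508 = n127967 := d14_2 F312647 D197508 (iv6 D127967) F188372 D70935
theorem F404624 : act 0 n197508 = n127668 := d21_4 (iv5 F308264) (iv1 F243494) (iv5 F310510) D197508 (iv6 F205273) D150406 (iv1 F334925) F301293 F210891 F94865
theorem F404625 : act 0 n160011 = n197508 := d21_4 (iv5 F309755) (iv1 F305386) F307742 D160011 (iv6 D197508) F310510 (iv1 F320160) F320163 (iv6 F308746) F308745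
def n197509 : Q := act 0 n108359
theorem D197509 : act 0 n108359 = n197509 := rfl
theorem F404626 : act 4 n197509 = n152063 := d18_3 (iv1 D108361) (iv4 F167535) D197509 (iv5 F333276) F224409 (iv0 F404109) F404107 F167369 (iv5 F343406)
theorem F404627 : act 3 n197509 = n167081 := d20_5 F302371 F130882 D119393 F309186 D197509 F304815 F156331 D101862 (iv3 F304768) (iv1 F306776)
theorem F404628 : act 2 n131572 = n197509 := d15_3 (iv0 D197509) (iv0 F339019) (iv7 F333435)
theorem F404629 : act 1 n131571 = n197509 := d15_0 (iv0 D197509) (iv7 F333430) (iv2 F333431)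
theorem F404630 : act 7 n197509 = n131573 := d15_2 (iv0 F339021) F404629 F333419
def n197510 : Q := act 5 n108359
theorem D197510 : act 5 n108359 = n197510 := rfl
theorem F404631 : act 2 n197510 = n119489 := d2_1 D197510 F343414 (iv2 F167534)
theorem F404632 : act 3 n197510 = n197147 := d6_1 D197510 F403264 F309186
theorem F404633 : act 6 n197510 = n197145 := d12_2 D108359 D197510 (iv5 F403256) (iv6 D131551) F96327
theorem F404634 : act 7 n197510 = n119490 := d13_2 F333430 D197510 (iv5 F286771)
theorem F404635 : act 4 n197510 = n156279 := d16_6 (iv4 F403816) (iv5 D155895) F110864 (iv5 F79187) (iv4 F167535) D197510 (iv5 D156279) (iv7 F404280) F404279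
theorem F404636 : act 1 n197510 = n119287 := d17_6 F314103 (iv5 D155904) (iv1 D74145) (iv5 F79187) (iv4 F167535) D197510 (iv5 D119287) D119286 (iv4 F338961)
theorem F404637 : act 0 n197510 = n119492 := d21_1 D197510 F188282 F86995 (iv1 F128700) (iv6 F334570) F333437 (iv1 D110347) D110348 F339016 F339019
def n197511 : Q := act 4 n108404
theorem D197511 : act 4 n108404 = n197511 := rfl
theorem F404638 : act 2 n197511 = n131483 := d1_1 D197511 (iv4 D131483) (iv2 F323849)
theorem F404639 : act 3 n197511 = n152711 := d5_1 D197511 F239916 F313601 (iv4 F114324) D108404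
theorem F404640 : act 7 n197511 = n131478 := d11_2 F325094 D197511 (iv4 D131478)
theorem F404641 : act 5 n197511 = n175137 := d17_5 (iv1 F343399) (iv5 F374034) F374035 (iv5 F278611) D197511 (iv0 D175137) (iv5 D83649) D83648 (iv4 F334567)
theorem F404642 : act 0 n197511 = n131431 := d17_0 (iv5 F337077) (iv1 D175246) (iv5 D83689) D83688 (iv5 F312772) F184741 (iv5 F96269) F278612 D197511
theorem F404643 : act 1 n197511 = n131515 := d18_8 (iv1 F274280) D175264 F363839 (iv4 F383415) (iv5 F383417) F210649 F278612 D197511 F337069
def n197512 : Q := act 0 n108407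
theorem D197512 : act 0 n108407 = n197512 := rfl
theorem F404644 : act 3 n197512 = n195953 := d20_5 (iv4 D62026) F47050 D50057 D108407 D197512 (iv4 D195953) (iv1 D106474) (iv4 F98585) (iv3 D63330) (iv1 F96652)
theorem F404645 : act 1 n144866 = n197512 := d15_0 (iv0 D197512) (iv7 F167753) F328833
def n197513 : Q := act 1 n108407
theorem D197513 : act 1 n108407 = n197513 := rfl
theorem F404646 : act 4 n197513 = n159920 := d18_7 D76553 (iv4 F335191) (iv1 F242378) F242374 F329170 (iv4 F167590) D197513 (iv0 D159920) (iv5 D76555)
theorem F404647 : act 6 n194039 = n197513 := d10_0 F404646 (iv6 F355293) F391839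
theorem F404648 : act 0 n144866 = n197513 := d20_1 (iv4 F227810) F404646 F355292 (iv1 F179306) F179231 F95799 (iv1 F47596) D62669 D133534 F329171
def n197514 : Q := act 2 n108407
theorem D197514 : act 2 n108407 = n197514 := rfl
theorem F404649 : act 3 n197514 = n128659 := d0_2 D108407 D197514 (iv2 D128659) (iv3 D60508) (iv2 F79232)
theorem F404650 : act 4 n197514 = n144869 := d1_2 (iv4 F167590) D197514 (iv2 F328837)
theorem F404651 : act 5 n197514 = n135164 := d2_2 (iv5 F167591) D197514 (iv2 D135164)
theorem F404652 : act 7 n197514 = n144866 := d4_2 F167753 D197514 (iv2 F328833)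
def n197515 : Q := act 2 n108412
theorem D197515 : act 2 n108412 = n197515 := rfl
theorem F404653 : act 3 n197515 = n144866 := d0_2 D108412 D197515 (iv2 F328833) (iv3 D108510) F79319
theorem F404654 : act 4 n197515 = n128592 := d1_2 (iv4 F167603) D197515 (iv2 D128592)
theorem F404655 : act 5 n197515 = n135173 := d2_2 (iv5 F167604) D197515 (iv2 D135173)
theorem F404656 : act 6 n197515 = n144864 := d3_2 (iv6 F383751) D197515 (iv2 F383754)
theorem F404657 : act 7 n197515 = n128659 := d4_2 (iv7 F167605) D197515 (iv2 D128659)
theorem F404658 : act 1 n197515 = n128657 := d15_0 (iv0 D128657) (iv7 F167605) D197515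
theorem F404659 : act 1 n128658 = n197515 := d15_0 F404658 (iv7 F372601) F372600
def n197516 : Q := act 7 n108416
theorem D197516 : act 7 n108416 = n197516 := rfl
theorem F404660 : act 2 n197516 = n126455 := d4_1 D197516 (iv7 D126455) (iv2 F167616)
theorem F404661 : act 3 n197516 = n108419 := d8_1 D197516 (iv7 D108419) (iv3 F167617)
theorem F404662 : act 4 n197516 = n115191 := d11_1 D197516 (iv7 D115191) (iv4 F167618)
theorem F404663 : act 5 n197516 = n126683 := d13_1 D197516 (iv7 D126683) (iv5 F167619)
theorem F404664 : act 6 n197516 = n126457 := d14_1 D197516 (iv7 D126457) (iv6 D59330) (iv7 F79245) D108416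
theorem F404665 : act 1 n126454 = n197516 := d15_1 D126454 (iv7 D197516) F167616
theorem F404666 : act 1 n197516 = n126453 := d15_1 F404665 (iv7 F211406) F211405
def n197517 : Q := act 5 n108417
theorem D197517 : act 5 n108417 = n197517 := rfl
theorem F404667 : act 2 n197517 = n128819 := d2_1 D197517 (iv5 D128819) F202515
theorem F404668 : act 3 n197517 = n196047 := d6_1 D197517 (iv5 D196047) (iv3 F167621)
theorem F404669 : act 4 n197517 = n178239 := d9_1 D197517 (iv5 F299733) F195574 D161504 F299041 (iv5 F302516) F327851 D132571 F344446 (iv5 F299222) F195580 (iv5 F248759) (iv4 F301449) (iv5 F302518) F327854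
theorem F404670 : act 7 n197517 = n128820 := d13_2 F202517 D197517 (iv5 D128820)
theorem F404671 : act 0 n197517 = n134845 := d17_2 D108417 D197517 (iv5 F328732) (iv4 D123448) F302128 (iv0 F301667) F327342 F164011 (iv4 F79250)
def n197518 : Q := act 6 n108420
theorem D197518 : act 6 n108420 = n197518 := rfl
theorem F404672 : act 2 n197518 = n141295 := d3_1 D197518 (iv6 F342850) F327628
theorem F404673 : act 3 n197518 = n126865 := d7_1 D197518 F204104 F171898
theorem F404674 : act 4 n197518 = n141155 := d10_1 D197518 F329936 F172925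
theorem F404675 : act 5 n197518 = n129492 := d12_1 D197518 F207643 D144359 F327424 (iv5 F326948)
theorem F404676 : act 7 n197518 = n129682 := d14_2 (iv7 F171897) D197518 (iv6 D129682) F171909 F168466
theorem F404677 : act 0 n197518 = n113825 := d21_10 F350318 (iv1 D110811) (iv5 F96392) (iv6 D61838) (iv1 D29303) D29305 (iv5 F77457) F327420 (iv5 F326948) D197518
theorem F404678 : act 0 n127079 = n197518 := d21_4 (iv5 F100605) F164721 F331028 (iv6 F360385) (iv6 D197518) F326948 (iv1 F327055) F216959 (iv6 F171553) (iv1 F171555)
def n197519 : Q := act 2 n108423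
theorem D197519 : act 2 n108423 = n197519 := rfl
theorem F404679 : act 7 n108424 = n197519 := d15_2 (iv0 D108423) D108424 (iv2 D197519)
def n197520 : Q := act 3 n108423
theorem D197520 : act 3 n108423 = n197520 := rfl
theorem F404680 : act 4 n197520 = n134054 := d20_6 (iv4 F38295) (iv1 D24417) D24418 D50064 D108423 D197520 F355338 (iv4 F98623) F98622 (iv1 F48096)
theorem F404681 : act 2 n134056 = n197520 := d1_3 F404680 (iv2 D134054) D134056
theorem F404682 : act 7 n134061 = n197520 := d11_0 F404680 (iv7 F216070) D134061
theorem F404683 : act 7 n108423 = n134979 := d8_2 F404682 (iv3 D197520) F217200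
theorem F404684 : act 6 n197520 = n192062 := d14_1 F404682 (iv7 D192062) (iv6 F357350) F357351 F357345
theorem F404685 : act 1 n134990 = n134061 := d15_1 (iv0 F217219) F404682 (iv2 F404681)
theorem F404686 : act 2 n134979 = n108424 := d4_1 F404683 F404679 (iv2 D197519)
theorem E103691 : n197519 = n134980 := (c15_4 F217205 F217201 (iv7 F404683) D197519)
theorem F404687 : act 2 n134980 = n108423 := (sb E103691 (iv2 D197519))
theorem F404688 : act 7 n134980 = n108424 := (sb E103691 (iv7 F404679))
theorem F404689 : act 6 n108424 = n190376 := d3_2 (iv6 F384110) F404686 (iv2 F384105)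
def n197521 : Q := act 4 n108423
theorem D197521 : act 4 n108423 = n197521 := rfl
def n197522 : Q := act 5 n108423
theorem D197522 : act 5 n108423 = n197522 := rfl
theorem F404690 : act 2 n197522 = n195284 := d2_1 D197522 (iv5 F396572) F404687
theorem F404691 : act 4 n195281 = n197522 := d1_0 F404690 (iv4 D195284) (iv2 F396566)
def n197523 : Q := act 6 n108423
theorem D197523 : act 6 n108423 = n197523 := rfl
theorem F404692 : act 3 n197523 = n192062 := d7_1 D197523 (iv6 F404684) (iv3 D197520)
theorem F404693 : act 7 n197523 = n192059 := d14_2 (iv7 F404683) D197523 F385383 (iv7 F384107) (iv6 F384110)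
theorem F404694 : act 5 n197523 = n192060 := d21_6 F336980 (iv1 F336966) (iv5 D110796) F80560 D108423 D197523 (iv1 F385389) D193345 F389527 (iv1 F216153)
theorem F404695 : act 1 n130875 = n197523 := d17_6 F312434 F306196 (iv1 D67863) F49870 (iv4 F95898) D130875 F404694 F385390 (iv4 F312437)
def n197524 : Q := act 3 n108424
theorem D197524 : act 3 n108424 = n197524 := rfl
theorem F404696 : act 6 n197524 = n189661 := d7_2 (iv6 F404689) D197524 (iv3 F379611)
def n197525 : Q := act 4 n108424
theorem D197525 : act 4 n108424 = n197525 := rfl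
theorem F404697 : act 3 n197525 = n129819 := d20_3 (iv4 F217202) (iv1 F217206) D197525 (iv1 F208173) (iv3 F99707) F99708 (iv1 F213173) (iv4 F396558) (iv3 D195277) (iv1 F207589)
def n197526 : Q := act 5 n108424
theorem D197526 : act 5 n108424 = n197526 := rfl
theorem F404698 : act 6 n197526 = n191140 := d12_2 (iv6 F404689) D197526 (iv5 D191140) (iv6 F157632) D190376
theorem F404699 : act 7 n197526 = n195284 := d13_2 F404688 D197526 (iv5 F396572)
theorem F404700 : act 0 n197526 = n134885 := d17_2 (iv1 F217206) D197526 (iv5 D134885) F98703 D129435 (iv0 F396565) (iv5 D195280) F207590 (iv4 F217202)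
theorem F404701 : act 1 n197522 = n134885 := d15_0 (iv0 F404700) F404699 (iv2 F404690)
theorem F404702 : act 4 n129413 = n197526 := d11_3 F404699 (iv4 D195284) (iv7 F207592)
theorem F404703 : act 6 n191865 = n129413 := d10_0 F404702 F404698 (iv4 F384613)
theorem F404704 : act 3 n129415 = n191865 := d7_3 F404703 F207591 D129415
def n197527 : Q := act 0 n108426
theorem D197527 : act 0 n108426 = n197527 := rfl
def n197528 : Q := act 1 n108426
theorem D197528 : act 1 n108426 = n197528 := rfl
def n197529 : Q := act 4 n108426
theorem D197529 : act 4 n108426 = n197529 := rfl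
theorem F404705 : act 6 n197529 = n148129 := d10_2 (iv6 F341455) D197529 (iv4 D148129)
def n197530 : Q := act 0 n108427
theorem D197530 : act 0 n108427 = n197530 := rfl
theorem F404706 : act 4 n197530 = n140496 := d18_1 D197530 F345321 (iv4 F345294) F98835 F329968 D123861 F342805 F342808 F171540
theorem F404707 : act 5 n197530 = n120309 := d19_1 D197530 F191568 F115368 (iv1 F240824) (iv5 F385725) F385727 F401498 (iv1 D196691) (iv5 D107214) (iv4 D49532) D49531 F102178 (iv5 F97745) (iv4 F207377) (iv3 F350887) F177079 (iv5 F231942) (iv4 D148129) (iv3 F341452)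
theorem F404708 : act 2 n120472 = n197530 := d15_3 (iv0 D197530) F341496 D120472
theorem F404709 : act 1 n120470 = n197530 := d15_0 (iv0 D197530) F341453 (iv2 F341494)
theorem F404710 : act 7 n197530 = n120308 := d15_2 D120470 F404709 F191565
def n197531 : Q := act 5 n108428
theorem D197531 : act 5 n108428 = n197531 := rfl
theorem F404711 : act 2 n197531 = n129091 := d2_1 D197531 (iv5 D129091) F167639
theorem F404712 : act 4 n197531 = n123446 := d17_4 F103577 F79256 D108428 D197531 F306408 (iv0 F341428) (iv5 D63530) D63529 F98838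
theorem F404713 : act 0 n197531 = n131795 := d18_0 (iv4 F216181) F363079 (iv4 D134456) (iv5 D63153) D63152 F168762 F168760 F167640 D197531
theorem F404714 : act 6 n197531 = n123444 := d21_3 F79256 D108428 D197531 (iv1 F198049) F329070 (iv5 F171612) (iv1 F171614) D110861 F171715 F103577
theorem F404715 : act 0 n132261 = n197531 := d21_10 (iv5 D197531) (iv1 F167640) F80581 (iv6 D51087) (iv1 F38934) D49258 F77829 D52423 (iv5 F168452) D132261
def n197532 : Q := act 3 n108429
theorem D197532 : act 3 n108429 = n197532 := rfl
def n197533 : Q := act 5 n108429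
theorem D197533 : act 5 n108429 = n197533 := rfl
theorem F404716 : act 1 n197533 = n108537 := d17_6 (iv1 D189038) F294169 D186575 (iv5 F388161) F388160 D197533 (iv5 D108537) D108535 F375530
def n197534 : Q := act 6 n108429
theorem D197534 : act 6 n108429 = n197534 := rfl
def n197535 : Q := act 3 n108430
theorem D197535 : act 3 n108430 = n197535 := rfl
def n197536 : Q := act 5 n108430
theorem D197536 : act 5 n108430 = n197536 := rfl
theorem F404717 : act 0 n197536 = n108537 := d17_2 (iv1 F167795) D197536 (iv5 D108537) (iv4 F80917) (iv5 F335713) D186600 (iv5 F380321) F172470 F172466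
theorem F404718 : act 4 n195869 = n197536 := d17_9 F404717 (iv5 D108537) D108534 (iv5 F350373) F293369 F74182 D88795 D186437 (iv0 F398543)
theorem F404719 : act 6 n195868 = n197536 := d21_3 (iv5 F109100) D153518 (iv5 F398535) F404717 (iv6 F371773) (iv5 F371774) (iv1 F394203) F394205 (iv6 D187848) (iv1 D90603)
def n197537 : Q := act 6 n108432
theorem D197537 : act 6 n108432 = n197537 := rfl
theorem F404720 : act 3 n197537 = n108434 := d7_1 D197537 (iv6 D108434) (iv3 F167643)
theorem F404721 : act 5 n197537 = n194416 := d21_6 F293726 (iv1 F153059) (iv5 F291892) D187555 F374449 D197537 F393117 (iv5 D188114) (iv6 D90817) (iv1 F139547)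
def n197538 : Q := act 5 n108433
theorem D197538 : act 5 n108433 = n197538 := rfl
theorem F404722 : act 3 n197538 = n108437 := d6_1 D197538 (iv5 D108437) (iv3 F167644)
theorem F404723 : act 6 n197538 = n194416 := d12_2 D108433 D197538 (iv5 F404721) (iv6 D197537) (iv5 D108432)
theorem F404724 : act 4 n197538 = n194414 := d16_2 F172343 D197538 (iv5 D194414) (iv4 F375890) (iv5 F375888) F384857 F384855 F384854 F375623
theorem F404725 : act 0 n197538 = n190179 := d17_2 (iv1 F375627) D197538 F379045 F385873 (iv5 F156492) (iv0 F374456) F374455 F374454 (iv4 F375626)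
def n197539 : Q := act 0 n108434
theorem D197539 : act 0 n108434 = n197539 := rfl
theorem F404726 : act 6 n197539 = n109098 := d21_5 (iv5 D65035) (iv1 F48967) D50068 D108434 D197539 (iv5 F169087) D111425 F336678 (iv6 D74456) (iv1 F100836)
theorem F404727 : act 1 n156333 = n197539 := d15_0 (iv0 D197539) (iv7 F343830) F343828
theorem F404728 : act 5 n197539 = n141971 := d17_7 F365368 (iv5 D156339) (iv1 F216981) (iv5 F225014) F343803 (iv5 F343817) F404727 F378947 F378945
theorem F404729 : act 4 n197539 = n138325 := d18_7 F171740 (iv4 D110874) (iv1 D51128) (iv4 F80646) D110870 F343811 F404727 F221521 F181226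
theorem F404730 : act 2 n156330 = n197539 := d1_3 F404729 F221518 F343818
theorem F404731 : act 7 n156331 = n197539 := d11_0 F404729 F221519 F343833
def n197540 : Q := act 1 n108434
theorem D197540 : act 1 n108434 = n197540 := rfl
theorem F404732 : act 1 n197540 = n156333 := d15_1 D197540 (iv7 D156333) (iv2 F167645)
theorem F404733 : act 7 n197540 = n156330 := d15_2 (iv0 D197539) D197540 F404730
theorem F404734 : act 4 n197540 = n138327 := d18_7 (iv1 F171730) (iv4 D110872) (iv1 F93975) (iv4 F181227) (iv5 F343813) F216838 D197540 F221525 (iv5 D110885)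
theorem F404735 : act 2 n156331 = n197540 := d1_3 F404734 F221522 F343833
theorem F404736 : act 5 n141968 = n197540 := d9_0 F404734 (iv5 D138327) (iv4 F111424) (iv5 F111422) (iv4 F167648) F167646 D141971 (iv5 F404728) F404729 (iv5 D138325) F171766 F171760 (iv4 F171763) (iv5 F171765) D141968
theorem F404737 : act 3 n140621 = n197540 := d8_3 F404733 (iv3 F363340) F363344
theorem F404738 : act 6 n197540 = n140618 := d7_2 D140621 F404737 (iv3 D140618)
theorem F404739 : act 4 n140618 = n179771 := d10_1 F404738 (iv6 F370516) (iv4 F404734)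
def n197541 : Q := act 5 n108434
theorem D197541 : act 5 n108434 = n197541 := rfl
theorem F404740 : act 2 n197541 = n156332 := d2_1 D197541 (iv5 D156332) (iv2 F167645)
theorem F404741 : act 3 n197541 = n194416 := d6_1 D197541 (iv5 F404721) F404720
theorem F404742 : act 4 n197541 = n141987 := d9_1 D197541 (iv5 F352681) F352680 (iv5 D51129) (iv4 F80646) D110870 F343811 F343817 (iv4 F343803) F225014 F216978 F98663 (iv4 F181227) (iv5 F343813) F216838
theorem F404743 : act 6 n197541 = n108437 := d12_2 D108434 D197541 (iv5 D108437) (iv6 D50069) D50068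
theorem F404744 : act 7 n197541 = n124247 := d13_2 F343830 D197541 (iv5 F343829)
def n197542 : Q := act 6 n108436
theorem D197542 : act 6 n108436 = n197542 := rfl
theorem F404745 : act 2 n197542 = n143934 := d3_1 D197542 (iv6 F226574) F167656
theorem F404746 : act 3 n197542 = n143927 := d7_1 D197542 (iv6 F400554) F389399
theorem F404747 : act 7 n197542 = n143933 := d14_2 (iv7 F167655) D197542 F226577 F164698 (iv6 F167653)
theorem F404748 : act 5 n197542 = n143927 := d21_6 F344457 (iv1 D123040) F341375 (iv6 F111579) (iv1 F167654) D197542 (iv1 F400553) (iv5 D196389) F362633 (iv1 F344455)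
theorem F404749 : act 0 n197542 = n140347 := d21_10 F224911 (iv1 D141869) (iv5 D66514) (iv6 D31048) (iv1 D14688) D14691 D31059 D66551 F171765 D197542
theorem E103692 : n141969 = n141967 := (c12_3 (iv6 D197542) (iv5 F171765) D141969 F389402 F400554 (iv5 F404748))
theorem F404750 : act 2 n141967 = n191026 := (sb E103692 (iv2 F381927))
theorem F404751 : act 6 n141967 = n66551 := (sb E103692 (iv6 D141969))
theorem F404752 : act 1 n197542 = n116823 := d15_1 (iv0 F404749) F182409 (iv2 F223455)
def n197543 : Q := act 4 n108437
theorem D197543 : act 4 n108437 = n197543 := rfl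
theorem F404753 : act 2 n197543 = n156336 := d1_1 D197543 (iv4 D156336) (iv2 F167657)
theorem F404754 : act 3 n197543 = n193296 := d5_1 D197543 F389415 (iv3 F393108) (iv4 F404724) F404722
theorem F404755 : act 6 n197543 = n141987 := d10_2 F404743 D197543 (iv4 F404742)
theorem F404756 : act 7 n197543 = n160463 := d11_2 F341379 D197543 F253468
theorem F404757 : act 5 n197543 = n108584 := d16_1 D197543 (iv4 F343167) F181226 F84544 (iv5 F53528) (iv4 F111578) (iv5 F341384) F341385 (iv2 F167657)
def n197544 : Q := act 3 n108439
theorem D197544 : act 3 n108439 = n197544 := rfl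
theorem F404758 : act 4 n197544 = n197099 := d5_2 D108439 D197544 (iv3 D197099) F166255 F111321
theorem F404759 : act 6 n197544 = n139611 := d7_2 (iv6 F167663) D197544 (iv3 D139611)
theorem F404760 : act 7 n197544 = n156340 := d8_2 (iv7 F167664) D197544 (iv3 D156340)
def n197545 : Q := act 3 n108440
theorem D197545 : act 3 n108440 = n197545 := rfl
theorem F404761 : act 4 n197545 = n157169 := d5_2 D108440 D197545 (iv3 D157169) (iv4 F112143) F111339
theorem F404762 : act 7 n197545 = n156338 := d8_2 (iv7 F167666) D197545 (iv3 D156338)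
def n197546 : Q := act 6 n108440
theorem D197546 : act 6 n108440 = n197546 := rfl
theorem F404763 : act 2 n197546 = n143932 := d3_1 D197546 F226571 (iv2 F167665)
theorem F404764 : act 4 n197546 = n108441 := d10_1 D197546 (iv6 D108441) D108440
theorem F404765 : act 7 n197546 = n139595 := d14_2 (iv7 F167666) D197546 (iv6 D139595) (iv7 F101232) (iv6 F111580)
def n197547 : Q := act 3 n108442
theorem D197547 : act 3 n108442 = n197547 := rfl
theorem F404766 : act 5 n197547 = n140577 := d6_2 F372020 D197547 (iv3 F372018)
theorem F404767 : act 7 n197547 = n136549 := d8_2 (iv7 F364389) D197547 F219644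
theorem F404768 : act 4 n197547 = n135902 := d20_6 (iv4 D11527) D11525 D24422 D50073 D108442 D197547 (iv1 D135902) F99395 (iv3 D50082) (iv1 D24425)
theorem F404769 : act 0 n196474 = n197547 := d20_4 F38303 D49439 D107017 D196474 (iv3 D197547) F368662 (iv1 D186958) F364764 (iv3 D108476) (iv1 D50086)
theorem F404770 : act 2 n136544 = n197547 := d1_3 F404768 F338905 D136544
theorem F404771 : act 6 n141882 = n197547 := d10_0 F404768 (iv6 F338904) F338939
def n197548 : Q := act 6 n108442
theorem D197548 : act 6 n108442 = n197548 := rfl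
theorem F404772 : act 3 n197548 = n141882 := d7_1 D197548 F404771 (iv3 D197547)
theorem F404773 : act 4 n197548 = n193494 := d10_1 D197548 F390062 (iv4 F368662)
theorem F404774 : act 5 n197548 = n141879 := d12_1 D197548 (iv6 D141879) (iv5 F223711) (iv6 F372021) F372020
theorem F404775 : act 7 n197548 = n196282 := d14_2 (iv7 F364389) D197548 (iv6 D196282) F219092 (iv6 F338935)
theorem F404776 : act 0 n196388 = n197548 := d20_10 F404773 (iv1 D193494) D193495 (iv3 F402516) (iv1 D196358) F164787 F78129 D49403 D106936 D196388
def n197549 : Q := act 3 n108443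
theorem D197549 : act 3 n108443 = n197549 := rfl
theorem F404777 : act 6 n197549 = n196283 := d7_2 (iv6 F364387) D197549 (iv3 D196283)
theorem F404778 : act 7 n197549 = n125089 := d8_2 F364390 D197549 F366474
theorem F404779 : act 4 n197549 = n125082 := d20_6 (iv4 D74469) (iv1 F53640) (iv4 F100927) (iv3 F167822) (iv1 F167826) D197549 F352304 F317013 F314706 (iv1 F314703)
theorem F404780 : act 2 n125084 = n197549 := d1_3 F404779 (iv2 D125082) D125084
def n197550 : Q := act 5 n108444
theorem D197550 : act 5 n108444 = n197550 := rfl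
theorem F404781 : act 2 n197550 = n108445 := d2_1 D197550 (iv5 D108445) D108444
theorem F404782 : act 3 n197550 = n156579 := d6_1 D197550 (iv5 D156579) (iv3 F167675)
theorem F404783 : act 4 n197550 = n187820 := d9_1 D197550 (iv5 F371610) F369403 F367381 F367380 F335713 F80917 D108537 F371604 F371603 F369399 (iv5 F369170) F369169 (iv5 F361774) F172368
theorem F404784 : act 0 n197550 = n197536 := d17_2 (iv1 F167821) D197550 (iv5 D197536) F385064 F385062 F366862 (iv5 F368664) F375533 F375522
theorem F404785 : act 1 n197550 = n197533 := d17_6 D111126 F380326 (iv1 F367401) (iv5 F361774) F172368 D197550 (iv5 D197533) (iv0 D108429) (iv4 F80849)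
def n197551 : Q := act 6 n108444
theorem D197551 : act 6 n108444 = n197551 := rfl
theorem F404786 : act 2 n197551 = n108446 := d3_1 D197551 (iv6 D108446) D108444
theorem F404787 : act 3 n197551 = n156580 := d7_1 D197551 (iv6 D156580) (iv3 F167675)
theorem F404788 : act 4 n197551 = n189032 := d10_1 D197551 F375499 F172368
theorem F404789 : act 7 n197551 = n188942 := d14_2 F167823 D197551 (iv6 D188942) F292697 (iv6 F364386)
theorem F404790 : act 5 n197551 = n189929 := d21_6 D65884 (iv1 F345618) (iv5 F222515) (iv6 F338935) (iv1 F167821) D197551 (iv1 D189929) F378263 (iv6 D140363) (iv1 D65882)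
def n197552 : Q := act 0 n108445
theorem D197552 : act 0 n108445 = n197552 := rfl
theorem F404791 : act 5 n197552 = n108524 := d17_1 D197552 (iv1 F167790) F371965 (iv4 D187967) D187968 (iv0 F371962) (iv5 F237969) (iv0 F377319) F377318
theorem F404792 : act 4 n197552 = n188806 := d18_1 D197552 F377625 (iv4 F387411) F387412 (iv4 F364764) D186958 (iv4 F368662) (iv0 D108442) D108445
theorem F404793 : act 3 n197552 = n188380 := d20_5 F101245 F98708 F81139 (iv3 F167676) D197552 F373216 F359642 F338900 F167698 (iv1 F101247)
theorem F404794 : act 6 n188379 = n197552 := d7_0 F404793 (iv6 D188380) D188379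
theorem F404795 : act 2 n197552 = n197536 := d3_1 F404794 (iv6 F404719) F398533
theorem F404796 : act 7 n197533 = n197552 := d15_2 (iv0 F404784) F404785 F404795
def n197553 : Q := act 1 n108445
theorem D197553 : act 1 n108445 = n197553 := rfl
theorem F404797 : act 7 n197553 = n197536 := d15_2 (iv0 D197552) D197553 (iv2 F404795)
theorem F404798 : act 5 n197553 = n108525 := d17_7 (iv1 F172469) (iv5 F356538) F361771 (iv5 D111141) F80866 D108445 D197553 F167794 (iv4 F172340)
theorem F404799 : act 2 n197533 = n197553 := d2_3 F404798 F385068 D197533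
def n197554 : Q := act 6 n108445
theorem D197554 : act 6 n108445 = n197554 := rfl
theorem F404800 : act 3 n197554 = n108447 := d7_1 D197554 (iv6 D108447) (iv3 F167676)
theorem F404801 : act 4 n197554 = n188294 := d10_1 D197554 (iv6 F377316) F377318
theorem F404802 : act 7 n197554 = n191337 := d14_2 F167828 D197554 F383099 (iv7 F371776) F371773
def n197555 : Q := act 0 n108446
theorem D197555 : act 0 n108446 = n197555 := rfl
theorem F404803 : act 4 n197555 = n189048 := d18_1 D197555 (iv1 D189048) (iv4 F375165) (iv5 F375166) (iv4 F359243) F160472 D189916 F394991 F394993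
theorem F404804 : act 1 n188942 = n197555 := d15_0 (iv0 D197555) (iv7 F386658) F386654
theorem F404805 : act 3 n193237 = n197555 := d5_5 F404803 (iv3 F391801) F391802 (iv3 F284745) (iv4 F389275)
theorem F404806 : act 6 n193236 = n197555 := d10_0 F404803 (iv6 F388145) (iv4 F389269)
def n197556 : Q := act 3 n108451
theorem D197556 : act 3 n108451 = n197556 := rfl
theorem F404807 : act 4 n197556 = n188885 := d5_2 D108451 D197556 F375141 (iv4 D106985) (iv3 F111772)
theorem F404808 : act 6 n197556 = n192917 := d7_2 F223771 D197556 F388212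
theorem F404809 : act 7 n197556 = n156598 := d8_2 (iv7 F167687) D197556 (iv3 D156598)
def n197557 : Q := act 5 n108451
theorem D197557 : act 5 n108451 = n197557 := rfl
theorem F404810 : act 2 n197557 = n108957 := d2_1 D197557 F336732 (iv2 F167686)
theorem F404811 : act 4 n197557 = n125986 := d9_1 D197557 F202667 (iv4 F180075) (iv5 F364137) (iv4 D142000) (iv5 D66582) (iv4 F102490) (iv5 F336741) F226742 (iv5 D144035) (iv4 F180066) F364139 F169178 F79766 D108451
theorem F404812 : act 7 n197557 = n156599 := d13_2 (iv7 F167687) D197557 (iv5 D156599)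
theorem F404813 : act 0 n197557 = n142000 := d17_2 (iv1 F167880) D197557 F364137 F180075 (iv5 F202667) (iv0 F203100) F203099 F216800 F216797
theorem F404814 : act 1 n197557 = n109234 := d17_6 (iv1 F163917) F163919 F81239 F79766 D108451 D197557 (iv5 F364139) F180065 F101629
theorem F404815 : act 6 n197557 = n108633 := d21_3 (iv5 F336715) (iv1 F167880) D197557 (iv1 D108633) (iv6 D50160) D50159 (iv1 F79571) (iv5 D50214) D50215 F94230
def n197558 : Q := act 3 n108452
theorem D197558 : act 3 n108452 = n197558 := rfl
theorem F404816 : act 0 n197558 = n108476 := d20_4 (iv4 D197391) F343127 (iv4 F343125) D197558 (iv3 D108476) D108477 (iv1 F387500) (iv4 D192690) (iv3 F387484) (iv1 F404121)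
theorem F404817 : act 4 n197558 = n111215 := d20_6 (iv4 D14222) D14220 (iv4 F38366) D50079 D108452 D197558 (iv1 D111215) F80917 (iv3 D50118) F38355
def n197559 : Q := act 5 n108452
theorem D197559 : act 5 n108452 = n197559 := rfl
theorem F404818 : act 2 n197559 = n109203 := d2_1 D197559 (iv5 F343118) F245712
theorem F404819 : act 4 n197559 = n125120 := d9_1 D197559 (iv5 D125120) F92434 (iv5 F311456) (iv4 F96856) D132437 (iv4 F212506) F343119 (iv4 D85857) (iv5 D39713) F30036 D18801 D39761 D85969 (iv4 F343125)
theorem F404820 : act 7 n197559 = n179732 := d13_2 F245714 D197559 F343120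
theorem F404821 : act 0 n197559 = n179744 := d17_2 D108452 D197559 (iv5 F403844) F403843 F317328 F315127 (iv5 F403629) (iv0 D197225) F166951
theorem F404822 : act 1 n197559 = n108489 := d17_6 F364525 (iv5 D179908) (iv1 D85967) D85969 (iv4 F343125) D197559 F167718 D134826 (iv4 F216972)
theorem F404823 : act 6 n109202 = n197559 := d14_5 F404820 F370767 F370766 (iv6 F364310) F216765
theorem F404824 : act 5 n134740 = n115741 := d21_0 (iv1 D115741) D115743 (iv6 F341400) F363991 F295442 F343123 D108452 D197559 (iv6 F404823) (iv1 F216769)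
theorem F404825 : act 2 n140459 = n134740 := d2_3 F404824 F182466 D140459
theorem F404826 : act 3 n140727 = n134740 := d6_3 F404824 (iv3 F180221) D140727
theorem F404827 : act 7 n109201 = n134740 := d13_0 F404824 (iv7 F182465) (iv5 F354184)
theorem E103693 : n140459 = n109200 := (c15_4 (iv0 D109200) D109201 F404827 (iv2 F404825))
theorem F404828 : act 2 n109200 = n134740 := (sb E103693 F404825)
theorem F404829 : act 5 n109200 = n65926 := (sb E103693 (iv5 D140459))
theorem F404830 : act 2 n109201 = n134739 := d15_3 (iv0 D134739) D134740 (iv7 F404827)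
theorem F404831 : act 5 n134739 = n115740 := d2_2 (iv5 F354184) F404830 (iv2 F182467)
theorem F404832 : act 7 n134739 = n109200 := d4_2 (iv7 F404827) F404830 F404828
def n197560 : Q := act 6 n108452
theorem D197560 : act 6 n108452 = n197560 := rfl
theorem F404833 : act 2 n197560 = n140335 := d3_1 D197560 F343149 F245712
theorem F404834 : act 4 n197560 = n179918 := d10_1 D197560 (iv6 D179918) (iv4 F343125)
theorem F404835 : act 5 n197560 = n140332 := d12_1 D197560 (iv6 D140332) (iv5 F169166) F404823 (iv5 D197559)
theorem F404836 : act 7 n197560 = n196302 := d14_2 F245714 D197560 (iv6 D196302) F397103 (iv6 F388740)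
theorem F404837 : act 1 n163187 = n197560 := d18_6 (iv1 F162148) (iv4 D68270) (iv1 F76882) D105569 D195410 F396925 F404834 (iv0 F404340) (iv5 D195403)
theorem F404838 : act 5 n163184 = n195407 := d17_3 (iv1 F404837) (iv5 D163187) D163184 (iv4 D195407) (iv5 D105567) D105566 D195404 (iv0 F404339) (iv4 F404834)
theorem F404839 : act 6 n195407 = n193297 := d21_3 (iv5 D163187) D163184 F404838 (iv1 F389416) (iv6 D134828) (iv5 F167718) (iv1 F404822) (iv5 D197559) D197560 (iv1 F404837)
theorem F404840 : act 4 n193297 = n195401 := d10_1 F404839 F396912 D195407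
theorem F404841 : act 1 n197560 = n145654 := d15_1 F404837 (iv7 F351856) (iv2 F351859)
def n197561 : Q := act 3 n108453
theorem D197561 : act 3 n108453 = n197561 := rfl
theorem F404842 : act 4 n197561 = n156176 := d5_2 (iv4 F212506) D197561 (iv3 D156176) F111502 (iv3 F212504)
theorem F404843 : act 5 n197561 = n108874 := d6_2 (iv5 F343119) D197561 F343110
theorem F404844 : act 6 n197561 = n196303 := d7_2 F397101 D197561 (iv3 D196303)
theorem F404845 : act 7 n197561 = n109206 := d8_2 (iv7 F245711) D197561 (iv3 F332967)
def n197562 : Q := act 6 n108454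
theorem D197562 : act 6 n108454 = n197562 := rfl
theorem F404846 : act 2 n197562 = n108456 := d3_1 D197562 (iv6 D108456) D108454
theorem F404847 : act 5 n197562 = n178096 := d12_1 D197562 F361599 (iv5 F375751) (iv6 F389632) F389634
theorem F404848 : act 1 n124224 = n197562 := d17_6 F353876 (iv5 D135368) F330178 (iv5 D58702) (iv4 F91636) D124224 F404847 F361609 F361604
def n197563 : Q := act 0 n108456
theorem D197563 : act 0 n108456 = n197563 := rfl
theorem F404849 : act 5 n197563 = n124223 := d17_3 (iv1 F361600) (iv5 F343147) D197563 F198707 D125357 (iv0 F345831) (iv5 F339510) F339508 D165648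
theorem F404850 : act 2 n124224 = n197563 := d2_3 F404849 (iv2 D124223) D124224
def n197564 : Q := act 1 n108456
theorem D197564 : act 1 n108456 = n197564 := rfl
theorem F404851 : act 7 n197564 = n124224 := d15_2 (iv0 D197563) D197564 F404850
theorem F404852 : act 3 n124169 = n197564 := d8_3 F404851 F198709 (iv7 F198630)
theorem F404853 : act 5 n124168 = n197564 := d13_3 F404851 (iv5 D124224) (iv7 F198629)
def n197565 : Q := act 5 n108460
theorem D197565 : act 5 n108460 = n197565 := rfl
theorem F404854 : act 3 n197565 = n156615 := d6_1 D197565 (iv5 D156615) (iv3 F167697)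
theorem F404855 : act 7 n197565 = n142039 := d13_2 F221963 D197565 (iv5 F351888)
theorem F404856 : act 1 n197565 = n108491 := d17_6 (iv1 F388966) (iv5 F373354) (iv1 F373356) (iv5 F373209) F366311 D197565 F167720 D134835 (iv4 F385738)
def n197566 : Q := act 3 n108461
theorem D197566 : act 3 n108461 = n197566 := rfl
theorem F404857 : act 2 n197566 = n156607 := d0_1 D197566 (iv3 D156607) F314704 (iv3 F314709) F221965
theorem F404858 : act 1 n197566 = n108471 := d15_0 (iv0 F314695) F314697 (iv2 F404857)
def n197567 : Q := act 5 n108461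
theorem D197567 : act 5 n108461 = n197567 := rfl
theorem F404859 : act 2 n197567 = n142039 := d2_1 D197567 (iv5 F351888) F221965
theorem F404860 : act 6 n197567 = n116132 := d12_2 (iv6 F351886) D197567 (iv5 D116132) D116133 F345683
theorem F404861 : act 0 n197567 = n108491 := d17_2 (iv1 F167871) D197567 F167720 (iv4 F214690) (iv5 F218649) F394000 (iv5 F338903) F218616 (iv4 F167867)
def n197568 : Q := act 5 n108462
theorem D197568 : act 5 n108462 = n197568 := rfl
theorem F404862 : act 2 n197568 = n108463 := d2_1 D197568 (iv5 D108463) D108462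
theorem F404863 : act 3 n197568 = n179884 := d6_1 D197568 F343146 F167883
theorem F404864 : act 4 n197568 = n136545 := d16_2 F218613 D197568 (iv5 D136545) D136544 F219648 (iv4 D136556) (iv5 D64196) (iv7 F99396) D135903
theorem F404865 : act 4 n136555 = n108583 := d17_9 F362333 (iv5 F351888) (iv1 F167865) D197568 F404864 (iv5 D136545) (iv0 D64193) D64196 D136555
theorem F404866 : act 6 n194712 = n197568 := d10_0 F404864 (iv6 F338908) D194712
theorem F404867 : act 1 n197568 = n188375 := d15_0 (iv0 F402501) F167873 (iv2 F404862)
def n197569 : Q := act 0 n108463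
theorem D197569 : act 0 n108463 = n197569 := rfl
def n197570 : Q := act 6 n108469
theorem D197570 : act 6 n108469 = n197570 := rfl
theorem F404868 : act 2 n197570 = n108488 := d3_1 D197570 (iv6 D108488) F167702
theorem F404869 : act 4 n197570 = n196468 := d10_1 D197570 (iv6 D196468) (iv4 F167703)
theorem F404870 : act 7 n197570 = n196333 := d14_2 (iv7 F167704) D197570 (iv6 D196333) F164773 (iv6 F79281)
theorem F404871 : act 0 n197570 = n196358 := d21_4 F357940 F205702 F337621 D197570 (iv6 F402515) (iv5 F390073) (iv1 F390031) F390029 F168965 D138445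
theorem F404872 : act 1 n197570 = n196357 := d15_0 (iv0 D196357) (iv7 F167717) (iv2 F404868)
def n197571 : Q := act 3 n108470
theorem D197571 : act 3 n108470 = n197571 := rfl
theorem F404873 : act 4 n197571 = n186959 := d5_2 (iv4 F357644) D197571 F368663 (iv4 D110947) D110946
theorem F404874 : act 7 n197571 = n108476 := d8_2 F167706 D197571 (iv3 D108476)
def n197572 : Q := act 6 n108470
theorem D197572 : act 6 n108470 = n197572 := rfl
theorem F404875 : act 2 n197572 = n108474 := d3_1 D197572 (iv6 D108474) D108470
theorem F404876 : act 5 n197572 = n178318 := d21_6 (iv5 F371889) (iv1 D187940) F336079 (iv6 F79281) (iv1 F357643) D197572 (iv1 D178318) (iv5 F353305) (iv6 D115733) D115729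
def n197573 : Q := act 6 n108471
theorem D197573 : act 6 n108471 = n197573 := rfl
theorem F404877 : act 3 n197573 = n108474 := d7_1 D197573 (iv6 D108474) D108471
def n197574 : Q := act 6 n108472
theorem D197574 : act 6 n108472 = n197574 := rfl
theorem F404878 : act 4 n197574 = n108474 := d10_1 D197574 (iv6 D108474) D108472
def n197575 : Q := act 0 n108474
theorem D197575 : act 0 n108474 = n197575 := rfl
def n197576 : Q := act 1 n108474
theorem D197576 : act 1 n108474 = n197576 := rfl
def n197577 : Q := act 5 n108474
theorem D197577 : act 5 n108474 = n197577 := rfl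
theorem F404879 : act 2 n197577 = n178318 := d2_1 D197577 (iv5 F404876) F404875
theorem F404880 : act 6 n197577 = n180436 := d12_2 D108474 D197577 F387344 (iv6 D192647) F357957
theorem F404881 : act 4 n180674 = n197577 := d10_3 F404880 F280814 D180674
theorem F404882 : act 7 n197577 = n178317 := d11_2 F358936 F404881 F277900
theorem F404883 : act 0 n197577 = n178307 := d18_2 (iv1 F358882) F404881 (iv4 D178307) (iv5 F334719) (iv4 D115022) (iv0 F206230) (iv4 F346726) (iv0 D176364) (iv5 F358884)
theorem E103694 : n197576 = n197556 := ((c19_20 (iv1 D197576) D197577 (iv4 F404881) F281210 (iv1 F331716) (iv5 F319972) F181820 F84710 F313298 (iv5 D12723) F9351 (iv3 F9576) F298278 (iv5 F28193) F322248 (iv3 F163898) F81239 F79766 D108451 D197556)).symm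
theorem F404884 : act 0 n197556 = n108474 := (sb E103694 (iv1 D197576))
theorem F404885 : act 0 n178322 = n197577 := d20_10 (iv4 F404881) F358881 F358892 (iv3 F358910) F363684 (iv3 F362487) F171701 F171182 (iv4 F172639) F351064
theorem F404886 : act 2 n156598 = n197575 := d15_3 (iv0 D197575) (iv0 F404884) F404809
theorem F404887 : act 6 n197575 = n196351 := d3_2 (iv6 F246278) F404886 (iv2 F400448)
theorem F404888 : act 4 n196821 = n197575 := d10_3 F404887 F400450 D196821
def n197578 : Q := act 7 n108474
theorem D197578 : act 7 n108474 = n197578 := rfl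
theorem F404889 : act 5 n197578 = n178317 := d13_1 D197578 (iv7 F404882) (iv5 D197577)
theorem F404890 : act 0 n156598 = n197578 := d19_0 F404889 F277900 (iv3 D166435) (iv1 D79905) F321875 (iv4 D73569) (iv3 D33812) (iv1 F42667) F42661 F21122 (iv3 F21559) (iv1 F43667) (iv5 F56206) F322385 (iv3 F163920) F111779 (iv5 D74463) D74462 D156598
def n197579 : Q := act 6 n108487
theorem D197579 : act 6 n108487 = n197579 := rfl
theorem F404891 : act 2 n197579 = n193065 := d3_1 D197579 (iv6 D193065) (iv2 F332981)
theorem F404892 : act 3 n197579 = n108498 := d7_1 D197579 (iv6 D108498) (iv3 F167713)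
theorem F404893 : act 4 n197579 = n188140 := d10_1 D197579 F372463 F332980
theorem F404894 : act 7 n197579 = n187960 := d14_2 D108487 D197579 (iv6 D187960) F294247 F332986
theorem F404895 : act 0 n197579 = n193099 := d21_4 F384943 F357642 (iv5 F167714) D197579 (iv6 F401673) (iv5 D196747) F389241 F389243 (iv6 F388592) F388595
theorem F404896 : act 0 n193098 = n197579 := d21_4 (iv5 F375066) (iv1 D188855) D188856 (iv6 F388732) (iv6 D197579) F167714 (iv1 F357647) (iv5 F384950) (iv6 F390614) F390617
theorem F404897 : act 5 n197579 = n141125 := d17_3 F375061 F388733 F404896 (iv4 D141125) (iv5 F361316) (iv0 D139325) (iv5 D65394) D65392 D139320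
def n197580 : Q := act 0 n108488
theorem D197580 : act 0 n108488 = n197580 := rfl
theorem F404898 : act 3 n197580 = n145399 := d20_5 (iv4 D53827) (iv1 F163971) (iv4 F79291) (iv3 F167715) D197580 F401269 (iv1 D143985) F103316 F102391 (iv1 F168106)
theorem F404899 : act 1 n196333 = n197580 := d15_0 (iv0 D197580) F167717 (iv2 F400361)
theorem F404900 : act 6 n145394 = n197580 := d21_3 D140667 F386495 D145394 (iv1 F404899) (iv6 D196333) (iv5 F371895) (iv1 F371896) F223615 D140435 F385085
theorem F404901 : act 2 n197580 = n196358 := d3_1 F404900 (iv6 F402515) F390070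
theorem F404902 : act 5 n192457 = n197580 := d2_0 F404901 (iv5 F402517) F390046
theorem F404903 : act 7 n196357 = n197580 := d15_2 (iv0 F404871) F404872 F404901
def n197581 : Q := act 1 n108488
theorem D197581 : act 1 n108488 = n197581 := rfl
theorem F404904 : act 1 n197581 = n196333 := d15_1 D197581 (iv7 F404870) F404868
theorem F404905 : act 7 n197581 = n196358 := d15_2 (iv0 D197580) D197581 (iv2 F404901)
theorem F404906 : act 2 n196357 = n197581 := d4_3 F404905 (iv2 F404901) (iv7 F404903)
theorem F404907 : act 5 n192458 = n197581 := d13_3 F404905 (iv5 F402517) (iv7 F390038)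
def n197582 : Q := act 5 n108488
theorem D197582 : act 5 n108488 = n197582 := rfl
theorem F404908 : act 3 n197582 = n108499 := d6_1 D197582 (iv5 D108499) (iv3 F167715)
theorem F404909 : act 6 n197582 = n141125 := d12_2 D108488 D197582 (iv5 F404897) (iv6 D197579) F167714
theorem F404910 : act 7 n197582 = n196359 := d13_2 (iv7 F167717) D197582 (iv5 D196359)
theorem F404911 : act 1 n197582 = n193495 := d17_8 D193493 F390051 F352856 D137156 (iv4 F390045) F404902 (iv0 D197580) D197582 (iv4 D193495)
theorem F404912 : act 4 n141127 = n197582 := d10_3 F404909 (iv4 D141125) D141127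
def n197583 : Q := act 2 n108489
theorem D197583 : act 2 n108489 = n197583 := rfl
theorem F404913 : act 4 n197583 = n197501 := d1_2 (iv4 F389638) D197583 F404583
theorem F404914 : act 5 n197583 = n134827 := d2_2 (iv5 F167718) D197583 (iv2 D134827)
theorem F404915 : act 7 n197583 = n179744 := d4_2 F167920 D197583 (iv2 F366581)
theorem F404916 : act 1 n197583 = n179732 := d15_0 F343117 F167920 D197583
theorem F404917 : act 1 n109203 = n197583 := d15_0 F404916 (iv7 F404820) F404818
def n197584 : Q := act 6 n108489
theorem D197584 : act 6 n108489 = n197584 := rfl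
theorem F404918 : act 3 n197584 = n108490 := d7_1 D197584 (iv6 D108490) D108489
theorem F404919 : act 4 n197584 = n136818 := d10_1 D197584 F389640 (iv4 F389638)
def n197585 : Q := act 0 n108490
theorem D197585 : act 0 n108490 = n197585 := rfl
theorem F404920 : act 4 n197585 = n191332 := d18_1 D197585 F383084 F343811 F343817 (iv4 F343803) (iv0 D141986) D141988 (iv0 F245675) (iv5 F343178)
theorem F404921 : act 6 n197585 = n189208 := d21_5 (iv5 D65033) F48965 (iv5 F79285) D108490 D197585 F376094 (iv1 F172611) (iv5 F343098) (iv6 D108552) (iv1 F100833)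
theorem F404922 : act 1 n116273 = n197585 := d18_6 (iv1 F181229) (iv4 D53597) (iv1 D25952) (iv4 F41014) D53589 D116273 F404920 (iv0 F383085) F343813
def n197586 : Q := act 1 n108490
theorem D197586 : act 1 n108490 = n197586 := rfl
theorem F404923 : act 1 n197586 = n116273 := d15_1 D197586 F343195 F167918
def n197587 : Q := act 7 n108490
theorem D197587 : act 7 n108490 = n197587 := rfl
theorem F404924 : act 2 n197587 = n116273 := d4_1 D197587 F343195 F167918
theorem F404925 : act 4 n197587 = n110885 := d11_1 D197587 F343176 (iv4 F167719)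
theorem F404926 : act 5 n197587 = n124308 := d13_1 D197587 (iv7 F343179) (iv5 F343178)
theorem F404927 : act 6 n197587 = n112504 := d14_1 D197587 F363037 (iv6 D108586) (iv7 F79408) D108490
def n197588 : Q := act 2 n108491
theorem D197588 : act 2 n108491 = n197588 := rfl
theorem F404928 : act 3 n197588 = n179744 := d0_2 D108491 D197588 (iv2 F366581) (iv3 D108585) (iv2 F79407)
theorem F404929 : act 5 n197588 = n134836 := d2_2 (iv5 F167720) D197588 (iv2 D134836)
theorem F404930 : act 1 n197588 = n142039 := d15_0 (iv0 F362333) F167917 D197588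
def n197589 : Q := act 4 n108491
theorem D197589 : act 4 n108491 = n197589 := rfl
theorem F404931 : act 3 n197589 = n135165 := d5_1 D197589 (iv4 D135165) (iv3 D63518) F79288 D108491
theorem F404932 : act 7 n197589 = n136555 := d11_2 F167917 D197589 F404865
theorem F404933 : act 0 n136552 = n197589 := d20_1 (iv4 F358548) (iv4 D197589) (iv3 D108491) (iv1 D50091) (iv3 F79282) F332982 D99502 (iv4 F384959) (iv3 F389368) F389370
theorem F404934 : act 2 n197589 = n136554 := d15_3 (iv0 D136554) D136555 (iv7 F404932)
theorem F404935 : act 4 n136554 = n197588 := d1_2 D197589 F404934 (iv2 D197588)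
theorem F404936 : act 6 n139512 = n197589 := d7_0 F404931 F350365 D139512
theorem F404937 : act 6 n136554 = n184117 := d3_2 F404936 F404934 (iv2 F369486)
def n197590 : Q := act 6 n108491
theorem D197590 : act 6 n108491 = n197590 := rfl
theorem F404938 : act 3 n197590 = n108492 := d7_1 D197590 (iv6 D108492) D108491
theorem F404939 : act 4 n197590 = n139512 := d10_1 D197590 F404936 (iv4 D197589)
theorem F404940 : act 5 n197590 = n112468 := d21_6 F223832 (iv1 D116130) D116132 (iv6 F404860) F404861 D197590 F176747 F345626 (iv6 D140776) (iv1 F223831)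
theorem F404941 : act 0 n184593 = n197590 := d21_4 (iv5 F293322) F159301 F292255 D184593 (iv6 D197590) F167720 D134834 (iv5 F373207) (iv6 D188375) F140341
def n197591 : Q := act 0 n108492
theorem D197591 : act 0 n108492 = n197591 := rfl
theorem F404942 : act 5 n197591 = n110122 := d17_3 (iv1 F170973) (iv5 F343159) D197591 (iv4 F170261) (iv5 F81786) F170484 D59284 F324424 (iv4 F324540)
theorem F404943 : act 4 n197591 = n120500 := d18_1 D197591 F343826 (iv4 D109161) F325167 F91650 (iv0 F323896) D111906 F173876 (iv5 F343159)
theorem F404944 : act 6 n197591 = n120499 := d21_5 (iv5 D63049) (iv1 F48132) (iv5 F79287) D108492 D197591 F191937 F303851 F195847 F326581 (iv1 F98365)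
theorem F404945 : act 2 n110153 = n197591 := d3_3 F404944 (iv2 F198378) (iv6 F360046)
theorem F404946 : act 0 n197591 = n112504 := d21_10 (iv5 D112504) F170971 F170972 F343158 (iv1 D111422) (iv6 F328363) (iv5 F328767) (iv1 F329124) (iv5 F191937) (iv6 F404944)
theorem F404947 : act 3 n188348 = n197591 := d19_19 F404946 (iv5 D112504) (iv4 D51903) F325560 D77189 (iv5 F296276) (iv4 F323921) D111831 (iv1 F377906) (iv5 F377908) F259074 (iv3 F324158) (iv1 F180965) (iv5 F356667) F140235 F66910 D42704 D91226 D188348
theorem F404948 : act 7 n110151 = n197591 := d15_2 (iv0 F360045) (iv0 F362603) (iv2 F404945)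
theorem F404949 : act 4 n134917 = n110151 := d11_3 F404948 F404943 (iv7 F360078)
def n197592 : Q := act 1 n108492
theorem D197592 : act 1 n108492 = n197592 := rfl
theorem F404950 : act 1 n197592 = n112504 := d15_1 D197592 F363037 F167921
theorem F404951 : act 7 n197592 = n110153 := d15_2 (iv0 D197591) D197592 F404945
theorem F404952 : act 5 n197592 = n108991 := d17_7 F170126 F19027 D11950 D25179 D51886 (iv5 F343159) D197592 (iv0 F170128) (iv4 D50787)
theorem F404953 : act 2 n110151 = n197592 := d2_3 F404952 F170029 D110151
theorem F404954 : act 3 n108867 = n197592 := d6_3 F404952 (iv3 D108991) (iv5 F402875)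
def n197593 : Q := act 7 n108492
theorem D197593 : act 7 n108492 = n197593 := rfl
theorem F404955 : act 2 n197593 = n112504 := d4_1 D197593 F363037 F167921
theorem F404956 : act 4 n197593 = n109169 := d11_1 D197593 F360069 (iv4 F167721)
theorem F404957 : act 5 n197593 = n109373 := d13_1 D197593 F170455 (iv5 F343159)
theorem F404958 : act 6 n197593 = n116273 := d14_1 D197593 F343195 (iv6 D108584) F79410 D108492
theorem F404959 : act 1 n110151 = n197593 := d15_1 (iv0 F362603) (iv7 D197593) (iv2 F167921)
theorem F404960 : act 1 n197593 = n110153 := d15_1 F404959 (iv7 F404951) (iv2 F404953)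
def n197594 : Q := act 0 n108493
theorem D197594 : act 0 n108493 = n197594 := rfl
theorem F404961 : act 4 n197594 = n184053 := d18_3 (iv1 F357926) (iv4 F333442) D197594 F366801 (iv4 F206388) (iv0 F206390) (iv4 D123958) F312599 D132793
def n197595 : Q := act 1 n108493
theorem D197595 : act 1 n108493 = n197595 := rfl
def n197596 : Q := act 2 n108493
theorem D197596 : act 2 n108493 = n197596 := rfl
theorem F404962 : act 4 n197596 = n150108 := d1_2 (iv4 F333442) D197596 F236246
theorem F404963 : act 6 n197596 = n191988 := d3_2 F333443 D197596 F385105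
def n197597 : Q := act 1 n108494
theorem D197597 : act 1 n108494 = n197597 := rfl
theorem F404964 : act 4 n197597 = n109095 := d18_7 F351181 F351126 (iv1 F345205) F164796 (iv5 F79289) (iv4 F167722) D197597 F349732 (iv5 F178595)
theorem F404965 : act 6 n109099 = n197597 := d21_3 (iv5 D188286) F294418 (iv5 F336759) (iv1 D197597) (iv6 D108494) (iv5 F79344) (iv1 F79345) D51398 (iv6 F336667) (iv1 F372959)
theorem F404966 : act 2 n197597 = n185133 := d3_1 F404965 F287497 (iv2 F336758)
theorem F404967 : act 5 n197597 = n185111 := d12_1 F404965 (iv6 D185111) (iv5 D88228) D88229 (iv5 F336759)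
def n197598 : Q := act 5 n108494
theorem D197598 : act 5 n108494 = n197598 := rfl
theorem F404968 : act 3 n197598 = n192002 := d6_1 D197598 (iv5 D192002) (iv3 F333444)
def n197599 : Q := act 7 n108494
theorem D197599 : act 7 n108494 = n197599 := rfl
theorem F404969 : act 3 n197599 = n188138 := d8_1 D197599 F372447 (iv3 F333444)
theorem F404970 : act 4 n197599 = n108497 := d11_1 D197599 (iv7 D108497) (iv4 F167722)
theorem F404971 : act 6 n197599 = n120470 := d14_1 D197599 (iv7 F341493) (iv6 D108521) (iv7 F79341) D108494
theorem F404972 : act 1 n185133 = n197599 := d15_1 F362822 (iv7 D197599) (iv2 F167924)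
def n197600 : Q := act 6 n108495
theorem D197600 : act 6 n108495 = n197600 := rfl
theorem F404973 : act 2 n197600 = n179802 := d3_1 D197600 F370508 (iv2 F351302)
theorem F404974 : act 4 n197600 = n179714 := d10_1 D197600 (iv6 F370522) F370521
theorem F404975 : act 7 n197600 = n179807 := d14_2 (iv7 F351300) D197600 (iv6 F367072) F327466 (iv6 F351284)
def n197601 : Q := act 6 n108497
theorem D197601 : act 6 n108497 = n197601 := rfl
theorem F404976 : act 3 n197601 = n187960 := d7_1 D197601 (iv6 D187960) (iv3 F351189)
theorem F404977 : act 4 n197601 = n120470 := d10_1 D197601 (iv6 F404971) F404970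
theorem F404978 : act 7 n197601 = n108498 := d14_2 D108497 D197601 (iv6 D108498) (iv7 D50094) D50093
theorem F404979 : act 1 n135195 = n197601 := d15_1 (iv0 F360244) F404978 (iv2 F167931)
theorem F404980 : act 0 n135190 = n197601 := d18_2 D63524 D135190 F404977 (iv5 F198293) (iv4 F391329) F391325 F343191 (iv0 D63143) (iv5 F48188)
def n197602 : Q := act 0 n108498
theorem D197602 : act 0 n108498 = n197602 := rfl
theorem F404981 : act 4 n197602 = n134812 := d18_3 (iv1 F341478) F167781 D197602 F341411 (iv4 F197535) F197539 (iv4 F350756) (iv0 D120306) D120308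
theorem F404982 : act 2 n135190 = n197602 := d1_3 F404981 F350740 D135190
theorem F404983 : act 7 n135195 = n197602 := d11_0 F404981 F350741 D135195
theorem F404984 : act 5 n140457 = n197602 := d18_4 (iv1 F180102) (iv4 F400906) (iv1 F400915) (iv4 F223640) F404981 (iv0 D134812) (iv4 F216930) F349749 F345333
theorem F404985 : act 3 n109200 = n197602 := d20_5 F78078 (iv1 D24563) D24564 D50393 D109200 F404981 (iv1 F216934) F345294 (iv3 D65979) (iv1 F78081)
def n197603 : Q := act 1 n108498
theorem D197603 : act 1 n108498 = n197603 := rfl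
theorem F404986 : act 7 n197603 = n135190 := d15_2 (iv0 D197602) D197603 F404982
theorem F404987 : act 4 n197603 = n123252 := d18_7 (iv1 F356496) F356499 (iv1 F341444) F341446 F171576 F167781 D197603 F341414 F98835
theorem F404988 : act 6 n125126 = n197603 := d21_3 (iv5 F304266) (iv1 F198473) F305163 (iv1 D197603) (iv6 D108498) F79290 (iv1 F38358) D50128 (iv6 F326581) (iv1 F277359)
theorem F404989 : act 2 n197603 = n135195 := d3_1 F404988 F350738 (iv2 F201033)
theorem F404990 : act 3 n197603 = n140725 := d7_1 F404988 F358529 (iv3 F338898)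
theorem F404991 : act 5 n140724 = n197603 := d6_0 F404990 (iv5 D140725) D140724
def n197604 : Q := act 5 n108498
theorem D197604 : act 5 n108498 = n197604 := rfl
theorem F404992 : act 3 n197604 = n141125 := d6_1 D197604 (iv5 F404897) F404892
theorem F404993 : act 6 n197604 = n108499 := d12_2 D108498 D197604 (iv5 D108499) (iv6 D50095) (iv5 F79290)
theorem F404994 : act 0 n197604 = n140326 := d18_0 F223429 (iv1 D115447) F84105 (iv5 F101671) (iv4 F345294) F216934 (iv4 F404981) (iv0 D197602) D197604
theorem F404995 : act 1 n197604 = n142008 := d15_1 (iv0 F404994) F225037 (iv2 F223427)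
def n197605 : Q := act 4 n108499
theorem D197605 : act 4 n108499 = n197605 := rfl
theorem F404996 : act 7 n197605 = n196387 := d11_2 (iv7 F167724) D197605 (iv4 D196387)
theorem F404997 : act 5 n197605 = n140343 := d16_1 D197605 (iv4 D140343) (iv5 D65867) F49243 F24252 (iv4 F49243) D65867 (iv7 F167934) F167933
def n197606 : Q := act 5 n108501
theorem D197606 : act 5 n108501 = n197606 := rfl
theorem F404998 : act 2 n197606 = n133335 := d2_1 D197606 (iv5 D133335) (iv2 F167728)
theorem F404999 : act 6 n197606 = n171092 := d12_2 D108501 D197606 F332323 (iv6 D107740) F79297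
theorem F405000 : act 4 n197606 = n171094 := d16_6 (iv4 F346164) (iv5 D129457) (iv4 F95781) F95782 (iv4 F167729) D197606 F389027 F389026 (iv2 F346162)
def n197607 : Q := act 6 n108503
theorem D197607 : act 6 n108503 = n197607 := rfl
theorem F405001 : act 2 n197607 = n137321 := d3_1 D197607 F220487 (iv2 F169296)
theorem F405002 : act 3 n197607 = n108545 := d7_1 D197607 (iv6 D108545) F167742
theorem F405003 : act 5 n197607 = n133240 := d12_1 D197607 F214082 (iv5 F219888) (iv6 D136730) (iv5 F167741)
theorem F405004 : act 7 n197607 = n116121 := d14_2 F167743 D197607 (iv6 D116121) F102181 D64545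
theorem F405005 : act 0 n197607 = n135489 := d21_4 D30272 D64269 (iv5 F167741) D197607 F217889 D136699 F219830 F219446 (iv6 D64268) (iv1 D30271)
theorem F405006 : act 0 n135233 = n197607 := d21_4 F48783 (iv1 F163875) D109749 (iv6 F217418) (iv6 D197607) F167741 (iv1 F100137) F100134 (iv6 F99474) (iv1 F99475)
def n197608 : Q := act 3 n108505
theorem D197608 : act 3 n108505 = n197608 := rfl
theorem F405007 : act 2 n197608 = n179118 := d0_1 D197608 (iv3 D179118) (iv2 F355154) F403093 F403099
theorem F405008 : act 7 n197608 = n197238 := d8_2 (iv7 F403100) D197608 F403686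
theorem F405009 : act 4 n197608 = n197233 := d20_6 (iv4 F38319) (iv1 D24433) D24434 D50101 D108505 D197608 (iv1 F403669) F320634 F318514 (iv1 F78556)
theorem F405010 : act 5 n144516 = n197608 := d16_1 (iv4 F227375) F405009 F403665 (iv4 F210277) F356861 (iv4 F352577) (iv5 F317643) F321857 F183053
def n197609 : Q := act 4 n108505
theorem D197609 : act 4 n108505 = n197609 := rfl
theorem F405011 : act 2 n197609 = n134848 := d1_1 D197609 F403094 F403099
theorem F405012 : act 3 n197609 = n197391 := d5_1 D197609 (iv4 D197391) F403667 (iv4 F405009) (iv3 D197608)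
theorem F405013 : act 0 n197549 = n197609 := d20_10 (iv4 D197609) (iv1 F403105) F403102 F167901 (iv1 F167705) D108476 (iv4 F364764) D186957 F368660 D197549
def n197610 : Q := act 5 n108505
theorem D197610 : act 5 n108505 = n197610 := rfl
theorem F405014 : act 3 n197610 = n144516 := d6_1 D197610 F405010 (iv3 D197608)
theorem F405015 : act 4 n197610 = n134180 := d17_4 (iv1 F382183) (iv5 D108508) D108505 D197610 F361288 (iv0 D63081) D63084 D134278 F365399
theorem F405016 : act 6 n197610 = n144514 := d21_3 (iv5 D108508) D108505 D197610 F252118 F365765 F272070 (iv1 F186553) (iv5 D83746) D83747 (iv1 F382183)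
theorem F405017 : act 0 n197089 = n197610 := d20_10 F405015 F361287 (iv4 D159052) D159051 F348510 F321881 F78619 (iv1 F97702) (iv4 F166242) (iv3 F403002)
def n197611 : Q := act 6 n108505
theorem D197611 : act 6 n108505 = n197611 := rfl
def n197612 : Q := act 4 n108506
theorem D197612 : act 4 n108506 = n197612 := rfl
theorem F405018 : act 3 n197612 = n134852 := d5_1 D197612 (iv4 F372104) F372103 F350209 (iv3 F360547)
theorem F405019 : act 6 n197612 = n192514 := d10_2 F372108 D197612 (iv4 F386918)
theorem F405020 : act 7 n197612 = n134848 := d11_2 F403097 D197612 F403094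
theorem F405021 : act 0 n197612 = n197549 := d18_2 (iv1 F403106) D197612 F404779 F352306 (iv4 D134279) D134278 F365399 D175372 (iv5 F403103)
def n197613 : Q := act 5 n108507
theorem D197613 : act 5 n108507 = n197613 := rfl
theorem F405022 : act 2 n197613 = n108508 := d2_1 D197613 (iv5 D108508) D108507
theorem F405023 : act 3 n197613 = n173658 := d6_1 D197613 F334746 F176257
theorem F405024 : act 7 n197613 = n175372 := d13_2 F403104 D197613 (iv5 F403103)
theorem F405025 : act 1 n197613 = n175161 := d17_6 D134209 F361294 F361295 F332988 (iv4 F167751) D197613 (iv5 F402998) (iv0 D197087) F166241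
theorem F405026 : act 0 n197613 = n175374 := d18_0 F334547 F355518 (iv4 F350811) (iv5 D125090) D125089 (iv0 F366592) F403094 (iv0 F403096) D197613
def n197614 : Q := act 0 n108508
theorem D197614 : act 0 n108508 = n197614 := rfl
theorem F405027 : act 3 n197614 = n146837 := d20_5 (iv4 F79298) D61318 F95804 (iv3 F167752) D197614 (iv4 D146837) F130228 (iv4 F320636) (iv3 D115224) F83941
theorem F405028 : act 2 n175374 = n197614 := d15_3 (iv0 D197614) F382183 D175374
theorem F405029 : act 1 n175372 = n197614 := d15_0 (iv0 D197614) (iv7 F403027) F403025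
theorem F405030 : act 7 n197614 = n175161 := d15_2 D175372 F405029 F274176
theorem F405031 : act 4 n197614 = n134277 := d17_9 (iv1 F360777) F360775 (iv1 F216024) (iv5 F352309) F348522 (iv5 F360548) F403106 F403103 F405029
theorem F405032 : act 6 n146839 = n197614 := d10_0 F405031 (iv6 F365393) (iv4 F230205)
def n197615 : Q := act 4 n108508
theorem D197615 : act 4 n108508 = n197615 := rfl
theorem F405033 : act 3 n197615 = n153956 := d5_1 D197615 (iv4 F336956) F336952 F95804 (iv3 F167752)
theorem F405034 : act 1 n197615 = n175392 := d18_6 (iv1 D58475) (iv4 F317012) (iv1 D50131) (iv4 F79315) D108508 D197615 (iv4 F363164) (iv0 F350813) (iv5 D125090)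
def n197616 : Q := act 6 n108508
theorem D197616 : act 6 n108508 = n197616 := rfl
theorem F405035 : act 3 n197616 = n108509 := d7_1 D197616 (iv6 D108509) (iv3 F167752)
def n197617 : Q := act 0 n108509
theorem D197617 : act 0 n108509 = n197617 := rfl
theorem F405036 : act 5 n197617 = n152733 := d17_1 D197617 F347081 (iv5 F143134) F120111 (iv5 F120116) F319010 (iv5 F403234) F403235 F209263
theorem F405037 : act 6 n197617 = n152736 := d21_5 (iv5 D105555) F76870 D50102 D108509 D197617 (iv5 D152736) D152734 (iv5 F335507) F339216 F166247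
theorem F405038 : act 0 n197617 = n188892 := d21_1 (iv5 F405036) F375143 (iv6 F342187) F351697 (iv6 F333875) (iv5 F330294) (iv1 F315324) (iv5 F327900) (iv6 F349325) F349326
def n197618 : Q := act 1 n108509
theorem D197618 : act 1 n108509 = n197618 := rfl
theorem F405039 : act 1 n197618 = n188892 := d15_1 D197618 F375144 F176265
theorem F405040 : act 4 n197618 = n121340 := d17_9 F338533 F338534 (iv1 F318212) F178807 F338554 (iv5 F338548) D132929 F338565 D197618
theorem F405041 : act 6 n114198 = n197618 := d21_3 (iv5 F323290) (iv1 D142374) (iv5 F330344) (iv1 D197618) (iv6 D108509) (iv5 D50102) (iv1 F78545) D107602 (iv6 F331687) F332296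
theorem F405042 : act 5 n197618 = n188788 := d21_6 (iv5 F94631) (iv1 F94632) (iv5 D52713) D52714 D114198 F405041 (iv1 F374888) (iv5 D164264) (iv6 D78909) (iv1 F83188)
def n197619 : Q := act 7 n108509
theorem D197619 : act 7 n108509 = n197619 := rfl
theorem F405043 : act 2 n197619 = n188892 := d4_1 D197619 F375144 F176265
def n197620 : Q := act 0 n108510
theorem D197620 : act 0 n108510 = n197620 := rfl
theorem F405044 : act 3 n197620 = n137700 := d20_5 F48152 (iv1 F46365) D50104 D108510 D197620 F349654 (iv1 D106659) F77880 (iv3 D29952) D29950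
theorem F405045 : act 5 n197620 = n135069 := d21_0 (iv1 F364852) (iv5 F332671) (iv6 F332666) (iv1 F367624) F395920 F395918 (iv1 F224214) (iv5 F321259) (iv6 F328835) D197620
theorem F405046 : act 1 n197514 = n197620 := d15_0 (iv0 D197620) F167753 D197514
theorem F405047 : act 3 n135069 = n183166 := d6_1 F405045 (iv5 F364105) (iv3 F405044)
theorem F405048 : act 6 n137698 = n197620 := d21_5 (iv5 F367626) (iv1 F293612) D102589 (iv6 F391766) F391769 F405045 (iv1 F364852) (iv5 F332671) (iv6 F332666) (iv1 F367624)
theorem F405049 : act 2 n197620 = n197513 := d3_1 F405048 (iv6 F404647) (iv2 F391838)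
theorem F405050 : act 7 n197512 = n197620 := d15_2 (iv0 F404648) F404645 F405049
def n197621 : Q := act 1 n108510
theorem D197621 : act 1 n108510 = n197621 := rfl
theorem F405051 : act 1 n197621 = n197514 := d15_1 D197621 F404652 (iv2 F328833)
theorem F405052 : act 7 n197621 = n197513 := d15_2 (iv0 D197620) D197621 (iv2 F405049)
theorem F405053 : act 3 n187774 = n197621 := d20_3 (iv4 F217591) (iv1 F317739) (iv4 F371452) (iv1 D197621) (iv3 D108510) (iv4 D50104) (iv1 F46367) (iv4 F48155) D63393 D134889
theorem F405054 : act 5 n135070 = n197621 := d21_0 (iv1 D197621) (iv5 F216923) (iv6 F365569) F372545 (iv6 D188170) (iv5 D91016) (iv1 D42633) D42635 D91023 (iv1 F332675)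
theorem F405055 : act 2 n197621 = n197512 := d0_1 F405053 F404644 (iv2 F399441) F399442 F374950
theorem F405056 : act 6 n197621 = n187773 := d7_2 D187774 F405053 F371451
def n197622 : Q := act 0 n108516
theorem D197622 : act 0 n108516 = n197622 := rfl
theorem F405057 : act 4 n197622 = n130133 := d18_3 F218435 F218434 D197622 (iv5 D130133) (iv4 F98965) (iv0 D63621) D63623 (iv0 F98970) D132757
theorem F405058 : act 3 n197622 = n134981 := d20_5 F48183 F207210 D63596 F207211 D197622 F217202 (iv1 F207590) (iv4 F217335) F217334 F213166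
theorem F405059 : act 2 n108520 = n197622 := d15_3 (iv0 D197622) (iv0 D108516) D108520
theorem F405060 : act 1 n108517 = n197622 := d15_0 (iv0 D197622) F207232 (iv2 F218441)
theorem F405061 : act 7 n197622 = n108518 := d15_2 D108517 F405060 (iv2 D108518)
theorem F405062 : act 5 n197596 = n197622 := d21_6 (iv5 F357537) (iv1 F139088) D91094 D188215 (iv1 F385108) (iv6 F404963) (iv1 F405060) F347391 (iv6 D93215) D93212
def n197623 : Q := act 5 n108516
theorem D197623 : act 5 n108516 = n197623 := rfl
theorem F405063 : act 2 n197623 = n189091 := d2_1 D197623 F375715 F218437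
theorem F405064 : act 3 n197623 = n135275 := d6_1 D197623 (iv5 D135275) F207211
theorem F405065 : act 4 n197623 = n194711 := d9_1 D197623 (iv5 D194711) (iv4 F311929) F239237 F214106 (iv5 F218449) F218448 F347391 (iv4 F375707) (iv5 F375708) F338854 (iv5 F211051) (iv4 F214103) (iv5 F218432) F218434
theorem F405066 : act 6 n197623 = n175768 := d12_2 F389503 D197623 (iv5 D175768) (iv6 F156282) (iv5 F389502)
theorem F405067 : act 7 n197623 = n135355 := d13_2 (iv7 F207232) D197623 (iv5 D135355)
theorem F405068 : act 0 n197623 = n189090 := d17_2 D108516 D197623 (iv5 F375711) F217096 F209528 (iv0 D61429) D61432 (iv0 F95932) F93601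
theorem F405069 : act 1 n197623 = n135006 := d17_8 F358064 (iv5 F299248) F195690 D150108 (iv4 F404962) F405062 (iv0 D197622) D197623 F357924
def n197624 : Q := act 5 n108518
theorem D197624 : act 5 n108518 = n197624 := rfl
theorem F405070 : act 2 n197624 = n108519 := d2_1 D197624 (iv5 D108519) D108518
theorem F405071 : act 3 n197624 = n146936 := d6_1 D197624 F336975 (iv3 F167772)
theorem F405072 : act 4 n197624 = n123968 := d9_1 D197624 (iv5 F366652) (iv4 F213744) F212575 F97178 (iv5 F98856) (iv4 F167776) F167777 F333442 (iv5 D99477) (iv4 F153244) F313638 F207869 (iv5 F203340) F203339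
theorem F405073 : act 6 n197624 = n146934 := d12_2 F171572 D197624 (iv5 D146934) D146935 F336974
theorem F405074 : act 7 n197624 = n197596 := d13_2 F405061 D197624 F405062
theorem F405075 : act 1 n197595 = n197624 := d15_1 D197595 F405074 (iv2 D197596)
theorem F405076 : act 0 n197594 = n197624 := d18_2 F383274 (iv4 F404961) F405072 (iv5 F366652) (iv4 F213744) F217637 F311279 (iv0 F321376) D191379
def n197625 : Q := act 0 n108519
theorem D197625 : act 0 n108519 = n197625 := rfl
theorem F405077 : act 5 n197625 = n134889 := d17_3 (iv1 D108517) D108519 D197625 (iv4 F217591) (iv5 D135345) (iv0 F98970) D132757 F218450 F218448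
theorem F405078 : act 4 n197625 = n124780 := d18_3 (iv1 F385115) F385111 D197625 (iv5 D124780) (iv4 F200428) F357874 F206324 F315060 D123962
theorem F405079 : act 1 n197596 = n197625 := d15_0 (iv0 D197625) (iv7 F167774) D197596
theorem F405080 : act 7 n197594 = n197625 := d11_0 F405078 F366804 (iv4 F404961)
theorem F405081 : act 2 n197625 = n197595 := d15_3 F405075 (iv0 F405076) F405080
def n197626 : Q := act 1 n108519
theorem D197626 : act 1 n108519 = n197626 := rfl
theorem F405082 : act 1 n197626 = n197596 := d15_1 D197626 (iv7 F405074) F405070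
theorem F405083 : act 7 n197626 = n197595 := d15_2 (iv0 D197625) D197626 (iv2 F405081)
theorem F405084 : act 5 n197626 = n134890 := d17_7 F323239 (iv5 F209525) F97165 F95611 F93601 D108519 D197626 F371202 F371200
theorem F405085 : act 3 n188704 = n197626 := d19_19 (iv1 D197626) (iv5 D108519) (iv4 F93601) (iv3 D59337) F45584 D30079 F48340 (iv3 F97067) (iv1 F207830) (iv5 D129139) D129138 (iv3 F214790) (iv1 F214804) F211042 F98983 (iv3 F323427) F301803 (iv5 F338820) (iv4 F380075)
theorem F405086 : act 4 n192588 = n197626 := d20_6 F155366 (iv1 D100512) (iv4 D46892) (iv3 F74083) D100431 D192588 (iv1 D197626) (iv4 F385111) F385110 (iv1 F153265)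
theorem F405087 : act 2 n197626 = n197594 := d1_1 F405086 F404961 (iv2 F387181)
theorem F405088 : act 6 n197626 = n188701 := d7_2 D188704 F405085 (iv3 D188701)
def n197627 : Q := act 6 n108519
theorem D197627 : act 6 n108519 = n197627 := rfl
theorem F405089 : act 2 n197627 = n146934 := d3_1 D197627 (iv6 F405073) F405070
theorem F405090 : act 3 n197627 = n108521 := d7_1 D197627 (iv6 D108521) (iv3 F167773)
theorem F405091 : act 4 n197627 = n133983 := d10_1 D197627 (iv6 F385113) F385111
theorem F405092 : act 5 n197627 = n146933 := d12_1 D197627 (iv6 F363301) (iv5 D110808) F80576 D108519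
def n197628 : Q := act 5 n108522
theorem D197628 : act 5 n108522 = n197628 := rfl
theorem F405093 : act 2 n197628 = n134983 := d2_1 D197628 (iv5 D134983) (iv2 F167782)
theorem F405094 : act 3 n197628 = n193563 := d6_1 D197628 F390291 F353313
theorem F405095 : act 6 n197628 = n197598 := d12_2 D108522 D197628 (iv5 D197598) (iv6 D108494) (iv5 F79344)
def n197629 : Q := act 5 n108523
theorem D197629 : act 5 n108523 = n197629 := rfl
theorem F405096 : act 2 n197629 = n132160 := d2_1 D197629 (iv5 D132160) F167788
theorem F405097 : act 7 n197629 = n197531 := d13_2 (iv7 F167787) D197629 (iv5 D197531)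
theorem F405098 : act 0 n197629 = n128665 := d17_2 (iv1 F167786) D197629 (iv5 F211168) (iv4 F216181) F363287 F363288 (iv5 D135217) F102150 F98369
theorem F405099 : act 6 n197629 = n128653 := d21_3 F80562 (iv1 F167786) D197629 (iv1 F216215) F216213 (iv5 F220936) (iv1 F220938) (iv5 F207325) (iv6 D129092) (iv1 F101912)
theorem F405100 : act 0 n129171 = n197629 := d21_10 (iv5 D197629) (iv1 D108523) F79348 (iv6 D50112) (iv1 F38336) D50063 F79253 D58794 F168454 D129171
def n197630 : Q := act 3 n108524
theorem D197630 : act 3 n108524 = n197630 := rfl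
theorem F405101 : act 5 n197630 = n188380 := d6_2 F404791 D197630 (iv3 F404793)
theorem F405102 : act 6 n197630 = n192382 := d7_2 (iv6 F385071) D197630 (iv3 D192382)
theorem F405103 : act 7 n197630 = n197532 := d8_2 F385069 D197630 (iv3 D197532)
theorem F405104 : act 0 n193273 = n197630 := d19_0 F405101 F373216 (iv3 F393989) F393991 (iv5 D136579) D136578 (iv3 F219664) (iv1 F220003) (iv5 F220005) F100142 (iv3 D49428) F37807 D24895 (iv4 F78175) F332993 D174060 (iv5 F404396) F404397 (iv3 F389371)
theorem F405105 : act 1 n193153 = n197630 := d15_0 (iv0 F405104) (iv7 D193273) (iv2 F388958)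
def n197631 : Q := act 3 n108525
theorem D197631 : act 3 n108525 = n197631 := rfl
theorem F405106 : act 7 n197631 = n197535 := d8_2 (iv7 F385066) D197631 (iv3 D197535)
theorem F405107 : act 4 n197631 = n159058 := d20_6 (iv4 D65052) (iv1 F53535) (iv4 F111566) (iv3 F167642) (iv1 F167794) D197631 F348485 (iv4 F366691) F366690 (iv1 F315250)
def n197632 : Q := act 6 n108525
theorem D197632 : act 6 n108525 = n197632 := rfl
theorem F405108 : act 2 n197632 = n197534 := d3_1 D197632 (iv6 D197534) (iv2 F385068)
theorem F405109 : act 4 n197632 = n192907 := d10_1 D197632 F388175 F368659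
theorem F405110 : act 7 n197632 = n192386 := d14_2 (iv7 F385066) D197632 (iv6 D192386) (iv7 F331769) F385065
def n197633 : Q := act 5 n108526
theorem D197633 : act 5 n108526 = n197633 := rfl
theorem F405111 : act 2 n197633 = n108527 := d2_1 D197633 (iv5 D108527) D108526
theorem F405112 : act 3 n197633 = n138472 := d6_1 D197633 (iv5 D138472) (iv3 F167791)
theorem F405113 : act 7 n197633 = n187967 := d13_2 (iv7 F167792) D197633 (iv5 F371965)
theorem F405114 : act 1 n197633 = n187982 := d17_8 (iv1 F377629) (iv5 F392253) F400392 (iv5 F398542) F404718 (iv5 D197536) F167795 D197633 F372019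
theorem F405115 : act 0 n197633 = n187555 := d21_7 D106874 (iv1 F350419) (iv5 D140357) D140358 (iv1 F366741) (iv6 F366739) D197633 F370795 F364387 (iv1 D106872)
theorem F405116 : act 4 n187550 = n197633 := d17_9 F405115 F370795 (iv1 D108443) D108445 (iv4 F377318) (iv5 D189669) (iv0 D94306) (iv5 F138939) D187550
def n197634 : Q := act 1 n108527
theorem D197634 : act 1 n108527 = n197634 := rfl
theorem F405117 : act 1 n197634 = n187967 := d15_1 D197634 (iv7 F405113) F405111
theorem F405118 : act 7 n197634 = n187555 := d15_2 (iv0 F371972) D197634 F370793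
theorem F405119 : act 5 n197634 = n108535 := d17_7 (iv1 F172482) (iv5 F391998) F391999 (iv5 D111210) F80910 D108527 D197634 F167825 (iv4 F172368)
theorem F405120 : act 6 n187977 = n197634 := d21_9 (iv5 D108527) D108524 (iv5 F404791) (iv6 F404794) F401830 (iv6 D196796) (iv5 D107333) D107330 (iv5 F371996) (iv1 D197634)
theorem F405121 : act 2 n197634 = n187982 := d3_1 F405120 F372021 (iv2 F371995)
theorem F405122 : act 4 n189756 = n197634 := d1_0 F405121 F372019 (iv2 F377634)
def n197635 : Q := act 6 n108527
theorem D197635 : act 6 n108527 = n197635 := rfl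
theorem F405123 : act 3 n197635 = n108529 := d7_1 D197635 (iv6 D108529) (iv3 F167796)
theorem F405124 : act 4 n197635 = n187835 := d10_1 D197635 (iv6 F371974) F371968
theorem F405125 : act 0 n187846 = n197635 := d21_4 F401827 F371683 (iv5 D187845) D187846 (iv6 D197635) (iv5 D108527) D108524 (iv5 F404791) (iv6 F404794) F401830
theorem F405126 : act 7 n109160 = n197635 := d11_0 F405124 F371661 (iv4 F361664)
def n197636 : Q := act 0 n108528
theorem D197636 : act 0 n108528 = n197636 := rfl
def n197637 : Q := act 3 n108530
theorem D197637 : act 3 n108530 = n197637 := rfl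
theorem F405127 : act 4 n197637 = n133378 := d5_2 (iv4 F167801) D197637 (iv3 D133378) (iv4 F103407) F103350
theorem F405128 : act 6 n197637 = n140533 := d7_2 F167808 D197637 F223676
theorem F405129 : act 7 n197637 = n115757 := d8_2 (iv7 F167803) D197637 F180119
theorem F405130 : act 0 n197637 = n193728 := d20_7 F206383 (iv1 F206078) F354114 F97610 D62597 D133378 (iv4 F405127) F390798 (iv3 F378407) F369955
def n197638 : Q := act 6 n108535
theorem D197638 : act 6 n108535 = n197638 := rfl
theorem F405131 : act 2 n197638 = n197548 := d3_1 D197638 (iv6 D197548) F364391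
theorem F405132 : act 4 n197638 = n137179 := d10_1 D197638 F375528 (iv4 F375530)
theorem F405133 : act 5 n197638 = n196792 := d12_1 D197638 (iv6 D196792) (iv5 F371996) F405120 F405119
theorem F405134 : act 7 n197638 = n141818 := d14_2 (iv7 F364390) D197638 (iv6 D141818) F219095 (iv6 F364387)
theorem F405135 : act 1 n140344 = n197638 := d15_1 (iv0 F400193) F405134 (iv2 F400190)
theorem E103695 : n193941 = n193609 := ((c18_3 (iv1 F156793) (iv4 F156975) D193609 (iv4 D193941) D193942 (iv4 F391473) F405135 F405132 F390068 F390066)).symm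
theorem F405136 : act 4 n193609 = n102490 := (sb E103695 (iv4 D193941))
def n197639 : Q := act 5 n108536
theorem D197639 : act 5 n108536 = n197639 := rfl
theorem F405137 : act 2 n197639 = n108537 := d2_1 D197639 (iv5 D108537) D108536
theorem F405138 : act 3 n197639 = n138752 := d6_1 D197639 (iv5 D138752) (iv3 F167822)
theorem F405139 : act 7 n197639 = n197550 := d13_2 (iv7 F167823) D197639 (iv5 D197550)
theorem F405140 : act 4 n197639 = n189670 := d16_6 F368656 F353334 F137323 D89578 F329727 D197639 (iv5 D189670) F369404 (iv2 F369402)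
theorem F405141 : act 0 n197639 = n197553 := d17_2 (iv1 F167824) D197639 F404798 (iv4 F368659) (iv5 D186956) (iv0 D89416) D89418 D186958 (iv4 F368662)
theorem F405142 : act 1 n197639 = n197552 := d17_6 (iv1 F342223) F154055 (iv1 D89577) D89578 F329727 D197639 F404791 (iv0 D108524) (iv4 F80910)
def n197640 : Q := act 0 n108539
theorem D197640 : act 0 n108539 = n197640 := rfl
theorem F405143 : act 5 n197640 = n120632 := d17_1 D197640 (iv1 F304626) F304627 F302443 (iv5 D55368) D55367 D120314 (iv0 F302879) (iv4 F329073)
theorem F405144 : act 4 n197640 = n120327 := d18_1 D197640 F301601 D124344 F350348 F172604 (iv0 F329526) D57858 F302063 (iv5 F329074)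
theorem F405145 : act 0 n188312 = n187886 := d20_4 F405144 F301601 D124344 (iv3 F373057) F371760 F139553 D90640 D187894 F371772 D197640
theorem F405146 : act 1 n122341 = n197640 := d15_0 (iv0 D197640) F329075 (iv2 F195646)
theorem F405147 : act 2 n120543 = n197640 := d1_3 F405144 F191630 D120543
theorem F405148 : act 7 n120523 = n197640 := d11_0 F405144 F191631 D120523
def n197641 : Q := act 1 n108539
theorem D197641 : act 1 n108539 = n197641 := rfl
theorem F405149 : act 1 n197641 = n122341 := d15_1 D197641 F329575 (iv2 F167830)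
theorem F405150 : act 7 n197641 = n120543 := d15_2 (iv0 D197640) D197641 F405147
theorem F405151 : act 5 n197641 = n123155 := d17_7 (iv1 F90385) F301452 (iv1 D37571) D37572 D82017 (iv5 F329074) D197641 F197359 F90941
theorem F405152 : act 4 n197641 = n120321 := d17_9 (iv1 F304340) (iv5 D58502) (iv1 F44952) D39694 D85836 F304352 F302063 (iv5 F329074) D197641
theorem F405153 : act 2 n120523 = n197641 := d1_3 F405152 F191610 D120523
theorem F405154 : act 0 n179786 = n196404 := d21_4 F405151 (iv1 D123155) (iv5 F304542) D179786 F400600 F367466 F172624 D125578 F336672 (iv1 F405149)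
def n197642 : Q := act 3 n108541
theorem D197642 : act 3 n108541 = n197642 := rfl
theorem F405155 : act 4 n197642 = n137037 := d5_2 F168677 D197642 (iv3 D137037) F175909 (iv3 F175907)
theorem F405156 : act 6 n197642 = n116106 := d7_2 F172153 D197642 (iv3 D116106)
theorem F405157 : act 7 n197642 = n138770 := d8_2 F171591 D197642 (iv3 D138770)
def n197643 : Q := act 5 n108544
theorem D197643 : act 5 n108544 = n197643 := rfl
theorem F405158 : act 2 n197643 = n138778 := d2_1 D197643 (iv5 D138778) (iv2 F167849)
theorem F405159 : act 3 n197643 = n154764 := d6_1 D197643 (iv5 D154764) (iv3 F322268)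
theorem F405160 : act 7 n197643 = n138781 := d13_2 (iv7 F167850) D197643 (iv5 D138781)
theorem F405161 : act 4 n197643 = n171101 := d16_2 D108544 D197643 (iv5 D171101) (iv4 F126433) (iv5 F329868) F101861 F79378 F102103 (iv2 F102105)
theorem F405162 : act 0 n197643 = n188077 := d17_2 (iv1 F167862) D197643 F372262 F222732 (iv5 F171643) (iv0 F329703) F329707 (iv0 D108104) (iv4 F79401)
theorem F405163 : act 1 n197643 = n108713 := d17_6 F49144 (iv5 F39115) D51300 F80923 D108544 D197643 (iv5 D108713) F101923 (iv4 D65511)
def n197644 : Q := act 3 n108546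
theorem D197644 : act 3 n108546 = n197644 := rfl
theorem F405164 : act 2 n197644 = n154767 := d0_1 D197644 (iv3 D154767) (iv2 F359344) (iv3 D138780) (iv2 F167857)
theorem F405165 : act 4 n197644 = n144303 := d5_2 D108546 D197644 (iv3 D144303) (iv4 F111176) (iv3 F111173)
theorem F405166 : act 6 n197644 = n116116 := d7_2 (iv6 F167858) D197644 (iv3 D116116)
theorem F405167 : act 7 n197644 = n138777 := d8_2 (iv7 F167859) D197644 (iv3 D138777)
theorem F405168 : act 0 n197644 = n188830 := d19_4 F79379 F79378 D108546 D197644 (iv5 D188830) (iv4 D92824) F68291 (iv1 F55307) (iv5 D34941) F27790 F20103 F9376 (iv5 D6031) D6030 (iv3 F26452) (iv1 F9280) D12572 (iv4 F315182) (iv3 F53737)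
theorem F405169 : act 0 n188824 = n197644 := d20_4 (iv4 D99330) F293215 (iv4 F143274) (iv3 F375012) (iv3 D197644) (iv4 D108546) (iv1 D50122) (iv4 F79376) (iv3 F335709) F292914
def n197645 : Q := act 5 n108546
theorem D197645 : act 5 n108546 = n197645 := rfl
theorem F405170 : act 2 n197645 = n138781 := d2_1 D197645 (iv5 D138781) (iv2 F167857)
theorem F405171 : act 4 n197645 = n123884 := d9_1 D197645 F355605 F135037 (iv5 F329909) (iv4 D111223) F80923 D108544 D197643 F405161 (iv5 D171101) (iv4 F126433) (iv5 F329868) F101861 F79378 D108546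
theorem F405172 : act 7 n197645 = n138778 := d13_2 (iv7 F167859) D197645 (iv5 D138778)
theorem F405173 : act 0 n197645 = n108713 := d17_2 (iv1 F167861) D197645 (iv5 D108713) F79556 (iv5 F78617) (iv0 F329693) F329697 F167181 (iv4 F167701)
theorem F405174 : act 1 n197645 = n188077 := d17_6 (iv1 F78087) (iv5 F53738) F79379 F79378 D108546 D197645 F372262 F222730 (iv4 D65524)
theorem F405175 : act 6 n123882 = n197645 := d10_0 F405171 (iv6 D123884) D123882
def n197646 : Q := act 3 n108548
theorem D197646 : act 3 n108548 = n197646 := rfl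
theorem F405176 : act 2 n197646 = n124867 := d0_1 D197646 (iv3 D124867) F312318 (iv3 F167697) F221964
theorem F405177 : act 6 n197646 = n114331 := d7_2 (iv6 F327347) D197646 F340003
theorem F405178 : act 7 n197646 = n197566 := d8_2 F221966 D197646 (iv3 D197566)
theorem F405179 : act 1 n112879 = n197646 := d15_1 (iv0 F246885) F405178 F404857
theorem F405180 : act 5 n114369 = n197646 := d16_7 (iv4 F339999) (iv5 D144209) F103444 F95045 F82443 (iv5 F94516) (iv4 F178380) F405178 F404857
theorem F405181 : act 1 n197646 = n112884 := d15_1 F405179 F357649 F357662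
def n197647 : Q := act 5 n108548
theorem D197647 : act 5 n108548 = n197647 := rfl
theorem F405182 : act 2 n197647 = n197565 := d2_1 D197647 (iv5 D197565) F221964
theorem F405183 : act 3 n197647 = n114369 := d6_1 D197647 F405180 (iv3 D197646)
theorem F405184 : act 6 n197647 = n114367 := d12_2 (iv6 F327347) D197647 (iv5 D114367) (iv6 F178304) F363660
theorem F405185 : act 7 n197647 = n197567 := d13_2 F221966 D197647 (iv5 D197567)
theorem F405186 : act 0 n197647 = n108583 := d17_2 (iv1 F167870) D197647 (iv5 F352692) F352691 F201732 (iv0 F343911) (iv5 D136550) F218617 F218613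
theorem F405187 : act 1 n197647 = n197588 := d17_6 (iv1 F388971) F388968 (iv1 F373347) (iv5 F373349) F219621 D197647 F404929 F221713 (iv4 F368247)
def n197648 : Q := act 5 n108549
theorem D197648 : act 5 n108549 = n197648 := rfl
theorem F405188 : act 2 n197648 = n108550 := d2_1 D197648 (iv5 D108550) D108549
theorem F405189 : act 3 n197648 = n193375 := d6_1 D197648 F389634 (iv3 F167866)
theorem F405190 : act 7 n197648 = n197568 := d13_2 (iv7 F167868) D197648 (iv5 D197568)
theorem F405191 : act 4 n197648 = n194661 := d16_6 (iv4 F404768) F404766 (iv4 F358548) (iv5 D136552) (iv4 F167867) D197648 (iv5 F393998) F338917 (iv2 F338905)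
theorem F405192 : act 1 n135904 = n197589 := d17_8 (iv1 F404856) (iv5 D197565) (iv1 F167869) D197648 F405191 (iv5 F393998) (iv0 D135901) D135904 (iv4 D197589)
theorem F405193 : act 0 n197648 = n188408 := d21_1 D197648 (iv5 F389378) (iv6 F402507) (iv1 F402508) (iv6 D108845) (iv5 F164791) F400319 (iv5 D196321) (iv6 F351889) (iv1 F167869)
theorem F405194 : act 1 n197648 = n197569 := d15_0 (iv0 D197569) (iv7 F167873) (iv2 F405188)
theorem F405195 : act 7 n197569 = n188375 := d15_2 (iv0 F405193) F405194 (iv2 F373345)
theorem F405196 : act 3 n138528 = n197569 := d8_3 F405195 F373205 F350067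
theorem F405197 : act 4 n188377 = n197569 := d11_3 F405195 F373206 D188377
theorem F405198 : act 5 n138527 = n197569 := d13_3 F405195 F373207 F245780
theorem F405199 : act 6 n153687 = n197569 := d14_5 F405195 (iv6 D188375) (iv7 F140497) (iv6 F345148) (iv7 F330105)
theorem F405200 : act 5 n136666 = n193271 := d18_9 (iv1 D193271) F156252 D101426 F368247 F405198 (iv4 F405197) F373352 (iv4 F388603) (iv0 F388605)
theorem F405201 : act 2 n193271 = n197630 := d2_1 F405200 F405101 F373215
def n197649 : Q := act 6 n108549
theorem D197649 : act 6 n108549 = n197649 := rfl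
theorem F405202 : act 2 n197649 = n108551 := d3_1 D197649 (iv6 D108551) D108549
theorem F405203 : act 3 n197649 = n197562 := d7_1 D197649 (iv6 D197562) (iv3 F167866)
theorem F405204 : act 4 n197649 = n136553 := d10_1 D197649 (iv6 D136553) (iv4 F167867)
theorem F405205 : act 0 n197649 = n189595 := d21_4 F405198 (iv1 F405194) (iv5 D197648) D197649 F377055 (iv5 F360807) (iv1 F292811) (iv5 D101441) D101442 F352689
def n197650 : Q := act 1 n108550
theorem D197650 : act 1 n108550 = n197650 := rfl
theorem F405206 : act 1 n197650 = n197568 := d15_1 D197650 (iv7 F405190) F405188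
theorem F405207 : act 7 n197650 = n188408 := d15_2 (iv0 F402501) D197650 F373345
theorem F405208 : act 5 n134835 = n197650 := d21_0 (iv1 D197650) (iv5 D108550) D108551 F389255 (iv6 D193230) F360803 D187249 F369623 D193163 (iv1 F389000)
theorem F405209 : act 2 n197650 = n197569 := d2_1 F405208 (iv5 F405198) (iv2 F385739)
theorem F405210 : act 6 n197650 = n142821 := d12_2 (iv6 F401713) F405208 F225714 (iv6 F165354) (iv5 F401712)
theorem F405211 : act 4 n188410 = n197650 := d10_3 F405210 (iv4 F373193) (iv6 F373355)
def n197651 : Q := act 6 n108550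
theorem D197651 : act 6 n108550 = n197651 := rfl
theorem F405212 : act 3 n197651 = n108552 := d7_1 D197651 (iv6 D108552) (iv3 F167872)
theorem F405213 : act 7 n197651 = n111408 := d14_2 (iv7 F167873) D197651 (iv6 F350381) F338870 (iv6 F338869)
theorem F405214 : act 0 n140735 = n197651 := d21_4 (iv5 D140727) (iv1 D66036) D66038 D140735 (iv6 D197651) (iv5 D108550) D108547 F351888 (iv6 D142039) (iv1 F223825)
theorem F405215 : act 5 n111409 = n197651 := d13_3 F405213 (iv5 D111408) D111409
def n197652 : Q := act 1 n108551
theorem D197652 : act 1 n108551 = n197652 := rfl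
theorem F405216 : act 7 n197652 = n189595 := d15_2 (iv0 F389255) D197652 (iv2 F389252)
theorem F405217 : act 4 n189596 = n197652 := d20_6 (iv4 D64169) F99385 (iv4 F218584) F359417 F375881 (iv3 F377056) (iv1 D197652) F167875 F100012 (iv1 F161369)
def n197653 : Q := act 5 n108551
theorem D197653 : act 5 n108551 = n197653 := rfl
theorem F405218 : act 3 n197653 = n108553 := d6_1 D197653 (iv5 D108553) (iv3 F167874)
theorem F405219 : act 6 n197653 = n111409 := d12_2 D108551 D197653 F405215 (iv6 D197651) (iv5 D108550)
theorem F405220 : act 4 n195053 = n197653 := d10_3 F405219 (iv4 F176468) (iv6 F395582)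
theorem F405221 : act 7 n111285 = n197653 := d14_0 F405219 (iv7 D111409) (iv6 D51378) (iv7 F80985) D111285
def n197654 : Q := act 7 n108551
theorem D197654 : act 7 n108551 = n197654 := rfl
theorem F405222 : act 3 n197654 = n108554 := d8_1 D197654 (iv7 D108554) (iv3 F167874)
theorem F405223 : act 4 n197654 = n136561 := d11_1 D197654 (iv7 D136561) (iv4 F167875)
theorem F405224 : act 5 n197654 = n111285 := d13_1 D197654 F405221 (iv5 D197653)
theorem F405225 : act 6 n197654 = n154752 := d14_1 D197654 F366522 (iv6 D108464) (iv7 F79392) D108551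
theorem F405226 : act 0 n189595 = n197654 := d21_4 D101444 F360809 F360807 (iv6 F377055) F405225 F372027 F372028 (iv5 D128039) (iv6 F352713) (iv1 F156007)
theorem F405227 : act 0 n183137 = n136561 := d20_7 (iv4 D108451) (iv1 D50077) (iv4 F79270) (iv3 F167677) D197555 (iv3 F404805) F389275 (iv4 F405223) F405222 (iv1 F167880)
theorem F405228 : act 1 n183137 = n136553 := d15_1 (iv0 F405227) (iv7 F394279) (iv2 F394278)
theorem F405229 : act 1 n194730 = n136561 := d15_0 (iv0 F405227) (iv7 F358541) (iv2 F394281)
theorem F405230 : act 1 n136553 = n194730 := d15_0 F405229 (iv7 D136561) (iv2 F219647)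
theorem F405231 : act 4 n183136 = n189585 := d18_1 (iv1 F379981) (iv1 D189585) F145055 D94117 D189595 (iv0 F405205) F405204 F405230 F394282
def n197655 : Q := act 3 n108555
theorem D197655 : act 3 n108555 = n197655 := rfl
theorem F405232 : act 4 n197655 = n111139 := d5_2 F343126 D197655 F374451 F404113 (iv3 F404112)
theorem F405233 : act 5 n197655 = n187548 := d6_2 F343120 D197655 F370769
theorem F405234 : act 6 n197655 = n141130 := d7_2 (iv6 F388740) D197655 F224103
theorem F405235 : act 7 n197655 = n197558 := d8_2 (iv7 F245714) D197655 (iv3 D197558)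
theorem F405236 : act 2 n197655 = n187963 := d15_3 (iv0 F377633) (iv0 F404816) (iv7 F405235)
theorem F405237 : act 0 n188923 = n197655 := d21_4 F292911 (iv1 F143272) D92910 D188923 F405234 (iv5 F388738) D193098 (iv5 F388733) (iv6 D188853) F293129
theorem F405238 : act 1 n197571 = n197655 := d18_8 (iv1 F387837) (iv4 D192800) (iv1 F377639) F405122 F405119 F375530 F375526 (iv4 F404873) F405233
def n197656 : Q := act 6 n108557
theorem D197656 : act 6 n108557 = n197656 := rfl
theorem F405239 : act 2 n197656 = n108559 := d3_1 D197656 (iv6 D108559) D108557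
theorem F405240 : act 3 n197656 = n154751 := d7_1 D197656 F366524 (iv3 F167883)
theorem F405241 : act 4 n197656 = n197348 := d10_1 D197656 (iv6 D197348) (iv4 F167884)
theorem F405242 : act 0 n197348 = n150036 := d20_7 (iv4 D60155) (iv1 F86060) (iv4 F86064) D73387 D154751 (iv3 F405240) F405241 F236056 (iv3 D147917) F105566
theorem F405243 : act 0 n191916 = n197656 := d20_10 F405241 F405242 F236056 (iv3 D147917) F105566 (iv3 F329720) F143285 (iv1 F292693) D99317 D191916
theorem F405244 : act 1 n192435 = n197656 := d15_0 (iv0 F405243) F384826 D192435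
def n197657 : Q := act 1 n108558
theorem D197657 : act 1 n108558 = n197657 := rfl
theorem F405245 : act 1 n197657 = n193375 := d15_1 D197657 F389633 (iv2 F343145)
theorem F405246 : act 7 n197657 = n193386 := d15_2 F403462 D197657 (iv2 F403458)
theorem F405247 : act 5 n197657 = n134826 := d17_7 F403598 F403593 (iv1 F315139) (iv5 D108110) (iv4 F79396) D108558 D197657 F403847 F403843
theorem F405248 : act 4 n197657 = n183010 := d17_9 (iv1 F284622) (iv5 D125115) (iv1 F92431) D85853 D179732 F343120 (iv0 D108555) D108558 D197657
theorem F405249 : act 2 n193385 = n197657 := d1_3 F405248 (iv2 F315174) (iv4 F389655)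
def n197658 : Q := act 1 n108559
theorem D197658 : act 1 n108559 = n197658 := rfl
theorem F405250 : act 7 n197658 = n192435 := d15_2 (iv0 F364385) D197658 (iv2 D192435)
theorem F405251 : act 2 n191916 = n197658 := d4_3 F405250 (iv2 D192435) (iv7 F384826)
theorem F405252 : act 3 n197658 = n192405 := d0_2 D191916 F405251 (iv2 D192405) (iv3 D100158) (iv2 F152922)
theorem F405253 : act 1 n197658 = n192434 := d15_0 (iv0 D192434) (iv7 F384826) F405251
theorem F405254 : act 7 n192434 = n197656 := d15_2 D197658 F405253 F405239
def n197659 : Q := act 7 n108559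
theorem D197659 : act 7 n108559 = n197659 := rfl
theorem F405255 : act 2 n197659 = n192434 := d4_1 D197659 F405254 F405239
theorem F405256 : act 3 n197659 = n108562 := d8_1 D197659 (iv7 D108562) (iv3 F167891)
theorem F405257 : act 4 n197659 = n197351 := d11_1 D197659 (iv7 D197351) (iv4 F167892)
theorem F405258 : act 5 n197659 = n111469 := d13_1 D197659 (iv7 F387019) F387018
theorem F405259 : act 6 n197659 = n111472 := d14_1 D197659 F343148 (iv6 D108456) (iv7 F79397) D108559
theorem F405260 : act 1 n191916 = n197659 := d15_1 (iv0 F405243) (iv7 D197659) (iv2 F405239)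
theorem F405261 : act 1 n197659 = n192435 := d15_1 F405260 (iv7 F405250) (iv2 F405251)
theorem F405262 : act 5 n192544 = n192434 := d2_2 F405258 F387020 (iv2 F405255)
def n197660 : Q := act 6 n108563
theorem D197660 : act 6 n108563 = n197660 := rfl
theorem F405263 : act 2 n197660 = n108582 := d3_1 D197660 (iv6 D108582) F167900
theorem F405264 : act 3 n197660 = n197570 := d7_1 D197660 (iv6 D197570) (iv3 F167901)
theorem F405265 : act 4 n197660 = n125988 := d10_1 D197660 F403108 F403102
theorem F405266 : act 5 n197660 = n196302 := d12_1 D197660 (iv6 D196302) D196301 (iv6 F400284) F388640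
theorem F405267 : act 7 n197660 = n140332 := d14_2 (iv7 F167902) D197660 (iv6 D140332) F101517 F98550
theorem F405268 : act 1 n140334 = n197660 := d15_1 D140334 F405267 F223444
theorem F405269 : act 0 n140333 = n197660 := d18_2 (iv1 F342297) (iv4 F404288) F405265 (iv5 D125988) (iv4 D58993) F93183 (iv4 F325127) F325126 D125972
def n197661 : Q := act 5 n108564
theorem D197661 : act 5 n108564 = n197661 := rfl
theorem F405270 : act 2 n197661 = n108567 := d2_1 D197661 (iv5 D108567) D108564
theorem F405271 : act 3 n197661 = n124884 := d6_1 D197661 F200563 (iv3 F314706)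
theorem F405272 : act 7 n197661 = n108572 := d13_2 F167904 D197661 (iv5 D108572)
theorem F405273 : act 0 n197661 = n139626 := d21_1 D197661 (iv5 D139626) (iv6 F101687) (iv1 F354201) (iv6 D140460) (iv5 F404829) (iv1 F216767) (iv5 D134738) F98550 (iv1 F246649)
def n197662 : Q := act 6 n108564
theorem D197662 : act 6 n108564 = n197662 := rfl
theorem F405274 : act 2 n197662 = n108568 := d3_1 D197662 (iv6 D108568) D108564
theorem F405275 : act 3 n197662 = n124885 := d7_1 D197662 (iv6 D124885) (iv3 F314706)
theorem F405276 : act 4 n197662 = n125099 := d10_1 D197662 (iv6 D125099) F317013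
theorem F405277 : act 7 n197662 = n147906 := d14_2 F167904 D197662 F231678 F105579 F319269
theorem F405278 : act 1 n108568 = n156602 := d15_0 (iv0 F366600) (iv7 F405277) F405274
theorem F405279 : act 0 n197662 = n141996 := d20_7 F402935 (iv1 F166027) D107683 F321594 (iv1 F110858) (iv3 F200971) (iv4 F405276) (iv4 F403170) (iv3 D197127) (iv1 F402939)
def n197663 : Q := act 1 n108565
theorem D197663 : act 1 n108565 = n197663 := rfl
theorem F405280 : act 7 n197663 = n196380 := d15_2 (iv0 F332969) D197663 F400520
theorem F405281 : act 4 n197663 = n156168 := d18_7 D156009 F245112 (iv1 F218633) D135917 (iv5 F247038) (iv4 F220220) D197663 F349773 (iv5 D156013)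
theorem F405282 : act 5 n197663 = n187959 := d18_9 (iv1 F371955) (iv4 F400486) (iv1 F400487) F345285 (iv5 F111748) F111747 D137053 (iv4 F220220) D197663
theorem F405283 : act 3 n187963 = n197663 := d20_3 (iv4 F80917) D111214 (iv4 F377632) (iv1 D197663) (iv3 D108565) D108566 F319273 D125089 F366474 (iv1 D108535)
theorem F405284 : act 2 n197663 = n197561 := d0_1 F405283 (iv3 D197561) F245713 D197655 F405236
theorem F405285 : act 0 n124759 = n197663 := d20_4 F314330 (iv1 D58321) D58322 D124759 (iv3 F405283) F377632 (iv1 F172477) F172368 F167675 (iv1 F111761)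
def n197664 : Q := act 2 n108565
theorem D197664 : act 2 n108565 = n197664 := rfl
theorem F405286 : act 3 n197664 = n124761 := d0_2 D108565 D197664 F200390 (iv3 F314706) (iv2 D108564)
theorem F405287 : act 4 n197664 = n156117 := d1_2 (iv4 F220220) D197664 F246663
theorem F405288 : act 6 n197664 = n181155 := d3_2 (iv6 F363359) D197664 (iv2 F304973)
theorem F405289 : act 7 n124759 = n197664 := d15_2 D197663 (iv0 F405285) (iv2 D197664)
theorem F405290 : act 0 n197664 = n196380 := d21_4 (iv5 D177506) F299397 D181155 (iv6 F405288) F400521 (iv5 D106935) D106933 D196381 F400524 (iv1 F276957)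
theorem F405291 : act 1 n197664 = n197561 := d15_1 (iv0 F405290) F404845 (iv2 F400520)
def n197665 : Q := act 7 n108565
theorem D197665 : act 7 n108565 = n197665 := rfl
theorem F405292 : act 2 n197665 = n124759 := d4_1 D197665 F405289 (iv2 D197664)
theorem F405293 : act 3 n197665 = n108569 := d8_1 D197665 (iv7 D108569) D108565
theorem F405294 : act 4 n197665 = n156118 := d11_1 D197665 (iv7 F246664) (iv4 F220220)
theorem F405295 : act 1 n197561 = n197665 := d15_1 F405291 (iv7 D197665) D197664
theorem F405296 : act 1 n197665 = n196380 := d15_1 F405295 (iv7 F405280) F405284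
theorem F405297 : act 6 n153177 = n197665 := d7_0 F405293 F319267 (iv3 F240476)
def n197666 : Q := act 6 n108566
theorem D197666 : act 6 n108566 = n197666 := rfl
theorem F405298 : act 2 n197666 = n125099 := d3_1 D197666 (iv6 D125099) (iv2 F319275)
theorem F405299 : act 3 n197666 = n179244 := d7_1 D197666 (iv6 D179244) (iv3 F319276)
theorem F405300 : act 4 n197666 = n108568 := d10_1 D197666 (iv6 D108568) D108566
theorem F405301 : act 7 n197666 = n148667 := d14_2 (iv7 F319278) D197666 F233428 F106021 (iv6 F92368)
theorem F405302 : act 1 n147812 = n197666 := d15_1 (iv0 F358571) F405301 (iv2 D148667)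
theorem F405303 : act 1 n197666 = n148665 := d15_0 (iv0 D148665) (iv7 F200972) (iv2 F405298)
def n197667 : Q := act 0 n108567
theorem D197667 : act 0 n108567 = n197667 := rfl
theorem F405304 : act 2 n139626 = n197667 := d15_3 (iv0 D197667) (iv0 F359037) (iv7 F222792)
theorem F405305 : act 3 n197667 = n192645 := d0_2 (iv3 F222791) F405304 (iv2 F387339) F221645 (iv2 F101260)
theorem F405306 : act 5 n197667 = n139625 := d2_2 D139626 F405304 (iv2 D139625)
theorem F405307 : act 6 n192982 = n197667 := d12_0 F405306 (iv6 F223766) F388409 F388407 D192982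
theorem F405308 : act 0 n140676 = n145605 := d21_4 D108567 D197667 F405306 (iv6 F223766) F354204 (iv5 F404824) (iv1 D134740) (iv5 D63320) F48058 D50130
theorem F405309 : act 0 n197667 = n108572 := d21_1 (iv5 F405306) (iv5 D108572) (iv6 F319269) D73390 D154765 F359304 (iv1 D108871) D108872 F361290 (iv1 F222788)
def n197668 : Q := act 4 n108567
theorem D197668 : act 4 n108567 = n197668 := rfl
theorem F405310 : act 5 n197668 = n195250 := d16_7 (iv4 F396469) (iv5 F354744) F250298 (iv5 F319277) (iv4 D108566) D108567 D197668 F396473 (iv2 F396470)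
def n197669 : Q := act 7 n108567
theorem D197669 : act 7 n108567 = n197669 := rfl
theorem F405311 : act 2 n197669 = n108572 := d4_1 D197669 (iv7 F405272) F405270
theorem F405312 : act 5 n197669 = n108569 := d13_1 D197669 (iv7 D108569) D108567
theorem F405313 : act 0 n139626 = n197669 := d17_2 (iv1 D139624) D139626 F405312 F319266 D125094 F200964 D159053 F348497 (iv4 F366691)
def n197670 : Q := act 0 n108568
theorem D197670 : act 0 n108568 = n197670 := rfl
theorem F405314 : act 2 n141996 = n197670 := d15_3 (iv0 D197670) F405278 F246290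
theorem F405315 : act 3 n197670 = n197575 := d0_2 (iv3 F225021) F405314 (iv2 F404886) (iv3 D156598) F111773
theorem F405316 : act 6 n197670 = n141994 := d3_2 D141996 F405314 (iv2 D141994)
def n197671 : Q := act 7 n108568
theorem D197671 : act 7 n108568 = n197671 := rfl
theorem F405317 : act 2 n197671 = n147906 := d4_1 D197671 (iv7 F405277) F405274
theorem F405318 : act 4 n197671 = n148667 := d11_1 D197671 (iv7 F405301) F405300
theorem F405319 : act 6 n197671 = n147929 := d14_1 D197671 F231734 (iv6 F319267) (iv7 D108569) D108568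
theorem F405320 : act 1 n147906 = n197670 := d15_0 (iv0 D197670) D197671 F405317
theorem F405321 : act 1 n197671 = n141996 := d15_0 (iv0 F405279) F405277 (iv2 F405317)
def n197672 : Q := act 4 n108572
theorem D197672 : act 4 n108572 = n197672 := rfl
theorem F405322 : act 5 n197672 = n195251 := d16_1 D197672 (iv4 F396469) (iv5 F354744) F250298 (iv5 F319277) (iv4 D108566) D108567 D197669 F405311
def n197673 : Q := act 6 n108572
theorem D197673 : act 6 n108572 = n197673 := rfl
theorem F405323 : act 3 n197673 = n124883 := d7_1 D197673 (iv6 D124883) (iv3 F319268)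
theorem F405324 : act 5 n197673 = n154775 := d12_1 D197673 (iv6 D154775) (iv5 D73393) F319269 D108572
def n197674 : Q := act 4 n108577
theorem D197674 : act 4 n108577 = n197674 := rfl
theorem F405325 : act 5 n134155 = n197674 := d19_1 D134155 (iv4 D197674) F388636 F364228 D109206 F332966 F218265 (iv1 F111019) (iv5 D74201) F53402 (iv3 D24257) (iv1 F38018) F38016 F18654 (iv3 F20239) (iv1 F22916) D14165 D29812 D63021
def n197675 : Q := act 6 n108577
theorem D197675 : act 6 n108577 = n197675 := rfl
def n197676 : Q := act 4 n108578
theorem D197676 : act 4 n108578 = n197676 := rfl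
theorem F405326 : act 0 n197676 = n195253 := d17_0 (iv5 D195253) D195250 (iv5 F405310) (iv4 D197668) (iv5 D108567) (iv0 D50130) D50133 D108578 D197676
def n197677 : Q := act 0 n108579
theorem D197677 : act 0 n108579 = n197677 := rfl
def n197678 : Q := act 1 n108579
theorem D197678 : act 1 n108579 = n197678 := rfl
def n197679 : Q := act 3 n108579
theorem D197679 : act 3 n108579 = n197679 := rfl
theorem F405327 : act 4 n197679 = n108587 := d5_2 D108579 D197679 (iv3 D108587) (iv4 D50137) (iv3 F79403)
theorem F405328 : act 7 n197529 = n197679 := d11_0 F405327 F167923 D197529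
theorem F405329 : act 5 n197521 = n197679 := d16_1 D197521 F405327 F167922 F98767 D129413 F404702 (iv5 D197526) (iv7 F404688) F404687
def n197680 : Q := act 5 n108579
theorem D197680 : act 5 n108579 = n197680 := rfl
theorem F405330 : act 3 n197680 = n197521 := d6_1 D197680 F405329 (iv3 D197679)
theorem F405331 : act 0 n197680 = n132540 := d20_4 (iv4 F79254) D108423 D197521 (iv3 F405330) (iv3 D132540) D132541 (iv1 F213180) (iv4 F213178) F213181 (iv1 D105491)
def n197681 : Q := act 7 n108579
theorem D197681 : act 7 n108579 = n197681 := rfl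
theorem F405332 : act 3 n197681 = n197529 := d8_1 D197681 F405328 (iv3 D197679)
theorem F405333 : act 4 n197681 = n108581 := d11_1 D197681 (iv7 D108581) D108579
def n197682 : Q := act 6 n108581
theorem D197682 : act 6 n108581 = n197682 := rfl
theorem F405334 : act 2 n197682 = n196301 := d3_1 D197682 (iv6 F400284) F388638
theorem F405335 : act 3 n197682 = n108592 := d7_1 D197682 (iv6 D108592) (iv3 F167913)
theorem F405336 : act 7 n197682 = n196304 := d14_2 D108581 D197682 F400287 F388716 F364314
theorem F405337 : act 5 n134727 = n197682 := d13_3 F405336 (iv5 D196304) (iv7 F397104)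
theorem F405338 : act 1 n134745 = n197682 := d15_1 (iv0 F388731) F405336 F400286
theorem E103696 : n196360 = n196304 := (c15_2 (iv0 F400285) D196360 (iv7 F405336) F405334)
theorem F405339 : act 0 n196304 = n106923 := (sb E103696 (iv1 D196360))
theorem E103697 : n195433 = n195393 := (c17_2 (iv1 F396628) D195433 (iv1 D195393) (iv5 D105562) (iv4 F162126) (iv5 F216778) F405338 (iv5 F405337) F216754 (iv4 F396625))
theorem F405340 : act 5 n195393 = n105592 := (sb E103697 (iv5 D195433))
theorem F405341 : act 1 n197682 = n196361 := d15_0 F400469 (iv7 F400283) (iv2 F405334)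
def n197683 : Q := act 0 n108582
theorem D197683 : act 0 n108582 = n197683 := rfl
theorem F405342 : act 4 n197683 = n163135 := d20_0 (iv1 F257456) D163154 F359767 F400548 (iv3 D196388) (iv4 D106936) (iv1 F78130) (iv4 F79424) (iv3 F167915) D197683
theorem F405343 : act 1 n140332 = n197683 := d15_0 (iv0 D197683) F167916 (iv2 F223444)
theorem F405344 : act 2 n140334 = n197683 := d1_3 F405342 (iv2 F359733) (iv4 F351690)
theorem F405345 : act 7 n140333 = n197683 := d11_0 F405342 F359732 (iv4 F404288)
def n197684 : Q := act 1 n108582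
theorem D197684 : act 1 n108582 = n197684 := rfl
theorem F405346 : act 1 n197684 = n140332 := d15_1 D197684 (iv7 F405267) F405263
theorem F405347 : act 7 n197684 = n140334 := d15_2 (iv0 D197683) D197684 F405344
theorem F405348 : act 4 n197684 = n163080 := d18_7 (iv1 D35740) (iv4 F325123) (iv1 F93179) D125959 F403113 F403111 D197684 F359731 (iv5 D78431)
theorem F405349 : act 3 n142040 = n197684 := d20_3 F338949 (iv1 F209849) (iv4 F346604) (iv1 D197684) F167915 F79424 F163963 D31338 D67430 (iv1 F338957)
theorem F405350 : act 2 n140333 = n197684 := d1_3 F405348 (iv2 F342295) (iv4 F404288)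
def n197685 : Q := act 5 n108582
theorem D197685 : act 5 n108582 = n197685 := rfl
theorem F405351 : act 2 n197685 = n196302 := d2_1 D197685 (iv5 F405266) F405263
theorem F405352 : act 3 n197685 = n108593 := d6_1 D197685 (iv5 D108593) (iv3 F167915)
theorem F405353 : act 6 n197685 = n134727 := d12_2 D108582 D197685 F405337 (iv6 D197682) F167914
theorem F405354 : act 7 n197685 = n140335 := d13_2 (iv7 F167916) D197685 (iv5 D140335)
theorem F405355 : act 1 n145654 = n197685 := d15_1 F404841 F405354 (iv2 F404833)
theorem F405356 : act 1 n196302 = n140338 := d15_0 (iv0 F351861) (iv7 F405354) F405351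
theorem F405357 : act 1 n197685 = n163187 := d15_0 F404837 F404836 (iv2 F405351)
def n197686 : Q := act 2 n108583
theorem D197686 : act 2 n108583 = n197686 := rfl
theorem F405358 : act 3 n197686 = n197583 := d0_2 D108583 D197686 (iv2 D197583) (iv3 D108489) F79409
theorem F405359 : act 5 n197686 = n193163 := d2_2 F352692 D197686 F388995
theorem F405360 : act 7 n197686 = n197588 := d4_2 (iv7 F167917) D197686 (iv2 D197588)
theorem F405361 : act 1 n197686 = n197565 := d15_0 F404856 (iv7 F167917) D197686
theorem F405362 : act 1 n197567 = n197686 := d15_0 F405361 F404855 (iv2 F404859)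
theorem F405363 : act 0 n193326 = n191939 := d21_7 D197565 (iv1 F405361) F405359 (iv6 D193163) (iv1 F155995) D101456 D193326 F384915 (iv6 D108464) D108460
def n197687 : Q := act 6 n108583
theorem D197687 : act 6 n108583 = n197687 := rfl
theorem F405364 : act 3 n197687 = n108584 := d7_1 D197687 (iv6 D108584) D108583
theorem F405365 : act 5 n197687 = n193296 := d12_1 D197687 (iv6 D193296) (iv5 D101441) D101442 F352692
def n197688 : Q := act 0 n108584
theorem D197688 : act 0 n108584 = n197688 := rfl
theorem F405366 : act 4 n197688 = n134953 := d18_3 F221524 F343167 D197688 F336663 (iv4 D64977) (iv0 D30524) (iv4 F48917) D64972 D138327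
theorem F405367 : act 6 n197688 = n109018 := d21_5 (iv5 D65532) (iv1 F95116) F95114 D108584 D197688 F169012 (iv1 F172620) F343102 F325751 (iv1 F101264)
theorem F405368 : act 1 n197587 = n197688 := d15_0 (iv0 D197688) (iv7 F343195) (iv2 F404924)
theorem F405369 : act 5 n197688 = n141974 := d18_9 (iv1 D141974) (iv4 D66553) D66551 D141968 F404736 F404734 F221525 (iv4 F404925) F405368
theorem F405370 : act 6 n108786 = n141974 := d21_5 (iv5 D27650) D27647 D57938 D124279 (iv1 F362790) (iv5 F405369) (iv1 F405368) F404926 (iv6 D124308) (iv1 D57948)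
theorem F405371 : act 2 n197585 = n197688 := d3_3 F405367 F376097 (iv6 F404921)
theorem F405372 : act 7 n197586 = n197688 := d15_2 (iv0 D197585) D197586 (iv2 F405371)
def n197689 : Q := act 1 n108584
theorem D197689 : act 1 n108584 = n197689 := rfl
theorem F405373 : act 1 n197689 = n197587 := d15_1 D197689 (iv7 D197587) (iv2 F167918)
theorem F405374 : act 7 n197689 = n197585 := d15_2 (iv0 D197688) D197689 F405371
theorem F405375 : act 5 n197689 = n141973 := d17_7 D66551 F171765 (iv1 D108436) D108437 D197543 F404757 D197689 (iv0 D141973) (iv4 D66553)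
theorem F405376 : act 4 n197689 = n134954 := d18_7 (iv1 F181188) (iv4 D116244) F84524 (iv4 F84544) (iv5 F181226) F343167 D197689 F343815 (iv5 D126879)
theorem F405377 : act 2 n197586 = n197689 := d16_9 F405376 F343816 (iv4 D64980) (iv5 F79261) D108439 (iv5 F400356) (iv4 F400358) (iv5 F405369) (iv7 F405372)
def n197690 : Q := act 6 n108585
theorem D197690 : act 6 n108585 = n197690 := rfl
theorem F405378 : act 3 n197690 = n108586 := d7_1 D197690 (iv6 D108586) D108585
theorem F405379 : act 5 n197690 = n140396 := d12_1 D197690 F362624 (iv5 F363364) F223630 (iv5 F167919)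
theorem F405380 : act 0 n140388 = n197690 := d17_2 (iv1 D140386) D140388 F405379 (iv4 F344504) (iv5 D142497) (iv0 D66807) D66809 (iv0 F349711) F223507
def n197691 : Q := act 0 n108587
theorem D197691 : act 0 n108587 = n197691 := rfl
theorem F405381 : act 1 n146936 = n197691 := d15_0 (iv0 D197691) F167923 F341454
theorem F405382 : act 5 n134882 = n197691 := d21_6 F336958 F336963 F216273 (iv6 F217174) F333089 F355794 (iv1 F405381) F336975 (iv6 F171538) F207392
def n197692 : Q := act 1 n108587
theorem D197692 : act 1 n108587 = n197692 := rfl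
theorem F405383 : act 4 n197692 = n129435 := d18_7 (iv1 D105491) (iv4 F79254) D108423 D197521 F405329 F405327 D197692 (iv0 F396565) (iv5 D195280)
theorem F405384 : act 3 n197677 = n129462 := d20_5 (iv4 F405383) (iv1 D197692) (iv4 F405327) (iv3 D197679) D197677 (iv4 F352315) F368322 D191800 (iv3 F396562) F396565
theorem F405385 : act 5 n129460 = n197677 := d6_0 F405384 (iv5 D129462) D129460
theorem F405386 : act 1 n197680 = n134269 := d17_8 (iv1 F216023) (iv5 F360775) (iv1 F360776) F365400 (iv4 F215979) F405385 (iv0 D197677) D197680 (iv4 D134269)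
def n197693 : Q := act 2 n108587
theorem D197693 : act 2 n108587 = n197693 := rfl
theorem F405387 : act 3 n197693 = n197596 := d0_2 D108587 D197693 (iv2 D197596) (iv3 D108493) (iv2 F79412)
theorem F405388 : act 5 n197693 = n134981 := d2_2 (iv5 F167922) D197693 (iv2 D134981)
theorem F405389 : act 7 n197693 = n146936 := d4_2 (iv7 F167923) D197693 (iv2 F341454)
theorem F405390 : act 1 n197693 = n197527 := d15_0 (iv0 D197527) (iv7 F167923) D197693
theorem F405391 : act 1 n197692 = n146936 := d15_1 D197692 (iv7 F405389) (iv2 D197693)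
theorem F405392 : act 1 n197528 = n197693 := d15_1 D197528 F405389 (iv2 F341454)
def n197694 : Q := act 6 n108587
theorem D197694 : act 6 n108587 = n197694 := rfl
theorem F405393 : act 3 n197694 = n108588 := d7_1 D197694 (iv6 D108588) D108587
theorem F405394 : act 7 n197694 = n146926 := d14_2 (iv7 F167923) D197694 (iv6 D146926) F105684 (iv6 F341455)
def n197695 : Q := act 0 n108588
theorem D197695 : act 0 n108588 = n197695 := rfl
theorem F405395 : act 4 n197695 = n134865 := d18_3 (iv1 D108590) (iv4 F167925) D197695 F342490 (iv4 F373414) F373417 (iv4 F351299) (iv0 D109005) (iv5 F351283)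
theorem F405396 : act 2 n187515 = n197695 := d15_3 (iv0 D197695) F362822 (iv7 F370638)
theorem F405397 : act 7 n197695 = n197597 := d4_2 (iv7 F370638) F405396 F404966
theorem F405398 : act 1 n197599 = n197695 := d15_1 F404972 F405397 F404966
theorem F405399 : act 6 n153777 = n197695 := d10_0 F405395 F342491 D153777
def n197696 : Q := act 5 n108588
theorem D197696 : act 5 n108588 = n197696 := rfl
theorem F405400 : act 2 n197696 = n197598 := d2_1 D197696 (iv5 D197598) (iv2 F167924)
theorem F405401 : act 6 n197696 = n134983 := d12_2 D108588 D197696 (iv5 D134983) (iv6 D63437) (iv5 F79413)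
def n197697 : Q := act 7 n108588
theorem D197697 : act 7 n108588 = n197697 := rfl
theorem F405402 : act 2 n197697 = n197599 := d4_1 D197697 (iv7 D197599) (iv2 F167924)
theorem F405403 : act 3 n197697 = n146926 := d8_1 D197697 (iv7 F405394) F405393
theorem F405404 : act 4 n197697 = n108591 := d11_1 D197697 (iv7 D108591) (iv4 F167925)
theorem F405405 : act 6 n197697 = n146924 := d14_1 D197697 (iv7 F341453) (iv6 D108427) (iv7 F79416) D108588
theorem F405406 : act 1 n197597 = n197697 := d15_1 D197597 (iv7 D197697) F167924
theorem F405407 : act 1 n197697 = n187515 := d15_1 F405406 F370638 (iv2 F404966)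
def n197698 : Q := act 5 n108589
theorem D197698 : act 5 n108589 = n197698 := rfl
theorem F405408 : act 2 n197698 = n109008 := d2_1 D197698 F351303 F351302
theorem F405409 : act 7 n197698 = n108643 := d13_2 (iv7 F351301) D197698 (iv5 F343108)
theorem F405410 : act 0 n197698 = n109006 := d18_0 F351285 (iv1 D116103) (iv4 F331073) (iv5 F351197) (iv4 F362811) F404972 F404970 F167928 D197698
theorem F405411 : act 6 n108948 = n197698 := d14_5 F405409 (iv6 D108643) F79489 D50299 D108948
theorem E103698 : n187913 = n109008 := ((c15_4 (iv0 D187913) (iv0 F360600) (iv7 F405409) F405408)).symm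
theorem F405412 : act 1 n109008 = n90670 := (sb E103698 (iv0 D187913))
theorem F405413 : act 1 n197698 = n109005 := d15_0 (iv0 D109005) D109008 (iv2 F405408)
def n197699 : Q := act 6 n108591
theorem D197699 : act 6 n108591 = n197699 := rfl
theorem F405414 : act 2 n197699 = n197601 := d3_1 D197699 (iv6 D197601) (iv2 F167927)
theorem F405415 : act 3 n197699 = n196304 := d7_1 D197699 F400287 F388714
theorem F405416 : act 4 n197699 = n146924 := d10_1 D197699 (iv6 F405405) F405404
theorem F405417 : act 5 n197699 = n196303 := d12_1 D197699 (iv6 F404844) F404843 F343112 F216785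
theorem F405418 : act 7 n197699 = n108592 := d14_2 D108591 D197699 (iv6 D108592) (iv7 D50139) D50138
theorem F405419 : act 0 n197699 = n197603 := d21_4 (iv5 F343157) (iv1 F216789) F216785 D197699 (iv6 F404988) (iv5 F305163) F198472 F304274 (iv6 F387520) F387522
theorem F405420 : act 1 n142008 = n196303 := d18_8 F405419 F404987 F341413 (iv4 F216930) (iv5 F345311) (iv4 F401324) F401326 (iv4 F225036) (iv5 F405417)
theorem F405421 : act 1 n197699 = n197602 := d15_1 (iv0 F405419) (iv7 F404983) (iv2 F404989)
theorem F405422 : act 1 n196303 = n140326 := d15_1 F405420 F223428 (iv2 F225035)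
def n197700 : Q := act 5 n108592
theorem D197700 : act 5 n108592 = n197700 := rfl
theorem F405423 : act 2 n197700 = n197604 := d2_1 D197700 (iv5 D197604) (iv2 F167931)
theorem F405424 : act 3 n197700 = n134727 := d6_1 D197700 F405337 F405335
theorem F405425 : act 6 n197700 = n108593 := d12_2 D108592 D197700 (iv5 D108593) (iv6 D50140) (iv5 F79420)
theorem F405426 : act 7 n197700 = n196303 := d13_2 F405418 D197700 (iv5 F405417)
theorem F405427 : act 0 n197700 = n116623 := d18_0 F181992 (iv1 F179758) F179757 (iv5 F223722) F345318 F216936 D135190 F360242 D197700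
theorem F405428 : act 0 n134733 = n197700 := d19_0 (iv5 D197700) F167932 F341452 (iv1 F184296) (iv5 D117687) (iv4 D54210) F41614 (iv1 F50514) (iv5 D26156) D26155 F65418 (iv1 D42353) D42354 D90496 F354209 (iv1 F348916) (iv5 F350845) F204235 D134733
def n197701 : Q := act 4 n108593
theorem D197701 : act 4 n108593 = n197701 := rfl
theorem F405429 : act 2 n197701 = n197605 := d1_1 D197701 (iv4 D197605) (iv2 F167933)
theorem F405430 : act 7 n197701 = n140343 := d11_2 (iv7 F167934) D197701 (iv4 D140343)
theorem F405431 : act 5 n197701 = n196387 := d16_1 D197701 (iv4 D196387) (iv5 D106935) F78129 F37775 (iv4 F78129) D106935 (iv7 F167724) (iv2 F167933)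
def n197702 : Q := act 6 n108597
theorem D197702 : act 6 n108597 = n197702 := rfl
theorem F405432 : act 2 n197702 = n113152 := d3_1 D197702 (iv6 D113152) (iv2 F167945)
theorem F405433 : act 3 n197702 = n109266 := d7_1 D197702 (iv6 D109266) (iv3 F167946)
theorem F405434 : act 4 n197702 = n110440 := d10_1 D197702 (iv6 D110440) (iv4 F167953)
theorem F405435 : act 0 n197702 = n111774 := d21_4 (iv5 F48314) (iv1 F167943) F167944 D197702 F173464 D137122 F347060 (iv5 D163720) (iv6 D78658) F327015
theorem F405436 : act 0 n195108 = n197702 := d21_4 (iv5 F327225) F245306 F245305 (iv6 F395800) (iv6 D197702) (iv5 F167944) F167942 F99029 (iv6 F172671) F327216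
def n197703 : Q := act 2 n108599
theorem D197703 : act 2 n108599 = n197703 := rfl
theorem F405437 : act 3 n197703 = n108711 := d0_2 D108599 D197703 (iv2 D108711) (iv3 D50196) (iv2 F79433)
theorem F405438 : act 4 n197703 = n126694 := d1_2 (iv4 F167961) D197703 (iv2 D126694)
theorem F405439 : act 6 n197703 = n193325 := d3_2 (iv6 F352722) D197703 (iv2 F389471)
theorem F405440 : act 7 n197703 = n108844 := d4_2 (iv7 F167962) D197703 (iv2 D108844)
theorem F405441 : act 1 n197703 = n108842 := d15_0 (iv0 D108842) (iv7 F167962) D197703
theorem F405442 : act 1 n108843 = n197703 := d15_0 F405441 (iv7 F180269) (iv2 F220317)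
def n197704 : Q := act 5 n108600
theorem D197704 : act 5 n108600 = n197704 := rfl
theorem F405443 : act 2 n197704 = n108713 := d2_1 D197704 (iv5 D108713) (iv2 F167964)
theorem F405444 : act 7 n197704 = n188077 := d13_2 F222731 D197704 F372262
theorem F405445 : act 4 n197704 = n187106 := d16_2 (iv4 F167965) D197704 (iv5 D187106) (iv4 F294640) F294641 F335381 F166324 (iv7 D50200) (iv2 F79437)
theorem F405446 : act 0 n197704 = n138778 := d17_2 F167966 D197704 (iv5 D138778) (iv4 D65166) F80934 (iv0 D34175) F26185 D25870 D53398
theorem F405447 : act 1 n197704 = n138781 := d17_6 (iv1 F167187) (iv5 F171635) (iv1 D110821) F80599 (iv4 F167965) D197704 (iv5 D138781) F167898 F167896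
def n197705 : Q := act 6 n108601
theorem D197705 : act 6 n108601 = n197705 := rfl
theorem F405448 : act 2 n197705 = n108717 := d3_1 D197705 (iv6 D108717) (iv2 F167973)
theorem F405449 : act 3 n197705 = n126689 := d7_1 D197705 (iv6 D126689) F167971
theorem F405450 : act 4 n197705 = n143933 := d10_1 D197705 F226577 (iv4 F167974)
theorem F405451 : act 0 n197705 = n134870 := d21_4 F78976 D51104 F167972 D197705 F217054 (iv5 F336154) (iv1 F364302) (iv5 F331028) (iv6 F171584) (iv1 D108105)
theorem F405452 : act 0 n134869 = n197705 := d21_4 (iv5 F203099) F203100 F202667 (iv6 F217052) (iv6 D197705) (iv5 F167972) (iv1 F171581) F171578 (iv6 F216799) (iv1 F216800)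
def n197706 : Q := act 0 n108603
theorem D197706 : act 0 n108603 = n197706 := rfl
theorem F405453 : act 5 n197706 = n108680 := d21_0 (iv1 F400507) F400504 (iv6 D106992) (iv1 F103626) D144313 (iv5 F401442) (iv1 D140531) (iv5 F336692) F173025 D197706
theorem F405454 : act 1 n108720 = n197706 := d15_0 (iv0 D197706) F167980 D108720
def n197707 : Q := act 1 n108603
theorem D197707 : act 1 n108603 = n197707 := rfl
theorem F405455 : act 1 n197707 = n108720 := d15_1 D197707 F345339 F345338
theorem F405456 : act 5 n108681 = n197707 := d21_0 (iv1 D197707) (iv5 F169064) F336702 (iv1 F339985) (iv6 F339931) F202869 F111245 D106994 (iv6 F400505) (iv1 F400509)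
def n197708 : Q := act 3 n108604
theorem D197708 : act 3 n108604 = n197708 := rfl
theorem F405457 : act 4 n197708 = n137269 := d5_2 (iv4 F359826) D197708 F351019 F346326 F346328
theorem F405458 : act 5 n197708 = n192700 := d6_2 F359825 D197708 F387527
theorem F405459 : act 7 n197708 = n108855 := d8_2 (iv7 F175552) D197708 (iv3 D108855)
theorem F405460 : act 6 n174155 = n197708 := d12_0 F405458 F387524 (iv5 D180533) F328760 (iv5 F272947)
def n197709 : Q := act 6 n108604
theorem D197709 : act 6 n108604 = n197709 := rfl
theorem F405461 : act 2 n197709 = n108863 := d3_1 D197709 (iv6 D108863) (iv2 F175551)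
theorem F405462 : act 3 n197709 = n174155 := d7_1 D197709 F405460 (iv3 D197708)
theorem F405463 : act 4 n197709 = n124476 := d10_1 D197709 F339276 (iv4 F359826)
theorem F405464 : act 7 n197709 = n177500 := d14_2 (iv7 F175552) D197709 (iv6 F361605) (iv7 F363995) (iv6 D108858)
theorem F405465 : act 1 n177499 = n197709 := d15_1 D177499 F405464 (iv2 D177500)
theorem F405466 : act 5 n174182 = n197709 := d17_3 (iv1 F353988) (iv5 F363323) F365844 F405463 F339278 F339265 (iv5 D163062) (iv0 D78406) D78409
theorem F405467 : act 0 n177498 = n197709 := d20_10 F405463 (iv1 F199105) D177517 F362030 D196497 (iv3 F400851) F168684 (iv1 F81427) D111883 (iv3 F351060)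
theorem F405468 : act 0 n174895 = n177512 := d20_10 (iv4 D177512) (iv1 F199103) (iv4 F405463) F405462 (iv1 F272949) (iv3 F346348) (iv4 D82903) D82901 (iv4 F128638) D174895
def n197710 : Q := act 5 n108606
theorem D197710 : act 5 n108606 = n197710 := rfl
theorem F405469 : act 2 n197710 = n108607 := d2_1 D197710 (iv5 D108607) D108606
theorem F405470 : act 3 n197710 = n108766 := d6_1 D197710 (iv5 D108766) (iv3 F167982)
theorem F405471 : act 7 n197710 = n108864 := d13_2 (iv7 F167983) D197710 (iv5 D108864)
theorem F405472 : act 0 n197710 = n108867 := d17_2 (iv1 F167984) D197710 F402875 D108992 F325257 (iv0 F336491) (iv5 D164015) (iv0 F345344) (iv4 D108856)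
theorem F405473 : act 1 n197710 = n108866 := d17_6 D108971 F330500 (iv1 F402995) F402993 (iv4 F341849) D197710 F362480 (iv0 D50323) (iv4 F79701)
def n197711 : Q := act 1 n108607
theorem D197711 : act 1 n108607 = n197711 := rfl
theorem F405474 : act 1 n197711 = n108864 := d15_1 D197711 (iv7 F405471) F405469
theorem F405475 : act 7 n197711 = n108867 := d15_2 (iv0 F373172) D197711 F402873
theorem F405476 : act 5 n197711 = n108627 := d17_7 F402865 F402861 F214320 F359829 F167935 D108607 D197711 F168508 (iv4 F168975)
theorem F405477 : act 3 n110153 = n197711 := d19_19 (iv1 D197711) (iv5 D108607) (iv4 F167935) (iv3 D108594) F79428 D52033 (iv4 F84052) (iv3 F179623) (iv1 F360845) F360847 (iv4 F181992) (iv3 D116623) (iv1 F102534) D116139 (iv4 F373044) F373043 F360061 D123948 F360048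
theorem F405478 : act 2 n108866 = n197711 := d2_3 F405476 F170033 (iv5 F362480)
def n197712 : Q := act 4 n108607
theorem D197712 : act 4 n108607 = n197712 := rfl
theorem F405479 : act 7 n197712 = n108868 := d11_2 (iv7 F167988) D197712 (iv4 D108868)
def n197713 : Q := act 6 n108607
theorem D197713 : act 6 n108607 = n197713 := rfl
theorem F405480 : act 3 n197713 = n108609 := d7_1 D197713 (iv6 D108609) (iv3 F167987)
theorem F405481 : act 7 n197713 = n197675 := d14_2 (iv7 F167988) D197713 (iv6 D197675) (iv7 F388634) (iv6 D108869)
def n197714 : Q := act 5 n108609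
theorem D197714 : act 5 n108609 = n197714 := rfl
theorem F405482 : act 2 n197714 = n108782 := d2_1 D197714 (iv5 D108782) (iv2 F167990)
theorem F405483 : act 6 n197714 = n108612 := d12_2 D108609 D197714 (iv5 D108612) (iv6 D50148) D50147
def n197715 : Q := act 7 n108609
theorem D197715 : act 7 n108609 = n197715 := rfl
theorem F405484 : act 2 n197715 = n108783 := d4_1 D197715 (iv7 D108783) (iv2 F167990)
theorem F405485 : act 3 n197715 = n197675 := d8_1 D197715 (iv7 F405481) F405480
theorem F405486 : act 6 n197715 = n108877 := d14_1 D197715 (iv7 D108877) (iv6 D50271) (iv7 F79445) D108609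
theorem F405487 : act 1 n108781 = n197715 := d15_1 D108781 (iv7 D197715) F167990
theorem F405488 : act 1 n197715 = n108780 := d15_1 F405487 F360125 F360100
def n197716 : Q := act 3 n108610
theorem D197716 : act 3 n108610 = n197716 := rfl
theorem F405489 : act 2 n197716 = n163954 := d0_1 D197716 F364308 (iv2 F327947) (iv3 D108785) (iv2 F170695)
theorem F405490 : act 4 n197716 = n109351 := d5_2 (iv4 F170696) D197716 (iv3 D109351) D109352 F169361
theorem F405491 : act 6 n197716 = n194145 := d7_2 F172607 D197716 (iv3 F392188)
theorem F405492 : act 7 n197716 = n108788 := d8_2 (iv7 F170697) D197716 (iv3 D108788)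
theorem F405493 : act 0 n197716 = n120286 := d20_4 F164674 D106859 (iv4 F170696) D197716 (iv3 D120286) (iv4 D55355) F42979 D35561 F326652 F168436
theorem F405494 : act 0 n163956 = n197716 := d20_1 (iv4 F258413) F405490 (iv3 D109351) (iv1 F169236) F326235 F326721 (iv1 F250131) (iv4 F370039) (iv3 F370042) (iv1 F254005)
def n197717 : Q := act 5 n108610
theorem D197717 : act 5 n108610 = n197717 := rfl
theorem F405495 : act 2 n197717 = n108786 := d2_1 D197717 (iv5 D108786) (iv2 F170695)
theorem F405496 : act 7 n197717 = n108790 := d13_2 (iv7 F170697) D197717 (iv5 D108790)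
theorem F405497 : act 0 n197717 = n111315 := d17_2 D108610 D197717 (iv5 D111315) F81027 F39163 (iv0 F164106) F47436 (iv0 F164117) (iv4 F79447)
theorem F405498 : act 1 n197717 = n111591 := d17_6 (iv1 F215927) F215924 (iv1 F167601) (iv5 F164675) (iv4 F170696) D197717 F173130 F172737 (iv4 F173226)
def n197718 : Q := act 5 n108611
theorem D197718 : act 5 n108611 = n197718 := rfl
theorem F405499 : act 2 n197718 = n108790 := d2_1 D197718 (iv5 D108790) (iv2 F170682)
theorem F405500 : act 7 n197718 = n108786 := d13_2 (iv7 F170683) D197718 (iv5 D108786)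
theorem F405501 : act 0 n197718 = n111591 := d17_2 (iv1 F167991) D197718 F173130 F81237 (iv5 F81248) (iv0 F81252) F79450 F79449 (iv4 F79578)
theorem F405502 : act 1 n197718 = n111315 := d17_6 (iv1 D111664) F81277 D60511 (iv5 F167997) F167996 D197718 (iv5 D111315) D111314 F173232
def n197719 : Q := act 4 n108612
theorem D197719 : act 4 n108612 = n197719 := rfl
theorem F405503 : act 2 n197719 = n108794 := d1_1 D197719 (iv4 D108794) (iv2 F168441)
def n197720 : Q := act 7 n108612
theorem D197720 : act 7 n108612 = n197720 := rfl
theorem F405504 : act 2 n197720 = n108795 := d4_1 D197720 (iv7 D108795) (iv2 F168441)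
theorem F405505 : act 3 n197720 = n124301 := d8_1 D197720 F254251 F363244
theorem F405506 : act 5 n197720 = n108613 := d13_1 D197720 (iv7 D108613) D108612
theorem F405507 : act 1 n108793 = n197720 := d15_1 D108793 (iv7 D197720) F168441
theorem F405508 : act 1 n197720 = n108792 := d15_1 F405507 F202538 (iv2 F202536)
theorem F405509 : act 6 n197720 = n124312 := d21_3 (iv5 D108786) (iv1 F168447) (iv5 F405506) (iv1 D124312) (iv6 D57950) (iv5 D27650) D27647 D57938 D124279 (iv1 F362790)
def n197721 : Q := act 5 n108614
theorem D197721 : act 5 n108614 = n197721 := rfl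
theorem F405510 : act 2 n197721 = n108802 := d2_1 D197721 (iv5 D108802) (iv2 F168473)
theorem F405511 : act 7 n197721 = n108798 := d13_2 (iv7 F168474) D197721 (iv5 D108798)
theorem F405512 : act 0 n197721 = n111671 := d17_2 (iv1 F173934) D197721 F173241 (iv4 F173235) F173236 F167600 F167594 F164682 (iv4 F173936)
theorem F405513 : act 1 n197721 = n111332 := d17_6 F163890 F39163 D29955 F79450 D108614 D197721 (iv5 D111332) F171523 (iv4 D50732)
def n197722 : Q := act 4 n108616
theorem D197722 : act 4 n108616 = n197722 := rfl
theorem F405514 : act 2 n197722 = n108763 := d1_1 D197722 (iv4 D108763) (iv2 F203757)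
theorem F405515 : act 7 n197722 = n108758 := d11_2 (iv7 F203758) D197722 (iv4 D108758)
theorem F405516 : act 0 n197722 = n185560 := d20_1 D197722 F287867 F253368 (iv1 F325550) (iv3 D51587) (iv4 D25058) (iv1 F19601) D24461 D50152 D108616
theorem F405517 : act 1 n126392 = n108758 := d15_1 (iv0 F203223) (iv7 F405515) F405514
theorem F405518 : act 1 n197722 = n180035 := d15_0 F366141 (iv7 F203761) (iv2 F405514)
def n197723 : Q := act 6 n108616
theorem D197723 : act 6 n108616 = n197723 := rfl
theorem F405519 : act 2 n197723 = n108765 := d3_1 D197723 (iv6 D108765) (iv2 F203757)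
theorem F405520 : act 3 n197723 = n140779 := d7_1 D197723 F350092 (iv3 F176748)
theorem F405521 : act 5 n197723 = n140774 := d12_1 D197723 (iv6 D140774) D140773 (iv6 F355984) (iv5 F219105)
theorem F405522 : act 0 n197653 = n197723 := d21_7 (iv5 F400488) (iv1 F400490) F363660 (iv6 F327347) (iv1 D108548) D108551 D197653 F405521 (iv6 D140774) (iv1 F168844)
def n197724 : Q := act 3 n108617
theorem D197724 : act 3 n108617 = n197724 := rfl
theorem F405523 : act 4 n197724 = n196506 := d5_2 F202065 D197724 F400885 (iv4 D125613) D125612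
theorem F405524 : act 7 n197724 = n108762 := d8_2 (iv7 F203760) D197724 (iv3 D108762)
theorem F405525 : act 6 n196505 = n197724 := d10_0 F405523 (iv6 D196506) D196505
def n197725 : Q := act 6 n108617
theorem D197725 : act 6 n108617 = n197725 := rfl
theorem F405526 : act 2 n197725 = n108760 := d3_1 D197725 (iv6 D108760) (iv2 F203759)
theorem F405527 : act 3 n197725 = n196505 := d7_1 D197725 F405525 (iv3 D197724)
def n197726 : Q := act 5 n108618
theorem D197726 : act 5 n108618 = n197726 := rfl
theorem F405528 : act 2 n197726 = n108619 := d2_1 D197726 (iv5 D108619) D108618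
theorem F405529 : act 3 n197726 = n108864 := d6_1 D197726 (iv5 D108864) (iv3 F168480)
theorem F405530 : act 7 n197726 = n108766 := d13_2 (iv7 F168481) D197726 (iv5 D108766)
theorem F405531 : act 0 n108768 = n197726 := d21_10 (iv5 D197726) (iv1 F168484) D108764 (iv6 F394332) (iv1 D137691) D137692 F350050 (iv1 F186218) (iv5 F237417) (iv6 F354398)
theorem F405532 : act 6 n178901 = n197726 := d21_5 (iv5 D64724) D64722 D137685 (iv6 F351891) (iv1 F278779) (iv5 D197726) (iv1 F168484) D108764 (iv6 F394332) (iv1 D137691)
theorem F405533 : act 1 n108769 = n197726 := d15_1 D108769 F405530 F168704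
def n197727 : Q := act 6 n108618
theorem D197727 : act 6 n108618 = n197727 := rfl
theorem F405534 : act 2 n197727 = n108620 := d3_1 D197727 (iv6 D108620) D108618
theorem F405535 : act 3 n197727 = n108865 := d7_1 D197727 (iv6 D108865) (iv3 F168480)
theorem F405536 : act 4 n197727 = n181236 := d10_1 D197727 F356039 F202149
theorem F405537 : act 5 n197727 = n178902 := d12_1 D197727 (iv6 D178902) D178901 F405532 (iv5 D197726)
theorem F405538 : act 0 n189796 = n197727 := d21_4 D51430 D111513 F219137 F377788 (iv6 D197727) D197726 (iv1 F405533) F354403 (iv6 F348804) (iv1 D51428)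
theorem F405539 : act 1 n177059 = n197727 := d15_0 (iv0 F405538) F377787 (iv2 F350061)
theorem F405540 : act 7 n181234 = n197727 := d13_0 F405537 (iv7 F324362) F324361
def n197728 : Q := act 0 n108619
theorem D197728 : act 0 n108619 = n197728 := rfl
theorem F405541 : act 5 n197728 = n108638 := d21_8 D111511 (iv1 F219138) (iv5 D111398) D111399 (iv1 F354279) (iv6 D108620) D108619 D197728 F348805 (iv1 F172717)
theorem F405542 : act 2 n108769 = n197728 := d15_3 (iv0 D197728) F355983 (iv7 F354402)
theorem F405543 : act 1 n108766 = n197728 := d15_0 (iv0 D197728) F168486 (iv2 F168704)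
theorem F405544 : act 7 n197728 = n108768 := d15_2 (iv0 F354405) F405543 (iv2 F354399)
theorem F405545 : act 4 n111352 = n197728 := d11_3 F405544 F354396 (iv7 F172798)
def n197729 : Q := act 4 n108619
theorem D197729 : act 4 n108619 = n197729 := rfl
theorem F405546 : act 7 n197729 = n108770 := d11_2 (iv7 F168486) D197729 (iv4 D108770)
theorem F405547 : act 5 n197729 = n125715 := d16_7 (iv4 D125710) (iv5 F355946) F355945 F93157 F93048 D108619 D197729 F204645 (iv2 F204653)
def n197730 : Q := act 6 n108619
theorem D197730 : act 6 n108619 = n197730 := rfl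
theorem F405548 : act 2 n197730 = n178901 := d3_1 D197730 F405532 F405528
theorem F405549 : act 3 n197730 = n108621 := d7_1 D197730 (iv6 D108621) (iv3 F168485)
theorem F405550 : act 5 n197730 = n124789 := d12_1 D197730 F306660 (iv5 F354280) (iv6 D108620) D108619
theorem F405551 : act 0 n156608 = n197730 := d21_4 (iv5 D137677) (iv1 F164760) D196323 F400331 (iv6 D197730) (iv5 D108619) D108616 F219105 F355984 F223866
theorem F405552 : act 1 n156615 = n197730 := d15_0 (iv0 F405551) (iv7 F314699) F314698
def n197731 : Q := act 7 n108620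
theorem D197731 : act 7 n108620 = n197731 := rfl
theorem F405553 : act 2 n197731 = n181234 := d4_1 D197731 F405540 F405534
theorem F405554 : act 3 n197731 = n108623 := d8_1 D197731 (iv7 D108623) (iv3 F168487)
theorem F405555 : act 4 n197731 = n181008 := d11_1 D197731 (iv7 F354277) F202155
theorem F405556 : act 5 n197731 = n181208 := d13_1 D197731 (iv7 D181208) (iv5 F354280)
theorem F405557 : act 6 n197731 = n108775 := d14_1 D197731 (iv7 D108775) (iv6 D50220) (iv7 F79458) D108620
theorem F405558 : act 1 n189796 = n197731 := d15_1 (iv0 F405538) (iv7 D197731) (iv2 F405534)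
theorem F405559 : act 1 n197731 = n177059 := d15_1 F405558 F350058 (iv2 F377785)
def n197732 : Q := act 5 n108621
theorem D197732 : act 5 n108621 = n197732 := rfl
theorem F405560 : act 2 n197732 = n108876 := d2_1 D197732 (iv5 D108876) (iv2 F168488)
theorem F405561 : act 3 n197732 = n124789 := d6_1 D197732 (iv5 F405550) F405549
theorem F405562 : act 6 n197732 = n108622 := d12_2 D108621 D197732 (iv5 D108622) (iv6 D50154) D50153
theorem F405563 : act 1 n197732 = n197406 := d17_8 D197422 F404202 (iv1 F359215) F359214 (iv4 F405281) F405282 (iv0 F371954) D197732 F404167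
theorem F405564 : act 4 n197732 = n178649 := d18_5 F351243 (iv4 F345285) F364227 F216777 D197732 F366519 F245024 D156307 (iv5 F350391)
theorem F405565 : act 0 n108622 = n178119 := d21_4 (iv5 D109206) (iv1 F364226) D197732 F405562 (iv6 D178119) (iv5 D84788) (iv1 F129977) (iv5 F304974) (iv6 F363359) F332969
theorem F405566 : act 2 n178649 = n156050 := d1_1 F405564 (iv4 F361298) (iv2 F405560)
def n197733 : Q := act 1 n108622
theorem D197733 : act 1 n108622 = n197733 := rfl
theorem F405567 : act 1 n197733 = n108886 := d15_1 D197733 (iv7 D108886) (iv2 F168489)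
theorem F405568 : act 7 n197733 = n108883 := d15_2 (iv0 F405565) D197733 (iv2 F363319)
theorem F405569 : act 5 n109013 = n197733 := d21_6 (iv5 F79673) (iv1 F79675) (iv5 D24543) D24544 D50329 D109013 (iv1 D197733) (iv5 D108622) (iv6 D50154) F49286
theorem F405570 : act 2 n108884 = n197733 := d4_3 F405568 (iv2 F363319) (iv7 F363320)
theorem F405571 : act 1 n108886 = n178119 := d15_1 F405567 (iv7 F363320) F405570
def n197734 : Q := act 4 n108622
theorem D197734 : act 4 n108622 = n197734 := rfl
theorem F405572 : act 2 n197734 = n108885 := d1_1 D197734 (iv4 D108885) (iv2 F168489)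
theorem F405573 : act 3 n197734 = n178651 := d5_1 D197734 F278460 F307600 D86532 (iv3 F354375)
theorem F405574 : act 6 n197734 = n178649 := d10_2 F405562 D197734 (iv4 F405564)
theorem F405575 : act 1 n197734 = n115332 := d18_6 (iv1 F101598) F81093 F39189 (iv4 F79462) D108622 D197734 F179625 (iv0 F351251) F223572
def n197735 : Q := act 7 n108622
theorem D197735 : act 7 n108622 = n197735 := rfl
theorem F405576 : act 2 n197735 = n108886 := d4_1 D197735 (iv7 D108886) (iv2 F168489)
theorem F405577 : act 3 n197735 = n181208 := d8_1 D197735 (iv7 D181208) (iv3 F354375)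
theorem F405578 : act 5 n197735 = n108623 := d13_1 D197735 (iv7 D108623) D108622
theorem F405579 : act 1 n108884 = n197735 := d15_1 D108884 (iv7 D197735) F168489
theorem F405580 : act 1 n197735 = n108883 := d15_1 F405579 (iv7 F405568) (iv2 F405570)
def n197736 : Q := act 3 n108624
theorem D197736 : act 3 n108624 = n197736 := rfl
theorem F405581 : act 6 n197736 = n110963 := d7_2 F172828 D197736 F364760
theorem F405582 : act 7 n197736 = n108890 := d8_2 (iv7 F168496) D197736 (iv3 D108890)
def n197737 : Q := act 5 n108624
theorem D197737 : act 5 n108624 = n197737 := rfl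
theorem F405583 : act 2 n197737 = n108889 := d2_1 D197737 (iv5 D108889) (iv2 F168495)
theorem F405584 : act 7 n197737 = n108891 := d13_2 (iv7 F168496) D197737 (iv5 D108891)
def n197738 : Q := act 3 n108626
theorem D197738 : act 3 n108626 = n197738 := rfl
theorem F405585 : act 2 n197738 = n110150 := d0_1 D197738 (iv3 D110150) (iv2 F170029) (iv3 D108991) (iv2 F170037)
theorem F405586 : act 5 n197738 = n188357 := d6_2 (iv5 F330527) D197738 F373171
theorem F405587 : act 7 n197738 = n108986 := d8_2 (iv7 F170038) D197738 (iv3 D108986)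
theorem F405588 : act 4 n197738 = n155955 := d20_6 (iv4 D11561) D11559 D24464 D50158 D108626 D197738 (iv1 D155955) F110929 (iv3 D50173) (iv1 D24469)
theorem F405589 : act 1 n170871 = n197738 := d18_6 F378330 F378328 F366414 (iv4 F320024) D190673 F380527 F405588 F244981 (iv5 F373095)
theorem F405590 : act 0 n188357 = n192678 := d18_0 F387453 F384997 (iv4 F384651) (iv5 D109042) D109041 (iv0 F380526) F380527 F405589 F405586
def n197739 : Q := act 6 n108626
theorem D197739 : act 6 n108626 = n197739 := rfl
theorem F405591 : act 2 n197739 = n108994 := d3_1 D197739 (iv6 D108994) (iv2 F170037)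
theorem F405592 : act 4 n197739 = n164564 := d10_1 D197739 (iv6 F341239) (iv4 F330497)
theorem F405593 : act 0 n109240 = n197739 := d21_4 D166444 F330681 D178522 F341265 (iv6 D197739) F330527 (iv1 F373173) (iv5 D108864) D108865 F353070
theorem F405594 : act 1 n193402 = n197739 := d15_0 (iv0 F405593) (iv7 F173468) (iv2 F389725)
def n197740 : Q := act 5 n108628
theorem D197740 : act 5 n108628 = n197740 := rfl
theorem F405595 : act 2 n197740 = n108629 := d2_1 D197740 (iv5 D108629) D108628
theorem F405596 : act 3 n197740 = n108931 := d6_1 D197740 (iv5 D108931) (iv3 F168505)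
theorem F405597 : act 4 n197740 = n126872 := d9_1 D197740 (iv5 D126872) (iv4 D59538) (iv5 D28267) (iv4 F45771) F330502 F79701 D50326 D108999 (iv5 F330980) F207354 F95307 (iv4 F203781) (iv5 F402869) F402868
theorem F405598 : act 7 n197740 = n108995 := d13_2 (iv7 F168506) D197740 (iv5 D108995)
theorem F405599 : act 0 n197740 = n108998 := d17_2 (iv1 F168507) D197740 (iv5 F352236) F325297 F320720 F100490 (iv5 F220482) (iv0 F325250) (iv4 D108987)
theorem F405600 : act 1 n197740 = n108997 := d17_6 (iv1 F359828) (iv5 D126855) (iv1 F203784) (iv5 F402869) F402868 D197740 F359825 (iv0 D108604) (iv4 F167935)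
def n197741 : Q := act 6 n108629
theorem D197741 : act 6 n108629 = n197741 := rfl
theorem F405601 : act 3 n197741 = n108631 := d7_1 D197741 (iv6 D108631) (iv3 F168510)
def n197742 : Q := act 5 n108630
theorem D197742 : act 5 n108630 = n197742 := rfl
theorem F405602 : act 3 n197742 = n108634 := d6_1 D197742 (iv5 D108634) (iv3 F168512)
theorem F405603 : act 0 n197742 = n193203 := d17_2 (iv1 F362471) D197742 F389169 (iv4 D173980) F303496 (iv0 F330207) (iv5 F331731) F331730 (iv4 F302225)
def n197743 : Q := act 0 n108631
theorem D197743 : act 0 n108631 = n197743 := rfl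
def n197744 : Q := act 1 n108631
theorem D197744 : act 1 n108631 = n197744 := rfl
theorem F405604 : act 1 n197744 = n108948 := d15_1 D197744 (iv7 D108948) (iv2 F168513)
def n197745 : Q := act 5 n108631
theorem D197745 : act 5 n108631 = n197745 := rfl
theorem F405605 : act 2 n197745 = n108947 := d2_1 D197745 (iv5 D108947) (iv2 F168513)
theorem F405606 : act 6 n197745 = n108634 := d12_2 D108631 D197745 (iv5 D108634) (iv6 D50160) D50159
def n197746 : Q := act 7 n108631
theorem D197746 : act 7 n108631 = n197746 := rfl
theorem F405607 : act 2 n197746 = n108948 := d4_1 D197746 (iv7 D108948) (iv2 F168513)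
theorem F405608 : act 6 n197746 = n109008 := d14_1 D197746 (iv7 D109008) (iv6 D50328) (iv7 F79476) D108631
theorem F405609 : act 1 n108948 = n197743 := d15_0 (iv0 D197743) D197746 F405607
theorem F405610 : act 1 n108946 = n197746 := d15_1 D108946 (iv7 D197746) F168513
theorem F405611 : act 1 n197746 = n108945 := d15_0 (iv0 D108945) D108948 (iv2 F405607)
def n197747 : Q := act 3 n108632
theorem D197747 : act 3 n108632 = n197747 := rfl
theorem F405612 : act 4 n197747 = n109735 := d5_2 F169057 D197747 (iv3 D109735) D109736 F169723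
theorem F405613 : act 6 n197747 = n124282 := d7_2 (iv6 F172732) D197747 (iv3 F365916)
theorem F405614 : act 7 n197747 = n108954 := d8_2 (iv7 F202507) D197747 (iv3 D108954)
theorem F405615 : act 0 n197747 = n170853 := d20_4 (iv4 F79730) D109059 F169057 D197747 F268460 F126255 F118759 D77863 F326044 F100841
def n197748 : Q := act 5 n108632
theorem D197748 : act 5 n108632 = n197748 := rfl
theorem F405616 : act 2 n197748 = n108951 := d2_1 D197748 (iv5 D108951) (iv2 F202506)
theorem F405617 : act 7 n197748 = n108956 := d13_2 (iv7 F202507) D197748 (iv5 D108956)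
def n197749 : Q := act 0 n108634
theorem D197749 : act 0 n108634 = n197749 := rfl
theorem F405618 : act 5 n197749 = n108851 := d17_3 (iv1 D108633) D108634 D197749 (iv4 D108851) (iv5 D50263) D50262 (iv5 F79731) F167071 (iv4 F168515)
theorem E103699 : n197744 = n141943 := ((c21_7 F405618 (iv1 F172834) D140681 (iv6 F358698) (iv1 F398750) D195930 (iv5 F398757) (iv1 D197744) D197745 F405606 D197749)).symm
theorem F405619 : act 0 n141943 = n108631 := (sb E103699 (iv1 D197744))
theorem F405620 : act 1 n141943 = n108948 := (sb E103699 F405604)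
theorem F405621 : act 2 n108958 = n197749 := d2_3 F405618 F168854 (iv5 F168958)
theorem F405622 : act 7 n108959 = n197749 := d13_0 F405618 (iv7 F168873) F168960
theorem F405623 : act 1 n108961 = n197749 := d17_6 (iv1 D30884) (iv5 D14624) D14622 (iv5 F49270) (iv4 F79683) (iv5 F168961) F405618 F168856 (iv4 D66009)
def n197750 : Q := act 1 n108634
theorem D197750 : act 1 n108634 = n197750 := rfl
theorem F405624 : act 1 n197750 = n108961 := d15_1 D197750 (iv7 D108961) (iv2 F168516)
theorem F405625 : act 7 n197750 = n108958 := d15_2 (iv0 D197749) D197750 F405621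
theorem F405626 : act 5 n197750 = n111383 := d17_7 F81085 F81081 (iv1 F49266) (iv5 F38413) (iv4 F79478) D108634 D197750 F172873 (iv4 D66005)
theorem F405627 : act 2 n108959 = n197750 := d2_3 F405626 F172869 F168960
def n197751 : Q := act 4 n108634
theorem D197751 : act 4 n108634 = n197751 := rfl
theorem F405628 : act 2 n197751 = n108960 := d1_1 D197751 (iv4 D108960) (iv2 F168516)
theorem F405629 : act 5 n197751 = n140671 := d16_1 D197751 (iv4 D140671) (iv5 D65999) (iv4 D30879) (iv5 F49270) (iv4 F79683) (iv5 F168961) (iv7 D108961) (iv2 F168516)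
theorem F405630 : act 0 n197751 = n140696 := d18_2 (iv1 D197750) D197751 (iv4 D140696) (iv5 D66014) (iv4 D30885) D30884 D66009 F172872 (iv5 F405626)
def n197752 : Q := act 7 n108634
theorem D197752 : act 7 n108634 = n197752 := rfl
theorem F405631 : act 2 n197752 = n108961 := d4_1 D197752 (iv7 D108961) (iv2 F168516)
theorem F405632 : act 5 n197752 = n108635 := d13_1 D197752 (iv7 D108635) D108634
theorem F405633 : act 1 n108959 = n197752 := d15_1 D108959 (iv7 D197752) F168516
theorem F405634 : act 1 n197752 = n108958 := d15_1 F405633 (iv7 F405625) (iv2 F405627)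
def n197753 : Q := act 5 n108640
theorem D197753 : act 5 n108640 = n197753 := rfl
theorem F405635 : act 2 n197753 = n108641 := d2_1 D197753 (iv5 D108641) D108640
theorem F405636 : act 3 n197753 = n108995 := d6_1 D197753 (iv5 D108995) (iv3 F168535)
theorem F405637 : act 7 n197753 = n108931 := d13_2 (iv7 F168537) D197753 (iv5 D108931)
theorem F405638 : act 1 n108934 = n197753 := d15_1 D108934 F405637 F168941
theorem F405639 : act 1 n197753 = n108933 := d15_1 F405638 (iv7 F219104) (iv2 F219109)
def n197754 : Q := act 6 n108640
theorem D197754 : act 6 n108640 = n197754 := rfl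
theorem F405640 : act 2 n197754 = n108642 := d3_1 D197754 (iv6 D108642) D108640
theorem F405641 : act 3 n197754 = n108996 := d7_1 D197754 (iv6 D108996) (iv3 F168535)
theorem F405642 : act 4 n197754 = n125832 := d10_1 D197754 (iv6 D125832) (iv4 F168536)
def n197755 : Q := act 4 n108641
theorem D197755 : act 4 n108641 = n197755 := rfl
theorem F405643 : act 3 n197755 = n111513 := d5_1 D197755 F219132 F100596 F98536 (iv3 F168541)
theorem F405644 : act 7 n197755 = n108935 := d11_2 (iv7 F168542) D197755 (iv4 D108935)
theorem F405645 : act 5 n197755 = n125618 := d16_5 F202066 (iv5 D58925) (iv4 F79486) D108641 D197755 (iv4 D125618) D125619 (iv7 F360428) F360424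
theorem F405646 : act 1 n197755 = n111516 := d18_8 F173038 F173218 (iv1 D111653) (iv4 D51491) D51492 (iv4 F168702) F386119 D197755 F341351
def n197756 : Q := act 6 n108641
theorem D197756 : act 6 n108641 = n197756 := rfl
theorem F405647 : act 3 n197756 = n108643 := d7_1 D197756 (iv6 D108643) (iv3 F168541)
theorem F405648 : act 5 n127823 = n197756 := d21_8 (iv5 D108759) (iv1 F168482) D197726 (iv6 F405532) F341163 F340012 F178379 D127823 (iv6 D197756) (iv1 F386119)
theorem F405649 : act 0 n151241 = n197756 := d20_4 (iv4 D60015) (iv1 F77741) (iv4 F107778) D151241 F405647 (iv4 F216743) F371626 F371625 F362684 F163119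
def n197757 : Q := act 0 n108642
theorem D197757 : act 0 n108642 = n197757 := rfl
theorem F405650 : act 4 n197757 = n157753 := d20_0 (iv1 D157753) (iv4 F132332) (iv3 D86342) F60814 F326830 (iv4 D51817) (iv1 F168274) (iv4 F79491) (iv3 F168543) D197757
theorem F405651 : act 3 n170857 = n197757 := d20_5 (iv4 D35311) D35310 (iv4 F58391) D81910 D170857 F405650 (iv1 D157753) (iv4 F132332) (iv3 D86342) F60814
def n197758 : Q := act 1 n108642
theorem D197758 : act 1 n108642 = n197758 := rfl
theorem F405652 : act 4 n197758 = n157752 := d18_7 D195005 F395376 F360392 F360390 (iv5 D125838) (iv4 F168544) D197758 (iv0 D157752) (iv5 F160971)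
def n197759 : Q := act 5 n108642
theorem D197759 : act 5 n108642 = n197759 := rfl
theorem F405653 : act 3 n197759 = n108646 := d6_1 D197759 (iv5 D108646) (iv3 F168543)
theorem F405654 : act 6 n197759 = n127823 := d12_2 D108642 D197759 F405648 (iv6 D197756) (iv5 D108641)
theorem F405655 : act 4 n197759 = n184104 := d16_6 (iv4 F377811) F377812 F360390 (iv5 D125838) (iv4 F168544) D197759 F286051 (iv7 D183477) F295059
theorem F405656 : act 7 n197759 = n184101 := d16_8 F286573 (iv5 F294759) (iv4 F377811) F377812 F360390 (iv5 D125838) (iv4 F168544) D197759 (iv2 F286572)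
theorem F405657 : act 0 n197759 = n194675 := d18_0 (iv4 D194675) (iv1 D103987) (iv4 F159434) F332729 F132332 D157753 (iv4 F405650) (iv0 D197757) D197759
theorem F405658 : act 0 n194671 = n197759 := d18_2 D103986 D194671 F405655 F286051 F399464 F399462 (iv4 D182776) (iv0 D87246) (iv5 F75625)
def n197760 : Q := act 7 n108642
theorem D197760 : act 7 n108642 = n197760 := rfl
theorem F405659 : act 3 n197760 = n108647 := d8_1 D197760 (iv7 D108647) (iv3 F168543)
theorem F405660 : act 4 n197760 = n125839 := d11_1 D197760 (iv7 D125839) (iv4 F168544)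
theorem F405661 : act 5 n197760 = n184101 := d13_1 D197760 (iv7 F405656) (iv5 D197759)
theorem F405662 : act 6 n197760 = n108940 := d14_1 D197760 (iv7 D108940) (iv6 D50296) (iv7 F79487) D108642
def n197761 : Q := act 1 n108643
theorem D197761 : act 1 n108643 = n197761 := rfl
theorem F405663 : act 1 n197761 = n109008 := d15_1 D197761 (iv7 D109008) (iv2 F168545)
theorem F405664 : act 7 n197761 = n109005 := d15_2 (iv0 F360600) D197761 (iv2 F351298)
theorem F405665 : act 4 n197761 = n188418 := d17_9 (iv1 F373408) D196289 F400236 (iv5 F362343) F164796 (iv5 F79289) D108496 F343108 D197761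
theorem F405666 : act 2 n109006 = n197761 := d1_3 F405665 (iv2 F373407) (iv4 F351285)
theorem F405667 : act 3 n197761 = n187884 := d0_2 F351291 F405666 (iv2 D187884) (iv3 D90637) (iv2 F138911)
def n197762 : Q := act 6 n108644
theorem D197762 : act 6 n108644 = n197762 := rfl
theorem F405668 : act 2 n197762 = n109013 := d3_1 D197762 (iv6 D109013) (iv2 F171887)
theorem F405669 : act 3 n197762 = n180178 := d7_1 D197762 F328390 (iv3 F327422)
theorem F405670 : act 4 n197762 = n144359 := d10_1 D197762 F327424 (iv4 F327423)
theorem F405671 : act 5 n197762 = n108884 := d21_6 D50214 F79570 (iv5 D50165) D50166 D108644 D197762 (iv1 D108884) (iv5 D50274) (iv6 D24519) (iv1 F38450)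
theorem F405672 : act 0 n197762 = n109242 := d21_10 (iv5 F341264) F341267 (iv5 D111389) (iv6 D51373) (iv1 D24975) D24978 D51384 D111421 F172901 D197762
theorem F405673 : act 0 n138644 = n197762 := d21_4 (iv5 F336714) D65932 D140478 F336736 (iv6 D197762) (iv5 F172901) (iv1 F343100) (iv5 F343102) F172618 (iv1 F94231)
def n197763 : Q := act 3 n108645
theorem D197763 : act 3 n108645 = n197763 := rfl
theorem F405674 : act 2 n197763 = n170849 := d0_1 D197763 F268457 (iv2 F256583) F327438 (iv2 F171918)
theorem F405675 : act 7 n197763 = n109010 := d8_2 (iv7 F171920) D197763 (iv3 D109010)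
theorem F405676 : act 0 n197763 = n110217 := d20_4 (iv4 F216958) (iv1 F216961) (iv4 F171919) D197763 F170386 F80190 (iv1 F326996) D36476 F326223 (iv1 F168602)
theorem F405677 : act 1 n197763 = n170851 := d15_0 F281452 F281450 (iv2 F405674)
def n197764 : Q := act 6 n108648
theorem D197764 : act 6 n108648 = n197764 := rfl
theorem F405678 : act 2 n197764 = n109023 := d3_1 D197764 (iv6 D109023) (iv2 F168556)
theorem F405679 : act 4 n197764 = n108649 := d10_1 D197764 (iv6 D108649) D108648
theorem F405680 : act 5 n197764 = n140418 := d12_1 D197764 F351309 D140498 F360782 F360786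
theorem F405681 : act 7 n197764 = n139391 := d14_2 (iv7 F168557) D197764 F222604 F172713 F81219
theorem F405682 : act 0 n197764 = n109228 := d21_4 (iv5 F336676) F360785 F360786 D197764 (iv6 D109228) D109227 F337407 F337405 (iv6 D111428) (iv1 F171656)
def n197765 : Q := act 3 n108650
theorem D197765 : act 3 n108650 = n197765 := rfl
theorem F405683 : act 7 n197765 = n109074 := d8_2 (iv7 F352257) D197765 (iv3 D109074)
theorem F405684 : act 4 n197765 = n108972 := d20_6 (iv4 F38515) (iv1 F24599) (iv4 F38418) D50170 D108650 D197765 (iv1 D108972) F79701 (iv3 D24542) (iv1 F38514)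
theorem F405685 : act 6 n110953 = n197765 := d10_0 F405684 (iv6 F362662) F368586
theorem F405686 : act 1 n108673 = n197765 := d18_6 (iv1 F203783) F165194 (iv1 D30382) (iv4 F48817) D64539 (iv4 F330495) F405684 F402872 F402869
def n197766 : Q := act 4 n108650
theorem D197766 : act 4 n108650 = n197766 := rfl
theorem F405687 : act 2 n197766 = n109080 := d1_1 D197766 (iv4 D109080) (iv2 F352256)
theorem F405688 : act 7 n197766 = n109075 := d11_2 (iv7 F352257) D197766 (iv4 D109075)
theorem F405689 : act 0 n110138 = n197766 := d20_10 (iv4 D197766) (iv1 F168567) (iv4 F161176) F161175 (iv1 F161163) (iv3 F170482) F170483 (iv1 D50791) D50793 D110138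
theorem F405690 : act 1 n126254 = n197766 := d15_0 (iv0 F405689) F170293 D126254
def n197767 : Q := act 6 n108650
theorem D197767 : act 6 n108650 = n197767 := rfl
theorem F405691 : act 2 n197767 = n109082 := d3_1 D197767 (iv6 D109082) (iv2 F352256)
theorem F405692 : act 3 n197767 = n110953 := d7_1 D197767 F405685 (iv3 D197765)
theorem F405693 : act 5 n197767 = n110951 := d12_1 D197767 F368597 F294324 D184116 (iv5 F345102)
theorem F405694 : act 0 n109226 = n197767 := d20_4 F172678 (iv1 F166187) F93168 D109226 F405692 (iv4 F368586) (iv1 F339368) (iv4 F339367) (iv3 D111776) (iv1 F172681)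
def n197768 : Q := act 5 n108651
theorem D197768 : act 5 n108651 = n197768 := rfl
theorem F405695 : act 2 n197768 = n109076 := d2_1 D197768 (iv5 D109076) (iv2 F352259)
theorem F405696 : act 7 n197768 = n109081 := d13_2 (iv7 F352260) D197768 (iv5 D109081)
theorem F405697 : act 0 n197768 = n108685 := d17_2 (iv1 F168572) D197768 F168615 F82769 (iv5 F82757) (iv0 F204622) (iv5 D113423) F161180 F161176
theorem F405698 : act 6 n197768 = n194714 := d21_3 (iv5 D109083) (iv1 F168572) D197768 (iv1 F394212) (iv6 D115773) (iv5 D53384) D53381 (iv5 F180883) (iv6 F352249) (iv1 F358908)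
theorem F405699 : act 4 n188396 = n197768 := d10_3 F405698 F394211 (iv6 F373288)
theorem F405700 : act 0 n192757 = n157475 := d20_4 (iv4 F371957) (iv1 F388741) (iv4 D192758) D192757 (iv3 F373286) F405699 F405697 (iv4 F345614) (iv3 F345617) (iv1 F372450)
theorem F405701 : act 1 n197768 = n109193 := d15_0 (iv0 F345104) (iv7 F352258) (iv2 F405695)
def n197769 : Q := act 5 n108652
theorem D197769 : act 5 n108652 = n197769 := rfl
theorem F405702 : act 2 n197769 = n108653 := d2_1 D197769 (iv5 D108653) D108652
theorem F405703 : act 3 n197769 = n109045 := d6_1 D197769 (iv5 D109045) (iv3 F168568)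
theorem F405704 : act 7 n197769 = n109083 := d13_2 (iv7 F168570) D197769 (iv5 D109083)
theorem F405705 : act 1 n197769 = n109085 := d17_6 D52426 D113582 (iv1 F176745) (iv5 D113425) (iv4 F168569) D197769 F358906 (iv0 D113573) F82769
theorem F405706 : act 0 n197769 = n109086 := d21_1 D197769 (iv5 F203751) (iv6 F345108) F363684 (iv6 F362488) F171698 (iv1 F354459) (iv5 D111642) F363306 (iv1 F168571)
def n197770 : Q := act 4 n108653
theorem D197770 : act 4 n108653 = n197770 := rfl
theorem F405707 : act 3 n197770 = n141823 := d5_1 D197770 (iv4 D141823) F102377 (iv4 F79506) (iv3 F168574)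
theorem F405708 : act 6 n197770 = n188412 := d10_2 (iv6 F331134) D197770 (iv4 F373367)
theorem F405709 : act 7 n197770 = n109087 := d11_2 (iv7 F168575) D197770 (iv4 D109087)
theorem F405710 : act 5 n197770 = n126773 := d16_1 D197770 F354174 F348508 (iv4 F395643) (iv5 D195067) F161176 D109083 (iv7 F405704) F405702
theorem F405711 : act 0 n110856 = n197770 := d20_4 (iv4 F81266) (iv1 F81269) (iv4 F80635) (iv3 F171711) F405707 (iv4 D141823) D141821 (iv4 F224837) F171786 F80654
def n197771 : Q := act 0 n108654
theorem D197771 : act 0 n108654 = n197771 := rfl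
theorem F405712 : act 5 n197771 = n142747 := d17_1 D197771 F322338 (iv5 F276667) (iv4 F276668) (iv5 D84485) F300171 (iv5 F331146) (iv0 D113431) (iv4 F168577)
theorem F405713 : act 4 n197771 = n177334 := d18_3 (iv1 D113432) (iv4 F168577) D197771 (iv5 D177334) (iv4 D84481) F59990 D38978 F300169 (iv5 F331150)
def n197772 : Q := act 1 n108654
theorem D197772 : act 1 n108654 = n197772 := rfl
theorem F405714 : act 5 n197772 = n142748 := d17_7 F322074 (iv5 F322205) F117077 (iv5 F306671) (iv4 F241577) F331135 D197772 F322340 (iv4 D84503)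
theorem F405715 : act 4 n197772 = n177332 := d17_9 (iv1 F325524) F325526 (iv1 F297490) (iv5 F129715) (iv4 F276354) (iv5 D176988) (iv0 F308518) F331135 D197772
theorem F405716 : act 3 n124450 = n197772 := d20_5 (iv4 D58034) (iv1 D27676) D27677 D58038 D124450 F405715 (iv1 F325524) (iv4 F358846) F170310 (iv1 F326983)
def n197773 : Q := act 0 n108655
theorem D197773 : act 0 n108655 = n197773 := rfl
theorem F405717 : act 6 n197773 = n138762 := d21_5 (iv5 D24471) D24468 D50171 D108655 D197773 F221899 D156306 F350387 (iv6 D108688) (iv1 D50182)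
theorem F405718 : act 5 n197773 = n140627 := d21_0 (iv1 F363141) F363143 F337453 (iv1 D108690) (iv6 D50183) (iv5 D24471) D24468 D50171 D108655 D197773
theorem F405719 : act 2 n109065 = n197773 := d15_3 (iv0 D197773) (iv0 F331114) F351239
theorem F405720 : act 1 n109068 = n197773 := d15_0 (iv0 D197773) (iv7 F331090) (iv2 F331081)
theorem F405721 : act 7 n197773 = n109066 := d15_2 F331116 F405720 (iv2 F331097)
theorem F405722 : act 3 n197773 = n138763 := d0_2 F351238 F405719 F221901 (iv3 F398723) F398722
def n197774 : Q := act 1 n108656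
theorem D197774 : act 1 n108656 = n197774 := rfl
theorem F405723 : act 1 n197774 = n109072 := d15_1 D197774 (iv7 D109072) (iv2 F168580)
theorem F405724 : act 7 n197774 = n109069 := d15_2 (iv0 F168581) D197774 (iv2 F169073)
theorem F405725 : act 5 n197774 = n111368 := d17_7 (iv1 F175461) F168858 (iv1 F93312) (iv5 D59136) (iv4 F79508) D108656 D197774 F172830 (iv4 F175460)
theorem F405726 : act 3 n195934 = n197774 := d20_3 F172034 F163702 D195934 (iv1 D197774) F331112 F241577 (iv1 F308513) (iv4 F299634) F364417 (iv1 F204580)
theorem F405727 : act 2 n197774 = n109070 := d0_1 F405726 (iv3 F365959) F255962 (iv3 F353083) (iv2 F398763)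
theorem F405728 : act 4 n197774 = n140659 := d16_0 (iv5 D140659) (iv4 D65995) (iv5 D30876) F24300 D14624 D30885 D66014 (iv7 F169074) (iv2 F405727)
theorem F405729 : act 3 n140659 = n144723 := d5_1 F405728 F227562 (iv3 F222748) D195934 F405726
theorem F405730 : act 0 n140659 = n197751 := d18_2 (iv1 F405723) F405728 (iv4 D197751) (iv5 D108634) F79478 D50162 D108636 F168526 (iv5 F169076)
theorem E103700 : n195526 = n140658 := (c6_3 D140659 F405729 (iv5 F397222) (iv3 D140658))
theorem F405731 : act 0 n140658 = n197248 := (sb E103700 (iv1 F403727))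
theorem F405732 : act 1 n140658 = n105650 := (sb E103700 (iv0 D195526))
theorem F405733 : act 2 n140658 = n197442 := (sb E103700 F404332)
theorem F405734 : act 5 n140658 = n144723 := (sb E103700 F397222)
theorem F405735 : act 7 n140658 = n197441 := (sb E103700 F404329)
theorem F405736 : act 6 n195466 = n140659 := d7_0 F405729 (iv6 F227563) (iv3 F397071)
theorem F405737 : act 5 n140629 = n196593 := d12_3 F405736 (iv5 D140659) (iv6 F223729) (iv6 D196593) F401187
theorem F405738 : act 5 n140656 = n197365 := d21_8 (iv5 F220005) D136781 F397083 (iv6 D195469) D195466 F405736 (iv5 D140659) D140656 (iv6 D197365) (iv1 F220003)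
theorem F405739 : act 5 n196704 = n140657 := d21_6 (iv5 D196705) (iv1 F165280) D195463 (iv6 F397069) (iv1 F165279) D196704 (iv1 D140657) D140659 (iv6 F405736) (iv1 F401548)
theorem F405740 : act 3 n197441 = n140660 := d8_1 F405735 (iv7 D140660) D140658
def n197775 : Q := act 4 n108656
theorem D197775 : act 4 n108656 = n197775 := rfl
theorem F405741 : act 2 n197775 = n109071 := d1_1 D197775 (iv4 D109071) (iv2 F168580)
theorem F405742 : act 5 n197775 = n140638 := d16_1 D197775 (iv4 D140638) (iv5 D65989) D65988 (iv5 F169060) F169059 (iv5 F169076) (iv7 D109072) (iv2 F168580)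
def n197776 : Q := act 2 n108658
theorem D197776 : act 2 n108658 = n197776 := rfl
theorem F405743 : act 7 n108659 = n197776 := d15_2 (iv0 D108658) D108659 (iv2 D197776)
def n197777 : Q := act 3 n108658
theorem D197777 : act 3 n108658 = n197777 := rfl
theorem F405744 : act 4 n197777 = n108905 := d20_6 (iv4 F38809) (iv1 F48109) (iv4 F48114) D50173 D108658 D197777 (iv1 D108905) F79664 (iv3 D24530) D24528
theorem F405745 : act 2 n109132 = n197777 := d1_3 F405744 F397278 (iv4 F169122)
theorem F405746 : act 6 n113339 = n197777 := d10_0 F405744 F397279 D113339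
theorem F405747 : act 7 n109035 = n197777 := d11_0 F405744 F397280 (iv4 F169043)
theorem F405748 : act 0 n109134 = n197777 := d20_10 F405744 (iv1 D108905) F79664 (iv3 D24530) D24528 D50289 (iv4 F80430) (iv1 F321441) (iv4 F280915) F358864
theorem F405749 : act 0 n197777 = n109105 := d20_1 (iv4 F405744) F169974 (iv3 D59056) D59054 D126035 F202737 (iv1 F360215) (iv4 F360213) F176378 (iv1 F168915)
theorem E103701 : n109039 = n108658 := ((c8_2 F405747 (iv3 D197777) (iv7 D109039) D109035)).symm
theorem E103702 : n197776 = n50346 := ((D197776).symm.trans (sb E103701 F169044))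
theorem F405750 : act 6 n108658 = n111326 := (sb E103701 (iv6 F378715))
theorem F405751 : act 7 n108658 = n50345 := (sb E103701 (iv7 D109039))
theorem F405752 : act 2 n50346 = n108658 := (sb E103702 (iv2 D197776))
theorem E103703 : n109034 = n108659 := ((F169042).symm.trans (sb E103702 (iv7 F405743)))
theorem F405753 : act 2 n108659 = n50345 := (sb E103703 (iv2 D109034))
theorem F405754 : act 7 n108659 = n50346 := (sb E103703 (iv7 F169042))
theorem E103704 : n109133 = n109035 := (c15_2 (iv0 D109132) D109133 F405747 (iv2 F405745))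
theorem F405755 : act 0 n109035 = n50376 := (sb E103704 (iv1 D109133))
theorem E103705 : n125848 = n125828 := (c20_5 (iv4 D110008) (iv1 F170446) F170447 D58934 D125848 (iv3 D125828) (iv4 F169043) F405755 D109135 (iv3 F169964) (iv1 F170140))
theorem F405756 : act 1 n125828 = n58934 := (sb E103705 (iv0 D125848))
def n197778 : Q := act 4 n108658
theorem D197778 : act 4 n108658 = n197778 := rfl
theorem F405757 : act 2 n197778 = n109041 := d1_1 D197778 (iv4 D109041) F405752
theorem F405758 : act 7 n197778 = n109036 := d11_2 (iv7 F405751) D197778 (iv4 D109036)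
theorem F405759 : act 0 n197778 = n189856 := d17_0 (iv5 D189856) F348020 D95461 D189922 (iv5 F378261) F372495 (iv5 D109045) F168587 D197778
theorem F405760 : act 1 n197778 = n189919 := d18_8 (iv1 F378002) (iv4 F378004) (iv1 D188334) D188335 F373095 (iv4 D109044) F168587 D197778 (iv5 D189919)
theorem F405761 : act 5 n192842 = n197778 := d17_5 D186862 (iv5 F368338) (iv1 F140267) (iv5 F368787) (iv4 F387991) F405760 (iv5 D189919) (iv0 D95459) (iv4 F307587)
def n197779 : Q := act 5 n108658
theorem D197779 : act 5 n108658 = n197779 := rfl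
theorem F405762 : act 2 n197779 = n109042 := d2_1 D197779 (iv5 D109042) F405752
theorem F405763 : act 7 n197779 = n109037 := d13_2 (iv7 F405751) D197779 (iv5 D109037)
theorem F405764 : act 1 n197779 = n108687 := d17_8 (iv1 D188347) (iv5 D91226) (iv1 F139112) (iv5 F370880) F370879 (iv5 D109045) F168587 D197779 F373149
theorem F405765 : act 0 n197779 = n109184 := d18_0 F373138 (iv1 F373136) D188357 (iv5 F405586) F405588 F244981 (iv4 D109044) F168587 D197779
def n197780 : Q := act 3 n108659
theorem D197780 : act 3 n108659 = n197780 := rfl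
theorem F405766 : act 7 n197780 = n109040 := d8_2 (iv7 F405754) D197780 (iv3 D109040)
def n197781 : Q := act 4 n108659
theorem D197781 : act 4 n108659 = n197781 := rfl
theorem F405767 : act 2 n197781 = n109036 := d1_1 D197781 (iv4 D109036) (iv2 F405753)
theorem F405768 : act 7 n197781 = n109041 := d11_2 (iv7 F405754) D197781 (iv4 D109041)
theorem F405769 : act 0 n197781 = n189919 := d17_0 (iv5 D189919) (iv1 F378002) F378007 (iv4 F400140) F400135 (iv0 D188150) F331085 D108659 D197781
theorem F405770 : act 1 n197781 = n189856 := d18_8 F348020 (iv4 F307587) D186862 F368335 (iv5 D155957) F110929 D108659 D197781 (iv5 D189856)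
theorem F405771 : act 3 n197781 = n112087 := d20_3 (iv4 D109044) (iv1 F168591) D197781 (iv1 F337329) F337331 F80035 (iv1 F39488) D51728 D112157 (iv1 F174395)
theorem F405772 : act 0 n108668 = n197780 := d20_4 F400766 F173422 (iv4 D108669) D108668 (iv3 D197780) D197781 F405769 (iv4 F387536) F387534 (iv1 F400768)
theorem F405773 : act 4 n197780 = n142440 := d5_2 (iv4 D197781) D197780 F356966 (iv4 F378724) (iv3 F405771)
theorem F405774 : act 2 n142506 = n197780 := d1_3 F405773 F225349 D142506
theorem F405775 : act 6 n194986 = n197780 := d10_0 F405773 (iv6 F356967) D194986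
theorem F405776 : act 6 n194987 = n197781 := d7_0 F405771 (iv6 F378722) D194987
def n197782 : Q := act 5 n108659
theorem D197782 : act 5 n108659 = n197782 := rfl
theorem F405777 : act 2 n197782 = n109037 := d2_1 D197782 (iv5 D109037) (iv2 F405753)
theorem F405778 : act 7 n197782 = n109042 := d13_2 (iv7 F405754) D197782 (iv5 D109042)
theorem F405779 : act 1 n197782 = n109184 := d17_8 (iv1 F373136) (iv5 D91231) (iv1 D42705) (iv5 F66418) (iv4 F139922) F331085 D108659 D197782 F373138
theorem F405780 : act 6 n197782 = n194593 := d21_3 (iv5 D109045) (iv1 F168591) D197782 (iv1 F393779) (iv6 D180791) (iv5 D86348) D86345 (iv5 F258034) (iv6 F372491) (iv1 F372492)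
theorem F405781 : act 0 n197782 = n108687 := d21_10 F168619 D140348 F378262 (iv6 F370875) (iv1 F400208) (iv6 F400210) (iv5 F373451) F373453 (iv5 F393776) (iv6 F405780)
def n197783 : Q := act 6 n108659
theorem D197783 : act 6 n108659 = n197783 := rfl
theorem F405782 : act 2 n197783 = n109038 := d3_1 D197783 (iv6 D109038) (iv2 F405753)
theorem F405783 : act 3 n197783 = n194986 := d7_1 D197783 F405775 (iv3 D197780)
theorem F405784 : act 4 n197783 = n194987 := d10_1 D197783 F405776 (iv4 D197781)
def n197784 : Q := act 0 n108662
theorem D197784 : act 0 n108662 = n197784 := rfl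
def n197785 : Q := act 1 n108662
theorem D197785 : act 1 n108662 = n197785 := rfl
theorem F405785 : act 3 n176821 = n197785 := d19_19 (iv1 D197785) (iv5 F370799) F370798 F362825 (iv1 F147749) (iv5 F283442) (iv4 D182036) (iv3 F294857) (iv1 D91021) (iv5 D42635) (iv4 F66451) (iv3 D42621) F291179 D20986 (iv4 F291043) D84331 (iv1 F382066) (iv5 D176822) D176821
theorem F405786 : act 4 n174237 = n197785 := d20_0 (iv1 D197785) (iv4 F244991) F244990 (iv1 F169930) (iv3 F327091) (iv4 D78673) D78670 F122821 D166704 F362541
theorem F405787 : act 6 n174139 = n197785 := d21_3 F273812 (iv1 F128641) D174139 (iv1 D197785) (iv6 D108662) (iv5 F331085) D188150 (iv5 F400135) (iv6 F400139) (iv1 F273814)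
def n197786 : Q := act 7 n108662
theorem D197786 : act 7 n108662 = n197786 := rfl
theorem F405788 : act 3 n197786 = n108665 := d8_1 D197786 (iv7 D108665) (iv3 F168595)
theorem F405789 : act 6 n197786 = n109058 := d14_1 D197786 (iv7 D109058) (iv6 D50350) (iv7 F79509) D108662
def n197787 : Q := act 3 n108667
theorem D197787 : act 3 n108667 = n197787 := rfl
theorem F405790 : act 4 n197787 = n137318 := d5_2 (iv4 F400739) D197787 (iv3 F360746) F360744 (iv3 F400741)
theorem F405791 : act 7 n197787 = n108673 := d8_2 F168607 D197787 (iv3 D108673)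
theorem F405792 : act 0 n109074 = n197787 := d20_4 F170312 F176632 (iv4 D109075) D109074 (iv3 D197787) F400739 (iv1 D196456) (iv4 F164952) F361198 F176607
theorem F405793 : act 6 n160544 = n197787 := d10_0 F405790 F331732 D160544
def n197788 : Q := act 5 n108667
theorem D197788 : act 5 n108667 = n197788 := rfl
theorem F405794 : act 2 n197788 = n108670 := d2_1 D197788 (iv5 D108670) D108667
theorem F405795 : act 7 n197788 = n108675 := d13_2 F168607 D197788 (iv5 D108675)
theorem F405796 : act 0 n197788 = n109061 := d18_0 F363672 (iv1 D71285) (iv4 F107779) (iv5 F363666) (iv4 F361211) F361210 F81054 (iv0 F356737) D197788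
theorem F405797 : act 6 n197788 = n157177 := d21_3 (iv5 D108679) (iv1 F356738) D197788 F247360 D196745 F401666 (iv1 F245639) (iv5 F364953) (iv6 F400499) (iv1 F400500)
theorem F405798 : act 4 n127810 = n197788 := d10_3 F405797 (iv4 F350592) (iv6 F205614)
theorem F405799 : act 1 n197788 = n151253 := d15_0 F363679 F356734 (iv2 F405794)
def n197789 : Q := act 6 n108667
theorem D197789 : act 6 n108667 = n197789 := rfl
theorem F405800 : act 2 n197789 = n108671 := d3_1 D197789 (iv6 D108671) D108667
theorem F405801 : act 3 n197789 = n160544 := d7_1 D197789 F405793 (iv3 D197787)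
theorem F405802 : act 5 n197789 = n157178 := d12_1 D197789 (iv6 D157178) D157177 (iv6 F405797) (iv5 D197788)
theorem F405803 : act 7 n197789 = n196877 := d14_2 F168607 D197789 F402124 F363334 (iv6 D108676)
theorem F405804 : act 0 n197789 = n108962 := d21_10 F351077 (iv1 F80838) D110966 (iv6 F400860) F400863 (iv6 F400856) F363678 (iv1 F405799) (iv5 D197788) D197789
theorem F405805 : act 1 n197789 = n111119 := d15_1 (iv0 F405804) F172325 (iv2 F351076)
def n197790 : Q := act 1 n108668
theorem D197790 : act 1 n108668 = n197790 := rfl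
theorem F405806 : act 7 n197790 = n142506 := d15_2 (iv0 F405772) D197790 F405774
theorem F405807 : act 3 n109132 = n197790 := d20_3 F79486 D58922 (iv4 F169122) (iv1 D197790) (iv3 D108668) D108669 (iv1 F348799) F171975 (iv3 F348800) (iv1 D108639)
theorem F405808 : act 2 n197790 = n109040 := d0_1 F405807 (iv3 D109040) F405752 D197777 (iv2 F405745)
theorem F405809 : act 4 n197790 = n142507 := d5_2 (iv4 F169122) F405807 F349588 (iv4 F219306) (iv3 D125824)
def n197791 : Q := act 2 n108668
theorem D197791 : act 2 n108668 = n197791 := rfl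
theorem F405810 : act 4 n197791 = n112231 := d1_2 (iv4 F169699) D197791 F361865
theorem F405811 : act 1 n142506 = n197791 := d18_6 F361860 (iv4 D66836) (iv1 D31147) (iv4 F49494) D66809 D142506 F405810 (iv0 D112231) (iv5 F174117)
theorem F405812 : act 0 n109040 = n197791 := d20_10 F405810 (iv1 F174557) (iv4 F223514) F223513 (iv1 F216949) F358639 (iv4 F380527) F380526 (iv4 D109041) D109040
def n197792 : Q := act 5 n108668
theorem D197792 : act 5 n108668 = n197792 := rfl
theorem F405813 : act 3 n197792 = n108670 := d6_1 D197792 (iv5 D108670) D108668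
theorem F405814 : act 6 n196743 = n197792 := d7_0 F405813 F356736 D196743
def n197793 : Q := act 6 n108668
theorem D197793 : act 6 n108668 = n197793 := rfl
theorem F405815 : act 3 n197793 = n108671 := d7_1 D197793 (iv6 D108671) D108668
def n197794 : Q := act 7 n108668
theorem D197794 : act 7 n108668 = n197794 := rfl
theorem F405816 : act 3 n197794 = n108672 := d8_1 D197794 (iv7 D108672) D108668
theorem F405817 : act 4 n197794 = n112232 := d11_1 D197794 (iv7 F361866) (iv4 F169699)
theorem F405818 : act 1 n109040 = n197794 := d15_1 (iv0 F405812) (iv7 D197794) D197791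
theorem F405819 : act 1 n197794 = n142506 := d15_1 F405818 (iv7 F405806) F405808
def n197795 : Q := act 3 n108669
theorem D197795 : act 3 n108669 = n197795 := rfl
def n197796 : Q := act 5 n108669
theorem D197796 : act 5 n108669 = n197796 := rfl
def n197797 : Q := act 6 n108669
theorem D197797 : act 6 n108669 = n197797 := rfl
theorem F405820 : act 4 n197797 = n108671 := d10_1 D197797 (iv6 D108671) D108669
theorem F405821 : act 1 n196856 = n197797 := d17_8 (iv1 F400617) (iv5 D107412) F165539 (iv5 F172010) (iv4 F346368) (iv5 F346365) (iv0 F400882) (iv5 F402049) F405820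
theorem F405822 : act 0 n196858 = n197797 := d18_0 F405820 (iv1 F400617) (iv4 F351073) (iv5 F351074) (iv4 F351067) F172331 (iv4 F346368) (iv0 F400873) (iv5 F402050)
def n197798 : Q := act 0 n108670
theorem D197798 : act 0 n108670 = n197798 := rfl
theorem F405823 : act 4 n197798 = n114388 := d18_1 D197798 (iv1 D114388) (iv4 F178414) F363667 (iv4 D111341) F170397 F330492 F330488 D108670
theorem F405824 : act 2 n109061 = n197798 := d15_3 (iv0 D197798) (iv0 F400870) (iv7 F169065)
theorem F405825 : act 1 n108675 = n197798 := d15_0 (iv0 D197798) (iv7 F356734) (iv2 F356725)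
theorem F405826 : act 7 n197798 = n151253 := d15_2 (iv0 F356724) F405825 F363670
theorem F405827 : act 6 n140524 = n197798 := d21_3 F331455 (iv1 F180113) D140524 (iv1 F405825) F356727 F94498 (iv1 F83516) (iv5 D52865) (iv6 F83501) D114509
theorem F405828 : act 3 n197798 = n109122 := d7_1 F405827 F345331 F224959

end Cfsg.Agent.Helper17.ONTC
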