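import Cfsg.Agent.Helper17.ONTC.Facts48

set_option autoImplicit false
set_option linter.all false

noncomputable section

namespace Cfsg.Agent.Helper17.ONTC

theorem F405829 : act 5 n197798 = n178127 := d12_1 F405827 (iv6 D178127) (iv5 F345330) (iv6 D140525) D140524
def n197799 : Q := act 0 n108673
theorem D197799 : act 0 n108673 = n197799 := rfl
theorem F405830 : act 4 n197799 = n108971 := d18_3 (iv1 D137316) (iv4 F330495) D197799 F330500 F166245 D133326 F214326 F402988 F402986
theorem F405831 : act 2 n109074 = n197799 := d15_3 (iv0 D197799) F405686 F405683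
theorem F405832 : act 3 n197799 = n109110 := d0_2 D109074 F405831 (iv2 F366135) F366133 F352259
def n197800 : Q := act 5 n108673
theorem D197800 : act 5 n108673 = n197800 := rfl
theorem F405833 : act 3 n197800 = n108675 := d6_1 D197800 (iv5 D108675) D108673
theorem F405834 : act 4 n197800 = n129483 := d16_2 (iv4 F330495) D197800 (iv5 D129483) F162110 (iv5 F100466) F100465 (iv5 F204204) (iv7 D126952) (iv2 F100485)
theorem F405835 : act 6 n127806 = n197800 := d10_0 F405834 F362933 F251170
def n197801 : Q := act 6 n108673
theorem D197801 : act 6 n108673 = n197801 := rfl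
theorem F405836 : act 3 n197801 = n108676 := d7_1 D197801 (iv6 D108676) D108673
theorem F405837 : act 4 n197801 = n120978 := d10_1 D197801 F338716 (iv4 F330495)
theorem F405838 : act 5 n197801 = n192755 := d12_1 D197801 (iv6 D192755) F365259 F405835 (iv5 D197800)
theorem F405839 : act 1 n180787 = n197801 := d17_6 (iv1 D91126) (iv5 D42673) D42670 D91116 D188246 F372819 F405838 (iv0 F387678) (iv4 D188263)
def n197802 : Q := act 5 n108674
theorem D197802 : act 5 n108674 = n197802 := rfl
def n197803 : Q := act 6 n108674
theorem D197803 : act 6 n108674 = n197803 := rfl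
theorem F405840 : act 4 n197803 = n108676 := d10_1 D197803 (iv6 D108676) D108674
def n197804 : Q := act 4 n108679
theorem D197804 : act 4 n108679 = n197804 := rfl
theorem F405841 : act 2 n197804 = n108682 := d1_1 D197804 (iv4 D108682) (iv2 F168611)
theorem F405842 : act 5 n197804 = n146180 := d17_5 F339986 (iv5 F356733) F356731 D108679 D197804 (iv0 D146180) F104748 D71285 (iv4 F363672)
def n197805 : Q := act 6 n108679
theorem D197805 : act 6 n108679 = n197805 := rfl
theorem F405843 : act 2 n197805 = n108683 := d3_1 D197805 (iv6 D108683) (iv2 F168611)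
theorem F405844 : act 3 n197805 = n109158 := d7_1 D197805 (iv6 D109158) (iv3 F168612)
theorem F405845 : act 5 n197805 = n179864 := d12_1 D197805 F364122 (iv5 D111346) F81051 D108679
theorem F405846 : act 7 n197805 = n179712 := d14_2 F400506 D197805 F371921 F371917 (iv6 F400505)
def n197806 : Q := act 2 n108680
theorem D197806 : act 2 n108680 = n197806 := rfl
theorem F405847 : act 7 n108681 = n197806 := d15_2 (iv0 D108680) D108681 (iv2 D197806)
def n197807 : Q := act 3 n108680
theorem D197807 : act 3 n108680 = n197807 := rfl
def n197808 : Q := act 4 n108680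
theorem D197808 : act 4 n108680 = n197808 := rfl
def n197809 : Q := act 6 n108680
theorem D197809 : act 6 n108680 = n197809 := rfl
def n197810 : Q := act 7 n108680
theorem D197810 : act 7 n108680 = n197810 := rfl
theorem F405848 : act 2 n197810 = n108681 := d4_1 D197810 F405847 (iv2 D197806)
def n197811 : Q := act 3 n108681
theorem D197811 : act 3 n108681 = n197811 := rfl
theorem F405849 : act 4 n129484 = n197811 := d20_2 (iv4 D129486) D129484 (iv3 D197811) (iv1 D108681) F79515 (iv4 F78126) (iv1 F98558) (iv4 F98562) (iv3 F167987) F373172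
def n197812 : Q := act 4 n108681
theorem D197812 : act 4 n108681 = n197812 := rfl
def n197813 : Q := act 6 n108681
theorem D197813 : act 6 n108681 = n197813 := rfl
theorem F405850 : act 0 n197813 = n114535 := d21_4 (iv5 F363678) (iv1 F405455) (iv5 F405456) D197813 (iv6 D114535) F83519 (iv1 F83364) F83363 D114342 (iv1 F363679)
theorem F405851 : act 5 n197813 = n138457 := d21_6 F202869 F111245 D106994 (iv6 F400505) (iv1 F400509) D197813 (iv1 F245638) (iv5 F401142) (iv6 D196582) (iv1 F202867)
theorem F405852 : act 0 n134810 = n197813 := d21_4 (iv5 F331556) (iv1 F180860) (iv5 F223724) F351261 (iv6 D197813) F405456 (iv1 D197707) (iv5 F169064) F336702 (iv1 F339985)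
theorem F405853 : act 4 n197813 = n127827 := d20_2 (iv4 F351259) F405852 (iv3 F399597) (iv1 D115078) (iv3 F179182) F333554 (iv1 F357928) D192668 (iv3 F387425) (iv1 F248611)
theorem F405854 : act 2 n134861 = n197813 := d1_3 F405853 (iv2 F395868) F351257
theorem F405855 : act 6 n127827 = n197812 := d10_2 D197813 F405853 (iv4 D197812)
theorem F405856 : act 7 n134860 = n197813 := d11_0 F405853 F395867 (iv4 F364997)
theorem E103706 : n197810 = n196372 := (c3_4 F400499 F405854 (iv6 D197813) (iv2 F405848))
theorem F405857 : act 2 n196372 = n108681 := (sb E103706 F405848)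
theorem F405858 : act 7 n196372 = n108680 := (sb E103706 (iv7 D197810))
theorem F405859 : act 7 n197706 = n108718 := d13_2 F405858 (iv5 F405453) F400501
theorem E103707 : n197806 = n196373 := (c15_4 F400508 F400500 F405858 D197806)
theorem F405860 : act 2 n196373 = n108680 := (sb E103707 (iv2 D197806))
theorem F405861 : act 7 n196373 = n108681 := (sb E103707 (iv7 F405847))
theorem F405862 : act 7 n197707 = n108719 := d13_2 F405861 F405456 F400502
theorem F405863 : act 2 n108719 = n197706 := d15_3 (iv0 D197706) D197707 F405862
theorem F405864 : act 2 n197707 = n108718 := d4_1 (iv7 F405862) (iv7 F405859) (iv2 F405863)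
theorem F405865 : act 5 n130548 = n113041 := d17_1 D130548 (iv1 F176104) (iv5 D112889) (iv4 F98680) (iv5 F331542) (iv0 F405850) F405851 (iv0 D138457) F100842
def n197814 : Q := act 0 n108682
theorem D197814 : act 0 n108682 = n197814 := rfl
def n197815 : Q := act 1 n108682
theorem D197815 : act 1 n108682 = n197815 := rfl
theorem F405866 : act 3 n147970 = n197815 := d20_3 (iv4 F184380) F184381 D147970 (iv1 D197815) (iv3 F370739) F370740 (iv1 F371887) (iv4 F387852) F387855 (iv1 F231793)
def n197816 : Q := act 5 n108682
theorem D197816 : act 5 n108682 = n197816 := rfl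
theorem F405867 : act 2 n197816 = n146180 := d2_1 D197816 (iv5 F405842) F405841
theorem F405868 : act 3 n197816 = n185795 := d6_1 D197816 (iv5 F370741) F370739
theorem F405869 : act 7 n197816 = n146181 := d13_2 (iv7 F370736) D197816 F370734
theorem F405870 : act 1 n197816 = n113734 := d17_6 (iv1 F405825) (iv5 D108675) (iv1 D50177) D50179 D108682 D197816 F176969 D114388 (iv4 F405823)
theorem F405871 : act 0 n197816 = n146182 := d21_7 F335531 F401680 (iv5 F401692) (iv6 F401694) (iv1 F398942) F371948 D197816 F229455 (iv6 F178409) (iv1 F205653)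
theorem F405872 : act 5 n197814 = n135588 := d21_2 (iv5 D197816) D197814 (iv6 D135588) (iv1 F322884) F82947 (iv5 D25498) F40305 D52512 D113734 (iv1 F405870)
theorem F405873 : act 3 n135595 = n197814 := d6_3 F405872 F218049 D135595
theorem F405874 : act 6 n135591 = n197814 := d12_0 F405872 (iv6 D135588) (iv5 D63756) D63757 D135591
theorem F405875 : act 0 n135588 = n151254 := d17_2 D197814 F405872 (iv5 D151254) D151253 (iv5 F363678) F405454 F405453 (iv0 D108680) D108682
theorem F405876 : act 3 n195157 = n146180 := d0_4 F405868 (iv2 F288352) (iv3 F363977) F396014 (iv2 F405867)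
def n197817 : Q := act 0 n108683
theorem D197817 : act 0 n108683 = n197817 := rfl
theorem F405877 : act 4 n197817 = n127787 := d18_3 (iv1 F398942) F371947 D197817 F205545 F364642 F165954 F362908 F164411 D195979
theorem F405878 : act 6 n197817 = n114509 := d21_5 (iv5 D108675) (iv1 D50177) D50179 D108683 D197817 F331455 (iv1 F180113) D140524 F405827 (iv1 F405825)
theorem F405879 : act 1 n179712 = n197817 := d15_0 (iv0 D197817) (iv7 F371939) F371936
def n197818 : Q := act 2 n108685
theorem D197818 : act 2 n108685 = n197818 := rfl
theorem F405880 : act 3 n197818 = n109184 := d0_2 D108685 D197818 (iv2 D109184) (iv3 D50389) F79519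
theorem F405881 : act 4 n197818 = n188404 := d1_2 F345614 D197818 (iv2 F373329)
theorem F405882 : act 5 n197818 = n113575 := d2_2 (iv5 F168615) D197818 (iv2 D113575)
theorem F405883 : act 7 n197818 = n109193 := d4_2 (iv7 F168616) D197818 (iv2 D109193)
theorem F405884 : act 1 n197818 = n109076 := d15_0 F373318 (iv7 F168616) D197818
theorem F405885 : act 1 n109081 = n197818 := d15_0 F405884 F352258 (iv2 F352253)
def n197819 : Q := act 6 n108685
theorem D197819 : act 6 n108685 = n197819 := rfl
theorem F405886 : act 3 n197819 = n108686 := d7_1 D197819 (iv6 D108686) D108685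
def n197820 : Q := act 5 n108686
theorem D197820 : act 5 n108686 = n197820 := rfl
theorem F405887 : act 2 n197820 = n109189 := d2_1 D197820 (iv5 D109189) (iv2 F168617)
theorem F405888 : act 6 n197820 = n113577 := d12_2 D108686 D197820 (iv5 D113577) (iv6 D52422) (iv5 F79517)
theorem F405889 : act 1 n197820 = n141944 := d17_6 (iv1 F331095) F331096 F342494 (iv5 D140376) (iv4 F168618) D197820 (iv5 D141944) F224859 (iv4 F331088)
theorem F405890 : act 0 n197820 = n141939 := d21_1 D197820 (iv5 D141939) D141940 F367938 (iv6 D86166) (iv5 D39881) D39878 D86156 D180395 F363336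
def n197821 : Q := act 7 n108686
theorem D197821 : act 7 n108686 = n197821 := rfl
theorem F405891 : act 2 n197821 = n109190 := d4_1 D197821 (iv7 D109190) (iv2 F168617)
theorem F405892 : act 4 n197821 = n140377 := d11_1 D197821 (iv7 D140377) (iv4 F168618)
theorem F405893 : act 6 n197821 = n109199 := d14_1 D197821 (iv7 D109199) (iv6 D50392) F79520 D108686
theorem F405894 : act 1 n109188 = n197821 := d15_1 D109188 (iv7 D197821) F168617
theorem F405895 : act 1 n197821 = n109187 := d15_1 F405894 (iv7 F363346) (iv2 F363339)
theorem F405896 : act 0 n141948 = n121274 := d18_2 (iv1 D141947) D141948 (iv4 F258396) F360116 (iv4 D140624) F223486 (iv4 F405892) F405895 (iv5 F363351)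
def n197822 : Q := act 3 n108690
theorem D197822 : act 3 n108690 = n197822 := rfl
theorem F405897 : act 2 n197822 = n193660 := d0_1 D197822 F390603 F351236 (iv3 D109214) (iv2 F351218)
theorem F405898 : act 7 n197822 = n109209 := d8_2 F351222 D197822 (iv3 D109209)
theorem F405899 : act 4 n136520 = n197822 := d19_2 D99792 (iv5 F352825) (iv3 D197822) (iv1 D108690) (iv5 F81064) (iv4 F171825) F332960 (iv1 F100016) (iv5 D30250) (iv4 F45108) F45106 F22630 (iv5 D11463) F8117 F5450 F10768 D13970 D29368 F329011
def n197823 : Q := act 5 n108690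
theorem D197823 : act 5 n108690 = n197823 := rfl
theorem F405900 : act 2 n197823 = n109216 := d2_1 D197823 (iv5 D109216) (iv2 F351218)
theorem F405901 : act 6 n197823 = n140710 := d12_2 F337453 D197823 F401622 (iv6 D196732) F363143
theorem F405902 : act 7 n197823 = n109211 := d13_2 F351222 D197823 (iv5 D109211)
theorem F405903 : act 0 n197823 = n135925 := d18_0 (iv4 D135925) D135923 F400481 (iv5 D196365) F164790 (iv0 F364229) F164798 D108690 D197823
theorem F405904 : act 1 n115784 = n135925 := d15_0 (iv0 F405903) F405902 (iv2 F351228)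
theorem F405905 : act 7 n189013 = n140710 := d14_4 F405902 F351227 F362357 D189013 (iv6 F405901)
theorem F405906 : act 3 n140710 = n189017 := d8_1 F405905 (iv7 D189017) (iv3 F375413)
def n197824 : Q := act 0 n108693
theorem D197824 : act 0 n108693 = n197824 := rfl
theorem F405907 : act 5 n197824 = n125565 := d17_1 D197824 (iv1 F202400) F202398 F201966 F163213 F163225 (iv5 F377922) (iv0 D113243) (iv4 F168629)
theorem F405908 : act 6 n125565 = n125634 := d21_3 F202322 D197824 F405907 (iv1 D125634) (iv6 D58821) (iv5 D27968) D27965 D58810 D125602 F366359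
theorem F405909 : act 1 n125588 = n197824 := d15_0 (iv0 D197824) F168630 D125588
theorem F405910 : act 6 n196250 = n197824 := d21_5 (iv5 D28780) (iv1 F37720) D49355 D106817 D196250 F405907 (iv1 F202400) F202398 F343589 (iv1 F95211)
def n197825 : Q := act 1 n108693
theorem D197825 : act 1 n108693 = n197825 := rfl
def n197826 : Q := act 2 n108693
theorem D197826 : act 2 n108693 = n197826 := rfl
theorem F405911 : act 3 n197826 = n109398 := d0_2 D108693 D197826 F169384 F79834 F79533
theorem F405912 : act 4 n197826 = n113245 := d1_2 (iv4 F168629) D197826 (iv2 D113245)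
theorem F405913 : act 7 n197826 = n125588 := d4_2 (iv7 F168630) D197826 (iv2 D125588)
theorem F405914 : act 1 n197826 = n125586 := d15_0 (iv0 D125586) (iv7 F168630) D197826
theorem F405915 : act 1 n197825 = n125588 := d15_1 D197825 (iv7 F405913) (iv2 D197826)
theorem F405916 : act 5 n125566 = n197825 := d17_7 (iv1 F176441) F361400 (iv1 D106221) (iv5 D49083) (iv4 F45173) D58788 D125566 F405915 F202018
theorem F405917 : act 1 n125587 = n197826 := d15_1 D125587 F405913 (iv2 D125588)
theorem F405918 : act 5 n125914 = n125587 := d17_7 (iv1 F176442) F395220 (iv1 D106107) (iv5 F77469) (iv4 F92937) (iv5 F93159) D125914 F405917 F405912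
theorem F405919 : act 6 n125587 = n135695 := d21_3 D125564 (iv1 F202401) F405918 (iv1 F362864) F202093 F343667 (iv1 F381088) (iv5 D190791) F361389 F342907
theorem F405920 : act 2 n197824 = n125587 := d3_3 F405919 F400058 F405910
theorem F405921 : act 2 n125914 = n125565 := d2_3 (iv5 F405907) F405920 (iv5 F405918)
theorem F405922 : act 7 n125586 = n197824 := d15_2 F405917 F405914 F405920
theorem F405923 : act 7 n197825 = n125587 := d15_2 (iv0 D197824) D197825 (iv2 F405920)
theorem F405924 : act 2 n125586 = n197825 := d4_3 F405923 (iv2 F405920) (iv7 F405922)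
theorem F405925 : act 7 n125914 = n125566 := d13_2 F405923 (iv5 F405918) F405916
theorem F405926 : act 2 n125566 = n125913 := d15_3 (iv0 D125913) D125914 F405925
theorem F405927 : act 7 n125565 = n125913 := d4_2 (iv7 F405925) F405921 (iv2 F405926)
def n197827 : Q := act 2 n108694
theorem D197827 : act 2 n108694 = n197827 := rfl
theorem F405928 : act 7 n108695 = n197827 := d15_2 (iv0 D108694) D108695 (iv2 D197827)
def n197828 : Q := act 4 n108694
theorem D197828 : act 4 n108694 = n197828 := rfl
theorem F405929 : act 0 n160408 = n197828 := d20_10 (iv4 D197828) (iv1 F202151) F202149 F168480 (iv1 F167985) F325296 F129981 F297627 (iv4 F115511) (iv3 F253368)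
def n197829 : Q := act 7 n108694
theorem D197829 : act 7 n108694 = n197829 := rfl
theorem F405930 : act 2 n197829 = n108695 := d4_1 D197829 F405928 (iv2 D197827)
def n197830 : Q := act 3 n108695
theorem D197830 : act 3 n108695 = n197830 := rfl
def n197831 : Q := act 4 n108695
theorem D197831 : act 4 n108695 = n197831 := rfl
theorem F405931 : act 0 n197831 = n160408 := d20_1 D197831 (iv4 F287867) F287866 F135384 (iv3 F257226) F257227 D162963 F341859 (iv3 F202148) (iv1 F202153)
theorem F405932 : act 3 n197831 = n140348 := d20_3 (iv4 F202149) (iv1 F202153) D197831 (iv1 F400144) F400141 F176728 (iv1 F94218) (iv4 F168701) (iv3 D108757) (iv1 F168482)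
theorem F405933 : act 0 n125911 = n197830 := d20_4 F119524 D78316 (iv4 F325554) (iv3 F356044) (iv3 D197830) D197831 F405931 (iv4 F287867) F287866 F135384
theorem F405934 : act 4 n197830 = n190585 := d5_2 (iv4 D197831) D197830 F380218 F378232 (iv3 F405932)
theorem F405935 : act 2 n190596 = n197830 := d1_3 F405934 F380217 D190596
theorem F405936 : act 6 n190587 = n197830 := d10_0 F405934 F380219 D190587
theorem F405937 : act 6 n108695 = n195051 := d7_2 F405936 (iv3 D197830) (iv3 F395579)
def n197832 : Q := act 5 n108696
theorem D197832 : act 5 n108696 = n197832 := rfl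
theorem F405938 : act 2 n197832 = n108697 := d2_1 D197832 (iv5 D108697) D108696
theorem F405939 : act 3 n197832 = n125898 := d6_1 D197832 F202387 F202006
theorem F405940 : act 7 n197832 = n125882 := d13_2 F202150 D197832 F356041
theorem F405941 : act 4 n197832 = n125716 := d16_2 (iv4 F168631) D197832 (iv5 D125716) D125715 (iv5 F405547) (iv4 D197729) (iv5 D108619) F79458 D50218
theorem F405942 : act 1 n197832 = n125825 := d17_6 D108638 (iv5 F405541) (iv1 F405543) (iv5 D108766) (iv4 F168631) D197832 (iv5 D125825) (iv0 D58922) (iv4 F79486)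
theorem E103708 : n125716 = n125624 := ((c18_7 (iv1 F168914) F168912 (iv1 F168539) (iv4 F202203) F202205 (iv4 D125625) D125624 (iv4 F405941) F405942 (iv5 D125825))).symm
theorem F405943 : act 4 n125624 = n197832 := (sb E103708 (iv4 F405941))
theorem F405944 : act 5 n125624 = n58866 := (sb E103708 (iv5 D125716))
theorem F405945 : act 5 n125627 = n185733 := d21_0 (iv1 F395665) (iv5 F395647) (iv6 D195068) (iv1 F161180) (iv6 F343544) (iv5 F405944) (iv1 D125624) (iv5 D58818) D58819 D125627
theorem F405946 : act 3 n185557 = n125627 := d6_3 F405945 (iv3 F382585) F382583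
theorem F405947 : act 6 n113590 = n125627 := d12_0 F405945 (iv6 F380991) F380993 D196225 (iv5 F399974)
theorem F405948 : act 0 n197832 = n125829 := d17_0 (iv5 D125829) (iv1 D58923) D58925 (iv4 F202066) (iv5 D125614) (iv0 D58815) D58818 D125624 F405943
def n197833 : Q := act 0 n108697
theorem D197833 : act 0 n108697 = n197833 := rfl
theorem F405949 : act 1 n125882 = n197833 := d15_0 (iv0 D197833) F168633 (iv2 F356040)
theorem F405950 : act 5 n197833 = n108904 := d17_7 D50292 (iv5 F354397) F405531 (iv5 D197726) (iv4 F202149) (iv5 F356041) F405949 (iv0 D108904) F79664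
theorem F405951 : act 2 n125829 = n197833 := d2_3 F405950 F397276 D125829
theorem F405952 : act 7 n125825 = n197833 := d13_0 F405950 F397277 D125825
def n197834 : Q := act 1 n108697
theorem D197834 : act 1 n108697 = n197834 := rfl
theorem F405953 : act 1 n197834 = n125882 := d15_1 D197834 (iv7 F405940) F405938
theorem F405954 : act 7 n197834 = n125829 := d15_2 (iv0 D197833) D197834 F405951
theorem F405955 : act 5 n197834 = n108905 := d17_7 (iv1 F168540) (iv5 F354403) (iv1 D108769) (iv5 D50219) (iv4 F79534) D108697 D197834 F168915 (iv4 F168536)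
theorem F405956 : act 2 n125825 = n197834 := d2_3 F405955 F397278 D125825
def n197835 : Q := act 4 n108697
theorem D197835 : act 4 n108697 = n197835 := rfl
theorem F405957 : act 2 n197835 = n125624 := d1_1 D197835 F405943 F405938
theorem F405958 : act 7 n197835 = n125623 := d11_2 (iv7 F168633) D197835 F355945
theorem F405959 : act 5 n197835 = n111652 := d16_7 (iv4 F173218) F173037 (iv4 D108770) (iv5 D50219) (iv4 F79534) D108697 D197835 F204639 (iv2 F204643)
theorem F405960 : act 0 n197835 = n125621 := d17_0 (iv5 D125621) (iv1 F201908) (iv5 F360426) F360425 (iv5 D125831) F168910 (iv5 F405950) (iv0 D197833) D197835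
theorem F405961 : act 1 n197835 = n125533 := d15_1 (iv0 F405960) F201911 (iv2 F202070)
def n197836 : Q := act 6 n108697
theorem D197836 : act 6 n108697 = n197836 := rfl
theorem F405962 : act 3 n197836 = n108699 := d7_1 D197836 (iv6 D108699) (iv3 F168632)
theorem F405963 : act 7 n197836 = n125879 := d14_2 (iv7 F168633) D197836 (iv6 D125879) (iv7 F202369) F356043
def n197837 : Q := act 0 n108698
theorem D197837 : act 0 n108698 = n197837 := rfl
theorem F405964 : act 4 n197837 = n160404 := d18_1 D197837 (iv1 F253360) (iv4 F341825) (iv5 F358445) F150263 D97481 D191261 F382794 F382529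
theorem F405965 : act 1 n181235 = n197837 := d15_0 (iv0 D197837) F382525 F382522
def n197838 : Q := act 1 n108698
theorem D197838 : act 1 n108698 = n197838 := rfl
theorem F405966 : act 1 n197838 = n181235 := d15_1 D197838 (iv7 F356038) F341841
theorem F405967 : act 4 n197838 = n160405 := d17_9 (iv1 D160405) D160407 (iv1 F381520) (iv5 F379022) (iv4 F358047) (iv5 F382791) F382794 F382529 D197838
theorem F405968 : act 5 n158062 = n197838 := d18_4 (iv1 F382588) F341830 (iv1 D158061) D158062 F405967 F253364 (iv4 F341825) F341822 (iv5 F382583)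
theorem F405969 : act 3 n181694 = n197838 := d20_5 (iv4 D20252) F30313 D40214 D86719 D181694 F405967 (iv1 D160405) (iv4 F135380) (iv3 D88391) F63589
def n197839 : Q := act 0 n108699
theorem D197839 : act 0 n108699 = n197839 := rfl
def n197840 : Q := act 1 n108699
theorem D197840 : act 1 n108699 = n197840 := rfl
theorem F405970 : act 1 n197840 = n125904 := d15_1 D197840 (iv7 D125904) (iv2 F168636)
def n197841 : Q := act 7 n108699
theorem D197841 : act 7 n108699 = n197841 := rfl
theorem F405971 : act 2 n197841 = n125904 := d4_1 D197841 (iv7 D125904) (iv2 F168636)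
theorem F405972 : act 3 n197841 = n125879 := d8_1 D197841 (iv7 F405963) F405962
theorem F405973 : act 5 n197841 = n132138 := d13_1 D197841 F399411 (iv5 F399410)
theorem F405974 : act 6 n197841 = n125877 := d14_1 D197841 F356046 (iv6 D58953) (iv7 F79536) D108699
theorem F405975 : act 1 n125904 = n197839 := d15_0 (iv0 D197839) D197841 F405971
theorem F405976 : act 1 n125902 = n197841 := d15_1 D125902 (iv7 D197841) F168636
theorem F405977 : act 4 n125910 = n125902 := d18_7 (iv1 D132138) F96582 D106470 (iv4 F342969) (iv5 D125635) (iv4 F93158) D125910 F405976 F405973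
theorem F405978 : act 0 n125901 = n197841 := d21_10 F405973 (iv1 D132138) D132139 F211661 D195959 (iv6 F398860) (iv5 F349557) (iv1 D125523) D125525 (iv6 F349551)
def n197842 : Q := act 7 n108705
theorem D197842 : act 7 n108705 = n197842 := rfl
theorem F405979 : act 2 n197842 = n116977 := d4_1 D197842 (iv7 D116977) (iv2 F168648)
theorem F405980 : act 3 n197842 = n108708 := d8_1 D197842 (iv7 D108708) (iv3 F168649)
theorem F405981 : act 4 n197842 = n156096 := d11_1 D197842 F245260 (iv4 F168650)
theorem F405982 : act 5 n197842 = n112716 := d13_1 D197842 F175436 (iv5 F168651)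
theorem F405983 : act 6 n197842 = n126683 := d14_1 D197842 (iv7 D126683) (iv6 D59436) (iv7 F79548) D108705
theorem F405984 : act 1 n116976 = n197842 := d15_1 D116976 (iv7 D197842) F168648
theorem F405985 : act 1 n197842 = n116975 := d15_1 F405984 (iv7 F223586) F223585
def n197843 : Q := act 5 n108707
theorem D197843 : act 5 n108707 = n197843 := rfl
theorem F405986 : act 2 n197843 = n144035 := d2_1 D197843 (iv5 D144035) (iv2 F202602)
theorem F405987 : act 3 n197843 = n112785 := d6_1 D197843 (iv5 D112785) (iv3 F180074)
theorem F405988 : act 4 n197843 = n156599 := d9_1 D197843 (iv5 D156599) (iv4 D74462) D74463 (iv4 F336735) (iv5 D140478) F180078 F202894 F202893 F336732 (iv4 D74465) (iv5 F81297) (iv4 F173472) F336739 F168653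
theorem F405989 : act 6 n197843 = n111663 := d12_2 F212498 D197843 F173227 D196062 F399258
theorem F405990 : act 7 n197843 = n125986 := d13_2 (iv7 F202599) D197843 F202667
theorem F405991 : act 1 n197843 = n197480 := d17_6 (iv1 F111783) D156599 (iv1 F336738) F336739 F168653 D197843 (iv5 D197480) (iv0 F167338) F98568
def n197844 : Q := act 2 n108709
theorem D197844 : act 2 n108709 = n197844 := rfl
theorem F405992 : act 7 n108710 = n197844 := d15_2 (iv0 D108709) D108710 (iv2 D197844)
def n197845 : Q := act 4 n108709
theorem D197845 : act 4 n108709 = n197845 := rfl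
def n197846 : Q := act 5 n108709
theorem D197846 : act 5 n108709 = n197846 := rfl
theorem F405993 : act 0 n197846 = n196305 := d17_2 D108709 D197846 (iv5 D196305) (iv4 F396625) F403759 F403763 F403886 (iv0 D195288) F161950
theorem F405994 : act 6 n108857 = n197846 := d21_9 (iv5 D196305) (iv1 F216754) F405337 (iv6 D197682) (iv1 F361297) (iv6 D108869) (iv5 D50269) D50266 D108857 F405993
theorem F405995 : act 1 n197846 = n134729 := d15_1 (iv0 F405993) F216757 (iv2 F400288)
theorem F405996 : act 2 n197846 = n196308 := d3_1 F405994 (iv6 F400292) F359819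
theorem E103709 : n197844 = n195383 := ((c2_3 D197846 F405996 (iv5 F400471) (iv2 D197844))).symm
theorem F405997 : act 2 n195383 = n108709 := (sb E103709 (iv2 D197844))
theorem F405998 : act 7 n195383 = n108710 := (sb E103709 (iv7 F405992))
theorem F405999 : act 2 n108710 = n195382 := d15_3 (iv0 D195382) D195383 F405998
theorem F406000 : act 7 n108709 = n195382 := d4_2 (iv7 F405998) F405997 (iv2 F405999)
theorem F406001 : act 7 n139320 = n192947 := d8_2 F406000 F396888 (iv3 F388310)
theorem E103710 : n139313 = n111448 := ((c11_2 F406001 F388308 (iv7 F222508) D139320)).symm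
theorem F406002 : act 2 n111448 = n65391 := (sb E103710 (iv2 D139313))
theorem F406003 : act 7 n111448 = n65392 := (sb E103710 (iv7 F222508))
theorem F406004 : act 2 n192947 = n139315 := d15_3 (iv0 F375063) (iv0 F375061) F406001
theorem F406005 : act 2 n139320 = n192948 := d15_3 F388311 F388309 (iv7 F406001)
theorem E103711 : n139318 = n111447 := ((c1_3 D139320 F406005 F388312 F222509)).symm
theorem F406006 : act 2 n111447 = n65392 := (sb E103711 F222509)
theorem F406007 : act 7 n111447 = n65391 := (sb E103711 (iv7 D139318))
theorem F406008 : act 7 n192948 = n139315 := d4_2 (iv7 F406001) F406005 (iv2 F406004)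
theorem F406009 : act 7 n139316 = n141135 := d13_2 F406007 D139316 F350418
theorem F406010 : act 2 n141135 = n139321 := d15_3 (iv0 F224850) F357508 F406009
theorem F406011 : act 2 n139316 = n141136 := d15_3 (iv0 F387572) F387575 (iv7 F406009)
theorem F406012 : act 7 n141136 = n139321 := d4_2 (iv7 F406009) F406011 (iv2 F406010)
def n197847 : Q := act 6 n108709
theorem D197847 : act 6 n108709 = n197847 := rfl
theorem F406013 : act 2 n197847 = n178098 := d3_1 D197847 F400472 F405997
theorem F406014 : act 5 n197847 = n108858 := d12_1 D197847 (iv6 D108858) D108857 F405994 (iv5 D197846)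
theorem F406015 : act 0 n140480 = n197847 := d21_1 (iv5 F360094) F406014 (iv6 D108858) (iv1 F167984) F341850 (iv5 F250820) (iv1 D124302) (iv5 D57946) (iv6 F91637) D124221
def n197848 : Q := act 3 n108710
theorem D197848 : act 3 n108710 = n197848 := rfl
theorem F406016 : act 7 n197848 = n178102 := d8_2 F405998 D197848 (iv3 F400474)
theorem F406017 : act 6 n197733 = n197848 := d14_5 F406016 (iv6 D178102) (iv7 F302256) (iv6 F363318) (iv7 F405568)
def n197849 : Q := act 4 n108710
theorem D197849 : act 4 n108710 = n197849 := rfl
theorem F406018 : act 3 n197849 = n144416 := d20_3 (iv4 F396891) (iv1 F396895) D197849 (iv1 F227206) F179559 F169279 (iv1 F93291) D107142 (iv3 F396586) (iv1 F396588)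
def n197850 : Q := act 5 n108710
theorem D197850 : act 5 n108710 = n197850 := rfl
theorem F406019 : act 7 n197850 = n196308 := d13_2 F405998 D197850 (iv5 F400471)
theorem F406020 : act 0 n197850 = n134729 := d17_2 (iv1 F396895) D197850 (iv5 D134729) F98540 D105594 D195437 F403878 F396590 (iv4 F396891)
theorem F406021 : act 2 n197850 = n196307 := d15_3 (iv0 D196307) D196308 (iv7 F406019)
theorem F406022 : act 5 n196307 = n195382 := d2_2 D197850 F406021 (iv2 F405999)
theorem F406023 : act 7 n196307 = n197846 := d4_2 (iv7 F406019) F406021 F405996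
theorem F406024 : act 1 n197850 = n196305 := d15_0 (iv0 F405993) (iv7 F406023) (iv2 F406021)
def n197851 : Q := act 6 n108710
theorem D197851 : act 6 n108710 = n197851 := rfl
theorem F406025 : act 3 n197851 = n197733 := d7_1 D197851 F406017 (iv3 D197848)
theorem F406026 : act 0 n197851 = n140449 := d21_4 D196305 (iv1 F406024) (iv5 D197850) D197851 F223630 (iv5 F167919) (iv1 F343117) F343120 F388740 (iv1 F216749)
def n197852 : Q := act 5 n108712
theorem D197852 : act 5 n108712 = n197852 := rfl
theorem F406027 : act 3 n197852 = n108713 := d6_1 D197852 (iv5 D108713) (iv3 F168659)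
theorem F406028 : act 0 n197852 = n188987 := d20_4 F345080 (iv1 F386300) (iv4 F386305) (iv3 F406027) (iv3 D188987) (iv4 D92972) (iv1 F68354) D43522 D93019 (iv1 F362359)
def n197853 : Q := act 7 n108713
theorem D197853 : act 7 n108713 = n197853 := rfl
theorem F406029 : act 2 n197853 = n188077 := d4_1 D197853 (iv7 F405444) F405443
theorem F406030 : act 4 n197853 = n188076 := d11_1 D197853 (iv7 F386301) (iv4 F386305)
theorem F406031 : act 5 n197853 = n108714 := d13_1 D197853 (iv7 D108714) D108713
theorem F406032 : act 1 n138781 = n197853 := d15_1 F405447 (iv7 D197853) (iv2 F405443)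
theorem F406033 : act 1 n197853 = n138778 := d15_1 F406032 (iv7 F405172) F405170
def n197854 : Q := act 6 n108716
theorem D197854 : act 6 n108716 = n197854 := rfl
theorem F406034 : act 2 n197854 = n110841 := d3_1 D197854 (iv6 D110841) (iv2 F168671)
theorem F406035 : act 3 n197854 = n136990 := d7_1 D197854 (iv6 D136990) (iv3 F168672)
theorem F406036 : act 4 n197854 = n139340 := d10_1 D197854 (iv6 D139340) (iv4 F168674)
theorem F406037 : act 0 n127075 = n197854 := d21_4 (iv5 F202428) F203153 F203152 (iv6 F204314) (iv6 D197854) (iv5 D108716) (iv1 F167979) (iv5 F171643) (iv6 F223464) F223468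
def n197855 : Q := act 3 n108718
theorem D197855 : act 3 n108718 = n197855 := rfl
theorem F406038 : act 4 n197855 = n111991 := d20_6 (iv4 D11582) D11580 D24486 D50201 D108718 D197855 (iv1 D111991) F81550 (iv3 D50213) (iv1 D24491)
theorem F406039 : act 6 n194828 = n197855 := d10_0 F406038 (iv6 F378068) (iv4 F394641)
def n197856 : Q := act 4 n108718
theorem D197856 : act 4 n108718 = n197856 := rfl
def n197857 : Q := act 6 n108718
theorem D197857 : act 6 n108718 = n197857 := rfl
theorem F406040 : act 3 n197857 = n194828 := d7_1 D197857 F406039 (iv3 D197855)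
theorem F406041 : act 0 n108890 = n197857 := d20_4 F168491 (iv1 F79469) D50277 D108890 F406040 F394641 (iv1 F380198) F174131 (iv3 D108878) (iv1 F168494)
def n197858 : Q := act 4 n108719
theorem D197858 : act 4 n108719 = n197858 := rfl
def n197859 : Q := act 3 n108724
theorem D197859 : act 3 n108724 = n197859 := rfl
theorem F406042 : act 4 n197859 = n145436 := d5_2 F173019 D197859 (iv3 D145436) (iv4 D68184) (iv3 F173018)
theorem F406043 : act 5 n197859 = n171055 := d6_2 (iv5 F343737) D197859 (iv3 D171055)
theorem F406044 : act 5 n113347 = n145436 := d19_1 D113347 (iv4 F406042) (iv3 D197859) F173016 F343732 F326031 (iv3 D51758) F47802 (iv5 F324266) (iv4 F28160) (iv3 F53193) (iv1 F110271) (iv5 F321765) F183126 F99473 (iv1 D52331) (iv5 D25413) (iv4 F40191) (iv3 F82695)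
theorem F406045 : act 0 n140411 = n197859 := d20_4 F128329 F298318 D77132 (iv3 F353652) (iv3 D197859) (iv4 F173019) (iv1 F171192) F171186 (iv3 F351062) (iv1 F271566)
theorem F406046 : act 3 n145437 = n113347 := d6_3 F406044 (iv3 D145436) D145437
def n197860 : Q := act 3 n108729
theorem D197860 : act 3 n108729 = n197860 := rfl
theorem F406047 : act 7 n197860 = n177498 := d8_2 F173797 D197860 F351060
theorem F406048 : act 0 n108863 = n197860 := d20_4 (iv4 D76928) F300692 D57422 (iv3 F366059) (iv3 D197860) (iv4 D108729) F81193 (iv4 F173012) F325335 F254132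
theorem F406049 : act 1 n177500 = n197860 := d15_0 (iv0 F406048) F366061 D177500
theorem F406050 : act 2 n197860 = n177499 := d15_3 F405465 (iv0 F405467) (iv7 F406047)
def n197861 : Q := act 3 n108730
theorem D197861 : act 3 n108730 = n197861 := rfl
def n197862 : Q := act 3 n108732
theorem D197862 : act 3 n108732 = n197862 := rfl
theorem F406051 : act 4 n197862 = n126392 := d5_2 (iv4 F170951) D197862 (iv3 D126392) (iv4 D59295) (iv3 F93513)
theorem F406052 : act 5 n197862 = n109165 := d6_2 (iv5 F170952) D197862 (iv3 D109165)
theorem F406053 : act 6 n197862 = n138480 := d7_2 (iv6 F341389) D197862 F221672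
theorem F406054 : act 7 n197862 = n160408 := d8_2 (iv7 F325543) D197862 F253368
def n197863 : Q := act 4 n108734
theorem D197863 : act 4 n108734 = n197863 := rfl
theorem F406055 : act 3 n197863 = n140467 := d5_1 D197863 (iv4 D140467) F101627 (iv4 F79562) (iv3 F168687)
theorem F406056 : act 5 n197863 = n116263 := d9_2 D108734 D197863 F363316 (iv5 D140707) F101702 (iv5 F81430) (iv4 F173761) (iv5 F351106) (iv4 F367474) F367475 (iv4 F365335) (iv5 D111373) F81086 F39348 (iv4 F79561)
theorem F406057 : act 6 n197863 = n141921 := d10_2 (iv6 F336700) D197863 (iv4 D141921)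
theorem F406058 : act 7 n197863 = n189072 := d11_2 F169068 D197863 F375633
theorem F406059 : act 0 n191868 = n141921 := d21_4 F215966 (iv1 D111133) D111134 (iv6 F384617) (iv6 F406057) F406056 (iv1 D116263) (iv5 F360067) F360068 D116271
def n197864 : Q := act 3 n108739
theorem D197864 : act 3 n108739 = n197864 := rfl
def n197865 : Q := act 5 n108739
theorem D197865 : act 5 n108739 = n197865 := rfl
theorem F406060 : act 4 n197865 = n147969 := d16_2 F355094 D197865 F231785 F114766 (iv5 F104507) (iv4 F228837) (iv5 F231234) F231235 F355093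
theorem F406061 : act 6 n197865 = n192803 := d21_3 (iv5 D108742) D108739 D197865 F387835 (iv6 D187548) F292309 (iv1 F74363) (iv5 F291192) D187880 (iv1 F371755)
theorem F406062 : act 0 n108776 = n197865 := d18_2 (iv1 D114473) (iv4 F361650) F406060 F231785 F114766 D76542 (iv4 F353830) F353829 F352411
def n197866 : Q := act 6 n108739
theorem D197866 : act 6 n108739 = n197866 := rfl
def n197867 : Q := act 3 n108740
theorem D197867 : act 3 n108740 = n197867 := rfl
theorem F406063 : act 4 n197867 = n190678 := d5_2 F231236 D197867 (iv3 D190678) F320057 D147449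
theorem F406064 : act 0 n108855 = n197867 := d18_0 F406063 F380549 F378266 F378260 (iv4 F384638) (iv0 D191882) D191884 F384656 F372507
def n197868 : Q := act 5 n108740
theorem D197868 : act 5 n108740 = n197868 := rfl
def n197869 : Q := act 6 n108740
theorem D197869 : act 6 n108740 = n197869 := rfl
def n197870 : Q := act 5 n108741
theorem D197870 : act 5 n108741 = n197870 := rfl
theorem F406065 : act 2 n197870 = n108742 := d2_1 D197870 (iv5 D108742) D108741
theorem F406066 : act 1 n197870 = n188045 := d17_6 (iv1 F321441) (iv5 F352174) F352170 F182080 F171193 D197870 F372215 (iv0 D108913) (iv4 F80430)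
theorem F406067 : act 4 n192778 = n197870 := d16_0 (iv5 D197870) (iv4 F171193) (iv5 F182080) F325852 (iv5 F298375) (iv4 F275224) (iv5 F387733) F387732 F387728
def n197871 : Q := act 0 n108742
theorem D197871 : act 0 n108742 = n197871 := rfl
theorem F406068 : act 5 n197871 = n134817 := d17_1 D197871 (iv1 F216943) (iv5 F371653) F371652 F139493 D114441 (iv5 F387739) F387742 F371744
theorem F406069 : act 4 n197871 = n188048 := d18_3 D187875 F371744 D197871 F372219 F184395 (iv0 F322751) F178522 F178477 (iv5 F139545)
theorem F406070 : act 7 n188045 = n197871 := d11_0 F406069 (iv7 D188048) (iv4 F372214)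
def n197872 : Q := act 5 n108748
theorem D197872 : act 5 n108748 = n197872 := rfl
theorem F406071 : act 3 n197872 = n112504 := d6_1 D197872 (iv5 D112504) (iv3 F170931)
theorem F406072 : act 7 n197872 = n197690 := d13_2 (iv7 F223539) D197872 F405379
theorem F406073 : act 0 n108778 = n197872 := d19_0 (iv5 D197872) F326452 F254010 (iv1 F325629) (iv5 F349504) F349503 F226164 D143402 F226168 (iv4 D140767) F101727 F180970 (iv5 D25930) (iv4 F40975) (iv3 D25920) D25918 (iv5 F84239) F84240 D108778
def n197873 : Q := act 3 n108749
theorem D197873 : act 3 n108749 = n197873 := rfl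
theorem F406074 : act 2 n197873 = n112468 := d0_1 D197873 (iv3 D112468) F170452 (iv3 F223537) F223547
def n197874 : Q := act 5 n108749
theorem D197874 : act 5 n108749 = n197874 := rfl
theorem F406075 : act 2 n197874 = n197690 := d2_1 D197874 F405379 F223547
theorem F406076 : act 0 n197874 = n108778 := d17_2 (iv1 F223548) D197874 F168710 (iv4 F81753) (iv5 F174117) F361861 (iv5 F347157) F174065 (iv4 F223541)
theorem F406077 : act 6 n179744 = n197874 := d21_5 (iv5 D134734) (iv1 F101518) (iv5 F169166) F404823 F404821 (iv5 D197874) (iv1 D108749) D108751 F336712 (iv1 F354212)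
def n197875 : Q := act 5 n108750
theorem D197875 : act 5 n108750 = n197875 := rfl
theorem F406078 : act 2 n197875 = n108751 := d2_1 D197875 (iv5 D108751) D108750
theorem F406079 : act 6 n197875 = n140463 := d21_9 (iv5 D140330) (iv1 D65862) (iv5 F79761) D109203 F332976 D197690 F405379 (iv1 F223538) D197875 (iv1 F350893)
def n197876 : Q := act 6 n108750
theorem D197876 : act 6 n108750 = n197876 := rfl
theorem F406080 : act 2 n197876 = n108752 := d3_1 D197876 (iv6 D108752) D108750
theorem F406081 : act 3 n197876 = n178307 := d7_1 D197876 (iv6 F365526) F223526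
theorem F406082 : act 5 n197876 = n140464 := d12_1 D197876 (iv6 D140464) D140463 (iv6 F406079) (iv5 D197875)
theorem F406083 : act 0 n178094 = n197876 := d21_7 (iv5 F404824) (iv1 D134740) (iv5 D63320) F48058 D50130 D108568 F363362 F406082 (iv6 D140464) (iv1 F180087)
theorem F406084 : act 7 n178339 = n197876 := d8_0 F406081 F277891 D178339
def n197877 : Q := act 1 n108751
theorem D197877 : act 1 n108751 = n197877 := rfl
def n197878 : Q := act 4 n108751
theorem D197878 : act 4 n108751 = n197878 := rfl
theorem F406085 : act 3 n197878 = n141921 := d5_1 D197878 (iv4 D141921) (iv3 D66533) (iv4 F79569) (iv3 F168697)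
theorem F406086 : act 6 n197878 = n140467 := d10_2 (iv6 F336712) D197878 (iv4 D140467)
theorem F406087 : act 7 n197878 = n183039 := d11_2 F168951 D197878 F341406
theorem F406088 : act 5 n117544 = n197878 := d19_1 (iv1 F348005) (iv4 D197878) F168697 F79570 (iv5 D50165) (iv4 D24466) (iv3 F36858) (iv1 D23709) (iv5 D11101) F7533 (iv3 F8812) (iv1 F22445) D23712 D48636 D105179 F171358 (iv5 F311877) F206189 (iv3 F196824)
def n197879 : Q := act 0 n108752
theorem D197879 : act 0 n108752 = n197879 := rfl
theorem F406089 : act 3 n197879 = n162617 := d20_5 F336684 (iv1 D113572) F82767 (iv3 F168698) D197879 (iv4 D162617) F325195 (iv4 F325333) F325332 (iv1 F336683)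
theorem F406090 : act 4 n197879 = n162635 := d20_8 (iv4 D38478) (iv1 D18339) D18340 D38482 (iv1 F326039) (iv3 F174067) F174068 D197879 (iv3 D162635) F299329
theorem F406091 : act 1 n178339 = n197879 := d15_0 (iv0 D197879) (iv7 F172986) (iv2 F360136)
theorem F406092 : act 7 n178094 = n197879 := d11_0 F406090 F302204 (iv4 F277633)
theorem F406093 : act 5 n197879 = n197671 := d13_1 F406092 (iv7 D197671) F363362
def n197880 : Q := act 1 n108752
theorem D197880 : act 1 n108752 = n197880 := rfl
theorem F406094 : act 1 n197880 = n178339 := d15_1 D197880 F406084 F406080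
theorem F406095 : act 4 n194157 = n197880 := d20_0 (iv1 D197880) (iv4 F174068) F174067 F81553 (iv3 F328288) (iv4 D96282) (iv1 F70655) D48439 D104761 (iv1 F392203)
theorem F406096 : act 5 n197662 = n197880 := d21_6 (iv5 F404829) (iv1 F216767) (iv5 D134738) F98550 (iv1 F246649) D197662 (iv1 D197880) F336713 (iv6 D65930) D65926
theorem F406097 : act 2 n197880 = n178094 := d2_1 F406096 (iv5 F363362) (iv2 F405274)
theorem F406098 : act 6 n194146 = n197880 := d3_0 F406097 F277634 D194146
theorem F406099 : act 5 n140469 = n124219 := d17_3 (iv1 D197880) F336713 D140469 (iv4 F394624) F394625 F379128 (iv5 F379125) F392204 F406095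
theorem F406100 : act 3 n124220 = n140469 := d6_3 F406099 (iv3 D124219) D124220
def n197881 : Q := act 0 n108757
theorem D197881 : act 0 n108757 = n197881 := rfl
theorem F406101 : act 1 n127354 = n197881 := d15_0 (iv0 D197881) (iv7 F203756) (iv2 F204597)
def n197882 : Q := act 1 n108757
theorem D197882 : act 1 n108757 = n197882 := rfl
theorem F406102 : act 1 n197882 = n127354 := d15_1 D197882 F204598 F203774
theorem F406103 : act 3 n109373 = n197882 := d20_3 F79561 D50468 D109373 (iv1 D197882) (iv3 D108757) D108758 (iv1 F405517) (iv4 F406051) (iv3 D197862) (iv1 D108732)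
theorem F406104 : act 4 n197882 = n145455 := d5_2 D109373 F406103 (iv3 D145455) F324449 (iv3 F324447)
theorem F406105 : act 6 n197882 = n121267 := d7_2 (iv6 F325565) F406103 (iv3 D121267)
theorem F406106 : act 7 n197882 = n112468 := d8_2 (iv7 F170455) F406103 (iv3 D112468)
theorem E103712 : n197881 = n197873 := ((c15_4 (iv0 D197881) D197882 F406106 (iv2 F406074))).symm
theorem F406107 : act 0 n197873 = n127354 := (sb E103712 (iv1 F406101))
theorem F406108 : act 1 n197873 = n108757 := (sb E103712 (iv0 D197881))
def n197883 : Q := act 5 n108757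
theorem D197883 : act 5 n108757 = n197883 := rfl
theorem F406109 : act 3 n197883 = n108759 := d6_1 D197883 (iv5 D108759) D108757
theorem F406110 : act 7 n197883 = n140776 := d13_2 F203756 D197883 (iv5 F345626)
theorem F406111 : act 4 n197883 = n110856 := d16_2 (iv4 F168701) D197883 (iv5 D110856) (iv4 F93774) D126639 (iv4 F203740) (iv5 F203742) F203744 (iv2 F203753)
def n197884 : Q := act 6 n108757
theorem D197884 : act 6 n108757 = n197884 := rfl
theorem F406112 : act 3 n197884 = n108760 := d7_1 D197884 (iv6 D108760) D108757
theorem F406113 : act 4 n197884 = n127357 := d10_1 D197884 (iv6 D127357) (iv4 F168701)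
def n197885 : Q := act 1 n108758
theorem D197885 : act 1 n108758 = n197885 := rfl
theorem F406114 : act 1 n197885 = n108763 := d15_1 D197885 F203761 (iv2 F203773)
theorem F406115 : act 7 n197885 = n180035 := d15_2 F405517 D197885 (iv2 F362997)
theorem F406116 : act 2 n185560 = n197885 := d4_3 F406115 (iv2 F362997) F362999
theorem F406117 : act 6 n185559 = n197885 := d14_5 F406115 (iv6 D180035) (iv7 F201539) (iv6 F358446) F341826
def n197886 : Q := act 3 n108758
theorem D197886 : act 3 n108758 = n197886 := rfl
theorem F406118 : act 4 n197886 = n127356 := d5_2 D108758 D197886 (iv3 D127356) (iv4 F168701) (iv3 D108757)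
def n197887 : Q := act 5 n108758
theorem D197887 : act 5 n108758 = n197887 := rfl
theorem F406119 : act 2 n197887 = n125722 := d2_1 D197887 (iv5 F202218) (iv2 F203773)
theorem F406120 : act 4 n197887 = n125718 := d16_6 (iv4 D51491) D51492 (iv4 F168702) (iv5 D108759) D108758 D197887 (iv5 D125718) (iv7 F173209) F173208
theorem F406121 : act 1 n126042 = n197887 := d17_8 (iv1 F360429) (iv5 D125619) (iv1 D58816) D58818 D125625 (iv5 F202205) (iv0 F202204) D126042 F406120
def n197888 : Q := act 6 n108758
theorem D197888 : act 6 n108758 = n197888 := rfl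
theorem F406122 : act 4 n197888 = n108760 := d10_1 D197888 (iv6 D108760) D108758
def n197889 : Q := act 6 n108759
theorem D197889 : act 6 n108759 = n197889 := rfl
theorem F406123 : act 4 n197889 = n111658 := d10_1 D197889 (iv6 D111658) (iv4 F168702)
def n197890 : Q := act 0 n108760
theorem D197890 : act 0 n108760 = n197890 := rfl
theorem F406124 : act 6 n197890 = n139021 := d21_5 D108641 (iv1 F386119) (iv5 D108759) D108760 D197890 (iv5 D139021) (iv1 D65258) D65259 (iv6 F348801) (iv1 D108639)
def n197891 : Q := act 1 n108760
theorem D197891 : act 1 n108760 = n197891 := rfl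
def n197892 : Q := act 5 n108760
theorem D197892 : act 5 n108760 = n197892 := rfl
theorem F406125 : act 0 n111519 = n197892 := d21_7 D197726 (iv1 F405533) F354403 (iv6 F348804) (iv1 D51428) D51431 D111519 (iv5 D197892) (iv6 D108760) (iv1 F168482)
def n197893 : Q := act 7 n108760
theorem D197893 : act 7 n108760 = n197893 := rfl
def n197894 : Q := act 0 n108762
theorem D197894 : act 0 n108762 = n197894 := rfl
def n197895 : Q := act 1 n108762
theorem D197895 : act 1 n108762 = n197895 := rfl
def n197896 : Q := act 2 n108762
theorem D197896 : act 2 n108762 = n197896 := rfl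
theorem F406126 : act 3 n197896 = n127354 := d0_2 D108762 D197896 F204597 (iv3 F176748) F203757
theorem F406127 : act 4 n111396 = n197896 := d5_0 F406126 (iv4 D127354) F172887 (iv4 D111397) D111396
def n197897 : Q := act 4 n108762
theorem D197897 : act 4 n108762 = n197897 := rfl
theorem F406128 : act 2 n197897 = n111396 := d1_1 D197897 F406127 (iv2 D197896)
theorem F406129 : act 7 n197897 = n196506 := d11_2 F405524 D197897 (iv4 F405523)
theorem F406130 : act 0 n197856 = n197897 := d20_1 D197856 (iv4 D197897) (iv3 D108762) (iv1 D50217) (iv3 D24492) (iv4 D11582) D11580 D24486 D50201 D108718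
theorem F406131 : act 1 n197856 = n196873 := d15_1 (iv0 F406130) F402105 (iv2 F406128)
def n197898 : Q := act 5 n108762
theorem D197898 : act 5 n108762 = n197898 := rfl
theorem F406132 : act 3 n197898 = n108764 := d6_1 D197898 (iv5 D108764) D108762
theorem F406133 : act 4 n197898 = n127809 := d18_5 D108718 D197856 F406130 (iv4 D197897) D197898 F205610 (iv4 F356735) (iv0 F400870) (iv5 D108721)
def n197899 : Q := act 6 n108762
theorem D197899 : act 6 n108762 = n197899 := rfl
theorem F406134 : act 3 n197899 = n108765 := d7_1 D197899 (iv6 D108765) D108762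
def n197900 : Q := act 5 n108763
theorem D197900 : act 5 n108763 = n197900 := rfl
theorem F406135 : act 3 n197900 = n125720 := d6_1 D197900 (iv5 F360423) F201902
theorem F406136 : act 7 n197900 = n125722 := d13_2 (iv7 F203761) D197900 (iv5 F202218)
theorem F406137 : act 4 n197900 = n111654 := d16_2 D108763 D197900 (iv5 D111654) (iv4 D51491) D51492 (iv4 F168702) (iv5 D108759) (iv7 F203758) F203757
theorem F406138 : act 1 n197900 = n126042 := d17_6 (iv1 F168534) D108931 (iv1 F386121) (iv5 D108764) D108763 D197900 (iv5 D126042) D126040 (iv4 F202740)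
theorem F406139 : act 6 n195749 = n197900 := d10_0 F406137 F398077 F398076
def n197901 : Q := act 6 n108763
theorem D197901 : act 6 n108763 = n197901 := rfl
theorem F406140 : act 4 n197901 = n108765 := d10_1 D197901 (iv6 D108765) D108763
theorem F406141 : act 5 n197901 = n195750 := d12_1 D197901 (iv6 D195750) D195749 F406139 (iv5 D197900)
theorem F406142 : act 0 n195750 = n135820 := d21_7 (iv5 D166314) F297614 (iv5 F341736) F362998 F203223 D197901 F406141 F359333 (iv6 D180132) (iv1 F299802)
theorem E103713 : n195752 = n195121 := ((c20_10 (iv4 F398046) F406142 F218464 (iv3 F218445) (iv1 F396043) F396038 (iv4 F203067) (iv1 F203070) F362902 D195121 (iv1 D195752))).symm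
theorem F406143 : act 0 n195121 = n106245 := (sb E103713 (iv1 D195752))
theorem F406144 : act 0 n124519 = n197901 := d21_10 F406141 F406142 F359333 (iv6 D180132) (iv1 F299802) (iv6 F380706) (iv5 F380133) (iv1 D189775) F294455 (iv6 F199182)
theorem F406145 : act 1 n195750 = n193369 := d15_1 (iv0 F406142) F389601 (iv2 F218463)
theorem F406146 : act 0 n108765 = n111285 := d20_1 F406140 F172636 F161131 F80495 F325865 (iv4 D81776) F58307 D58118 D124519 F406144
theorem F406147 : act 2 n113628 = n195751 := d15_3 (iv0 D195751) (iv0 F406143) F395861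
theorem F406148 : act 3 n195751 = n148773 := d0_2 D113628 F406147 (iv2 F364678) F395841 F395843
def n197902 : Q := act 4 n108764
theorem D197902 : act 4 n108764 = n197902 := rfl
theorem F406149 : act 2 n197902 = n111321 := d1_1 D197902 (iv4 F219103) F219106
theorem F406150 : act 5 n197902 = n111320 := d9_2 D108764 D197902 F172753 D125718 (iv4 F406120) (iv5 D197887) (iv4 D108758) D108759 F168702 (iv5 D51492) D51491 D111654 (iv4 F406137) (iv5 D197900) (iv4 D108763)
theorem F406151 : act 7 n197902 = n111650 := d11_2 F219107 D197902 (iv4 F219110)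
theorem F406152 : act 1 n111657 = n197902 := d15_1 D111657 F406151 F173213
theorem F406153 : act 5 n125575 = n111657 := d17_7 (iv1 F386118) (iv5 D108641) D108638 (iv5 F405541) (iv4 F405545) F172797 D125575 F406152 (iv4 D197902)
theorem F406154 : act 6 n125575 = n140414 := d21_3 (iv5 F406150) (iv1 F406152) (iv5 F406153) (iv1 D140414) (iv6 D65907) (iv5 F79760) (iv1 F373318) (iv5 D109076) (iv6 F363306) (iv1 F172755)
theorem F406155 : act 3 n111613 = n197902 := d6_3 F406150 F172752 D111613
theorem F406156 : act 1 n197902 = n111656 := d15_0 (iv0 D111656) (iv7 F172759) (iv2 F406149)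
theorem F406157 : act 5 n111656 = n125574 := d17_7 D58815 D125614 (iv1 F360420) (iv5 D125718) (iv4 F172753) (iv5 F406150) F406156 (iv0 D125574) F92943
theorem F406158 : act 6 n194527 = n111656 := d12_0 F406157 (iv6 F361645) (iv5 D176988) (iv6 F159157) D194527
def n197903 : Q := act 1 n108765
theorem D197903 : act 1 n108765 = n197903 := rfl
def n197904 : Q := act 5 n108765
theorem D197904 : act 5 n108765 = n197904 := rfl
theorem F406159 : act 2 n197904 = n140774 := d2_1 D197904 (iv5 F405521) F405519
theorem F406160 : act 6 n197904 = n108843 := d12_2 D108765 D197904 F394331 F394332 (iv5 D108764)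
theorem F406161 : act 5 n197649 = n197903 := d21_6 (iv5 F164791) F400319 (iv5 D196321) (iv6 F351889) (iv1 F167869) D197649 (iv1 D197903) D197904 F406160 (iv1 D108843)
theorem F406162 : act 2 n197903 = n197653 := d2_1 F406161 (iv5 D197653) (iv2 F405202)
theorem F406163 : act 3 n197903 = n178096 := d6_1 F406161 (iv5 F404847) (iv3 F405203)
theorem F406164 : act 4 n197904 = n193208 := d19_6 (iv1 F351632) F340664 F348180 (iv3 F406163) (iv1 D197903) D197904 F389178 (iv1 D101851) (iv5 F295028) F359441 (iv3 F384410) (iv1 D191773) (iv5 F365644) (iv4 F237236) F186691 (iv1 F187038) F187036 (iv4 F274059) F274058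
theorem F406165 : act 0 n197904 = n193211 := d21_4 D194745 (iv1 F394329) (iv5 F394331) (iv6 F406160) (iv6 D193211) D193210 F389182 (iv5 F345681) (iv6 D137686) (iv1 F329345)
def n197905 : Q := act 7 n108765
theorem D197905 : act 7 n108765 = n197905 := rfl
theorem F406166 : act 1 n197653 = n197905 := d15_1 (iv0 F405522) (iv7 D197905) (iv2 F405519)
def n197906 : Q := act 4 n108766
theorem D197906 : act 4 n108766 = n197906 := rfl
theorem F406167 : act 2 n197906 = n108770 := d1_1 D197906 (iv4 D108770) (iv2 F168704)
theorem F406168 : act 5 n197906 = n125710 := d9_2 D108766 D197906 (iv4 D125710) (iv5 F355946) F355945 F93157 F93048 D108619 D197729 F405547 (iv4 D125715) (iv5 F405944) F405943 (iv5 D197832) F168631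
def n197907 : Q := act 6 n108766
theorem D197907 : act 6 n108766 = n197907 := rfl
theorem F406169 : act 2 n197907 = n108771 := d3_1 D197907 (iv6 D108771) (iv2 F168704)
def n197908 : Q := act 0 n108767
theorem D197908 : act 0 n108767 = n197908 := rfl
theorem F406170 : act 4 n197908 = n185557 := d20_0 (iv1 F341822) F341825 F198728 (iv1 F198745) F281181 F281179 (iv1 D163499) F119937 (iv3 F341839) D197908
theorem F406171 : act 2 n108772 = n197908 := d15_3 (iv0 D197908) F341838 F354470
theorem F406172 : act 7 n197908 = n108773 := d4_2 F354470 F406171 F354393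
theorem F406173 : act 3 n197461 = n197908 := d8_3 F406172 (iv3 F354395) D197461
theorem F406174 : act 1 n108775 = n197908 := d15_1 (iv0 F341831) F406172 F354393
def n197909 : Q := act 5 n108767
theorem D197909 : act 5 n108767 = n197909 := rfl
theorem F406175 : act 2 n197909 = n108774 := d2_1 D197909 (iv5 D108774) (iv2 F168705)
theorem F406176 : act 3 n197909 = n124302 := d6_1 D197909 F250820 (iv3 F341839)
theorem F406177 : act 4 n197909 = n190871 := d16_2 (iv4 F341840) D197909 F381404 F160673 F76227 (iv4 F150107) D191187 (iv7 F382525) (iv2 F341841)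
def n197910 : Q := act 7 n108767
theorem D197910 : act 7 n108767 = n197910 := rfl
theorem F406178 : act 2 n197910 = n108775 := d4_1 D197910 (iv7 D108775) (iv2 F168705)
theorem F406179 : act 3 n197910 = n121270 := d8_1 D197910 (iv7 F254245) (iv3 F341839)
theorem F406180 : act 4 n197910 = n181235 := d11_1 D197910 (iv7 F356038) (iv4 F341840)
theorem F406181 : act 6 n197910 = n181234 := d14_1 D197910 F405540 (iv6 D197727) F168481 D108767
theorem F406182 : act 1 n108773 = n197910 := d15_1 D108773 (iv7 D197910) F168705
theorem F406183 : act 1 n197910 = n108772 := d15_1 F406182 (iv7 F354470) (iv2 F354393)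
def n197911 : Q := act 3 n108769
theorem D197911 : act 3 n108769 = n197911 := rfl
theorem F406184 : act 5 n197911 = n108927 := d6_2 (iv5 F354403) D197911 (iv3 D108927)
theorem F406185 : act 7 n197911 = n144305 := d8_2 (iv7 F354402) D197911 (iv3 F354404)
def n197912 : Q := act 4 n108769
theorem D197912 : act 4 n108769 = n197912 := rfl
theorem F406186 : act 2 n197912 = n111352 := d1_1 D197912 F405545 (iv2 F405542)
theorem F406187 : act 7 n197912 = n111733 := d11_2 (iv7 F354402) D197912 F354400
theorem F406188 : act 0 n197912 = n111647 := d17_0 (iv5 D111647) (iv1 D51489) D51492 (iv4 F168702) (iv5 D108759) (iv0 D50216) D50219 D108769 D197912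
theorem F406189 : act 1 n197912 = n111642 := d18_6 F405755 D109135 F169125 (iv4 D108928) (iv5 F354403) D197912 F173205 (iv0 F345114) F355977
theorem F406190 : act 5 n125576 = n197912 := d17_5 D111652 (iv5 F405959) F405960 (iv5 D125621) (iv4 F201991) F406189 (iv5 D111642) (iv0 D51488) D51491
theorem E103714 : n111732 = n111647 := (c15_1 D111732 (iv0 F406188) F406187 (iv2 D111733))
theorem F406191 : act 0 n111647 = n51517 := (sb E103714 (iv1 D111732))
theorem F406192 : act 3 n111724 = n197912 := d8_3 F406187 F354407 (iv7 F354411)
def n197913 : Q := act 6 n108769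
theorem D197913 : act 6 n108769 = n197913 := rfl
def n197914 : Q := act 0 n108770
theorem D197914 : act 0 n108770 = n197914 := rfl
def n197915 : Q := act 1 n108770
theorem D197915 : act 1 n108770 = n197915 := rfl
def n197916 : Q := act 6 n108770
theorem D197916 : act 6 n108770 = n197916 := rfl
theorem F406193 : act 4 n197916 = n108771 := d10_1 D197916 (iv6 D108771) D108770
def n197917 : Q := act 0 n108771
theorem D197917 : act 0 n108771 = n197917 := rfl
def n197918 : Q := act 1 n108771
theorem D197918 : act 1 n108771 = n197918 := rfl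
def n197919 : Q := act 5 n108771
theorem D197919 : act 5 n108771 = n197919 := rfl
theorem F406194 : act 3 n197919 = n108782 := d6_1 D197919 (iv5 D108782) (iv3 F168706)
theorem F406195 : act 6 n197919 = n108774 := d12_2 D108771 D197919 (iv5 D108774) (iv6 D50220) D50219
def n197920 : Q := act 7 n108771
theorem D197920 : act 7 n108771 = n197920 := rfl
theorem F406196 : act 3 n197920 = n108783 := d8_1 D197920 (iv7 D108783) (iv3 F168706)
def n197921 : Q := act 3 n108772
theorem D197921 : act 3 n108772 = n197921 := rfl
theorem F406197 : act 2 n197921 = n163950 := d0_1 D197921 (iv3 F400826) (iv2 F404433) F406173 (iv2 F406171)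
theorem F406198 : act 4 n197921 = n196230 := d5_2 (iv4 F354465) D197921 F399985 F207306 (iv3 F207283)
theorem F406199 : act 7 n197921 = n163949 := d8_2 F354470 D197921 F341832
theorem F406200 : act 0 n121267 = n197921 := d20_4 (iv4 D35561) (iv1 F55833) (iv4 F88527) D121267 (iv3 D197921) F354465 F354390 F119733 (iv3 D57922) (iv1 F56239)
theorem F406201 : act 1 n163951 = n197921 := d15_0 (iv0 F406200) F193371 D163951
theorem F406202 : act 1 n196489 = n163951 := d15_0 F406201 F406199 (iv2 F400818)
def n197922 : Q := act 5 n108772
theorem D197922 : act 5 n108772 = n197922 := rfl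
def n197923 : Q := act 5 n108773
theorem D197923 : act 5 n108773 = n197923 := rfl
theorem F406203 : act 3 n197923 = n197460 := d6_1 D197923 (iv5 D197460) F354395
theorem F406204 : act 6 n197923 = n190158 := d12_2 (iv6 F354394) D197923 (iv5 F379004) (iv6 D108198) D108197
theorem F406205 : act 4 n197923 = n190295 := d16_2 F354392 D197923 (iv5 F382078) F382077 (iv5 F382582) F382580 F211648 (iv7 D129038) (iv2 F207269)
def n197924 : Q := act 1 n108774
theorem D197924 : act 1 n108774 = n197924 := rfl
theorem F406206 : act 7 n197924 = n190907 := d15_2 (iv0 F381514) D197924 F381507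
theorem F406207 : act 4 n197924 = n190910 := d18_7 (iv1 F394871) F382077 (iv1 D104653) (iv4 F160362) (iv5 F379024) (iv4 F379025) D197924 F381525 (iv5 F394869)
def n197925 : Q := act 7 n108774
theorem D197925 : act 7 n108774 = n197925 := rfl
theorem F406208 : act 3 n197925 = n108795 := d8_1 D197925 (iv7 D108795) (iv3 F168707)
theorem F406209 : act 4 n197925 = n190870 := d11_1 D197925 (iv7 F381400) (iv4 F379025)
theorem F406210 : act 5 n197925 = n108775 := d13_1 D197925 (iv7 D108775) D108774
theorem F406211 : act 0 n190907 = n197925 := d18_2 (iv1 D190909) (iv4 F381508) F406209 F381396 F362522 F160678 (iv4 F394837) (iv0 F394839) (iv5 F381517)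
def n197926 : Q := act 1 n108776
theorem D197926 : act 1 n108776 = n197926 := rfl
def n197927 : Q := act 2 n108778
theorem D197927 : act 2 n108778 = n197927 := rfl
theorem F406212 : act 4 n197927 = n135140 := d1_2 (iv4 F356118) D197927 F217351
theorem F406213 : act 5 n197927 = n108920 := d2_2 (iv5 F168710) D197927 (iv2 D108920)
theorem F406214 : act 6 n197927 = n135139 := d3_2 (iv6 F356119) D197927 F217350
theorem F406215 : act 1 n197927 = n197690 := d15_0 (iv0 F405380) F223519 D197927
def n197928 : Q := act 3 n108780
theorem D197928 : act 3 n108780 = n197928 := rfl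
def n197929 : Q := act 5 n108780
theorem D197929 : act 5 n108780 = n197929 := rfl
theorem F406216 : act 2 n197929 = n163977 := d2_1 D197929 F360121 F360123
theorem F406217 : act 7 n197929 = n163943 := d13_2 (iv7 F360125) D197929 F360116
theorem F406218 : act 0 n197929 = n163975 := d21_1 D197929 (iv5 F343789) (iv6 D134731) F98545 (iv6 F336704) (iv5 D50214) (iv1 D24491) D24493 D50223 D108780
theorem F406219 : act 6 n196369 = n108780 := d21_5 (iv5 D30853) (iv1 F38493) (iv5 F78118) D106926 D196369 D197929 F406218 (iv5 F343789) (iv6 D134731) F98545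
theorem F406220 : act 4 n109187 = n196369 := d10_3 F406219 F360124 (iv6 F363347)
theorem F406221 : act 7 n180387 = n196369 := d14_0 F406219 F360125 F360101 (iv7 F132105) D180387
theorem F406222 : act 1 n197929 = n163974 := d15_0 (iv0 D163974) D163977 (iv2 F406216)
theorem F406223 : act 7 n163974 = n196328 := d15_2 (iv0 F406218) F406222 F400340
theorem F406224 : act 5 n196329 = n163974 := d13_3 F406223 (iv5 D196328) D196329
def n197930 : Q := act 3 n108781
theorem D197930 : act 3 n108781 = n197930 := rfl
theorem F406225 : act 5 n197930 = n163967 := d6_2 (iv5 F343787) D197930 F258438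
theorem F406226 : act 6 n197930 = n163970 := d7_2 (iv6 F343788) D197930 F258439
theorem F406227 : act 4 n136503 = n197930 := d10_3 F406226 (iv4 F333855) F337823
def n197931 : Q := act 0 n108782
theorem D197931 : act 0 n108782 = n197931 := rfl
theorem F406228 : act 5 n197931 = n196326 := d17_3 (iv1 D108781) D108782 D197931 F402322 F351237 (iv0 F351240) (iv5 D140376) D140375 F359227
theorem F406229 : act 3 n190128 = n197931 := d6_3 F406228 (iv3 F402323) (iv5 F378942)
def n197932 : Q := act 1 n108782
theorem D197932 : act 1 n108782 = n197932 := rfl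
theorem F406230 : act 3 n109576 = n197932 := d19_19 (iv1 D197932) (iv5 D108782) (iv4 F164792) (iv3 F400491) F400493 (iv5 D194545) (iv4 D103757) D103756 (iv1 F346761) F352735 D194529 F393600 F398497 F398495 F171175 F169340 F79988 D50551 D109576
theorem F406231 : act 5 n196327 = n197932 := d21_6 F79574 (iv1 F38513) D24543 D50328 D109005 F400347 (iv1 D197932) (iv5 D108782) (iv6 D50223) D50221
theorem F406232 : act 6 n141988 = n197932 := d21_5 F400349 F167667 D134829 (iv6 F343806) F245675 (iv5 F406231) (iv1 D196327) D196328 F400342 D196330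
theorem F406233 : act 4 n197932 = n141989 := d10_1 F406232 (iv6 D141989) D141988
def n197933 : Q := act 4 n108782
theorem D197933 : act 4 n108782 = n197933 := rfl
theorem F406234 : act 6 n197933 = n108794 := d10_2 (iv6 F168711) D197933 (iv4 D108794)
def n197934 : Q := act 7 n108782
theorem D197934 : act 7 n108782 = n197934 := rfl
theorem F406235 : act 5 n197934 = n108783 := d13_1 D197934 (iv7 D108783) D108782
theorem F406236 : act 6 n124311 = n197934 := d21_5 (iv5 D57941) (iv1 D27648) D27650 D57950 D124311 F406235 (iv1 F360118) (iv5 F360116) (iv6 D163943) F119924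
def n197935 : Q := act 0 n108785
theorem D197935 : act 0 n108785 = n197935 := rfl
theorem F406237 : act 4 n197935 = n135352 := d18_3 F330895 (iv4 F327948) D197935 (iv5 D135352) (iv4 F217594) F362718 (iv4 F323385) F331840 F324233
theorem F406238 : act 3 n197935 = n197459 := d20_5 F82771 D52423 F168448 D108785 D197935 (iv4 F404429) (iv1 F337386) (iv4 F201870) (iv3 F364141) F168475
def n197936 : Q := act 1 n108785
theorem D197936 : act 1 n108785 = n197936 := rfl
def n197937 : Q := act 5 n108785
theorem D197937 : act 5 n108785 = n197937 := rfl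
theorem F406239 : act 3 n197937 = n108786 := d6_1 D197937 (iv5 D108786) D108785
def n197938 : Q := act 4 n108786
theorem D197938 : act 4 n108786 = n197938 := rfl
theorem F406240 : act 6 n197938 = n196331 := d10_2 (iv6 F405370) D197938 (iv4 F400358)
theorem F406241 : act 1 n197938 = n124286 := d18_6 F168475 F82771 D52423 F168448 D108786 D197938 (iv4 F343765) (iv0 F405512) (iv5 D197721)
def n197939 : Q := act 1 n108788
theorem D197939 : act 1 n108788 = n197939 := rfl
theorem F406242 : act 7 n197939 = n163956 := d15_2 (iv0 F365874) D197939 (iv2 D163956)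
theorem F406243 : act 2 n120286 = n197939 := d4_3 F406242 (iv2 D163956) (iv7 F191541)
theorem F406244 : act 4 n160618 = n197939 := d11_3 F406242 F258413 F254004
theorem F406245 : act 6 n194827 = n197939 := d14_5 F406242 F362622 (iv7 F223546) F393414 (iv7 F394636)
theorem F406246 : act 3 n197939 = n163951 := d7_1 F406245 (iv6 F389426) (iv3 F394635)
theorem F406247 : act 1 n197939 = n163954 := d15_0 (iv0 D163954) (iv7 F191541) F406243
def n197940 : Q := act 2 n108788
theorem D197940 : act 2 n108788 = n197940 := rfl
theorem F406248 : act 7 n197940 = n163954 := d4_2 F405492 D197940 (iv2 F405489)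
theorem F406249 : act 1 n197940 = n120286 := d15_0 (iv0 F405493) F405492 D197940
theorem F406250 : act 1 n163956 = n197940 := d15_0 F406249 F191541 D163956
def n197941 : Q := act 4 n108788
theorem D197941 : act 4 n108788 = n197941 := rfl
theorem F406251 : act 3 n197941 = n109261 := d5_1 D197941 (iv4 F169225) F169226 F169240 D108788
theorem F406252 : act 7 n197941 = n109351 := d11_2 F405492 D197941 (iv4 F405490)
theorem F406253 : act 0 n197941 = n163275 := d20_7 (iv4 D180373) (iv1 F258423) (iv4 D163960) (iv3 F326832) (iv1 F168446) D108788 D197941 (iv4 F281182) (iv3 D180647) (iv1 F280701)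
def n197942 : Q := act 5 n108788
theorem D197942 : act 5 n108788 = n197942 := rfl
theorem F406254 : act 3 n197942 = n108790 := d6_1 D197942 (iv5 D108790) D108788
def n197943 : Q := act 6 n108788
theorem D197943 : act 6 n108788 = n197943 := rfl
theorem F406255 : act 3 n197943 = n108791 := d7_1 D197943 (iv6 D108791) D108788
def n197944 : Q := act 4 n108790
theorem D197944 : act 4 n108790 = n197944 := rfl
theorem F406256 : act 0 n197944 = n124286 := d18_2 (iv1 F172741) D197944 (iv4 F343765) F173241 (iv4 F173235) (iv0 F173239) (iv4 D111584) (iv0 D51461) D51463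
def n197945 : Q := act 6 n108790
theorem D197945 : act 6 n108790 = n197945 := rfl
theorem F406257 : act 0 n197945 = n190159 := d21_4 F405506 (iv1 F168446) D108790 D197945 F379006 (iv5 F365369) F360797 D141844 (iv6 F343792) (iv1 F405508)
def n197946 : Q := act 5 n108791
theorem D197946 : act 5 n108791 = n197946 := rfl
theorem F406258 : act 0 n197946 = n111771 := d17_2 (iv1 F222465) D197946 (iv5 D111771) (iv4 D51530) D51531 (iv0 F81291) F81117 (iv0 F81119) D109243
theorem F406259 : act 1 n197946 = n111777 := d17_8 (iv1 F245032) (iv5 F111124) D74245 (iv5 F245374) (iv4 F245054) (iv5 F358697) F222463 D197946 F332207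
def n197947 : Q := act 3 n108792
theorem D197947 : act 3 n108792 = n197947 := rfl
theorem F406260 : act 7 n197947 = n174710 := d8_2 (iv7 F202538) D197947 (iv3 F348952)
theorem F406261 : act 4 n174713 = n197947 := d11_3 F406260 F273557 D174713
def n197948 : Q := act 4 n108792
theorem D197948 : act 4 n108792 = n197948 := rfl
theorem F406262 : act 5 n197948 = n111578 := d16_1 D197948 F357724 F328921 F171568 (iv5 F173230) (iv4 F173232) (iv5 F172731) (iv7 F202535) F202537
def n197949 : Q := act 3 n108793
theorem D197949 : act 3 n108793 = n197949 := rfl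
theorem F406263 : act 5 n197949 = n124282 := d6_2 (iv5 F172731) D197949 (iv3 F365916)
def n197950 : Q := act 4 n108793
theorem D197950 : act 4 n108793 = n197950 := rfl
theorem F406264 : act 5 n197950 = n111579 := d9_2 (iv5 F172731) D197950 (iv4 F357728) F328925 F168748 (iv5 F173227) F173226 (iv5 F173229) D197948 F406262 F357724 F328921 F171568 (iv5 F173230) (iv4 F173232)
theorem F406265 : act 6 n197931 = n197950 := d21_5 (iv5 D108790) (iv1 D50225) D50226 (iv6 F168711) D197931 F406264 (iv1 D111579) D111580 F173115 (iv1 F172741)
def n197951 : Q := act 6 n108793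
theorem D197951 : act 6 n108793 = n197951 := rfl
theorem F406266 : act 2 n197951 = n174709 := d3_1 D197951 F348951 (iv2 F202536)
theorem F406267 : act 4 n197951 = n197931 := d10_1 D197951 F406265 (iv4 D197950)
def n197952 : Q := act 0 n108794
theorem D197952 : act 0 n108794 = n197952 := rfl
theorem F406268 : act 4 n197952 = n141965 := d18_3 (iv1 D108793) D108794 D197952 F343768 (iv4 D111317) (iv0 D51341) (iv4 F81027) D111314 (iv5 F172731)
theorem F406269 : act 6 n141964 = n197952 := d10_0 F406268 (iv6 D141965) D141964
def n197953 : Q := act 1 n108794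
theorem D197953 : act 1 n108794 = n197953 := rfl
theorem F406270 : act 4 n109991 = n197953 := d20_6 F369635 D187252 F381513 F198729 (iv1 F191497) (iv3 F365871) (iv1 D197953) (iv4 D108794) (iv3 F168707) F381514
def n197954 : Q := act 3 n108794
theorem D197954 : act 3 n108794 = n197954 := rfl
def n197955 : Q := act 5 n108794
theorem D197955 : act 5 n108794 = n197955 := rfl
theorem F406271 : act 4 n197955 = n134297 := d16_2 D108794 D197955 F216317 F98393 (iv5 F79453) (iv4 F168443) (iv5 F405506) (iv7 D197720) F168441
theorem F406272 : act 7 n134296 = n197955 := d11_0 F406271 (iv7 D134297) D134296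
def n197956 : Q := act 7 n108794
theorem D197956 : act 7 n108794 = n197956 := rfl
theorem F406273 : act 4 n197956 = n108795 := d11_1 D197956 (iv7 D108795) D108794
theorem F406274 : act 5 n197956 = n134296 := d13_1 D197956 F406272 (iv5 D197955)
def n197957 : Q := act 6 n108795
theorem D197957 : act 6 n108795 = n197957 := rfl
theorem F406275 : act 2 n197957 = n124312 := d3_1 D197957 (iv6 F405509) F405504
theorem F406276 : act 7 n197957 = n124311 := d14_2 D108795 D197957 F406236 (iv7 D197934) F168711
theorem F406277 : act 0 n197957 = n122591 := d21_4 (iv5 D197717) (iv1 F168445) (iv5 F168715) D197957 (iv6 D122591) (iv5 D56907) (iv1 F55842) D76908 (iv6 F343784) (iv1 F405498)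
theorem F406278 : act 1 n197957 = n124313 := d15_1 (iv0 F406277) (iv7 D124313) (iv2 F196334)
def n197958 : Q := act 3 n108796
theorem D197958 : act 3 n108796 = n197958 := rfl
theorem F406279 : act 4 n197958 = n113593 := d5_2 (iv4 F168716) D197958 F176751 F82775 (iv3 F82772)
theorem F406280 : act 6 n197958 = n140416 := d7_2 F168719 D197958 F223569
theorem F406281 : act 7 n197958 = n113576 := d8_2 (iv7 F168718) D197958 F176733
theorem F406282 : act 5 n190432 = n197958 := d12_5 F406280 F377744 (iv6 D101436) D101435 (iv6 F379754)
def n197959 : Q := act 5 n108796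
theorem D197959 : act 5 n108796 = n197959 := rfl
theorem F406283 : act 3 n197959 = n190432 := d6_1 D197959 F406282 (iv3 D197958)
theorem F406284 : act 6 n197959 = n193289 := d12_2 F168719 D197959 (iv5 D193289) F377745 F223572
theorem F406285 : act 7 n197959 = n113577 := d13_2 (iv7 F168718) D197959 (iv5 D113577)
theorem F406286 : act 0 n197959 = n109991 := d17_2 D108796 D197959 (iv5 D109991) (iv4 D50732) (iv5 F48244) (iv0 F163899) (iv5 F79453) F79457 D50230
theorem F406287 : act 1 n197959 = n141965 := d17_6 F173119 F173118 (iv1 F171566) F164172 (iv4 F168716) D197959 F343768 F172745 (iv4 F98198)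
theorem F406288 : act 0 n193289 = n162293 := d21_4 (iv5 D108798) D108796 D197959 F406284 (iv6 D162293) (iv5 D77965) F56251 D76807 D160267 F343777
def n197960 : Q := act 5 n108797
theorem D197960 : act 5 n108797 = n197960 := rfl
theorem F406289 : act 3 n197960 = n108798 := d6_1 D197960 (iv5 D108798) D108797
def n197961 : Q := act 5 n108799
theorem D197961 : act 5 n108799 = n197961 := rfl
theorem F406290 : act 2 n197961 = n133288 := d2_1 D197961 (iv5 D133288) (iv2 F168721)
theorem F406291 : act 7 n197961 = n134353 := d13_2 (iv7 F168722) D197961 F216351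
theorem F406292 : act 0 n197961 = n134355 := d17_2 (iv1 F329461) D197961 F216353 (iv4 F164171) F164172 F164681 F164675 F167601 (iv4 F329153)
theorem F406293 : act 1 n197961 = n134051 := d17_6 (iv1 F163900) (iv5 D24497) D24495 D50231 D108799 D197961 (iv5 D134051) F168435 (iv4 D63591)
def n197962 : Q := act 4 n108802
theorem D197962 : act 4 n108802 = n197962 := rfl
theorem F406294 : act 0 n197962 = n124260 := d18_2 (iv1 F168728) D197962 (iv4 F198773) F362789 F172735 F81038 D51467 F168439 D51498
theorem F406295 : act 1 n197962 = n111590 := d18_6 (iv1 F168447) F168443 (iv1 F79456) D50234 D108802 D197962 (iv4 D111590) (iv0 F168713) (iv5 D108786)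
def n197963 : Q := act 6 n108802
theorem D197963 : act 6 n108802 = n197963 := rfl
theorem F406296 : act 3 n197963 = n162235 := d7_1 D197963 (iv6 D162235) (iv3 F326833)
def n197964 : Q := act 3 n108806
theorem D197964 : act 3 n108806 = n197964 := rfl
theorem F406297 : act 7 n197964 = n134292 := d8_2 F202512 D197964 (iv3 D134292)
def n197965 : Q := act 6 n108806
theorem D197965 : act 6 n108806 = n197965 := rfl
theorem F406298 : act 2 n197965 = n134291 := d3_1 D197965 (iv6 D134291) (iv2 F202513)
theorem F406299 : act 4 n197965 = n196062 := d10_1 D197965 (iv6 D196062) (iv4 F168748)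
theorem F406300 : act 5 n197965 = n134198 := d21_6 F329637 (iv1 F329642) (iv5 D50243) (iv6 F79587) D108806 D197965 (iv1 D134198) (iv5 D63041) (iv6 D29820) (iv1 F47967)
theorem F406301 : act 0 n116118 = n197965 := d21_4 (iv5 F329465) D138279 F329662 (iv6 F180905) (iv6 D197965) (iv5 F328925) (iv1 F343842) (iv5 F343844) F173153 (iv1 F98752)
theorem F406302 : act 0 n136194 = n194038 := d20_4 F406299 F399259 (iv4 D136195) D136194 F391834 F219098 (iv1 F203061) (iv4 F360190) F360188 F406301
theorem F406303 : act 1 n116125 = n197965 := d15_0 (iv0 F406301) (iv7 F217394) F217392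
theorem F406304 : act 3 n143080 = n197965 := d20_9 (iv4 D116125) (iv1 F164738) (iv4 F325100) (iv3 D59614) F45797 D30495 D64888 D138095 F344612 (iv1 F406303)
theorem F406305 : act 6 n197964 = n143080 := d7_0 F406304 (iv6 D197965) D197964
def n197966 : Q := act 3 n108807
theorem D197966 : act 3 n108807 = n197966 := rfl
theorem F406306 : act 4 n197966 = n188751 := d5_2 (iv4 F171568) D197966 (iv3 F374716) F203297 (iv3 F203294)
theorem F406307 : act 6 n197966 = n193335 := d7_2 F327855 D197966 (iv3 F389495)
theorem F406308 : act 7 n197966 = n134289 := d8_2 (iv7 F202509) D197966 (iv3 D134289)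
theorem F406309 : act 0 n197966 = n134598 := d20_4 F216062 (iv1 F171567) (iv4 F171568) D197966 F216579 F98486 F333830 F94030 (iv3 F325098) (iv1 F216065)
theorem F406310 : act 2 n197966 = n193348 := d15_3 (iv0 F389542) (iv0 F364208) (iv7 F406308)
theorem F406311 : act 0 n188767 = n197966 := d20_1 (iv4 F374781) F406306 (iv3 F374716) (iv1 D115179) (iv3 F179342) F179343 D135754 (iv4 F359588) F229747 F177213
def n197967 : Q := act 0 n108808
theorem D197967 : act 0 n108808 = n197967 := rfl
theorem F406312 : act 6 n197967 = n137159 := d21_5 (iv5 F336386) (iv1 F198103) (iv5 F329776) (iv6 F168741) D197967 F221251 (iv1 F220510) F345466 F349681 (iv1 F216001)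
theorem F406313 : act 1 n195015 = n197967 := d15_0 (iv0 D197967) (iv7 F394052) (iv2 F395423)
theorem F406314 : act 7 n197967 = n193176 := d15_2 (iv0 F395426) F406313 F389060
theorem F406315 : act 3 n137162 = n197967 := d8_3 F406314 F389061 F345435
def n197968 : Q := act 0 n108809
theorem D197968 : act 0 n108809 = n197968 := rfl
theorem F406316 : act 5 n197968 = n111598 := d17_3 (iv1 D108807) D108809 D197968 (iv4 F173148) F168452 (iv0 D52423) (iv5 F77829) D106595 (iv4 F171568)
theorem F406317 : act 2 n134294 = n197968 := d15_3 (iv0 D197968) (iv0 F386060) (iv7 F386062)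
theorem F406318 : act 1 n134297 = n197968 := d15_0 (iv0 D197968) (iv7 F394043) (iv2 F394044)
theorem F406319 : act 7 n197968 = n134295 := d15_2 F386061 F406318 (iv2 F386058)
def n197969 : Q := act 4 n108809
theorem D197969 : act 4 n108809 = n197969 := rfl
theorem F406320 : act 2 n197969 = n134296 := d1_1 D197969 (iv4 D134296) (iv2 F168742)
theorem F406321 : act 6 n197969 = n111759 := d10_2 (iv6 F362799) D197969 (iv4 F363105)
def n197970 : Q := act 6 n108811
theorem D197970 : act 6 n108811 = n197970 := rfl
theorem F406322 : act 2 n197970 = n136929 := d3_1 D197970 (iv6 F394447) (iv2 F394448)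
theorem F406323 : act 3 n197970 = n108813 := d7_1 D197970 (iv6 D108813) D108811
theorem F406324 : act 4 n197970 = n134464 := d10_1 D197970 (iv6 D134464) (iv4 F168751)
theorem F406325 : act 5 n197970 = n186631 := d12_1 D197970 F367502 F358617 (iv6 F368692) (iv5 F368697)
theorem F406326 : act 7 n197970 = n136930 := d14_2 (iv7 F168752) D197970 F353314 (iv7 D108520) (iv6 F80576)
theorem F406327 : act 0 n136920 = n197970 := d21_4 (iv5 F100515) (iv1 F99477) D64361 D136920 (iv6 D197970) F368697 F368695 (iv5 D137374) (iv6 D64575) D64572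
theorem F406328 : act 1 n136932 = n197970 := d15_0 (iv0 F406327) (iv7 F390259) F390257
theorem F406329 : act 0 n134807 = n137977 := d20_4 (iv4 D63152) (iv1 F48103) (iv4 F98642) (iv3 F216920) (iv3 F390331) F390329 F371117 (iv4 F406324) F406323 (iv1 F168762)
theorem F406330 : act 1 n134807 = n138000 := d15_1 (iv0 F406329) (iv7 D138000) (iv2 F221232)
def n197971 : Q := act 5 n108813
theorem D197971 : act 5 n108813 = n197971 := rfl
theorem F406331 : act 2 n197971 = n134217 := d2_1 D197971 (iv5 D134217) (iv2 F168759)
theorem F406332 : act 3 n197971 = n186631 := d6_1 D197971 (iv5 F406325) F406323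
theorem F406333 : act 6 n197971 = n123905 := d12_2 D108813 D197971 (iv5 D123905) (iv6 F341479) (iv5 D108812)
theorem F406334 : act 7 n197971 = n197628 := d13_2 (iv7 F168761) D197971 (iv5 D197628)
theorem F406335 : act 0 n193832 = n134459 := d21_10 (iv5 D134459) (iv1 F168763) D197971 F406333 F362806 (iv6 D88264) D88263 (iv1 F356393) (iv5 F290112) D193832
theorem F406336 : act 1 n193832 = n134454 := d15_1 (iv0 F406335) (iv7 F217391) F217390
def n197972 : Q := act 3 n108815
theorem D197972 : act 3 n108815 = n197972 := rfl
theorem F406337 : act 5 n197972 = n154386 := d6_2 (iv5 F329957) D197972 F242457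
theorem F406338 : act 7 n197972 = n134224 := d8_2 (iv7 F354989) D197972 (iv3 D134224)
theorem F406339 : act 6 n191286 = n197972 := d12_0 F406337 (iv6 D154386) D154385 F354908 D191286
def n197973 : Q := act 6 n108815
theorem D197973 : act 6 n108815 = n197973 := rfl
theorem F406340 : act 2 n197973 = n134222 := d3_1 D197973 (iv6 D134222) (iv2 F354988)
theorem F406341 : act 3 n197973 = n191286 := d7_1 D197973 F406339 (iv3 D197972)
theorem F406342 : act 5 n197973 = n154391 := d12_1 D197973 (iv6 D154391) (iv5 D73132) D73133 (iv5 F329957)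
theorem F406343 : act 0 n197973 = n134453 := d21_10 F349424 F352430 (iv5 D94814) (iv6 D44295) D44292 (iv6 F328768) (iv5 F329135) F339651 (iv5 F329957) D197973
def n197974 : Q := act 7 n108818
theorem D197974 : act 7 n108818 = n197974 := rfl
theorem F406344 : act 2 n197974 = n134288 := d4_1 D197974 (iv7 D134288) (iv2 F168773)
theorem F406345 : act 5 n197974 = n123856 := d13_1 D197974 F362802 F362801
theorem F406346 : act 6 n197974 = n134245 := d14_1 D197974 (iv7 D134245) (iv6 D63061) (iv7 F79605) D108818
theorem F406347 : act 1 n120463 = n197974 := d15_1 (iv0 F357152) (iv7 D197974) F168773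
theorem F406348 : act 1 n197974 = n134285 := d15_1 F406347 (iv7 F357151) (iv2 F355566)
theorem F406349 : act 0 n177893 = n123852 := d17_2 (iv1 F363033) F364405 (iv5 D123852) (iv4 D57714) D57715 D123856 (iv5 F406345) F406348 (iv4 F364408)
def n197975 : Q := act 5 n108820
theorem D197975 : act 5 n108820 = n197975 := rfl
theorem F406350 : act 2 n197975 = n108836 := d2_1 D197975 (iv5 D108836) (iv2 F168776)
theorem F406351 : act 3 n197975 = n147055 := d6_1 D197975 F335059 (iv3 F356023)
theorem F406352 : act 6 n197975 = n147380 := d12_2 D108820 D197975 F402919 (iv6 D197072) F165992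
theorem F406353 : act 7 n197975 = n147051 := d13_2 F171178 D197975 (iv5 F353503)
def n197976 : Q := act 1 n108822
theorem D197976 : act 1 n108822 = n197976 := rfl
theorem F406354 : act 1 n197976 = n126686 := d15_1 D197976 (iv7 F357040) F357038
theorem F406355 : act 7 n197976 = n126685 := d15_2 (iv0 F401105) D197976 F401107
theorem F406356 : act 4 n197976 = n136753 := d17_9 (iv1 F350877) F223105 F351329 (iv5 D179271) F351321 D115577 F357072 (iv5 F168786) D197976
theorem F406357 : act 2 n126684 = n197976 := d1_3 F406356 (iv2 F359754) F357044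
def n197977 : Q := act 5 n108823
theorem D197977 : act 5 n108823 = n197977 := rfl
theorem F406358 : act 2 n197977 = n139632 := d2_1 D197977 (iv5 D139632) (iv2 F168788)
theorem F406359 : act 6 n197977 = n115669 := d12_2 D108823 D197977 F359985 (iv6 D53349) F79619
theorem F406360 : act 7 n197977 = n141066 := d13_2 F168792 D197977 (iv5 D141066)
def n197978 : Q := act 4 n108829
theorem D197978 : act 4 n108829 = n197978 := rfl
theorem F406361 : act 2 n197978 = n140403 := d1_1 D197978 (iv4 F352237) (iv2 F344739)
theorem F406362 : act 0 n197978 = n180649 := d18_2 D108829 D197978 F281187 (iv5 F338764) F214316 (iv0 D133325) (iv4 F166245) (iv0 F344734) (iv5 D108832)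
def n197979 : Q := act 4 n108830
theorem D197979 : act 4 n108830 = n197979 := rfl
theorem F406363 : act 7 n197979 = n140403 := d11_2 (iv7 F344747) D197979 (iv4 F352237)
theorem F406364 : act 1 n197979 = n180649 := d18_6 F98731 (iv4 F48810) (iv1 F102179) D107211 (iv5 F344746) D197979 F281187 F338757 F320720
theorem F406365 : act 3 n197979 = n113573 := d20_9 F101594 (iv1 F94219) D113586 (iv3 F176748) (iv1 F168479) (iv3 F167982) F341849 (iv1 F341854) D197979 (iv1 F176726)
def n197980 : Q := act 6 n108830
theorem D197980 : act 6 n108830 = n197980 := rfl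
theorem F406366 : act 3 n197980 = n177508 := d7_1 D197980 (iv6 F339186) F344748
theorem F406367 : act 5 n197980 = n177663 := d12_1 D197980 F362009 (iv5 F346514) (iv6 F346512) (iv5 F344746)
def n197981 : Q := act 0 n108833
theorem D197981 : act 0 n108833 = n197981 := rfl
theorem F406368 : act 5 n197981 = n119365 := d21_8 F334168 F315334 (iv5 F344163) (iv6 D147681) (iv1 F231434) F346271 F346272 D197981 F331679 D134667
theorem F406369 : act 2 n124655 = n197981 := d2_3 F406368 F206155 (iv5 F363189)
theorem F406370 : act 6 n134673 = n197981 := d12_0 F406368 F331679 (iv5 D63276) D63277 D134673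
theorem F406371 : act 7 n178538 = n197981 := d13_0 F406368 (iv7 F206154) D178538
theorem F406372 : act 1 n116695 = n197981 := d17_6 D54932 F315965 (iv1 D74688) F53857 (iv4 F84792) D116695 F406368 (iv0 D119365) (iv4 D54934)
theorem F406373 : act 1 n124655 = n166334 := d15_0 F352225 F406371 (iv2 F406369)
def n197982 : Q := act 1 n108833
theorem D197982 : act 1 n108833 = n197982 := rfl
theorem F406374 : act 1 n197982 = n116695 := d15_1 D197982 (iv7 F352224) F352222
theorem F406375 : act 7 n197982 = n124655 := d15_2 (iv0 D197981) D197982 F406369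
theorem F406376 : act 5 n197982 = n119366 := d17_7 F317983 (iv5 F317987) D118917 F186981 D154977 F346272 D197982 F188014 F130353
theorem F406377 : act 3 n124649 = n197982 := d19_19 (iv1 D197982) (iv5 F346272) (iv4 D154977) F313435 (iv1 F103106) F309988 F307998 F78756 F308190 (iv5 D34266) F27062 (iv3 F27060) D34260 (iv5 F53921) (iv4 F95219) F327832 D98558 D191570 F383870
theorem F406378 : act 6 n152485 = n197982 := d21_3 F403532 F347790 (iv5 F239663) (iv1 D197982) (iv6 D108833) D108832 F344734 (iv5 F330500) (iv6 F402996) (iv1 F403534)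
theorem F406379 : act 2 n197982 = n178538 := d3_1 F406378 (iv6 F351724) (iv2 F351726)
def n197983 : Q := act 7 n108833
theorem D197983 : act 7 n108833 = n197983 := rfl
theorem F406380 : act 2 n197983 = n116695 := d4_1 D197983 (iv7 F352224) F352222
theorem F406381 : act 3 n197983 = n108837 := d8_1 D197983 (iv7 D108837) (iv3 F168810)
theorem F406382 : act 4 n197983 = n108873 := d11_1 D197983 (iv7 D108873) (iv4 F168811)
theorem F406383 : act 5 n197983 = n116664 := d13_1 D197983 (iv7 F346269) F346272
theorem F406384 : act 6 n197983 = n163960 := d14_1 D197983 F258421 (iv6 F359831) F167936 D108833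
theorem F406385 : act 1 n178538 = n197983 := d15_1 F352225 (iv7 D197983) (iv2 F352222)
theorem F406386 : act 1 n197983 = n124655 := d15_1 F406385 (iv7 F406375) F406379
def n197984 : Q := act 1 n108834
theorem D197984 : act 1 n108834 = n197984 := rfl
theorem F406387 : act 1 n197984 = n147379 := d15_1 D197984 (iv7 F402920) F402916
theorem F406388 : act 4 n196530 = n197984 := d20_0 (iv1 D197984) F168812 F330592 (iv1 D65542) (iv3 F101270) F101271 D65568 D139693 (iv3 F349401) (iv1 F400978)
theorem F406389 : act 5 n197984 = n188570 := d19_1 (iv1 F406387) F374016 (iv3 D92514) F290701 (iv5 F151046) F151045 (iv3 F150989) (iv1 F150992) (iv5 F136204) (iv4 F289354) (iv3 F378892) F378893 (iv5 F287608) (iv4 F364814) F242541 (iv1 F353737) (iv5 F231112) (iv4 D147398) (iv3 F231095)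
theorem F406390 : act 3 n188571 = n197984 := d6_3 F406389 (iv3 D188570) D188571
def n197985 : Q := act 5 n108834
theorem D197985 : act 5 n108834 = n197985 := rfl
theorem F406391 : act 2 n197985 = n147380 := d2_1 D197985 F402919 F402916
theorem F406392 : act 3 n197985 = n147668 := d6_1 D197985 (iv5 F344159) (iv3 F362473)
theorem F406393 : act 6 n197985 = n108836 := d12_2 D108834 D197985 (iv5 D108836) (iv6 D50253) D50252
theorem F406394 : act 7 n197985 = n147372 := d13_2 F362474 D197985 (iv5 F364895)
theorem F406395 : act 1 n147378 = n197985 := d15_1 D147378 F406394 F231089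
theorem F406396 : act 0 n147377 = n197985 := d21_4 (iv5 D38585) (iv1 F59394) (iv5 F128713) (iv6 F354819) F406393 (iv5 D108836) D108835 (iv5 F353495) (iv6 D175315) (iv1 D83720)
def n197986 : Q := act 0 n108836
theorem D197986 : act 0 n108836 = n197986 := rfl
theorem F406397 : act 5 n197986 = n125989 := d17_3 F80451 D108836 D197986 F202668 (iv5 F162041) (iv0 D105531) F76858 (iv0 F39820) (iv4 F80450)
theorem F406398 : act 3 n175991 = n197986 := d6_3 F406397 (iv3 F345557) (iv5 F345554)
theorem F406399 : act 6 n175372 = n197986 := d12_0 F406397 (iv6 D125989) D125988 F403108 F403103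
theorem F406400 : act 0 n197986 = n147051 := d21_7 F325961 (iv1 F257969) (iv5 F326796) F202663 (iv1 F202661) D125989 (iv5 F406397) (iv5 F353503) F327417 F326782
theorem F406401 : act 7 n197986 = n178363 := d8_2 (iv7 F336000) F406398 (iv3 D178363)
def n197987 : Q := act 1 n108836
theorem D197987 : act 1 n108836 = n197987 := rfl
theorem F406402 : act 1 n197987 = n147051 := d15_1 D197987 (iv7 F406353) F406350
theorem F406403 : act 5 n126019 = n197987 := d21_0 (iv1 D197987) (iv5 D108836) (iv6 D50253) (iv1 F39838) D50905 D110391 F337180 (iv5 F363258) (iv6 F341659) F363261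
theorem F406404 : act 2 n178363 = n197987 := d15_3 F406402 (iv0 F406400) F406401
def n197988 : Q := act 4 n108836
theorem D197988 : act 4 n108836 = n197988 := rfl
theorem F406405 : act 3 n197988 = n143382 := d5_1 D197988 F226138 (iv3 F313435) D154977 (iv3 F362042)
theorem F406406 : act 7 n143377 = n197988 := d8_0 F406405 (iv7 D143382) (iv3 F226133)
def n197989 : Q := act 7 n108836
theorem D197989 : act 7 n108836 = n197989 := rfl
theorem F406407 : act 2 n197989 = n147051 := d4_1 D197989 (iv7 F406353) F406350
theorem F406408 : act 3 n197989 = n116664 := d8_1 D197989 (iv7 F346269) (iv3 F362042)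
theorem F406409 : act 4 n197989 = n143377 := d11_1 D197989 F406406 (iv4 D197988)
theorem F406410 : act 5 n197989 = n108837 := d13_1 D197989 (iv7 D108837) D108836
theorem F406411 : act 6 n197989 = n116663 := d14_1 D197989 F182019 D147372 (iv7 F406394) F406393
def n197990 : Q := act 2 n108840
theorem D197990 : act 2 n108840 = n197990 := rfl
theorem F406412 : act 3 n197990 = n126783 := d0_2 D108840 D197990 (iv2 D126783) (iv3 D59495) (iv2 F79634)
theorem F406413 : act 4 n197990 = n108844 := d1_2 (iv4 F168835) D197990 (iv2 D108844)
theorem F406414 : act 5 n197990 = n136222 := d2_2 (iv5 F168836) D197990 (iv2 D136222)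
theorem F406415 : act 7 n197990 = n126694 := d4_2 (iv7 F168837) D197990 (iv2 D126694)
theorem F406416 : act 1 n197990 = n126692 := d15_0 (iv0 D126692) (iv7 F168837) D197990
theorem F406417 : act 1 n126693 = n197990 := d15_0 F406416 (iv7 F220871) (iv2 F220879)
theorem F406418 : act 0 n188799 = n154020 := d21_4 (iv5 F406414) (iv1 F406417) (iv5 F220880) (iv6 F374943) (iv6 D154020) (iv5 F109366) (iv1 F240144) (iv5 F345931) (iv6 D137660) (iv1 F219251)
def n197991 : Q := act 6 n108840
theorem D197991 : act 6 n108840 = n197991 := rfl
theorem F406419 : act 3 n197991 = n108841 := d7_1 D197991 (iv6 D108841) D108840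
theorem F406420 : act 4 n197991 = n108845 := d10_1 D197991 (iv6 D108845) (iv4 F168835)
theorem F406421 : act 5 n184337 = n197991 := d21_8 (iv5 D137697) F329588 F294517 (iv6 D48260) (iv1 F75833) D104245 F159846 D184337 (iv6 D197991) F220872
theorem F406422 : act 7 n137233 = n197991 := d11_0 F406420 (iv7 F402496) F402493
def n197992 : Q := act 5 n108841
theorem D197992 : act 5 n108841 = n197992 := rfl
theorem F406423 : act 2 n197992 = n126785 := d2_1 D197992 (iv5 D126785) (iv2 F168838)
theorem F406424 : act 3 n197992 = n184337 := d6_1 D197992 F406421 F406419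
theorem F406425 : act 6 n197992 = n136227 := d12_2 D108841 D197992 (iv5 D136227) (iv6 D64045) (iv5 F79636)
theorem F406426 : act 7 n197992 = n137234 := d13_2 F168842 D197992 (iv5 D137234)
theorem F406427 : act 1 n197992 = n137627 := d17_6 F221063 F221062 (iv1 F173560) F161398 (iv4 F168839) D197992 (iv5 D137627) D137626 (iv4 F220779)
def n197993 : Q := act 6 n108842
theorem D197993 : act 6 n108842 = n197993 := rfl
theorem F406428 : act 2 n197993 = n193292 := d3_1 D197993 F389405 F220314
theorem F406429 : act 3 n197993 = n115845 := d7_1 D197993 (iv6 D115845) (iv3 F168843)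
theorem F406430 : act 4 n197993 = n193160 := d10_1 D197993 F388981 (iv4 F220313)
theorem F406431 : act 0 n197993 = n193306 := d21_4 D64724 D137690 (iv5 F220864) D197993 F389429 (iv5 F404929) (iv1 F405187) (iv5 D197647) F327347 (iv1 D64723)
theorem F406432 : act 0 n140451 = n197993 := d21_4 F360808 (iv1 F369628) F369630 (iv6 F352704) (iv6 D197993) F220864 (iv1 F394327) (iv5 D194745) (iv6 D104280) (iv1 F156186)
theorem F406433 : act 7 n193294 = n197993 := d11_0 F406430 F388984 D193294
def n197994 : Q := act 3 n108843
theorem D197994 : act 3 n108843 = n197994 := rfl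
theorem F406434 : act 2 n197994 = n115826 := d0_1 D197994 (iv3 D115826) F180245 D66057 (iv2 F220317)
theorem F406435 : act 4 n197994 = n194381 := d5_2 F218715 D197994 F392995 (iv4 D135958) D135957
theorem F406436 : act 7 n197994 = n140730 := d8_2 F220315 D197994 F223827
theorem F406437 : act 0 n197994 = n140729 := d19_4 (iv1 F349666) (iv5 F220885) F218715 D197994 F339974 F205560 D157732 (iv1 F338610) (iv5 D114593) F313961 F49947 (iv1 F41202) D53897 F313906 D61470 F163954 (iv5 F95953) D131028 F349667
theorem F406438 : act 1 n197994 = n140428 := d15_1 (iv0 F406437) (iv7 F402522) F402518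
def n197995 : Q := act 0 n108846
theorem D197995 : act 0 n108846 = n197995 := rfl
theorem F406439 : act 5 n197995 = n140682 := d17_3 F100431 D108846 D197995 (iv4 D140682) (iv5 D66006) (iv0 D30883) (iv5 D14624) D14623 D30882
theorem F406440 : act 3 n196844 = n197995 := d6_3 F406439 (iv3 F388212) F402027
theorem F406441 : act 6 n196842 = n197995 := d12_0 F406439 F223771 D197557 F404815 (iv5 F402014)
theorem F406442 : act 7 n141991 = n197995 := d13_0 F406439 F223772 D141991
theorem F406443 : act 4 n140656 = n197995 := d16_4 D66009 D140684 (iv4 F404061) (iv5 F405738) F406439 (iv4 D140682) (iv5 D66006) (iv7 F102433) F102432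
theorem F406444 : act 1 n140663 = n197995 := d17_6 F217018 F217016 (iv1 F168860) (iv5 F162136) F162135 D140663 F406439 F400538 F400535
theorem F406445 : act 3 n193416 = n140656 := d5_5 F406443 (iv3 F406440) F402025 F271686 (iv4 F389782)
def n197996 : Q := act 1 n108846
theorem D197996 : act 1 n108846 = n197996 := rfl
theorem F406446 : act 1 n197996 = n140663 := d15_1 D197996 (iv7 F396901) F396900
theorem F406447 : act 4 n197996 = n140657 := d17_9 (iv1 D140657) D140659 F405730 F405629 (iv4 D140671) (iv5 D65999) (iv0 F82150) D108846 D197996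
theorem F406448 : act 5 n140685 = n197996 := d21_6 D30849 (iv1 F98546) (iv5 D63315) D63316 (iv1 F166198) (iv6 F223775) (iv1 D197996) (iv5 D108846) (iv6 D50260) F38494
theorem F406449 : act 2 n197996 = n141991 := d2_1 F406448 (iv5 D141991) (iv2 F223774)
def n197997 : Q := act 4 n108846
theorem D197997 : act 4 n108846 = n197997 := rfl
def n197998 : Q := act 7 n108846
theorem D197998 : act 7 n108846 = n197998 := rfl
theorem F406450 : act 2 n197998 = n140663 := d4_1 D197998 (iv7 F396901) F396900
theorem F406451 : act 5 n197998 = n108847 := d13_1 D197998 (iv7 D108847) D108846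
theorem F406452 : act 1 n141991 = n197998 := d15_1 (iv0 F396902) (iv7 D197998) (iv2 F396900)
def n197999 : Q := act 3 n108851
theorem D197999 : act 3 n108851 = n197999 := rfl
theorem F406453 : act 4 n197999 = n109744 := d5_2 D108851 D197999 F354551 (iv4 F161397) F161396
theorem F406454 : act 6 n197999 = n108853 := d7_2 (iv6 F168855) D197999 (iv3 D108853)
def n198000 : Q := act 0 n108853
theorem D198000 : act 0 n108853 = n198000 := rfl
theorem F406455 : act 3 n198000 = n110127 := d20_5 (iv4 D51098) F38976 D50265 D108853 D198000 (iv4 D110127) (iv1 F170940) (iv4 F81086) (iv3 D51365) (iv1 F80610)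
theorem F406456 : act 4 n198000 = n191063 := d20_8 (iv4 D51610) (iv1 D25068) (iv4 F39312) (iv3 D25050) D25048 D51562 (iv4 F168861) D198000 (iv3 F382056) (iv1 F173837)
theorem F406457 : act 1 n111385 = n198000 := d15_0 (iv0 D198000) F168862 D111385
theorem F406458 : act 2 n111384 = n198000 := d1_3 F406456 F382057 F220428
theorem F406459 : act 6 n197879 = n198000 := d10_0 F406456 F382058 (iv4 F406090)
theorem F406460 : act 7 n110224 = n198000 := d11_0 F406456 F382059 F365922
def n198001 : Q := act 1 n108853
theorem D198001 : act 1 n108853 = n198001 := rfl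
theorem F406461 : act 7 n198001 = n111384 := d15_2 (iv0 D198000) D198001 F406458
theorem F406462 : act 4 n198001 = n191062 := d18_7 D97190 D191055 F382021 (iv4 F354555) F169904 (iv4 F168861) D198001 (iv0 D191062) (iv5 D97192)
theorem F406463 : act 2 n110224 = n198001 := d1_3 F406462 (iv2 F382060) F365922
theorem F406464 : act 0 n111385 = n198001 := d20_1 (iv4 F172874) F406462 F382062 (iv1 F173584) F100456 F94394 (iv1 F105420) (iv4 F320060) F320059 (iv1 F173615)
def n198002 : Q := act 2 n108853
theorem D198002 : act 2 n108853 = n198002 := rfl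
theorem F406465 : act 3 n198002 = n111379 := d0_2 D108853 D198002 (iv2 D111379) (iv3 D51368) (iv2 F79644)
theorem F406466 : act 4 n198002 = n111823 := d1_2 (iv4 F168861) D198002 (iv2 D111823)
theorem F406467 : act 7 n198002 = n111385 := d4_2 (iv7 F168862) D198002 (iv2 D111385)
theorem F406468 : act 1 n198002 = n110224 := d15_0 (iv0 F170388) (iv7 F168862) D198002
theorem F406469 : act 1 n111384 = n198002 := d15_0 F406468 F406460 (iv2 F406458)
def n198003 : Q := act 1 n108855
theorem D198003 : act 1 n108855 = n198003 := rfl
def n198004 : Q := act 2 n108855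
theorem D198004 : act 2 n108855 = n198004 := rfl
theorem F406470 : act 3 n198004 = n111906 := d0_2 D108855 D198004 F325160 (iv3 F325296) F175548
theorem F406471 : act 5 n198004 = n192701 := d2_2 F372507 D198004 (iv2 F387531)
theorem F406472 : act 4 n198004 = n111908 := d16_0 (iv5 F353327) (iv4 F196499) (iv5 F350736) (iv4 F389687) F389685 (iv4 F387523) (iv5 F405458) F405459 D198004
theorem F406473 : act 6 n177786 = n198004 := d10_0 F406472 F359238 (iv4 F359241)
def n198005 : Q := act 4 n108855
theorem D198005 : act 4 n108855 = n198005 := rfl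
theorem F406474 : act 2 n198005 = n111908 := d1_1 D198005 (iv4 F406472) (iv2 D198004)
theorem F406475 : act 3 n198005 = n189946 := d5_1 D198005 F378333 (iv3 F373705) (iv4 D108856) D108855
theorem F406476 : act 7 n198005 = n137269 := d11_2 F405459 D198005 (iv4 F405457)
theorem F406477 : act 1 n198005 = n137270 := d18_6 (iv1 F372492) (iv4 F370879) (iv1 F370883) D188159 F372507 D198005 (iv4 F223458) F400137 F400135
theorem F406478 : act 0 n198005 = n111797 := d20_7 (iv4 D24486) (iv1 F18895) D11599 D24517 D50266 D108855 D198005 F173532 (iv3 D106857) F78066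
theorem F406479 : act 5 n189945 = n198005 := d18_9 F406478 F173532 D196270 F400140 (iv5 F378007) (iv4 F378004) F373090 F368335 F378331
theorem F406480 : act 6 n191986 = n198005 := d21_3 F387874 (iv1 F289648) D191986 F406478 (iv6 F365578) (iv5 F365634) (iv1 D172107) (iv5 D82423) (iv6 F126976) D172085
def n198006 : Q := act 6 n108855
theorem D198006 : act 6 n108855 = n198006 := rfl
theorem F406481 : act 2 n198006 = n177786 := d3_1 D198006 F406473 (iv2 D198004)
theorem F406482 : act 3 n198006 = n108858 := d7_1 D198006 (iv6 D108858) D108855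
theorem F406483 : act 4 n198006 = n191986 := d10_1 D198006 F406480 (iv4 D198005)
theorem F406484 : act 7 n178116 = n198006 := d11_0 F406483 (iv7 F395030) F395032
theorem F406485 : act 0 n178114 = n198006 := d18_2 D104758 (iv4 F378077) F406483 (iv5 D191986) F153224 (iv0 F292390) F292393 (iv0 D48436) D48438
theorem F406486 : act 1 n178115 = n198006 := d18_6 F380926 F380923 F361764 (iv4 F147768) (iv5 F148367) F359243 F406483 F395107 F395103
theorem F406487 : act 5 n170873 = n157888 := d21_2 D81916 D170873 (iv6 F378078) F406485 (iv6 D198006) (iv5 F372507) (iv1 F384656) F384655 (iv6 D170871) (iv1 D81914)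
def n198007 : Q := act 6 n108856
theorem D198007 : act 6 n108856 = n198007 := rfl
theorem F406488 : act 2 n198007 = n125287 := d3_1 D198007 F201494 (iv2 F325293)
theorem F406489 : act 3 n198007 = n165635 := d7_1 D198007 F373706 (iv3 F373705)
theorem F406490 : act 4 n198007 = n108858 := d10_1 D198007 (iv6 D108858) D108856
theorem F406491 : act 7 n198007 = n165647 := d14_2 (iv7 F325295) D198007 F306734 (iv7 F199102) F339276
theorem F406492 : act 5 n198007 = n172152 := d21_6 F317879 D154980 (iv5 F337695) F331719 (iv1 F345345) D198007 (iv1 F339282) (iv5 D125355) (iv6 F330646) (iv1 D124627)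
theorem F406493 : act 0 n198007 = n165646 := d21_10 (iv5 F348593) (iv1 F348591) F184558 (iv6 F115703) (iv1 F331730) (iv6 F341234) F204204 (iv1 F100484) (iv5 F325294) D198007
theorem F406494 : act 0 n164025 = n198007 := d21_4 (iv5 F322722) (iv1 F348616) (iv5 F339506) D164025 (iv6 D198007) F325294 (iv1 D64538) D64539 (iv6 F338716) (iv1 D120978)
def n198008 : Q := act 4 n108857
theorem D198008 : act 4 n108857 = n198008 := rfl
theorem F406495 : act 5 n198008 = n195544 := d16_1 D198008 (iv4 D195544) (iv5 D105669) (iv4 F102075) (iv5 F323136) (iv4 D108861) D108862 (iv7 F359821) F359819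
theorem F406496 : act 0 n198008 = n129483 := d18_2 (iv1 F362469) D198008 (iv4 F405834) (iv5 D197800) F330495 D137316 (iv4 F330497) (iv0 D108626) D108629
theorem F406497 : act 1 n198008 = n129134 := d18_8 F95321 F46497 D28862 D60848 D129489 F330984 (iv0 F344742) D198008 (iv5 D129134)
def n198009 : Q := act 4 n108862
theorem D198009 : act 4 n108862 = n198009 := rfl
theorem F406498 : act 0 n198009 = n129134 := d17_0 (iv5 D129134) F95321 D60845 D129486 (iv5 F330527) (iv0 D108626) D108629 F362468 D198009
theorem F406499 : act 1 n198009 = n129483 := d18_8 F207360 (iv4 D129122) (iv1 D60703) (iv4 F95294) D129120 F330983 F362468 D198009 (iv5 D129483)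
def n198010 : Q := act 6 n108862
theorem D198010 : act 6 n108862 = n198010 := rfl
theorem F406500 : act 3 n198010 = n111422 := d7_1 D198010 (iv6 F343158) F170974
theorem F406501 : act 5 n197763 = n198010 := d6_0 F406500 F172905 D197763
def n198011 : Q := act 1 n108863
theorem D198011 : act 1 n108863 = n198011 := rfl
theorem F406502 : act 1 n198011 = n177500 := d15_1 D198011 (iv7 F405464) F405461
theorem F406503 : act 7 n198011 = n177499 := d15_2 (iv0 F406048) D198011 (iv2 F406050)
theorem F406504 : act 2 n177498 = n198011 := d4_3 F406503 (iv2 F406050) F406047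
def n198012 : Q := act 5 n108863
theorem D198012 : act 5 n108863 = n198012 := rfl
theorem F406505 : act 2 n198012 = n174182 := d2_1 D198012 F405466 F405461
theorem F406506 : act 3 n198012 = n111302 := d6_1 D198012 F341342 (iv3 F366059)
theorem F406507 : act 6 n198012 = n197763 := d12_2 D108863 D198012 F406501 (iv6 D198010) (iv5 D108862)
theorem F406508 : act 7 n198012 = n111531 := d13_2 (iv7 F366061) D198012 F341340
theorem F406509 : act 0 n198012 = n160445 := d21_7 D160457 (iv1 F253458) F250820 (iv6 F341850) (iv1 F167986) D108863 D198012 F353987 (iv6 D124295) (iv1 F115549)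
theorem F406510 : act 4 n112125 = n198012 := d20_6 (iv4 D83133) F326188 (iv4 F81643) F81642 D51707 D112125 F406509 (iv4 F298038) (iv3 D158852) (iv1 F298035)
def n198013 : Q := act 4 n108864
theorem D198013 : act 4 n108864 = n198013 := rfl
theorem F406511 : act 2 n198013 = n108868 := d1_1 D198013 (iv4 D108868) (iv2 F168866)
theorem F406512 : act 6 n198013 = n197676 := d10_2 (iv6 F372898) D198013 (iv4 D197676)
def n198014 : Q := act 5 n108865
theorem D198014 : act 5 n108865 = n198014 := rfl
theorem F406513 : act 2 n198014 = n108872 := d2_1 D198014 (iv5 D108872) (iv2 F168867)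
theorem F406514 : act 3 n198014 = n178902 := d6_1 D198014 (iv5 F405537) F405535
theorem F406515 : act 6 n198014 = n139624 := d12_2 D108865 D198014 F372901 (iv6 F372898) (iv5 D108864)
theorem F406516 : act 4 n198014 = n178908 := d16_2 (iv4 F353072) D198014 F348491 F247130 F112085 (iv4 F182023) (iv5 F406383) (iv7 D197983) (iv2 F352222)
theorem F406517 : act 0 n198014 = n178224 := d17_2 (iv1 F353071) D198014 (iv5 D178224) F130024 (iv5 F122669) (iv0 F334088) (iv5 D166437) F194263 (iv4 F336515)
def n198015 : Q := act 7 n108865
theorem D198015 : act 7 n108865 = n198015 := rfl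
theorem F406518 : act 2 n198015 = n108873 := d4_1 D198015 (iv7 D108873) (iv2 F168867)
theorem F406519 : act 3 n198015 = n181234 := d8_1 D198015 F405540 F405535
theorem F406520 : act 4 n198015 = n116695 := d11_1 D198015 (iv7 F352224) (iv4 F353072)
theorem F406521 : act 6 n198015 = n121270 := d14_1 D198015 (iv7 F254245) (iv6 F341850) F167983 D108865
theorem F406522 : act 1 n108871 = n198015 := d15_1 D108871 (iv7 D198015) F168867
theorem F406523 : act 1 n198015 = n108870 := d15_1 F406522 (iv7 F352217) (iv2 F353060)
def n198016 : Q := act 3 n108866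
theorem D198016 : act 3 n108866 = n198016 := rfl
theorem F406524 : act 2 n198016 = n188348 := d0_1 D198016 F404947 (iv2 F404945) F405477 (iv2 F405478)
theorem F406525 : act 4 n198016 = n187628 := d5_2 (iv4 F362479) D198016 F371043 F218572 F361160
theorem F406526 : act 5 n198016 = n108986 := d6_2 (iv5 F362480) D198016 (iv3 D108986)
theorem F406527 : act 7 n198016 = n188357 := d8_2 (iv7 F362481) D198016 F373171
def n198017 : Q := act 6 n108866
theorem D198017 : act 6 n108866 = n198017 := rfl
theorem F406528 : act 4 n198017 = n129812 := d10_1 D198017 (iv6 F361163) (iv4 F362479)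
def n198018 : Q := act 6 n108867
theorem D198018 : act 6 n108867 = n198018 := rfl
def n198019 : Q := act 0 n108868
theorem D198019 : act 0 n108868 = n198019 := rfl
theorem F406529 : act 5 n198019 = n126870 := d17_1 D198019 (iv1 D126870) D126872 (iv4 F405597) (iv5 D197740) F168507 (iv5 F362480) (iv0 D108866) D108868
def n198020 : Q := act 6 n108868
theorem D198020 : act 6 n108868 = n198020 := rfl
theorem F406530 : act 2 n198020 = n197676 := d3_1 D198020 (iv6 F406512) F406511
theorem F406531 : act 4 n198020 = n108869 := d10_1 D198020 (iv6 D108869) D108868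
theorem F406532 : act 7 n197674 = n198020 := d11_0 F406531 F388634 D197674
theorem F406533 : act 0 n134263 = n198020 := d20_10 F406531 F361295 (iv4 F388469) (iv3 D192996) (iv1 F347624) (iv3 D129843) (iv4 F97755) F97756 (iv4 F98386) (iv3 F216287)
def n198021 : Q := act 3 n108870
theorem D198021 : act 3 n108870 = n198021 := rfl
theorem F406534 : act 2 n198021 = n123482 := d0_1 D198021 (iv3 D123482) F121549 (iv3 F122653) (iv2 F352215)
theorem F406535 : act 4 n174662 = n198021 := d1_0 F406534 F197896 D174662
def n198022 : Q := act 5 n108870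
theorem D198022 : act 5 n108870 = n198022 := rfl
theorem F406536 : act 2 n198022 = n166444 := d2_1 D198022 (iv5 D166444) (iv2 F352215)
theorem F406537 : act 4 n198022 = n119433 := d9_1 D198022 (iv5 F188394) F186977 F317987 (iv4 F181820) F319972 (iv4 F353062) (iv5 F359304) (iv4 F359308) (iv5 F359309) (iv4 D157091) (iv5 F315965) D119361 F321874 (iv4 F352216)
theorem F406538 : act 7 n198022 = n175007 := d13_2 F352217 D198022 F352220
theorem F406539 : act 0 n198022 = n119344 := d17_2 D108870 D198022 F337720 (iv4 F277776) F337722 F188018 (iv5 F406368) (iv0 D197981) F168811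
theorem F406540 : act 1 n198022 = n178523 := d17_6 D84830 D178231 (iv1 F331713) F321874 (iv4 F352216) D198022 (iv5 F337717) (iv0 D178221) F130024
def n198023 : Q := act 6 n108870
theorem D198023 : act 6 n108870 = n198023 := rfl
theorem F406541 : act 2 n198023 = n124409 := d3_1 D198023 F305790 (iv2 F352215)
theorem F406542 : act 4 n198023 = n166441 := d10_1 D198023 (iv6 D166441) (iv4 F352216)
theorem F406543 : act 7 n198023 = n173980 := d14_2 F352217 D198023 F336513 F173369 D111458
theorem F406544 : act 3 n196848 = n198023 := d20_5 F351067 F356739 (iv4 D107404) (iv3 F165436) D196848 F406542 F334111 (iv4 F272621) (iv3 F346369) (iv1 F172331)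
theorem F406545 : act 6 n198021 = n196848 := d7_0 F406544 (iv6 D198023) D198021
def n198024 : Q := act 7 n108872
theorem D198024 : act 7 n108872 = n198024 := rfl
theorem F406546 : act 3 n198024 = n108886 := d8_1 D198024 (iv7 D108886) (iv3 F168869)
theorem F406547 : act 5 n198024 = n108873 := d13_1 D198024 (iv7 D108873) D108872
def n198025 : Q := act 1 n108876
theorem D198025 : act 1 n108876 = n198025 := rfl
theorem F406548 : act 4 n198025 = n197424 := d17_9 (iv1 F404221) F359220 (iv1 F359216) (iv5 F245443) (iv4 F404842) F404843 (iv0 D108874) D108876 D198025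
theorem F406549 : act 2 n197406 = n198025 := d1_3 F406548 (iv2 D197424) (iv4 F404167)
def n198026 : Q := act 7 n108876
theorem D198026 : act 7 n108876 = n198026 := rfl
theorem F406550 : act 3 n198026 = n139623 := d8_1 D198026 (iv7 F366694) F361293
theorem F406551 : act 5 n198026 = n108877 := d13_1 D198026 (iv7 D108877) D108876
theorem F406552 : act 1 n197406 = n198026 := d15_1 F405563 (iv7 D198026) (iv2 F405560)
def n198027 : Q := act 2 n108878
theorem D198027 : act 2 n108878 = n198027 := rfl
theorem F406553 : act 3 n198027 = n180112 := d0_2 D108878 D198027 (iv2 F351715) (iv3 D140421) F101602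
theorem F406554 : act 4 n198027 = n189861 := d1_2 F174131 D198027 F378028
theorem F406555 : act 1 n198027 = n178238 := d15_0 (iv0 F331242) (iv7 F172878) D198027
theorem F406556 : act 1 n194827 = n198027 := d15_0 F406555 (iv7 F393422) (iv2 F394634)
def n198028 : Q := act 5 n108878
theorem D198028 : act 5 n108878 = n198028 := rfl
theorem F406557 : act 3 n198028 = n108879 := d6_1 D198028 (iv5 D108879) D108878
def n198029 : Q := act 6 n108878
theorem D198029 : act 6 n108878 = n198029 := rfl
theorem F406558 : act 3 n198029 = n108880 := d7_1 D198029 (iv6 D108880) D108878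
theorem F406559 : act 7 n198029 = n197999 := d14_2 (iv7 F172878) D198029 F406454 F168862 D111387
def n198030 : Q := act 0 n108879
theorem D198030 : act 0 n108879 = n198030 := rfl
theorem F406560 : act 5 n198030 = n111772 := d17_3 D50272 D108879 D198030 F173459 F81292 F80873 (iv5 F49342) (iv0 D24520) (iv4 F38496)
theorem F406561 : act 1 n108882 = n198030 := d15_0 (iv0 D198030) (iv7 F172881) F172880
theorem F406562 : act 1 n111772 = n109013 := d17_8 F223594 F202428 (iv1 D110820) F80597 (iv4 F81208) D108882 F406561 F406560 F223596
theorem F406563 : act 3 n177056 = n198030 := d19_19 (iv1 F406561) (iv5 D108882) F81208 F80308 F38753 (iv5 F24474) (iv4 F49688) (iv3 F103651) (iv1 F322545) (iv5 F319474) F342269 F248278 F248103 (iv5 D157465) F324909 (iv3 F324149) F299182 (iv5 F300029) (iv4 F276466)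
theorem F406564 : act 2 n198030 = n178521 := d0_1 F406563 (iv3 D178521) (iv2 F187936) (iv3 F350964) F312869
def n198031 : Q := act 1 n108879
theorem D198031 : act 1 n108879 = n198031 := rfl
theorem F406565 : act 1 n198031 = n108882 := d15_1 D198031 (iv7 F223575) F223574
theorem F406566 : act 7 n198031 = n178521 := d15_2 (iv0 D198030) D198031 (iv2 F406564)
theorem F406567 : act 3 n178523 = n198031 := d8_3 F406566 (iv3 D178521) D178523
def n198032 : Q := act 4 n108879
theorem D198032 : act 4 n108879 = n198032 := rfl
def n198033 : Q := act 6 n108879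
theorem D198033 : act 6 n108879 = n198033 := rfl
def n198034 : Q := act 0 n108881
theorem D198034 : act 0 n108881 = n198034 := rfl
theorem F406568 : act 1 n180112 = n198034 := d15_0 (iv0 D198034) (iv7 F223573) F351715
def n198035 : Q := act 1 n108881
theorem D198035 : act 1 n108881 = n198035 := rfl
theorem F406569 : act 1 n198035 = n180112 := d15_1 D198035 (iv7 F383282) F383280
def n198036 : Q := act 4 n108882
theorem D198036 : act 4 n108882 = n198036 := rfl
def n198037 : Q := act 3 n108883
theorem D198037 : act 3 n108883 = n198037 := rfl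
theorem F406570 : act 7 n198037 = n197851 := d8_2 F405568 D198037 F406025
def n198038 : Q := act 4 n108883
theorem D198038 : act 4 n108883 = n198038 := rfl
def n198039 : Q := act 3 n108884
theorem D198039 : act 3 n108884 = n198039 := rfl
theorem F406571 : act 5 n198039 = n180178 := d6_2 F405671 D198039 (iv3 F405669)
def n198040 : Q := act 4 n108884
theorem D198040 : act 4 n108884 = n198040 := rfl
def n198041 : Q := act 6 n108884
theorem D198041 : act 6 n108884 = n198041 := rfl
theorem F406572 : act 2 n198041 = n197848 := d3_1 D198041 (iv6 F406017) (iv2 F405570)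
theorem F406573 : act 3 n192948 = n198041 := d0_0 F406572 (iv3 D197848) F405999 F396888 F406005
theorem F406574 : act 6 n198039 = n192948 := d7_0 F406573 (iv6 D198041) D198039
def n198042 : Q := act 1 n108885
theorem D198042 : act 1 n108885 = n198042 := rfl
def n198043 : Q := act 3 n108885
theorem D198043 : act 3 n108885 = n198043 := rfl
def n198044 : Q := act 5 n108885
theorem D198044 : act 5 n108885 = n198044 := rfl
theorem F406575 : act 4 n198044 = n139387 := d16_2 D108885 D198044 F222596 F101113 (iv5 F79467) (iv4 F168491) (iv5 F405578) (iv7 D197735) F168489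
theorem F406576 : act 7 n139386 = n198044 := d11_0 F406575 (iv7 D139387) D139386
def n198045 : Q := act 7 n108885
theorem D198045 : act 7 n108885 = n198045 := rfl
theorem F406577 : act 4 n198045 = n108886 := d11_1 D198045 (iv7 D108886) D108885
theorem F406578 : act 5 n198045 = n139386 := d13_1 D198045 F406576 (iv5 D198044)
theorem F406579 : act 1 n115332 = n198045 := d15_1 F405575 (iv7 D198045) (iv2 F405572)
theorem F406580 : act 0 n178224 = n198024 := d20_4 F79356 D50116 F341276 (iv3 F277779) F406546 (iv4 F406577) (iv1 F406579) F179625 F101659 F79357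
def n198046 : Q := act 6 n108886
theorem D198046 : act 6 n108886 = n198046 := rfl
theorem F406581 : act 5 n198046 = n124312 := d12_1 D198046 (iv6 F405509) F405506 F168444 (iv5 F168874)
def n198047 : Q := act 3 n108887
theorem D198047 : act 3 n108887 = n198047 := rfl
theorem F406582 : act 7 n198047 = n140351 := d8_2 (iv7 F168877) D198047 F223459
theorem F406583 : act 0 n194829 = n198047 := d20_4 (iv4 F331240) (iv1 D104625) D104626 D194829 (iv3 D198047) (iv4 F168878) (iv1 F101538) (iv4 F81102) (iv3 F172876) F331242
def n198048 : Q := act 5 n108887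
theorem D198048 : act 5 n108887 = n198048 := rfl
theorem F406584 : act 2 n198048 = n140420 := d2_1 D198048 F223572 F168875
theorem F406585 : act 7 n198048 = n140352 := d13_2 (iv7 F168877) D198048 (iv5 D140352)
theorem F406586 : act 0 n198048 = n140418 := d17_2 D108887 D198048 (iv5 F405680) F405679 F168563 F79652 (iv5 F79467) F79470 D50276
theorem F406587 : act 1 n198048 = n138486 := d17_6 F203153 F203152 (iv1 F171678) F171673 F168878 D198048 F351212 (iv0 F202429) (iv4 F202427)
theorem F406588 : act 4 n140418 = n198042 := d18_1 F406586 (iv1 D198042) (iv4 D108885) (iv5 D50274) F38496 D24521 D50277 F168876 D198048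
theorem F406589 : act 2 n198042 = n115332 := d1_1 F406588 F179625 (iv2 F351308)
theorem F406590 : act 6 n198042 = n115330 := d10_2 (iv6 F351309) F406588 F179622
theorem F406591 : act 6 n193288 = n198048 := d3_0 F406584 (iv6 F377745) D193288
def n198049 : Q := act 0 n108889
theorem D198049 : act 0 n108889 = n198049 := rfl
theorem F406592 : act 5 n198049 = n111763 := d17_3 F79651 D108889 D198049 (iv4 F222469) (iv5 F223577) (iv0 D140423) (iv5 D65911) (iv0 D30843) (iv4 F49301)
theorem F406593 : act 1 n108891 = n198049 := d15_0 (iv0 D198049) (iv7 F172865) F172864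
def n198050 : Q := act 1 n108889
theorem D198050 : act 1 n108889 = n198050 := rfl
theorem F406594 : act 1 n198050 = n108891 := d15_1 D198050 (iv7 F405584) F405583
def n198051 : Q := act 4 n108889
theorem D198051 : act 4 n108889 = n198051 := rfl
theorem F406595 : act 6 n198051 = n115479 := d10_2 F400250 D198051 (iv4 F400249)
theorem F406596 : act 3 n198051 = n115482 := d19_3 F79651 D108889 D198051 (iv1 F245405) (iv5 F359504) F359503 D185032 F382976 F332658 (iv4 D92777) D92776 F143098 (iv5 F83016) (iv4 F176551) (iv3 F399448) F399451 (iv5 D127366) (iv4 F101596) F101595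
def n198052 : Q := act 1 n108890
theorem D198052 : act 1 n108890 = n198052 := rfl
theorem F406597 : act 3 n180690 = n198052 := d20_3 F352216 F331717 (iv4 F281223) (iv1 D198052) (iv3 D108890) (iv4 D50277) (iv1 D24521) (iv4 F38496) (iv3 F79649) D108870
theorem F406598 : act 6 n198052 = n180688 := d7_2 D180690 F406597 (iv3 D180688)
def n198053 : Q := act 5 n108890
theorem D198053 : act 5 n108890 = n198053 := rfl
theorem F406599 : act 3 n198053 = n108891 := d6_1 D198053 (iv5 D108891) D108890
theorem F406600 : act 0 n196996 = n198053 := d19_0 (iv5 D198053) (iv4 F173024) (iv3 D111492) F171702 F336688 F111767 F53637 (iv1 F26181) (iv5 F38715) (iv4 F80243) (iv3 F325045) (iv1 D58235) (iv5 D27742) D27741 (iv3 F131604) F188398 D54958 D119434 (iv3 F402612)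
def n198054 : Q := act 4 n108891
theorem D198054 : act 4 n108891 = n198054 := rfl
def n198055 : Q := act 6 n108891
theorem D198055 : act 6 n108891 = n198055 := rfl
theorem F406601 : act 2 n198055 = n138770 := d3_1 D198055 (iv6 F345429) F172864
theorem F406602 : act 5 n198055 = n111631 := d12_1 D198055 (iv6 D111631) F81265 F80964 D108891
def n198056 : Q := act 5 n108892
theorem D198056 : act 5 n108892 = n198056 := rfl
theorem F406603 : act 2 n198056 = n139389 := d2_1 D198056 (iv5 D139389) (iv2 F168880)
theorem F406604 : act 7 n198056 = n139393 := d13_2 (iv7 F168881) D198056 (iv5 D139393)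
theorem F406605 : act 1 n198056 = n138637 := d17_6 (iv1 F80877) (iv5 F79769) F101241 (iv5 F81223) D108892 D198056 (iv5 D138637) F172387 F172386
theorem F406606 : act 0 n198056 = n138635 := d21_1 D198056 (iv5 D138635) F172380 (iv1 F171741) (iv6 D51133) D51132 F80654 F49391 D53457 F168882
theorem F406607 : act 6 n139458 = n177981 := d21_3 (iv5 D198056) (iv1 F168888) (iv5 F222649) (iv1 D177981) (iv6 D84721) (iv5 F123442) F123443 (iv5 F301754) F343233 (iv1 F406605)
def n198057 : Q := act 3 n108893
theorem D198057 : act 3 n108893 = n198057 := rfl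
theorem F406608 : act 4 n198057 = n140485 := d5_2 D108893 D198057 (iv3 D140485) (iv4 D65940) (iv3 F168261)
theorem F406609 : act 6 n198057 = n191670 := d7_2 F217182 D198057 F384099
theorem F406610 : act 7 n198057 = n139388 := d8_2 (iv7 F168885) D198057 (iv3 D139388)
theorem F406611 : act 0 n198057 = n139317 := d21_4 (iv5 D98623) D98621 D191670 (iv6 F406609) (iv6 D139317) D139316 (iv1 F357508) (iv5 D141133) D141134 F357511
theorem F406612 : act 1 n196275 = n140485 := d17_8 F406611 F386222 (iv1 D192255) (iv5 F367263) (iv4 F375230) (iv5 F395001) F394996 (iv5 F400158) (iv4 F406608)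
theorem F406613 : act 1 n140485 = n194920 := d15_1 F406612 F395008 (iv2 F400156)
theorem F406614 : act 1 n198057 = n192823 := d18_8 D192821 F387901 (iv1 D185311) D185312 (iv5 F388315) (iv4 F400157) F406612 (iv4 F406608) (iv5 D192823)
def n198058 : Q := act 5 n108893
theorem D198058 : act 5 n108893 = n198058 := rfl
theorem F406615 : act 2 n198058 = n139393 := d2_1 D198058 (iv5 D139393) (iv2 F168884)
theorem F406616 : act 6 n198058 = n135206 := d12_2 F217182 D198058 (iv5 D135206) D135207 F329632
theorem F406617 : act 7 n198058 = n139389 := d13_2 (iv7 F168885) D198058 (iv5 D139389)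
theorem F406618 : act 0 n198058 = n138637 := d17_2 (iv1 F168887) D198058 (iv5 D138637) (iv4 F171628) (iv5 F202428) (iv0 F223594) (iv5 D140425) F171676 F171672
theorem F406619 : act 1 n198058 = n138635 := d17_6 D30569 D65099 F168566 F168563 D108893 D198058 (iv5 D138635) (iv0 D65092) F48989
def n198059 : Q := act 3 n108894
theorem D198059 : act 3 n108894 = n198059 := rfl
theorem F406620 : act 4 n198059 = n139649 := d5_2 F171670 D198059 (iv3 D139649) (iv4 F182848) (iv3 F182849)
theorem F406621 : act 7 n198059 = n139382 := d8_2 (iv7 F171928) D198059 (iv3 D139382)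
def n198060 : Q := act 5 n108894
theorem D198060 : act 5 n108894 = n198060 := rfl
theorem F406622 : act 2 n198060 = n139380 := d2_1 D198060 (iv5 D139380) F171929
theorem F406623 : act 7 n198060 = n139383 := d13_2 (iv7 F171928) D198060 (iv5 D139383)
theorem F406624 : act 0 n198060 = n138643 := d17_2 D108894 D198060 (iv5 D138643) (iv4 D65098) D65099 (iv0 F100888) (iv5 F81223) (iv0 D50278) D50280
theorem F406625 : act 1 n198060 = n124046 := d17_6 D140423 F223577 F222470 F202185 F171670 D198060 F336654 F172407 F172406
theorem F406626 : act 6 n139387 = n185184 := d21_3 (iv5 D198060) (iv1 F168896) (iv5 F222596) (iv1 D185184) F337945 F308331 F301690 (iv5 F196259) D124046 (iv1 F406625)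
def n198061 : Q := act 6 n108894
theorem D198061 : act 6 n108894 = n198061 := rfl
theorem F406627 : act 2 n198061 = n139381 := d3_1 D198061 (iv6 D139381) F171929
theorem F406628 : act 4 n198061 = n110920 := d10_1 D198061 F171934 F171670
theorem F406629 : act 7 n198061 = n139608 := d14_2 (iv7 F171928) D198061 F224314 (iv7 F223603) F223602
theorem F406630 : act 0 n198061 = n139350 := d21_4 (iv5 F336654) (iv1 F406625) (iv5 D198060) D198061 (iv6 D139350) D139349 (iv1 F336649) F294641 F335382 (iv1 F172407)
theorem F406631 : act 5 n198061 = n139307 := d21_6 D59541 F93965 (iv5 D50283) (iv6 F79654) D108894 D198061 (iv1 D139307) (iv5 D65381) (iv6 D30662) (iv1 F45776)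
theorem F406632 : act 0 n138336 = n198061 := d21_4 D126879 (iv1 F343815) F343816 D138336 (iv6 D198061) D198060 F406624 (iv5 D138643) (iv6 F181191) F181193
def n198062 : Q := act 0 n108896
theorem D198062 : act 0 n108896 = n198062 := rfl
def n198063 : Q := act 1 n108896
theorem D198063 : act 1 n108896 = n198063 := rfl
theorem F406633 : act 3 n139943 = n198063 := d20_3 F341127 (iv1 F333257) F334971 (iv1 D198063) (iv3 D108896) (iv4 D50280) D50278 D108892 (iv3 F227158) (iv1 F341125)
def n198064 : Q := act 2 n108896
theorem D198064 : act 2 n108896 = n198064 := rfl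
theorem F406634 : act 3 n198064 = n139366 := d0_2 D108896 D198064 F222585 F101112 (iv2 F79653)
theorem F406635 : act 6 n198064 = n108901 := d3_2 (iv6 F168891) D198064 (iv2 D108901)
def n198065 : Q := act 5 n108896
theorem D198065 : act 5 n108896 = n198065 := rfl
theorem F406636 : act 3 n198065 = n108897 := d6_1 D198065 (iv5 D108897) D108896
def n198066 : Q := act 7 n108896
theorem D198066 : act 7 n108896 = n198066 := rfl
theorem F406637 : act 3 n198066 = n108898 := d8_1 D198066 (iv7 D108898) D108896
theorem F406638 : act 6 n198066 = n139419 := d14_1 D198066 (iv7 D139419) (iv6 D65435) (iv7 F79661) (iv6 F168891)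
def n198067 : Q := act 0 n108897
theorem D198067 : act 0 n108897 = n198067 := rfl
theorem F406639 : act 5 n198067 = n111231 := d17_3 (iv1 D108895) D108897 D198067 (iv4 F223467) (iv5 D140353) (iv0 D65879) (iv5 F80616) F165729 (iv4 F168890)
theorem F406640 : act 2 n139385 = n198067 := d15_3 (iv0 D198067) (iv0 F172405) F222594
theorem F406641 : act 3 n198067 = n185168 := d0_2 (iv3 F352341) F406640 F287509 F135173 (iv2 F134622)
theorem F406642 : act 6 n198067 = n183865 := d3_2 (iv6 F352342) F406640 (iv2 D183865)
theorem F406643 : act 7 n198067 = n111230 := d4_2 F222594 F406640 F172519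
theorem F406644 : act 1 n139387 = n198067 := d15_1 F222597 F406643 F172519
def n198068 : Q := act 4 n108897
theorem D198068 : act 4 n108897 = n198068 := rfl
theorem F406645 : act 2 n198068 = n139386 := d1_1 D198068 (iv4 D139386) (iv2 F168892)
def n198069 : Q := act 6 n108897
theorem D198069 : act 6 n108897 = n198069 := rfl
theorem F406646 : act 2 n198069 = n139377 := d3_1 D198069 F222589 (iv2 F168892)
theorem F406647 : act 5 n198069 = n108903 := d12_1 D198069 (iv6 D108903) (iv5 D50283) (iv6 F79654) D108897
def n198070 : Q := act 7 n108897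
theorem D198070 : act 7 n108897 = n198070 := rfl
theorem F406648 : act 2 n198070 = n139387 := d4_1 D198070 (iv7 D139387) (iv2 F168892)
theorem F406649 : act 5 n198070 = n108898 := d13_1 D198070 (iv7 D108898) D108897
theorem F406650 : act 1 n111230 = n198070 := d15_1 (iv0 F172520) (iv7 D198070) F168892
theorem F406651 : act 1 n198070 = n139385 := d15_1 F406650 (iv7 F222594) (iv2 F172519)
def n198071 : Q := act 4 n108899
theorem D198071 : act 4 n108899 = n198071 := rfl
theorem F406652 : act 2 n198071 = n139407 := d1_1 D198071 (iv4 D139407) F205140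
theorem F406653 : act 7 n198071 = n139404 := d11_2 F205142 D198071 (iv4 D139404)
theorem F406654 : act 5 n198071 = n116199 := d18_4 (iv1 D195344) F162054 D108899 D198071 (iv4 D116199) D116197 (iv4 F396826) F396830 (iv5 F396774)
theorem F406655 : act 3 n198071 = n195429 := d20_9 F401183 F347248 F162007 (iv3 D48796) D48794 D105534 F162054 D108899 D198071 F401186
theorem E103715 : n136893 = n136873 := ((c5_4 (iv4 D198071) F220060 (iv4 D136874) D136873 (iv4 F396988) (iv3 F406655))).symm
theorem F406656 : act 1 n136873 = n64352 := (sb E103715 (iv0 D136893))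
theorem F406657 : act 4 n136873 = n195429 := (sb E103715 (iv4 F396988))
def n198072 : Q := act 5 n108899
theorem D198072 : act 5 n108899 = n198072 := rfl
theorem F406658 : act 2 n198072 = n134009 := d2_1 D198072 F353543 F205140
theorem F406659 : act 6 n198072 = n133586 := d12_2 F366484 D198072 (iv5 D133586) D133587 (iv5 F366483)
theorem F406660 : act 7 n198072 = n114639 := d13_2 F205142 D198072 F349983
theorem F406661 : act 4 n198072 = n114640 := d16_2 (iv4 D198071) D198072 F178738 F313962 (iv5 F94954) (iv4 F206656) (iv5 F349981) F227217 (iv2 F406652)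
theorem F406662 : act 0 n198072 = n134007 := d17_2 D108899 D198072 (iv5 D134007) (iv4 F215916) (iv5 F364295) F363488 (iv5 F396768) (iv0 D195343) F162054
theorem F406663 : act 1 n198072 = n115921 := d17_6 F397111 (iv5 F397112) (iv1 F349996) (iv5 F406654) (iv4 D198071) D198072 (iv5 D115921) D115919 (iv4 F180475)
theorem F406664 : act 4 n134007 = n119210 := d18_1 F406662 (iv1 D119210) D119211 F362383 F396771 (iv0 F396775) F222606 F168901 D198072
theorem F406665 : act 2 n119210 = n134010 := d1_1 F406664 (iv4 D134010) (iv2 F215939)
def n198073 : Q := act 5 n108900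
theorem D198073 : act 5 n108900 = n198073 := rfl
theorem F406666 : act 2 n198073 = n114639 := d2_1 D198073 F349983 (iv2 F205141)
theorem F406667 : act 3 n198073 = n139932 := d6_1 D198073 (iv5 D139932) F182577
theorem F406668 : act 4 n198073 = n114593 := d9_1 D198073 (iv5 D114593) F313961 F315683 D116199 (iv5 F406654) (iv4 D198071) D198072 F406661 F178738 F313962 (iv5 F94954) (iv4 F206656) (iv5 F349981) F227216
theorem F406669 : act 6 n198073 = n114603 := d12_2 F349995 D198073 (iv5 F335351) F177426 (iv5 F349994)
theorem F406670 : act 7 n198073 = n134009 := d13_2 (iv7 F205139) D198073 F353543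
theorem F406671 : act 0 n198073 = n115921 := d17_2 (iv1 F168905) D198073 (iv5 D115921) (iv4 F162168) (iv5 F396824) F396830 (iv5 F396774) (iv0 F396775) F222606
theorem F406672 : act 1 n198073 = n134007 := d17_8 (iv1 D119210) (iv5 D54857) D54855 D119204 F354594 (iv5 D108902) D108900 D198073 F406664
def n198074 : Q := act 5 n108901
theorem D198074 : act 5 n108901 = n198074 := rfl
theorem F406673 : act 2 n198074 = n108902 := d2_1 D198074 (iv5 D108902) D108901
theorem F406674 : act 3 n198074 = n139365 := d6_1 D198074 (iv5 D139365) (iv3 F168902)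
theorem F406675 : act 4 n198074 = n145078 := d9_1 D198074 (iv5 D145078) (iv4 D68002) D68003 (iv4 F347169) (iv5 D139397) F101143 D65434 D139414 F357966 (iv4 D67997) D67998 D145066 F396783 F396779
theorem F406676 : act 7 n198074 = n139410 := d13_2 (iv7 F168903) D198074 (iv5 D139410)
theorem F406677 : act 6 n198074 = n192794 := d21_3 F349983 (iv1 F168904) D198074 F387813 (iv6 D155510) (iv5 D73963) D73960 (iv5 F331644) (iv6 D134011) (iv1 F353534)
theorem F406678 : act 1 n139413 = n198074 := d15_1 D139413 F406676 F222624
theorem F406679 : act 1 n198074 = n139412 := d15_1 F406678 (iv7 F372574) (iv2 F372575)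
def n198075 : Q := act 0 n108903
theorem D198075 : act 0 n108903 = n198075 := rfl
theorem F406680 : act 6 n198075 = n123132 := d21_5 (iv5 D51102) F38992 D50283 D108903 D198075 F197316 (iv1 F90380) D57720 (iv6 F329928) (iv1 F80617)
theorem F406681 : act 5 n198075 = n178083 := d21_8 (iv5 F374105) (iv1 F374111) F353707 F352340 F172405 D198069 F406647 D198075 (iv6 F366914) (iv1 F198338)
theorem F406682 : act 2 n123895 = n198075 := d15_3 (iv0 D198075) F364223 (iv7 F198329)
theorem F406683 : act 7 n198075 = n123157 := d4_2 (iv7 F198329) F406682 F197360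
theorem F406684 : act 1 n124023 = n198075 := d15_1 D124023 F406683 F197360
def n198076 : Q := act 7 n108903
theorem D198076 : act 7 n108903 = n198076 := rfl
theorem F406685 : act 2 n198076 = n124023 := d4_1 D198076 F364224 (iv2 F168909)
theorem F406686 : act 3 n198076 = n188992 := d8_1 D198076 F375348 F372329
theorem F406687 : act 4 n198076 = n188994 := d11_1 D198076 F375356 F173049
theorem F406688 : act 6 n198076 = n139423 := d14_1 D198076 (iv7 D139423) (iv6 D65436) (iv7 F79663) D108903
theorem F406689 : act 1 n123157 = n198076 := d15_1 (iv0 F363014) (iv7 D198076) F168909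
theorem F406690 : act 1 n198076 = n123895 := d15_1 F406689 F198329 (iv2 F197360)
theorem F406691 : act 0 n152540 = n188098 := d20_10 (iv4 D188098) F349148 D188992 (iv3 F406686) (iv1 F406689) F364654 F178880 (iv1 F108446) D71944 D152540
theorem F406692 : act 1 n152540 = n157404 := d15_1 (iv0 F406691) (iv7 F364669) (iv2 F372322)
def n198077 : Q := act 4 n108904
theorem D198077 : act 4 n108904 = n198077 := rfl
theorem F406693 : act 2 n198077 = n109035 := d1_1 D198077 F169043 (iv2 F397276)
theorem F406694 : act 3 n198077 = n142506 := d5_1 D198077 (iv4 D142506) (iv3 F162256) D195538 F397275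
theorem F406695 : act 7 n198077 = n109132 := d11_2 (iv7 F397277) D198077 F169122
theorem F406696 : act 0 n198077 = n109134 := d20_1 D198077 F176412 (iv3 D113222) (iv1 D52263) (iv3 D25386) (iv4 D12071) (iv1 F36863) D24525 D50284 D108904
theorem F406697 : act 0 n109105 = n198077 := d20_10 (iv4 D198077) (iv1 F168910) (iv4 F168536) F168535 (iv1 F168508) F170034 F323987 F322514 (iv4 F169968) D109105
theorem F406698 : act 5 n153782 = n198077 := d2_0 F406693 (iv5 F355977) (iv2 F241637)
theorem E103716 : n197914 = n147931 := (c18_3 (iv1 D108769) D108770 D197914 (iv4 F241638) F406698 (iv4 D198077) (iv0 D108904) F79664 D50293 (iv5 F354403))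
theorem F406699 : act 1 n147931 = n108770 := (sb E103716 (iv0 D197914))
def n198078 : Q := act 6 n108904
theorem D198078 : act 6 n108904 = n198078 := rfl
theorem F406700 : act 2 n198078 = n125830 := d3_1 D198078 (iv6 D125830) (iv2 F397276)
theorem F406701 : act 3 n198078 = n128884 := d7_1 D198078 (iv6 F397272) F397275
theorem F406702 : act 7 n198078 = n113336 := d14_2 (iv7 F397277) D198078 (iv6 D113336) F355953 (iv6 F355940)
theorem F406703 : act 0 n113564 = n198078 := d21_4 F267332 F146877 D189791 F377765 (iv6 D198078) (iv5 F405950) (iv1 F405949) F356041 (iv6 F356039) (iv1 F330416)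
theorem F406704 : act 1 n130240 = n198078 := d15_0 (iv0 F406703) F343566 (iv2 F208756)
def n198079 : Q := act 3 n108905
theorem D198079 : act 3 n108905 = n198079 := rfl
theorem F406705 : act 6 n198079 = n113338 := d7_2 (iv6 F397279) D198079 (iv3 D113338)
theorem F406706 : act 7 n198079 = n125828 := d8_2 (iv7 F397280) D198079 (iv3 D125828)
theorem F406707 : act 0 n198079 = n125850 := d20_10 F202350 (iv1 F169472) (iv4 F202190) F202189 (iv1 F176405) D113222 (iv4 F176412) F405748 F405744 D198079
theorem F406708 : act 0 n125853 = n198079 := d20_4 F93242 (iv1 F323909) (iv4 F324004) (iv3 F202353) (iv3 D198079) (iv4 F405744) F405749 F169974 (iv3 D59056) D59054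
def n198080 : Q := act 5 n108906
theorem D198080 : act 5 n108906 = n198080 := rfl
theorem F406709 : act 2 n198080 = n108907 := d2_1 D198080 (iv5 D108907) D108906
theorem F406710 : act 3 n198080 = n125804 := d6_1 D198080 (iv5 D125804) (iv3 F168911)
theorem F406711 : act 7 n198080 = n125831 := d13_2 (iv7 F168913) D198080 (iv5 D125831)
theorem F406712 : act 4 n198080 = n125619 := d16_2 (iv4 F168912) D198080 (iv5 D125619) D125618 (iv5 F405645) (iv4 D197755) (iv5 D108641) F79487 D50294
theorem F406713 : act 1 n198080 = n125723 := d17_6 D50216 D108759 (iv1 F386120) (iv5 D108931) (iv4 F168912) D198080 F360431 (iv0 D108694) F79534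
theorem F406714 : act 0 n198080 = n125834 := d21_1 D198080 (iv5 F386117) F405937 (iv1 D195051) (iv6 D105203) (iv5 F93400) (iv1 F219116) (iv5 D126219) (iv6 F355940) (iv1 F168914)
def n198081 : Q := act 0 n108907
theorem D198081 : act 0 n108907 = n198081 := rfl
theorem F406715 : act 4 n198081 = n125865 := d18_3 D125720 F360418 D198081 (iv5 D125865) (iv4 F170465) (iv0 F202207) (iv4 D125710) (iv0 D58865) D58868
theorem F406716 : act 3 n198081 = n125735 := d20_5 F93097 F92986 F92918 (iv3 F168917) D198081 (iv4 F202340) (iv1 F360482) (iv4 D125773) F93116 (iv1 F93094)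
theorem F406717 : act 1 n125831 = n198081 := d15_0 (iv0 D198081) F168918 (iv2 F202334)
theorem F406718 : act 5 n198081 = n125666 := d17_7 D108616 F219105 (iv1 F405639) (iv5 D197753) F168536 D125831 F406717 (iv0 D125666) F93048
theorem F406719 : act 7 n125723 = n198081 := d8_0 F406716 (iv7 D125735) (iv3 F202219)
theorem E103717 : n197829 = n125666 := ((c13_2 F406719 F406718 (iv7 D197829) (iv5 F360431))).symm
theorem F406720 : act 2 n125666 = n108695 := (sb E103717 F405930)
theorem F406721 : act 7 n125666 = n108694 := (sb E103717 (iv7 D197829))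
theorem F406722 : act 2 n198081 = n125834 := d15_3 (iv0 F406714) F406713 F406719
theorem E103718 : n197827 = n125667 := (c15_4 F202152 F202147 F406721 D197827)
theorem F406723 : act 2 n125667 = n108694 := (sb E103718 (iv2 D197827))
theorem F406724 : act 7 n125667 = n108695 := (sb E103718 (iv7 F405928))
def n198082 : Q := act 1 n108907
theorem D198082 : act 1 n108907 = n198082 := rfl
theorem F406725 : act 1 n198082 = n125831 := d15_1 D198082 (iv7 F406711) F406709
theorem F406726 : act 7 n198082 = n125834 := d15_2 (iv0 D198081) D198082 (iv2 F406722)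
theorem F406727 : act 5 n198082 = n125667 := d17_7 (iv1 F168483) F219108 (iv1 D108934) (iv5 D50295) (iv4 F79664) D108907 D198082 F202152 F168631
theorem F406728 : act 2 n125723 = n198082 := d2_3 F406727 F406723 (iv5 F360431)
theorem F406729 : act 6 n125718 = n198082 := d21_5 (iv5 D58943) F81915 D112443 F360400 (iv1 F360420) F406727 (iv1 D125667) (iv5 F93157) (iv6 F356043) (iv1 D125874)
def n198083 : Q := act 6 n108907
theorem D198083 : act 6 n108907 = n198083 := rfl
theorem F406730 : act 3 n198083 = n108909 := d7_1 D198083 (iv6 D108909) (iv3 F168917)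
def n198084 : Q := act 0 n108908
theorem D198084 : act 0 n108908 = n198084 := rfl
def n198085 : Q := act 1 n108908
theorem D198085 : act 1 n108908 = n198085 := rfl
theorem F406731 : act 5 n198085 = n177558 := d17_7 D84579 D177549 F341639 (iv5 D162957) (iv4 F257224) F365216 D198085 (iv0 D177558) (iv4 D84582)
def n198086 : Q := act 4 n108911
theorem D198086 : act 4 n108911 = n198086 := rfl
theorem F406732 : act 2 n198086 = n125821 := d1_1 D198086 (iv4 D125821) (iv2 F168926)
theorem F406733 : act 5 n198086 = n145398 := d9_2 D108911 D198086 (iv4 D145398) (iv5 D68167) F78255 D52009 (iv4 F93138) (iv5 F202330) F330151 F365218 (iv4 D145404) (iv5 D68170) (iv4 F50038) (iv5 F39783) (iv4 F79669)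
def n198087 : Q := act 4 n108912
theorem D198087 : act 4 n108912 = n198087 := rfl
theorem F406734 : act 2 n198087 = n140652 := d1_1 D198087 (iv4 F342468) (iv2 F168928)
theorem F406735 : act 6 n198087 = n196252 := d10_2 (iv6 F168929) D198087 (iv4 D196252)
theorem F406736 : act 7 n198087 = n111120 := d11_2 (iv7 F168930) D198087 F172327
theorem F406737 : act 5 n198087 = n196990 := d17_5 (iv1 F39779) (iv5 F39783) D50287 D108912 D198087 F402580 (iv5 D107517) F83905 F78251
theorem F406738 : act 0 n198087 = n145441 := d17_0 F228475 (iv1 D107151) (iv5 D49503) F37877 D24166 D49510 (iv5 F163697) (iv0 F168931) D198087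
theorem F406739 : act 1 n198087 = n145438 := d18_6 (iv1 D27994) (iv4 F45263) D58873 F165565 D108912 D198087 (iv4 D145438) F104335 F80848
def n198088 : Q := act 3 n108914
theorem D198088 : act 3 n108914 = n198088 := rfl
theorem F406740 : act 4 n198088 = n189856 := d5_2 (iv4 F359844) D198088 F378009 F318901 (iv3 F359846)
theorem F406741 : act 7 n198088 = n170871 := d8_2 (iv7 F358825) D198088 (iv3 F358639)
theorem F406742 : act 1 n110150 = n198088 := d15_1 (iv0 F387538) F406741 (iv2 F387533)
theorem F406743 : act 1 n198088 = n108986 := d15_1 F406742 (iv7 F405587) F405585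
def n198089 : Q := act 5 n108914
theorem D198089 : act 5 n108914 = n198089 := rfl
theorem F406744 : act 2 n198089 = n197871 := d2_1 D198089 F406068 (iv2 F358827)
theorem F406745 : act 4 n198089 = n192787 := d9_1 D198089 F387773 F346438 (iv5 F346435) F347980 (iv5 F347988) F349852 (iv5 F372215) F372214 F318925 F105592 (iv5 F182677) F347977 D160737 (iv4 F359844)
theorem F406746 : act 7 n198089 = n187880 := d13_2 (iv7 F358825) D198089 F371754
theorem F406747 : act 0 n198089 = n108941 := d17_2 (iv1 F216950) D198089 F168946 F101578 D112567 (iv0 F352159) F352162 (iv0 F319456) (iv4 F216945)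
theorem F406748 : act 1 n198089 = n197870 := d17_6 (iv1 D160745) (iv5 D77122) D77120 D160737 (iv4 F359844) D198089 (iv5 D197870) F223525 F353654
def n198090 : Q := act 6 n108914
theorem D198090 : act 6 n108914 = n198090 := rfl
theorem F406749 : act 0 n198090 = n108950 := d21_10 F401908 (iv1 F401919) F346357 (iv6 D174158) (iv1 F271567) F365527 D197870 (iv1 F406748) (iv5 D198089) D198090
def n198091 : Q := act 4 n108918
theorem D198091 : act 4 n108918 = n198091 := rfl
theorem F406750 : act 2 n198091 = n136294 := d1_1 D198091 F223507 (iv2 F223509)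
theorem F406751 : act 3 n198091 = n110119 := d5_1 D198091 (iv4 D110119) (iv3 D50786) D50787 F170129
theorem F406752 : act 6 n198091 = n176838 := d10_2 (iv6 F365847) D198091 F365849
theorem F406753 : act 7 n198091 = n110205 := d11_2 (iv7 F170132) D198091 F170379
theorem F406754 : act 0 n198091 = n142440 := d20_1 D198091 (iv4 F405773) (iv3 D197780) (iv1 D108659) (iv3 D50173) F48114 (iv1 D29931) F38515 D50291 D108918
theorem F406755 : act 0 n142507 = n198091 := d20_7 F323098 (iv1 D81905) (iv4 F324490) D50376 D109132 F405807 F405809 (iv4 D198091) (iv3 F170129) F170128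
def n198092 : Q := act 5 n108918
theorem D198092 : act 5 n108918 = n198092 := rfl
theorem F406756 : act 3 n198092 = n110123 := d6_1 D198092 (iv5 D110123) F170129
theorem F406757 : act 7 n198092 = n110216 := d13_2 (iv7 F170132) D198092 (iv5 D110216)
theorem F406758 : act 4 n198092 = n188326 := d19_2 D108918 D198092 (iv3 D188326) (iv1 F140268) F368338 F368335 F244988 F110933 (iv5 D51551) (iv4 D25043) (iv3 F24058) F26049 (iv5 D11866) D11865 F19302 (iv1 F19397) D14214 F38515 D50291
theorem F406759 : act 0 n108943 = n198092 := d19_0 (iv5 D198092) D198091 F406751 F170252 D112281 (iv4 F324392) F324391 D143141 F226001 (iv4 F103126) (iv3 D66078) (iv1 D30903) (iv5 D14631) (iv4 F24299) (iv3 D14619) D14617 D30860 (iv4 F79681) D108943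
theorem F406760 : act 1 n197875 = n198092 := d15_0 (iv0 F406759) F168951 (iv2 F406078)
def n198093 : Q := act 3 n108919
theorem D198093 : act 3 n108919 = n198093 := rfl
theorem F406761 : act 2 n198093 = n110159 := d0_1 D198093 F170311 F80179 D50819 (iv2 F223511)
theorem F406762 : act 7 n198093 = n110156 := d8_2 (iv7 F223512) D198093 (iv3 F223510)
theorem F406763 : act 4 n198093 = n126254 := d20_6 (iv4 F169984) (iv1 F321444) (iv4 F323078) (iv3 F223513) (iv1 F223517) D198093 (iv1 F358841) F176585 (iv3 F366133) (iv1 F366138)
theorem F406764 : act 6 n170859 = n198093 := d10_0 F406763 F358840 (iv4 F268468)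
theorem F406765 : act 0 n108922 = n198093 := d18_2 (iv1 F161179) (iv4 F168937) F406763 F358839 F204337 D127096 F345627 F203748 (iv5 D113425)
theorem F406766 : act 1 n110155 = n198093 := d15_0 (iv0 F406765) (iv7 F204631) F204665
def n198094 : Q := act 4 n108919
theorem D198094 : act 4 n108919 = n198094 := rfl
theorem F406767 : act 2 n198094 = n110205 := d1_1 D198094 F170379 (iv2 F223511)
theorem F406768 : act 3 n198094 = n111953 := d5_1 D198094 (iv4 F342885) (iv3 F358838) (iv4 F406763) (iv3 D198093)
theorem F406769 : act 7 n198094 = n136294 := d11_2 (iv7 F223512) D198094 F223507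
theorem F406770 : act 0 n198094 = n142507 := d17_0 F225405 (iv1 F225348) F344505 (iv4 F326452) D197872 (iv0 F406073) F168710 D108919 D198094
theorem F406771 : act 0 n142440 = n198094 := d20_10 (iv4 D198094) (iv1 D108919) (iv4 F81753) (iv3 D51767) (iv1 F39553) D50593 (iv4 F81610) D112087 F378724 (iv3 F356966)
theorem F406772 : act 5 n198094 = n157228 := d19_1 F406771 F247442 F245726 D156372 F341028 (iv4 F318670) F319396 (iv1 F51116) F81344 F81342 (iv3 D51011) (iv1 D24812) D24814 D51020 D110647 (iv1 F381576) F381579 F378724 (iv3 F356966)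
theorem F406773 : act 6 n158879 = n198094 := d12_0 F406772 (iv6 D157228) F246567 (iv6 F377547) F377546
def n198095 : Q := act 5 n108919
theorem D198095 : act 5 n108919 = n198095 := rfl
theorem F406774 : act 2 n198095 = n110216 := d2_1 D198095 (iv5 D110216) (iv2 F223511)
theorem F406775 : act 0 n198095 = n108943 := d17_2 (iv1 F223517) D198095 F168950 F101589 D109309 F347171 (iv5 F361857) F174563 (iv4 F223514)
theorem F406776 : act 1 n198095 = n197875 := d17_6 F378305 F378306 F378307 (iv5 F406772) (iv4 D198094) D198095 (iv5 D197875) F223538 (iv4 F344504)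
theorem F406777 : act 7 n197877 = n198095 := d15_2 (iv0 F375636) D197877 F406774
theorem F406778 : act 2 n197877 = n198092 := d4_3 F406757 (iv2 F406774) (iv7 F406777)
theorem F406779 : act 5 n140386 = n197877 := d2_0 F406778 (iv5 D198092) F223509
def n198096 : Q := act 6 n108919
theorem D198096 : act 6 n108919 = n198096 := rfl
theorem F406780 : act 2 n198096 = n110217 := d3_1 D198096 (iv6 D110217) (iv2 F223511)
theorem F406781 : act 3 n198096 = n170859 := d7_1 D198096 F406764 (iv3 D198093)
theorem F406782 : act 4 n198096 = n158879 := d10_1 D198096 F406773 (iv4 D198094)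
theorem F406783 : act 0 n170849 = n198096 := d21_4 F351059 F405467 (iv5 F405466) F365579 (iv6 D198096) D198095 F406775 F168950 D140399 (iv1 F360140)
theorem F406784 : act 1 n109010 = n198096 := d15_0 (iv0 F406783) (iv7 F281450) F365753
theorem F406785 : act 7 n198096 = n170851 := d15_2 (iv0 F327461) F406784 (iv2 D170851)
def n198097 : Q := act 5 n108923
theorem D198097 : act 5 n108923 = n198097 := rfl
theorem F406786 : act 2 n198097 = n125625 := d2_1 D198097 (iv5 F202205) F204640
theorem F406787 : act 4 n198097 = n125621 := d16_2 D108923 D198097 (iv5 D125621) (iv4 F201991) F406190 (iv4 D197912) F354403 (iv7 F204636) F204635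
def n198098 : Q := act 4 n108927
theorem D198098 : act 4 n108927 = n198098 := rfl
theorem F406788 : act 2 n198098 = n111507 := d1_1 D198098 (iv4 F400766) F400764
theorem F406789 : act 3 n198098 = n112456 := d5_1 D198098 (iv4 F174942) F173215 (iv4 D108928) D108927
theorem F406790 : act 6 n198098 = n196467 := d10_2 (iv6 F348802) D198098 F400766
theorem F406791 : act 7 n198098 = n110938 := d11_2 (iv7 F348803) D198098 F171975
theorem F406792 : act 0 n196455 = n198098 := d20_1 (iv4 F400735) (iv4 D198098) (iv3 D108927) (iv1 D50293) (iv3 D24530) (iv4 D11607) (iv1 F18874) (iv4 F38427) (iv3 F79516) (iv1 F356732)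
theorem F406793 : act 1 n196456 = n198098 := d15_0 (iv0 F406792) (iv7 F400737) (iv2 F400740)
def n198099 : Q := act 5 n108928
theorem D198099 : act 5 n108928 = n198099 := rfl
theorem F406794 : act 3 n198099 = n197835 := d6_1 D198099 F405959 F173215
theorem F406795 : act 4 n198099 = n125533 := d9_1 D198099 (iv5 D125533) (iv4 F171697) F171698 (iv4 F354396) F354397 D108923 D198097 F406787 (iv5 D125621) (iv4 F201991) F406190 (iv4 D197912) F354403 D108928
theorem F406796 : act 7 n198099 = n125625 := d13_2 (iv7 F204637) D198099 (iv5 F202205)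
def n198100 : Q := act 4 n108931
theorem D198100 : act 4 n108931 = n198100 := rfl
theorem F406797 : act 2 n198100 = n108935 := d1_1 D198100 (iv4 D108935) (iv2 F168941)
theorem F406798 : act 5 n198100 = n125613 := d9_2 D108931 D198100 (iv4 D125613) D125614 F202066 (iv5 D58925) (iv4 F79486) D108641 D197755 F405645 (iv4 D125618) D125619 (iv4 F406712) (iv5 D198080) F168912
theorem F406799 : act 0 n198100 = n111516 := d17_0 F341351 F173038 F173037 (iv4 D108770) (iv5 D50219) D50217 D108764 F386121 D198100
def n198101 : Q := act 6 n108931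
theorem D198101 : act 6 n108931 = n198101 := rfl
theorem F406800 : act 2 n198101 = n108936 := d3_1 D198101 (iv6 D108936) (iv2 F168941)
theorem F406801 : act 0 n198101 = n194543 := d21_4 F405541 (iv1 F168534) D108931 D198101 F393664 F350069 (iv1 F316707) (iv5 F405550) (iv6 D197730) D197728
theorem F406802 : act 5 n193655 = n198101 := d21_2 (iv5 D194545) (iv1 F390578) (iv6 D198101) (iv1 F386121) (iv6 F394332) (iv5 F394331) (iv1 D108843) (iv5 F164791) D196368 F400493
theorem F406803 : act 0 n153728 = n198101 := d21_4 F206045 F94875 D72732 D153728 (iv6 D198101) (iv5 D108931) (iv1 F168539) F354401 (iv6 D151173) (iv1 F206047)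
theorem F406804 : act 6 n197917 = n194545 := d21_5 (iv5 D108764) (iv1 D50217) D50219 D108771 D197917 (iv5 D194545) (iv1 F390578) F406802 (iv6 D198101) (iv1 F386121)
theorem F406805 : act 7 n198101 = n196776 := d13_2 (iv7 F390576) F406802 F401753
def n198102 : Q := act 0 n108932
theorem D198102 : act 0 n108932 = n198102 := rfl
def n198103 : Q := act 1 n108932
theorem D198103 : act 1 n108932 = n198103 := rfl
theorem F406806 : act 1 n198103 = n108940 := d15_1 D198103 (iv7 D108940) (iv2 F168942)
theorem F406807 : act 4 n126210 = n198103 := d20_6 (iv4 F344881) F344879 (iv4 F330162) F348407 (iv1 D126214) (iv3 F202970) (iv1 D198103) F365215 F257225 (iv1 F299544)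
theorem F406808 : act 2 n198103 = n108938 := d1_1 F406807 (iv4 F365958) (iv2 F365982)
theorem F406809 : act 7 n198103 = n108937 := d11_2 (iv7 F365981) F406807 F365972
theorem F406810 : act 5 n198103 = n196769 := d16_3 (iv4 F328589) D126210 F406807 F402087 (iv5 D194391) (iv4 F352018) F341870 (iv7 F338324) F338323
theorem F406811 : act 0 n177015 = n126210 := d20_10 F406807 (iv1 D198103) F365215 F257225 (iv1 F299544) F341712 F277082 F334654 (iv4 F129709) (iv3 F276419)
theorem F406812 : act 5 n126208 = n129025 := d21_2 (iv5 D126210) D126208 (iv6 D129025) (iv1 F207188) (iv6 F362853) F364793 (iv1 F395393) F395391 (iv6 F276420) F406811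
theorem F406813 : act 3 n166620 = n126208 := d6_3 F406812 (iv3 F364148) F326483
theorem E103719 : n198102 = n196853 := ((c15_4 (iv0 D198102) D198103 F406809 (iv2 F402074))).symm
theorem F406814 : act 1 n196853 = n108932 := (sb E103719 (iv0 D198102))
def n198104 : Q := act 5 n108932
theorem D198104 : act 5 n108932 = n198104 := rfl
theorem F406815 : act 2 n198104 = n108939 := d2_1 D198104 (iv5 D108939) (iv2 F168942)
theorem F406816 : act 6 n198104 = n193655 := d12_2 D108932 D198104 F406802 (iv6 D198101) (iv5 D108931)
theorem F406817 : act 7 n198104 = n194586 := d16_8 F393818 F159273 F361898 (iv5 D78352) (iv4 F119523) D162909 (iv4 F365215) D198104 (iv2 F393816)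
theorem F406818 : act 1 n198104 = n194599 := d17_8 (iv1 F393312) F393309 (iv1 F392483) F390203 F226654 D196853 F406814 D198104 (iv4 D194599)
theorem F406819 : act 4 n193510 = n198104 := d16_0 (iv5 D198104) F365215 (iv5 D162909) F119523 D78352 (iv4 F361898) (iv5 F159273) D194614 F393826
theorem E103720 : n194389 = n193503 := ((c20_7 D194599 (iv1 F406818) (iv4 F406819) (iv3 D193510) (iv1 D101845) D101846 (iv4 F390101) (iv1 D194389) F158516 (iv3 F75523) D103849)).symm
theorem F406820 : act 0 n193503 = n103286 := (sb E103720 (iv1 D194389))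
theorem F406821 : act 0 n192135 = n194598 := d20_4 (iv4 D47330) (iv1 F73576) (iv4 F153536) (iv3 F385700) (iv3 D194598) D194599 (iv1 F406818) (iv4 F406819) (iv3 D193510) (iv1 D101845)
theorem F406822 : act 2 n192132 = n194598 := d15_3 (iv0 F406821) (iv0 F385704) (iv7 F385689)
theorem F406823 : act 1 n192133 = n194598 := d15_0 (iv0 F406821) (iv7 D192135) D192133
theorem F406824 : act 7 n194598 = n192131 := d15_2 F385705 F406823 (iv2 F385687)
theorem E103721 : n194602 = n194473 := ((c8_2 F406824 F393356 (iv7 D194602) D194598)).symm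
theorem F406825 : act 2 n194473 = n103850 := (sb E103721 F393791)
theorem F406826 : act 7 n194473 = n103849 := (sb E103721 (iv7 D194602))
theorem E103722 : n194597 = n194472 := (c15_4 (iv0 D194472) D194473 F406826 D194597)
theorem F406827 : act 2 n194472 = n103849 := (sb E103722 (iv2 D194597))
theorem F406828 : act 7 n194472 = n103850 := (sb E103722 (iv7 F393785))
theorem F406829 : act 3 n144002 = n194472 := d0_0 F406827 D194598 (iv2 F406822) (iv3 F385691) (iv2 F226945)
theorem E103723 : n194603 = n144068 := (c8_4 F226779 F406829 F406828 D194603)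
theorem F406830 : act 3 n144068 = n103850 := (sb E103723 (iv3 D194603))
theorem F406831 : act 3 n194604 = n145292 := d5_3 (iv4 F226778) F406830 D194604 (iv4 D145292) F168135
theorem E103724 : n194606 = n144066 := (c7_3 D144068 F406830 D194606 (iv3 D144066))
theorem F406832 : act 6 n144066 = n103850 := (sb E103724 (iv6 D194606))
theorem F406833 : act 0 n198104 = n194604 := d20_1 F406819 (iv4 D194604) (iv3 F406830) F226781 (iv3 F357158) (iv4 F335335) F357161 (iv4 F385605) F393833 (iv1 F393830)
theorem F406834 : act 5 n194604 = n196872 := d21_0 F402101 (iv5 F358702) (iv6 D111018) (iv1 F80765) (iv6 F356923) F356922 F406803 (iv5 F406802) (iv6 F406816) F406833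
theorem F406835 : act 6 n196960 = n194604 := d21_5 (iv5 F78398) (iv1 F78402) F166900 D107499 D196960 F406834 F402101 (iv5 F358702) (iv6 D111018) (iv1 F80765)
theorem E103725 : n196960 = n196541 := ((c7_4 F406835 F406831 F228307 D196541)).symm
theorem F406836 : act 1 n196541 = n107499 := (sb E103725 (iv0 D196960))
theorem F406837 : act 6 n196541 = n194604 := (sb E103725 F406835)
theorem F406838 : act 4 n194595 = n193472 := d18_7 F390102 (iv4 F390101) F406820 F158516 (iv5 F75524) (iv4 F159259) D194595 F393831 F393828
def n198105 : Q := act 7 n108932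
theorem D198105 : act 7 n108932 = n198105 := rfl
theorem F406839 : act 2 n198105 = n108940 := d4_1 D198105 (iv7 D108940) (iv2 F168942)
theorem F406840 : act 5 n198105 = n194586 := d13_1 D198105 (iv7 F406817) (iv5 D198104)
theorem F406841 : act 1 n108938 = n198105 := d15_1 D108938 (iv7 D198105) F168942
theorem F406842 : act 1 n198105 = n108937 := d15_1 F406841 (iv7 F406809) F406808
def n198106 : Q := act 3 n108934
theorem D198106 : act 3 n108934 = n198106 := rfl
theorem F406843 : act 5 n198106 = n197724 := d6_2 F219108 D198106 (iv3 D197724)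
theorem F406844 : act 7 n198106 = n197898 := d8_2 (iv7 F219107) D198106 F406132
theorem F406845 : act 4 n114343 = n198106 := d20_2 F178313 D114343 (iv3 D198106) (iv1 D108934) F79671 (iv4 F78109) (iv1 F84197) F84195 D109061 F339986
theorem F406846 : act 2 n198106 = n151247 := d1_1 F406845 F400769 F205618
theorem F406847 : act 1 n198106 = n114386 := d18_8 (iv1 F361215) D198098 (iv1 F406793) (iv4 F400739) D197788 (iv4 F405798) F205620 F406845 F363667
theorem E103726 : n197898 = n151248 := ((c15_2 (iv0 D151247) D151248 (iv7 F406844) F406846)).symm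
theorem F406848 : act 3 n151248 = n108764 := (sb E103726 F406132)
theorem F406849 : act 4 n151248 = n127809 := (sb E103726 F406133)
theorem F406850 : act 5 n151248 = n108762 := (sb E103726 (iv5 D197898))
theorem F406851 : act 7 n151248 = n198106 := (sb E103726 (iv7 F406844))
theorem F406852 : act 0 n198106 = n151250 := d21_7 (iv5 D107397) (iv1 F78353) (iv5 F164977) (iv6 F346367) (iv1 F400883) F405525 (iv5 F406843) F363668 F402068 (iv1 D196863)
def n198107 : Q := act 6 n108934
theorem D198107 : act 6 n108934 = n198107 := rfl
theorem F406853 : act 2 n198107 = n197889 := d3_1 D198107 (iv6 D197889) (iv2 F219109)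
def n198108 : Q := act 0 n108935
theorem D198108 : act 0 n108935 = n198108 := rfl
theorem F406854 : act 5 n198108 = n112457 := d17_1 D198108 (iv1 F204655) (iv5 F406168) (iv4 D197906) (iv5 D108766) F168479 F219105 (iv0 D108933) D108935
theorem F406855 : act 2 n111516 = n198108 := d2_3 F406854 (iv2 D112457) (iv5 F341351)
theorem F406856 : act 6 n198108 = n111511 := d3_2 D111516 F406855 F173041
def n198109 : Q := act 1 n108935
theorem D198109 : act 1 n108935 = n198109 := rfl
theorem F406857 : act 7 n198109 = n111516 := d15_2 (iv0 D198108) D198109 F406855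
theorem F406858 : act 5 n198109 = n110256 := d18_9 F202212 (iv4 D125715) (iv1 D58866) (iv4 F81039) D111321 (iv4 F219103) (iv0 D108933) D108935 D198109
theorem F406859 : act 3 n110257 = n198109 := d20_9 (iv4 D108935) D108933 F219103 F172758 (iv1 F81091) (iv3 F172857) F365335 (iv1 F387547) (iv4 F387549) (iv1 D198109)
def n198110 : Q := act 6 n108935
theorem D198110 : act 6 n108935 = n198110 := rfl
theorem F406860 : act 4 n198110 = n108936 := d10_1 D198110 (iv6 D108936) D108935
theorem F406861 : act 5 n198110 = n196916 := d16_1 (iv4 F406860) F402274 F342457 F125269 D95595 D190060 (iv5 F401753) (iv7 F406805) F406800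
def n198111 : Q := act 0 n108936
theorem D198111 : act 0 n108936 = n198111 := rfl
theorem F406862 : act 3 n198111 = n153687 := d20_5 (iv4 F400344) (iv1 D196327) F164769 (iv3 F168943) D198111 (iv4 F373388) (iv1 F373391) (iv4 D153704) (iv3 F241571) (iv1 F331095)
theorem F406863 : act 6 n198111 = n138528 := d21_5 F354403 (iv1 D50293) D50295 D108936 D198111 (iv5 D138528) (iv1 F312807) D178901 F405532 (iv1 F405533)
theorem F406864 : act 2 n194543 = n198111 := d15_3 (iv0 D198111) F402321 (iv7 F393665)
theorem F406865 : act 5 n198111 = n153686 := d2_2 D194543 F406864 (iv2 F356931)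
theorem F406866 : act 7 n198111 = n153728 := d4_2 (iv7 F393665) F406864 (iv2 F345162)
theorem F406867 : act 1 n196776 = n198111 := d15_1 D196776 F406866 (iv2 F345162)
def n198112 : Q := act 5 n108936
theorem D198112 : act 5 n108936 = n198112 := rfl
theorem F406868 : act 2 n198112 = n193655 := d2_1 D198112 F406802 F406800
theorem F406869 : act 3 n198112 = n108947 := d6_1 D198112 (iv5 D108947) (iv3 F168943)
theorem F406870 : act 6 n198112 = n108939 := d12_2 D108936 D198112 (iv5 D108939) (iv6 D50296) D50295
theorem F406871 : act 4 n198112 = n184219 := d16_4 (iv4 F402274) (iv5 F406861) F406860 D198112 F286130 (iv4 F314955) F342460 F169656 (iv2 F342455)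
theorem F406872 : act 7 n198112 = n184218 := d16_8 (iv4 D190060) (iv5 D95595) (iv4 F125269) (iv5 F342457) (iv4 F402274) (iv5 F406861) F406860 D198112 (iv2 F378736)
theorem F406873 : act 1 n198112 = n194456 := d17_8 (iv1 F158957) F75502 (iv1 F75363) D103606 F356926 (iv5 F406865) (iv0 D198111) D198112 (iv4 D194456)
theorem F406874 : act 1 n153688 = n198112 := d15_0 F406873 F393289 F364177
theorem F406875 : act 0 n194552 = n157173 := d20_4 F406871 (iv1 F378731) (iv4 F378735) D194552 (iv3 D157173) (iv4 D74729) (iv1 F80694) (iv4 F171956) (iv3 F393288) (iv1 F406873)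
theorem F406876 : act 6 n144309 = n194552 := d21_3 D110957 F400844 F400841 F406875 F247347 F362355 F371677 F371678 F368635 F357638
theorem F406877 : act 3 n194554 = n144309 := d7_3 F406876 (iv3 D194552) D194554
theorem F406878 : act 3 n197745 = n193257 := d0_2 F406869 (iv2 F405605) (iv2 F389337) (iv3 F390575) (iv2 F406868)
theorem F406879 : act 5 n193257 = n197741 := d6_2 D197745 F406878 F405601
theorem F406880 : act 6 n193257 = n197742 := d7_2 (iv6 F405606) F406878 F405602
theorem F406881 : act 0 n197741 = n193228 := d17_2 (iv1 F391218) F406879 (iv5 D193228) (iv4 D101379) (iv5 D47186) F290171 D101188 D193104 (iv4 F391216)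
theorem F406882 : act 0 n187915 = n134731 := d20_1 (iv4 F371834) F216761 (iv3 F405601) F406881 F389247 (iv4 F387718) (iv1 D104015) (iv4 F159477) F331080 (iv1 F331116)
theorem F406883 : act 1 n187915 = n196329 := d15_1 (iv0 F406882) (iv7 D196329) (iv2 F216760)
def n198113 : Q := act 7 n108936
theorem D198113 : act 7 n108936 = n198113 := rfl
theorem F406884 : act 2 n198113 = n196776 := d4_1 D198113 (iv7 F406805) F406800
theorem F406885 : act 3 n198113 = n108948 := d8_1 D198113 (iv7 D108948) (iv3 F168943)
theorem F406886 : act 5 n198113 = n184218 := d13_1 D198113 (iv7 F406872) (iv5 D198112)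
theorem F406887 : act 1 n153728 = n198113 := d15_1 (iv0 F406803) (iv7 D198113) (iv2 F406800)
theorem F406888 : act 1 n198113 = n194543 := d15_1 F406887 F393665 F345162
def n198114 : Q := act 3 n108937
theorem D198114 : act 3 n108937 = n198114 := rfl
theorem F406889 : act 2 n198114 = n196860 := d0_1 D198114 F402052 F165443 (iv3 F402043) F402074
theorem F406890 : act 5 n198114 = n177210 := d6_2 (iv5 F402075) D198114 (iv3 F402039)
theorem F406891 : act 4 n198114 = n177395 := d20_6 (iv4 D50311) (iv1 D24536) (iv4 F38516) (iv3 F79672) D108937 D198114 (iv1 F276779) (iv4 F312888) F331122 (iv1 F168585)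
theorem F406892 : act 0 n110158 = n198114 := d20_4 (iv4 D77863) F326146 (iv4 F80178) (iv3 F170310) (iv3 D198114) F365972 (iv1 D177014) (iv4 F198849) (iv3 D124333) F119112
def n198115 : Q := act 6 n108937
theorem D198115 : act 6 n108937 = n198115 := rfl
theorem F406893 : act 4 n198115 = n163595 := d10_1 D198115 (iv6 F382534) (iv4 F365972)
theorem F406894 : act 3 n124274 = n198115 := d20_5 (iv4 D35571) (iv1 F42974) (iv4 F44571) D57937 D124274 F406893 (iv1 D163595) F119776 (iv3 D76899) (iv1 F56252)
theorem F406895 : act 6 n198114 = n124274 := d7_0 F406894 (iv6 D198115) D198114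
def n198116 : Q := act 6 n108938
theorem D198116 : act 6 n108938 = n198116 := rfl
theorem F406896 : act 3 n198116 = n196869 := d7_1 D198116 (iv6 D196869) (iv3 F402071)
def n198117 : Q := act 0 n108939
theorem D198117 : act 0 n108939 = n198117 := rfl
theorem F406897 : act 5 n198117 = n111394 := d17_1 D198117 F401742 (iv5 D196770) F389955 F389966 (iv0 D193470) D193472 F393831 F393827
theorem F406898 : act 4 n198117 = n194473 := d18_1 D198117 (iv1 D194473) (iv4 F393352) F393353 F198849 D177014 (iv4 F365972) (iv0 D108937) D108939
theorem F406899 : act 1 n194586 = n198117 := d15_0 (iv0 D198117) F393821 F393816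
theorem F406900 : act 2 n194604 = n198117 := d1_3 F406898 F406825 D194604
theorem F406901 : act 3 n153797 = n198117 := d5_5 F406898 (iv3 F393356) F385685 F312390 D153797
theorem F406902 : act 7 n194599 = n198117 := d11_0 F406898 F406826 D194599
def n198118 : Q := act 1 n108939
theorem D198118 : act 1 n108939 = n198118 := rfl
theorem F406903 : act 1 n198118 = n194586 := d15_1 D198118 (iv7 F406817) F406815
theorem F406904 : act 7 n198118 = n194604 := d15_2 (iv0 D198117) D198118 F406900
theorem F406905 : act 4 n198118 = n194472 := d18_7 (iv1 F392526) (iv4 F390199) F341637 D177683 (iv5 F393828) F393827 D198118 (iv0 D194472) F158997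
theorem F406906 : act 5 n196501 = n198118 := d21_6 (iv5 F354397) F405531 (iv5 D197726) D197727 (iv1 F405539) F402107 (iv1 D198118) (iv5 D108939) (iv6 D50296) D50292
theorem F406907 : act 3 n198118 = n111124 := d6_1 F406906 F172335 D196501
theorem F406908 : act 0 n196770 = n196501 := d21_10 F406906 (iv1 D198118) (iv5 D108939) (iv6 D50296) D50292 D108925 F348814 (iv1 F111976) F208893 (iv6 F401738)
theorem F406909 : act 2 n194599 = n198118 := d0_5 F406907 (iv2 F204572) F364419 F312399 (iv3 F393786)
def n198119 : Q := act 2 n108941
theorem D198119 : act 2 n108941 = n198119 := rfl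
theorem F406910 : act 3 n198119 = n197875 := d0_2 D108941 D198119 F406078 F168697 F79676
theorem F406911 : act 4 n198119 = n187876 := d1_2 F387736 D198119 F387737
theorem F406912 : act 5 n198119 = n140394 := d2_2 (iv5 F168946) D198119 (iv2 D140394)
theorem F406913 : act 7 n198119 = n197870 := d4_2 (iv7 F168947) D198119 F406065
theorem F406914 : act 1 n198119 = n197871 := d15_0 (iv0 D197871) (iv7 F168947) D198119
theorem F406915 : act 1 n187880 = n198119 := d15_0 F406914 (iv7 F406070) F372212
def n198120 : Q := act 2 n108943
theorem D198120 : act 2 n108943 = n198120 := rfl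
theorem F406916 : act 3 n198120 = n197870 := d0_2 D108943 D198120 F406065 F168692 F79682
theorem F406917 : act 5 n198120 = n140398 := d2_2 (iv5 F168950) D198120 (iv2 D140398)
theorem F406918 : act 6 n198120 = n189103 := d3_2 (iv6 F341405) D198120 (iv2 F375762)
theorem F406919 : act 7 n198120 = n197875 := d4_2 (iv7 F168951) D198120 F406078
theorem F406920 : act 1 n198120 = n110216 := d15_0 (iv0 F375636) (iv7 F168951) D198120
theorem F406921 : act 1 n197877 = n198120 := d15_0 F406920 (iv7 F406757) (iv2 F406778)
def n198121 : Q := act 2 n108945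
theorem D198121 : act 2 n108945 = n198121 := rfl
theorem F406922 : act 7 n108946 = n198121 := d15_2 (iv0 D108945) D108946 (iv2 D198121)
def n198122 : Q := act 3 n108945
theorem D198122 : act 3 n108945 = n198122 := rfl
def n198123 : Q := act 4 n108945
theorem D198123 : act 4 n108945 = n198123 := rfl
def n198124 : Q := act 5 n108945
theorem D198124 : act 5 n108945 = n198124 := rfl
def n198125 : Q := act 6 n108945
theorem D198125 : act 6 n108945 = n198125 := rfl
theorem F406923 : act 5 n198125 = n198025 := d21_6 F79577 (iv1 D24529) D24531 D50299 D108945 D198125 (iv1 D198025) (iv5 D108876) (iv6 D50271) (iv1 F79576)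
def n198126 : Q := act 7 n108945
theorem D198126 : act 7 n108945 = n198126 := rfl
theorem F406924 : act 2 n198126 = n108946 := d4_1 D198126 F406922 (iv2 D198121)
def n198127 : Q := act 3 n108946
theorem D198127 : act 3 n108946 = n198127 := rfl
def n198128 : Q := act 4 n108946
theorem D198128 : act 4 n108946 = n198128 := rfl
def n198129 : Q := act 5 n108946
theorem D198129 : act 5 n108946 = n198129 := rfl
theorem F406925 : act 0 n198129 = n196370 := d21_1 D198129 (iv5 D196370) (iv6 D106926) (iv1 D49398) D49400 (iv5 F79289) D108495 (iv5 F351303) (iv6 F405608) (iv1 F405610)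
theorem F406926 : act 6 n196315 = n108946 := d21_5 (iv5 D24107) D24104 D49387 D106890 D196315 D198129 F406925 (iv5 D196370) (iv6 D106926) (iv1 D49398)
theorem E103727 : n198126 = n141943 := (c3_2 F406926 (iv2 F406924) F371627 F400304)
theorem F406927 : act 2 n141943 = n108946 := (sb E103727 F406924)
theorem F406928 : act 7 n141943 = n108945 := (sb E103727 (iv7 D198126))
theorem E103728 : n198128 = n141941 := (c10_2 F406926 D198128 (iv6 F362688) (iv4 F400305))
theorem F406929 : act 4 n141941 = n108946 := (sb E103728 (iv4 D198128))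
theorem E103729 : n198121 = n141938 := (c11_3 D141941 F406929 F406922 (iv4 D141938))
theorem F406930 : act 2 n141938 = n108945 := (sb E103729 (iv2 D198121))
theorem F406931 : act 7 n141938 = n108946 := (sb E103729 (iv7 F406922))
theorem E103730 : n197743 = n141938 := (c15_2 F405620 F405609 F406931 (iv2 F406927))
theorem F406932 : act 0 n141938 = n108948 := (sb E103730 (iv1 F405609))
theorem F406933 : act 1 n141938 = n108631 := (sb E103730 (iv0 D197743))
theorem E103731 : n198123 = n141936 := (c1_3 D141938 F406930 D198123 (iv2 D141936))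
theorem F406934 : act 4 n141936 = n108945 := (sb E103731 (iv4 D198123))
theorem F406935 : act 7 n198122 = n187828 := d8_2 F406928 D198122 F371629
theorem F406936 : act 7 n198124 = n195930 := d13_2 F406928 D198124 (iv5 F398757)
theorem F406937 : act 3 n195933 = n198124 := d8_3 F406936 F398756 D195933
theorem F406938 : act 5 n198122 = n195933 := d6_0 F406937 (iv5 D198124) D198122
theorem F406939 : act 4 n187830 = n198122 := d11_3 F406935 F371630 D187830
theorem F406940 : act 1 n187881 = n198122 := d15_1 (iv0 F401959) F406935 (iv2 F401957)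
theorem E103732 : n141936 = n141829 := ((c20_2 F168579 D141829 F406934 D198122 (iv1 F406940) F371756 F339962 F157812 F335534 (iv3 F165300) F331114)).symm
theorem F406941 : act 2 n141829 = n66537 := (sb E103732 (iv2 D141936))
theorem F406942 : act 4 n141829 = n108945 := (sb E103732 F406934)
theorem F406943 : act 7 n141829 = n66538 := (sb E103732 (iv7 F224992))
theorem E103733 : n141941 = n141830 := (c15_4 F224854 F224858 F406943 (iv2 F224993))
theorem F406944 : act 2 n141830 = n66538 := (sb E103733 F224993)
theorem F406945 : act 4 n141830 = n108946 := (sb E103733 F406929)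
theorem F406946 : act 6 n141830 = n109093 := (sb E103733 (iv6 F362688))
theorem F406947 : act 7 n141830 = n66537 := (sb E103733 (iv7 D141941))
theorem F406948 : act 2 n198129 = n195930 := d2_3 (iv5 F398757) F406927 D198129
theorem F406949 : act 6 n195928 = n198129 := d3_0 F406948 (iv6 D195930) D195928
def n198130 : Q := act 0 n108947
theorem D198130 : act 0 n108947 = n198130 := rfl
theorem F406950 : act 6 n198130 = n180389 := d21_5 (iv5 D108956) (iv1 D50301) D50302 (iv6 F168954) D198130 (iv5 D180389) (iv1 F300517) (iv5 F404059) (iv6 F404060) (iv1 F225003)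
theorem F406951 : act 5 n198130 = n180387 := d21_8 (iv5 D81908) (iv1 F58389) D75207 F341329 (iv1 D50298) D50299 D108947 D198130 (iv6 D180387) F132106
def n198131 : Q := act 1 n108947
theorem D198131 : act 1 n108947 = n198131 := rfl
def n198132 : Q := act 4 n108947
theorem D198132 : act 4 n108947 = n198132 := rfl
theorem F406952 : act 6 n198132 = n108960 := d10_2 (iv6 F168954) D198132 (iv4 D108960)
theorem F406953 : act 0 n198132 = n156041 := d20_7 (iv4 D74729) (iv1 F80694) (iv4 F171956) (iv3 F393288) (iv1 F406873) F406869 D198132 (iv4 F360105) F360104 (iv1 F164840)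
def n198133 : Q := act 7 n108947
theorem D198133 : act 7 n108947 = n198133 := rfl
theorem F406954 : act 3 n198133 = n184218 := d8_1 D198133 (iv7 F406872) F406869
theorem F406955 : act 5 n198133 = n108948 := d13_1 D198133 (iv7 D108948) D108947
theorem F406956 : act 6 n198133 = n184221 := d14_1 D198133 (iv7 F393813) (iv6 F393815) (iv7 D108961) (iv6 F168954)
def n198134 : Q := act 0 n108950
theorem D198134 : act 0 n108950 = n198134 := rfl
theorem F406957 : act 4 n198134 = n160582 := d20_2 F345547 D198134 F253664 F339259 (iv3 D35734) F43479 (iv1 F22023) (iv4 F44704) (iv3 F91893) (iv1 F345544)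
theorem F406958 : act 6 n160581 = n198134 := d10_0 F406957 (iv6 D160582) D160581
def n198135 : Q := act 4 n108951
theorem D198135 : act 4 n108951 = n198135 := rfl
theorem F406959 : act 3 n198135 = n196717 := d5_1 D198135 (iv4 F401585) (iv3 F353973) (iv4 F401905) F401910
theorem F406960 : act 5 n198135 = n196710 := d16_1 D198135 F402468 F402472 F400535 (iv5 D126171) F168959 D108956 (iv7 F405617) F405616
theorem F406961 : act 6 n196713 = n198135 := d12_0 F406960 (iv6 D196710) (iv5 D107235) D107236 D196713
def n198136 : Q := act 6 n108951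
theorem D198136 : act 6 n108951 = n198136 := rfl
theorem F406962 : act 3 n198136 = n173310 := d7_1 D198136 (iv6 F401906) F401910
theorem F406963 : act 4 n198136 = n196713 := d10_1 D198136 F406961 (iv4 D198135)
theorem F406964 : act 5 n198136 = n174709 := d12_1 D198136 F348951 (iv5 D111589) F172740 D108951
theorem F406965 : act 7 n198136 = n173308 := d14_2 F402015 D198136 F348946 F406442 (iv6 F406441)
def n198137 : Q := act 1 n108954
theorem D198137 : act 1 n108954 = n198137 := rfl
def n198138 : Q := act 2 n108954
theorem D198138 : act 2 n108954 = n198138 := rfl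
theorem F406966 : act 1 n198138 = n170853 := d15_0 (iv0 F405615) F405614 D198138
def n198139 : Q := act 5 n108954
theorem D198139 : act 5 n108954 = n198139 := rfl
theorem F406967 : act 3 n198139 = n108956 := d6_1 D198139 (iv5 D108956) D108954
theorem F406968 : act 4 n198139 = n138228 := d16_4 (iv4 D109736) D109737 (iv4 F365850) D198139 (iv5 D138228) (iv4 F221399) F221400 F202528 (iv2 F202525)
theorem F406969 : act 0 n137213 = n198139 := d18_2 (iv1 D137212) D137213 F406968 (iv5 D138228) (iv4 F221399) (iv0 F221402) F220756 D137598 (iv5 F220762)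
theorem F406970 : act 1 n137219 = n198139 := d18_6 (iv1 F169749) (iv4 F169751) (iv1 F93928) (iv4 F99495) D64495 D137219 F406968 F221409 (iv5 D136024)
def n198140 : Q := act 6 n108954
theorem D198140 : act 6 n108954 = n198140 := rfl
theorem F406971 : act 3 n198140 = n108957 := d7_1 D198140 (iv6 D108957) D108954
theorem F406972 : act 5 n156602 = n198140 := d6_0 F406971 F336732 D156602
def n198141 : Q := act 4 n108956
theorem D198141 : act 4 n108956 = n198141 := rfl
def n198142 : Q := act 6 n108956
theorem D198142 : act 6 n108956 = n198142 := rfl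
theorem F406973 : act 2 n198142 = n197995 := d3_1 D198142 (iv6 F406441) F402016
theorem F406974 : act 5 n198142 = n156604 := d12_1 D198142 (iv6 D156604) (iv5 F336732) (iv6 D108957) D108956
theorem F406975 : act 7 n197996 = n198142 := d13_0 F406974 F246296 F406448
theorem F406976 : act 0 n195386 = n198142 := d17_2 F162130 D195386 F406974 F246295 F111785 (iv0 D51362) F39184 (iv0 F38527) D50314
theorem F406977 : act 0 n198142 = n197998 := d21_1 (iv5 F406974) F406451 F222734 (iv1 D139592) D139595 (iv5 F386750) F386751 (iv5 D140339) D140340 F246299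
def n198143 : Q := act 3 n108958
theorem D198143 : act 3 n108958 = n198143 := rfl
theorem F406978 : act 5 n198143 = n111381 := d6_2 (iv5 F168958) D198143 F172867
def n198144 : Q := act 4 n108958
theorem D198144 : act 4 n108958 = n198144 := rfl
theorem F406979 : act 1 n198144 = n197775 := d18_6 (iv1 F172829) F175463 (iv1 D112726) F82225 (iv5 F168958) D198144 (iv4 D197775) D197774 F405725
def n198145 : Q := act 6 n108958
theorem D198145 : act 6 n108958 = n198145 := rfl
theorem F406980 : act 5 n198145 = n111382 := d12_1 D198145 (iv6 D111382) (iv5 D51369) D51370 (iv5 F168958)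
def n198146 : Q := act 3 n108959
theorem D198146 : act 3 n108959 = n198146 := rfl
theorem F406981 : act 5 n198146 = n198029 := d6_2 F168960 D198146 F406558
def n198147 : Q := act 4 n108959
theorem D198147 : act 4 n108959 = n198147 := rfl
theorem F406982 : act 0 n198147 = n197775 := d17_0 F405742 F401567 (iv5 F406960) (iv4 D198135) (iv5 D108951) (iv0 D50300) D50302 D108959 D198147
def n198148 : Q := act 6 n108959
theorem D198148 : act 6 n108959 = n198148 := rfl
theorem F406983 : act 5 n198148 = n198033 := d12_1 D198148 (iv6 D198033) (iv5 D108879) D108880 F168960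
def n198149 : Q := act 0 n108960
theorem D198149 : act 0 n108960 = n198149 := rfl
theorem F406984 : act 4 n198149 = n109069 := d18_3 (iv1 D108959) D108960 D198149 F169072 F81076 D51363 D111370 F172839 F168960
theorem F406985 : act 4 n126785 = n198146 := d20_8 D108960 D198149 F406984 F360134 (iv1 F247365) (iv3 F364415) (iv4 F364414) F343904 (iv3 D198146) (iv1 D108959)
theorem F406986 : act 6 n198146 = n138115 := d10_2 (iv6 F204039) F406985 (iv4 D138115)
theorem F406987 : act 3 n138115 = n198148 := d7_1 F406986 (iv6 D198148) D198146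
theorem F406988 : act 2 n140696 = n198149 := d1_3 F406984 (iv2 F169073) D140696
theorem F406989 : act 3 n196882 = n198149 := d5_5 F406984 F360134 (iv4 D107425) (iv3 F165697) D196882
theorem F406990 : act 7 n140659 = n198149 := d11_0 F406984 (iv7 F405724) F405728
theorem F406991 : act 5 n140660 = n198149 := d16_1 (iv4 F223757) F406984 F169072 F81076 F39184 (iv4 F49263) D65888 D140383 F223497
def n198150 : Q := act 1 n108960
theorem D198150 : act 1 n108960 = n198150 := rfl
theorem F406992 : act 7 n198150 = n140696 := d15_2 (iv0 D198149) D198150 F406988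
theorem F406993 : act 4 n198150 = n109070 := d18_7 (iv1 F168585) (iv4 D50311) (iv1 D24536) (iv4 F38516) D50302 D108960 D198150 (iv0 F331124) (iv5 F331121)
theorem F406994 : act 2 n140659 = n198150 := d1_3 F406993 (iv2 F405727) F405728
theorem F406995 : act 5 n140382 = n198150 := d9_0 F406993 (iv5 F169075) F101698 F49339 (iv4 F49328) (iv5 F101683) (iv4 F223757) F406991 F406984 F169072 F81076 F39184 (iv4 F49263) D65888 D140382
theorem F406996 : act 6 n198150 = n196708 := d3_2 F405736 F406994 (iv2 F401562)
theorem F406997 : act 3 n197430 = n198150 := d7_3 F406996 (iv3 F404246) D197430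
def n198151 : Q := act 3 n108960
theorem D198151 : act 3 n108960 = n198151 := rfl
def n198152 : Q := act 5 n108960
theorem D198152 : act 5 n108960 = n198152 := rfl
theorem F406998 : act 2 n198152 = n140671 := d2_1 D198152 (iv5 F405629) F405628
theorem F406999 : act 4 n198152 = n140385 := d16_2 D108960 D198152 (iv5 D140385) (iv4 D65890) (iv5 F79481) (iv4 F168518) (iv5 F405632) (iv7 D197752) F168516
theorem F407000 : act 0 n198152 = n196622 := d17_2 (iv1 D198150) D198152 F401236 F397205 (iv5 D108963) F164016 D50357 D109070 (iv4 F406993)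
theorem F407001 : act 1 n198152 = n196625 := d17_8 (iv1 D107147) F331789 F101553 (iv5 F101683) (iv4 F223757) F406991 (iv0 D198149) D198152 (iv4 D196625)
theorem F407002 : act 6 n196611 = n198152 := d10_0 F406999 F402423 F402421
theorem F407003 : act 7 n140678 = n198152 := d11_0 F406999 F223505 D140678
def n198153 : Q := act 7 n108960
theorem D198153 : act 7 n108960 = n198153 := rfl
theorem F407004 : act 4 n198153 = n108961 := d11_1 D198153 (iv7 D108961) D108960
theorem F407005 : act 5 n198153 = n140678 := d13_1 D198153 F407003 (iv5 D198152)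
theorem F407006 : act 1 n140659 = n198153 := d15_1 (iv0 F405730) (iv7 D198153) (iv2 F405628)
theorem F407007 : act 1 n198153 = n140696 := d15_1 F407006 (iv7 F406992) (iv2 F406994)
def n198154 : Q := act 6 n108963
theorem D198154 : act 6 n108963 = n198154 := rfl
theorem F407008 : act 3 n198154 = n111117 := d7_1 D198154 (iv6 D111117) (iv3 F351098)
theorem F407009 : act 7 n198154 = n140655 := d14_2 (iv7 F351099) D198154 (iv6 D140655) (iv7 F223750) F342477
def n198155 : Q := act 4 n108966
theorem D198155 : act 4 n108966 = n198155 := rfl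
theorem F407010 : act 2 n198155 = n196880 := d1_1 D198155 F402135 (iv2 F351093)
theorem F407011 : act 5 n198155 = n196625 := d9_2 D108966 D198155 (iv4 D196625) (iv5 F363739) (iv4 D108964) (iv5 D50308) D50307 D108963 (iv4 F397205) (iv5 F401236) (iv4 D196622) F331803 F103291 F163934 D50311
theorem F407012 : act 6 n198155 = n140649 := d10_2 (iv6 F351095) D198155 (iv4 D140649)
theorem F407013 : act 0 n198155 = n196704 := d17_0 F405739 (iv1 D140657) D140659 (iv4 F405728) F405725 F172830 (iv5 F331101) F331100 D198155
theorem F407014 : act 1 n198155 = n197365 := d18_6 F168522 F168518 (iv1 F79484) D50311 D108966 D198155 F404061 F223773 (iv5 D108951)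
def n198156 : Q := act 0 n108967
theorem D198156 : act 0 n108967 = n198156 := rfl
theorem F407015 : act 5 n198156 = n115739 := d17_1 D198156 F180081 (iv5 F336682) (iv4 D111290) F80991 F79275 D74463 (iv0 F111779) (iv4 F168963)
theorem F407016 : act 4 n198156 = n134841 := d18_1 D198156 (iv1 F226745) (iv4 F226742) F336741 F102490 F84551 (iv4 F79270) D108448 F339609
theorem F407017 : act 2 n139735 = n198156 := d15_3 (iv0 D198156) (iv0 F203101) (iv7 F364138)
theorem F407018 : act 1 n140487 = n198156 := d15_0 (iv0 D198156) (iv7 F173135) (iv2 F223651)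
theorem F407019 : act 7 n198156 = n109225 := d15_2 (iv0 F223653) F407018 (iv2 F173451)
def n198157 : Q := act 2 n108968
theorem D198157 : act 2 n108968 = n198157 := rfl
theorem F407020 : act 3 n198157 = n140676 := d0_2 D108968 D198157 (iv2 D140676) (iv3 D66001) (iv2 F79695)
theorem F407021 : act 4 n198157 = n145402 := d1_2 (iv4 F168964) D198157 (iv2 D145402)
theorem F407022 : act 5 n198157 = n145391 := d2_2 F390029 D198157 (iv2 F390027)
theorem F407023 : act 6 n198157 = n138447 := d3_2 (iv6 F168965) D198157 (iv2 D138447)
theorem F407024 : act 7 n198157 = n140666 := d4_2 (iv7 F168966) D198157 (iv2 D140666)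
theorem F407025 : act 1 n198157 = n140664 := d15_0 (iv0 D140664) (iv7 F168966) D198157
theorem F407026 : act 1 n140435 = n198157 := d15_0 F407025 (iv7 F402510) F402509
def n198158 : Q := act 0 n108969
theorem D198158 : act 0 n108969 = n198158 := rfl
theorem F407027 : act 2 n140670 = n198158 := d15_3 (iv0 D198158) F402475 F402471
theorem F407028 : act 1 n140385 = n198158 := d15_0 (iv0 D198158) F168968 (iv2 F223504)
theorem F407029 : act 7 n198158 = n140669 := d15_2 (iv0 F402474) F407028 (iv2 F402469)
def n198159 : Q := act 4 n108969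
theorem D198159 : act 4 n108969 = n198159 := rfl
theorem F407030 : act 2 n198159 = n140678 := d1_1 D198159 (iv4 D140678) (iv2 F168967)
theorem F407031 : act 7 n198159 = n140671 := d11_2 (iv7 F168968) D198159 (iv4 D140671)
theorem F407032 : act 0 n198159 = n196625 := d18_2 (iv1 F402475) D198159 (iv4 D196625) (iv5 F363739) (iv4 D108964) (iv0 F101690) D140682 F400538 (iv5 F402472)
theorem F407033 : act 1 n198159 = n196622 := d18_6 F101553 F49328 (iv1 F38528) D50314 D108969 D198159 (iv4 D196622) (iv0 D107146) F331789
def n198160 : Q := act 6 n108969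
theorem D198160 : act 6 n108969 = n198160 := rfl
theorem F407034 : act 2 n198160 = n140679 := d3_1 D198160 (iv6 D140679) (iv2 F168967)
theorem F407035 : act 3 n198160 = n196819 := d7_1 D198160 F401896 (iv3 F390032)
theorem F407036 : act 5 n198160 = n138449 := d12_1 D198160 (iv6 D138449) (iv5 D65033) (iv6 F79696) D108969
theorem F407037 : act 7 n198160 = n196811 := d14_2 (iv7 F168968) D198160 (iv6 D196811) (iv7 F386487) (iv6 D140672)
theorem F407038 : act 0 n184221 = n198160 := d21_7 (iv5 D50128) (iv1 D24449) D24451 D50138 D108589 (iv6 F370508) (iv5 F362246) F407036 (iv6 D138449) F100832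
theorem F407039 : act 4 n153576 = n198160 := d5_0 F407035 F401895 (iv3 D155912) D155913 (iv3 F244901)
theorem F407040 : act 6 n198159 = n153576 := d10_0 F407039 (iv6 D198160) D198159
def n198161 : Q := act 3 n108972
theorem D198161 : act 3 n108972 = n198161 := rfl
theorem F407041 : act 6 n198161 = n158424 := d7_2 F362662 D198161 F303270
theorem F407042 : act 7 n198161 = n113481 := d8_2 F402860 D198161 (iv3 F402863)
theorem F407043 : act 2 n198161 = n113480 := d15_3 (iv0 D113480) D113481 (iv7 F407042)
theorem F407044 : act 0 n113475 = n198161 := d21_4 (iv5 F347444) (iv1 F342110) F342109 (iv6 F360715) F407041 F303271 (iv1 D77435) D77436 F318843 D160492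
theorem F407045 : act 0 n198161 = n113484 := d21_4 F322739 (iv1 F128620) (iv5 F303271) (iv6 F407041) F323172 (iv5 F322444) (iv1 F214230) (iv5 F345857) F317562 (iv1 F322737)
def n198162 : Q := act 7 n108975
theorem D198162 : act 7 n108975 = n198162 := rfl
theorem F407046 : act 2 n198162 = n189893 := d4_1 D198162 F378139 F360221
theorem F407047 : act 3 n198162 = n108980 := d8_1 D198162 (iv7 D108980) (iv3 F168977)
theorem F407048 : act 4 n198162 = n109004 := d11_1 D198162 (iv7 D109004) (iv4 F168978)
theorem F407049 : act 5 n198162 = n126853 := d13_1 D198162 (iv7 D126853) (iv5 F330503)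
theorem F407050 : act 1 n121195 = n198162 := d15_1 (iv0 F261081) (iv7 D198162) (iv2 F360221)
def n198163 : Q := act 6 n108977
theorem D198163 : act 6 n108977 = n198163 := rfl
theorem F407051 : act 2 n198163 = n126019 := d3_1 D198163 (iv6 D126019) F202596
theorem F407052 : act 3 n198163 = n178176 := d7_1 D198163 (iv6 F336007) (iv3 F325138)
theorem F407053 : act 4 n198163 = n112785 := d10_1 D198163 F175586 (iv4 F202597)
theorem F407054 : act 7 n198163 = n125989 := d14_2 (iv7 F202598) D198163 (iv6 D125989) (iv7 F202617) F202616
theorem F407055 : act 5 n178363 = n198163 := d13_3 F407054 (iv5 F406397) F406401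
theorem F407056 : act 0 n197989 = n178363 := d17_2 (iv1 F168818) (iv5 F406410) F407055 F407053 (iv5 D112785) F162052 F162050 (iv0 F82015) D52054
theorem F407057 : act 0 n178363 = n197975 := d21_7 D52029 F82218 (iv5 D50317) D50318 D108977 D198163 (iv5 F407055) (iv5 D197975) (iv6 D108820) F79611
def n198164 : Q := act 3 n108978
theorem D198164 : act 3 n108978 = n198164 := rfl
theorem F407058 : act 4 n198164 = n109907 := d5_2 F168980 D198164 (iv3 D109907) (iv4 F170706) F170705
theorem F407059 : act 5 n198164 = n126746 := d6_2 F351650 D198164 (iv3 F351685)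
theorem F407060 : act 6 n198164 = n125982 := d7_2 (iv6 F168981) D198164 (iv3 D125982)
theorem F407061 : act 7 n198164 = n126017 := d8_2 F202594 D198164 (iv3 D126017)
theorem F407062 : act 0 n198164 = n164841 := d20_4 (iv4 F322459) (iv1 F93695) F168980 D198164 (iv3 D164841) (iv4 F359859) F359855 (iv4 F394687) F394686 F322464
def n198165 : Q := act 4 n108979
theorem D198165 : act 4 n108979 = n198165 := rfl
theorem F407063 : act 3 n198165 = n137825 := d5_1 D198165 F221051 F100628 (iv4 F93953) (iv3 F351668)
theorem F407064 : act 6 n198165 = n126840 := d10_2 (iv6 F351669) D198165 (iv4 D126840)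
def n198166 : Q := act 6 n108982
theorem D198166 : act 6 n108982 = n198166 := rfl
theorem F407065 : act 2 n198166 = n136323 := d3_1 D198166 (iv6 D136323) F168990
theorem F407066 : act 3 n198166 = n111866 := d7_1 D198166 (iv6 D111866) (iv3 F168989)
theorem F407067 : act 4 n198166 = n132253 := d10_1 D198166 (iv6 D132253) (iv4 F168991)
theorem F407068 : act 5 n198166 = n135478 := d12_1 D198166 (iv6 D135478) (iv5 F163882) (iv6 F81412) F168988
theorem F407069 : act 7 n198166 = n135478 := d14_2 (iv7 F168987) D198166 (iv6 D135478) F163880 F97484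
theorem F407070 : act 0 n198166 = n135215 := d21_4 (iv5 F76496) (iv1 F163883) F168988 D198166 F217399 F213964 D141306 F224328 (iv6 F168430) (iv1 D63697)
theorem F407071 : act 0 n135500 = n198166 := d21_4 D135489 (iv1 F217891) (iv5 F214355) (iv6 F217907) (iv6 D198166) (iv5 F168988) (iv1 F172589) F172586 (iv6 F99040) (iv1 F99063)
theorem F407072 : act 0 n132253 = n133172 := d18_2 F407071 F407067 (iv4 D133172) (iv5 D62484) D62483 (iv0 F102061) F95528 F99074 D135500
def n198167 : Q := act 3 n108983
theorem D198167 : act 3 n108983 = n198167 := rfl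
theorem F407073 : act 4 n198167 = n109031 := d5_2 D108983 D198167 (iv3 D109031) (iv4 D50343) (iv3 F79705)
theorem F407074 : act 6 n198167 = n115088 := d7_2 (iv6 F168994) D198167 (iv3 D115088)
theorem F407075 : act 7 n198167 = n191583 := d8_2 F211900 D198167 (iv3 F383898)
theorem F407076 : act 2 n189773 = n198167 := d4_3 F407075 (iv2 F383897) (iv7 F377701)
theorem F407077 : act 1 n191578 = n198167 := d15_1 (iv0 F383893) F407075 (iv2 F383897)
theorem F407078 : act 1 n198167 = n186712 := d15_1 F407077 F367770 (iv2 F383892)
def n198168 : Q := act 5 n108983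
theorem D198168 : act 5 n108983 = n198168 := rfl
theorem F407079 : act 2 n198168 = n136321 := d2_1 D198168 (iv5 D136321) (iv2 F168993)
def n198169 : Q := act 2 n108986
theorem D198169 : act 2 n108986 = n198169 := rfl
theorem F407080 : act 3 n198169 = n110122 := d0_2 D108986 D198169 F170262 (iv3 F170034) F170033
theorem F407081 : act 4 n198169 = n112157 := d1_2 (iv4 F169049) D198169 F244984
theorem F407082 : act 5 n198169 = n188348 := d2_2 F406526 D198169 (iv2 F406524)
theorem F407083 : act 7 n198169 = n110150 := d4_2 F405587 D198169 (iv2 F405585)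
theorem F407084 : act 1 n198169 = n170871 := d15_0 F405589 F405587 D198169
def n198170 : Q := act 3 n108987
theorem D198170 : act 3 n108987 = n198170 := rfl
theorem F407085 : act 2 n198170 = n110027 := d0_1 D198170 (iv3 D110027) F169943 D112410 (iv2 F174891)
theorem F407086 : act 4 n198170 = n127613 := d5_2 D108987 D198170 (iv3 F244985) (iv4 F169049) (iv3 D108986)
theorem F407087 : act 5 n198170 = n143034 := d6_2 (iv5 F325252) D198170 F353522
theorem F407088 : act 6 n198170 = n159315 := d7_2 F336501 D198170 F330666
theorem F407089 : act 0 n198170 = n113174 := d20_10 F176342 (iv1 D109875) (iv4 F80272) (iv3 D50883) F38736 D50316 F79701 D50323 D108987 D198170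
def n198171 : Q := act 6 n108991
theorem D198171 : act 6 n108991 = n198171 := rfl
theorem F407090 : act 2 n198171 = n110152 := d3_1 D198171 (iv6 D110152) (iv2 F170029)
theorem F407091 : act 3 n198171 = n108994 := d7_1 D198171 (iv6 D108994) D108991
theorem F407092 : act 4 n198171 = n124213 := d10_1 D198171 F299647 (iv4 F323098)
theorem F407093 : act 7 n198171 = n180163 := d14_2 F170030 D198171 F280518 (iv7 F323091) F325248
theorem F407094 : act 0 n198171 = n110300 := d21_4 D112504 (iv1 F404950) F404952 D198171 F327886 D124217 F304486 (iv5 D177787) (iv6 F325161) F173875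
theorem F407095 : act 0 n110305 = n198171 := d21_4 D123483 (iv1 F304202) (iv5 D170812) (iv6 F358824) (iv6 D198171) (iv5 F404952) (iv1 D197592) F343159 D112470 F326113
def n198172 : Q := act 1 n108994
theorem D198172 : act 1 n108994 = n198172 := rfl
theorem F407096 : act 7 n198172 = n193402 := d15_2 F359291 D198172 F389725
theorem F407097 : act 4 n198172 = n193403 := d18_7 (iv1 F314755) F120222 F130873 D55542 D120603 (iv4 F359290) D198172 F389733 (iv5 D131508)
theorem F407098 : act 6 n178222 = n198172 := d21_3 D198022 F406539 F337720 (iv1 D198172) (iv6 D108994) (iv5 F402875) (iv1 D108867) (iv5 D50269) D50270 D108870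
theorem F407099 : act 2 n198172 = n109240 := d3_1 F407098 (iv6 F341265) (iv2 F337721)
theorem F407100 : act 5 n198172 = n157156 := d12_1 F407098 F362454 F350962 F263393 F337720
theorem F407101 : act 3 n130238 = n198172 := d6_3 F407100 (iv3 D157156) (iv5 F208785)
def n198173 : Q := act 5 n108994
theorem D198173 : act 5 n108994 = n198173 := rfl
theorem F407102 : act 4 n198173 = n156687 := d16_2 (iv4 F359290) D198173 F338251 (iv4 D152593) (iv5 D71969) D71968 D152592 (iv7 F259405) F259404
theorem F407103 : act 0 n139020 = n198173 := d19_0 (iv5 D198173) F359290 F303136 (iv1 D77684) (iv5 D35463) (iv4 F33888) F33887 (iv1 F116658) D18727 (iv4 F296502) D40158 F311847 (iv5 F311160) D139200 F222399 (iv1 F215578) (iv5 F310807) (iv4 F313040) D139020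
def n198174 : Q := act 6 n108995
theorem D198174 : act 6 n108995 = n198174 := rfl
theorem F407104 : act 2 n198174 = n109000 := d3_1 D198174 (iv6 D109000) (iv2 F169004)
theorem F407105 : act 5 n198174 = n187937 := d12_1 D198174 F372860 F372857 (iv6 D108996) D108995
theorem F407106 : act 0 n187885 = n198174 := d21_7 (iv5 D157874) (iv1 F327454) F327456 D188312 F405145 (iv6 D187886) D187885 F407105 F372860 F372858
def n198175 : Q := act 4 n108997
theorem D198175 : act 4 n108997 = n198175 := rfl
theorem F407107 : act 2 n198175 = n198009 := d1_1 D198175 (iv4 D198009) F359823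
theorem F407108 : act 7 n198175 = n198008 := d11_2 F359824 D198175 (iv4 D198008)
theorem F407109 : act 5 n198175 = n126869 := d16_1 D198175 (iv4 D126869) (iv5 D59536) D59535 (iv5 F320720) (iv4 F325297) F352236 F359821 F359823
theorem F407110 : act 0 n198175 = n132393 := d17_0 (iv5 D132393) F96832 D129423 (iv4 F402874) F402875 F168509 D197740 F405600 D198175
def n198176 : Q := act 6 n108997
theorem D198176 : act 6 n108997 = n198176 := rfl
theorem F407111 : act 2 n198176 = n198010 := d3_1 D198176 (iv6 D198010) F359823
theorem F407112 : act 3 n198176 = n180533 := d7_1 D198176 (iv6 F387524) F387527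
theorem F407113 : act 5 n198176 = n170849 := d12_1 D198176 (iv6 F365579) F405466 (iv6 D197709) (iv5 F359825)
theorem F407114 : act 0 n170877 = n198176 := d21_4 (iv5 D50133) D50130 D108567 (iv6 F363363) (iv6 D198176) F359825 (iv1 F167981) D108864 F372898 (iv1 D108578)
def n198177 : Q := act 4 n108998
theorem D198177 : act 4 n108998 = n198177 := rfl
theorem F407115 : act 2 n198177 = n198008 := d1_1 D198177 (iv4 D198008) (iv2 F359819)
theorem F407116 : act 5 n198177 = n126866 := d9_2 F352236 D198177 (iv4 D126866) (iv5 D59532) D59531 D126864 (iv4 F359826) (iv5 F359825) D198175 F407109 (iv4 D126869) (iv5 D59536) D59535 (iv5 F320720) (iv4 F325297)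
theorem F407117 : act 7 n198177 = n198009 := d11_2 (iv7 F359821) D198177 (iv4 D198009)
theorem F407118 : act 1 n198177 = n132393 := d18_8 F96832 F95389 (iv1 F95309) (iv4 F207354) F330980 (iv4 D108999) D108998 D198177 (iv5 D132393)
def n198178 : Q := act 0 n108999
theorem D198178 : act 0 n108999 = n198178 := rfl
theorem F407119 : act 5 n198178 = n137320 := d17_3 (iv1 F207356) F330980 D198178 (iv4 D137320) (iv5 D64549) F100468 F100466 (iv0 D63024) (iv4 F98336)
theorem F407120 : act 1 n126872 = n198178 := d15_0 (iv0 D198178) F330982 F207352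
def n198179 : Q := act 1 n108999
theorem D198179 : act 1 n108999 = n198179 := rfl
theorem F407121 : act 1 n198179 = n126872 := d15_1 D198179 (iv7 F207639) (iv2 F330981)
theorem F407122 : act 5 n137319 = n198179 := d17_5 (iv1 D64551) (iv5 D30383) D30381 D64544 D137319 F407121 (iv5 D126872) D126870 F204111
def n198180 : Q := act 6 n108999
theorem D198180 : act 6 n108999 = n198180 := rfl
theorem F407123 : act 4 n198180 = n109000 := d10_1 D198180 (iv6 D109000) D108999
def n198181 : Q := act 1 n109000
theorem D198181 : act 1 n109000 = n198181 := rfl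
def n198182 : Q := act 7 n109000
theorem D198182 : act 7 n109000 = n198182 := rfl
theorem F407124 : act 3 n198182 = n109008 := d8_1 D198182 (iv7 D109008) (iv3 F169006)
theorem F407125 : act 5 n198182 = n187938 := d13_1 D198182 F372903 F372896
theorem F407126 : act 1 n187885 = n198182 := d15_1 (iv0 F407106) (iv7 D198182) (iv2 F407104)
def n198183 : Q := act 6 n109001
theorem D198183 : act 6 n109001 = n198183 := rfl
theorem F407127 : act 2 n198183 = n122316 := d3_1 D198183 F195583 (iv2 F327605)
theorem F407128 : act 3 n198183 = n170818 := d7_1 D198183 F268403 (iv3 F327606)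
theorem F407129 : act 4 n198183 = n124628 := d10_1 D198183 (iv6 F339246) (iv4 F327607)
theorem F407130 : act 7 n198183 = n178223 := d14_2 (iv7 F327608) D198183 F277778 F353974 F268790
theorem F407131 : act 0 n198183 = n178222 := d21_10 (iv5 F337720) F359310 F359304 (iv6 F353073) (iv1 D111272) D111275 F327456 F363799 (iv5 F333848) D198183
theorem F407132 : act 1 n198183 = n178221 := d15_1 (iv0 F407131) (iv7 F337718) (iv2 F337721)
def n198184 : Q := act 3 n109005
theorem D198184 : act 3 n109005 = n198184 := rfl
theorem F407133 : act 2 n198184 = n187536 := d0_1 D198184 (iv3 D187536) F138926 D90670 F351298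
theorem F407134 : act 7 n198184 = n187884 := d8_2 F405664 D198184 (iv3 F405667)
theorem F407135 : act 1 n187883 = n198184 := d15_1 D187883 F407134 (iv2 D187884)
theorem F407136 : act 1 n198184 = n187882 := d15_0 (iv0 D187882) (iv7 F370719) (iv2 F407133)
def n198185 : Q := act 5 n109005
theorem D198185 : act 5 n109005 = n198185 := rfl
theorem F407137 : act 2 n198185 = n187914 := d2_1 D198185 (iv5 D187914) F351298
theorem F407138 : act 1 n198185 = n110219 := d17_6 F345201 (iv5 F393346) (iv1 F393347) (iv5 F351297) (iv4 F351299) D198185 (iv5 F343157) (iv0 D106929) (iv4 F164796)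
theorem F407139 : act 0 n198185 = n196377 := d21_1 D198185 (iv5 D196377) (iv6 F402315) F400512 (iv6 D108777) F79574 (iv1 F38513) D24543 D50328 D109005
def n198186 : Q := act 6 n109006
theorem D198186 : act 6 n109006 = n198186 := rfl
theorem F407140 : act 3 n198186 = n187526 := d7_1 D198186 (iv6 D187526) F351291
theorem F407141 : act 4 n198186 = n157937 := d10_1 D198186 F357952 (iv4 F351285)
theorem F407142 : act 0 n170880 = n198186 := d21_4 (iv5 D75210) D75208 (iv5 F126263) D170880 (iv6 D198186) (iv5 F387519) F387522 (iv5 F343157) (iv6 F343109) F327006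
def n198187 : Q := act 5 n109010
theorem D198187 : act 5 n109010 = n198187 := rfl
theorem F407143 : act 3 n198187 = n109012 := d6_1 D198187 (iv5 D109012) D109010
theorem F407144 : act 7 n198187 = n198010 := d13_2 F405675 D198187 (iv5 F406501)
theorem F407145 : act 0 n198187 = n170877 := d17_2 (iv1 F406784) D198187 F268483 F158030 (iv5 F129391) (iv0 F382067) (iv5 D176827) F250159 (iv4 F406782)
theorem F407146 : act 6 n197850 = n198187 := d14_5 F407144 (iv6 D198010) (iv7 F359821) F400292 (iv7 F406019)
def n198188 : Q := act 6 n109010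
theorem D198188 : act 6 n109010 = n198188 := rfl
theorem F407147 : act 3 n198188 = n109013 := d7_1 D198188 (iv6 D109013) D109010
theorem F407148 : act 4 n198188 = n190686 := d10_1 D198188 F380592 F174602
theorem F407149 : act 5 n198188 = n197851 := d12_1 D198188 (iv6 D197851) D197850 F407146 (iv5 D198187)
theorem F407150 : act 0 n194484 = n198188 := d17_0 F407149 F406026 F363364 (iv4 F331240) F331238 F370025 F370021 F160359 D194484
theorem F407151 : act 1 n197851 = n193302 := d17_6 (iv1 F380640) F380638 (iv1 F381216) (iv5 F381215) (iv4 F407148) F407149 F394638 F406556 F406554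
theorem F407152 : act 1 n170811 = n198188 := d18_8 F406026 F223629 D197298 (iv4 F403901) (iv5 D194964) (iv4 D104812) F331200 (iv4 F268401) F407149
def n198189 : Q := act 6 n109012
theorem D198189 : act 6 n109012 = n198189 := rfl
theorem F407153 : act 3 n198189 = n197850 := d7_1 D198189 F407146 F407143
theorem F407154 : act 4 n198189 = n191335 := d10_1 D198189 (iv6 D191335) F343094
theorem F407155 : act 5 n198189 = n197848 := d12_1 D198189 (iv6 F406017) (iv5 F405569) (iv6 D109013) D109012
theorem F407156 : act 0 n197848 = n140724 := d21_7 (iv5 F302066) (iv1 F329127) (iv5 F350348) F198881 F327458 D198189 F407155 F404991 (iv6 F404988) (iv1 F268238)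
theorem F407157 : act 0 n140457 = n197848 := d21_1 (iv5 F404984) (iv5 F407155) (iv6 D198189) (iv1 F343097) (iv6 D108552) (iv5 D50125) (iv1 F38363) (iv5 F79290) D108498 D197602
def n198190 : Q := act 1 n109013
theorem D198190 : act 1 n109013 = n198190 := rfl
theorem F407158 : act 7 n198190 = n109242 := d15_2 F406562 D198190 (iv2 F173458)
theorem F407159 : act 4 n198190 = n109024 := d17_9 (iv1 D109024) F79712 (iv1 D30676) (iv5 F38405) (iv4 F79462) D108622 D197733 (iv5 F405569) D198190
theorem F407160 : act 6 n142000 = n198190 := d21_3 (iv5 F336723) D115735 (iv5 F364137) (iv1 D198190) (iv6 D109013) D109012 (iv1 F343097) F343098 (iv6 F336720) F336716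
theorem F407161 : act 2 n198190 = n138644 := d3_1 F407160 (iv6 F336736) F336734
theorem F407162 : act 5 n198031 = n198190 := d21_2 D108882 (iv1 F406565) (iv6 F407160) F226743 (iv6 D111586) D111585 F173122 F168715 (iv6 F168492) (iv1 F168493)
theorem F407163 : act 3 n198190 = n178221 := d6_1 F407162 F337717 F406567
theorem F407164 : act 6 n140342 = n198031 := d21_5 F404991 (iv1 D197603) D197604 F404993 (iv1 F223450) F407162 (iv1 D198190) F405569 F406017 F407156
theorem F407165 : act 3 n140333 = n140342 := d7_3 F407164 (iv3 F406567) F404290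
def n198191 : Q := act 6 n109016
theorem D198191 : act 6 n109016 = n198191 := rfl
theorem F407166 : act 2 n198191 = n110161 := d3_1 D198191 F343158 (iv2 F172906)
theorem F407167 : act 3 n198191 = n188154 := d7_1 D198191 (iv6 F372504) (iv3 F365751)
theorem F407168 : act 4 n198191 = n191336 := d10_1 D198191 (iv6 D191336) (iv4 F336755)
theorem F407169 : act 5 n198191 = n109619 := d12_1 D198191 (iv6 F360043) (iv5 D111530) (iv6 F168472) D109016
theorem F407170 : act 7 n110160 = n198191 := d13_0 F407169 (iv7 F173873) F173874
theorem F407171 : act 0 n110164 = n198191 := d17_2 (iv1 F170133) (iv5 F170315) F407169 (iv4 D109619) F105472 (iv0 F324521) (iv5 F58387) D81905 (iv4 F323098)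
theorem F407172 : act 1 n110123 = n198191 := d17_6 (iv1 F81432) F81430 F170941 (iv5 D50788) D50787 D110123 F407169 (iv0 F169618) (iv4 D109373)
theorem F407173 : act 0 n109140 = n191336 := d18_2 (iv1 F169120) D109140 (iv4 F407168) F407169 (iv4 D109619) F324422 (iv4 F115511) F303322 F325548
theorem F407174 : act 0 n191336 = n109124 := d18_2 F407171 F407168 (iv4 D109124) (iv5 D50373) F321446 (iv0 F321451) F170261 F170259 (iv5 F170315)
def n198192 : Q := act 3 n109017
theorem D198192 : act 3 n109017 = n198192 := rfl
theorem F407175 : act 5 n198192 = n111419 := d6_2 F172612 D198192 (iv3 D111419)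
theorem F407176 : act 0 n198192 = n170852 := d19_4 D94104 F362817 F362812 D198192 (iv5 D170852) F126254 (iv3 D38874) (iv1 F54666) F54664 (iv4 D22978) (iv3 F36029) (iv1 F292768) (iv5 D20795) F65917 (iv3 F65916) (iv1 F34356) F16645 (iv4 F65808) D43995
def n198193 : Q := act 6 n109017
theorem D198193 : act 6 n109017 = n198193 := rfl
def n198194 : Q := act 1 n109023
theorem D198194 : act 1 n109023 = n198194 := rfl
theorem F407177 : act 1 n198194 = n139391 := d15_1 D198194 (iv7 F405681) F405678
theorem F407178 : act 7 n198194 = n109228 := d15_2 F223583 D198194 (iv2 F173447)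
theorem F407179 : act 4 n198194 = n197149 := d17_9 F403277 (iv5 D144359) (iv1 F165729) F80616 (iv4 F101533) D140352 F351250 (iv5 F341357) D198194
theorem F407180 : act 6 n139735 = n198194 := d21_3 (iv5 F336693) (iv1 F168414) D139735 (iv1 D198194) (iv6 D109023) D109022 (iv1 F336670) F336669 (iv6 F336685) (iv1 F336690)
theorem F407181 : act 5 n198194 = n198050 := d21_6 (iv5 F400692) F400694 F342480 (iv6 F337420) F246264 F407180 (iv1 D198050) (iv5 D108889) (iv6 F101699) (iv1 F172824)
theorem F407182 : act 6 n143936 = n198050 := d12_4 (iv6 F407180) (iv5 D139735) (iv6 F103292) D143936 (iv5 F407181)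
def n198195 : Q := act 5 n109025
theorem D198195 : act 5 n109025 = n198195 := rfl
theorem F407183 : act 2 n198195 = n157931 := d2_1 D198195 F248827 (iv2 F327469)
theorem F407184 : act 3 n198195 = n109026 := d6_1 D198195 (iv5 D109026) D109025
theorem F407185 : act 6 n198195 = n151253 := d12_2 F173060 D198195 (iv5 F363678) F400856 (iv5 F400858)
theorem F407186 : act 4 n151255 = n198195 := d10_3 F407185 (iv4 D151253) D151255
theorem F407187 : act 0 n183047 = n198195 := d20_4 (iv4 D183042) (iv1 D87381) D87382 D183047 F407184 F351113 (iv1 D88933) D88934 F295142 F363799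
def n198196 : Q := act 3 n109030
theorem D198196 : act 3 n109030 = n198196 := rfl
theorem F407188 : act 4 n198196 = n129172 := d5_2 (iv4 F169031) D198196 (iv3 D129172) (iv4 D60726) D60725
theorem F407189 : act 5 n198196 = n170770 := d6_2 (iv5 F343089) D198196 (iv3 D170770)
theorem F407190 : act 7 n198196 = n134144 := d8_2 F170715 D198196 (iv3 D134144)
def n198197 : Q := act 6 n109030
theorem D198197 : act 6 n109030 = n198197 := rfl
theorem F407191 : act 2 n198197 = n134148 := d3_1 D198197 (iv6 D134148) (iv2 F170716)
theorem F407192 : act 4 n198197 = n129171 := d10_1 D198197 (iv6 D129171) (iv4 F169031)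
theorem F407193 : act 5 n198197 = n193832 := d12_1 D198197 (iv6 D193832) F290112 (iv6 D170772) (iv5 F343089)
theorem F407194 : act 0 n123638 = n198197 := d21_4 (iv5 F328116) F125738 (iv5 F125737) D123638 (iv6 D198197) F343089 (iv1 D81872) F327074 (iv6 F327076) (iv1 F327643)
theorem F407195 : act 1 n135218 = n198197 := d15_0 (iv0 F407194) F329431 (iv2 F217404)
def n198198 : Q := act 1 n109035
theorem D198198 : act 1 n109035 = n198198 := rfl
theorem F407196 : act 1 n198198 = n109132 := d15_1 D198198 (iv7 F406695) F406693
theorem F407197 : act 7 n198198 = n109134 := d15_2 (iv0 F405755) D198198 (iv2 D109134)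
theorem F407198 : act 3 n109111 = n198198 := d20_3 F98646 D108016 F169984 (iv1 D198198) (iv3 D109035) D109036 (iv1 F380525) F380527 (iv3 F358639) (iv1 D134818)
theorem F407199 : act 2 n198198 = n109105 := d0_1 F407198 (iv3 D109105) (iv2 D50370) D50371 D109111
theorem F407200 : act 4 n198198 = n126041 := d5_2 F169984 F407198 F202741 F351031 (iv3 F319458)
def n198199 : Q := act 1 n109036
theorem D198199 : act 1 n109036 = n198199 := rfl
theorem F407201 : act 1 n198199 = n109041 := d15_1 D198199 (iv7 F405768) F405767
theorem F407202 : act 7 n198199 = n189919 := d15_2 F380525 D198199 (iv2 F380522)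
theorem F407203 : act 5 n198199 = n186920 := d18_9 F368507 (iv4 F242305) (iv1 F373101) (iv4 F379369) F379366 F244978 F168590 D109036 D198199
theorem F407204 : act 2 n189856 = n198199 := d2_3 F407203 F368505 D189856
theorem F407205 : act 3 n112101 = n198199 := d6_3 F407203 (iv3 F380533) F380534
theorem F407206 : act 6 n193939 = n198199 := d12_0 F407203 (iv6 D186920) F137066 D102489 D193939
def n198200 : Q := act 3 n109036
theorem D198200 : act 3 n109036 = n198200 := rfl
theorem F407207 : act 4 n198200 = n125828 := d5_2 D109036 D198200 (iv3 D125828) (iv4 F169043) (iv3 D109035)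
theorem F407208 : act 0 n198200 = n195030 := d20_10 (iv4 D195030) (iv1 D105175) F76483 (iv3 D34033) D34032 (iv3 F79726) (iv4 D50348) D50345 D109036 D198200
theorem F407209 : act 1 n198200 = n195026 := d15_1 (iv0 F407208) F395479 (iv2 F395488)
def n198201 : Q := act 5 n109036
theorem D198201 : act 5 n109036 = n198201 := rfl
theorem F407210 : act 7 n198201 = n192842 := d13_2 F405758 D198201 F405761
theorem F407211 : act 4 n198201 = n188364 := d16_2 D109036 D198201 (iv5 D188364) (iv4 F367575) D191878 (iv4 F384651) (iv5 D109042) (iv7 F405754) F405753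
theorem F407212 : act 0 n198201 = n147114 := d18_0 F230656 F360247 (iv4 F391559) F391560 (iv4 F407081) F407084 (iv4 F380527) F380525 D198201
def n198202 : Q := act 6 n109036
theorem D198202 : act 6 n109036 = n198202 := rfl
theorem F407213 : act 2 n198202 = n194987 := d3_1 D198202 F405776 F405767
theorem F407214 : act 4 n198202 = n109038 := d10_1 D198202 (iv6 D109038) D109036
theorem F407215 : act 5 n189692 = n198202 := d21_8 (iv5 D190673) F366430 (iv5 F378267) F378268 (iv1 D173265) D173267 (iv5 F293637) D189692 (iv6 D198202) (iv1 F380525)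
theorem F407216 : act 0 n198202 = n189873 := d17_2 D189692 F407215 F378056 F372716 F171486 (iv0 F377442) (iv5 D189698) (iv0 D94342) (iv4 F145476)
def n198203 : Q := act 0 n109038
theorem D198203 : act 0 n109038 = n198203 := rfl
theorem F407217 : act 2 n109222 = n198203 := d15_3 (iv0 D198203) (iv0 F355981) F173444
def n198204 : Q := act 4 n109040
theorem D198204 : act 4 n109040 = n198204 := rfl
theorem F407218 : act 2 n198204 = n142507 := d1_1 D198204 (iv4 F405809) F405808
theorem F407219 : act 3 n198204 = n194988 := d5_1 D198204 F395315 F169851 (iv4 D109041) D109040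
theorem F407220 : act 7 n198204 = n142440 := d11_2 F405766 D198204 (iv4 F405773)
theorem F407221 : act 5 n198204 = n142441 := d18_4 (iv1 F174563) (iv4 F405817) (iv1 F405818) D198204 F225351 F102655 D66831 (iv0 F361858) F361856
theorem F407222 : act 0 n198204 = n136294 := d20_1 D198204 F223507 F223510 (iv1 F204666) (iv3 F361198) F164952 D196455 F400735 (iv3 F405816) (iv1 F405818)
theorem F407223 : act 0 n110205 = n198204 := d20_1 (iv4 F170379) (iv4 D198204) (iv3 D109040) (iv1 D50346) (iv3 D24550) D24551 (iv1 F38811) D30834 D65892 F101570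
def n198205 : Q := act 5 n109040
theorem D198205 : act 5 n109040 = n198205 := rfl
theorem F407224 : act 3 n198205 = n109042 := d6_1 D198205 (iv5 D109042) D109040
theorem F407225 : act 4 n198205 = n142607 := d16_2 (iv4 D198204) D198205 (iv5 D142607) (iv4 D66841) (iv5 D31148) (iv4 F49494) D66809 D142507 (iv2 F407218)
def n198206 : Q := act 5 n109041
theorem D198206 : act 5 n109041 = n198206 := rfl
theorem F407226 : act 2 n198206 = n192842 := d2_1 D198206 F405761 F405757
theorem F407227 : act 3 n198206 = n190057 := d6_1 D198206 F378707 F169851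
theorem F407228 : act 4 n198206 = n188368 := d9_1 D198206 (iv5 D188368) F373102 D191880 F384635 (iv5 D109037) D109036 D198201 F407211 (iv5 D188364) (iv4 F367575) D191878 (iv4 F384651) (iv5 D109042) D109041
theorem F407229 : act 1 n198206 = n147114 := d17_6 (iv1 F400137) F387477 (iv1 F387468) (iv5 D109042) D109041 D198206 (iv5 F378014) F378233 (iv4 F400140)
theorem F407230 : act 6 n198206 = n190055 := d21_3 D190673 F380526 D198206 F378671 (iv6 D95647) F70248 (iv1 F33773) D44592 D95453 F347766
def n198207 : Q := act 6 n109042
theorem D198207 : act 6 n109042 = n198207 := rfl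
theorem F407231 : act 0 n198207 = n109209 := d21_4 (iv5 F370870) (iv1 F168592) D109042 D198207 F351226 (iv5 D106865) D106862 F224839 F370875 (iv1 F370874)
theorem F407232 : act 1 n198207 = n193660 := d15_1 (iv0 F407231) F390605 F375367
def n198208 : Q := act 0 n109046
theorem D198208 : act 0 n109046 = n198208 := rfl
def n198209 : Q := act 1 n109046
theorem D198209 : act 1 n109046 = n198209 := rfl
theorem F407233 : act 1 n198209 = n109058 := d15_1 D198209 (iv7 D109058) (iv2 F169047)
def n198210 : Q := act 7 n109046
theorem D198210 : act 7 n109046 = n198210 := rfl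
theorem F407234 : act 2 n198210 = n109058 := d4_1 D198210 (iv7 D109058) (iv2 F169047)
theorem F407235 : act 1 n109058 = n198208 := d15_0 (iv0 D198208) D198210 F407234
theorem F407236 : act 1 n109056 = n198210 := d15_1 D109056 (iv7 D198210) F169047
theorem F407237 : act 1 n198210 = n109055 := d15_0 (iv0 D109055) D109058 (iv2 F407234)
def n198211 : Q := act 5 n109047
theorem D198211 : act 5 n109047 = n198211 := rfl
theorem F407238 : act 3 n198211 = n109938 := d6_1 D198211 (iv5 D109938) (iv3 F169048)
theorem F407239 : act 7 n198211 = n193973 := d13_2 F174393 D198211 F391560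
theorem F407240 : act 4 n198211 = n146911 := d16_2 F170306 D198211 (iv5 F366644) F373122 D187628 (iv4 F406525) F406526 (iv7 F405587) F405585
theorem F407241 : act 1 n198211 = n155976 := d17_8 F387222 (iv5 D188364) (iv1 F140269) (iv5 F373098) (iv4 F379369) F379366 F244980 D198211 F368725
def n198212 : Q := act 6 n109047
theorem D198212 : act 6 n109047 = n198212 := rfl
theorem F407242 : act 3 n198212 = n109939 := d7_1 D198212 (iv6 D109939) (iv3 F169048)
theorem F407243 : act 4 n198212 = n195890 := d10_1 D198212 F398626 F170306
theorem F407244 : act 5 n176839 = n198212 := d21_8 (iv5 F379366) F379368 (iv5 F351020) F351021 F129377 (iv6 F276212) (iv5 D176841) D176839 (iv6 D198212) (iv1 F244980)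
def n198213 : Q := act 1 n109050
theorem D198213 : act 1 n109050 = n198213 := rfl
theorem F407245 : act 5 n198213 = n193738 := d17_7 (iv1 F346632) F157101 (iv1 D100971) (iv5 F153570) (iv4 F385722) F385723 D198213 (iv0 F390852) (iv4 D137178)
theorem F407246 : act 4 n137090 = n109055 := d18_5 (iv1 F390853) (iv4 D137183) (iv1 D64483) (iv4 F100364) D137090 (iv0 D109055) (iv4 F169052) D198213 F407245
theorem F407247 : act 6 n194818 = n198213 := d21_3 F387878 F382496 (iv5 F394581) (iv1 D198213) (iv6 D109050) D109049 F353328 F353327 F359238 D192812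
theorem F407248 : act 2 n198213 = n173837 := d3_1 F407247 (iv6 F302360) (iv2 F394580)
theorem F407249 : act 3 n198213 = n194819 := d7_1 F407247 (iv6 D194819) D194818
theorem F407250 : act 3 n137098 = n159276 := d20_5 F169052 D109055 (iv4 F407246) F220254 D137098 (iv4 D159276) (iv1 F250701) (iv4 F394597) (iv3 F407249) (iv1 D198213)
def n198214 : Q := act 7 n109050
theorem D198214 : act 7 n109050 = n198214 := rfl
theorem F407251 : act 3 n198214 = n155966 := d8_1 D198214 (iv7 D155966) (iv3 F169051)
theorem F407252 : act 4 n198214 = n109058 := d11_1 D198214 (iv7 D109058) (iv4 F169052)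
theorem F407253 : act 1 n173837 = n198214 := d15_1 (iv0 F394801) (iv7 D198214) (iv2 F390450)
def n198215 : Q := act 3 n109051
theorem D198215 : act 3 n109051 = n198215 := rfl
theorem F407254 : act 4 n198215 = n111516 := d5_2 F384649 D198215 F173043 (iv4 F171791) (iv3 F384648)
theorem F407255 : act 5 n198215 = n197831 := d6_2 F378262 D198215 F405932
theorem F407256 : act 6 n198215 = n111515 := d7_2 F370875 D198215 (iv3 F224836)
theorem F407257 : act 0 n198215 = n109136 := d20_4 F387540 (iv1 F384644) F384649 D198215 F169126 D109140 F407173 (iv4 F407168) F407167 (iv1 F387542)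
def n198216 : Q := act 3 n109052
theorem D198216 : act 3 n109052 = n198216 := rfl
theorem F407258 : act 6 n198216 = n183045 := d7_2 (iv6 F370873) D198216 F338453
theorem F407259 : act 4 n148051 = n198216 := d19_2 F243184 D148051 (iv3 D198216) (iv1 D109052) (iv5 D50349) D50348 F79726 (iv1 F53383) D51540 (iv4 F82053) (iv3 F82052) (iv1 F104504) (iv5 F105416) (iv4 F320057) D190678 F380549 F378267 (iv4 F368341) F368340
def n198217 : Q := act 5 n109054
theorem D198217 : act 5 n109054 = n198217 := rfl
theorem F407260 : act 3 n198217 = n109067 := d6_1 D198217 (iv5 D109067) (iv3 F169054)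
theorem F407261 : act 6 n198217 = n109057 := d12_2 D109054 D198217 (iv5 D109057) (iv6 D50350) D50349
theorem F407262 : act 7 n198217 = n194688 := d13_2 (iv7 F331082) D198217 (iv5 D194688)
def n198218 : Q := act 2 n109055
theorem D198218 : act 2 n109055 = n198218 := rfl
theorem F407263 : act 7 n109056 = n198218 := d15_2 (iv0 D109055) D109056 (iv2 D198218)
def n198219 : Q := act 3 n109055
theorem D198219 : act 3 n109055 = n198219 := rfl
def n198220 : Q := act 5 n109055
theorem D198220 : act 5 n109055 = n198220 := rfl
theorem F407264 : act 4 n198220 = n196357 := d16_4 (iv4 F100364) D137090 F407246 D198220 F400466 (iv4 D192927) (iv5 F157101) F346634 F100420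
theorem F407265 : act 0 n198220 = n177368 := d21_1 D198220 (iv5 F333031) (iv6 D174908) D174906 F378259 F378260 (iv1 D109052) (iv5 D50349) D50350 D109055
def n198221 : Q := act 6 n109055
theorem D198221 : act 6 n109055 = n198221 := rfl
def n198222 : Q := act 7 n109055
theorem D198222 : act 7 n109055 = n198222 := rfl
theorem F407266 : act 2 n198222 = n109056 := d4_1 D198222 F407263 (iv2 D198218)
def n198223 : Q := act 3 n109056
theorem D198223 : act 3 n109056 = n198223 := rfl
theorem F407267 : act 4 n109752 = n198223 := d20_2 F268461 (iv1 F354533) (iv3 D198223) (iv1 D109056) F79728 (iv4 F79730) D109059 F169057 D197747 F405615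
theorem F407268 : act 6 n198223 = n194880 := d10_2 (iv6 F354535) F407267 (iv4 D194880)
def n198224 : Q := act 4 n109056
theorem D198224 : act 4 n109056 = n198224 := rfl
theorem F407269 : act 3 n198224 = n185461 := d5_1 D198224 F287723 (iv3 F354534) F407267 (iv3 D198223)
theorem F407270 : act 5 n198224 = n193743 := d16_1 D198224 F390875 F157101 D192927 (iv5 F400466) (iv4 F407264) (iv5 D198220) D198222 F407266
theorem F407271 : act 6 n185460 = n198224 := d12_0 F407270 (iv6 D193743) F352902 (iv6 F293238) (iv5 F287718)
theorem F407272 : act 0 n198224 = n193939 := d21_1 (iv5 F407270) (iv5 D193939) (iv6 D102489) F74738 D99758 F344544 (iv1 F81759) D109716 (iv6 F352923) F390878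
def n198225 : Q := act 5 n109056
theorem D198225 : act 5 n109056 = n198225 := rfl
theorem F407273 : act 4 n198225 = n196358 := d9_1 D198225 (iv5 F402517) (iv4 D137188) (iv5 D64484) (iv4 F100364) D137090 F407246 D198220 F407264 F400466 (iv4 D192927) (iv5 F157101) (iv4 F390875) (iv5 F407270) (iv4 D198224)
theorem F407274 : act 6 n192388 = n198225 := d10_0 F407273 (iv6 F402515) F390071
theorem F407275 : act 0 n177368 = n198225 := d20_10 F407273 (iv1 D196358) F164788 F78347 D49607 D107396 F165441 F320482 D84503 D177368
def n198226 : Q := act 6 n109056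
theorem D198226 : act 6 n109056 = n198226 := rfl
theorem F407276 : act 3 n198226 = n194880 := d7_1 D198226 (iv6 F407268) (iv3 D198223)
theorem F407277 : act 4 n198226 = n185460 := d10_1 D198226 F407271 (iv4 D198224)
theorem F407278 : act 5 n198226 = n192901 := d12_1 D198226 (iv6 D192901) (iv5 F386624) F407274 (iv5 D198225)
theorem F407279 : act 7 n191257 = n198226 := d11_0 F407277 F287719 D191257
def n198227 : Q := act 0 n109057
theorem D198227 : act 0 n109057 = n198227 := rfl
def n198228 : Q := act 1 n109057
theorem D198228 : act 1 n109057 = n198228 := rfl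
def n198229 : Q := act 4 n109057
theorem D198229 : act 4 n109057 = n198229 := rfl
theorem F407280 : act 3 n198229 = n196608 := d5_1 D198229 (iv4 D196608) (iv3 F364959) (iv4 D109071) (iv3 F169055)
def n198230 : Q := act 7 n109057
theorem D198230 : act 7 n109057 = n198230 := rfl
theorem F407281 : act 3 n198230 = n109072 := d8_1 D198230 (iv7 D109072) (iv3 F169055)
theorem F407282 : act 5 n198230 = n109058 := d13_1 D198230 (iv7 D109058) D109057
def n198231 : Q := act 5 n109059
theorem D198231 : act 5 n109059 = n198231 := rfl
theorem F407283 : act 2 n198231 = n126169 := d2_1 D198231 (iv5 D126169) F202524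
theorem F407284 : act 6 n198231 = n197517 := d12_2 (iv6 F173233) D198231 (iv5 D197517) F173231 (iv5 F173230)
theorem F407285 : act 7 n198231 = n126171 := d13_2 F202519 D198231 (iv5 D126171)
theorem F407286 : act 0 n198231 = n127122 := d17_2 D109059 D198231 F204373 (iv4 F175463) D140690 (iv0 F223781) (iv5 D108963) F164016 (iv4 F79730)
theorem F407287 : act 4 n198231 = n141990 := d17_4 (iv1 F162138) (iv5 F79731) D109059 D198231 (iv5 F246298) F223763 (iv5 D66002) F101684 (iv4 F162135)
def n198232 : Q := act 6 n109065
theorem D198232 : act 6 n109065 = n198232 := rfl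
theorem F407288 : act 2 n198232 = n138762 := d3_1 D198232 (iv6 F405717) (iv2 F405719)
theorem F407289 : act 3 n198232 = n196745 := d7_1 D198232 (iv6 D196745) F351238
theorem F407290 : act 7 n198232 = n157937 := d14_2 F351239 D198232 F357952 F351294 (iv6 F165301)
theorem F407291 : act 0 n198232 = n157863 := d21_4 D140376 F351240 (iv5 F351237) D198232 (iv6 D157863) (iv5 D75205) (iv1 F60680) D86159 (iv6 F359228) (iv1 D140375)
theorem F407292 : act 5 n198232 = n156308 := d21_6 (iv5 D11618) D11615 D24552 D50354 D109065 D198232 (iv1 F364777) (iv5 D109198) (iv6 D50392) (iv1 D24563)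
theorem F407293 : act 0 n157939 = n198232 := d21_4 (iv5 F39268) D51521 D111750 F345271 (iv6 D198232) F351237 (iv1 F342497) F223730 F351219 (iv1 D50396)
def n198233 : Q := act 3 n109066
theorem D198233 : act 3 n109066 = n198233 := rfl
theorem F407294 : act 2 n198233 = n195912 := d0_1 D198233 F398700 F163683 (iv3 F165300) F331097
theorem F407295 : act 5 n198233 = n195909 := d6_2 (iv5 F331096) D198233 F398697
theorem F407296 : act 7 n198233 = n138763 := d8_2 F405721 D198233 (iv3 F405722)
theorem F407297 : act 1 n109125 = n198233 := d15_1 (iv0 F363303) F407296 F221901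
def n198234 : Q := act 4 n109067
theorem D198234 : act 4 n109067 = n198234 := rfl
theorem F407298 : act 6 n198234 = n109071 := d10_2 (iv6 F169070) D198234 (iv4 D109071)
theorem F407299 : act 3 n196604 = n198234 := d7_3 F407298 F364959 (iv6 F401208)
theorem F407300 : act 5 n196599 = n198234 := d12_5 F407298 (iv5 F364958) (iv6 D107129) D107128 D196599
def n198235 : Q := act 6 n109070
theorem D198235 : act 6 n109070 = n198235 := rfl
theorem F407301 : act 3 n198235 = n196293 := d7_1 D198235 F400255 F365959
theorem F407302 : act 4 n198235 = n196708 := d10_1 D198235 (iv6 F406996) F406993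
theorem F407303 : act 5 n198235 = n196292 := d12_1 D198235 F400250 (iv5 D108889) (iv6 F101699) F169075
def n198236 : Q := act 0 n109071
theorem D198236 : act 0 n109071 = n198236 := rfl
theorem F407304 : act 4 n198236 = n197749 := d18_1 D198236 (iv1 F405623) (iv4 F407004) F407005 (iv4 D140678) F223762 (iv4 F401203) (iv0 D196600) F364958
theorem F407305 : act 2 n198144 = n198236 := d1_3 F407304 (iv2 F405621) D198144
theorem F407306 : act 7 n198147 = n198236 := d11_0 F407304 (iv7 F405622) D198147
def n198237 : Q := act 1 n109071
theorem D198237 : act 1 n109071 = n198237 := rfl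
theorem F407307 : act 7 n198237 = n198144 := d15_2 (iv0 D198236) D198237 F407305
theorem F407308 : act 4 n198237 = n197750 := d18_7 (iv1 F168514) F168515 (iv1 F167071) F79730 D50357 D109071 D198237 F405624 F168961
theorem F407309 : act 2 n198147 = n198237 := d1_3 F407308 (iv2 F405627) D198147
theorem F407310 : act 5 n197997 = n198237 := d16_1 D197997 F407308 F405626 F172870 (iv5 F162136) F162135 D140663 (iv7 F396901) F396900
def n198238 : Q := act 7 n109071
theorem D198238 : act 7 n109071 = n198238 := rfl
theorem F407311 : act 3 n198238 = n145646 := d8_1 D198238 F228665 (iv3 F364959)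
theorem F407312 : act 4 n198238 = n109072 := d11_1 D198238 (iv7 D109072) D109071
theorem F407313 : act 5 n198238 = n140645 := d13_1 D198238 F331813 F364958
theorem F407314 : act 1 n198147 = n198238 := d15_1 (iv0 F406982) (iv7 D198238) (iv2 F405741)
theorem F407315 : act 1 n198238 = n198144 := d15_1 F407314 (iv7 F407307) (iv2 F407309)
def n198239 : Q := act 5 n109074
theorem D198239 : act 5 n109074 = n198239 := rfl
theorem F407316 : act 3 n198239 = n109076 := d6_1 D198239 (iv5 D109076) D109074
def n198240 : Q := act 5 n109075
theorem D198240 : act 5 n109075 = n198240 := rfl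
theorem F407317 : act 3 n198240 = n137171 := d6_1 D198240 (iv5 F397860) (iv3 F397861)
theorem F407318 : act 4 n198240 = n127027 := d16_2 D109075 D198240 F331751 F286290 (iv5 F140436) (iv4 F352254) (iv5 D109081) (iv7 F352260) F352259
theorem F407319 : act 6 n127026 = n198240 := d10_0 F407318 (iv6 D127027) D127026
theorem F407320 : act 0 n126267 = n198240 := d18_2 D126795 F204049 F407318 F331751 F286290 (iv0 F331753) (iv4 D126787) (iv0 D59500) D59503
def n198241 : Q := act 5 n109079
theorem D198241 : act 5 n109079 = n198241 := rfl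
theorem F407321 : act 2 n198241 = n187846 := d2_1 D198241 F371686 (iv2 F366137)
theorem F407322 : act 3 n198241 = n109081 := d6_1 D198241 (iv5 D109081) D109079
theorem F407323 : act 6 n198241 = n187521 := d12_2 (iv6 F358875) D198241 F370662 D194630 (iv5 F393875)
theorem F407324 : act 1 n198241 = n109160 := d17_8 (iv1 D114473) (iv5 D52836) D52834 (iv5 F293428) (iv4 F387652) F387653 F358833 D198241 F361664
def n198242 : Q := act 5 n109080
theorem D198242 : act 5 n109080 = n198242 := rfl
theorem F407325 : act 3 n198242 = n126192 := d6_1 D198242 (iv5 D126192) F169079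
theorem F407326 : act 6 n132121 = n198242 := d21_5 (iv5 F211217) (iv1 D106750) F77996 D61987 D132121 (iv5 D198242) F358834 D126255 F360839 (iv1 F211216)
def n198243 : Q := act 6 n109080
theorem D198243 : act 6 n109080 = n198243 := rfl
theorem F407327 : act 3 n198243 = n126193 := d7_1 D198243 (iv6 D126193) F169079
theorem F407328 : act 4 n198243 = n109082 := d10_1 D198243 (iv6 D109082) D109080
def n198244 : Q := act 1 n109082
theorem D198244 : act 1 n109082 = n198244 := rfl
theorem F407329 : act 4 n128634 = n198244 := d20_0 (iv1 D198244) (iv4 F407328) F407327 (iv1 F358869) F208751 D130238 (iv1 F208786) (iv4 F208787) F343549 (iv1 F358323)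
theorem F407330 : act 2 n198244 = n109226 := d1_1 F407329 (iv4 F202430) F358324
def n198245 : Q := act 4 n109083
theorem D198245 : act 4 n109083 = n198245 := rfl
theorem F407331 : act 2 n198245 = n109087 := d1_1 D198245 (iv4 D109087) (iv2 F169080)
theorem F407332 : act 5 n198245 = n126774 := d9_2 D109083 D198245 (iv4 F219851) F219850 (iv4 D113429) (iv5 D52363) (iv4 F79502) D108653 D197770 F405710 F354174 F348508 (iv4 F395643) (iv5 D195067) F161176
theorem F407333 : act 0 n198245 = n110856 := d17_0 (iv5 D110856) D110853 F171710 (iv4 D109194) F79760 D65905 D140410 F358909 D198245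
def n198246 : Q := act 1 n109084
theorem D198246 : act 1 n109084 = n198246 := rfl
theorem F407334 : act 1 n198246 = n109092 := d15_1 D198246 (iv7 D109092) (iv2 F169081)
theorem F407335 : act 7 n198246 = n109089 := d15_2 (iv0 F395648) D198246 (iv2 F346874)
theorem F407336 : act 4 n198246 = n166575 := d18_7 D166610 F382707 (iv1 F382712) F382709 (iv5 F395647) F395646 D198246 (iv0 D166575) (iv5 F326387)
theorem F407337 : act 2 n109090 = n198246 := d1_3 F407336 (iv2 F262249) (iv4 F346872)
def n198247 : Q := act 7 n109084
theorem D198247 : act 7 n109084 = n198247 := rfl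
theorem F407338 : act 2 n198247 = n109092 := d4_1 D198247 (iv7 D109092) (iv2 F169081)
theorem F407339 : act 1 n109090 = n198247 := d15_1 D109090 (iv7 D198247) F169081
theorem F407340 : act 1 n198247 = n109089 := d15_1 F407339 (iv7 F407335) (iv2 F407337)
def n198248 : Q := act 3 n109085
theorem D198248 : act 3 n109085 = n198248 := rfl
theorem F407341 : act 5 n198248 = n197979 := d6_2 (iv5 F358906) D198248 F406365
def n198249 : Q := act 4 n109085
theorem D198249 : act 4 n109085 = n198249 := rfl
theorem F407342 : act 3 n198249 = n136689 := d19_3 D113573 (iv5 F358906) D198249 F359147 (iv5 D65454) (iv4 F50023) (iv3 D31716) F24578 (iv5 F18540) (iv4 D11358) D11357 F23949 (iv5 D14334) (iv4 F22128) F22127 (iv1 F19396) D12093 D25441 D52421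
theorem F407343 : act 6 n136686 = n198249 := d7_0 F407342 (iv6 D136689) D136686
def n198250 : Q := act 6 n109085
theorem D198250 : act 6 n109085 = n198250 := rfl
theorem F407344 : act 4 n198250 = n136686 := d10_1 D198250 F407343 (iv4 D198249)
theorem F407345 : act 7 n198250 = n140550 := d14_2 (iv7 F358907) D198250 (iv6 D140550) (iv7 F182537) (iv6 F352249)
theorem F407346 : act 5 n198250 = n180777 := d21_6 F345137 (iv1 F241647) (iv5 F331133) (iv6 D109088) D109085 D198250 (iv1 F281395) (iv5 F387650) (iv6 D192748) F362363
theorem F407347 : act 5 n183475 = n136686 := d17_3 (iv1 D184103) F134786 D183475 (iv4 F407344) F407346 (iv0 D180777) (iv5 F332729) D194668 F394028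
theorem F407348 : act 3 n136688 = n183475 := d6_3 F407347 (iv3 D136686) D136688
theorem F407349 : act 0 n136686 = n184041 := d21_1 F407347 F285991 (iv6 D183458) (iv1 D87567) F61868 (iv5 D19231) D19229 D40762 D87576 D183475
theorem F407350 : act 0 n136688 = n129378 := d20_4 (iv4 F133890) D182770 F394026 (iv3 F407348) F207546 (iv4 D62554) F164106 (iv4 F48156) (iv3 F98714) F332721
def n198251 : Q := act 3 n109086
theorem D198251 : act 3 n109086 = n198251 := rfl
theorem F407351 : act 5 n198251 = n178147 := d6_2 F203751 D198251 (iv3 F358897)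
theorem F407352 : act 6 n198251 = n140558 := d7_2 (iv6 F345106) D198251 F223698
theorem F407353 : act 4 n198251 = n192786 := d20_6 (iv4 D188154) (iv1 F370884) F370879 (iv3 F405703) F405706 D198251 (iv1 D192786) (iv4 F371753) (iv3 F384653) F384657
theorem F407354 : act 0 n109113 = n198251 := d18_0 F407353 (iv1 D192786) (iv4 F371753) F371754 (iv4 F230755) (iv0 F358633) F358828 F358832 D109113
theorem F407355 : act 1 n192749 = n198251 := d15_0 (iv0 F407354) (iv7 F362678) (iv2 F387651)
def n198252 : Q := act 4 n109086
theorem D198252 : act 4 n109086 = n198252 := rfl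
theorem F407356 : act 6 n198252 = n140560 := d10_2 (iv6 F345106) D198252 (iv4 D140560)
theorem F407357 : act 0 n198252 = n139486 := d17_0 (iv5 D139486) F222657 (iv5 F331757) F359812 (iv5 D109076) (iv0 D50359) D50362 D109086 D198252
def n198253 : Q := act 0 n109087
theorem D198253 : act 0 n109087 = n198253 := rfl
theorem F407358 : act 5 n198253 = n110855 := d17_1 D198253 (iv1 F204118) (iv5 F345621) F345620 F169163 F176726 (iv5 F358906) (iv0 D109085) D109087
theorem F407359 : act 2 n110856 = n198253 := d15_3 (iv0 D198253) (iv0 F345629) F204121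
theorem F407360 : act 6 n182777 = n198253 := d12_0 F407358 (iv6 F375940) (iv5 F375938) (iv6 D182778) D182777
def n198254 : Q := act 6 n109087
theorem D198254 : act 6 n109087 = n198254 := rfl
theorem F407361 : act 4 n198254 = n109088 := d10_1 D198254 (iv6 D109088) D109087
theorem F407362 : act 5 n198254 = n185200 := d12_1 D198254 (iv6 D185200) D185199 (iv6 F329613) F171679
theorem F407363 : act 0 n198254 = n188427 := d21_4 F329621 D110834 F171679 D198254 (iv6 D188427) F359719 (iv1 F198123) D123723 F373323 (iv1 D188404)
theorem F407364 : act 0 n123774 = n198254 := d21_4 (iv5 F304673) (iv1 F90836) (iv5 F90871) D123774 (iv6 D198254) (iv5 F171679) (iv1 F204023) (iv5 F355067) (iv6 D184570) (iv1 F153791)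
def n198255 : Q := act 3 n109089
theorem D198255 : act 3 n109089 = n198255 := rfl
theorem F407365 : act 2 n198255 = n180787 := d0_1 D198255 (iv3 D180787) F254398 D180483 F346874
theorem F407366 : act 5 n183046 = n198255 := d2_0 F407365 (iv5 F372819) F372816
def n198256 : Q := act 5 n109089
theorem D198256 : act 5 n109089 = n198256 := rfl
theorem F407367 : act 3 n198256 = n183046 := d6_1 D198256 F407366 (iv3 D198255)
def n198257 : Q := act 6 n109089
theorem D198257 : act 6 n109089 = n198257 := rfl
def n198258 : Q := act 5 n109090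
theorem D198258 : act 5 n109090 = n198258 := rfl
theorem F407368 : act 3 n198258 = n157927 := d6_1 D198258 F258034 (iv3 F346871)
def n198259 : Q := act 0 n109091
theorem D198259 : act 0 n109091 = n198259 := rfl
theorem F407369 : act 6 n198259 = n194553 := d21_5 F394075 F370819 F331133 (iv6 F365129) D198259 (iv5 D194553) (iv1 D103765) D103767 F371749 F394077
def n198260 : Q := act 1 n109091
theorem D198260 : act 1 n109091 = n198260 := rfl
theorem F407370 : act 3 n180405 = n198260 := d20_3 F388708 (iv1 F385021) (iv4 F354680) (iv1 D198260) F169083 D109099 F336754 (iv4 F376102) (iv3 F376104) (iv1 F388712)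
theorem F407371 : act 5 n198260 = n180404 := d6_2 D180405 F407370 (iv3 D180404)
def n198261 : Q := act 4 n109091
theorem D198261 : act 4 n109091 = n198261 := rfl
theorem F407372 : act 2 n198261 = n188956 := d1_1 D198261 F375256 F372037
theorem F407373 : act 6 n198261 = n188945 := d10_2 (iv6 F365129) D198261 F375232
theorem F407374 : act 7 n198261 = n154704 := d11_2 F365128 D198261 F242871
theorem F407375 : act 5 n198261 = n190187 := d16_5 (iv4 F395664) (iv5 D195073) F161184 D109091 D198261 F379048 (iv5 F150185) D191238 F382708
def n198262 : Q := act 3 n109093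
theorem D198262 : act 3 n109093 = n198262 := rfl
theorem F407376 : act 2 n198262 = n127343 := d0_1 D198262 (iv3 D127343) (iv2 F163116) (iv3 F362684) F362687
theorem F407377 : act 0 n198262 = n192744 := d20_4 (iv4 F164751) D196315 F400305 D198262 F387627 F154650 (iv1 F292729) D90304 F351291 (iv1 D109006)
theorem F407378 : act 5 n109093 = n198262 := d17_1 D109093 F407377 (iv5 D192744) (iv4 F351130) F351133 F351316 D107090 (iv0 F351318) F164718
theorem F407379 : act 0 n109141 = n198262 := d21_10 (iv5 F407378) (iv1 F365131) F342493 F241630 F400705 F400703 (iv5 D109101) (iv1 F79746) D50378 D109141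
def n198263 : Q := act 6 n109097
theorem D198263 : act 6 n109097 = n198263 := rfl
theorem F407380 : act 2 n198263 = n196404 := d3_1 D198263 F400600 F367465
theorem F407381 : act 3 n198263 = n140375 := d7_1 D198263 F359228 (iv3 F326774)
theorem F407382 : act 4 n198263 = n187477 := d10_1 D198263 (iv6 D187477) (iv4 F326775)
theorem F407383 : act 5 n198263 = n196401 := d12_1 D198263 (iv6 D196401) F337405 (iv6 D111428) (iv5 F169086)
theorem F407384 : act 7 n198263 = n140618 := d14_2 F169456 D198263 (iv6 F404738) F404733 F343819
theorem F407385 : act 0 n124020 = n198263 := d21_4 F191991 (iv1 D57773) D57775 D124020 (iv6 D198263) F169086 (iv1 F171656) (iv5 F336676) F151228 (iv1 F305169)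
theorem F407386 : act 1 n179786 = n140618 := d15_1 (iv0 F405154) (iv7 F407384) F407380
def n198264 : Q := act 3 n109098
theorem D198264 : act 3 n109098 = n198264 := rfl
theorem F407387 : act 2 n198264 = n180393 := d0_1 D198264 F280730 F132111 (iv3 F326835) F169455
theorem F407388 : act 5 n198264 = n111426 := d6_2 F169087 D198264 (iv3 D111426)
theorem F407389 : act 7 n198264 = n196406 := d8_2 F367467 D198264 F400605
theorem F407390 : act 0 n196931 = n198264 := d20_4 F372890 (iv1 F333860) D188464 (iv3 F402342) (iv3 D198264) (iv4 F336756) (iv1 D90230) F327616 (iv3 F327614) D188264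
theorem F407391 : act 4 n198264 = n157739 := d20_0 (iv1 D157739) (iv4 F205642) (iv3 F372138) (iv1 F376982) (iv3 F376980) F372890 (iv1 F333860) D188464 (iv3 F402342) F407390
theorem F407392 : act 1 n114349 = n198264 := d15_0 (iv0 F407390) F402345 F178587
def n198265 : Q := act 4 n109101
theorem D198265 : act 4 n109101 = n198265 := rfl
theorem F407393 : act 2 n198265 = n109174 := d1_1 D198265 F169156 (iv2 F169089)
theorem F407394 : act 5 n198265 = n110283 := d9_2 D109101 D198265 (iv4 D110283) (iv5 D50852) (iv4 D24732) (iv5 D11699) (iv4 F18957) D24560 D50385 (iv5 F337487) F337486 (iv5 D51510) F39263 (iv5 F38690) (iv4 F79744)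
theorem F407395 : act 6 n198265 = n179717 := d10_2 F400703 D198265 F400707
theorem F407396 : act 7 n198265 = n109157 := d11_2 (iv7 F169090) D198265 (iv4 D109157)
theorem F407397 : act 0 n198265 = n109170 := d17_0 F387546 F387545 (iv5 F406056) (iv4 D197863) (iv5 D108734) D108732 F170952 F169091 D198265
theorem F407398 : act 1 n198265 = n109169 := d18_6 (iv1 D50798) (iv4 D24719) D24716 (iv4 F79744) D109101 D198265 (iv4 F404956) F404960 (iv5 D110153)
def n198266 : Q := act 5 n109105
theorem D198266 : act 5 n109105 = n198266 := rfl
theorem F407399 : act 3 n198266 = n109107 := d6_1 D198266 (iv5 D109107) D109105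
theorem F407400 : act 7 n198266 = n109136 := d13_2 (iv7 F169097) D198266 (iv5 D109136)
theorem F407401 : act 4 n198266 = n111656 := d18_5 D108638 F202740 (iv1 D126040) (iv4 F169974) D198266 (iv0 D111656) (iv4 F168702) F386119 (iv5 D108641)
def n198267 : Q := act 6 n109105
theorem D198267 : act 6 n109105 = n198267 := rfl
theorem F407402 : act 3 n198267 = n109108 := d7_1 D198267 (iv6 D109108) D109105
theorem F407403 : act 4 n198267 = n126043 := d10_1 D198267 (iv6 D126043) (iv4 F169974)
theorem F407404 : act 7 n198267 = n124333 := d14_2 (iv7 F169097) D198267 F198850 F132333 F326416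
theorem F407405 : act 0 n126210 = n126043 := d20_1 (iv4 F406807) (iv4 F407403) F407402 F324493 F326936 (iv4 D51747) (iv1 F163907) (iv4 F79683) (iv3 F168945) (iv1 F406806)
def n198268 : Q := act 4 n109107
theorem D198268 : act 4 n109107 = n198268 := rfl
theorem F407406 : act 2 n198268 = n109124 := d1_1 D198268 (iv4 D109124) (iv2 F169101)
theorem F407407 : act 5 n198268 = n111710 := d9_2 D109107 D198268 (iv4 D111710) F325634 F60687 (iv5 F30118) (iv4 F60709) D86202 D180509 (iv5 F366010) (iv4 D111713) F172856 F324526 F323101 (iv4 F169968)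
theorem F407408 : act 7 n198268 = n109140 := d11_2 (iv7 F169102) D198268 (iv4 D109140)
def n198269 : Q := act 6 n109107
theorem D198269 : act 6 n109107 = n198269 := rfl
theorem F407409 : act 2 n198269 = n109125 := d3_1 D198269 (iv6 D109125) (iv2 F169101)
theorem F407410 : act 0 n198269 = n138763 := d21_4 (iv5 D50382) F169973 D109107 D198269 (iv6 D138763) F100931 (iv1 F53517) D50114 D108529 F341390
theorem F407411 : act 1 n198269 = n195912 := d15_1 (iv0 F407410) F398702 (iv2 F221901)
def n198270 : Q := act 5 n109108
theorem D198270 : act 5 n109108 = n198270 := rfl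
theorem F407412 : act 2 n198270 = n109129 := d2_1 D198270 (iv5 D109129) (iv2 F169103)
theorem F407413 : act 7 n198270 = n124334 := d13_2 (iv7 F324496) D198270 (iv5 D124334)
theorem F407414 : act 4 n198270 = n124387 := d16_2 (iv4 F324495) D198270 (iv5 D124387) (iv4 D57985) (iv5 D27663) F22008 D13211 D27678 F297546
theorem F407415 : act 0 n198270 = n124456 := d17_2 (iv1 F324494) D198270 F325848 F101696 (iv5 F324759) (iv0 F118771) (iv5 F326124) (iv0 F326978) (iv4 F118753)
theorem F407416 : act 1 n198270 = n124455 := d17_6 (iv1 F301576) (iv5 D27668) F298938 D57892 (iv4 F324495) D198270 (iv5 F303293) F253286 (iv4 D76875)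
theorem F407417 : act 3 n193210 = n196386 := d19_11 (iv1 F407416) (iv5 D198270) F324495 F323102 (iv1 F324008) (iv5 F296931) (iv4 F58251) F306143 F109845 F200545 (iv4 F389181) (iv1 D196386) (iv5 D106935) F78129 F37774 D24196 D49613 D107415 F353083
theorem F407418 : act 2 n196386 = n140342 := d0_1 F407417 (iv3 F407165) F405350 (iv3 F405349) (iv2 F389179)
theorem E103734 : n193209 = n140479 := ((c6_3 D193210 F407417 F400541 (iv3 D193209))).symm
theorem F407419 : act 3 n140479 = n101361 := (sb E103734 (iv3 D193209))
theorem E103735 : n193211 = n140477 := (c7_3 D140479 F407419 D193211 (iv3 D140477))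
theorem F407420 : act 1 n140477 = n197904 := (sb E103735 (iv0 F406165))
theorem F407421 : act 6 n140477 = n101361 := (sb E103735 (iv6 D193211))
theorem F407422 : act 7 n140341 = n196386 := d15_2 F223450 F223449 F407418
theorem F407423 : act 7 n196385 = n140342 := d15_2 F400540 F400539 (iv2 F407418)
theorem F407424 : act 2 n140341 = n196385 := d4_3 F407423 (iv2 F407418) (iv7 F407422)
theorem F407425 : act 3 n197683 = n196385 := d8_3 F407423 (iv3 F407165) F405345
theorem F407426 : act 3 n140341 = n142041 := d0_2 F407425 (iv2 F407424) (iv2 F389185) (iv3 F389191) F405344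
def n198271 : Q := act 5 n109110
theorem D198271 : act 5 n109110 = n198271 := rfl
theorem F407427 : act 7 n198271 = n187846 := d13_2 F366136 D198271 F371686
theorem F407428 : act 0 n198271 = n109160 := d18_0 F361664 (iv1 D114473) (iv4 F361650) F168709 (iv4 F80430) F319455 (iv4 F319460) D109110 D198271
def n198272 : Q := act 6 n109110
theorem D198272 : act 6 n109110 = n198272 := rfl
def n198273 : Q := act 5 n109111
theorem D198273 : act 5 n109111 = n198273 := rfl
theorem F407429 : act 2 n198273 = n109113 := d2_1 D198273 (iv5 D109113) D109111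
theorem F407430 : act 7 n198273 = n192749 := d13_2 F359056 D198273 F387653
theorem F407431 : act 4 n198273 = n192780 := d16_6 (iv4 F370568) (iv5 F370570) (iv4 F350707) F231419 F169984 D198273 F387739 F178475 (iv2 F138832)
def n198274 : Q := act 6 n109111
theorem D198274 : act 6 n109111 = n198274 := rfl
theorem F407432 : act 2 n198274 = n109114 := d3_1 D198274 (iv6 D109114) D109111
theorem F407433 : act 4 n198274 = n124480 := d10_1 D198274 (iv6 F319459) F169984
theorem F407434 : act 7 n198274 = n124452 := d14_2 F359056 D198274 F199041 F132343 D180488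
theorem F407435 : act 1 n124451 = n198274 := d15_1 D124451 F407434 (iv2 D124452)
theorem F407436 : act 1 n198274 = n124450 := d15_0 (iv0 D124450) (iv7 F321448) (iv2 F407432)
def n198275 : Q := act 1 n109113
theorem D198275 : act 1 n109113 = n198275 := rfl
theorem F407437 : act 1 n198275 = n192749 := d15_1 D198275 (iv7 F407430) F407429
theorem F407438 : act 5 n174140 = n198275 := d17_5 F358633 F230754 F353593 (iv5 F298819) (iv4 F272939) F407437 F387653 F358833 (iv4 F358828)
theorem F407439 : act 4 n198275 = n192785 := d16_6 F355113 (iv5 D80426) (iv4 F115778) (iv5 F298819) (iv4 F272939) F407438 F387757 (iv7 F355117) (iv2 F355112)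
def n198276 : Q := act 6 n109113
theorem D198276 : act 6 n109113 = n198276 := rfl
theorem F407440 : act 3 n198276 = n109125 := d7_1 D198276 (iv6 D109125) (iv3 F169105)
theorem F407441 : act 4 n198276 = n192784 := d10_1 D198276 F387754 (iv4 F359837)
theorem F407442 : act 7 n198276 = n192745 := d14_2 F362678 D198276 (iv6 D192745) F362673 (iv6 F362676)
def n198277 : Q := act 0 n109114
theorem D198277 : act 0 n109114 = n198277 := rfl
theorem F407443 : act 5 n198277 = n175036 := d19_1 D198277 F273950 F320975 F114129 (iv5 D35724) (iv4 D17313) D17312 F121274 (iv5 D35637) D35636 D78161 F317071 (iv5 D83117) (iv4 D38261) (iv3 F117826) (iv1 F44586) (iv5 F44610) (iv4 F323081) (iv3 F169106)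
theorem F407444 : act 1 n124452 = n198277 := d15_0 (iv0 D198277) F321448 D124452
def n198278 : Q := act 1 n109114
theorem D198278 : act 1 n109114 = n198278 := rfl
theorem F407445 : act 1 n198278 = n124452 := d15_1 D198278 (iv7 F407434) F407432
theorem F407446 : act 4 n121088 = n198278 := d20_6 F41952 (iv1 D12895) D12896 D26953 D55874 D121088 (iv1 D198278) F321447 F91893 (iv1 F44705)
def n198279 : Q := act 4 n109122
theorem D198279 : act 4 n109122 = n198279 := rfl
theorem F407447 : act 2 n198279 = n197863 := d1_1 D198279 (iv4 D197863) (iv2 F169606)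
theorem F407448 : act 5 n198279 = n140708 := d9_2 F325548 D198279 (iv4 D140708) (iv5 D66021) F49346 (iv5 F39336) (iv4 F81421) (iv5 F169067) (iv4 F375633) (iv5 F384898) F384897 F343745 (iv4 D110170) F169601 (iv4 F325547)
theorem F407449 : act 7 n198279 = n186623 := d11_2 (iv7 F351109) D198279 F367474
theorem F407450 : act 0 n198279 = n110218 := d17_0 F360066 (iv1 D179867) F337487 (iv4 D50385) (iv5 D24560) D24558 D50378 F169120 D198279
theorem F407451 : act 1 n198279 = n110162 := d18_6 (iv1 F170973) (iv4 D51886) F170927 (iv4 F325547) F325548 D198279 (iv4 D110162) D110161 (iv5 F170972)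
def n198280 : Q := act 0 n109124
theorem D198280 : act 0 n109124 = n198280 := rfl
theorem F407452 : act 4 n198280 = n178105 := d18_3 F169607 D109124 D198280 (iv5 D178105) F129981 (iv0 F299813) (iv4 F324427) (iv0 D111873) (iv5 F169067)
theorem F407453 : act 1 n109140 = n198280 := d15_0 (iv0 D198280) F366139 F366014
def n198281 : Q := act 5 n109124
theorem D198281 : act 5 n109124 = n198281 := rfl
theorem F407454 : act 2 n198281 = n111710 := d2_1 D198281 (iv5 F407407) F407406
theorem F407455 : act 3 n198281 = n140579 := d6_1 D198281 (iv5 F372975) (iv3 F372977)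
theorem F407456 : act 7 n198281 = n111713 := d13_2 (iv7 F366139) D198281 F366010
theorem F407457 : act 4 n198281 = n110282 := d16_2 D109124 D198281 F170521 F325619 (iv5 F58387) (iv4 F324490) D50378 (iv7 F169102) F169101
theorem F407458 : act 1 n198281 = n123140 := d17_6 (iv1 D50384) (iv5 D24560) D24557 D50373 D109124 D198281 F197337 (iv0 F363304) (iv4 D109166)
theorem F407459 : act 6 n198281 = n111754 := d21_5 (iv5 D27437) D27435 D57299 D123140 (iv1 F407458) (iv5 F345273) F344870 F253226 (iv6 D123153) (iv1 D57306)
theorem F407460 : act 1 n123949 = n198281 := d18_6 (iv1 F80206) (iv4 F80207) (iv1 F170484) (iv4 F81920) D112452 (iv4 F360072) F407457 F170520 (iv5 D51510)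
def n198282 : Q := act 6 n109124
theorem D198282 : act 6 n109124 = n198282 := rfl
theorem F407461 : act 4 n198282 = n109125 := d10_1 D198282 (iv6 D109125) D109124
theorem F407462 : act 0 n198282 = n135005 := d21_4 (iv5 F197337) (iv1 F407458) (iv5 D198281) D198282 (iv6 D135005) F98773 F96651 D63329 (iv6 F341397) F363304
def n198283 : Q := act 7 n109125
theorem D198283 : act 7 n109125 = n198283 := rfl
theorem F407463 : act 3 n198283 = n192745 := d8_1 D198283 (iv7 F407442) F407440
theorem F407464 : act 6 n198283 = n192744 := d14_1 D198283 F387628 F280925 F324497 D109125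
theorem F407465 : act 1 n195912 = n198283 := d15_1 F407411 (iv7 D198283) (iv2 F407409)
theorem F407466 : act 1 n198283 = n138763 := d15_1 F407465 (iv7 F407296) F407294
def n198284 : Q := act 0 n109129
theorem D198284 : act 0 n109129 = n198284 := rfl
theorem F407467 : act 5 n198284 = n140693 := d17_3 F324503 D109129 D198284 F223782 (iv5 F325844) F118761 F326147 (iv0 F326146) D77863
theorem F407468 : act 2 n124456 = n198284 := d15_3 (iv0 D198284) F324504 F255963
theorem F407469 : act 1 n124334 = n198284 := d15_0 (iv0 D198284) F324505 (iv2 F198851)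
theorem F407470 : act 7 n198284 = n124455 := d15_2 F255965 F407469 (iv2 F255962)
theorem F407471 : act 3 n195935 = n198284 := d19_19 (iv1 F407469) (iv5 D124334) (iv4 D57965) F44581 D38903 (iv5 F296395) F310136 (iv3 F108815) (iv1 F215540) (iv5 F345693) F345692 (iv3 F407426) (iv1 F223449) (iv5 D108499) F79291 F38306 (iv1 F77677) D106450 D195935
theorem F407472 : act 6 n198284 = n196894 := d7_2 (iv6 F398769) F407471 (iv3 D196894)
theorem F407473 : act 0 n196894 = n196568 := d21_10 F401101 (iv1 D111759) D111760 F173443 D111767 F363573 (iv5 D159185) (iv1 F325842) (iv5 F407467) F407472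
def n198285 : Q := act 4 n109129
theorem D198285 : act 4 n109129 = n198285 := rfl
theorem F407474 : act 2 n198285 = n124387 := d1_1 D198285 (iv4 F407414) F407412
theorem F407475 : act 7 n198285 = n124457 := d11_2 (iv7 F324505) D198285 (iv4 D124457)
theorem F407476 : act 5 n198285 = n124323 := d16_1 D198285 (iv4 D124323) (iv5 D57955) F44577 D27655 D57965 D124334 (iv7 F407413) F407412
theorem F407477 : act 0 n194390 = n177525 := d19_8 F303364 (iv5 F407476) (iv4 D198285) F351545 (iv1 D177284) D177286 (iv4 F393025) (iv3 F393026) (iv5 F403246) F403245 (iv3 D143994) (iv1 D67458) D67459 (iv4 F331508) F217047 F168120 D67431 D143929 F323332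
def n198286 : Q := act 5 n109132
theorem D198286 : act 5 n109132 = n198286 := rfl
theorem F407478 : act 7 n198286 = n153782 := d13_2 F406695 D198286 F406698
def n198287 : Q := act 5 n109134
theorem D198287 : act 5 n109134 = n198287 := rfl
theorem F407479 : act 2 n198287 = n109136 := d2_1 D198287 (iv5 D109136) D109134
theorem F407480 : act 3 n198287 = n192749 := d6_1 D198287 F387653 F358864
theorem F407481 : act 6 n198287 = n192747 := d12_2 (iv6 F358865) D198287 (iv5 D192747) D192748 F387650
theorem F407482 : act 4 n198287 = n111657 := d18_5 (iv1 F168539) (iv4 F202203) (iv1 F202206) (iv4 F176412) D198287 F406152 (iv4 D197902) F386121 (iv5 D108931)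
def n198288 : Q := act 5 n109135
theorem D198288 : act 5 n109135 = n198288 := rfl
theorem F407483 : act 3 n198288 = n126048 := d6_1 D198288 F202754 F169964
theorem F407484 : act 6 n198288 = n126046 := d12_2 (iv6 F364795) D198288 F359711 (iv6 D182512) (iv5 F148281)
theorem F407485 : act 7 n198288 = n126042 := d13_2 F169986 D198288 (iv5 D126042)
theorem F407486 : act 0 n198288 = n125722 := d17_2 F169124 D198288 (iv5 F202218) F202065 F219108 F405638 (iv5 D197753) F168538 D108923
theorem F407487 : act 4 n126047 = n198288 := d10_3 F407484 (iv4 D126046) D126047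
def n198289 : Q := act 0 n109136
theorem D198289 : act 0 n109136 = n198289 := rfl
theorem F407488 : act 5 n198289 = n197828 := d17_3 F405755 D109136 D198289 (iv4 D197828) (iv5 F360431) F360459 (iv5 D58925) D58923 (iv4 F169043)
theorem F407489 : act 6 n197828 = n174902 := d21_3 D109136 D198289 F407488 (iv1 D174902) (iv6 F333024) F208895 (iv1 F314326) D128362 (iv6 F355975) F405755
theorem F407490 : act 4 n174902 = n125726 := d10_1 F407489 F360477 D197828
def n198290 : Q := act 4 n109136
theorem D198290 : act 4 n109136 = n198290 := rfl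
theorem F407491 : act 2 n198290 = n111657 := d1_1 D198290 (iv4 F407482) F407479
theorem F407492 : act 7 n198290 = n111656 := d11_2 F407400 D198290 (iv4 F407401)
theorem F407493 : act 0 n198290 = n111650 := d18_2 F407257 D198290 (iv4 F219110) (iv5 F219108) (iv4 F202065) (iv0 F366140) F287867 (iv0 F405931) (iv5 F407255)
theorem F407494 : act 1 n198290 = n111321 := d18_6 D50292 D108923 F169124 (iv4 D109135) D109136 D198290 (iv4 F219103) (iv0 D108933) (iv5 D50295)
def n198291 : Q := act 6 n109136
theorem D198291 : act 6 n109136 = n198291 := rfl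
theorem F407495 : act 2 n198291 = n192747 := d3_1 D198291 (iv6 F407481) F407479
theorem F407496 : act 3 n198291 = n109141 := d7_1 D198291 (iv6 D109141) (iv3 F169126)
theorem F407497 : act 5 n198291 = n192746 := d12_1 D198291 F387636 (iv5 D170838) F326416 D109136
theorem F407498 : act 0 n194682 = n198291 := d17_2 F370820 (iv5 F394075) F407497 F387632 F386099 (iv0 D154530) (iv5 F198253) (iv0 F373379) (iv4 D187986)
def n198292 : Q := act 3 n109140
theorem D198292 : act 3 n109140 = n198292 := rfl
theorem F407499 : act 2 n198292 = n152527 := d0_1 D198292 F372995 (iv2 F372986) (iv3 F365135) F366014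
theorem F407500 : act 0 n198292 = n111572 := d20_4 (iv4 D198279) (iv1 F169120) D109140 D198292 F173111 (iv4 D66235) D66233 D141197 (iv3 F345632) (iv1 F407451)
theorem F407501 : act 5 n152281 = n198292 := d2_0 F407499 (iv5 D152527) (iv2 F239355)
def n198293 : Q := act 5 n109140
theorem D198293 : act 5 n109140 = n198293 := rfl
theorem F407502 : act 2 n198293 = n111713 := d2_1 D198293 F366010 F366014
theorem F407503 : act 3 n198293 = n152281 := d6_1 D198293 F407501 (iv3 D198292)
theorem F407504 : act 4 n198293 = n110281 := d9_1 D198293 F170518 F323105 (iv5 F60711) (iv4 F321446) D50373 D109124 D198281 F407457 F170521 F325619 (iv5 F58387) (iv4 F324490) D50378 D109140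
theorem F407505 : act 7 n198293 = n111710 := d13_2 F407408 D198293 (iv5 F407407)
theorem F407506 : act 0 n198293 = n123140 := d17_2 (iv1 F407453) D198293 F197337 (iv4 F404943) F404942 F170259 (iv5 F170315) F325622 (iv4 F407452)
theorem F407507 : act 6 n120462 = n198280 := d21_9 D198293 F407506 F197337 (iv6 D120500) (iv1 D55470) (iv6 F87756) (iv5 D55457) D55455 D120462 (iv1 F407453)
theorem F407508 : act 3 n198280 = n146940 := d7_1 F407507 (iv6 D146940) (iv3 F353605)
theorem F407509 : act 1 n198293 = n123949 := d15_1 (iv0 F407506) (iv7 D123949) (iv2 F197336)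
theorem F407510 : act 6 n152291 = n198293 := d7_0 F407503 F239356 D152291
def n198294 : Q := act 6 n109140
theorem D198294 : act 6 n109140 = n198294 := rfl
theorem F407511 : act 4 n198294 = n109141 := d10_1 D198294 (iv6 D109141) D109140
theorem F407512 : act 0 n120480 = n198294 := d21_4 (iv5 D26788) D26786 D55462 D120480 (iv6 D198294) D198293 F407506 F197337 (iv6 D120500) (iv1 D55470)
def n198295 : Q := act 7 n109141
theorem D198295 : act 7 n109141 = n198295 := rfl
theorem F407513 : act 2 n198295 = n192744 := d4_1 D198295 F387628 (iv2 F351124)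
theorem F407514 : act 5 n198295 = n140606 := d13_1 D198295 (iv7 F351123) (iv5 F351119)
theorem F407515 : act 0 n127343 = n198295 := d17_2 (iv1 F362683) (iv5 F362680) F407514 F351126 (iv5 F393340) (iv0 F393342) (iv5 F351297) (iv0 D116102) (iv4 F331073)
def n198296 : Q := act 3 n109155
theorem D198296 : act 3 n109155 = n198296 := rfl
theorem F407516 : act 5 n198296 = n160408 := d6_2 (iv5 F326095) D198296 F253368
theorem F407517 : act 7 n198296 = n109165 := d8_2 (iv7 F173754) D198296 (iv3 D109165)
theorem F407518 : act 1 n153782 = n198296 := d17_6 (iv1 D108695) D108697 D197833 F405950 D198077 (iv5 F406698) F407516 (iv0 F405931) (iv4 D197831)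
def n198297 : Q := act 4 n109155
theorem D198297 : act 4 n109155 = n198297 := rfl
theorem F407519 : act 2 n198297 = n109161 := d1_1 D198297 (iv4 D109161) (iv2 F173753)
theorem F407520 : act 5 n198297 = n110869 := d9_2 (iv5 F326095) D198297 F171725 F343735 D51502 (iv5 F323028) (iv4 F324427) (iv5 F341393) F167800 (iv5 F332716) (iv4 D111702) (iv5 D51508) F323975 F55840 (iv4 F115511)
theorem F407521 : act 6 n198297 = n110870 := d10_2 (iv6 F341399) D198297 F343811
theorem F407522 : act 7 n198297 = n109166 := d11_2 (iv7 F173754) D198297 (iv4 D109166)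
theorem F407523 : act 0 n198297 = n134917 := d18_2 D109155 D198297 F404949 (iv5 D110151) F324522 F323095 (iv4 F169968) (iv0 F169973) D50382
theorem F407524 : act 1 n198297 = n123948 := d18_6 F326103 F129981 F297627 (iv4 F115511) (iv5 F326095) D198297 F360048 (iv0 F360045) (iv5 F343160)
def n198298 : Q := act 0 n109157
theorem D198298 : act 0 n109157 = n198298 := rfl
theorem F407525 : act 5 n198298 = n110884 := d17_1 D198298 F384900 F384898 F375633 F169067 F325550 (iv5 F326095) (iv0 D109155) D109157
theorem F407526 : act 4 n198298 = n112504 := d18_3 F341390 D109157 D198298 (iv5 D112504) (iv4 D51903) F170926 (iv4 F325547) F325545 (iv5 F341393)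
theorem F407527 : act 6 n198298 = n110885 := d21_5 (iv5 D39108) (iv1 F300018) D57826 (iv6 F337489) D198298 (iv5 D110885) (iv1 F171730) F332942 (iv6 D120544) F303357
theorem F407528 : act 2 n109169 = n198298 := d15_3 (iv0 D198298) F350360 (iv7 F360069)
theorem F407529 : act 1 n109174 = n198298 := d15_0 (iv0 D198298) (iv7 F407396) F407393
theorem F407530 : act 7 n198298 = n109170 := d15_2 (iv0 F343162) F407529 F362604
theorem F407531 : act 3 n191803 = n198298 := d20_9 F169156 (iv1 F341391) F167800 (iv3 F217109) F383111 F383106 (iv4 F389680) F389681 F384497 (iv1 F407529)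
def n198299 : Q := act 3 n109157
theorem D198299 : act 3 n109157 = n198299 := rfl
theorem F407532 : act 5 n198299 = n111717 := d6_2 (iv5 F169147) D198299 (iv3 D111717)
theorem F407533 : act 6 n198299 = n124089 := d7_2 (iv6 F337489) D198299 F198485
theorem F407534 : act 2 n152052 = n198299 := d3_3 F407533 F314629 D152052
theorem F407535 : act 0 n198299 = n194033 := d21_4 F166824 F313751 D124089 (iv6 F407533) (iv6 D194033) (iv5 D102600) D102597 (iv5 F366725) (iv6 D107959) D107956
def n198300 : Q := act 2 n109160
theorem D198300 : act 2 n109160 = n198300 := rfl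
theorem F407536 : act 4 n198300 = n187836 := d1_2 (iv4 F361664) D198300 (iv2 F371656)
theorem F407537 : act 1 n187846 = n198300 := d17_8 (iv1 D187836) F139493 F138833 (iv5 F139545) F362677 (iv5 D180493) D180492 (iv5 F371686) F407536
def n198301 : Q := act 6 n109160
theorem D198301 : act 6 n109160 = n198301 := rfl
theorem F407538 : act 3 n198301 = n109163 := d7_1 D198301 (iv6 D109163) D109160
theorem F407539 : act 7 n198301 = n197537 := d14_2 (iv7 F405126) D198301 (iv6 D197537) (iv7 F167797) D197635
def n198302 : Q := act 0 n109161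
theorem D198302 : act 0 n109161 = n198302 := rfl
theorem F407540 : act 5 n198302 = n123949 := d17_1 D198302 (iv1 F407509) (iv5 D198293) (iv4 D109140) (iv5 D50378) F79746 D109101 F169092 D109161
theorem F407541 : act 4 n198302 = n197592 := d18_1 D198302 (iv1 D197592) F167721 (iv5 F343161) (iv4 D112498) (iv0 F341343) (iv4 F386053) (iv0 F386054) (iv5 F343823)
theorem F407542 : act 2 n134917 = n198302 := d15_3 (iv0 D198302) (iv0 F343826) (iv7 F360078)
theorem F407543 : act 1 n109166 = n198302 := d15_0 (iv0 D198302) F343825 (iv2 F341396)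
theorem F407544 : act 7 n198302 = n123948 := d15_2 (iv0 F363304) F407543 F198376
def n198303 : Q := act 0 n109165
theorem D198303 : act 0 n109165 = n198303 := rfl
def n198304 : Q := act 2 n109165
theorem D198304 : act 2 n109165 = n198304 := rfl
theorem F407545 : act 6 n198304 = n138472 := d3_2 (iv6 F341395) D198304 F221668
theorem F407546 : act 1 n198304 = n153782 := d15_0 F407518 F407517 D198304
def n198305 : Q := act 3 n109166
theorem D198305 : act 3 n109166 = n198305 := rfl
theorem F407547 : act 6 n198305 = n134760 := d7_2 (iv6 F341397) D198305 F216820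
def n198306 : Q := act 5 n109166
theorem D198306 : act 5 n109166 = n198306 := rfl
theorem F407548 : act 2 n198306 = n111702 := d2_1 D198306 F332716 (iv2 F341396)
theorem F407549 : act 4 n198306 = n110275 := d9_1 D198306 (iv5 D110275) F324519 F44570 (iv4 F91650) (iv5 F325167) D109161 F343823 (iv4 F343749) (iv5 D110279) (iv4 F80207) D59284 (iv4 F170951) F170952 D109166
theorem F407550 : act 6 n198306 = n111600 := d12_2 (iv6 F341397) D198306 (iv5 D111600) F81246 D63329
theorem F407551 : act 7 n198306 = n110869 := d13_2 F407522 D198306 (iv5 F407520)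
theorem F407552 : act 1 n198306 = n192218 := d17_8 F341343 (iv5 D51901) (iv1 F81921) D112454 F360051 F197337 (iv0 F363304) D198306 F386053
theorem F407553 : act 0 n198306 = n123889 := d18_0 (iv4 F363295) (iv1 D111526) (iv4 F171791) (iv5 F407525) F407526 (iv0 F404946) F404943 (iv0 F363304) D198306
def n198307 : Q := act 3 n109169
theorem D198307 : act 3 n109169 = n198307 := rfl
theorem F407554 : act 2 n198307 = n139516 := d0_1 D198307 (iv3 F387559) F387558 F407531 (iv2 F407528)
theorem F407555 : act 5 n198307 = n116257 := d6_2 (iv5 F360067) D198307 F181215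
theorem F407556 : act 6 n198307 = n116260 := d7_2 (iv6 F360068) D198307 F181216
theorem F407557 : act 7 n198307 = n135166 := d8_2 (iv7 F360069) D198307 F217366
theorem F407558 : act 4 n115955 = n198307 := d19_2 D53581 (iv5 F181692) (iv3 D198307) (iv1 F407398) F407394 (iv4 D110283) F80208 (iv1 F81059) F81061 F49345 F45734 F45231 (iv5 F39758) F39760 F38482 (iv1 F19441) (iv5 F11916) D12310 D25948
theorem F407559 : act 1 n198307 = n191754 := d18_6 F49553 (iv4 D31237) D31234 F84533 (iv5 F181692) F407558 (iv4 F388433) F223159 (iv5 D66332)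
def n198308 : Q := act 0 n109171
theorem D198308 : act 0 n109171 = n198308 := rfl
def n198309 : Q := act 1 n109171
theorem D198309 : act 1 n109171 = n198309 := rfl
theorem F407560 : act 6 n135137 = n198309 := d21_3 F327501 (iv1 F327499) (iv5 F217346) (iv1 D198309) F337491 (iv5 D58506) D58503 D125115 F337791 D135118
theorem F407561 : act 2 n198309 = n135144 := d3_1 F407560 (iv6 D135144) (iv2 F217695)
def n198310 : Q := act 2 n109171
theorem D198310 : act 2 n109171 = n198310 := rfl
theorem F407562 : act 3 n198310 = n152052 := d0_2 D109171 D198310 F407534 (iv3 D198299) F169146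
theorem F407563 : act 4 n198310 = n109202 := d1_2 (iv4 F169152) D198310 (iv2 D109202)
theorem F407564 : act 5 n198310 = n136565 := d2_2 (iv5 F337490) D198310 F366379
theorem F407565 : act 6 n198310 = n125120 := d3_2 (iv6 F337491) D198310 F201024
theorem F407566 : act 1 n198310 = n135144 := d15_0 (iv0 F365865) F216771 D198310
theorem F407567 : act 0 n183978 = n136694 := d21_10 F365864 (iv1 F407566) F407564 (iv6 F366378) (iv1 D150129) F107127 (iv5 D40897) D40895 D87763 D183978
def n198311 : Q := act 0 n109178
theorem D198311 : act 0 n109178 = n198311 := rfl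
theorem F407568 : act 4 n198311 = n188289 := d20_2 (iv4 F343152) D198311 F372970 F295285 F367122 F368013 (iv1 F370928) F370924 F351143 (iv1 F279926)
theorem F407569 : act 6 n198311 = n188288 := d21_5 (iv5 D109107) (iv1 F169972) (iv5 F79756) D109178 D198311 F372966 (iv1 F168601) D109026 F351108 (iv1 F351110)
theorem F407570 : act 5 n198311 = n126161 := d21_8 F405725 (iv1 F172829) D140690 (iv6 F351102) (iv1 F201813) D196445 F400698 D198311 (iv6 F331105) (iv1 F405723)
theorem F407571 : act 2 n153779 = n198311 := d15_3 (iv0 D198311) F351138 D153779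
theorem F407572 : act 1 n153776 = n198311 := d15_0 (iv0 D198311) F343153 (iv2 F342485)
theorem F407573 : act 7 n198311 = n153774 := d15_2 D153776 F407572 F241628
theorem F407574 : act 3 n187522 = n198311 := d20_3 (iv4 D90598) (iv1 F138893) (iv4 F370669) (iv1 F407572) (iv3 F371916) (iv4 D187952) F362340 (iv4 F339957) F371636 (iv1 D187831)
def n198312 : Q := act 6 n109184
theorem D198312 : act 6 n109184 = n198312 := rfl
theorem F407575 : act 2 n198312 = n109186 := d3_1 D198312 (iv6 D109186) D109184
def n198313 : Q := act 0 n109186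
theorem D198313 : act 0 n109186 = n198313 := rfl
def n198314 : Q := act 1 n109186
theorem D198314 : act 1 n109186 = n198314 := rfl
theorem F407576 : act 6 n157924 = n198314 := d21_3 (iv5 D180407) (iv1 F132131) D157924 (iv1 D198314) (iv6 D109186) (iv5 F164671) D196270 F400135 F372491 (iv1 F280781)
def n198315 : Q := act 5 n109186
theorem D198315 : act 5 n109186 = n198315 := rfl
theorem F407577 : act 3 n198315 = n109189 := d6_1 D198315 (iv5 D109189) (iv3 F169161)
def n198316 : Q := act 3 n109187
theorem D198316 : act 3 n109187 = n198316 := rfl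
def n198317 : Q := act 0 n109189
theorem D198317 : act 0 n109189 = n198317 := rfl
def n198318 : Q := act 1 n109189
theorem D198318 : act 1 n109189 = n198318 := rfl
theorem F407578 : act 5 n198318 = n141830 := d17_7 (iv1 F331116) (iv5 D107254) F342500 (iv5 D65985) (iv4 F79759) D109189 D198318 F224854 (iv4 F169071)
theorem F407579 : act 3 n141957 = n198318 := d19_19 (iv1 D198318) (iv5 D109189) F79759 (iv3 F101667) D140582 F360598 D153692 (iv3 F339142) (iv1 D99676) (iv5 F339153) F94680 F46152 F188329 F318568 (iv4 F49460) F49459 D31057 D66544 D141957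
theorem F407580 : act 2 n141944 = n198318 := d2_3 F407578 F406944 D141944
theorem F407581 : act 7 n141939 = n198318 := d13_0 F407578 F406947 D141939
theorem F407582 : act 6 n141957 = n198318 := d21_5 F224870 (iv1 D74359) D74360 (iv6 F245670) F343808 F407578 (iv1 D141830) D141831 F224856 D141837
theorem F407583 : act 4 n198318 = n141958 := d10_1 F407582 (iv6 D141958) D141957
theorem F407584 : act 2 n141939 = n198317 := d15_3 (iv0 D198317) D198318 (iv7 F407581)
theorem F407585 : act 5 n198317 = n141829 := d2_2 D141939 F407584 F406941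
theorem F407586 : act 7 n198317 = n141944 := d4_2 (iv7 F407581) F407584 F407580
theorem F407587 : act 1 n198124 = n196370 := d17_6 (iv1 D109188) D109189 D198317 F407585 F406942 D198124 (iv5 D196370) (iv0 F363357) (iv4 F363341)
theorem F407588 : act 0 n198125 = n170878 := d21_4 D196370 (iv1 F407587) (iv5 D198124) D198125 (iv6 D170878) F126260 F74940 D75210 D157876 F363357
def n198319 : Q := act 4 n109189
theorem D198319 : act 4 n109189 = n198319 := rfl
def n198320 : Q := act 7 n109189
theorem D198320 : act 7 n109189 = n198320 := rfl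
theorem F407589 : act 5 n198320 = n109190 := d13_1 D198320 (iv7 D109190) D109189
theorem F407590 : act 1 n141944 = n198320 := d15_1 F405889 (iv7 D198320) (iv2 F405887)
theorem F407591 : act 1 n198320 = n141939 := d15_1 F407590 F407581 (iv2 F407580)
def n198321 : Q := act 0 n109195
theorem D198321 : act 0 n109195 = n198321 := rfl
theorem F407592 : act 4 n198321 = n135904 := d20_8 F99724 (iv1 F95516) (iv4 F99373) (iv3 F218567) (iv1 F352854) (iv3 F389381) (iv4 F389383) D198321 F218618 (iv1 F99726)
theorem F407593 : act 6 n198321 = n187979 := d21_5 (iv5 D140410) (iv1 D65905) (iv5 F79760) D109195 D198321 F372005 (iv1 F241645) (iv5 F370862) (iv6 F370866) (iv1 F358909)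
theorem F407594 : act 2 n187981 = n198321 := d15_3 (iv0 D198321) (iv0 F352252) (iv7 F372017)
theorem F407595 : act 7 n198321 = n136556 := d4_2 (iv7 F372017) F407594 (iv2 F358549)
theorem F407596 : act 1 n193272 = n198321 := d15_1 (iv0 F389370) F407595 (iv2 F358549)
def n198322 : Q := act 5 n109195
theorem D198322 : act 5 n109195 = n198322 := rfl
theorem F407597 : act 2 n198322 = n193273 := d2_1 D198322 F389373 F387459
theorem F407598 : act 3 n198322 = n109198 := d6_1 D198322 (iv5 D109198) (iv3 F169164)
theorem F407599 : act 4 n198322 = n193155 := d9_1 D198322 F388968 F405197 (iv5 F405198) (iv4 F368247) D193274 (iv4 F389375) (iv5 D193272) F156252 (iv5 F140493) (iv4 F373346) (iv5 F389378) (iv4 D193275) D193276 (iv4 F389383)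
theorem F407600 : act 6 n198322 = n140415 := d12_2 D109195 D198322 (iv5 D140415) (iv6 D65907) (iv5 F79760)
theorem F407601 : act 7 n198322 = n193153 := d16_8 F156252 (iv5 F140493) (iv4 F373346) (iv5 F389378) (iv4 D193275) D193276 (iv4 F389383) D198322 F388958
theorem F407602 : act 0 n198322 = n193271 := d21_1 D198322 (iv5 F405200) (iv6 F362783) (iv1 F140501) (iv6 F331052) (iv5 D116092) (iv1 F84426) (iv5 F103129) D140577 F352252
theorem F407603 : act 0 n197532 = n198322 := d19_0 (iv5 D198322) F389383 F389381 (iv1 F352855) (iv5 D136518) (iv4 F165094) (iv3 F331336) F331334 (iv5 F355413) (iv4 F376556) (iv3 D189414) F376241 F376237 (iv4 F347687) F347688 D186575 (iv5 F388161) F388160 D197532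
theorem E103736 : n197532 = n193270 := (c15_1 (iv0 F407603) (iv0 D193270) D193273 (iv2 F407597))
theorem F407604 : act 0 n193270 = n198322 := (sb E103736 F407603)
theorem F407605 : act 3 n193270 = n108429 := (sb E103736 (iv3 D197532))
theorem F407606 : act 7 n193270 = n197630 := (sb E103736 (iv7 F405103))
def n198323 : Q := act 7 n109195
theorem D198323 : act 7 n109195 = n198323 := rfl
theorem F407607 : act 2 n198323 = n193272 := d4_1 D198323 (iv7 F389369) F387459
theorem F407608 : act 3 n198323 = n109199 := d8_1 D198323 (iv7 D109199) (iv3 F169164)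
theorem F407609 : act 5 n198323 = n193153 := d13_1 D198323 (iv7 F407601) (iv5 D198322)
theorem F407610 : act 1 n136556 = n198323 := d15_1 (iv0 F387462) (iv7 D198323) (iv2 F387459)
theorem F407611 : act 1 n198323 = n187981 := d15_1 F407610 F372017 F358549
def n198324 : Q := act 4 n109200
theorem D198324 : act 4 n109200 = n198324 := rfl
theorem F407612 : act 3 n198324 = n188160 := d19_3 D65926 (iv5 F404829) D198324 (iv1 F389694) F389691 (iv4 D109185) (iv3 D50389) (iv1 F78123) F78121 F38427 (iv3 F19274) (iv1 F19277) (iv5 F24206) F24205 F19556 F24296 (iv5 F18487) D14615 D30852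
theorem F407613 : act 5 n188158 = n198324 := d6_0 F407612 (iv5 D188160) D188158
theorem F407614 : act 6 n188697 = n198324 := d7_0 F407612 (iv6 F372509) D188697
def n198325 : Q := act 6 n109200
theorem D198325 : act 6 n109200 = n198325 := rfl
theorem F407615 : act 4 n198325 = n188697 := d10_1 D198325 F407614 (iv4 D198324)
theorem F407616 : act 7 n189151 = n198325 := d11_0 F407615 F380060 D189151
def n198326 : Q := act 3 n109201
theorem D198326 : act 3 n109201 = n198326 := rfl
theorem F407617 : act 2 n198326 = n140725 := d0_1 D198326 (iv3 F404990) F404989 (iv3 F362325) (iv2 F404830)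
theorem F407618 : act 5 n198326 = n115825 := d6_2 (iv5 F354184) D198326 F182464
theorem F407619 : act 7 n198326 = n140727 := d8_2 (iv7 F404827) D198326 F404826
theorem F407620 : act 4 n198326 = n124785 := d20_6 (iv4 D187949) (iv1 D90690) (iv4 F139606) F336078 (iv1 F216766) D198326 F366752 (iv4 D140576) D140575 (iv1 F371911)
theorem F407621 : act 6 n124784 = n198326 := d10_0 F407620 (iv6 D124785) D124784
theorem F407622 : act 0 n116139 = n198326 := d18_0 F407620 F366752 (iv4 D140576) F103129 (iv4 F84645) (iv0 F321145) (iv4 F322867) F180923 D116139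
theorem F407623 : act 1 n116132 = n198326 := d15_0 (iv0 F407622) F180938 (iv2 F180925)
def n198327 : Q := act 4 n109201
theorem D198327 : act 4 n109201 = n198327 := rfl
def n198328 : Q := act 6 n109201
theorem D198328 : act 6 n109201 = n198328 := rfl
theorem F407624 : act 2 n198328 = n135149 := d3_1 D198328 F362326 (iv2 F404830)
theorem F407625 : act 3 n198328 = n124784 := d7_1 D198328 F407621 (iv3 D198326)
theorem F407626 : act 0 n135139 = n198328 := d21_4 (iv5 D110216) (iv1 F168935) (iv5 F406213) F406214 (iv6 D198328) F354184 (iv1 D65927) D65929 (iv6 F336712) F375636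
theorem F407627 : act 7 n135150 = n198328 := d8_0 F407625 F309408 F351244
theorem F407628 : act 0 n198328 = n135154 := d20_4 F286008 F308462 D124784 (iv3 F407625) F400478 F400477 F351198 (iv4 D109215) D109214 (iv1 F364770)
def n198329 : Q := act 0 n109209
theorem D198329 : act 0 n109209 = n198329 := rfl
theorem F407629 : act 6 n198329 = n153783 := d21_5 (iv5 F224847) (iv1 D106863) D106865 (iv6 F351226) D198329 F241639 F373454 F373451 F400210 F400209
theorem F407630 : act 1 n193660 = n198329 := d15_0 (iv0 D198329) (iv7 F405898) F405897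
theorem F407631 : act 3 n153784 = n198329 := d7_3 F407629 (iv3 D153783) D153784
def n198330 : Q := act 5 n109214
theorem D198330 : act 5 n109214 = n198330 := rfl
theorem F407632 : act 3 n198330 = n109216 := d6_1 D198330 (iv5 D109216) D109214
theorem F407633 : act 4 n198330 = n138528 := d9_1 D198330 (iv5 D138528) (iv4 D65057) (iv5 F309996) F90838 F304673 D192222 F386070 F375363 (iv5 D138509) (iv4 D65052) D65053 (iv4 F314458) F304672 (iv4 F332979)
theorem F407634 : act 7 n198330 = n150957 := d13_2 (iv7 F351231) D198330 (iv5 F331048)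
theorem F407635 : act 1 n156581 = n198330 := d15_1 (iv0 F375364) F407634 (iv2 F375361)
def n198331 : Q := act 6 n109216
theorem D198331 : act 6 n109216 = n198331 := rfl
theorem F407636 : act 2 n198331 = n140710 := d3_1 D198331 (iv6 F405901) F405900
theorem F407637 : act 7 n198331 = n140711 := d14_2 (iv7 F351232) D198331 F363144 (iv7 D115794) (iv6 F180161)
theorem F407638 : act 0 n111365 = n198331 := d21_4 (iv5 F80608) F80609 D51360 D111365 (iv6 D198331) (iv5 D109216) (iv1 D50396) (iv5 F39268) (iv6 D25033) D25030
theorem F407639 : act 1 n140712 = n198331 := d15_1 F375415 F407637 (iv2 F375412)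
def n198332 : Q := act 5 n109218
theorem D198332 : act 5 n109218 = n198332 := rfl
theorem F407640 : act 3 n198332 = n179798 := d6_1 D198332 (iv5 D179798) (iv3 F337468)
theorem F407641 : act 7 n198332 = n109221 := d13_2 (iv7 F169172) D198332 (iv5 D109221)
theorem F407642 : act 0 n198332 = n196289 := d17_2 (iv1 F345419) D198332 (iv5 D196289) F164718 D109095 F349732 (iv5 F178595) F349735 (iv4 F345203)
theorem F407643 : act 1 n198332 = n188420 := d17_6 (iv1 F405412) F351303 (iv1 F167930) (iv5 F216785) F216784 D198332 (iv5 D188420) (iv0 F345140) (iv4 F335538)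
def n198333 : Q := act 0 n109221
theorem D198333 : act 0 n109221 = n198333 := rfl
theorem F407644 : act 5 n198333 = n188419 := d17_3 (iv1 D109220) D109221 D198333 F373414 (iv5 F342490) (iv0 D134865) F331536 (iv0 F351129) (iv4 F351130)
theorem F407645 : act 2 n188420 = n198333 := d15_3 (iv0 D198333) (iv0 F345412) (iv7 F373420)
theorem F407646 : act 3 n198333 = n174561 := d0_2 (iv3 F373419) F407645 (iv2 F352779) F352780 (iv2 F140506)
theorem F407647 : act 7 n198333 = n196289 := d4_2 (iv7 F373420) F407645 F400233
theorem F407648 : act 6 n174559 = n198333 := d14_5 F407647 F400235 (iv7 F364940) F364949 F273930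
def n198334 : Q := act 0 n109222
theorem D198334 : act 0 n109222 = n198334 := rfl
def n198335 : Q := act 1 n109222
theorem D198335 : act 1 n109222 = n198335 := rfl
def n198336 : Q := act 4 n109222
theorem D198336 : act 4 n109222 = n198336 := rfl
theorem F407649 : act 3 n198336 = n109249 := d5_1 D198336 (iv4 F174997) (iv3 F174995) (iv4 D109223) D109222
theorem E103737 : n198335 = n197783 := ((c20_7 F79771 D50414 D109251 F363511 (iv1 F363528) D194987 (iv4 F405784) (iv1 D198335) D198336 F407649 (iv1 D109249))).symm
theorem F407650 : act 0 n197783 = n109222 := (sb E103737 (iv1 D198335))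
theorem F407651 : act 6 n192811 = n198336 := d7_0 F407649 (iv6 F340589) (iv3 F387869)
def n198337 : Q := act 5 n109222
theorem D198337 : act 5 n109222 = n198337 := rfl
theorem F407652 : act 3 n198337 = n109224 := d6_1 D198337 (iv5 D109224) D109222
theorem F407653 : act 7 n198337 = n196399 := d13_2 F173444 D198337 F400586
theorem F407654 : act 4 n113189 = n198337 := d11_3 F407653 (iv4 F400588) F386570
theorem F407655 : act 6 n198337 = n113188 := d10_2 D113189 F407654 (iv4 D113188)
theorem F407656 : act 0 n198337 = n178921 := d20_7 (iv4 D18695) (iv1 F29948) D39417 D85309 F351337 (iv3 F176350) F407654 (iv4 D178921) (iv3 D85311) (iv1 F60354)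
def n198338 : Q := act 6 n109222
theorem D198338 : act 6 n109222 = n198338 := rfl
theorem F407657 : act 3 n198338 = n109225 := d7_1 D198338 (iv6 D109225) D109222
theorem F407658 : act 4 n198338 = n192811 := d10_1 D198338 F407651 (iv4 D198336)
theorem F407659 : act 5 n198338 = n140485 := d21_6 F400142 (iv1 F405779) (iv5 D197782) D197783 F407650 D198338 (iv1 F406612) F400158 F378235 (iv1 F400144)
theorem E103738 : n198334 = n111606 := (c21_5 D194920 (iv1 F406613) (iv5 F407659) (iv6 D198338) D198334 (iv6 D111606) D111605 F387849 (iv5 F354409) F394999 (iv1 D194918))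
theorem F407660 : act 1 n111606 = n109222 := (sb E103738 (iv0 D198334))
theorem F407661 : act 0 n191257 = n198338 := d17_0 F407659 (iv1 F406612) F400158 (iv4 D189916) (iv5 D95454) F76169 D104756 F160466 D191257
def n198339 : Q := act 5 n109223
theorem D198339 : act 5 n109223 = n198339 := rfl
theorem F407662 : act 2 n198339 = n126312 := d2_1 D198339 (iv5 D126312) (iv2 F169174)
theorem F407663 : act 7 n198339 = n139279 := d13_2 (iv7 F169175) D198339 (iv5 D139279)
theorem F407664 : act 0 n198339 = n125580 := d17_2 (iv1 F169177) D198339 F202003 F176738 D197946 F406259 (iv5 D111777) F166185 (iv4 F80427)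
theorem F407665 : act 4 n198339 = n140688 := d17_4 F166186 F80428 (iv1 F169177) D198339 (iv5 F330473) F330472 (iv5 D50401) D50400 (iv4 F93168)
theorem F407666 : act 6 n198339 = n112725 := d21_3 F80428 (iv1 F169177) D198339 (iv1 F175461) F168859 D140353 F223468 (iv5 F202428) (iv6 D125939) F166186
theorem F407667 : act 0 n112612 = n198339 := d19_0 (iv5 D198339) (iv4 D109223) D109222 (iv1 F407660) F378718 (iv4 D179115) (iv3 D85468) (iv1 F60387) (iv5 F54939) (iv4 D34694) (iv3 F54936) D75899 F199942 D85290 (iv3 F319721) D175266 F337605 F175220 (iv3 F175216)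
def n198340 : Q := act 6 n109223
theorem D198340 : act 6 n109223 = n198340 := rfl
theorem F407668 : act 2 n198340 = n126313 := d3_1 D198340 (iv6 D126313) (iv2 F169174)
theorem F407669 : act 3 n198340 = n194268 := d7_1 D198340 F392584 (iv3 F174995)
theorem F407670 : act 4 n198340 = n109225 := d10_1 D198340 (iv6 D109225) D109223
theorem F407671 : act 0 n198340 = n126172 := d21_4 (iv5 F175217) F407667 (iv5 D198339) D198340 (iv6 D126172) D126171 F217018 F217016 (iv6 F203095) F203094
theorem F407672 : act 5 n198340 = n134750 := d21_6 (iv5 D12093) F19102 D24798 D50988 (iv1 F169177) D198340 (iv1 D134750) F98569 (iv6 D52420) (iv1 D25440)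
theorem F407673 : act 0 n197843 = n198340 := d21_4 (iv5 F77829) D106594 (iv5 F173227) (iv6 F405989) (iv6 D198340) D198339 F407664 F202003 (iv6 D113578) (iv1 D52424)
theorem F407674 : act 7 n134841 = n198340 := d13_0 F407672 F216791 D134841
theorem F407675 : act 0 n198140 = n124219 := d20_4 (iv4 F407670) F407671 F202893 (iv3 F406971) (iv3 D124219) (iv4 F123642) (iv1 D77968) (iv4 F119178) (iv3 F323808) F337413
def n198341 : Q := act 4 n109224
theorem D198341 : act 4 n109224 = n198341 := rfl
theorem F407676 : act 2 n198341 = n196397 := d1_1 D198341 (iv4 D196397) F332221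
theorem F407677 : act 3 n198341 = n113192 := d5_1 D198341 F176356 (iv3 F176350) F407654 F407652
theorem F407678 : act 7 n198341 = n196400 := d11_2 F332219 D198341 (iv4 D196400)
theorem F407679 : act 5 n198341 = n196428 := d16_1 D198341 (iv4 D196428) (iv5 F400593) F400594 (iv5 D125938) F93168 D109227 (iv7 F332223) F332221
theorem F407680 : act 6 n113191 = n198341 := d7_0 F407677 (iv6 D113192) D113191
def n198342 : Q := act 6 n109224
theorem D198342 : act 6 n109224 = n198342 := rfl
theorem F407681 : act 2 n198342 = n196398 := d3_1 D198342 (iv6 D196398) F332221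
theorem F407682 : act 3 n198342 = n113188 := d7_1 D198342 (iv6 F407655) F407652
theorem F407683 : act 4 n198342 = n113191 := d10_1 D198342 F407680 (iv4 D198341)
theorem F407684 : act 5 n198342 = n134203 := d12_1 D198342 F216236 (iv5 F337411) (iv6 D109225) D109224
theorem F407685 : act 0 n198342 = n116110 := d21_4 (iv5 D50401) D50399 D109224 D198342 (iv6 F344459) (iv5 F303293) (iv1 D160358) D160360 F345413 F330474
theorem F407686 : act 1 n198342 = n116108 := d15_1 (iv0 F407685) (iv7 F400256) F400254
theorem F407687 : act 7 n115282 = n198342 := d13_0 F407684 (iv7 F222782) F331023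
def n198343 : Q := act 5 n109226
theorem D198343 : act 5 n109226 = n198343 := rfl
theorem F407688 : act 3 n198343 = n109227 := d6_1 D198343 (iv5 D109227) D109226
theorem F407689 : act 7 n198343 = n196396 := d13_2 F173448 D198343 F400581
theorem F407690 : act 4 n112843 = n198343 := d16_4 F358351 (iv5 F382207) F382206 (iv5 F358271) (iv5 D198343) (iv4 F202430) (iv5 F358328) (iv7 D128631) D128626
theorem F407691 : act 6 n194588 = n198343 := d21_5 (iv5 F140454) (iv1 F140455) F294497 D103836 F393768 (iv5 D198343) F405694 F405693 F368597 F294322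
def n198344 : Q := act 6 n109226
theorem D198344 : act 6 n109226 = n198344 := rfl
theorem F407692 : act 3 n198344 = n109228 := d7_1 D198344 (iv6 D109228) D109226
def n198345 : Q := act 4 n109227
theorem D198345 : act 4 n109227 = n198345 := rfl
theorem F407693 : act 2 n198345 = n196400 := d1_1 D198345 (iv4 D196400) F332217
theorem F407694 : act 5 n198345 = n156184 := d9_2 D109227 D198345 F245449 F330473 (iv4 F407665) (iv5 D198339) (iv4 D109223) D109224 D198341 F407679 (iv4 D196428) (iv5 F400593) F400594 (iv5 D125938) F93168
theorem F407695 : act 7 n198345 = n196397 := d11_2 F332223 D198345 (iv4 D196397)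
theorem F407696 : act 3 n198345 = n156186 := d19_3 (iv1 F81068) D109227 D198345 (iv1 F355487) (iv5 F355512) F355511 F345606 (iv1 D124963) (iv5 F130610) (iv4 F278774) (iv3 D178896) (iv1 F338233) F246021 F111874 F80709 (iv1 F45126) D58752 F92845 F330484
def n198346 : Q := act 6 n109227
theorem D198346 : act 6 n109227 = n198346 := rfl
theorem F407697 : act 2 n198346 = n112678 := d3_1 D198346 (iv6 F363570) F332217
theorem F407698 : act 3 n198346 = n194588 := d7_1 D198346 F407691 F407688
theorem F407699 : act 0 n198346 = n112676 := d21_4 (iv5 F330482) (iv1 F81068) D109227 D198346 (iv6 D112676) (iv5 F163628) (iv1 F163635) F172113 (iv6 F351319) (iv1 D106973)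
theorem F407700 : act 0 n112680 = n198346 := d21_4 F407644 (iv1 F373418) F351293 (iv6 F175346) (iv6 D198346) (iv5 D109227) (iv1 D50400) D50401 (iv6 F169173) D198333
def n198347 : Q := act 5 n109228
theorem D198347 : act 5 n109228 = n198347 := rfl
theorem F407701 : act 2 n198347 = n198049 := d2_1 D198347 F406592 F173447
theorem F407702 : act 7 n198347 = n198050 := d13_2 F407178 D198347 (iv5 F407181)
theorem F407703 : act 0 n198347 = n111376 := d17_2 F405682 D198347 (iv5 D111376) F81093 F39188 D30570 (iv5 F79769) (iv0 F168565) (iv4 F405679)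
theorem F407704 : act 1 n198347 = n197737 := d17_6 D65879 D140353 F223468 (iv5 F202428) F202427 D198347 (iv5 D197737) (iv0 F168498) F101533
def n198348 : Q := act 6 n109232
theorem D198348 : act 6 n109232 = n198348 := rfl
theorem F407705 : act 3 n198348 = n109234 := d7_1 D198348 (iv6 D109234) D109232
theorem F407706 : act 4 n198348 = n130304 := d10_1 D198348 (iv6 D130304) (iv4 F343562)
def n198349 : Q := act 0 n109233
theorem D198349 : act 0 n109233 = n198349 := rfl
theorem F407707 : act 5 n198349 = n196484 := d17_1 D198349 F400802 (iv5 F332215) (iv4 D156137) (iv5 F245379) F245038 (iv5 F111124) D74246 (iv4 F332212)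
theorem F407708 : act 1 n109241 = n198349 := d15_0 (iv0 D198349) (iv7 F173457) F173456
theorem F407709 : act 2 n197946 = n198349 := d2_3 F407707 (iv2 F400804) D197946
theorem F407710 : act 3 n157153 = n198349 := d6_3 F407707 (iv3 D196484) F342035
def n198350 : Q := act 1 n109233
theorem D198350 : act 1 n109233 = n198350 := rfl
theorem F407711 : act 1 n198350 = n109241 := d15_1 D198350 (iv7 F173470) F173469
theorem F407712 : act 7 n198350 = n197946 := d15_2 (iv0 D198349) D198350 F407709
theorem F407713 : act 5 n198350 = n111420 := d17_7 F81295 F81117 F79764 (iv5 D50405) D50404 D109233 D198350 (iv0 F222466) (iv4 D111779)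
def n198351 : Q := act 6 n109233
theorem D198351 : act 6 n109233 = n198351 := rfl
theorem F407714 : act 3 n198351 = n157155 := d7_1 D198351 (iv6 D157155) (iv3 F332211)
theorem F407715 : act 4 n198351 = n156084 := d10_1 D198351 (iv6 D156084) (iv4 F332212)
theorem F407716 : act 5 n198351 = n139620 := d12_1 D198351 F226752 F364139 (iv6 D109234) D109233
theorem F407717 : act 1 n196298 = n198351 := d17_6 (iv1 F163938) F163940 F98852 F98851 D106883 D196298 F407716 F222778 F216246
theorem F407718 : act 0 n196295 = n198351 := d21_1 D196295 F407716 F226752 (iv1 D115736) (iv6 D53370) D53369 F84196 (iv5 D49387) D49388 F164732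
def n198352 : Q := act 0 n109236
theorem D198352 : act 0 n109236 = n198352 := rfl
theorem F407719 : act 4 n198352 = n110455 := d18_3 F79764 D109236 D198352 (iv5 F175217) (iv4 F400801) F400803 (iv4 D111773) (iv0 F81291) F81117
theorem F407720 : act 6 n198352 = n110454 := d21_5 D108956 (iv1 F223770) (iv5 D140681) (iv6 F169185) D198352 (iv5 F376101) (iv1 D189209) F327465 (iv6 F168519) (iv1 F168521)
theorem F407721 : act 2 n111420 = n198352 := d15_3 (iv0 D198352) F222463 (iv7 F172900)
theorem F407722 : act 1 n109243 = n198352 := d15_0 (iv0 D198352) (iv7 F173461) F173460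
theorem F407723 : act 7 n198352 = n196484 := d15_2 F222465 F407722 (iv2 F400804)
theorem F407724 : act 3 n157956 = n198352 := d20_9 (iv4 D109243) F81119 (iv4 F168729) F326653 (iv1 F299718) D164192 F258777 F330872 (iv4 F248849) (iv1 F407722)
def n198353 : Q := act 6 n109237
theorem D198353 : act 6 n109237 = n198353 := rfl
theorem F407725 : act 4 n198353 = n109239 := d10_1 D198353 (iv6 D109239) D109237
theorem F407726 : act 5 n198353 = n175265 := d12_1 D198353 (iv6 D175265) (iv5 D83694) D83695 (iv5 F332183)
theorem F407727 : act 0 n126019 = n198353 := d21_4 (iv5 F351659) (iv1 F351658) (iv5 D126018) D126019 (iv6 D198353) F332183 D175266 F337605 (iv6 D112615) F168005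
theorem F407728 : act 0 n198353 = n125989 := d21_1 (iv5 F407726) (iv5 F406397) (iv6 F406399) (iv1 D175372) (iv6 D83747) D83746 (iv1 F311309) F311310 F353496 F353499
def n198354 : Q := act 1 n109238
theorem D198354 : act 1 n109238 = n198354 := rfl
theorem F407729 : act 1 n198354 = n113197 := d15_1 D198354 (iv7 F395801) F395797
theorem F407730 : act 7 n198354 = n197702 := d15_2 F176361 D198354 F405432
theorem F407731 : act 4 n198354 = n112601 := d17_9 (iv1 F319905) F317711 (iv1 F333688) (iv5 D113196) F82609 F40127 (iv0 F161338) D109238 D198354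
theorem F407732 : act 5 n197702 = n198354 := d21_0 (iv1 D198354) (iv5 D109238) D109239 F364887 (iv6 D163133) (iv5 F327225) F245306 F245305 (iv6 F395800) F405436
theorem F407733 : act 6 n111268 = n198354 := d21_3 F79700 (iv1 F165670) F172580 (iv1 D198354) (iv6 F169192) (iv5 F221813) (iv1 F401603) (iv5 F401605) F172657 F168427
theorem F407734 : act 2 n198354 = n195038 := d3_1 F407733 (iv6 D195038) (iv2 F172581)
theorem F407735 : act 3 n198354 = n110324 := d7_1 F407733 F170556 (iv3 F172582)
def n198355 : Q := act 4 n109238
theorem D198355 : act 4 n109238 = n198355 := rfl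
theorem F407736 : act 2 n198355 = n163530 := d1_1 D198355 (iv4 F395799) F395797
theorem F407737 : act 5 n198355 = n119450 := d9_2 D109238 D198355 (iv4 F309212) F166863 D133769 (iv5 F333428) (iv4 F175015) D113197 F319911 (iv5 D83608) (iv4 F128686) (iv5 F313478) (iv4 F319722) (iv5 F332183) (iv4 D109237)
theorem F407738 : act 6 n198355 = n110375 := d10_2 F169192 D198355 F170727
theorem F407739 : act 7 n198355 = n119449 := d11_2 F173463 D198355 F361363
theorem F407740 : act 0 n198355 = n110458 := d17_0 (iv5 F337595) F232875 F333437 (iv4 F170607) D195108 (iv0 F395802) F395525 F176361 D198355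
theorem F407741 : act 1 n198355 = n175074 := d18_6 F166152 (iv4 F81968) F169187 (iv4 D109237) D109238 D198355 F337597 F175059 (iv5 D59321)
theorem F407742 : act 3 n198355 = n152590 := d19_3 (iv1 F161339) D109238 D198355 (iv1 F259397) F342059 (iv4 F312030) F234448 (iv1 D70125) D70126 F232204 (iv3 F355327) (iv1 F355328) (iv5 D102874) (iv4 F129375) (iv3 F276209) F354549 (iv5 D111785) F81318 (iv3 F79895)
def n198356 : Q := act 5 n109240
theorem D198356 : act 5 n109240 = n198356 := rfl
theorem F407743 : act 2 n198356 = n157156 := d2_1 D198356 (iv5 F407100) F407099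
theorem F407744 : act 3 n198356 = n109241 := d6_1 D198356 (iv5 D109241) D109240
def n198357 : Q := act 6 n109241
theorem D198357 : act 6 n109241 = n198357 := rfl
theorem F407745 : act 4 n198357 = n156080 := d10_1 D198357 (iv6 D156080) (iv4 F332213)
def n198358 : Q := act 3 n109243
theorem D198358 : act 3 n109243 = n198358 := rfl
theorem F407746 : act 4 n198358 = n152590 := d5_2 D109243 D198358 (iv3 F407742) (iv4 D198355) F169188
theorem F407747 : act 6 n198358 = n197860 := d7_2 (iv6 F169198) D198358 (iv3 D197860)
theorem F407748 : act 7 n198358 = n152589 := d8_2 F173475 D198358 (iv3 F361364)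
theorem F407749 : act 0 n157875 = n198358 := d20_4 (iv4 D78876) F117434 (iv4 F112761) (iv3 F248794) (iv3 D198358) (iv4 D109243) F81119 (iv4 F168729) F326653 (iv1 F299718)
def n198359 : Q := act 5 n109243
theorem D198359 : act 5 n109243 = n198359 := rfl
theorem F407750 : act 2 n198359 = n156142 := d2_1 D198359 F332214 F173460
theorem F407751 : act 4 n198359 = n155990 := d9_1 D198359 F245249 (iv4 F332212) (iv5 D109233) (iv4 D50404) D50405 D109236 F358697 F245054 F245374 (iv4 F332213) (iv5 D109241) (iv4 D50409) D50410 D109243
theorem F407752 : act 7 n198359 = n156137 := d13_2 F173475 D198359 F332215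
theorem F407753 : act 0 n198359 = n140391 := d17_2 (iv1 F407722) D198359 (iv5 D140391) F101577 F49282 F101067 D139279 (iv0 F222464) (iv4 F407719)
theorem F407754 : act 1 n198359 = n111498 := d17_6 (iv1 F39180) F39177 (iv1 F39179) D50410 D109243 D198359 (iv5 D111498) (iv0 F166155) (iv4 D50404)
def n198360 : Q := act 5 n109244
theorem D198360 : act 5 n109244 = n198360 := rfl
theorem F407755 : act 2 n198360 = n136277 := d2_1 D198360 (iv5 D136277) (iv2 F351982)
theorem F407756 : act 3 n198360 = n115663 := d6_1 D198360 (iv5 F349843) (iv3 F351983)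
theorem F407757 : act 4 n198360 = n110427 := d9_1 D198360 F170801 F82570 D64070 D136282 (iv5 F351991) F351989 (iv5 F392991) F392990 (iv5 F202690) F202689 F376070 (iv4 F376072) (iv5 F345785) (iv4 F351984)
theorem F407758 : act 7 n198360 = n115660 := d13_2 (iv7 F351986) D198360 (iv5 F180027)
theorem F407759 : act 0 n111973 = n198360 := d21_1 D111973 (iv5 D198360) F351985 (iv1 F364243) F147638 (iv5 D44803) F68951 (iv5 F75446) D103681 F352007
def n198361 : Q := act 5 n109248
theorem D198361 : act 5 n109248 = n198361 := rfl
theorem F407760 : act 7 n198361 = n191147 := d13_2 (iv7 F173489) D198361 (iv5 F382409)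
def n198362 : Q := act 6 n109248
theorem D198362 : act 6 n109248 = n198362 := rfl
theorem F407761 : act 3 n198362 = n194890 := d7_1 D198362 F395322 (iv3 F395321)
theorem F407762 : act 4 n198362 = n126316 := d10_1 D198362 (iv6 D126316) (iv4 F169205)
theorem F407763 : act 7 n198362 = n194267 := d14_2 (iv7 F173489) D198362 (iv6 D194267) (iv7 F392560) F392559
theorem F407764 : act 0 n109918 = n198362 := d18_2 F161375 (iv4 F169935) F407762 F203111 (iv4 F218574) F218573 F99881 F161295 D74500
theorem F407765 : act 1 n109757 = n198362 := d18_6 (iv1 D68127) F50027 (iv1 F169537) (iv4 D64321) (iv5 F79995) (iv4 F169748) F407762 (iv0 F203112) F202714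
def n198363 : Q := act 5 n109249
theorem D198363 : act 5 n109249 = n198363 := rfl
theorem F407766 : act 2 n198363 = n191147 := d2_1 D198363 (iv5 F382409) F173490
theorem F407767 : act 6 n198363 = n187408 := d12_2 F340589 D198363 (iv5 D187408) F291952 D103094
def n198364 : Q := act 0 n109250
theorem D198364 : act 0 n109250 = n198364 := rfl
theorem F407768 : act 6 n198364 = n176829 := d21_5 (iv5 F382418) (iv1 F347191) D195513 F397191 D198364 (iv5 D176829) (iv1 F250158) (iv5 F362553) (iv6 F362555) (iv1 F382415)
theorem F407769 : act 1 n109518 = n198364 := d15_0 (iv0 D198364) (iv7 F173496) F173495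
theorem F407770 : act 2 n176834 = n198364 := d3_3 F407768 F276206 D176834
theorem F407771 : act 3 n195531 = n198364 := d7_3 F407768 (iv3 F377514) (iv6 F397238)
def n198365 : Q := act 1 n109250
theorem D198365 : act 1 n109250 = n198365 := rfl
theorem F407772 : act 1 n198365 = n109518 := d15_1 D198365 (iv7 F173982) F173981
theorem F407773 : act 7 n198365 = n176834 := d15_2 (iv0 D198364) D198365 F407770
theorem F407774 : act 3 n176842 = n198365 := d19_19 (iv1 D198365) (iv5 D109250) F79771 (iv3 F79607) (iv1 F161337) D111774 (iv4 F361363) F188222 (iv1 F342044) F342045 F308156 (iv3 D165029) (iv1 D79288) D79289 (iv4 F305413) (iv3 F177688) (iv1 F355325) (iv5 F355323) (iv4 F276213)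
theorem F407775 : act 6 n138937 = n198365 := d21_3 (iv5 D74766) D74763 (iv5 F245801) (iv1 D198365) (iv6 F397191) (iv5 D195513) F347190 (iv5 F103443) D144206 F340017
def n198366 : Q := act 4 n109250
theorem D198366 : act 4 n109250 = n198366 := rfl
def n198367 : Q := act 5 n109251
theorem D198367 : act 5 n109251 = n198367 := rfl
theorem F407776 : act 2 n198367 = n110322 := d2_1 D198367 (iv5 D110322) (iv2 F169208)
theorem F407777 : act 3 n198367 = n189295 := d6_1 D198367 F376357 (iv3 F363511)
theorem F407778 : act 7 n198367 = n190500 := d13_2 F173498 D198367 F379924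
theorem F407779 : act 6 n164096 = n198367 := d14_5 F407778 (iv6 D190500) (iv7 F373602) F373635 F373634
theorem F407780 : act 4 n198367 = n164097 := d10_1 F407779 (iv6 D164097) D164096
def n198368 : Q := act 4 n109252
theorem D198368 : act 4 n109252 = n198368 := rfl
theorem F407781 : act 2 n198368 = n110325 := d1_1 D198368 (iv4 D110325) (iv2 F169211)
theorem F407782 : act 6 n198368 = n111806 := d10_2 (iv6 F169213) D198368 (iv4 D111806)
theorem F407783 : act 3 n198368 = n194925 := d19_3 D50414 D109252 D198368 F399679 (iv5 D196166) (iv4 D106718) (iv3 F164487) (iv1 F167454) (iv5 D108298) (iv4 D50010) F38229 D29221 (iv5 F54474) (iv4 F106330) (iv3 F312730) (iv1 F188047) (iv5 F333678) F93223 F79607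
theorem F407784 : act 0 n198368 = n111856 := d20_7 (iv4 F332178) F350918 (iv4 F407731) F407735 (iv1 F170558) F169314 D198368 (iv4 F395823) F395822 F170639
def n198369 : Q := act 3 n109254
theorem D198369 : act 3 n109254 = n198369 := rfl
theorem F407785 : act 7 n198369 = n191068 := d8_2 (iv7 F357996) D198369 (iv3 D191068)
theorem F407786 : act 4 n198369 = n140699 := d20_6 (iv4 D25088) (iv1 F19639) D24572 D50416 D109254 D198369 (iv1 D140699) (iv4 F174005) (iv3 D111969) (iv1 D51641)
def n198370 : Q := act 5 n109254
theorem D198370 : act 5 n109254 = n198370 := rfl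
theorem F407787 : act 7 n198370 = n191069 := d13_2 (iv7 F357996) D198370 (iv5 D191069)
theorem F407788 : act 1 n198370 = n112223 := d17_6 (iv1 F335115) (iv5 D95862) (iv1 F71675) (iv5 F149956) F357998 D198370 (iv5 D112223) D112221 F358431
theorem F407789 : act 6 n198370 = n194612 := d21_3 (iv5 D109257) D109254 D198370 (iv1 F393830) F390129 (iv5 F353228) F346805 D177164 (iv6 F393868) (iv1 F393869)
def n198371 : Q := act 4 n109257
theorem D198371 : act 4 n109257 = n198371 := rfl
theorem F407790 : act 2 n198371 = n111024 := d1_1 D198371 (iv4 F391521) F391518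
theorem F407791 : act 3 n198371 = n196598 := d5_1 D198371 (iv4 D196598) F165110 (iv4 F79775) (iv3 F169220)
theorem F407792 : act 7 n198371 = n111023 := d11_2 F173991 D198371 F358492
theorem F407793 : act 0 n198371 = n111022 := d18_2 (iv1 F393869) D198371 (iv4 F225334) (iv5 F356889) (iv4 F378724) (iv0 D112087) F81610 D109691 (iv5 F393867)
theorem F407794 : act 1 n198371 = n111026 := d18_6 F340378 (iv4 D96268) F340721 F81322 D109257 D198371 F356936 (iv0 F373311) F373310
def n198372 : Q := act 0 n109259
theorem D198372 : act 0 n109259 = n198372 := rfl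
theorem F407795 : act 1 n109349 = n198372 := d15_0 (iv0 D198372) (iv7 F393848) F393845
def n198373 : Q := act 1 n109259
theorem D198373 : act 1 n109259 = n198373 := rfl
theorem F407796 : act 1 n198373 = n109349 := d15_1 D198373 (iv7 D109349) (iv2 F169222)
def n198374 : Q := act 5 n109259
theorem D198374 : act 5 n109259 = n198374 := rfl
theorem F407797 : act 2 n198374 = n109348 := d2_1 D198374 (iv5 D109348) (iv2 F169222)
theorem F407798 : act 3 n198374 = n190183 := d6_1 D198374 (iv5 F393858) F393857
theorem F407799 : act 6 n198374 = n109262 := d12_2 D109259 D198374 (iv5 D109262) (iv6 D50418) D50417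
theorem F407800 : act 7 n198374 = n190176 := d13_2 F393848 D198374 (iv5 F393847)
def n198375 : Q := act 3 n109260
theorem D198375 : act 3 n109260 = n198375 := rfl
theorem F407801 : act 4 n198375 = n112608 := d5_2 F169235 D198375 (iv3 D112608) (iv4 D51959) D51958
theorem F407802 : act 6 n198375 = n158112 := d7_2 (iv6 F327529) D198375 (iv3 D158112)
theorem F407803 : act 7 n198375 = n109356 := d8_2 (iv7 F170662) D198375 (iv3 D109356)
theorem F407804 : act 0 n188501 = n198375 := d20_1 D188501 F407801 (iv3 D112608) D112607 F343104 (iv4 F301260) F301258 (iv4 F256391) F256390 (iv1 F298621)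
theorem F407805 : act 1 n188500 = n198375 := d15_0 (iv0 F407804) F373732 (iv2 F373729)
theorem F407806 : act 0 n188499 = n163830 := d20_4 (iv4 F407801) (iv1 F407805) (iv4 D188500) D188499 (iv3 D163830) (iv4 F132101) F256632 (iv4 F122846) D166743 F357776
def n198376 : Q := act 6 n109261
theorem D198376 : act 6 n109261 = n198376 := rfl
theorem F407807 : act 2 n198376 = n109359 := d3_1 D198376 (iv6 D109359) (iv2 F170664)
theorem F407808 : act 4 n198376 = n195332 := d10_1 D198376 (iv6 D195332) F169225
theorem F407809 : act 7 n198376 = n158110 := d14_2 (iv7 F170665) D198376 (iv6 D158110) (iv7 F327198) F169860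
theorem F407810 : act 1 n198368 = n198376 := d15_1 (iv0 F407784) F407809 (iv2 F327415)
theorem F407811 : act 1 n198376 = n112527 := d15_1 F407810 F174985 (iv2 F407781)
def n198377 : Q := act 0 n109262
theorem D198377 : act 0 n109262 = n198377 := rfl
theorem F407812 : act 5 n198377 = n109866 := d17_3 (iv1 D109261) D109262 D198377 (iv4 F169867) (iv5 F97075) (iv0 F179348) F93585 D105526 F169225
theorem F407813 : act 1 n109363 = n198377 := d15_0 (iv0 D198377) F381390 F381387
theorem F407814 : act 2 n109360 = n198377 := d2_3 F407812 F202495 (iv5 F173734)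
theorem F407815 : act 7 n109361 = n198377 := d13_0 F407812 F202496 (iv5 F169865)
def n198378 : Q := act 1 n109262
theorem D198378 : act 1 n109262 = n198378 := rfl
theorem F407816 : act 1 n198378 = n109363 := d15_1 D198378 (iv7 D109363) (iv2 F169230)
theorem F407817 : act 7 n198378 = n109360 := d15_2 (iv0 D198377) D198378 F407814
theorem F407818 : act 5 n198378 = n109738 := d17_7 (iv1 F83899) F83897 (iv1 D53146) F40730 (iv4 F79777) D109262 D198378 F202532 F80048
theorem F407819 : act 2 n109361 = n198378 := d2_3 F407818 F202533 (iv5 F169865)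
def n198379 : Q := act 4 n109262
theorem D198379 : act 4 n109262 = n198379 := rfl
theorem F407820 : act 2 n198379 = n109362 := d1_1 D198379 (iv4 D109362) (iv2 F169230)
def n198380 : Q := act 5 n109264
theorem D198380 : act 5 n109264 = n198380 := rfl
theorem F407821 : act 2 n198380 = n109367 := d2_1 D198380 (iv5 D109367) (iv2 F169237)
theorem F407822 : act 7 n198380 = n109369 := d13_2 (iv7 F169238) D198380 (iv5 D109369)
theorem F407823 : act 0 n198380 = n155960 := d17_2 F174002 D198380 (iv5 D155960) F110936 (iv5 F93597) D126466 (iv5 F203319) F170674 (iv4 F174000)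
def n198381 : Q := act 5 n109265
theorem D198381 : act 5 n109265 = n198381 := rfl
theorem F407824 : act 2 n198381 = n109369 := d2_1 D198381 (iv5 D109369) (iv2 F169241)
theorem F407825 : act 7 n198381 = n109367 := d13_2 (iv7 F169242) D198381 (iv5 D109367)
theorem F407826 : act 1 n198381 = n155960 := d17_6 (iv1 D24681) (iv5 F23415) D29544 F79780 D109265 D198381 (iv5 D155960) F169929 (iv4 D50694)
def n198382 : Q := act 6 n109265
theorem D198382 : act 6 n109265 = n198382 := rfl
theorem F407827 : act 2 n198382 = n109370 := d3_1 D198382 (iv6 D109370) (iv2 F169241)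
theorem F407828 : act 4 n198382 = n109266 := d10_1 D198382 (iv6 D109266) D109265
def n198383 : Q := act 2 n109267
theorem D198383 : act 2 n109267 = n198383 := rfl
theorem F407829 : act 3 n198383 = n195413 := d0_2 D109267 D198383 (iv2 D195413) (iv3 D105571) (iv2 F79786)
theorem F407830 : act 4 n198383 = n143970 := d1_2 (iv4 F169246) D198383 (iv2 D143970)
theorem F407831 : act 7 n198383 = n136313 := d4_2 (iv7 F169247) D198383 (iv2 D136313)
theorem F407832 : act 1 n198383 = n133995 := d15_0 F336189 (iv7 F169247) D198383
theorem F407833 : act 1 n136312 = n198383 := d15_0 F407832 F336191 F364294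
def n198384 : Q := act 5 n109267
theorem D198384 : act 5 n109267 = n198384 := rfl
theorem F407834 : act 3 n198384 = n109268 := d6_1 D198384 (iv5 D109268) D109267
theorem F407835 : act 7 n198384 = n136314 := d13_2 (iv7 F169247) D198384 (iv5 D136314)
def n198385 : Q := act 6 n109267
theorem D198385 : act 6 n109267 = n198385 := rfl
theorem F407836 : act 3 n198385 = n109269 := d7_1 D198385 (iv6 D109269) D109267
theorem F407837 : act 4 n198385 = n143971 := d10_1 D198385 (iv6 D143971) (iv4 F169246)
def n198386 : Q := act 6 n109268
theorem D198386 : act 6 n109268 = n198386 := rfl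
theorem F407838 : act 2 n198386 = n195367 := d3_1 D198386 (iv6 D195367) (iv2 F169249)
theorem F407839 : act 4 n198386 = n109345 := d10_1 D198386 (iv6 D109345) (iv4 F169250)
theorem F407840 : act 1 n198386 = n144431 := d15_0 (iv0 F397349) F397348 (iv2 F407838)
def n198387 : Q := act 5 n109269
theorem D198387 : act 5 n109269 = n198387 := rfl
theorem F407841 : act 2 n198387 = n195415 := d2_1 D198387 (iv5 D195415) (iv2 F169254)
theorem F407842 : act 0 n198387 = n140999 := d17_2 F169256 D198387 (iv5 F351844) (iv4 D144728) F111409 (iv0 D48843) F37132 D48844 D105657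
def n198388 : Q := act 5 n109270
theorem D198388 : act 5 n109270 = n198388 := rfl
theorem F407843 : act 2 n198388 = n195349 := d2_1 D198388 (iv5 D195349) (iv2 F169261)
theorem F407844 : act 7 n198388 = n197339 := d13_2 F403912 D198388 F403988
theorem F407845 : act 0 n198388 = n197341 := d17_2 F175584 D198388 F403989 F167172 (iv5 F82016) (iv0 D25267) D25268 D52056 D112784
theorem F407846 : act 1 n198388 = n197231 := d17_6 F169196 (iv5 F81145) F81146 (iv5 F79798) (iv4 F169262) D198388 (iv5 D197231) (iv0 F221810) (iv4 D138645)
def n198389 : Q := act 3 n109274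
theorem D198389 : act 3 n109274 = n198389 := rfl
theorem F407847 : act 5 n198389 = n145656 := d6_2 F401556 D198389 (iv3 F401554)
theorem F407848 : act 7 n198389 = n196591 := d8_2 F180744 D198389 (iv3 D196591)
theorem F407849 : act 0 n198389 = n144423 := d20_4 F401222 D196810 F401867 D198389 (iv3 D144423) (iv4 F169673) F182581 D116868 F182592 D196610
theorem F407850 : act 4 n198389 = n126782 := d20_6 (iv4 D30678) (iv1 F38579) D24578 D50426 D109274 D198389 (iv1 D126782) (iv4 F161959) (iv3 D105499) F76805
theorem F407851 : act 0 n127091 = n198389 := d20_4 F101143 D65431 D139404 F349984 (iv3 D198389) (iv4 F401867) (iv1 F402416) F402421 F402422 (iv1 D139395)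
def n198390 : Q := act 6 n109274
theorem D198390 : act 6 n109274 = n198390 := rfl
theorem F407852 : act 2 n198390 = n196595 := d3_1 D198390 (iv6 D196595) F180742
def n198391 : Q := act 6 n109275
theorem D198391 : act 6 n109275 = n198391 := rfl
theorem F407853 : act 2 n198391 = n196593 := d3_1 D198391 (iv6 D196593) (iv2 F180743)
theorem F407854 : act 4 n198391 = n196947 := d10_1 D198391 (iv6 D196947) F169277
theorem F407855 : act 0 n198391 = n144437 := d21_4 D195465 (iv1 F401559) F401561 D198391 F227237 (iv5 F245164) (iv1 F397094) (iv5 F397083) F397084 (iv1 F165274)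
theorem E103739 : n196952 = n196556 := ((c20_4 F104285 (iv1 F78387) (iv4 F165057) D196556 (iv1 D196952) (iv3 F402424) (iv4 F407854) F407855 F227236 F164872 (iv1 F165535))).symm
theorem F407856 : act 0 n196556 = n107494 := (sb E103739 (iv1 D196952))
theorem F407857 : act 2 n125478 = n196951 := d15_3 (iv0 D196951) (iv0 F407856) F401072
theorem F407858 : act 3 n196951 = n145362 := d0_2 (iv3 F201793) F407857 F366100 F167316 (iv2 F92820)
theorem F407859 : act 4 n196951 = n194547 := d1_2 (iv4 F201794) F407857 F393674
theorem F407860 : act 6 n196951 = n125477 := d3_2 D125478 F407857 (iv2 D125477)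
theorem F407861 : act 7 n196951 = n194546 := d4_2 F401072 F407857 F401073
def n198392 : Q := act 6 n109276
theorem D198392 : act 6 n109276 = n198392 := rfl
theorem F407862 : act 2 n198392 = n109277 := d3_1 D198392 (iv6 D109277) D109276
theorem F407863 : act 4 n198392 = n126159 := d10_1 D198392 (iv6 D126159) (iv4 F169279)
theorem F407864 : act 7 n153764 = n198392 := d11_0 F407863 F326611 D153764
def n198393 : Q := act 0 n109277
theorem D198393 : act 0 n109277 = n198393 := rfl
def n198394 : Q := act 1 n109277
theorem D198394 : act 1 n109277 = n198394 := rfl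
theorem F407865 : act 1 n198394 = n153764 := d15_1 D198394 F407864 F407862
theorem F407866 : act 4 n194610 = n198394 := d20_0 (iv1 D198394) F169284 F93292 (iv1 F111359) D107463 (iv4 F222526) F328891 D192962 (iv3 F388354) F393814
theorem F407867 : act 3 n194368 = n198394 := d20_3 (iv4 F393805) (iv1 D194608) (iv4 F392956) (iv1 D198394) F169283 F79801 D50428 D109280 (iv3 F226931) F366316
theorem F407868 : act 6 n198394 = n198153 := d10_2 F393815 F407866 F407004
def n198395 : Q := act 5 n109277
theorem D198395 : act 5 n109277 = n198395 := rfl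
theorem F407869 : act 3 n198395 = n109278 := d6_1 D198395 (iv5 D109278) (iv3 F169283)
def n198396 : Q := act 7 n109277
theorem D198396 : act 7 n109277 = n198396 := rfl
theorem F407870 : act 2 n198396 = n153764 := d4_1 D198396 F407864 F407862
theorem F407871 : act 3 n198396 = n109279 := d8_1 D198396 (iv7 D109279) (iv3 F169283)
theorem F407872 : act 4 n198396 = n126163 := d11_1 D198396 (iv7 D126163) (iv4 F169284)
theorem F407873 : act 6 n198396 = n140645 := d14_1 D198396 F331813 (iv6 D107129) (iv7 F79800) D109277
theorem F407874 : act 1 n153764 = n198393 := d15_0 (iv0 D198393) D198396 F407870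
def n198397 : Q := act 0 n109278
theorem D198397 : act 0 n109278 = n198397 := rfl
theorem F407875 : act 5 n198397 = n126762 := d17_3 (iv1 F111447) D109278 D198397 (iv4 D126762) (iv5 F162094) (iv0 D105552) (iv5 D48801) F111391 D31497
theorem F407876 : act 2 n144754 = n198397 := d15_3 (iv0 D198397) F361833 (iv7 F366317)
theorem F407877 : act 7 n198397 = n197363 := d4_2 (iv7 F366317) F407876 F404056
theorem F407878 : act 4 n198397 = n155890 := d16_0 (iv5 D155890) F110862 F53337 F319662 (iv5 F319603) (iv4 F104150) D145119 (iv7 F366317) F407876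
theorem F407879 : act 1 n144714 = n198397 := d15_1 (iv0 F361832) F407877 F404056
def n198398 : Q := act 4 n109278
theorem D198398 : act 4 n109278 = n198398 := rfl
theorem F407880 : act 5 n198398 = n155784 := d16_1 D198398 (iv4 D155784) (iv5 F324692) F321636 F167746 F111231 D144714 F227549 F179563
def n198399 : Q := act 7 n109278
theorem D198399 : act 7 n109278 = n198399 := rfl
theorem F407881 : act 2 n198399 = n144714 := d4_1 D198399 F227549 F179563
theorem F407882 : act 5 n198399 = n109279 := d13_1 D198399 (iv7 D109279) D109278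
theorem F407883 : act 1 n197363 = n198399 := d15_1 (iv0 F404058) (iv7 D198399) (iv2 F179563)
theorem F407884 : act 1 n198399 = n144754 := d15_1 F407883 F366317 (iv2 F404056)
def n198400 : Q := act 5 n109280
theorem D198400 : act 5 n109280 = n198400 := rfl
theorem F407885 : act 2 n198400 = n195370 := d2_1 D198400 (iv5 D195370) (iv2 F169290)
theorem F407886 : act 6 n198400 = n155791 := d12_2 (iv6 F204166) D198400 (iv5 D155791) D155792 (iv5 F359066)
theorem F407887 : act 7 n198400 = n195371 := d13_2 (iv7 F169291) D198400 (iv5 D195371)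
theorem F407888 : act 0 n198400 = n126767 := d17_2 F169293 D198400 (iv5 D126767) (iv4 D59484) (iv5 D28243) F101929 F41167 (iv0 F101925) (iv4 F161957)
theorem F407889 : act 1 n198400 = n197361 := d17_6 (iv1 F100137) F100134 (iv1 F48711) (iv5 F79802) D109280 D198400 F404046 F203992 F203989
def n198401 : Q := act 5 n109285
theorem D198401 : act 5 n109285 = n198401 := rfl
theorem F407890 : act 2 n198401 = n109286 := d2_1 D198401 (iv5 D109286) D109285
theorem F407891 : act 3 n198401 = n193543 := d6_1 D198401 F390205 F174028
theorem F407892 : act 4 n198401 = n163343 := d16_2 F175530 D198401 (iv5 D163343) (iv4 F353514) F222812 (iv4 F222811) (iv5 D110405) (iv7 F82250) D112748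
theorem F407893 : act 0 n198401 = n194379 := d17_2 (iv1 F174008) D198401 F392991 (iv4 F351989) F351991 F347148 F318576 (iv0 F351992) (iv4 F353514)
theorem F407894 : act 1 n198401 = n198360 := d17_6 D126000 (iv5 F354122) F376065 (iv5 F376066) F175530 D198401 (iv5 D198360) (iv0 D109244) (iv4 F93219)
theorem F407895 : act 6 n198401 = n193541 := d21_3 (iv5 F222812) (iv1 F174008) D198401 F392525 (iv6 D103204) F75112 (iv1 F75027) D103039 F319387 D136280
def n198402 : Q := act 6 n109285
theorem D198402 : act 6 n109285 = n198402 := rfl
theorem F407896 : act 2 n198402 = n109287 := d3_1 D198402 (iv6 D109287) D109285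
def n198403 : Q := act 5 n109287
theorem D198403 : act 5 n109287 = n198403 := rfl
theorem F407897 : act 3 n198403 = n109291 := d6_1 D198403 (iv5 D109291) (iv3 F169306)
theorem F407898 : act 6 n198403 = n194391 := d12_2 D109287 D198403 (iv5 D194391) F352016 (iv5 D109286)
theorem F407899 : act 0 n194391 = n196772 := d21_4 F392988 (iv1 F354192) D198403 F407898 (iv6 D196772) (iv5 F306960) F306958 F103448 D107485 (iv1 F359500)
theorem F407900 : act 0 n147707 = n198403 := d21_10 (iv5 D198403) F365764 F359598 F358272 (iv1 D112843) F337156 (iv5 F148717) (iv1 F341046) D190315 F379354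
def n198404 : Q := act 7 n109287
theorem D198404 : act 7 n109287 = n198404 := rfl
theorem F407901 : act 3 n198404 = n109292 := d8_1 D198404 (iv7 D109292) (iv3 F169306)
theorem F407902 : act 6 n198404 = n109579 := d14_1 D198404 F174019 (iv6 D111974) F81532 D109287
def n198405 : Q := act 0 n109288
theorem D198405 : act 0 n109288 = n198405 := rfl
theorem F407903 : act 6 n198405 = n130593 := d21_5 F99679 F76844 D50433 D109288 D198405 F335529 F319844 F110952 (iv6 D64082) D64080
theorem F407904 : act 3 n130594 = n198405 := d7_3 F407903 (iv3 D130593) D130594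
theorem F407905 : act 5 n192133 = n198405 := d12_5 F407903 F335529 F357200 (iv5 F352735) (iv6 F385694)
theorem F407906 : act 7 n194320 = n198405 := d14_0 F407903 F226934 (iv6 D144245) (iv7 F296436) D194320
theorem F407907 : act 2 n198405 = n192134 := d15_3 F385698 (iv0 F392819) F407906
theorem F407908 : act 0 n198405 = n143792 := d19_4 F168368 F165075 (iv4 F209166) F407904 (iv5 D143792) (iv4 D67352) (iv3 D31310) (iv1 F26236) D34235 (iv4 F103246) (iv3 F226488) F319374 (iv5 F330228) (iv4 F351817) F351816 F325447 (iv5 D138272) (iv4 D64951) (iv3 F100729)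
def n198406 : Q := act 1 n109288
theorem D198406 : act 1 n109288 = n198406 := rfl
theorem F407909 : act 1 n198406 = n143792 := d15_1 D198406 F346863 F174036
theorem F407910 : act 7 n198406 = n192134 := d15_2 (iv0 D198405) D198406 (iv2 F407907)
theorem F407911 : act 6 n191159 = n198406 := d21_3 (iv5 D103207) (iv1 F154114) (iv5 F382440) (iv1 D198406) (iv6 D109288) (iv5 D50433) (iv1 F45236) D58842 D125663 (iv1 F360497)
theorem F407912 : act 2 n198406 = n194320 := d3_1 F407911 (iv6 D194320) (iv2 F382442)
theorem F407913 : act 3 n198406 = n192139 := d7_1 F407911 F385717 F382441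
theorem F407914 : act 5 n198406 = n192135 := d12_1 F407911 F385702 F335366 F177393 (iv5 F382440)
def n198407 : Q := act 5 n109288
theorem D198407 : act 5 n109288 = n198407 := rfl
theorem F407915 : act 2 n198407 = n116806 := d2_1 D198407 (iv5 F346861) F174036
theorem F407916 : act 3 n198407 = n194391 := d6_1 D198407 (iv5 D194391) (iv3 F352017)
theorem F407917 : act 6 n198407 = n109291 := d12_2 D109288 D198407 (iv5 D109291) (iv6 D50434) D50433
theorem F407918 : act 4 n198407 = n116475 := d17_4 F385704 (iv5 F407914) (iv1 D198406) D198407 F318265 F307607 (iv5 F186066) F215871 D153173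
theorem F407919 : act 0 n198407 = n116491 := d21_1 D198407 F355199 (iv6 D113122) (iv1 F360554) F355180 (iv5 D103207) (iv1 F154114) (iv5 F382440) F407911 (iv1 D198406)
theorem F407920 : act 0 n138933 = n198407 := d21_10 (iv5 D198407) D198405 (iv5 F407905) F385694 F352733 F316058 D108169 F222126 (iv5 D138932) D138933
theorem F407921 : act 7 n198407 = n142384 := d15_2 (iv0 F321332) (iv0 F407919) F323792
def n198408 : Q := act 7 n109288
theorem D198408 : act 7 n109288 = n198408 := rfl
theorem F407922 : act 2 n198408 = n143792 := d4_1 D198408 F346863 F174036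
theorem F407923 : act 3 n198408 = n194256 := d8_1 D198408 F392524 (iv3 F352017)
theorem F407924 : act 4 n198408 = n144436 := d11_1 D198408 (iv7 D144436) (iv4 F169307)
theorem F407925 : act 5 n198408 = n142384 := d13_1 D198408 (iv7 F407921) (iv5 D198407)
theorem F407926 : act 1 n194320 = n198408 := d15_1 (iv0 F392819) (iv7 D198408) (iv2 F174036)
theorem F407927 : act 1 n198408 = n192134 := d15_1 F407926 (iv7 F407910) F407912
def n198409 : Q := act 6 n109289
theorem D198409 : act 6 n109289 = n198409 := rfl
theorem F407928 : act 4 n198409 = n125944 := d10_1 D198409 F202440 F175095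
theorem F407929 : act 0 n198409 = n109370 := d20_7 D195109 F395808 (iv4 F343610) F175325 F161423 (iv3 F202439) (iv4 F407928) F169371 (iv3 F165594) F161229
def n198410 : Q := act 3 n109290
theorem D198410 : act 3 n109290 = n198410 := rfl
theorem F407930 : act 6 n198410 = n176844 := d7_2 (iv6 F175102) D198410 F354546
def n198411 : Q := act 0 n109291
theorem D198411 : act 0 n109291 = n198411 := rfl
theorem F407931 : act 5 n198411 = n112136 := d17_3 (iv1 D109290) D109291 D198411 F174345 (iv5 F165842) F171689 (iv5 F81988) D112551 (iv4 F175062)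
theorem F407932 : act 7 n155954 = n198411 := d13_0 F407931 F174347 D155954
theorem F407933 : act 6 n138942 = n198411 := d21_5 F335366 (iv1 D103612) F322866 D119252 (iv1 F366534) F407931 (iv1 F174346) D112144 F346900 D118963
def n198412 : Q := act 4 n109291
theorem D198412 : act 4 n109291 = n198412 := rfl
theorem F407934 : act 2 n198412 = n116808 := d1_1 D198412 (iv4 F346864) F174041
theorem F407935 : act 6 n198412 = n116475 := d10_2 F407917 D198412 (iv4 F407918)
theorem F407936 : act 0 n198412 = n116078 := d17_0 (iv5 D116078) (iv1 F316904) F318324 (iv4 F346899) (iv5 D112144) F174346 (iv5 F407931) (iv0 D198411) D198412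
theorem F407937 : act 1 n198412 = n112132 := d18_6 (iv1 F174082) (iv4 D66174) (iv1 F161279) (iv4 F79810) D109291 D198412 (iv4 D112132) D112131 F174336
theorem F407938 : act 7 n198412 = n141079 := d15_2 (iv0 F348136) (iv0 F407936) F359944
theorem F407939 : act 3 n142767 = n198412 := d7_3 F407935 F322202 D142767
def n198413 : Q := act 7 n109291
theorem D198413 : act 7 n109291 = n198413 := rfl
theorem F407940 : act 4 n198413 = n141079 := d11_1 D198413 (iv7 F407938) (iv4 D198412)
theorem F407941 : act 5 n198413 = n109292 := d13_1 D198413 (iv7 D109292) D109291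
theorem F407942 : act 1 n155954 = n198413 := d15_1 (iv0 F244976) (iv7 D198413) (iv2 F174041)
def n198414 : Q := act 6 n109293
theorem D198414 : act 6 n109293 = n198414 := rfl
theorem F407943 : act 2 n198414 = n112527 := d3_1 D198414 F174984 F173812
theorem F407944 : act 4 n198414 = n109295 := d10_1 D198414 (iv6 D109295) D109293
theorem F407945 : act 7 n198414 = n198368 := d14_2 F174050 D198414 F407782 F173568 (iv6 F174049)
theorem F407946 : act 1 n109359 = n198414 := d15_1 (iv0 F220391) F407945 F407781
theorem F407947 : act 1 n198414 = n158110 := d15_1 F407946 (iv7 F407809) F407807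
def n198415 : Q := act 4 n109294
theorem D198415 : act 4 n109294 = n198415 := rfl
theorem F407948 : act 2 n198415 = n156133 := d1_1 D198415 F245352 (iv2 F169310)
theorem F407949 : act 6 n198415 = n155997 := d10_2 (iv6 F169311) D198415 (iv4 D155997)
theorem F407950 : act 1 n198415 = n156292 := d15_0 F351408 (iv7 F245353) (iv2 F407948)
def n198416 : Q := act 4 n109296
theorem D198416 : act 4 n109296 = n198416 := rfl
theorem F407951 : act 2 n198416 = n189806 := d1_1 D198416 F377805 F175602
theorem F407952 : act 6 n198416 = n189805 := d10_2 F362621 D198416 F377803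
theorem F407953 : act 5 n198416 = n128906 := d17_5 (iv1 D64077) D64079 D136300 (iv5 F362623) D198416 (iv0 F398681) F398680 (iv0 F341781) F341783
theorem F407954 : act 0 n198416 = n196244 := d17_0 (iv5 D196244) (iv1 F172217) F342893 F173963 F342888 (iv0 F390206) F390205 F174030 D198416
theorem F407955 : act 1 n198416 = n113256 := d18_8 F165242 (iv4 D59641) F46336 (iv4 F95063) (iv5 F329195) F175378 F174030 D198416 (iv5 F360823)
def n198417 : Q := act 6 n109298
theorem D198417 : act 6 n109298 = n198417 := rfl
theorem F407956 : act 2 n198417 = n109300 := d3_1 D198417 (iv6 D109300) D109298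
theorem F407957 : act 3 n198417 = n150669 := d7_1 D198417 (iv6 F344640) F174009
theorem F407958 : act 4 n198417 = n172489 := d10_1 D198417 F345728 F204592
theorem F407959 : act 0 n198417 = n186302 := d21_4 (iv5 F342889) (iv1 F401470) F401467 D198417 F356051 (iv5 F364562) (iv1 D155973) (iv5 D74184) F53385 D64076
theorem F407960 : act 0 n186300 = n198417 := d21_4 (iv5 F294880) F306982 F350477 (iv6 F289064) (iv6 D198417) (iv5 F401467) F401469 (iv5 D136297) (iv6 F326186) D84307
theorem F407961 : act 7 n186299 = n198417 := d11_0 F407958 F345725 F345721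
def n198418 : Q := act 0 n109299
theorem D198418 : act 0 n109299 = n198418 := rfl
theorem F407962 : act 5 n198418 = n111953 := d17_1 D198418 (iv1 F173961) D136299 F347202 (iv5 D127086) F96436 (iv5 F165224) (iv0 F227040) (iv4 F349524)
theorem F407963 : act 4 n198418 = n111035 := d18_3 (iv1 F227041) (iv4 F349524) D198418 F172204 F80777 F45811 D59634 F103601 D106416
theorem F407964 : act 3 n198418 = n157228 := d20_5 F79969 (iv1 F162038) F162035 (iv3 F169318) D198418 F247442 F362625 F347168 F169332 (iv1 F79970)
theorem F407965 : act 2 n136297 = n198418 := d15_3 (iv0 D198418) (iv0 F349523) F342891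
theorem F407966 : act 1 n193543 = n198418 := d15_0 (iv0 D198418) (iv7 F174034) (iv2 F390204)
theorem F407967 : act 7 n198418 = n111034 := d15_2 (iv0 F390206) F407966 F172201
theorem F407968 : act 6 n157227 = n198418 := d14_5 F407967 F172202 D145417 (iv6 F404367) F404368
def n198419 : Q := act 6 n109299
theorem D198419 : act 6 n109299 = n198419 := rfl
theorem F407969 : act 3 n198419 = n109301 := d7_1 D198419 (iv6 D109301) (iv3 F169318)
theorem F407970 : act 4 n198419 = n140531 := d10_1 D198419 (iv6 F401437) (iv4 F349524)
theorem F407971 : act 7 n198419 = n193540 := d14_2 F174034 D198419 (iv6 D193540) (iv7 F357180) (iv6 F346859)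
def n198420 : Q := act 5 n109300
theorem D198420 : act 5 n109300 = n198420 := rfl
theorem F407972 : act 3 n198420 = n109303 := d6_1 D198420 (iv5 D109303) (iv3 F169319)
def n198421 : Q := act 7 n109300
theorem D198421 : act 7 n109300 = n198421 := rfl
theorem F407973 : act 2 n198421 = n186299 := d4_1 D198421 F407961 F407956
theorem F407974 : act 3 n198421 = n109304 := d8_1 D198421 (iv7 D109304) (iv3 F169319)
theorem F407975 : act 1 n186300 = n198421 := d15_1 (iv0 F407960) (iv7 D198421) (iv2 F407956)
theorem F407976 : act 1 n198421 = n186302 := d15_1 F407975 (iv7 D186302) D186300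
def n198422 : Q := act 5 n109301
theorem D198422 : act 5 n109301 = n198422 := rfl
theorem F407977 : act 6 n198422 = n109303 := d12_2 D109301 D198422 (iv5 D109303) (iv6 D50440) D50439
def n198423 : Q := act 7 n109301
theorem D198423 : act 7 n109301 = n198423 := rfl
theorem F407978 : act 3 n198423 = n193540 := d8_1 D198423 (iv7 F407971) F407969
theorem F407979 : act 6 n198423 = n143792 := d14_1 D198423 F346863 (iv6 D111983) F81540 D109301
def n198424 : Q := act 5 n109302
theorem D198424 : act 5 n109302 = n198424 := rfl
theorem F407980 : act 7 n198424 = n113649 := d13_2 (iv7 F169321) D198424 (iv5 D113649)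
def n198425 : Q := act 0 n109303
theorem D198425 : act 0 n109303 = n198425 := rfl
def n198426 : Q := act 1 n109303
theorem D198426 : act 1 n109303 = n198426 := rfl
theorem F407981 : act 1 n198426 = n109580 := d15_1 D198426 (iv7 F174026) F174025
theorem F407982 : act 5 n198426 = n198362 := d17_7 F169216 F169215 (iv1 D63900) F48452 (iv4 F79811) D109303 D198426 (iv0 F407764) F169935
theorem F407983 : act 3 n144160 = n198426 := d6_3 F407982 F407761 (iv5 F394882)
def n198427 : Q := act 4 n109303
theorem D198427 : act 4 n109303 = n198427 := rfl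
theorem F407984 : act 2 n198427 = n141975 := d1_1 D198427 F344639 F174025
def n198428 : Q := act 7 n109303
theorem D198428 : act 7 n109303 = n198428 := rfl
theorem F407985 : act 2 n198428 = n109580 := d4_1 D198428 (iv7 F174026) F174025
theorem F407986 : act 5 n198428 = n109304 := d13_1 D198428 (iv7 D109304) D109303
theorem F407987 : act 1 n109580 = n198425 := d15_0 (iv0 D198425) D198428 F407985
def n198429 : Q := act 4 n109306
theorem D198429 : act 4 n109306 = n198429 := rfl
theorem F407988 : act 2 n198429 = n197855 := d1_1 D198429 F406038 (iv2 F344712)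
theorem F407989 : act 6 n198429 = n189879 := d10_2 F344650 D198429 (iv4 D189879)
def n198430 : Q := act 3 n109307
theorem D198430 : act 3 n109307 = n198430 := rfl
theorem F407990 : act 7 n198430 = n189927 := d8_2 F344713 D198430 F378276
def n198431 : Q := act 4 n109307
theorem D198431 : act 4 n109307 = n198431 := rfl
theorem F407991 : act 7 n198431 = n197855 := d11_2 F344713 D198431 F406038
theorem F407992 : act 3 n198431 = n197706 := d20_3 (iv4 F174062) (iv1 F174066) D198431 (iv1 F405454) (iv3 F173760) F173761 (iv1 F81434) D109378 (iv3 F223537) (iv1 F223538)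
theorem F407993 : act 5 n197807 = n198431 := d6_0 F407992 F405453 D197807
def n198432 : Q := act 6 n109307
theorem D198432 : act 6 n109307 = n198432 := rfl
theorem F407994 : act 2 n198432 = n163275 := d3_1 D198432 F344709 F344711
def n198433 : Q := act 6 n109308
theorem D198433 : act 6 n109308 = n198433 := rfl
theorem F407995 : act 2 n198433 = n109310 := d3_1 D198433 (iv6 D109310) D109308
def n198434 : Q := act 6 n109309
theorem D198434 : act 6 n109309 = n198434 := rfl
theorem F407996 : act 3 n198434 = n109311 := d7_1 D198434 (iv6 D109311) (iv3 F169332)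
theorem F407997 : act 4 n198434 = n155898 := d10_1 D198434 F244889 F347168
def n198435 : Q := act 0 n109310
theorem D198435 : act 0 n109310 = n198435 := rfl
def n198436 : Q := act 1 n109310
theorem D198436 : act 1 n109310 = n198436 := rfl
def n198437 : Q := act 5 n109310
theorem D198437 : act 5 n109310 = n198437 := rfl
theorem F407998 : act 3 n198437 = n109313 := d6_1 D198437 (iv5 D109313) (iv3 F169333)
def n198438 : Q := act 7 n109310
theorem D198438 : act 7 n109310 = n198438 := rfl
theorem F407999 : act 3 n198438 = n109314 := d8_1 D198438 (iv7 D109314) (iv3 F169333)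
theorem F408000 : act 4 n198438 = n163073 := d11_1 D198438 F360139 F223550
theorem F408001 : act 6 n198438 = n109572 := d14_1 D198438 F174069 (iv6 D111993) F81551 D109310
def n198439 : Q := act 0 n109311
theorem D198439 : act 0 n109311 = n198439 := rfl
theorem F408002 : act 6 n198439 = n192276 := d21_5 (iv5 D24590) D24587 D50444 D109311 D198439 F386268 F361278 F173702 (iv6 D109345) (iv1 D50455)
theorem F408003 : act 2 n191521 = n198439 := d15_3 (iv0 D198439) (iv0 F390128) F390127
theorem F408004 : act 3 n198439 = n194614 := d0_2 D191521 F408003 F393826 (iv3 D193510) (iv2 F156807)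
theorem F408005 : act 7 n198439 = n194609 := d4_2 F390127 F408003 F393808
theorem F408006 : act 4 n198151 = n198439 := d5_0 F408004 F393827 F168944 D108960 D198151
theorem E103740 : n198151 = n144433 := ((c20_2 F169307 D144433 F408006 F408004 (iv1 F393831) F389973 F389840 (iv1 D193442) (iv4 F385715) (iv3 F407913) (iv1 D198406))).symm
theorem F408007 : act 3 n144433 = n108960 := (sb E103740 (iv3 D198151))
theorem F408008 : act 4 n144433 = n198439 := (sb E103740 F408006)
def n198440 : Q := act 5 n109311
theorem D198440 : act 5 n109311 = n198440 := rfl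
theorem F408009 : act 2 n198440 = n142370 := d2_1 D198440 (iv5 F366289) F169719
theorem F408010 : act 6 n198440 = n109313 := d12_2 D109311 D198440 (iv5 D109313) (iv6 D50445) D50444
theorem F408011 : act 4 n198440 = n141367 := d19_2 F390128 D198440 (iv3 D141367) (iv1 D66314) D66315 (iv4 F344031) D119480 (iv1 F336288) (iv5 F224068) F336289 (iv3 F348380) (iv1 F384726) (iv5 D154089) (iv4 F198894) F311718 F275096 (iv5 F151904) (iv4 F156803) D193509
theorem F408012 : act 7 n142369 = n198440 := d11_0 F408011 (iv7 F404604) F404605
theorem F408013 : act 0 n138899 = n198440 := d18_2 F325040 (iv4 F222061) F408011 F357075 (iv4 D100112) D100110 F307749 F318426 (iv5 D67353)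
theorem F408014 : act 0 n198440 = n116471 := d20_1 (iv4 F408011) F181755 (iv3 F320423) (iv1 F92357) D85520 (iv4 F346604) (iv1 F361964) F246307 (iv3 F246300) (iv1 F361945)
def n198441 : Q := act 7 n109311
theorem D198441 : act 7 n109311 = n198441 := rfl
theorem F408015 : act 5 n198441 = n142369 := d13_1 D198441 F408012 (iv5 D198440)
theorem F408016 : act 1 n194609 = n198441 := d15_1 (iv0 F393811) (iv7 D198441) (iv2 F169719)
theorem F408017 : act 1 n198441 = n191521 := d15_1 F408016 (iv7 F390127) (iv2 F393808)
def n198442 : Q := act 0 n109313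
theorem D198442 : act 0 n109313 = n198442 := rfl
theorem F408018 : act 5 n198442 = n112096 := d17_3 F161386 D109313 D198442 F174264 (iv5 F83957) (iv0 D53167) F40749 F161279 D66174
theorem F408019 : act 2 n112133 = n198442 := d15_3 (iv0 D198442) (iv0 F169334) D112133
theorem F408020 : act 4 n198442 = n116078 := d1_2 F339855 F408019 F318334
theorem F408021 : act 6 n198442 = n138970 := d3_2 (iv6 F363692) F408019 (iv2 F366527)
theorem F408022 : act 7 n198442 = n112095 := d4_2 D112133 F408019 F174261
theorem F408023 : act 1 n112131 = n198442 := d15_1 D112131 F408022 F174261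
def n198443 : Q := act 4 n109313
theorem D198443 : act 4 n109313 = n198443 := rfl
theorem F408024 : act 6 n198443 = n141367 := d10_2 F408010 D198443 (iv4 F408011)
theorem F408025 : act 1 n198443 = n142134 := d18_6 (iv1 F174037) (iv4 F174038) (iv1 F175068) F101587 D109313 D198443 (iv4 F346906) F407942 F407941
theorem F408026 : act 3 n198443 = n140997 := d20_3 (iv4 D112132) F169334 D198443 (iv1 F228714) (iv3 F320624) (iv4 D68302) F50076 D59001 D125992 F348137
def n198444 : Q := act 7 n109313
theorem D198444 : act 7 n109313 = n198444 := rfl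
theorem F408027 : act 2 n198444 = n112131 := d4_1 D198444 F174335 F174079
theorem F408028 : act 5 n198444 = n109314 := d13_1 D198444 (iv7 D109314) D109313
theorem F408029 : act 1 n112095 = n198444 := d15_1 (iv0 F174262) (iv7 D198444) (iv2 F174079)
theorem F408030 : act 1 n198444 = n112133 := d15_1 F408029 (iv7 D112133) (iv2 F174261)
def n198445 : Q := act 3 n109315
theorem D198445 : act 3 n109315 = n198445 := rfl
theorem F408031 : act 7 n198445 = n194802 := d8_2 (iv7 F373743) D198445 F394527
theorem F408032 : act 4 n198445 = n112692 := d20_6 F81529 F45231 F38825 D50446 D109315 D198445 (iv1 D112692) F82173 (iv3 D51645) (iv1 F81527)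
def n198446 : Q := act 5 n109315
theorem D198446 : act 5 n109315 = n198446 := rfl
theorem F408033 : act 2 n198446 = n195541 := d2_1 D198446 (iv5 F397290) F373739
theorem F408034 : act 4 n198446 = n116582 := d16_2 F232047 D198446 F181936 (iv4 F180703) (iv5 F224514) (iv4 F224518) (iv5 F232050) (iv7 F373735) F373733
theorem F408035 : act 1 n198446 = n109344 := d17_6 (iv1 F345367) (iv5 F322657) D116593 (iv5 F232046) F232047 D198446 F169358 (iv0 F351023) F132264
def n198447 : Q := act 3 n109316
theorem D198447 : act 3 n109316 = n198447 := rfl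
theorem F408036 : act 2 n198447 = n189838 := d0_1 D198447 (iv3 F380269) (iv2 F394526) F394527 (iv2 F373742)
theorem F408037 : act 7 n198447 = n195542 := d8_2 F373741 D198447 F397292
theorem F408038 : act 0 n109324 = n198447 := d20_4 F115941 D77189 (iv4 F325200) D109324 (iv3 D198447) F232052 (iv1 D148210) (iv4 F174156) (iv3 D112039) (iv1 F324862)
theorem F408039 : act 5 n198447 = n111011 := d17_1 F408038 (iv1 F206798) (iv5 F344588) (iv4 D125763) (iv5 F358192) (iv0 D125680) (iv5 D58853) D58851 (iv4 F169346)
theorem F408040 : act 1 n125672 = n198447 := d15_0 (iv0 F408038) (iv7 F174084) (iv2 F202158)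
theorem F408041 : act 6 n189825 = n198447 := d21_9 F349537 F209129 D130554 (iv6 F364791) (iv1 D98133) (iv6 F151325) F369726 (iv1 F369725) (iv5 F377890) (iv1 F408040)
def n198448 : Q := act 5 n109316
theorem D198448 : act 5 n109316 = n198448 := rfl
theorem F408042 : act 3 n198448 = n111011 := d6_1 D198448 (iv5 F408039) (iv3 D198447)
theorem F408043 : act 4 n198448 = n115477 := d9_1 D198448 F362576 (iv4 D65715) D65716 (iv4 F181951) (iv5 F232046) F232047 D198446 F408034 F181936 (iv4 F180703) (iv5 F224514) (iv4 F224518) (iv5 F232050) (iv4 F232052)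
theorem F408044 : act 7 n198448 = n195541 := d13_2 F373741 D198448 (iv5 F397290)
theorem F408045 : act 0 n198448 = n109344 := d17_2 (iv1 F174077) D198448 F169358 F79979 D108013 (iv0 F222852) F222851 F175082 F175074
theorem F408046 : act 6 n194395 = n198448 := d10_0 F408043 (iv6 F245406) (iv4 F393029)
def n198449 : Q := act 6 n109316
theorem D198449 : act 6 n109316 = n198449 := rfl
theorem F408047 : act 2 n198449 = n194801 := d3_1 D198449 (iv6 F394525) (iv2 F373742)
theorem F408048 : act 3 n198449 = n189825 := d7_1 D198449 F408041 (iv3 D198447)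
theorem F408049 : act 4 n198449 = n167771 := d10_1 D198449 F340172 (iv4 F232052)
theorem F408050 : act 7 n198449 = n189839 := d14_2 F373741 D198449 (iv6 F377938) (iv7 F373732) (iv6 F373740)
theorem F408051 : act 0 n194435 = n198449 := d21_4 (iv5 F205299) (iv1 F205298) (iv5 F173628) (iv6 F393198) (iv6 D198449) D198448 F408045 F169358 (iv6 F81631) D112105
theorem F408052 : act 1 n194927 = n198449 := d15_0 (iv0 F408051) (iv7 F394577) (iv2 F395034)
def n198450 : Q := act 5 n109317
theorem D198450 : act 5 n109317 = n198450 := rfl
theorem F408053 : act 2 n198450 = n109318 := d2_1 D198450 (iv5 D109318) D109317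
theorem F408054 : act 4 n198450 = n115649 := d9_1 D198450 F180012 (iv4 F103727) (iv5 F162354) (iv4 D69201) F81995 F81989 (iv5 F169717) F180019 F180017 (iv4 F180631) (iv5 F180634) (iv4 D69198) D69199 (iv4 F169338)
theorem F408055 : act 7 n198450 = n115656 := d13_2 F174074 D198450 F180024
theorem F408056 : act 1 n131913 = n198450 := d15_1 (iv0 F359067) F408055 F180023
theorem F408057 : act 3 n178669 = n115649 := d20_5 (iv4 D135729) F99205 (iv4 F179724) F360887 (iv1 F360888) (iv4 F408054) (iv1 F408056) (iv4 F330561) F330560 F218244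
theorem F408058 : act 5 n139635 = n178669 := d6_0 F408057 F180012 D139635
theorem F408059 : act 7 n115655 = n178669 := d8_0 F408057 (iv7 F180014) D115655
theorem F408060 : act 2 n115655 = n178668 := d15_3 (iv0 D178668) D178669 (iv7 F408059)
theorem F408061 : act 3 n178668 = n156287 := d0_2 D115655 F408060 (iv2 F404251) (iv3 F404231) (iv2 F180018)
def n198451 : Q := act 6 n109317
theorem D198451 : act 6 n109317 = n198451 := rfl
theorem F408062 : act 2 n198451 = n109319 := d3_1 D198451 (iv6 D109319) D109317
theorem F408063 : act 4 n198451 = n147654 := d10_1 D198451 (iv6 D147654) (iv4 F169338)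
theorem F408064 : act 0 n188492 = n198451 := d21_4 D180632 (iv1 F373676) (iv5 D188491) D188492 (iv6 D198451) D198450 (iv1 F408056) F359068 (iv6 D86308) (iv1 F132251)
theorem F408065 : act 7 n178336 = n198451 := d11_0 F408063 F353487 D178336
def n198452 : Q := act 0 n109318
theorem D198452 : act 0 n109318 = n198452 := rfl
theorem F408066 : act 5 n198452 = n112234 := d17_1 D198452 (iv1 F174566) (iv5 F180010) (iv4 D115643) (iv5 D53335) F84172 D115610 F179939 (iv4 F179941)
theorem F408067 : act 3 n198452 = n195090 := d20_5 F99671 (iv1 F162181) F162184 (iv3 F169339) D198452 (iv4 F398671) (iv1 F398674) (iv4 F359480) F174033 (iv1 F99674)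
theorem F408068 : act 1 n115656 = n198452 := d15_0 (iv0 D198452) (iv7 F169718) (iv2 F180023)
theorem F408069 : act 2 n131913 = n198452 := d0_5 F408067 F395724 F209137 (iv2 F96492) D131913
theorem F408070 : act 6 n131918 = n198452 := d7_0 F408067 F395725 (iv3 F211373)
def n198453 : Q := act 1 n109318
theorem D198453 : act 1 n109318 = n198453 := rfl
theorem F408071 : act 1 n198453 = n115656 := d15_1 D198453 (iv7 F408055) F408053
theorem F408072 : act 7 n198453 = n131913 := d15_2 (iv0 D198452) D198453 F408069
theorem F408073 : act 5 n198453 = n112235 := d17_7 (iv1 F166914) (iv5 D69203) (iv1 F84781) F84783 F80448 D109318 D198453 F174571 F169701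
theorem F408074 : act 4 n198453 = n141410 := d17_9 F224453 (iv5 D139673) (iv1 F180706) (iv5 F181936) (iv4 F408034) (iv5 D198446) (iv0 D109315) D109318 D198453
theorem F408075 : act 3 n131915 = n198453 := d19_19 (iv1 D198453) (iv5 D109318) (iv4 F80448) (iv3 D50997) D50996 (iv5 F166918) F166919 (iv3 F176825) F340727 (iv5 F347820) (iv4 F397879) F397880 (iv1 D126242) (iv5 F342893) F172215 F80797 (iv1 F77804) (iv5 F96495) (iv4 F211366)
theorem F408076 : act 6 n198453 = n137096 := d7_2 (iv6 F211367) F408075 (iv3 D137096)
theorem F408077 : act 0 n144082 = n137096 := d21_4 F365024 (iv1 F365027) F365103 D144082 (iv6 F408076) F408073 (iv1 D112235) (iv5 F174121) F336227 (iv1 F182824)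
def n198454 : Q := act 6 n109318
theorem D198454 : act 6 n109318 = n198454 := rfl
theorem F408078 : act 3 n198454 = n109320 := d7_1 D198454 (iv6 D109320) (iv3 F169339)
theorem F408079 : act 4 n198454 = n115654 := d10_1 D198454 (iv6 D115654) (iv4 F179941)
def n198455 : Q := act 5 n109319
theorem D198455 : act 5 n109319 = n198455 := rfl
theorem F408080 : act 3 n198455 = n109321 := d6_1 D198455 (iv5 D109321) (iv3 F169340)
def n198456 : Q := act 0 n109320
theorem D198456 : act 0 n109320 = n198456 := rfl
def n198457 : Q := act 1 n109320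
theorem D198457 : act 1 n109320 = n198457 := rfl
def n198458 : Q := act 5 n109320
theorem D198458 : act 5 n109320 = n198458 := rfl
theorem F408081 : act 6 n198458 = n109321 := d12_2 D109320 D198458 (iv5 D109321) (iv6 D50448) D50447
def n198459 : Q := act 7 n109320
theorem D198459 : act 7 n109320 = n198459 := rfl
def n198460 : Q := act 0 n109321
theorem D198460 : act 0 n109321 = n198460 := rfl
theorem F408082 : act 5 n198460 = n156669 := d17_3 F326035 D109321 D198460 (iv4 D156669) (iv5 D74500) (iv0 F161296) F48452 D50441 (iv4 F326037)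
theorem F408083 : act 2 n190108 = n198460 := d15_3 (iv0 D198460) (iv0 F379226) F379224
theorem F408084 : act 1 n109573 = n198460 := d15_0 (iv0 D198460) F365863 F365862
theorem F408085 : act 3 n198460 = n174608 := d0_2 D190108 F408083 (iv2 F301428) (iv3 F348938) (iv2 F328705)
theorem F408086 : act 6 n198460 = n190951 := d3_2 (iv6 F378870) F408083 (iv2 D190951)
def n198461 : Q := act 4 n109321
theorem D198461 : act 4 n109321 = n198461 := rfl
def n198462 : Q := act 1 n109324
theorem D198462 : act 1 n109324 = n198462 := rfl
theorem F408087 : act 7 n198462 = n189838 := d15_2 (iv0 F408038) D198462 (iv2 F408036)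
theorem F408088 : act 5 n198462 = n111014 := d17_7 F164374 (iv5 F164601) (iv1 F326882) F326884 D130537 (iv5 F349526) D198462 F206797 F206795
theorem F408089 : act 2 n195542 = n198462 := d2_3 F408088 F172154 D195542
theorem F408090 : act 0 n125672 = n198462 := d17_2 (iv1 F211368) (iv5 F349537) F408088 (iv4 D111014) (iv5 F95280) (iv0 F96540) (iv5 F168048) F168046 (iv4 F211366)
theorem F408091 : act 6 n198462 = n163236 := d21_3 F344588 (iv1 F206797) (iv5 F408088) (iv1 D163236) F296125 D176719 (iv1 F332876) F332878 (iv6 F332881) F360766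
def n198463 : Q := act 2 n109324
theorem D198463 : act 2 n109324 = n198463 := rfl
theorem F408092 : act 3 n198463 = n189880 := d0_2 D109324 D198463 (iv2 F378071) (iv3 D112004) F171053
theorem F408093 : act 4 n198463 = n125522 := d1_2 (iv4 F169346) D198463 (iv2 F201881)
theorem F408094 : act 5 n198463 = n131911 := d2_2 (iv5 F349526) D198463 (iv2 F211358)
theorem F408095 : act 6 n198463 = n198086 := d3_2 (iv6 F356156) D198463 F406732
theorem F408096 : act 7 n198463 = n125672 := d4_2 F174084 D198463 F202158
theorem F408097 : act 1 n198463 = n195542 := d15_0 F397293 F174084 D198463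
theorem F408098 : act 1 n189838 = n198463 := d15_0 F408097 (iv7 F408037) F408036
def n198464 : Q := act 5 n109329
theorem D198464 : act 5 n109329 = n198464 := rfl
theorem F408099 : act 3 n198464 = n109330 := d6_1 D198464 (iv5 D109330) D109329
theorem F408100 : act 4 n198464 = n115689 := d16_2 (iv4 F323177) D198464 (iv5 F344703) (iv4 F344702) (iv5 F158560) (iv4 F361851) (iv5 F350213) (iv7 F351997) F351994
theorem F408101 : act 0 n198464 = n133363 := d18_0 F366161 F355174 (iv4 F407892) (iv5 D198401) (iv4 F175530) F175532 (iv4 F380633) F380636 D198464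
def n198465 : Q := act 0 n109337
theorem D198465 : act 0 n109337 = n198465 := rfl
theorem F408102 : act 4 n198465 = n192103 := d18_1 D198465 (iv1 F385560) D193479 (iv5 F390738) F390740 (iv0 F369735) (iv4 F365781) (iv0 F365779) (iv5 F365777)
theorem F408103 : act 2 n193477 = n198465 := d15_3 (iv0 D198465) F365780 D193477
theorem F408104 : act 5 n198465 = n187295 := d2_2 (iv5 F389991) F408103 F381974
theorem F408105 : act 6 n198465 = n193491 := d3_2 (iv6 F391458) F408103 F391459
theorem F408106 : act 7 n198465 = n190927 := d4_2 D193477 F408103 F381567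
theorem F408107 : act 1 n193476 = n198465 := d15_1 D193476 F408106 F381567
def n198466 : Q := act 7 n109337
theorem D198466 : act 7 n109337 = n198466 := rfl
theorem F408108 : act 2 n198466 = n193476 := d4_1 D198466 (iv7 F391526) F391523
theorem F408109 : act 3 n198466 = n109349 := d8_1 D198466 (iv7 D109349) (iv3 F169353)
theorem F408110 : act 6 n198466 = n184401 := d14_1 D198466 F340544 F340547 F81565 D109337
theorem F408111 : act 1 n190927 = n198466 := d15_1 (iv0 F391527) (iv7 D198466) (iv2 F391523)
theorem F408112 : act 1 n198466 = n193477 := d15_1 F408111 (iv7 D193477) (iv2 F381567)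
def n198467 : Q := act 5 n109343
theorem D198467 : act 5 n109343 = n198467 := rfl
theorem F408113 : act 2 n198467 = n128576 := d2_1 D198467 (iv5 F336220) F174124
theorem F408114 : act 3 n198467 = n144504 := d6_1 D198467 F227347 F336226
theorem F408115 : act 6 n198467 = n109706 := d12_2 D109343 D198467 (iv5 D109706) (iv6 D50600) (iv5 F79828)
theorem F408116 : act 4 n198467 = n128573 := d16_6 F85002 (iv5 F179635) F336195 (iv5 F215920) F215919 D198467 (iv5 D128573) (iv7 F182823) (iv2 D116963)
def n198468 : Q := act 6 n109344
theorem D198468 : act 6 n109344 = n198468 := rfl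
theorem F408117 : act 2 n198468 = n149223 := d3_1 D198468 F366574 F180009
theorem F408118 : act 3 n198468 = n109345 := d7_1 D198468 (iv6 D109345) D109344
theorem F408119 : act 5 n198468 = n149065 := d12_1 D198468 F361276 F173668 F81631 (iv5 F169358)
theorem F408120 : act 7 n149214 = n198468 := d13_0 F408119 F234430 D149214
theorem F408121 : act 0 n137504 = n198468 := d17_2 (iv1 F234549) (iv5 F353147) F408119 (iv4 D149065) (iv5 F106349) F155461 (iv5 F155468) F106415 D70027
theorem F408122 : act 6 n116962 = n149214 := d14_5 F408120 (iv6 D198468) (iv7 F174122) F336227 (iv7 F182819)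
theorem F408123 : act 2 n149214 = n128572 := d3_1 F408122 (iv6 D128572) F182817
theorem F408124 : act 5 n128572 = n149063 := d2_2 D149214 F408123 F234422
theorem F408125 : act 7 n128572 = n149223 := d4_2 (iv7 F408120) F408123 (iv2 F408117)
theorem F408126 : act 1 n137504 = n128572 := d15_1 (iv0 F408121) F408125 (iv2 F408117)
def n198469 : Q := act 2 n109346
theorem D198469 : act 2 n109346 = n198469 := rfl
theorem F408127 : act 7 n109347 = n198469 := d15_2 (iv0 D109346) D109347 (iv2 D198469)
def n198470 : Q := act 3 n109346
theorem D198470 : act 3 n109346 = n198470 := rfl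
def n198471 : Q := act 4 n109346
theorem D198471 : act 4 n109346 = n198471 := rfl
def n198472 : Q := act 5 n109346
theorem D198472 : act 5 n109346 = n198472 := rfl
def n198473 : Q := act 6 n109346
theorem D198473 : act 6 n109346 = n198473 := rfl
def n198474 : Q := act 7 n109346
theorem D198474 : act 7 n109346 = n198474 := rfl
theorem F408128 : act 2 n198474 = n109347 := d4_1 D198474 F408127 (iv2 D198469)
def n198475 : Q := act 3 n109347
theorem D198475 : act 3 n109347 = n198475 := rfl
def n198476 : Q := act 4 n109347
theorem D198476 : act 4 n109347 = n198476 := rfl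
def n198477 : Q := act 5 n109347
theorem D198477 : act 5 n109347 = n198477 := rfl
def n198478 : Q := act 6 n109347
theorem D198478 : act 6 n109347 = n198478 := rfl
def n198479 : Q := act 0 n109348
theorem D198479 : act 0 n109348 = n198479 := rfl
def n198480 : Q := act 1 n109348
theorem D198480 : act 1 n109348 = n198480 := rfl
theorem F408129 : act 1 n198480 = n190176 := d15_1 D198480 (iv7 F407800) F407797
def n198481 : Q := act 4 n109348
theorem D198481 : act 4 n109348 = n198481 := rfl
theorem F408130 : act 3 n198481 = n191035 := d5_1 D198481 (iv4 D191035) F353203 (iv4 F254104) F365778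
theorem F408131 : act 6 n198481 = n109362 := d10_2 (iv6 F169359) D198481 (iv4 D109362)
def n198482 : Q := act 7 n109348
theorem D198482 : act 7 n109348 = n198482 := rfl
theorem F408132 : act 2 n198482 = n190176 := d4_1 D198482 (iv7 F407800) F407797
theorem F408133 : act 5 n198482 = n109349 := d13_1 D198482 (iv7 D109349) D109348
theorem F408134 : act 6 n198482 = n190172 := d14_1 D198482 (iv7 F381375) F381374 (iv7 D109363) (iv6 F169359)
theorem F408135 : act 1 n190176 = n198479 := d15_0 (iv0 D198479) D198482 F408132
def n198483 : Q := act 1 n109351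
theorem D198483 : act 1 n109351 = n198483 := rfl
def n198484 : Q := act 2 n109351
theorem D198484 : act 2 n109351 = n198484 := rfl
theorem F408136 : act 4 n198484 = n163954 := d1_2 F405490 D198484 (iv2 F405489)
theorem F408137 : act 1 n198484 = n163275 := d15_0 (iv0 F406253) F406252 D198484
def n198485 : Q := act 5 n109351
theorem D198485 : act 5 n109351 = n198485 := rfl
theorem F408138 : act 3 n198485 = n109353 := d6_1 D198485 (iv5 D109353) D109351
def n198486 : Q := act 4 n109353
theorem D198486 : act 4 n109353 = n198486 := rfl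
def n198487 : Q := act 6 n109353
theorem D198487 : act 6 n109353 = n198487 := rfl
def n198488 : Q := act 0 n109356
theorem D198488 : act 0 n109356 = n198488 := rfl
def n198489 : Q := act 1 n109356
theorem D198489 : act 1 n109356 = n198489 := rfl
def n198490 : Q := act 2 n109356
theorem D198490 : act 2 n109356 = n198490 := rfl
theorem F408139 : act 1 n198490 = n188500 := d15_0 F407805 F407803 D198490
theorem F408140 : act 1 n188501 = n198490 := d15_0 F408139 F373730 (iv2 F373731)
def n198491 : Q := act 4 n109356
theorem D198491 : act 4 n109356 = n198491 := rfl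
theorem F408141 : act 3 n198491 = n112548 := d5_1 D198491 (iv4 D112548) F169364 (iv4 D109357) D109356
theorem F408142 : act 7 n198491 = n112608 := d11_2 F407803 D198491 (iv4 F407801)
theorem F408143 : act 0 n198491 = n138162 := d20_7 (iv4 F370048) (iv1 F250127) (iv4 F326721) (iv3 F326235) (iv1 F169234) D109356 D198491 F373648 (iv3 F392639) (iv1 F392643)
theorem E103741 : n198489 = n134624 := ((c20_7 F171170 D111267 (iv4 F172575) D112597 F362645 F216576 D134624 (iv1 D198489) D198491 F408141 F175054)).symm
theorem F408144 : act 0 n134624 = n109356 := (sb E103741 (iv1 D198489))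
theorem F408145 : act 0 n138182 = n198491 := d20_1 F373639 (iv4 D198491) (iv3 D109356) (iv1 D50458) (iv3 F79826) F79827 (iv1 F326965) (iv4 F67478) (iv3 F141774) D188482
theorem E103742 : n198488 = n165869 := (c20_8 (iv4 F358973) F358970 (iv4 D133022) (iv3 F213645) (iv1 F351654) (iv3 F408141) (iv4 D198491) D198488 (iv4 D165869) D165868 F373728)
theorem F408146 : act 1 n165869 = n109356 := (sb E103742 (iv0 D198488))
theorem F408147 : act 6 n198491 = n152250 := d21_5 F344927 (iv1 F348586) (iv5 F393478) F393476 F408145 (iv5 D152250) (iv1 D71818) D71819 (iv6 F335308) F362436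
def n198492 : Q := act 5 n109356
theorem D198492 : act 5 n109356 = n198492 := rfl
theorem F408148 : act 3 n198492 = n109358 := d6_1 D198492 (iv5 D109358) D109356
def n198493 : Q := act 6 n109356
theorem D198493 : act 6 n109356 = n198493 := rfl
theorem F408149 : act 3 n198493 = n109359 := d7_1 D198493 (iv6 D109359) D109356
theorem F408150 : act 4 n198493 = n152250 := d10_1 D198493 (iv6 F408147) (iv4 D198491)
def n198494 : Q := act 6 n109357
theorem D198494 : act 6 n109357 = n198494 := rfl
theorem F408151 : act 2 n198494 = n195332 := d3_1 D198494 (iv6 D195332) (iv2 F170672)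
theorem F408152 : act 3 n198494 = n112549 := d7_1 D198494 (iv6 D112549) F169364
theorem F408153 : act 4 n198494 = n109359 := d10_1 D198494 (iv6 D109359) D109357
theorem F408154 : act 5 n198494 = n195112 := d12_1 D198494 (iv6 D195112) (iv5 F169870) (iv6 F96692) (iv5 F169363)
theorem F408155 : act 7 n198494 = n195112 := d14_2 F170658 D198494 (iv6 D195112) F170678 (iv6 F82059)
theorem F408156 : act 0 n198494 = n126315 := d21_10 (iv5 D126315) F172682 F81960 (iv6 D51918) (iv1 F45401) D59148 (iv5 F93597) (iv1 F169868) (iv5 F169363) D198494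
def n198495 : Q := act 4 n109358
theorem D198495 : act 4 n109358 = n198495 := rfl
def n198496 : Q := act 6 n109358
theorem D198496 : act 6 n109358 = n198496 := rfl
def n198497 : Q := act 5 n109359
theorem D198497 : act 5 n109359 = n198497 := rfl
theorem F408157 : act 0 n198497 = n112525 := d17_2 (iv1 F407946) D198497 (iv5 D112525) (iv4 D51912) D51913 (iv0 F161390) F81419 (iv0 F169316) (iv4 F407944)
theorem F408158 : act 0 n198367 = n198497 := d19_0 (iv5 D198497) (iv4 F408153) F408152 F175058 F170740 D112538 (iv3 F345386) F210586 (iv5 D69905) (iv4 D32462) (iv3 F51528) (iv1 F97915) (iv5 D62761) (iv4 F54249) (iv3 F77569) F77571 D93869 D189295 (iv3 F407777)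
def n198498 : Q := act 3 n109360
theorem D198498 : act 3 n109360 = n198498 := rfl
theorem F408159 : act 5 n198498 = n109903 := d6_2 (iv5 F173734) D198498 (iv3 D109903)
def n198499 : Q := act 4 n109360
theorem D198499 : act 4 n109360 = n198499 := rfl
def n198500 : Q := act 6 n109360
theorem D198500 : act 6 n109360 = n198500 := rfl
def n198501 : Q := act 3 n109361
theorem D198501 : act 3 n109361 = n198501 := rfl
theorem F408160 : act 5 n198501 = n109907 := d6_2 (iv5 F169865) D198501 (iv3 D109907)
def n198502 : Q := act 4 n109361
theorem D198502 : act 4 n109361 = n198502 := rfl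
def n198503 : Q := act 6 n109361
theorem D198503 : act 6 n109361 = n198503 := rfl
def n198504 : Q := act 0 n109362
theorem D198504 : act 0 n109362 = n198504 := rfl
theorem F408161 : act 4 n198504 = n109917 := d18_3 (iv1 D109361) D109362 D198504 (iv5 D109917) (iv4 D50690) (iv0 D24680) (iv4 F38674) D50685 (iv5 F169865)
def n198505 : Q := act 1 n109362
theorem D198505 : act 1 n109362 = n198505 := rfl
theorem F408162 : act 4 n198505 = n109921 := d18_7 (iv1 F169370) (iv4 D50466) (iv1 D24593) (iv4 F38602) D50459 D109362 D198505 (iv0 F379138) F379137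
def n198506 : Q := act 3 n109362
theorem D198506 : act 3 n109362 = n198506 := rfl
theorem F408163 : act 4 n198506 = n160856 := d5_2 D109362 D198506 F254018 F115968 F327203
theorem F408164 : act 6 n198506 = n191035 := d7_2 F408131 D198506 (iv3 F408130)
def n198507 : Q := act 5 n109362
theorem D198507 : act 5 n109362 = n198507 := rfl
theorem F408165 : act 4 n198507 = n186390 := d16_2 D109362 D198507 (iv5 F359554) F179355 F83910 (iv4 F169232) (iv5 F381389) (iv7 F381390) F169230
theorem F408166 : act 7 n198507 = n142484 := d16_8 (iv4 D135263) (iv5 D63574) F48231 F23779 (iv4 F38602) D50459 D109362 D198507 (iv2 F357486)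
theorem F408167 : act 6 n186388 = n198507 := d14_5 F408166 (iv6 D142484) F181603 D144173 F359562
def n198508 : Q := act 7 n109362
theorem D198508 : act 7 n109362 = n198508 := rfl
theorem F408168 : act 4 n198508 = n109363 := d11_1 D198508 (iv7 D109363) D109362
theorem F408169 : act 5 n198508 = n142484 := d13_1 D198508 (iv7 F408166) (iv5 D198507)
def n198509 : Q := act 1 n109367
theorem D198509 : act 1 n109367 = n198509 := rfl
theorem F408170 : act 1 n198509 = n109369 := d15_1 D198509 (iv7 F407822) F407821
theorem F408171 : act 7 n198509 = n155960 := d15_2 F202925 D198509 F244993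
theorem F408172 : act 5 n198509 = n155961 := d17_7 (iv1 F80031) (iv5 F47395) (iv1 F48332) (iv5 F48333) D50463 D109367 D198509 F244997 (iv4 D109870)
theorem F408173 : act 6 n190241 = n198509 := d21_9 (iv5 D109367) D109365 (iv5 F379137) (iv6 D190230) (iv1 F369639) (iv6 F369642) (iv5 D151279) D151277 F379160 (iv1 D198509)
theorem F408174 : act 4 n198509 = n190883 := d10_1 F408173 (iv6 D190883) (iv4 F379158)
def n198510 : Q := act 4 n109367
theorem D198510 : act 4 n109367 = n198510 := rfl
theorem F408175 : act 1 n198510 = n190237 := d18_6 (iv1 D50458) F38602 D24592 D50463 D109367 D198510 (iv4 F379153) (iv0 F169919) (iv5 D109358)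
def n198511 : Q := act 5 n109368
theorem D198511 : act 5 n109368 = n198511 := rfl
theorem F408176 : act 3 n198511 = n109369 := d6_1 D198511 (iv5 D109369) D109368
theorem F408177 : act 0 n166681 = n198511 := d19_0 (iv5 D198511) (iv4 F395553) (iv3 D195043) F165584 D105290 F332774 F165657 (iv1 F99062) F99057 (iv4 F327426) (iv3 D79980) (iv1 D36428) (iv5 F28609) (iv4 F57236) (iv3 D36443) D36441 D80005 F122804 (iv3 F262335)
theorem F408178 : act 1 n195032 = n157792 := d17_8 (iv1 D166679) D166681 F408177 (iv5 D198511) (iv4 F395553) F395554 (iv0 F398244) (iv5 F395494) F262325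
def n198512 : Q := act 6 n109368
theorem D198512 : act 6 n109368 = n198512 := rfl
theorem F408179 : act 3 n198512 = n109370 := d7_1 D198512 (iv6 D109370) D109368
theorem F408180 : act 7 n198512 = n186310 := d14_2 (iv7 F365838) D198512 (iv6 D186310) (iv7 F364548) F365836
def n198513 : Q := act 4 n109369
theorem D198513 : act 4 n109369 = n198513 := rfl
theorem F408181 : act 0 n198513 = n190237 := d18_2 F202924 D198513 (iv4 F379153) F169917 F80048 F80031 D109870 F169879 D126184
theorem F408182 : act 3 n198513 = n190256 := d19_3 (iv1 F169370) D109369 D198513 (iv1 D190256) F367203 F348102 (iv3 D186219) (iv1 D88709) (iv5 D41414) (iv4 F63786) (iv3 D41367) F31176 D19844 D42086 D90056 D187417 F373472 (iv4 F392616) F392615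
theorem F408183 : act 7 n194903 = n198513 := d8_0 F408182 F379214 D194903
theorem F408184 : act 4 n198380 = n194903 := d11_3 F408183 (iv4 D198513) (iv7 F407822)
theorem F408185 : act 2 n194903 = n198510 := d15_3 F408175 (iv0 F408181) (iv7 F408183)
theorem F408186 : act 6 n198510 = n198380 := d3_2 (iv6 F394951) F408185 F407821
def n198514 : Q := act 6 n109369
theorem D198514 : act 6 n109369 = n198514 := rfl
def n198515 : Q := act 5 n109370
theorem D198515 : act 5 n109370 = n198515 := rfl
theorem F408187 : act 1 n198515 = n198361 := d17_6 D50414 D109252 F169212 F81419 (iv4 F169371) D198515 (iv5 D198361) (iv0 D109248) F79771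
theorem F408188 : act 0 n198515 = n198363 := d21_1 D198515 (iv5 D198363) (iv6 F340589) F361886 F346833 (iv5 F352750) (iv1 F352794) F346903 D198409 F407929
def n198516 : Q := act 3 n109401
theorem D198516 : act 3 n109401 = n198516 := rfl
theorem F408189 : act 4 n198516 = n110173 := d5_2 F169603 D198516 (iv3 D110173) (iv4 D50805) (iv3 F80173)
theorem F408190 : act 5 n198516 = n125880 := d6_2 F170864 D198516 (iv3 D125880)
theorem F408191 : act 6 n198516 = n181231 := d7_2 (iv6 F324604) D198516 F282287
theorem F408192 : act 7 n198516 = n181703 := d8_2 F325570 D198516 F282844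
theorem F408193 : act 0 n125613 = n110173 := d20_1 D125613 (iv4 F408189) (iv3 D198516) (iv1 D109401) F79834 (iv4 D25216) (iv1 F22211) D13342 D27967 D58815
def n198517 : Q := act 4 n109402
theorem D198517 : act 4 n109402 = n198517 := rfl
def n198518 : Q := act 6 n109402
theorem D198518 : act 6 n109402 = n198518 := rfl
theorem F408194 : act 3 n198518 = n112617 := d7_1 D198518 (iv6 D112617) (iv3 F169387)
def n198519 : Q := act 3 n109409
theorem D198519 : act 3 n109409 = n198519 := rfl
theorem F408195 : act 4 n198519 = n133308 := d5_2 D109409 D198519 (iv3 D133308) (iv4 F312867) F324859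
theorem F408196 : act 5 n198519 = n145784 := d6_2 (iv5 F319959) D198519 F228911
theorem F408197 : act 6 n198519 = n167354 := d7_2 F323509 D198519 F263488
theorem F408198 : act 7 n198519 = n131472 := d8_2 F323512 D198519 F337061
theorem F408199 : act 0 n198519 = n131425 := d19_4 (iv1 F39455) D50478 D109409 D198519 F383417 F383415 F156175 F74478 (iv5 D41684) F31394 F14453 D19718 F291364 D41988 F327382 F300446 (iv5 D84218) (iv4 D38837) F324129
theorem F408200 : act 1 n198519 = n131475 := d15_1 (iv0 F408199) (iv7 D131475) (iv2 F210648)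
theorem F408201 : act 2 n198519 = n131473 := d15_3 F357115 F356994 (iv7 F408198)
def n198520 : Q := act 1 n109424
theorem D198520 : act 1 n109424 = n198520 := rfl
theorem F408202 : act 7 n198520 = n194494 := d15_2 (iv0 F392594) D198520 F393435
theorem F408203 : act 4 n198520 = n110597 := d17_9 (iv1 F175077) F175075 (iv1 F84780) D69203 (iv4 F180030) (iv5 D115661) D115659 (iv5 F349841) D198520
theorem F408204 : act 3 n189935 = n198520 := d20_3 (iv4 D95871) D95869 (iv4 F378299) (iv1 D198520) (iv3 D109424) (iv4 D50481) (iv1 F39447) (iv4 F81559) (iv3 F326729) (iv1 F354596)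
theorem F408205 : act 6 n198520 = n188483 := d7_2 F392642 F408204 (iv3 F392639)
def n198521 : Q := act 0 n109425
theorem D198521 : act 0 n109425 = n198521 := rfl
theorem F408206 : act 5 n198521 = n110119 := d17_3 F325182 D109425 D198521 (iv4 D110119) F323919 (iv0 F297225) (iv5 F322493) (iv0 F323906) (iv4 F119654)
theorem F408207 : act 4 n198521 = n192124 := d18_1 D198521 (iv1 F385663) F359479 F171076 F325557 F119655 (iv4 F325205) (iv0 D109422) D109425
theorem F408208 : act 2 n176872 = n198521 := d15_3 (iv0 D198521) F325900 D176872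
theorem F408209 : act 1 n109445 = n198521 := d15_0 (iv0 D198521) (iv7 F174159) F174158
theorem F408210 : act 7 n198521 = n110206 := d15_2 (iv0 F325898) F408209 F325605
def n198522 : Q := act 4 n109425
theorem D198522 : act 4 n109425 = n198522 := rfl
theorem F408211 : act 2 n198522 = n143400 := d1_1 D198522 (iv4 F349503) F349502
theorem F408212 : act 6 n198522 = n124381 := d10_2 (iv6 F349517) D198522 (iv4 F286964)
theorem F408213 : act 5 n198522 = n123245 := d16_1 D198522 F321936 (iv5 D111909) (iv4 D51610) (iv5 F171331) D50486 D109445 (iv7 F349505) F349502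
theorem F408214 : act 0 n198522 = n193972 := d17_0 (iv5 D193972) F324386 (iv5 F324393) F324392 (iv5 D112281) (iv0 F170252) (iv5 F408206) (iv0 D198521) D198522
theorem F408215 : act 1 n198522 = n112245 := d18_6 (iv1 D50450) F38601 D24599 D50481 D109425 D198522 (iv4 D112245) F171332 (iv5 D109330)
theorem F408216 : act 3 n123248 = n198522 := d6_3 F408213 F197530 D123248
def n198523 : Q := act 5 n109444
theorem D198523 : act 5 n109444 = n198523 := rfl
theorem F408217 : act 3 n198523 = n109445 := d6_1 D198523 (iv5 D109445) D109444
theorem F408218 : act 7 n198523 = n193536 := d13_2 F174182 D198523 (iv5 F390184)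
def n198524 : Q := act 4 n109445
theorem D198524 : act 4 n109445 = n198524 := rfl
theorem F408219 : act 5 n198524 = n117780 := d9_2 D109445 D198524 (iv4 F205143) (iv5 D111898) (iv4 D51605) (iv5 F171327) D50481 D109425 D198522 F408213 F321936 (iv5 D111909) (iv4 D51610) (iv5 F171331) D50486
theorem F408220 : act 7 n198524 = n143400 := d11_2 F349505 D198524 (iv4 F349503)
theorem F408221 : act 0 n198524 = n112245 := d17_0 (iv5 F324385) (iv1 D102512) (iv5 D47548) (iv4 F74745) (iv5 F344568) (iv0 F323999) D84315 (iv0 F325898) D198524
theorem F408222 : act 1 n198524 = n193972 := d18_6 (iv1 F81561) F81559 (iv1 F39449) D50486 D109445 D198524 F391557 (iv0 F321242) F321245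
theorem F408223 : act 3 n198524 = n117781 := d19_3 (iv1 F169412) D109445 D198524 (iv1 F225987) (iv5 D143132) F103087 (iv3 D66631) (iv1 D31084) (iv5 D14698) (iv4 F24368) (iv3 D14689) D14687 (iv5 F49326) (iv4 F101572) (iv3 F223518) F405380 F405379 (iv4 F344504) (iv3 F344501)
theorem F408224 : act 0 n111617 = n198523 := d20_4 (iv4 F101144) F101145 (iv4 F99671) (iv3 F173167) F408217 D198524 F408221 (iv4 D112245) F81768 (iv1 F79822)
theorem F408225 : act 0 n198523 = n130531 := d20_4 (iv4 F391557) (iv1 F408222) (iv4 D198524) (iv3 F408217) F209107 F95710 D61246 D130537 F349525 F321242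
theorem F408226 : act 6 n189140 = n198524 := d21_9 (iv5 F324385) (iv1 D102512) (iv5 D47548) (iv6 D22846) D22843 D47539 F74735 (iv1 F368002) D189140 F408221
def n198525 : Q := act 6 n109445
theorem D198525 : act 6 n109445 = n198525 := rfl
theorem F408227 : act 2 n198525 = n193535 := d3_1 D198525 F390179 F174158
theorem F408228 : act 4 n198525 = n189140 := d10_1 D198525 F408226 (iv4 D198524)
theorem F408229 : act 7 n198525 = n192128 := d14_2 F349505 D198525 (iv6 D192128) F286967 D101875
theorem F408230 : act 1 n193524 = n198525 := d15_1 (iv0 F390164) F408229 F385676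
theorem F408231 : act 1 n198525 = n193522 := d15_1 F408230 F390156 (iv2 F390162)
theorem E103743 : n193533 = n193522 := ((c15_1 F408231 (iv0 D193533) D193535 (iv2 F408227))).symm
theorem F408232 : act 1 n193522 = n101870 := (sb E103743 (iv0 D193533))
def n198526 : Q := act 3 n109497
theorem D198526 : act 3 n109497 = n198526 := rfl
theorem F408233 : act 5 n198526 = n197554 := d6_2 F336669 D198526 F404800
theorem F408234 : act 6 n198526 = n194917 := d7_2 F336685 D198526 (iv3 F394992)
def n198527 : Q := act 4 n109512
theorem D198527 : act 4 n109512 = n198527 := rfl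
theorem F408235 : act 2 n198527 = n125853 := d1_1 D198527 F202354 F174373
theorem F408236 : act 6 n198527 = n189813 := d10_2 (iv6 F346890) D198527 F377832
theorem F408237 : act 7 n198527 = n125850 := d11_2 (iv7 F174374) D198527 F202350
theorem F408238 : act 1 n198527 = n125828 := d18_6 F353143 F147991 F193554 F347755 (iv5 F347760) D198527 (iv4 F407207) F407209 F395480
theorem F408239 : act 1 n125849 = n198527 := d15_1 D125849 F408237 (iv2 D125850)
theorem F408240 : act 2 n198079 = n125849 := d15_3 F408239 F408238 (iv7 F406706)
theorem F408241 : act 6 n125849 = n126242 := d21_5 (iv5 F399366) F399367 F377837 (iv6 F408236) (iv1 F408239) F342895 (iv1 F360386) F377808 (iv6 D189806) D189803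
theorem F408242 : act 3 n125864 = n198527 := d7_3 F408236 F377831 (iv6 F365909)
def n198528 : Q := act 6 n109515
theorem D198528 : act 6 n109515 = n198528 := rfl
theorem F408243 : act 3 n198528 = n109517 := d7_1 D198528 (iv6 D109517) (iv3 F169474)
def n198529 : Q := act 1 n109516
theorem D198529 : act 1 n109516 = n198529 := rfl
def n198530 : Q := act 5 n109516
theorem D198530 : act 5 n109516 = n198530 := rfl
theorem F408244 : act 3 n198530 = n109518 := d6_1 D198530 (iv5 D109518) (iv3 F169476)
def n198531 : Q := act 4 n109518
theorem D198531 : act 4 n109518 = n198531 := rfl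
theorem F408245 : act 5 n198531 = n198366 := d16_1 D198531 (iv4 D198366) (iv5 D109250) F79771 F38556 (iv4 F79771) D109250 (iv7 F173496) F173495
def n198532 : Q := act 4 n109525
theorem D198532 : act 4 n109525 = n198532 := rfl
theorem F408246 : act 2 n198532 = n109576 := d1_1 D198532 (iv4 D109576) (iv2 F169482)
theorem F408247 : act 3 n198532 = n190097 := d5_1 D198532 (iv4 D190097) F147294 D95622 F364879
def n198533 : Q := act 4 n109532
theorem D198533 : act 4 n109532 = n198533 := rfl
theorem F408248 : act 0 n191064 = n198533 := d20_1 D191064 (iv4 D198533) F169495 F112590 F105467 F322492 F297225 (iv4 F323917) F382056 (iv1 D191063)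
def n198534 : Q := act 6 n109532
theorem D198534 : act 6 n109532 = n198534 := rfl
theorem F408249 : act 3 n198534 = n157643 := d7_1 D198534 (iv6 D157643) (iv3 F169495)
theorem F408250 : act 5 n190529 = n198534 := d6_0 F408249 F363845 D190529
theorem F408251 : act 0 n158107 = n198534 := d20_4 F173713 F202000 (iv4 F326929) D158107 F408249 F248417 F344731 F363505 (iv3 D111863) D111862
def n198535 : Q := act 3 n109533
theorem D198535 : act 3 n109533 = n198535 := rfl
theorem F408252 : act 2 n198535 = n189858 := d0_1 D198535 (iv3 D189858) F318906 F320059 F204864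
theorem F408253 : act 7 n198535 = n189921 := d8_2 F204866 D198535 F380552
theorem F408254 : act 4 n198535 = n198003 := d20_6 F373624 (iv1 F175440) F170723 (iv3 F173616) (iv1 F173620) D198535 (iv1 D198003) D198005 F406475 F378336
theorem F408255 : act 5 n198003 = n193062 := d16_1 F408254 F388630 (iv5 D191805) F354742 (iv5 D146914) (iv4 F204855) (iv5 F380547) F380548 (iv2 F408252)
theorem F408256 : act 1 n189915 = n198535 := d17_8 (iv1 D198003) (iv5 F372507) (iv1 F384656) F384655 (iv4 F380527) (iv5 D190673) (iv0 F347766) D189915 F408254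
theorem F408257 : act 0 n189923 = n198535 := d18_0 F408254 (iv1 D198003) D198005 (iv5 F406479) F378328 (iv0 F366935) (iv4 F368506) (iv0 F368508) (iv5 F378267)
theorem F408258 : act 5 n198535 = n190919 := d21_2 (iv5 F378267) F408257 (iv6 D190919) (iv1 F381320) F381319 (iv5 F379277) F379279 (iv5 F380532) (iv6 D190674) F366430
theorem F408259 : act 1 n192842 = n190919 := d17_6 (iv1 D140349) (iv5 F168619) (iv1 F405764) (iv5 D197779) D197778 (iv5 F405761) (iv5 F408258) (iv0 F408257) F378266
theorem F408260 : act 0 n193062 = n198016 := d18_0 F406525 (iv1 F373140) (iv4 D109185) (iv5 F164671) (iv4 F173532) (iv0 F406478) (iv4 D198005) D198003 F408255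
theorem F408261 : act 6 n194495 = n198535 := d3_0 F408252 (iv6 F394651) F394655
def n198536 : Q := act 4 n109533
theorem D198536 : act 4 n109533 = n198536 := rfl
theorem F408262 : act 0 n198536 = n191064 := d18_2 (iv1 F173620) D198536 (iv4 D191064) (iv5 D97192) (iv4 F149943) D191054 F382015 F380536 F354568
theorem F408263 : act 3 n111360 = n198536 := d20_5 (iv4 D11859) D11857 D24970 D51359 D111360 (iv4 D198536) (iv1 D109533) (iv4 F81098) (iv3 D51371) (iv1 D24975)
def n198537 : Q := act 5 n109533
theorem D198537 : act 5 n109533 = n198537 := rfl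
theorem F408264 : act 2 n198537 = n127447 := d2_1 D198537 (iv5 F204862) F204864
theorem F408265 : act 3 n198537 = n190919 := d6_1 D198537 (iv5 F408258) (iv3 D198535)
theorem F408266 : act 7 n198537 = n157642 := d13_2 F204866 D198537 F248414
theorem F408267 : act 4 n198537 = n146165 := d17_4 (iv1 F354581) F354568 (iv1 F173620) D198537 F229430 (iv0 F353667) F353671 F354584 (iv4 F318882)
theorem F408268 : act 6 n190843 = n198537 := d21_5 (iv5 D40693) D40690 D87457 D183213 (iv1 F381299) (iv5 D198537) (iv1 D109533) D109535 F354557 (iv1 D87463)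
theorem F408269 : act 1 n109563 = n198537 := d17_8 (iv1 F229434) (iv5 F353675) (iv1 D145782) (iv5 F182682) (iv4 F320035) F320036 (iv0 D109871) (iv5 F169515) F408267
theorem F408270 : act 0 n157641 = n198537 := d20_10 F408267 (iv1 F229434) D157703 (iv3 F340699) (iv1 F358021) (iv3 F358016) (iv4 D139816) (iv1 F173691) D141344 (iv3 F248410)
theorem F408271 : act 6 n112231 = n137253 := d21_5 D198537 (iv1 F408269) F169515 (iv6 F81754) D112231 (iv5 D137253) F100439 D109544 (iv6 F354553) (iv1 F173620)
theorem E103744 : n198436 = n109732 := ((c21_4 (iv5 D109742) (iv1 D50611) D50612 (iv6 F169720) (iv1 D198436) (iv6 D109310) D109309 F347167 F361862 F408271 (iv1 F221403))).symm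
theorem F408272 : act 0 n109732 = n109310 := (sb E103744 (iv1 D198436))
def n198538 : Q := act 6 n109533
theorem D198538 : act 6 n109533 = n198538 := rfl
theorem F408273 : act 3 n198538 = n194495 := d7_1 D198538 F408261 (iv3 D198535)
def n198539 : Q := act 4 n109535
theorem D198539 : act 4 n109535 = n198539 := rfl
theorem F408274 : act 3 n198539 = n122498 := d5_1 D198539 F295809 F324773 F80459 (iv3 F169496)
theorem F408275 : act 6 n198539 = n118605 := d10_2 (iv6 F354557) D198539 F298161
theorem F408276 : act 7 n198539 = n112569 := d11_2 F169905 D198539 (iv4 F354555)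
theorem F408277 : act 5 n198539 = n159884 := d18_4 (iv1 F382013) F382015 (iv1 F380537) D198539 F252117 F233627 F233623 (iv0 F353667) F353671
def n198540 : Q := act 3 n109540
theorem D198540 : act 3 n109540 = n198540 := rfl
theorem F408278 : act 5 n198540 = n127486 := d6_2 F225903 D198540 (iv3 F225902)
theorem F408279 : act 6 n198540 = n158092 := d7_2 F351022 D198540 F249043
theorem F408280 : act 7 n198540 = n189831 := d8_2 (iv7 F228566) D198540 (iv3 F377907)
theorem F408281 : act 0 n198540 = n189832 := d20_4 F378333 (iv1 D188496) (iv4 F360145) D198540 F377911 F318910 F105336 F105195 (iv3 F224602) (iv1 F378337)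
theorem F408282 : act 0 n109547 = n198540 := d20_4 F323917 (iv1 F297228) (iv4 F324439) D109547 (iv3 D198540) F360145 F338779 (iv4 F325302) (iv3 D111897) D111895
theorem F408283 : act 2 n198540 = n189830 := d15_3 (iv0 D189830) D189831 (iv7 F408280)
def n198541 : Q := act 6 n109541
theorem D198541 : act 6 n109541 = n198541 := rfl
theorem F408284 : act 2 n198541 = n109542 := d3_1 D198541 (iv6 D109542) D109541
theorem F408285 : act 3 n198541 = n109544 := d7_1 D198541 (iv6 F354553) F173616
theorem F408286 : act 5 n198541 = n109542 := d12_1 D198541 (iv6 D109542) F94442 (iv6 F321629) (iv5 F169498)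
theorem F408287 : act 1 n180644 = n198541 := d17_6 (iv1 D84571) (iv5 F119634) F338766 (iv5 D86297) (iv4 F132252) D180644 F408286 F349880 (iv4 D177531)
def n198542 : Q := act 7 n109542
theorem D198542 : act 7 n109542 = n198542 := rfl
theorem F408288 : act 3 n198542 = n109545 := d8_1 D198542 (iv7 D109545) (iv3 F169499)
theorem F408289 : act 6 n198542 = n194927 := d14_1 D198542 F395037 (iv6 D111829) F81386 D109542
def n198543 : Q := act 4 n109544
theorem D198543 : act 4 n109544 = n198543 := rfl
theorem F408290 : act 2 n198543 = n197999 := d1_1 D198543 F406453 (iv2 F169728)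
theorem F408291 : act 6 n198543 = n198002 := d10_2 F354553 D198543 F406466
def n198544 : Q := act 1 n109547
theorem D198544 : act 1 n109547 = n198544 := rfl
theorem F408292 : act 1 n198544 = n189832 := d15_1 D198544 (iv7 D189832) F318878
theorem F408293 : act 7 n198544 = n189830 := d15_2 (iv0 F408282) D198544 (iv2 F408283)
theorem F408294 : act 5 n198544 = n127485 := d17_7 F393626 F193561 (iv1 D115049) (iv5 F107032) (iv4 F146949) F318877 D198544 (iv0 D127485) (iv4 F204904)
theorem F408295 : act 2 n189831 = n198544 := d2_3 F408294 (iv2 F366047) F377908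
def n198545 : Q := act 6 n109556
theorem D198545 : act 6 n109556 = n198545 := rfl
theorem F408296 : act 2 n198545 = n186971 := d3_1 D198545 F368716 (iv2 F173655)
theorem F408297 : act 3 n198545 = n127458 := d7_1 D198545 (iv6 D127458) F169507
theorem F408298 : act 4 n198545 = n186580 := d10_1 D198545 F367299 F329748
theorem F408299 : act 7 n198545 = n186577 := d14_2 (iv7 F169508) D198545 (iv6 D186577) F136270 F329864
theorem F408300 : act 1 n186970 = n198545 := d15_1 D186970 F408299 F367291
theorem F408301 : act 1 n198545 = n186969 := d15_1 F408300 (iv7 F391653) F391650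
def n198546 : Q := act 4 n109563
theorem D198546 : act 4 n109563 = n198546 := rfl
theorem F408302 : act 3 n198546 = n145738 := d5_1 D198546 F228846 F171151 F80432 D109563
theorem F408303 : act 6 n198546 = n186849 := d10_2 (iv6 F378647) D198546 F378646
theorem F408304 : act 7 n198546 = n148876 := d11_2 F173665 D198546 F233920
def n198547 : Q := act 0 n109565
theorem D198547 : act 0 n109565 = n198547 := rfl
theorem F408305 : act 4 n198547 = n120620 := d18_3 (iv1 D197213) (iv4 F169517) D198547 F192210 (iv4 F320437) F320436 (iv4 F320575) (iv0 F245455) (iv5 F403565)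
theorem F408306 : act 3 n198547 = n186970 := d20_5 F229595 (iv1 F333617) (iv4 F397337) F397336 D198547 (iv4 F368714) F354721 (iv4 F367314) (iv3 F393202) F393206
theorem F408307 : act 6 n198547 = n157642 := d21_5 (iv5 D51692) F39465 (iv5 F79917) D109565 D198547 F248414 (iv1 D111822) (iv5 F169904) F354556 (iv1 F81616)
theorem F408308 : act 2 n120583 = n198547 := d15_3 (iv0 D198547) F351354 F192152
theorem F408309 : act 7 n198547 = n179299 := d4_2 F192152 F408308 F279198
theorem F408310 : act 1 n179312 = n198547 := d15_1 D179312 F408309 F279198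
def n198548 : Q := act 5 n109565
theorem D198548 : act 5 n109565 = n198548 := rfl
theorem F408311 : act 2 n198548 = n112993 := d2_1 D198548 F336225 F173666
theorem F408312 : act 6 n198548 = n109878 := d12_2 D109565 D198548 (iv5 D109878) (iv6 D50674) (iv5 F79917)
theorem F408313 : act 4 n198548 = n112990 := d16_6 (iv4 F111143) (iv5 F336199) F179636 (iv5 F166933) (iv4 F169517) D198548 (iv5 D112990) (iv7 F175948) (iv2 F175945)
theorem F408314 : act 0 n190612 = n198548 := d21_7 (iv5 D24625) D24622 D50535 (iv6 F323312) F147948 D96241 D190612 (iv5 D198548) (iv6 D109565) (iv1 D50546)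
def n198549 : Q := act 7 n109565
theorem D198549 : act 7 n109565 = n198549 := rfl
theorem F408315 : act 2 n198549 = n179312 := d4_1 D198549 F351356 F173666
theorem F408316 : act 3 n198549 = n149215 := d8_1 D198549 (iv7 F397338) F397336
theorem F408317 : act 4 n198549 = n197093 := d11_1 D198549 F403015 (iv4 F169517)
theorem F408318 : act 6 n198549 = n149213 := d14_1 D198549 F361277 (iv6 D111847) F81405 D109565
theorem F408319 : act 1 n179299 = n198549 := d15_1 (iv0 F391642) (iv7 D198549) (iv2 F173666)
theorem F408320 : act 1 n198549 = n120583 := d15_1 F408319 (iv7 F192152) (iv2 F279198)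
def n198550 : Q := act 6 n109566
theorem D198550 : act 6 n109566 = n198550 := rfl
theorem F408321 : act 2 n198550 = n129736 := d3_1 D198550 F348472 (iv2 F348474)
theorem F408322 : act 3 n198550 = n109567 := d7_1 D198550 (iv6 D109567) D109566
theorem F408323 : act 5 n198550 = n129708 := d12_1 D198550 (iv6 F334323) F334322 F326088 (iv5 F169518)
theorem F408324 : act 7 n198550 = n129707 := d14_2 (iv7 F328398) D198550 F315808 F130373 D85132
theorem F408325 : act 1 n129734 = n198550 := d15_1 D129734 F408324 F207891
theorem F408326 : act 0 n129733 = n198550 := d21_10 F408323 (iv1 F207894) D129731 (iv6 F352308) F342711 (iv6 F306221) (iv5 D128054) (iv1 F94735) (iv5 F109614) (iv6 F342215)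
def n198551 : Q := act 4 n109568
theorem D198551 : act 4 n109568 = n198551 := rfl
theorem F408327 : act 7 n198551 = n165197 := d11_2 (iv7 F362086) D198551 (iv4 F284870)
theorem F408328 : act 0 n198551 = n190977 := d20_1 D198551 (iv4 D190977) D190976 F381788 (iv3 F368383) F368384 F378936 (iv4 D190123) F348932 D109568
theorem F408329 : act 3 n198551 = n172116 := d20_3 F169520 D109568 D198551 F330900 F128895 (iv4 F317581) (iv1 D43247) D43248 D92466 F348893
theorem F408330 : act 0 n164280 = n198551 := d20_10 (iv4 D198551) (iv1 F361148) F348931 F96979 (iv1 F95353) (iv3 F334122) F178806 D114699 F338544 D164280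
def n198552 : Q := act 5 n109568
theorem D198552 : act 5 n109568 = n198552 := rfl
theorem F408331 : act 0 n198552 = n190936 := d17_2 D109568 D198552 F381608 F377995 (iv5 F358024) F358023 (iv5 F348926) F348892 F169520
def n198553 : Q := act 4 n109569
theorem D198553 : act 4 n109569 = n198553 := rfl
theorem F408332 : act 2 n198553 = n165197 := d1_1 D198553 (iv4 F284870) (iv2 F362075)
theorem F408333 : act 3 n198553 = n149259 := d5_1 D198553 F234649 F106456 (iv4 F106462) (iv3 F362076)
theorem F408334 : act 6 n198553 = n149258 := d10_2 (iv6 F362077) D198553 F234643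
theorem F408335 : act 0 n198553 = n164280 := d20_1 D198553 (iv4 F348883) (iv3 F348884) (iv1 F177930) F120150 (iv4 F149014) F314790 F320363 D97061 (iv1 F348959)
theorem F408336 : act 0 n190977 = n198553 := d20_10 (iv4 D198553) (iv1 D109569) (iv4 F169520) (iv3 F408322) (iv1 F408325) F350859 F109619 (iv1 F109247) (iv4 F354984) (iv3 F381789)
def n198554 : Q := act 5 n109569
theorem D198554 : act 5 n109569 = n198554 := rfl
theorem F408337 : act 3 n198554 = n149266 := d6_1 D198554 (iv5 D149266) (iv3 F362076)
theorem F408338 : act 6 n198554 = n190808 := d12_2 (iv6 F362077) D198554 (iv5 D190808) (iv6 D96946) (iv5 F106460)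
theorem F408339 : act 0 n190936 = n198554 := d21_7 F147245 (iv1 F70586) (iv5 F134280) (iv6 F354557) (iv1 F318881) D189853 (iv5 F381608) (iv5 D198554) F362077 (iv1 F147247)
def n198555 : Q := act 0 n109570
theorem D198555 : act 0 n109570 = n198555 := rfl
def n198556 : Q := act 1 n109570
theorem D198556 : act 1 n109570 = n198556 := rfl
theorem F408340 : act 1 n198556 = n190930 := d15_1 D198556 F381583 F378744
def n198557 : Q := act 4 n109570
theorem D198557 : act 4 n109570 = n198557 := rfl
theorem F408341 : act 3 n198557 = n141988 := d5_1 D198557 (iv4 D141988) (iv3 F225012) (iv4 F348936) (iv3 F348935)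
theorem F408342 : act 6 n198557 = n109576 := d10_2 (iv6 F169521) D198557 (iv4 D109576)
def n198558 : Q := act 7 n109570
theorem D198558 : act 7 n109570 = n198558 := rfl
theorem F408343 : act 2 n198558 = n190930 := d4_1 D198558 F381583 F378744
theorem F408344 : act 5 n198558 = n109571 := d13_1 D198558 (iv7 D109571) D109570
theorem F408345 : act 1 n190930 = n198555 := d15_0 (iv0 D198555) D198558 F408343
def n198559 : Q := act 0 n109572
theorem D198559 : act 0 n109572 = n198559 := rfl
def n198560 : Q := act 1 n109572
theorem D198560 : act 1 n109572 = n198560 := rfl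
def n198561 : Q := act 2 n109572
theorem D198561 : act 2 n109572 = n198561 := rfl
theorem F408346 : act 3 n198561 = n178336 := d0_2 D109572 D198561 F353504 (iv3 D174692) (iv2 F326925)
theorem F408347 : act 4 n198561 = n178339 := d1_2 F172990 D198561 F360136
def n198562 : Q := act 5 n109572
theorem D198562 : act 5 n109572 = n198562 := rfl
theorem F408348 : act 3 n198562 = n109573 := d6_1 D198562 (iv5 D109573) D109572
def n198563 : Q := act 4 n109573
theorem D198563 : act 4 n109573 = n198563 := rfl
def n198564 : Q := act 6 n109573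
theorem D198564 : act 6 n109573 = n198564 := rfl
def n198565 : Q := act 2 n109574
theorem D198565 : act 2 n109574 = n198565 := rfl
theorem F408349 : act 7 n109575 = n198565 := d15_2 (iv0 D109574) D109575 (iv2 D198565)
def n198566 : Q := act 3 n109574
theorem D198566 : act 3 n109574 = n198566 := rfl
def n198567 : Q := act 4 n109574
theorem D198567 : act 4 n109574 = n198567 := rfl
def n198568 : Q := act 5 n109574
theorem D198568 : act 5 n109574 = n198568 := rfl
theorem F408350 : act 4 n198568 = n145311 := d17_4 F79988 D50551 D109574 D198568 (iv5 D145311) (iv0 D68126) F50028 (iv0 F80443) F80441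
theorem F408351 : act 1 n198568 = n110323 := d17_8 F169542 (iv5 D109583) (iv1 F79930) F79814 (iv4 F326037) D174698 F365988 D198568 F170554
theorem F408352 : act 0 n198568 = n136504 := d21_1 D198568 (iv5 F378869) F378870 F381171 (iv6 F408338) (iv5 D198554) (iv1 D109569) D109570 F169521 D109574
theorem F408353 : act 6 n198568 = n109697 := d21_3 D50551 D109574 D198568 (iv1 D109697) (iv6 D50595) D50594 (iv1 F79987) (iv5 D50447) D50448 F79988
theorem F408354 : act 2 n109743 = n198568 := d3_3 F408353 F202529 D109743
theorem F408355 : act 7 n109905 = n198568 := d14_0 F408353 F202530 D109738 F202534 D109905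
theorem F408356 : act 7 n109574 = n174699 := d13_2 F408355 (iv5 D198568) F365860
theorem F408357 : act 2 n174699 = n109575 := d4_1 F408356 F408349 (iv2 D198565)
theorem E103745 : n198565 = n174700 := (c15_4 (iv0 F365445) F365861 (iv7 F408356) D198565)
theorem F408358 : act 2 n174700 = n109574 := (sb E103745 (iv2 D198565))
theorem F408359 : act 7 n174700 = n109575 := (sb E103745 (iv7 F408349))
def n198569 : Q := act 6 n109574
theorem D198569 : act 6 n109574 = n198569 := rfl
def n198570 : Q := act 3 n109575
theorem D198570 : act 3 n109575 = n198570 := rfl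
def n198571 : Q := act 4 n109575
theorem D198571 : act 4 n109575 = n198571 := rfl
def n198572 : Q := act 5 n109575
theorem D198572 : act 5 n109575 = n198572 := rfl
theorem F408360 : act 2 n198572 = n109905 := d2_1 D198572 (iv5 F365860) F408357
theorem F408361 : act 7 n198572 = n109743 := d13_2 F408359 D198572 (iv5 F365444)
theorem F408362 : act 4 n198572 = n126016 := d17_4 (iv1 F326036) D174698 (iv1 F365449) D198572 F202714 F203885 F203884 F171163 F169331
theorem F408363 : act 1 n198572 = n136504 := d17_8 F169558 (iv5 D109586) (iv1 D50556) (iv5 D24628) (iv4 F38626) D50551 D109575 D198572 (iv4 D136504)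
theorem F408364 : act 6 n198572 = n109866 := d21_3 D174698 (iv1 F365449) D198572 (iv1 F169863) (iv6 F81650) (iv5 F174337) (iv1 F408030) F408028 F169337 (iv1 F326036)
theorem F408365 : act 1 n110323 = n198572 := d15_0 F408363 (iv7 F340609) (iv2 F340610)
def n198573 : Q := act 6 n109575
theorem D198573 : act 6 n109575 = n198573 := rfl
def n198574 : Q := act 0 n109576
theorem D198574 : act 0 n109576 = n198574 := rfl
def n198575 : Q := act 1 n109576
theorem D198575 : act 1 n109576 = n198575 := rfl
def n198576 : Q := act 5 n109576
theorem D198576 : act 5 n109576 = n198576 := rfl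
theorem F408366 : act 3 n198576 = n196327 := d6_1 D198576 F406231 (iv3 F406230)
theorem F408367 : act 7 n198576 = n136815 := d13_2 (iv7 F365987) D198576 (iv5 F365448)
theorem F408368 : act 4 n198576 = n136816 := d16_2 D109576 D198576 F220025 F100149 F79814 (iv4 F326037) D174698 (iv7 F365446) F169482
theorem F408369 : act 6 n198184 = n198576 := d7_0 F408366 (iv6 F400347) D198184
def n198577 : Q := act 0 n109579
theorem D198577 : act 0 n109579 = n198577 := rfl
theorem F408370 : act 5 n198577 = n187271 := d17_1 D198577 (iv1 F369916) (iv5 F378090) F378091 F241418 F206394 F237210 (iv0 F264109) F344634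
theorem F408371 : act 4 n198577 = n130312 := d18_3 F344687 F344634 D198577 (iv5 D130312) (iv4 F314468) F201234 (iv4 F242269) F264188 (iv5 F344689)
theorem F408372 : act 3 n198577 = n188476 := d20_5 F38626 D24627 D50554 D109579 D198577 F373614 F353485 F171175 F169340 F79988
theorem F408373 : act 2 n187272 = n198577 := d15_3 (iv0 D198577) F369926 F369923
theorem F408374 : act 1 n150669 = n198577 := d15_0 (iv0 D198577) F174019 (iv2 F344636)
theorem F408375 : act 7 n198577 = n144839 := d15_2 (iv0 F369925) F408374 (iv2 F369920)
theorem F408376 : act 6 n130326 = n198577 := d21_9 F381916 (iv1 D191024) F149875 (iv6 D48390) D48387 D104635 F160339 F363510 F363508 (iv1 F408374)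
def n198578 : Q := act 4 n109580
theorem D198578 : act 4 n109580 = n198578 := rfl
theorem F408377 : act 3 n198578 = n141977 := d5_1 D198578 F225009 (iv3 F224956) (iv4 F381908) F381911
theorem F408378 : act 7 n198578 = n141975 := d11_2 F174026 D198578 F344639
def n198579 : Q := act 6 n109580
theorem D198579 : act 6 n109580 = n198579 := rfl
def n198580 : Q := act 5 n109582
theorem D198580 : act 5 n109582 = n198580 := rfl
theorem F408379 : act 2 n198580 = n136818 := d2_1 D198580 (iv5 D136818) (iv2 F169529)
theorem F408380 : act 6 n198580 = n197501 := d12_2 F219301 D198580 (iv5 D197501) F310480 (iv5 F326318)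
theorem F408381 : act 7 n198580 = n136820 := d13_2 (iv7 F169530) D198580 (iv5 D136820)
theorem F408382 : act 1 n198580 = n136497 := d17_6 (iv1 F99384) (iv5 F161308) F169542 (iv5 D109583) D109582 D198580 (iv5 D136497) F218586 F218584
theorem F408383 : act 0 n198580 = n136495 := d21_1 D198580 (iv5 D136495) F167116 (iv1 D30427) (iv6 D14451) D14450 (iv1 F48829) F48831 D63923 (iv1 F169553)
def n198581 : Q := act 4 n109583
theorem D198581 : act 4 n109583 = n198581 := rfl
theorem F408384 : act 2 n198581 = n109757 := d1_1 D198581 F169748 (iv2 F169538)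
theorem F408385 : act 3 n198581 = n189885 := d5_1 D198581 F378102 F344692 (iv4 F327660) F219928
theorem F408386 : act 6 n198581 = n109701 := d10_2 (iv6 F169539) D198581 (iv4 D109701)
theorem F408387 : act 7 n198581 = n109918 := d11_2 (iv7 F169540) D198581 F169935
theorem F408388 : act 0 n198581 = n194267 := d18_2 F169542 D198581 F403920 (iv5 D197310) (iv4 F167115) (iv0 D64163) F48629 D30238 (iv5 F161308)
def n198582 : Q := act 4 n109586
theorem D198582 : act 4 n109586 = n198582 := rfl
theorem F408389 : act 2 n198582 = n109918 := d1_1 D198582 F169935 (iv2 F169554)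
theorem F408390 : act 6 n198582 = n109870 := d10_2 (iv6 F169555) D198582 (iv4 D109870)
theorem F408391 : act 7 n198582 = n109757 := d11_2 (iv7 F169556) D198582 F169748
theorem F408392 : act 0 n194267 = n198582 := d20_10 (iv4 D198582) F169557 (iv4 F170554) F325044 F298762 D186297 (iv4 F341767) (iv1 D128943) D128944 (iv3 F392581)
def n198583 : Q := act 3 n109587
theorem D198583 : act 3 n109587 = n198583 := rfl
theorem F408393 : act 4 n198583 = n140477 := d5_2 (iv4 F169568) D198583 (iv3 D140477) F180078 (iv3 F169649)
theorem F408394 : act 7 n198583 = n136812 := d8_2 F202614 D198583 (iv3 D136812)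
theorem F408395 : act 6 n154595 = n198583 := d10_0 F408393 F407421 F366816
theorem F408396 : act 5 n198583 = n190518 := d12_1 F408395 (iv6 F379977) F240876 (iv6 F240482) (iv5 F242668)
def n198584 : Q := act 5 n109587
theorem D198584 : act 5 n109587 = n198584 := rfl
theorem F408397 : act 2 n198584 = n136810 := d2_1 D198584 (iv5 D136810) F202608
theorem F408398 : act 3 n198584 = n190518 := d6_1 D198584 (iv5 F408396) (iv3 D198583)
theorem F408399 : act 7 n198584 = n136813 := d13_2 F202614 D198584 (iv5 D136813)
theorem F408400 : act 0 n198584 = n136503 := d17_2 D109587 D198584 (iv5 D136503) (iv4 D64169) D64170 (iv0 F169541) (iv5 D109583) (iv0 D50555) D50557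
theorem F408401 : act 1 n198584 = n136506 := d17_6 (iv1 F167121) (iv5 F203111) F228352 (iv5 D145311) (iv4 F169568) D198584 (iv5 D136506) F218609 F218607
theorem F408402 : act 6 n198584 = n125122 := d21_9 (iv5 D58506) D58503 D125115 F337791 D135118 F327502 (iv5 D109590) D109587 D198584 (iv1 D125122)
def n198585 : Q := act 6 n109587
theorem D198585 : act 6 n109587 = n198585 := rfl
theorem F408403 : act 2 n198585 = n118096 := d3_1 D198585 F322838 F202608
theorem F408404 : act 3 n198585 = n154595 := d7_1 D198585 F408395 (iv3 D198583)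
theorem F408405 : act 4 n198585 = n145312 := d10_1 D198585 (iv6 D145312) (iv4 F169568)
theorem F408406 : act 5 n198585 = n136246 := d12_1 D198585 F319002 F315116 (iv6 F408402) (iv5 D198584)
theorem F408407 : act 7 n198585 = n117562 := d14_2 F202614 D198585 (iv6 D117562) (iv7 F184028) F328032
theorem F408408 : act 0 n198585 = n118099 := d21_4 D136506 (iv1 F408401) (iv5 D198584) D198585 F325445 D135990 (iv1 F219673) F219671 (iv6 F218608) (iv1 F218609)
theorem F408409 : act 0 n118074 = n198585 := d21_4 D30469 F327677 F327129 F326312 (iv6 D198585) D198584 F408400 (iv5 D136503) F99885 F166060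
def n198586 : Q := act 3 n109588
theorem D198586 : act 3 n109588 = n198586 := rfl
theorem F408410 : act 6 n198586 = n117538 := d7_2 (iv6 F328827) D198586 F184136
theorem F408411 : act 7 n198586 = n136809 := d8_2 (iv7 F202612) D198586 (iv3 D136809)
def n198587 : Q := act 5 n109588
theorem D198587 : act 5 n109588 = n198587 := rfl
theorem F408412 : act 2 n198587 = n136813 := d2_1 D198587 (iv5 D136813) (iv2 F202613)
theorem F408413 : act 6 n198587 = n117545 := d12_2 (iv6 F328827) D198587 (iv5 D117545) (iv6 D54158) D54157
theorem F408414 : act 7 n198587 = n136810 := d13_2 (iv7 F202612) D198587 (iv5 D136810)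
theorem F408415 : act 0 n198587 = n136506 := d17_2 (iv1 F169559) D198587 (iv5 D136506) (iv4 D64173) (iv5 F161308) (iv0 F169557) (iv5 D109586) F79923 (iv4 F100149)
theorem F408416 : act 0 n136503 = n198587 := d21_10 (iv5 D198587) (iv1 D109588) D109590 (iv6 F327502) (iv1 F217340) (iv6 F337795) F134154 (iv1 F134126) D183004 F337823
def n198588 : Q := act 1 n109589
theorem D198588 : act 1 n109589 = n198588 := rfl
theorem F408417 : act 4 n198588 = n140770 := d18_7 (iv1 F397387) (iv4 F338191) F392657 F392653 (iv5 D109679) (iv4 F169560) D198588 F393515 (iv5 F397382)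
theorem F408418 : act 6 n151611 = n198588 := d21_3 D137923 F343288 (iv5 F238483) (iv1 D198588) F169561 (iv5 F100613) F103082 (iv5 D30475) D30476 D64821
def n198589 : Q := act 2 n109589
theorem D198589 : act 2 n109589 = n198589 := rfl
theorem F408419 : act 3 n198589 = n136796 := d0_2 D109589 D198589 F220012 F100147 (iv2 F79924)
theorem F408420 : act 4 n198589 = n109678 := d1_2 (iv4 F169560) D198589 (iv2 D109678)
theorem F408421 : act 6 n198589 = n109594 := d3_2 (iv6 F169561) D198589 (iv2 D109594)
def n198590 : Q := act 5 n109589
theorem D198590 : act 5 n109589 = n198590 := rfl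
theorem F408422 : act 3 n198590 = n109590 := d6_1 D198590 (iv5 D109590) D109589
def n198591 : Q := act 7 n109589
theorem D198591 : act 7 n109589 = n198591 := rfl
theorem F408423 : act 3 n198591 = n109591 := d8_1 D198591 (iv7 D109591) D109589
theorem F408424 : act 4 n198591 = n109680 := d11_1 D198591 (iv7 D109680) (iv4 F169560)
theorem F408425 : act 6 n198591 = n136447 := d14_1 D198591 F219542 (iv6 D64328) (iv7 F79934) (iv6 F169561)
def n198592 : Q := act 4 n109590
theorem D198592 : act 4 n109590 = n198592 := rfl
theorem F408426 : act 2 n198592 = n136815 := d1_1 D198592 (iv4 D136815) (iv2 F169562)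
def n198593 : Q := act 6 n109592
theorem D198593 : act 6 n109592 = n198593 := rfl
theorem F408427 : act 2 n198593 = n116060 := d3_1 D198593 F320751 (iv2 F177224)
theorem F408428 : act 4 n198593 = n116028 := d10_1 D198593 F320749 F169571
theorem F408429 : act 7 n198593 = n118892 := d14_2 F177223 D198593 (iv6 D118892) (iv7 F186769) F363012
theorem F408430 : act 0 n109759 = n198593 := d21_4 D136603 F219726 (iv5 D136367) (iv6 F169755) (iv6 D198593) (iv5 F169575) (iv1 D64850) (iv5 D30484) (iv6 F48632) F219715
theorem F408431 : act 1 n137237 = n198593 := d15_0 (iv0 F408430) F169756 D137237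
def n198594 : Q := act 3 n109593
theorem D198594 : act 3 n109593 = n198594 := rfl
theorem F408432 : act 4 n198594 = n139869 := d5_2 F169572 D198594 (iv3 D139869) (iv4 D65656) D65655
theorem F408433 : act 5 n198594 = n113917 := d6_2 F169671 D198594 F177217
theorem F408434 : act 6 n198594 = n118893 := d7_2 (iv6 F322630) D198594 (iv3 D118893)
theorem F408435 : act 7 n198594 = n136822 := d8_2 F177220 D198594 (iv3 D136822)
theorem F408436 : act 0 n198594 = n136707 := d19_4 (iv1 D70197) (iv5 F320873) F169572 D198594 (iv5 F221203) F221204 F104835 F55204 (iv5 D34893) F27741 F12542 (iv1 F12555) D16683 D34410 D75139 (iv1 F352132) F352134 (iv4 F223900) F322665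
theorem F408437 : act 1 n198594 = n113779 := d15_1 (iv0 F408436) (iv7 F220277) F220275
def n198595 : Q := act 3 n109619
theorem D198595 : act 3 n109619 = n198595 := rfl
theorem F408438 : act 2 n198595 = n197708 := d0_1 D198595 (iv3 D197708) F175551 D108860 (iv2 F170782)
theorem F408439 : act 4 n198595 = n109621 := d5_2 D109619 D198595 (iv3 D109621) (iv4 D50567) D50566
theorem F408440 : act 5 n198595 = n188154 := d6_2 F407169 D198595 (iv3 F407167)
theorem F408441 : act 7 n198595 = n198004 := d8_2 F173873 D198595 F406470
theorem F408442 : act 0 n113296 = n145455 := d20_1 (iv4 F176727) (iv4 F406104) (iv3 F406103) F169618 D198595 F408439 (iv1 F220412) (iv4 F223458) F223457 (iv1 F176731)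
theorem F408443 : act 0 n198595 = n198003 := d20_10 (iv4 F408254) (iv1 F408256) F378232 (iv3 F405932) F405931 F253368 F115511 (iv1 F324422) D109619 D198595
theorem F408444 : act 0 n197867 = n198595 := d18_2 (iv1 F380550) (iv4 F406063) F408439 (iv5 F387858) F391599 F391597 (iv4 F320024) (iv0 F347766) D189915
def n198596 : Q := act 4 n109672
theorem D198596 : act 4 n109672 = n198596 := rfl
theorem F408445 : act 2 n198596 = n144164 := d1_1 D198596 F393594 (iv2 F323203)
theorem F408446 : act 3 n198596 = n112841 := d5_1 D198596 (iv4 D112841) (iv3 D52082) (iv4 F79948) D109672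
theorem F408447 : act 6 n198596 = n153173 := d10_2 (iv6 F316638) D198596 (iv4 D153173)
theorem F408448 : act 7 n198596 = n139724 := d11_2 (iv7 F169651) D198596 (iv4 D139724)
theorem F408449 : act 5 n198596 = n187236 := d16_1 D198596 (iv4 D187236) (iv5 D89836) (iv4 F136295) (iv5 F157444) F346817 (iv5 F318380) F323202 (iv2 F323203)
theorem F408450 : act 0 n117008 = n198596 := d20_7 F49198 (iv1 F38635) (iv4 F49699) D67661 (iv1 F350165) (iv3 F180215) (iv4 F182943) (iv4 D198596) (iv3 D109672) (iv1 F79953)
theorem F408451 : act 0 n198596 = n144167 := d19_4 F103480 (iv5 F168056) D112841 (iv3 F408446) (iv5 F379036) (iv4 D190175) F147373 (iv1 F147367) F147369 F75222 (iv3 F290922) F290920 (iv5 F290924) F58142 (iv3 F75094) (iv1 F158373) D194263 F392561 F202441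
def n198597 : Q := act 0 n109676
theorem D198597 : act 0 n109676 = n198597 := rfl
theorem F408452 : act 5 n198597 = n117669 := d17_3 F340849 F332525 D198597 F338193 (iv5 F243257) F317776 (iv5 D103131) (iv0 F317658) (iv4 F162412)
theorem F408453 : act 2 n109680 = n198597 := d15_3 (iv0 D198597) (iv0 D109676) D109680
theorem F408454 : act 1 n109677 = n198597 := d15_0 (iv0 D198597) (iv7 F353443) F334951
theorem F408455 : act 7 n198597 = n109678 := d15_2 D109677 F408454 (iv2 D109678)
theorem F408456 : act 3 n117671 = n198597 := d8_3 F408455 F169661 (iv7 F341176)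
theorem F408457 : act 6 n138600 = n198597 := d14_5 F408455 F169662 F79964 D65607 (iv7 F221771)
def n198598 : Q := act 2 n109676
theorem D198598 : act 2 n109676 = n198598 := rfl
theorem F408458 : act 5 n198598 = n146622 := d2_2 F332525 D198598 F353437
theorem F408459 : act 6 n198598 = n118907 := d3_2 (iv6 F332524) D198598 (iv2 F332504)
theorem F408460 : act 7 n198598 = n109677 := d4_2 F353443 D198598 (iv2 F334951)
theorem F408461 : act 1 n198598 = n109678 := d15_0 F353446 F353443 D198598
theorem F408462 : act 1 n109680 = n198598 := d15_0 F408461 (iv7 F408455) (iv2 F408453)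
theorem F408463 : act 3 n144493 = n198598 := d20_3 (iv4 F101422) D139942 (iv4 F359173) (iv1 F408462) F169664 F79958 (iv1 F38642) D30738 D65594 F335043
def n198599 : Q := act 3 n109676
theorem D198599 : act 3 n109676 = n198599 := rfl
theorem F408464 : act 2 n198599 = n114755 := d0_1 D198599 F178856 F333249 F408463 (iv2 D198598)
theorem F408465 : act 5 n198599 = n114538 := d6_2 F332525 D198599 F178601
theorem F408466 : act 6 n198599 = n119477 := d7_2 (iv6 F332524) D198599 F188274
theorem F408467 : act 7 n198599 = n145510 := d8_2 F353443 D198599 F364529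
theorem F408468 : act 0 n198599 = n145512 := d20_4 F223843 F385423 F385422 D198599 F228570 (iv4 F228572) (iv1 F393593) F393591 (iv3 F393520) (iv1 F393522)
theorem F408469 : act 0 n145504 = n198599 := d21_4 D142733 (iv1 F225635) F180130 D145504 F408466 (iv5 D119477) (iv1 F316597) F322337 (iv6 D66916) D66912
def n198600 : Q := act 4 n109677
theorem D198600 : act 4 n109677 = n198600 := rfl
theorem F408470 : act 0 n198600 = n137143 := d18_2 (iv1 F408454) D198600 (iv4 F223843) F363915 (iv4 F363912) (iv0 D146597) (iv4 F334962) F334960 (iv5 F408452)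
def n198601 : Q := act 6 n109683
theorem D198601 : act 6 n109683 = n198601 := rfl
theorem F408471 : act 2 n198601 = n145503 := d3_1 D198601 (iv6 D145503) F205127
theorem F408472 : act 3 n198601 = n109685 := d7_1 D198601 (iv6 D109685) D109683
theorem F408473 : act 4 n198601 = n144424 := d10_1 D198601 (iv6 D144424) (iv4 F169673)
theorem F408474 : act 5 n198601 = n145503 := d12_1 D198601 (iv6 D145503) (iv5 F205106) F321929 (iv5 F169672)
theorem F408475 : act 7 n198601 = n118876 := d14_2 F205128 D198601 (iv6 D118876) F86523 (iv6 F319247)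
theorem F408476 : act 0 n124814 = n198601 := d21_4 (iv5 F314617) (iv1 D58354) D58357 D124814 (iv6 D198601) F169672 (iv1 F184459) (iv5 D116398) (iv6 F322254) F214158
theorem F408477 : act 1 n145540 = n198601 := d15_1 (iv0 F342424) F408475 F186936
def n198602 : Q := act 3 n109684
theorem D198602 : act 3 n109684 = n198602 := rfl
theorem F408478 : act 2 n198602 = n136873 := d0_1 D198602 (iv3 D136873) (iv2 F218693) F218683 (iv2 F205155)
theorem F408479 : act 4 n198602 = n144423 := d5_2 D109684 D198602 (iv3 D144423) (iv4 F169673) (iv3 D109683)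
theorem F408480 : act 7 n198602 = n136894 := d8_2 (iv7 F205153) D198602 (iv3 F220070)
theorem F408481 : act 0 n198602 = n135997 := d19_4 D26234 (iv5 F169574) D109684 D198602 (iv5 F220569) (iv4 F221048) (iv3 F221049) (iv1 F114500) F106096 (iv4 D34900) (iv3 F55202) F55203 (iv5 D26163) (iv4 D12410) (iv3 D5905) (iv1 D2496) D2498 D5915 D12440
theorem F408482 : act 0 n136895 = n198602 := d18_2 D105540 F220072 F408479 (iv5 F364301) (iv4 F179739) F161975 (iv4 F162188) (iv0 F360521) (iv5 D105543)
def n198603 : Q := act 5 n109684
theorem D198603 : act 5 n109684 = n198603 := rfl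
theorem F408483 : act 2 n198603 = n138004 := d2_1 D198603 F355785 (iv2 F205155)
theorem F408484 : act 7 n198603 = n138011 := d13_2 (iv7 F205153) D198603 F221270
theorem F408485 : act 0 n198603 = n142992 := d17_2 F182582 D198603 (iv5 D142992) (iv4 F103000) (iv5 F180358) (iv0 F320906) F320908 (iv0 F103665) (iv4 F103430)
theorem F408486 : act 1 n198603 = n137164 := d17_6 F102987 (iv5 F20708) D26234 (iv5 F169574) D109684 D198603 F221257 F103004 (iv4 D31208)
theorem F408487 : act 4 n198603 = n137980 := d18_5 (iv1 D109593) F79933 D50590 D109684 D198603 F365745 F100697 F100689 F169671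
theorem F408488 : act 6 n198603 = n137979 := d21_3 (iv5 F180639) F182582 D198603 (iv1 F225931) F352440 (iv5 D87055) (iv1 F293499) (iv5 F334885) (iv6 D67125) (iv1 F103038)
def n198604 : Q := act 6 n109684
theorem D198604 : act 6 n109684 = n198604 := rfl
theorem F408489 : act 2 n198604 = n139755 := d3_1 D198604 (iv6 D139755) (iv2 F205155)
theorem F408490 : act 4 n198604 = n109685 := d10_1 D198604 (iv6 D109685) D109684
theorem F408491 : act 7 n198604 = n118879 := d14_2 (iv7 F205153) D198604 (iv6 D118879) (iv7 F114972) (iv6 F319248)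
theorem F408492 : act 0 n137182 = n198604 := d21_4 D139067 (iv1 F352847) (iv5 D181757) (iv6 F352809) (iv6 D198604) D198603 F408485 (iv5 D142992) (iv6 F321645) (iv1 F312299)
theorem F408493 : act 5 n192924 = n198604 := d21_8 F180301 (iv1 F103041) (iv5 D31241) D31242 D67126 D143291 F364512 D192924 (iv6 D198604) F180300
def n198605 : Q := act 5 n109688
theorem D198605 : act 5 n109688 = n198605 := rfl
theorem F408494 : act 2 n198605 = n138011 := d2_1 D198605 F221270 F205154
theorem F408495 : act 3 n198605 = n136871 := d6_1 D198605 (iv5 D136871) F169677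
theorem F408496 : act 7 n198605 = n138004 := d13_2 F205156 D198605 F355785
theorem F408497 : act 0 n198605 = n137164 := d17_2 (iv1 F180640) D198605 F221257 (iv4 F100654) (iv5 F320913) F320909 F180238 (iv0 D115840) D115842
theorem F408498 : act 1 n198605 = n142992 := d17_6 (iv1 F102985) D14750 (iv1 F41649) (iv5 F169670) D109688 D198605 (iv5 D142992) F102999 F49546
theorem F408499 : act 4 n198605 = n137981 := d18_5 (iv1 F169570) F100285 (iv1 F79966) D109688 D198605 (iv0 D137981) (iv4 D64851) D64850 F169575
theorem E103746 : n136955 = n136871 := (c20_5 (iv4 F93754) (iv1 F100068) F100065 D64372 D136955 (iv3 F408495) F408499 (iv1 F221237) F100697 F48891 (iv1 F48567))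
theorem F408500 : act 1 n136871 = n64372 := (sb E103746 (iv0 D136955))
def n198606 : Q := act 3 n109690
theorem D198606 : act 3 n109690 = n198606 := rfl
theorem F408501 : act 7 n198606 = n111609 := d8_2 F358440 D198606 (iv3 F174509)
theorem F408502 : act 4 n198606 = n111327 := d20_6 (iv4 D14332) (iv1 F19011) D24645 D50593 D109690 D198606 (iv1 D111327) (iv4 F99655) (iv3 D64064) (iv1 D30198)
theorem F408503 : act 2 n111604 = n198606 := d1_3 F408502 F355967 D111604
def n198607 : Q := act 5 n109692
theorem D198607 : act 5 n109692 = n198607 := rfl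
theorem F408504 : act 2 n198607 = n109693 := d2_1 D198607 (iv5 D109693) D109692
theorem F408505 : act 3 n198607 = n109716 := d6_1 D198607 (iv5 D109716) (iv3 F169678)
theorem F408506 : act 0 n198607 = n190326 := d17_2 (iv1 F174510) D198607 (iv5 D190326) (iv4 D95871) (iv5 D44761) D44760 D95867 F379376 F379373
theorem F408507 : act 1 n198607 = n198370 := d17_6 (iv1 F340720) F147114 (iv1 F70638) D96264 F337325 D198607 (iv5 D198370) (iv0 D109254) (iv4 F81322)
def n198608 : Q := act 1 n109693
theorem D198608 : act 1 n109693 = n198608 := rfl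
theorem F408508 : act 7 n198608 = n190326 := d15_2 F382090 D198608 (iv2 F382088)
theorem F408509 : act 5 n198608 = n111961 := d17_7 (iv1 F148066) F148063 (iv1 F70644) (iv5 F337310) F81610 D109693 D198608 F173988 (iv4 F340709)
theorem F408510 : act 3 n196686 = n198608 := d20_3 F407963 (iv1 F172205) (iv4 F401486) (iv1 D198608) F169679 F79969 (iv1 F162038) F162035 (iv3 F169318) D198418
theorem F408511 : act 2 n198370 = n198608 := d2_3 F408509 F357997 D198370
def n198609 : Q := act 0 n109695
theorem D198609 : act 0 n109695 = n198609 := rfl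
theorem F408512 : act 4 n198609 = n195444 := d20_0 (iv1 F403781) F403778 F209131 F95724 (iv3 F165821) F165822 D107501 D196969 F402480 D198609
theorem F408513 : act 6 n198609 = n184203 := d21_5 F81568 (iv1 F39553) D50594 D109695 D198609 F379040 (iv1 F379039) (iv5 D112024) (iv6 D51663) D51660
theorem F408514 : act 2 n109730 = n198609 := d3_3 F408513 F393806 (iv6 F393807)
theorem F408515 : act 7 n109731 = n198609 := d15_2 (iv0 D109730) D109731 (iv2 F408514)
def n198610 : Q := act 1 n109695
theorem D198610 : act 1 n109695 = n198610 := rfl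
theorem F408516 : act 1 n198610 = n109733 := d15_1 D198610 (iv7 D109733) (iv2 F169681)
theorem F408517 : act 7 n198610 = n109730 := d15_2 (iv0 D198609) D198610 F408514
theorem F408518 : act 4 n195445 = n198610 := d20_0 (iv1 D198610) F169682 (iv3 F401565) F402473 F331812 F104425 (iv1 F95718) (iv4 F167066) (iv3 F403777) (iv1 F403780)
theorem F408519 : act 3 n112126 = n198610 := d20_3 (iv4 F330034) (iv1 F348116) (iv4 F348112) (iv1 D198610) (iv3 F402480) (iv4 D196969) (iv1 F359501) F159242 (iv3 F159237) (iv1 F352794)
theorem F408520 : act 5 n198610 = n112125 := d6_2 D112126 F408519 (iv3 D112125)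
theorem F408521 : act 6 n198610 = n144497 := d7_2 (iv6 F348113) F408519 (iv3 D144497)
theorem F408522 : act 2 n109731 = n198610 := d4_3 F408517 F408514 (iv7 F408515)
theorem F408523 : act 1 n109733 = n198609 := d15_1 F408516 (iv7 F408515) F408522
def n198611 : Q := act 5 n109695
theorem D198611 : act 5 n109695 = n198611 := rfl
theorem F408524 : act 2 n198611 = n109732 := d2_1 D198611 (iv5 D109732) (iv2 F169681)
theorem F408525 : act 6 n198611 = n109698 := d12_2 D109695 D198611 (iv5 D109698) (iv6 D50595) D50594
def n198612 : Q := act 7 n109695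
theorem D198612 : act 7 n109695 = n198612 := rfl
theorem F408526 : act 2 n198612 = n109733 := d4_1 D198612 (iv7 D109733) (iv2 F169681)
theorem F408527 : act 4 n198612 = n196718 := d11_1 D198612 (iv7 D196718) (iv4 F169682)
theorem F408528 : act 1 n109731 = n198612 := d15_1 D109731 (iv7 D198612) F169681
theorem F408529 : act 1 n198612 = n109730 := d15_1 F408528 (iv7 F408517) (iv2 F408522)
def n198613 : Q := act 5 n109696
theorem D198613 : act 5 n109696 = n198613 := rfl
theorem F408530 : act 2 n198613 = n109737 := d2_1 D198613 (iv5 D109737) (iv2 F202526)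
theorem F408531 : act 3 n198613 = n180642 := d6_1 D198613 F362313 F351041
theorem F408532 : act 7 n198613 = n109742 := d13_2 (iv7 F202527) D198613 (iv5 D109742)
theorem F408533 : act 4 n198613 = n198138 := d18_5 (iv1 F169742) (iv4 F173175) (iv1 F173177) F169690 D198613 F406966 F268461 (iv0 F354542) (iv5 D109756)
def n198614 : Q := act 1 n109698
theorem D198614 : act 1 n109698 = n198614 := rfl
theorem F408534 : act 1 n198614 = n109747 := d15_1 D198614 (iv7 D109747) (iv2 F169684)
theorem F408535 : act 7 n198614 = n109744 := d15_2 (iv0 F169685) D198614 (iv2 F169728)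
theorem F408536 : act 5 n198614 = n111825 := d17_7 (iv1 F81364) F81354 (iv1 F48517) (iv5 F38647) (iv4 F79972) D109698 D198614 F173625 (iv4 D64507)
theorem F408537 : act 2 n109745 = n198614 := d2_3 F408536 F173622 F169730
theorem F408538 : act 6 n112026 = n198614 := d12_0 F408536 F173623 (iv5 F329422) (iv6 F289686) F354565
theorem F408539 : act 4 n198029 = n198614 := d16_2 F406985 F406981 F408536 (iv4 F202142) F202144 F165859 D137234 (iv7 F406426) F406423
theorem F408540 : act 3 n198614 = n111825 := d5_1 F408539 (iv4 F202142) F202141 (iv4 F168872) (iv3 F406558)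
def n198615 : Q := act 4 n109698
theorem D198615 : act 4 n109698 = n198615 := rfl
theorem F408541 : act 2 n198615 = n109746 := d1_1 D198615 (iv4 D109746) (iv2 F169684)
theorem F408542 : act 5 n198615 = n137242 := d9_2 D109698 D198615 (iv4 D137242) (iv5 D64502) (iv4 D30366) F48512 (iv4 F79992) (iv5 F169731) F361567 (iv5 D111114) F338258 (iv5 D64505) (iv4 D30368) (iv5 F38647) (iv4 F79972)
theorem F408543 : act 0 n198615 = n137266 := d18_2 (iv1 D198614) D198615 (iv4 D137266) (iv5 D64514) (iv4 D30371) D30370 D64510 F173624 (iv5 F408536)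
theorem F408544 : act 1 n198615 = n137230 := d18_6 (iv1 F219355) (iv4 D109701) (iv1 D50597) (iv4 F79972) D109698 D198615 (iv4 F340596) F340595 F220406
theorem F408545 : act 0 n144312 = n137202 := d21_4 D110953 (iv1 F361445) (iv5 D144311) D144312 F220352 D137230 (iv1 F408544) F408542 F361565 (iv1 F171998)
def n198616 : Q := act 7 n109698
theorem D198616 : act 7 n109698 = n198616 := rfl
theorem F408546 : act 2 n198616 = n109747 := d4_1 D198616 (iv7 D109747) (iv2 F169684)
theorem F408547 : act 3 n198616 = n174261 := d8_1 D198616 (iv7 F378082) F378083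
theorem F408548 : act 5 n198616 = n109699 := d13_1 D198616 (iv7 D109699) D109698
theorem F408549 : act 1 n109745 = n198616 := d15_1 D109745 (iv7 D198616) F169684
theorem F408550 : act 1 n198616 = n109744 := d15_1 F408549 (iv7 F408535) (iv2 F408537)
def n198617 : Q := act 3 n109700
theorem D198617 : act 3 n109700 = n198617 := rfl
theorem F408551 : act 4 n198617 = n113362 := d5_2 D109700 D198617 (iv3 D113362) (iv4 D52324) (iv3 F168197)
theorem F408552 : act 6 n198617 = n109920 := d7_2 (iv6 F169693) D198617 (iv3 D109920)
theorem F408553 : act 7 n198617 = n109755 := d8_2 (iv7 F169694) D198617 (iv3 D109755)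
theorem F408554 : act 0 n160819 = n198617 := d20_4 F127738 (iv1 F296740) D77177 D160819 (iv3 D198617) (iv4 D109700) (iv1 F79976) (iv4 F79992) (iv3 F326424) D82911
def n198618 : Q := act 5 n109700
theorem D198618 : act 5 n109700 = n198618 := rfl
theorem F408555 : act 2 n198618 = n109752 := d2_1 D198618 (iv5 D109752) (iv2 F169692)
theorem F408556 : act 7 n198618 = n109756 := d13_2 (iv7 F169694) D198618 (iv5 D109756)
theorem F408557 : act 1 n198618 = n176830 := d17_6 D51553 D111807 F173574 (iv5 F100573) D109700 D198618 F354541 (iv0 D111802) F81350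
theorem F408558 : act 0 n198618 = n176838 := d21_1 D198618 (iv5 F354539) (iv6 F175102) (iv1 D109290) (iv6 D50434) D50433 (iv1 F99653) (iv5 D64062) D64063 F169695
theorem F408559 : act 6 n198618 = n194879 := d21_3 (iv5 D136263) F169695 D198618 (iv1 F394860) (iv6 D194825) (iv5 D104621) (iv1 D48382) D48384 D104627 (iv1 F340598)
theorem F408560 : act 6 n160865 = n109756 := d14_5 (iv7 F408556) F408559 (iv7 F394862) (iv6 F394878) F394879
def n198619 : Q := act 3 n109701
theorem D198619 : act 3 n109701 = n198619 := rfl
theorem F408561 : act 4 n198619 = n126327 := d5_2 D109701 D198619 (iv3 D126327) (iv4 F168503) (iv3 F168502)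
theorem F408562 : act 6 n198619 = n189885 := d7_2 F408386 D198619 (iv3 F408385)
theorem F408563 : act 7 n198619 = n109751 := d8_2 (iv7 F169697) D198619 (iv3 D109751)
theorem F408564 : act 0 n198619 = n136273 := d20_4 F79992 (iv1 F79973) D109701 D198619 F349861 (iv4 F349864) (iv1 F351042) F351044 F351041 (iv1 F169688)
theorem F408565 : act 0 n160949 = n198619 := d20_4 (iv4 F361144) (iv1 F160658) D194873 F394828 (iv3 D198619) (iv4 D109701) (iv1 D50597) (iv4 F79972) (iv3 F169680) F337340
theorem F408566 : act 5 n198619 = n194881 := d17_1 F408565 (iv1 F394846) F394783 F393497 (iv5 F341912) (iv0 F341914) (iv5 F341916) (iv0 D160946) D160949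
theorem F408567 : act 2 n194851 = n198619 := d15_3 (iv0 F408565) (iv0 F394904) (iv7 F394906)
def n198620 : Q := act 5 n109701
theorem D198620 : act 5 n109701 = n198620 := rfl
theorem F408568 : act 2 n198620 = n109756 := d2_1 D198620 (iv5 D109756) (iv2 F169696)
theorem F408569 : act 3 n198620 = n194881 := d6_1 D198620 (iv5 F408566) (iv3 D198619)
theorem F408570 : act 7 n198620 = n109752 := d13_2 (iv7 F169697) D198620 (iv5 D109752)
theorem F408571 : act 0 n198620 = n176830 := d17_2 (iv1 F219355) D198620 F354541 F173549 D196997 (iv0 F402617) F221400 (iv0 F220360) F220359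
theorem F408572 : act 1 n198620 = n176838 := d17_6 (iv1 F81351) (iv5 F81352) F99648 F99647 D109701 D198620 (iv5 F354539) F173551 F100441
theorem F408573 : act 4 n176830 = n198137 := d18_1 F408571 (iv1 D198137) F365850 (iv5 D109737) D109736 F169722 (iv4 F99654) (iv0 F169698) D198620
theorem F408574 : act 6 n198620 = n166671 := d21_3 F220406 (iv1 F219355) D198620 (iv1 F262308) F382026 (iv5 D191056) F357977 (iv5 F220408) (iv6 D137267) D137265
theorem F408575 : act 2 n198137 = n170853 := d1_1 F408573 F268461 (iv2 F276207)
theorem F408576 : act 6 n198137 = n170851 := d10_2 D176830 F408573 F268458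
def n198621 : Q := act 3 n109702
theorem D198621 : act 3 n109702 = n198621 := rfl
theorem F408577 : act 5 n198621 = n130564 := d6_2 (iv5 F347153) D198621 F318272
theorem F408578 : act 4 n198621 = n113139 := d20_6 F48573 F49277 F49276 D50599 D109702 D198621 (iv1 D113139) F82570 (iv3 D30199) D30197
theorem F408579 : act 0 n198621 = n109714 := d20_1 (iv4 F408578) F325238 F324465 (iv1 F323175) (iv3 F324594) (iv4 D52384) D52381 (iv4 F176338) (iv3 F202688) (iv1 F202694)
theorem F408580 : act 6 n165766 = n198621 := d12_0 F408577 (iv6 D130564) D130563 F384250 F384249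
def n198622 : Q := act 4 n109702
theorem D198622 : act 4 n109702 = n198622 := rfl
theorem F408581 : act 2 n198622 = n197794 := d1_1 D198622 F405817 (iv2 F361864)
theorem F408582 : act 3 n198622 = n126951 := d5_1 D198622 (iv4 D126951) (iv3 F355461) (iv4 F408578) (iv3 D198621)
theorem F408583 : act 7 n198622 = n197791 := d11_2 F361863 D198622 F405810
theorem F408584 : act 0 n198622 = n197790 := d18_2 D109702 D198622 F405809 F225405 F102663 (iv0 F319189) (iv4 F110830) (iv0 F347149) F169357
theorem F408585 : act 0 n197780 = n198622 := d20_10 (iv4 D198622) (iv1 F174562) F174559 (iv3 F216944) (iv1 F216950) D198088 F406740 (iv1 F405770) (iv4 D197781) D197780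
def n198623 : Q := act 6 n109702
theorem D198623 : act 6 n109702 = n198623 := rfl
theorem F408586 : act 3 n198623 = n165766 := d7_1 D198623 F408580 (iv3 D198621)
theorem F408587 : act 5 n198623 = n178879 := d12_1 D198623 (iv6 D178879) (iv5 D85282) D85283 (iv5 F347153)
def n198624 : Q := act 3 n109703
theorem D198624 : act 3 n109703 = n198624 := rfl
theorem F408588 : act 4 n198624 = n197795 := d5_2 F169699 D198624 (iv3 D197795) (iv4 D108669) D108668
theorem F408589 : act 0 n198624 = n111604 := d20_4 (iv4 F405809) (iv1 D197790) F169699 D198624 F395692 F395691 (iv1 F355993) F342885 (iv3 F406768) F406770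
theorem F408590 : act 0 n111609 = n198624 := d20_4 F358424 D190320 F379373 F174509 (iv3 D198624) (iv4 F169699) F405772 F405773 F356966 F378725
theorem F408591 : act 6 n198624 = n158810 := d21_5 F378014 (iv1 F407229) (iv5 D198206) (iv6 F378713) F408590 (iv5 D158810) (iv1 F325190) F325193 D174271 (iv1 F378233)
def n198625 : Q := act 5 n109703
theorem D198625 : act 5 n109703 = n198625 := rfl
theorem F408592 : act 2 n198625 = n178883 := d2_1 D198625 F361862 F361865
theorem F408593 : act 7 n198625 = n178829 := d13_2 (iv7 F361866) D198625 (iv5 F361857)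
theorem F408594 : act 0 n198625 = n109726 := d17_2 (iv1 F174564) D198625 F169714 F81550 D108751 D197877 (iv5 F406779) (iv0 F223508) (iv4 F174559)
theorem F408595 : act 4 n198625 = n117075 := d17_4 D155738 F361869 (iv1 F174564) D198625 F225374 F225373 F102676 (iv0 F319189) (iv4 F110830)
theorem F408596 : act 6 n117073 = n198625 := d10_0 F408595 (iv6 D117075) D117073
theorem F408597 : act 1 n198625 = n178880 := d15_0 (iv0 D178880) D178883 (iv2 F408592)
def n198626 : Q := act 6 n109703
theorem D198626 : act 6 n109703 = n198626 := rfl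
theorem F408598 : act 2 n198626 = n137253 := d3_1 D198626 (iv6 F408271) F361865
theorem F408599 : act 3 n198626 = n158810 := d7_1 D198626 (iv6 F408591) (iv3 D198624)
theorem F408600 : act 4 n198626 = n197793 := d10_1 D198626 (iv6 D197793) F169699
theorem F408601 : act 5 n198626 = n111808 := d12_1 D198626 F173577 (iv5 F348127) F408596 (iv5 D198625)
theorem F408602 : act 7 n137251 = n198626 := d13_0 F408601 F173578 D137251
theorem F408603 : act 0 n198613 = n198626 := d17_2 D109696 D198613 F408601 (iv4 D111808) (iv5 F81352) D64692 (iv5 F100573) (iv0 D50596) (iv4 F79972)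
theorem F408604 : act 1 n109735 = n198626 := d18_8 F173579 (iv4 F161397) (iv1 F220395) (iv4 D137255) (iv5 F354532) (iv4 F268461) (iv0 F405615) F405612 F408601
theorem F408605 : act 0 n198611 = n198433 := d21_4 F365852 (iv1 D109697) D109698 (iv6 F408525) (iv6 D198433) (iv5 F347159) (iv1 F408597) (iv5 D198625) D198626 (iv1 F408604)
theorem F408606 : act 1 n198611 = n198438 := d15_1 (iv0 F408605) (iv7 D198438) (iv2 F407995)
theorem F408607 : act 5 n198473 = n198438 := d21_6 (iv5 D50447) (iv1 D24588) D24590 D50456 D109346 D198473 (iv1 F408606) (iv5 D198611) (iv6 D109695) (iv1 F79987)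
theorem F408608 : act 3 n198444 = n198473 := d6_3 F408607 F407999 (iv5 F408028)
theorem F408609 : act 6 n198562 = n198472 := d12_4 D198473 F408607 F408001 D198562 (iv5 D198472)
theorem F408610 : act 7 n198437 = n198473 := d13_0 F408607 (iv7 D198438) D198437
theorem F408611 : act 3 n198472 = n198564 := d7_1 F408609 (iv6 D198564) (iv3 F408348)
theorem F408612 : act 5 n198564 = n198470 := d6_2 D198472 F408611 (iv3 D198470)
theorem F408613 : act 6 n198470 = n198444 := d12_2 D198564 F408612 F408028 F169337 D109573
theorem F408614 : act 0 n198470 = n120015 := d21_7 (iv5 F394954) (iv1 F394959) (iv5 F381675) (iv6 F408086) (iv1 F408084) D198564 F408612 (iv5 F381649) (iv6 D190945) D190943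
theorem F408615 : act 4 n177050 = n198470 := d18_1 D177050 F408614 F189500 (iv5 F87497) (iv4 F189768) (iv0 F362751) (iv4 D177042) (iv0 D84380) D84382
theorem F408616 : act 3 n145128 = n177050 := d20_5 D120029 F207455 (iv4 F110894) (iv3 F244946) (iv1 F244949) F408615 F408614 F189500 F87397 D55233
def n198627 : Q := act 6 n109704
theorem D198627 : act 6 n109704 = n198627 := rfl
theorem F408617 : act 2 n198627 = n109705 := d3_1 D198627 (iv6 D109705) D109704
theorem F408618 : act 0 n190688 = n198627 := d21_4 (iv5 F354565) (iv1 D96386) D96388 D190688 (iv6 D198627) (iv5 F361856) F361858 (iv5 F347157) (iv6 F378068) (iv1 F380198)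
def n198628 : Q := act 0 n109705
theorem D198628 : act 0 n109705 = n198628 := rfl
theorem F408619 : act 3 n198628 = n190691 := d20_5 F173487 F166191 F101565 (iv3 F169700) D198628 F380615 (iv1 D147177) (iv4 F173483) F173482 D111783
theorem F408620 : act 7 n190688 = n198628 := d8_0 F408619 (iv7 D190691) (iv3 F380597)
def n198629 : Q := act 1 n109705
theorem D198629 : act 1 n109705 = n198629 := rfl
theorem F408621 : act 4 n144321 = n198629 := d20_6 (iv4 D50404) (iv1 F39180) (iv4 F81066) (iv3 F330484) (iv1 F103636) (iv3 F227052) (iv1 D198629) (iv4 F223521) F223520 (iv1 F166190)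
theorem F408622 : act 6 n190684 = n198629 := d21_3 (iv5 D189861) (iv1 F148354) D190684 (iv1 D198629) (iv6 D109705) (iv5 F169357) F347149 (iv5 F347158) (iv6 F344650) F378030
theorem F408623 : act 2 n198629 = n190688 := d3_1 F408622 (iv6 D190688) (iv2 F380577)
theorem F408624 : act 3 n198629 = n194914 := d7_1 F408622 (iv6 D194914) (iv3 F380578)
def n198630 : Q := act 5 n109705
theorem D198630 : act 5 n109705 = n198630 := rfl
theorem F408625 : act 3 n198630 = n109706 := d6_1 D198630 (iv5 D109706) (iv3 F169700)
theorem F408626 : act 6 n198630 = n144504 := d12_2 D109705 D198630 F227347 (iv6 F347152) F169357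
def n198631 : Q := act 0 n109706
theorem D198631 : act 0 n109706 = n198631 := rfl
theorem F408627 : act 5 n198631 = n198368 := d17_3 F166164 D109706 D198631 (iv4 D198368) (iv5 D109252) (iv0 D50414) F38556 (iv0 F161250) D51912
theorem F408628 : act 1 n109878 = n198631 := d15_0 (iv0 D198631) (iv7 F174298) F174297
theorem F408629 : act 3 n196174 = n198631 := d19_19 (iv1 F408628) (iv5 D109878) (iv4 F80268) F80267 D50886 D110350 (iv4 F332178) F330832 F330823 (iv5 D61664) (iv4 D29228) (iv3 F46871) F96190 F96189 (iv4 F55492) D51057 F164405 (iv5 F398282) (iv4 F399709)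
def n198632 : Q := act 1 n109706
theorem D198632 : act 1 n109706 = n198632 := rfl
theorem F408630 : act 1 n198632 = n109878 := d15_1 D198632 (iv7 F174576) F174575
theorem F408631 : act 5 n198632 = n112527 := d17_7 F395824 (iv5 D125944) F166191 F101566 F101565 D109706 D198632 (iv0 F348115) (iv4 F395823)
theorem F408632 : act 6 n157260 = n198632 := d21_3 (iv5 D178867) F316053 D157260 (iv1 D198632) (iv6 F408115) (iv5 D198467) F397198 (iv5 F397199) F379939 (iv1 F279025)
def n198633 : Q := act 4 n109706
theorem D198633 : act 4 n109706 = n198633 := rfl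
theorem F408633 : act 2 n198633 = n128577 := d1_1 D198633 (iv4 F336222) F174575
theorem F408634 : act 6 n198633 = n128573 := d10_2 F408115 D198633 (iv4 F408116)
theorem F408635 : act 7 n198633 = n112994 := d11_2 F174298 D198633 F336223
theorem F408636 : act 3 n112998 = n198633 := d8_3 F408635 F175969 D112998
def n198634 : Q := act 5 n109707
theorem D198634 : act 5 n109707 = n198634 := rfl
theorem F408637 : act 2 n198634 = n198453 := d2_1 D198634 F408073 F351033
theorem F408638 : act 3 n198634 = n195903 := d6_1 D198634 F398667 F395678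
theorem F408639 : act 4 n198634 = n116574 := d9_1 D198634 (iv5 D116574) F102801 (iv5 F223254) F330663 (iv5 D86313) (iv4 F132264) (iv5 F359068) (iv4 F330561) (iv5 D116572) F84752 (iv5 F181676) (iv4 F182039) F353463 F351034
theorem F408640 : act 7 n198634 = n198452 := d13_2 (iv7 F351032) D198634 F408066
theorem F408641 : act 0 n198634 = n198450 := d17_2 D109707 D198634 (iv5 D198450) F169338 (iv5 D69199) (iv0 D32182) D32185 (iv0 F78877) (iv4 F79979)
theorem F408642 : act 1 n198634 = n109728 := d17_6 F373736 F171347 D116670 F353463 F351034 D198634 F169717 D111996 (iv4 F373738)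
def n198635 : Q := act 6 n109710
theorem D198635 : act 6 n109710 = n198635 := rfl
theorem F408643 : act 3 n198635 = n109713 := d7_1 D198635 (iv6 D109713) D109710
theorem F408644 : act 4 n198635 = n125768 := d10_1 D198635 (iv6 D125768) (iv4 F169702)
theorem F408645 : act 5 n198635 = n128528 := d12_1 D198635 (iv6 D128528) (iv5 D60454) D60455 (iv5 F344591)
def n198636 : Q := act 5 n109713
theorem D198636 : act 5 n109713 = n198636 := rfl
theorem F408646 : act 3 n198636 = n128528 := d6_1 D198636 (iv5 F408645) F408643
theorem F408647 : act 6 n198636 = n128526 := d12_2 D109713 D198636 (iv5 D128526) (iv6 F328448) F171079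
def n198637 : Q := act 0 n109714
theorem D198637 : act 0 n109714 = n198637 := rfl
theorem F408648 : act 4 n198637 = n113138 := d18_3 (iv1 D147698) (iv4 F325238) D198637 (iv5 F390368) F390365 (iv0 F362588) F244742 D155757 (iv5 F345785)
theorem F408649 : act 6 n198637 = n174231 := d21_5 F320061 (iv1 D59860) D59862 (iv6 F325239) D198637 F362536 (iv1 F160487) (iv5 F378024) (iv6 D189860) (iv1 F148330)
def n198638 : Q := act 2 n109714
theorem D198638 : act 2 n109714 = n198638 := rfl
theorem F408650 : act 3 n198638 = n125763 := d0_2 D109714 D198638 F202279 (iv3 D112239) (iv2 F105375)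
theorem F408651 : act 4 n198638 = n147382 := d1_2 (iv4 F325238) D198638 F231099
theorem F408652 : act 5 n198638 = n193628 := d2_2 F362587 D198638 F390493
theorem F408653 : act 6 n198638 = n127421 := d3_2 (iv6 F325239) D198638 F204807
def n198639 : Q := act 6 n109718
theorem D198639 : act 6 n109718 = n198639 := rfl
theorem F408654 : act 2 n198639 = n193520 := d3_1 D198639 F390151 F171075
theorem F408655 : act 3 n198639 = n116985 := d7_1 D198639 F211356 (iv3 F349528)
theorem F408656 : act 4 n198639 = n189126 := d10_1 D198639 F375839 F359479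
theorem F408657 : act 5 n198639 = n174674 := d12_1 D198639 (iv6 D174674) (iv5 D83465) F326391 (iv5 F171076)
theorem F408658 : act 7 n198639 = n144059 := d14_2 F321246 D198639 (iv6 F357416) (iv7 F156411) D101861
theorem F408659 : act 0 n193617 = n174674 := d21_1 D193617 (iv5 F408657) (iv6 D198639) (iv1 F174587) (iv6 F352936) F352935 F352938 F215060 (iv6 F390428) F390430
theorem F408660 : act 0 n193517 = n198639 := d21_4 F389991 (iv1 F381976) F381566 (iv6 F390145) (iv6 D198639) F171076 (iv1 F81557) (iv5 F344552) D193960 (iv1 F391529)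
theorem F408661 : act 1 n193518 = n198639 := d15_0 (iv0 F408660) (iv7 F390146) (iv2 F390148)
def n198640 : Q := act 3 n109719
theorem D198640 : act 3 n109719 = n198640 := rfl
theorem F408662 : act 5 n198640 = n112004 := d6_2 (iv5 F169709) D198640 (iv3 D112004)
theorem F408663 : act 6 n198640 = n192122 := d7_2 F359476 D198640 (iv3 D192122)
theorem F408664 : act 7 n198640 = n198464 := d8_2 F171072 D198640 F408099
theorem F408665 : act 0 n130564 = n198640 := d17_0 F408662 F344704 (iv5 F158560) (iv4 F361851) (iv5 F350213) (iv0 F336621) (iv5 F336572) (iv0 D178939) (iv4 F318273)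
def n198641 : Q := act 0 n109720
theorem D198641 : act 0 n109720 = n198641 := rfl
theorem F408666 : act 5 n198641 = n193961 := d17_1 D198641 (iv1 D193961) (iv5 D102504) D102503 F344552 F81557 (iv5 F171076) (iv0 D109718) D109720
theorem F408667 : act 4 n198641 = n112040 := d18_1 D198641 (iv1 F174187) F344520 F344547 D186980 F368742 (iv4 F324390) F157860 (iv5 F344560)
theorem F408668 : act 2 n198524 = n198641 := d15_3 (iv0 D198641) F226166 (iv7 F408220)
theorem F408669 : act 1 n194080 = n198641 := d15_0 (iv0 D198641) (iv7 F174590) (iv2 F392002)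
theorem F408670 : act 7 n198641 = n198522 := d15_2 (iv0 F392005) F408669 F408211
def n198642 : Q := act 6 n109720
theorem D198642 : act 6 n109720 = n198642 := rfl
theorem F408671 : act 4 n198642 = n109721 := d10_1 D198642 (iv6 D109721) D109720
theorem F408672 : act 0 n198642 = n192468 := d21_10 (iv5 D192468) (iv1 D100197) (iv5 F153706) (iv6 D99830) (iv1 D46625) D46627 (iv5 F74861) D102644 (iv5 F344560) D198642
theorem F408673 : act 0 n194446 = n194376 := d20_4 (iv4 F408671) F408672 (iv4 F390851) (iv3 F393246) (iv3 D194376) F389916 (iv1 D193459) D193460 F389918 (iv1 F390602)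
theorem F408674 : act 1 n198642 = n192464 := d15_1 (iv0 F408672) F391227 F391223
def n198643 : Q := act 5 n109721
theorem D198643 : act 5 n109721 = n198643 := rfl
theorem F408675 : act 2 n198643 = n174277 := d2_1 D198643 F352925 (iv2 F352924)
theorem F408676 : act 3 n198643 = n109732 := d6_1 D198643 (iv5 D109732) (iv3 F169710)
theorem F408677 : act 6 n198643 = n109724 := d12_2 D109721 D198643 (iv5 D109724) (iv6 D50606) D50605
theorem F408678 : act 7 n198643 = n196850 := d13_2 F352926 D198643 (iv5 F402034)
theorem F408679 : act 0 n198643 = n193490 := d17_2 (iv1 F390602) D198643 (iv5 D193490) F156791 D101832 D193494 (iv5 F390060) (iv0 D137154) (iv4 F220252)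
theorem F408680 : act 4 n198643 = n174157 := d19_2 (iv1 F390602) D198643 F346359 (iv1 F164981) (iv5 F172338) (iv4 D111125) (iv3 F100234) F49716 D31503 F317148 (iv3 F185780) (iv1 F185783) D155904 F312335 F187454 F351794 D101756 D193460 F389918
theorem F408681 : act 0 n194834 = n198643 := d21_7 F171076 (iv1 F81557) (iv5 F344552) D193960 (iv1 F391529) F391458 (iv5 F394663) (iv5 D198643) (iv6 D109721) D109718
def n198644 : Q := act 2 n109726
theorem D198644 : act 2 n109726 = n198644 := rfl
theorem F408682 : act 3 n198644 = n198450 := d0_2 D109726 D198644 F408053 F169339 F79985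
theorem F408683 : act 5 n198644 = n111992 := d2_2 (iv5 F169714) D198644 (iv2 D111992)
theorem F408684 : act 7 n198644 = n178880 := d4_2 (iv7 F169715) D198644 (iv2 F347160)
theorem F408685 : act 1 n198644 = n178883 := d15_0 (iv0 F347167) (iv7 F169715) D198644
theorem F408686 : act 1 n178829 = n198644 := d15_0 F408685 (iv7 D178883) (iv2 F278692)
theorem F408687 : act 6 n198644 = n144509 := d21_3 (iv5 F347158) (iv1 F174064) (iv5 F408683) (iv1 D144509) (iv6 D67726) D67725 D144504 F227347 (iv6 F347152) F347149
def n198645 : Q := act 4 n109726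
theorem D198645 : act 4 n109726 = n198645 := rfl
theorem F408688 : act 3 n198645 = n132514 := d5_1 D198645 (iv4 F396788) F396786 F162057 D109726
theorem F408689 : act 7 n198645 = n145075 := d11_2 (iv7 F169715) D198645 F347168
theorem F408690 : act 5 n198645 = n127536 := d16_7 F348015 F406088 (iv4 D197878) (iv5 D108751) (iv4 F81550) (iv5 F169714) D198645 F348011 (iv2 F348014)
theorem F408691 : act 0 n140880 = n198645 := d20_10 (iv4 D198645) F347162 F130578 F60335 D39423 D85322 D178949 (iv1 F378709) F331029 (iv3 F223939)
theorem F408692 : act 6 n139847 = n198645 := d7_0 F408688 F333642 D139847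
def n198646 : Q := act 6 n109726
theorem D198646 : act 6 n109726 = n198646 := rfl
theorem F408693 : act 2 n198646 = n144509 := d3_1 D198646 (iv6 F408687) (iv2 D198644)
theorem F408694 : act 3 n198646 = n109727 := d7_1 D198646 (iv6 D109727) D109726
theorem F408695 : act 4 n198646 = n139847 := d10_1 D198646 F408692 (iv4 D198645)
theorem F408696 : act 0 n198646 = n117062 := d21_4 (iv5 F347157) (iv1 D111991) (iv5 F169714) D198646 (iv6 D117062) D117061 (iv1 F225281) (iv5 D142360) D142361 F361858
theorem F408697 : act 1 n198646 = n144511 := d15_1 (iv0 F408696) (iv7 D144511) (iv2 F183082)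
def n198647 : Q := act 0 n109727
theorem D198647 : act 0 n109727 = n198647 := rfl
def n198648 : Q := act 1 n109727
theorem D198648 : act 1 n109727 = n198648 := rfl
theorem F408698 : act 1 n198648 = n198459 := d15_1 D198648 (iv7 D198459) (iv2 F169716)
def n198649 : Q := act 5 n109727
theorem D198649 : act 5 n109727 = n198649 := rfl
theorem F408699 : act 2 n198649 = n198458 := d2_1 D198649 (iv5 D198458) (iv2 F169716)
theorem F408700 : act 6 n198649 = n111994 := d12_2 D109727 D198649 (iv5 D111994) (iv6 D51652) (iv5 F79984)
def n198650 : Q := act 7 n109727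
theorem D198650 : act 7 n109727 = n198650 := rfl
theorem F408701 : act 2 n198650 = n198459 := d4_1 D198650 (iv7 D198459) (iv2 F169716)
theorem F408702 : act 6 n198650 = n198441 := d14_1 D198650 (iv7 D198441) (iv6 D109311) F79986 D109727
theorem F408703 : act 1 n198459 = n198647 := d15_0 (iv0 D198647) D198650 F408701
theorem F408704 : act 1 n198457 = n198650 := d15_1 D198457 (iv7 D198650) F169716
theorem F408705 : act 1 n198650 = n198456 := d15_0 (iv0 D198456) D198459 (iv2 F408701)
def n198651 : Q := act 6 n109728
theorem D198651 : act 6 n109728 = n198651 := rfl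
theorem F408706 : act 3 n198651 = n109729 := d7_1 D198651 (iv6 D109729) D109728
theorem F408707 : act 4 n198651 = n156291 := d10_1 D198651 (iv6 F351403) (iv4 F180019)
def n198652 : Q := act 7 n109729
theorem D198652 : act 7 n109729 = n198652 := rfl
theorem F408708 : act 2 n198652 = n198441 := d4_1 D198652 (iv7 D198441) (iv2 F169719)
theorem F408709 : act 6 n198652 = n198459 := d14_1 D198652 (iv7 D198459) (iv6 D109320) (iv7 F79989) D109729
theorem F408710 : act 1 n193509 = n198652 := d15_1 (iv0 F390128) (iv7 D198652) F169719
theorem F408711 : act 1 n198652 = n198439 := d15_1 F408710 F408005 F393808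
def n198653 : Q := act 3 n109730
theorem D198653 : act 3 n109730 = n198653 := rfl
theorem F408712 : act 6 n198653 = n119189 := d7_2 (iv6 F393807) D198653 F393804
theorem F408713 : act 7 n198653 = n112126 := d8_2 F408517 D198653 F408519
theorem F408714 : act 4 n140875 = n198653 := d20_8 F408527 (iv1 F401589) (iv4 F397129) F340485 (iv1 D145414) (iv3 F331784) (iv4 D140878) D140875 (iv3 D198653) (iv1 F408529)
theorem F408715 : act 5 n198653 = n112094 := d18_4 F346891 (iv4 D140878) D140875 F408714 F202180 (iv0 F202181) (iv4 F174345) (iv0 D112136) D112138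
theorem F408716 : act 1 n198653 = n117073 := d18_6 (iv1 F318319) F339854 (iv1 F339859) (iv4 F320485) (iv5 F348059) F408714 (iv4 D117073) (iv0 D53950) D53952
theorem F408717 : act 0 n198653 = n117078 := d20_1 F408714 (iv4 D117078) F320587 F318337 (iv3 F50055) D68258 (iv1 F342440) (iv4 D66092) D66091 D140875
theorem F408718 : act 2 n112129 = n198653 := d2_3 F408715 (iv2 F174272) D112129
def n198654 : Q := act 4 n109730
theorem D198654 : act 4 n109730 = n198654 := rfl
theorem F408719 : act 2 n198654 = n195444 := d1_1 D198654 (iv4 F408512) (iv2 F408514)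
theorem F408720 : act 3 n198654 = n140990 := d5_1 D198654 (iv4 D140990) (iv3 F348058) F408714 (iv3 D198653)
theorem F408721 : act 6 n198654 = n145109 := d10_2 (iv6 F393807) D198654 (iv4 F393805)
theorem F408722 : act 7 n198654 = n195445 := d11_2 F408517 D198654 F408518
theorem F408723 : act 0 n195303 = n198654 := d20_10 (iv4 D198654) (iv1 F408529) F408527 F401587 (iv1 D196601) F165112 F78244 D49493 F162149 (iv3 F396639)
theorem F408724 : act 1 n195447 = n198654 := d15_0 (iv0 F408723) (iv7 F403779) F403776
def n198655 : Q := act 5 n109730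
theorem D198655 : act 5 n109730 = n198655 := rfl
theorem F408725 : act 3 n198655 = n112094 := d6_1 D198655 (iv5 F408715) (iv3 D198653)
theorem F408726 : act 6 n198655 = n189865 := d12_2 (iv6 F393807) D198655 F381219 F393099 (iv5 F393803)
theorem F408727 : act 7 n198655 = n112125 := d13_2 F408517 D198655 (iv5 F408520)
theorem F408728 : act 4 n111531 = n198655 := d11_3 F408727 F406510 F406508
def n198656 : Q := act 3 n109731
theorem D198656 : act 3 n109731 = n198656 := rfl
def n198657 : Q := act 4 n109731
theorem D198657 : act 4 n109731 = n198657 := rfl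
theorem F408729 : act 2 n198657 = n195445 := d1_1 D198657 F408518 (iv2 F408522)
theorem F408730 : act 7 n198657 = n195444 := d11_2 (iv7 F408515) D198657 (iv4 F408512)
theorem F408731 : act 5 n198657 = n163200 := d16_1 D198657 (iv4 D163200) F119633 (iv4 F129724) (iv5 F341340) F408728 (iv5 D198655) (iv7 F408517) (iv2 F408522)
theorem F408732 : act 1 n195303 = n198657 := d15_1 (iv0 F408723) F408730 (iv2 F408719)
theorem F408733 : act 1 n198657 = n195447 := d15_1 F408732 (iv7 D195447) (iv2 F396638)
theorem F408734 : act 0 n117033 = n198656 := d20_4 F165838 (iv1 F78427) D53938 D117033 (iv3 D198656) D198657 (iv1 F408732) F396640 (iv3 D117023) (iv1 F165841)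
theorem F408735 : act 5 n198656 = n174175 := d19_1 F408734 (iv4 D174175) F128331 F118804 (iv5 D75670) F298134 (iv3 F117056) (iv1 F61536) (iv5 F296282) D86502 D181132 F332905 F332903 F168924 F168067 (iv1 D49074) F41252 D53938 D117033
theorem F408736 : act 6 n116978 = n198656 := d12_0 F408735 F328758 D180630 (iv6 F365091) (iv5 F226839)
theorem F408737 : act 2 n198656 = n144082 := d3_1 F408736 (iv6 D144082) F182998
theorem F408738 : act 6 n195351 = n198657 := d3_0 F408729 F397006 F396804
def n198658 : Q := act 5 n109731
theorem D198658 : act 5 n109731 = n198658 := rfl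
theorem F408739 : act 2 n198658 = n112125 := d2_1 D198658 (iv5 F408520) (iv2 F408522)
theorem F408740 : act 3 n198658 = n174175 := d6_1 D198658 (iv5 F408735) (iv3 D198656)
theorem F408741 : act 4 n198658 = n174182 := d16_4 D163200 (iv5 F408731) (iv4 D198657) D198658 F405466 F405463 F339278 F353966 (iv2 D163199)
theorem F408742 : act 5 n198435 = n198612 := d17_1 D198435 (iv1 F408528) D198658 F408741 F405466 (iv0 F405467) (iv5 F351059) F360140 F223550
theorem F408743 : act 7 n198611 = n198435 := d13_0 F408742 (iv7 D198612) D198611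
theorem F408744 : act 6 n180629 = n198658 := d10_0 F408741 F365579 (iv4 F281165)
def n198659 : Q := act 6 n109731
theorem D198659 : act 6 n109731 = n198659 := rfl
theorem F408745 : act 2 n198659 = n144497 := d3_1 D198659 (iv6 F408521) (iv2 F408522)
theorem F408746 : act 3 n198659 = n116978 := d7_1 D198659 F408736 (iv3 D198656)
theorem F408747 : act 4 n198659 = n195351 := d10_1 D198659 F408738 (iv4 D198657)
theorem F408748 : act 7 n198659 = n144077 := d14_2 (iv7 F408515) D198659 F393798 (iv7 F393800) (iv6 F408513)
theorem F408749 : act 5 n144087 = n198659 := d21_2 (iv5 F397199) F379940 (iv6 D198659) (iv1 D109731) (iv6 D50609) (iv5 D24650) D24647 (iv5 F79828) D109343 F397198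
def n198660 : Q := act 1 n109732
theorem D198660 : act 1 n109732 = n198660 := rfl
theorem F408750 : act 1 n198660 = n198435 := d15_1 D198660 (iv7 F408743) F408524
theorem F408751 : act 7 n198660 = n198433 := d15_2 (iv0 F408272) D198660 F407995
theorem F408752 : act 2 n198438 = n198660 := d4_3 F408751 F407995 D198438
theorem F408753 : act 4 n198660 = n174144 := d1_2 (iv4 F408000) F408752 (iv2 F351057)
theorem F408754 : act 6 n198660 = n198561 := d3_2 (iv6 F408001) F408752 (iv2 D198561)
theorem F408755 : act 3 n174885 = n198660 := d7_3 F408754 F408346 F334712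
def n198661 : Q := act 4 n109732
theorem D198661 : act 4 n109732 = n198661 := rfl
theorem F408756 : act 3 n198661 = n196499 := d5_1 D198661 F400861 (iv3 F346359) (iv4 F408680) F408676
theorem F408757 : act 6 n198661 = n109746 := d10_2 (iv6 F169720) D198661 (iv4 D109746)
theorem F408758 : act 5 n198661 = n177517 := d16_5 F397132 (iv5 D195491) F162223 D109732 D198661 (iv4 D177517) D177518 (iv7 F353972) (iv2 F353971)
theorem F408759 : act 7 n196875 = n198661 := d14_0 F408757 (iv7 F361569) F172317 D125515 (iv6 F402118)
def n198662 : Q := act 7 n109732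
theorem D198662 : act 7 n109732 = n198662 := rfl
theorem F408760 : act 2 n198662 = n198435 := d4_1 D198662 (iv7 F408743) F408524
theorem F408761 : act 3 n198662 = n196850 := d8_1 D198662 (iv7 F408678) F408676
theorem F408762 : act 4 n198662 = n196875 := d11_1 D198662 F408759 (iv4 D198661)
theorem F408763 : act 5 n198662 = n109733 := d13_1 D198662 (iv7 D109733) D109732
theorem F408764 : act 1 n198438 = n198662 := d15_1 F408606 (iv7 D198662) (iv2 F408524)
theorem F408765 : act 1 n198662 = n198433 := d15_1 F408764 (iv7 F408751) (iv2 F408752)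
def n198663 : Q := act 0 n109735
theorem D198663 : act 0 n109735 = n198663 := rfl
theorem F408766 : act 5 n198663 = n111806 := d17_3 (iv1 F169683) (iv5 F365852) D198663 (iv4 D111806) D111807 (iv0 F173575) F99647 F79973 (iv4 F79992)
theorem F408767 : act 3 n198663 = n174232 := d20_5 F99654 (iv1 F169722) (iv4 D109736) D109735 D198663 (iv4 F364965) F364968 (iv4 F408561) (iv3 D198619) F169698
theorem F408768 : act 2 n137251 = n198663 := d15_3 (iv0 D198663) F408604 (iv7 F408602)
theorem F408769 : act 1 n198613 = n198663 := d15_0 (iv0 D198663) (iv7 F365853) (iv2 F408530)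
theorem F408770 : act 7 n198663 = n137253 := d15_2 (iv0 F408603) F408769 (iv2 F408598)
def n198664 : Q := act 6 n109735
theorem D198664 : act 6 n109735 = n198664 := rfl
theorem F408771 : act 3 n198664 = n109738 := d7_1 D198664 (iv6 D109738) D109735
theorem F408772 : act 4 n198664 = n124282 := d10_1 D198664 (iv6 F405613) F405612
theorem F408773 : act 5 n198664 = n198569 := d12_1 D198664 (iv6 D198569) D198568 F408353 (iv5 F365852)
theorem F408774 : act 0 n198664 = n166707 := d21_4 F169731 (iv1 F169683) (iv5 F365852) D198664 F364247 (iv5 F318883) (iv1 F354581) F354568 F354553 F169732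
theorem F408775 : act 3 n198569 = n198378 := d6_1 F408773 F407818 (iv3 F408771)
theorem F408776 : act 6 n198378 = n198566 := d7_2 D198569 F408775 (iv3 D198566)
theorem F408777 : act 7 n198498 = n198569 := d8_0 F408775 F407817 D198498
theorem F408778 : act 7 n198664 = n109903 := d13_2 F408777 (iv5 F408773) (iv5 F408159)
theorem F408779 : act 2 n198566 = n198503 := d3_1 F408776 (iv6 D198503) F407819
def n198665 : Q := act 5 n109736
theorem D198665 : act 5 n109736 = n198665 := rfl
theorem F408780 : act 2 n198665 = n125980 := d2_1 D198665 (iv5 D125980) (iv2 F202525)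
theorem F408781 : act 3 n198665 = n198231 := d6_1 D198665 (iv5 D198231) (iv3 F169723)
theorem F408782 : act 6 n198665 = n196047 := d12_2 F202920 D198665 (iv5 D196047) (iv6 F203296) F203293
theorem F408783 : act 0 n198665 = n137595 := d17_2 (iv1 F169722) D198665 F220757 (iv4 F173565) F354539 (iv0 F408558) (iv5 D198618) (iv0 F169695) F99654
theorem F408784 : act 1 n198665 = n196997 := d17_6 F166132 D137251 F220390 (iv5 D109737) D109736 D198665 (iv5 D196997) F170729 F80295
def n198666 : Q := act 6 n109737
theorem D198666 : act 6 n109737 = n198666 := rfl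
theorem F408785 : act 3 n198666 = n198568 := d7_1 D198666 F408353 F365851
theorem F408786 : act 4 n198666 = n198140 := d10_1 D198666 (iv6 D198140) F365850
theorem F408787 : act 5 n198666 = n198566 := d12_1 D198666 (iv6 F408776) F407818 (iv6 D109738) D109737
theorem F408788 : act 0 n198666 = n189867 := d21_4 (iv5 D50612) D50610 D109737 D198666 (iv6 D189867) (iv5 D95349) D95346 D189861 F378029 (iv1 D109745)
def n198667 : Q := act 5 n109740
theorem D198667 : act 5 n109740 = n198667 := rfl
theorem F408789 : act 2 n198667 = n180643 := d2_1 D198667 (iv5 F362313) (iv2 F359272)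
theorem F408790 : act 3 n198667 = n109742 := d6_1 D198667 (iv5 D109742) D109740
theorem F408791 : act 7 n198667 = n180642 := d13_2 (iv7 F353279) D198667 F362313
theorem F408792 : act 4 n198667 = n124487 := d16_4 (iv4 F166296) F346277 F353275 D198667 F336030 F100070 F48668 (iv7 F82569) F82566
theorem F408793 : act 0 n198667 = n159325 := d17_2 (iv1 F353280) D198667 F338791 (iv4 D177526) (iv5 F338793) (iv0 D107747) (iv5 F316305) (iv0 F336479) (iv4 F250823)
theorem F408794 : act 1 n198667 = n180645 := d17_8 (iv1 F336481) F320714 F100715 F338798 D177531 F345354 F353284 D198667 F281176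
def n198668 : Q := act 6 n109740
theorem D198668 : act 6 n109740 = n198668 := rfl
theorem F408795 : act 3 n198668 = n109743 := d7_1 D198668 (iv6 D109743) D109740
theorem F408796 : act 4 n198668 = n194849 := d10_1 D198668 (iv6 F394748) F353275
def n198669 : Q := act 6 n109741
theorem D198669 : act 6 n109741 = n198669 := rfl
theorem F408797 : act 2 n198669 = n145311 := d3_1 D198669 F228346 F202885
theorem F408798 : act 3 n198669 = n112781 := d7_1 D198669 F175580 F169725
theorem F408799 : act 4 n198669 = n109743 := d10_1 D198669 (iv6 D109743) D109741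
theorem F408800 : act 5 n198669 = n112779 := d12_1 D198669 (iv6 F221396) (iv5 D138224) D138225 F221400
theorem F408801 : act 7 n198669 = n126016 := d14_2 (iv7 F202528) D198669 (iv6 D126016) (iv7 F202489) F170707
theorem F408802 : act 0 n198669 = n197310 := d21_4 (iv5 F220757) F221402 F221400 D198669 F403917 F392577 (iv1 F175904) F175902 D125665 (iv1 F202145)
theorem F408803 : act 0 n197311 = n198669 := d21_1 D197311 F408800 (iv6 F221396) F221395 (iv6 D107465) (iv5 F111432) (iv1 F176290) (iv5 F217028) F217029 F176830
def n198670 : Q := act 4 n109742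
theorem D198670 : act 4 n109742 = n198670 := rfl
theorem F408804 : act 2 n198670 = n197747 := d1_1 D198670 F405612 F365854
theorem F408805 : act 3 n198670 = n124488 := d5_1 D198670 (iv4 D124488) D124487 (iv4 F408792) F408790
theorem F408806 : act 7 n198670 = n198138 := d11_2 F408532 D198670 (iv4 F408533)
theorem F408807 : act 0 n198670 = n198137 := d18_2 (iv1 F221403) D198670 (iv4 F408573) F354541 F173549 F170729 F80295 (iv0 F100439) D137253
theorem F408808 : act 1 n198670 = n160389 := d18_6 (iv1 F219356) (iv4 F220359) F220360 (iv4 D109741) D109742 D198670 (iv4 F365849) (iv0 F408558) (iv5 D198618)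
theorem F408809 : act 5 n196841 = n198670 := d6_0 F408805 (iv5 F402000) D196841
theorem F408810 : act 6 n160441 = n198670 := d3_0 F408804 F405613 F365919
def n198671 : Q := act 6 n109742
theorem D198671 : act 6 n109742 = n198671 := rfl
theorem F408811 : act 2 n198671 = n198664 := d3_1 D198671 (iv6 D198664) F365854
theorem F408812 : act 4 n198671 = n160441 := d10_1 D198671 F408810 (iv4 D198670)
theorem F408813 : act 0 n160899 = n198671 := d20_10 F408812 (iv1 F253438) (iv4 F254032) (iv3 F262331) (iv1 F262334) (iv3 F333998) F333999 F254415 F115964 D160899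
def n198672 : Q := act 3 n109745
theorem D198672 : act 3 n109745 = n198672 := rfl
theorem F408814 : act 2 n198672 = n198542 := d0_1 D198672 F408288 (iv2 F173622) (iv3 F408540) (iv2 F408537)
theorem F408815 : act 5 n198672 = n198542 := d6_2 F169730 D198672 F408288
theorem F408816 : act 6 n198672 = n194817 := d7_2 F378029 D198672 F394575
theorem F408817 : act 7 n198672 = n198541 := d8_2 (iv7 F169729) D198672 F408285
theorem F408818 : act 1 n177531 = n198672 := d15_1 F349880 F408817 F408284
theorem F408819 : act 1 n198542 = n180644 := d15_0 F408287 (iv7 F408817) F408814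
theorem F408820 : act 1 n198672 = n177526 := d15_0 F349881 D198542 (iv2 F408814)
def n198673 : Q := act 4 n109745
theorem D198673 : act 4 n109745 = n198673 := rfl
theorem F408821 : act 2 n198673 = n198029 := d1_1 D198673 F408539 (iv2 F408537)
theorem F408822 : act 6 n198673 = n198027 := d10_2 F378029 D198673 F406554
theorem F408823 : act 7 n198673 = n198543 := d11_2 (iv7 F169729) D198673 (iv4 D198543)
theorem F408824 : act 3 n196486 = n198673 := d20_5 (iv4 F400853) (iv1 D196498) F164976 (iv3 F164966) D196486 (iv4 D198673) (iv1 D109745) D109746 F361574 (iv1 F172013)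
def n198674 : Q := act 0 n109746
theorem D198674 : act 0 n109746 = n198674 := rfl
theorem F408825 : act 4 n198674 = n111804 := d18_3 (iv1 D109745) D109746 D198674 (iv5 D111804) F81350 D51554 D111808 (iv0 F173580) F169730
theorem F408826 : act 2 n137266 = n198674 := d1_3 F408825 F173552 D137266
theorem F408827 : act 7 n137230 = n198674 := d11_0 F408825 (iv7 F340594) F340596
theorem F408828 : act 5 n137231 = n198674 := d16_1 (iv4 F220376) F408825 (iv5 D111804) F81350 F39298 (iv4 F48507) D63955 D136022 F218863
def n198675 : Q := act 1 n109746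
theorem D198675 : act 1 n109746 = n198675 := rfl
theorem F408829 : act 7 n198675 = n137266 := d15_2 (iv0 D198674) D198675 F408826
theorem F408830 : act 2 n137230 = n198675 := d4_3 F408829 F408826 (iv7 F408827)
theorem F408831 : act 4 n137268 = n198675 := d11_3 F408829 (iv4 D137266) D137268
theorem F408832 : act 5 n136021 = n198675 := d16_7 F408825 (iv5 D111804) F81350 F39298 (iv4 F48507) D63955 D136021 F408829 F408826
theorem F408833 : act 6 n198675 = n194826 := d10_2 F340585 F408831 (iv4 D194826)
def n198676 : Q := act 3 n109750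
theorem D198676 : act 3 n109750 = n198676 := rfl
theorem F408834 : act 4 n198676 = n189815 := d5_2 (iv4 F169739) D198676 F377856 (iv4 D107515) (iv3 F165865)
theorem F408835 : act 6 n198676 = n189814 := d7_2 (iv6 F174625) D198676 F377854
theorem F408836 : act 7 n198676 = n136261 := d8_2 F169741 D198676 F219315
theorem F408837 : act 0 n198676 = n194892 := d20_4 (iv4 F169690) F202620 (iv4 F169739) D198676 F394894 F340359 (iv1 F337346) F174257 F169680 D109696
theorem F408838 : act 5 n137260 = n198676 := d21_2 (iv5 D137263) D137260 F408835 (iv1 F395239) F395237 (iv5 F402538) (iv1 D196981) D196982 F402540 F395133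
def n198677 : Q := act 5 n109750
theorem D198677 : act 5 n109750 = n198677 := rfl
theorem F408839 : act 2 n198677 = n137265 := d2_1 D198677 F220406 F219353
theorem F408840 : act 3 n198677 = n137260 := d6_1 D198677 F408838 (iv3 D198676)
theorem F408841 : act 7 n198677 = n136263 := d13_2 F169741 D198677 (iv5 D136263)
theorem F408842 : act 0 n198677 = n137268 := d17_2 D109750 D198677 F220409 F100441 F48802 F48514 (iv5 F79975) F79978 D50616
theorem F408843 : act 1 n198677 = n111804 := d17_6 (iv1 D110367) F80296 (iv1 F100429) D107510 (iv4 F169739) D198677 (iv5 D111804) D111803 F173565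
def n198678 : Q := act 5 n109754
theorem D198678 : act 5 n109754 = n198678 := rfl
theorem F408844 : act 2 n198678 = n137212 := d2_1 D198678 F220762 (iv2 F220760)
theorem F408845 : act 3 n198678 = n139293 := d6_1 D198678 F357630 F354545
theorem F408846 : act 7 n198678 = n137211 := d13_2 F219298 D198678 F220370
theorem F408847 : act 0 n198678 = n136015 := d17_2 (iv1 F219611) D198678 (iv5 D136015) F99487 D107510 (iv0 F202620) D125980 (iv0 F403929) F403927
theorem F408848 : act 1 n198678 = n136018 := d17_6 (iv1 F38655) (iv5 D24654) D24652 D50617 D109754 D198678 (iv5 D136018) F99489 F48797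
def n198679 : Q := act 2 n109755
theorem D198679 : act 2 n109755 = n198679 := rfl
theorem F408849 : act 3 n198679 = n194851 := d0_2 D109755 D198679 F408567 (iv3 D198619) F169696
theorem F408850 : act 6 n194850 = n198679 := d7_0 F408849 (iv6 D194851) D194850
theorem F408851 : act 0 n198679 = n160819 := d20_4 (iv4 F358419) F345765 (iv4 F394751) (iv3 F408849) (iv3 D160819) (iv4 D77177) (iv1 D35231) D35232 D77182 D160831
def n198680 : Q := act 5 n109755
theorem D198680 : act 5 n109755 = n198680 := rfl
theorem F408852 : act 3 n198680 = n109756 := d6_1 D198680 (iv5 D109756) D109755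
def n198681 : Q := act 6 n109755
theorem D198681 : act 6 n109755 = n198681 := rfl
theorem F408853 : act 2 n198681 = n194850 := d3_1 D198681 F408850 (iv2 D198679)
theorem F408854 : act 3 n198681 = n109757 := d7_1 D198681 (iv6 D109757) D109755
def n198682 : Q := act 4 n109756
theorem D198682 : act 4 n109756 = n198682 := rfl
def n198683 : Q := act 0 n109757
theorem D198683 : act 0 n109757 = n198683 := rfl
theorem F408855 : act 5 n198683 = n198425 := d17_1 D198683 (iv1 F407987) (iv5 D109580) (iv4 D50554) (iv5 F79817) F161295 D74500 (iv0 F161377) (iv4 F169748)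
theorem F408856 : act 6 n198683 = n194262 := d21_5 D137259 F220400 (iv5 D109756) D109757 D198683 (iv5 D194262) F158372 F321139 (iv6 F173555) (iv1 F173556)
theorem F408857 : act 2 n194267 = n198683 := d15_3 (iv0 D198683) F407765 F407763
theorem F408858 : act 1 n109918 = n198683 := d15_0 (iv0 D198683) (iv7 F408391) F408389
theorem E103747 : n198425 = n191000 := ((c12_5 F408856 (iv5 D194262) (iv6 F381837) (iv5 D190999) D191000 (iv5 F408855))).symm
theorem F408859 : act 0 n191000 = n109580 := (sb E103747 (iv1 F407987))
theorem F408860 : act 1 n191000 = n109303 := (sb E103747 (iv0 D198425))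
theorem F408861 : act 5 n191000 = n198683 := (sb E103747 (iv5 F408855))
def n198684 : Q := act 5 n109757
theorem D198684 : act 5 n109757 = n198684 := rfl
theorem F408862 : act 1 n198684 = n113649 := d17_6 F39423 F38620 D30296 (iv5 F79995) (iv4 F169748) D198684 (iv5 D113649) (iv0 F82848) F81536
def n198685 : Q := act 3 n109758
theorem D198685 : act 3 n109758 = n198685 := rfl
theorem F408863 : act 4 n198685 = n145640 := d5_2 F169751 D198685 (iv3 D145640) (iv4 D68270) (iv3 F93927)
theorem F408864 : act 6 n198685 = n137008 := d7_2 (iv6 F169753) D198685 (iv3 D137008)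
theorem F408865 : act 7 n198685 = n126784 := d8_2 (iv7 F169750) D198685 F204038
def n198686 : Q := act 5 n109758
theorem D198686 : act 5 n109758 = n198686 := rfl
theorem F408866 : act 2 n198686 = n137234 := d2_1 D198686 (iv5 D137234) (iv2 F169752)
theorem F408867 : act 7 n198686 = n126785 := d13_2 (iv7 F169750) D198686 (iv5 D126785)
theorem F408868 : act 0 n198686 = n137627 := d17_2 (iv1 F169749) D198686 (iv5 D137627) F100571 F81352 F81351 F48802 F48514 D63957
def n198687 : Q := act 0 n109760
theorem D198687 : act 0 n109760 = n198687 := rfl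
theorem F408869 : act 2 n137241 = n198687 := d15_3 (iv0 D198687) (iv0 F221408) F221407
theorem F408870 : act 1 n136024 = n198687 := d15_0 (iv0 D198687) F169758 (iv2 F218869)
theorem F408871 : act 7 n198687 = n137240 := d15_2 F221409 F408870 (iv2 F221406)
theorem F408872 : act 4 n196841 = n198687 := d20_6 F165545 (iv1 D49185) (iv4 F37908) (iv3 F78346) D107385 D196841 (iv1 F408870) F338260 F172008 (iv1 F80834)
theorem F408873 : act 1 n137213 = n196841 := d18_6 F168840 F168839 (iv1 F100430) (iv4 D64491) D64492 D137213 F408872 (iv0 D198687) (iv5 D109760)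
theorem F408874 : act 0 n137219 = n196841 := d20_10 F408872 (iv1 F408870) F338260 F172008 (iv1 F80834) D111118 (iv4 F180050) F401356 F401354 F361555
def n198688 : Q := act 5 n109773
theorem D198688 : act 5 n109773 = n198688 := rfl
def n198689 : Q := act 3 n109782
theorem D198689 : act 3 n109782 = n198689 := rfl
theorem F408875 : act 2 n198689 = n111559 := d0_1 D198689 (iv3 D111559) (iv2 F173103) (iv3 F172685) (iv2 F170021)
theorem F408876 : act 4 n198689 = n109784 := d5_2 D109782 D198689 (iv3 D109784) (iv4 D50631) D50630
theorem F408877 : act 6 n198689 = n198169 := d7_2 F323099 D198689 F407080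
theorem F408878 : act 7 n198689 = n112451 := d8_2 (iv7 F170020) D198689 (iv3 D112451)
theorem F408879 : act 0 n198689 = n197795 := d20_4 F323975 (iv1 F323088) D109782 D198689 (iv3 D197795) (iv4 D108669) (iv1 F330488) (iv4 F330492) (iv3 D110245) (iv1 F80196)
def n198690 : Q := act 3 n109838
theorem D198690 : act 3 n109838 = n198690 := rfl
theorem F408880 : act 2 n198690 = n154089 := d0_1 D198690 F384751 (iv2 F384750) F310556 F332931
theorem F408881 : act 4 n198690 = n109845 := d5_2 D109838 D198690 (iv3 D109845) (iv4 D50655) (iv3 F80014)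
theorem F408882 : act 5 n198690 = n123001 := d6_2 (iv5 F332927) D198690 (iv3 D123001)
theorem F408883 : act 6 n198690 = n155682 := d7_2 F217429 D198690 (iv3 F348153)
theorem F408884 : act 7 n198690 = n123279 := d8_2 F332932 D198690 F197568
theorem F408885 : act 0 n198690 = n171128 := d20_4 F336651 F168303 D109838 D198690 F268862 (iv4 F332007) (iv1 F389163) (iv4 D193201) F310330 (iv1 F299229)
theorem F408886 : act 1 n198690 = n171133 := d15_1 (iv0 F408885) (iv7 F384714) F384712
def n198691 : Q := act 2 n109845
theorem D198691 : act 2 n109845 = n198691 := rfl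
theorem F408887 : act 3 n198691 = n177055 := d0_2 D109845 D198691 (iv2 F350107) (iv3 D112211) F81707
theorem F408888 : act 4 n198691 = n154089 := d1_2 F408881 D198691 (iv2 F408880)
theorem F408889 : act 6 n198691 = n177054 := d3_2 F217432 D198691 (iv2 F366296)
theorem F408890 : act 0 n198691 = n167922 := d21_4 D116007 (iv1 F357373) F366297 (iv6 F408889) (iv6 D167922) F191355 (iv1 F191306) F89222 F313394 F332413
def n198692 : Q := act 4 n109854
theorem D198692 : act 4 n109854 = n198692 := rfl
theorem F408891 : act 2 n198692 = n118879 := d1_1 D198692 F186939 F314635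
theorem F408892 : act 3 n198692 = n137204 := d5_1 D198692 F382829 F382824 F244608 (iv3 F313708)
theorem F408893 : act 6 n198692 = n118730 := d10_2 (iv6 F313710) D198692 (iv4 D118730)
theorem F408894 : act 7 n198692 = n139755 := d11_2 (iv7 F209609) D198692 F222930
theorem F408895 : act 1 n137182 = n198692 := d15_1 (iv0 F408492) F408894 (iv2 F408489)
theorem F408896 : act 5 n198692 = n192925 := d21_6 (iv5 D46567) (iv1 F73547) (iv5 F153333) F339159 (iv1 F186764) (iv6 F408893) (iv1 D192925) (iv5 F364512) (iv6 D143291) F334869
theorem F408897 : act 3 n192925 = n155613 := d6_1 F408896 F382830 (iv3 F408892)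
def n198693 : Q := act 5 n109855
theorem D198693 : act 5 n109855 = n198693 := rfl
theorem F408898 : act 2 n198693 = n109856 := d2_1 D198693 (iv5 D109856) D109855
theorem F408899 : act 3 n198693 = n112132 := d6_1 D198693 F339847 (iv3 F169835)
theorem F408900 : act 6 n198693 = n116506 := d12_2 (iv6 F169836) D198693 F322186 (iv6 D85029) (iv5 F310017)
theorem F408901 : act 7 n198693 = n141046 := d13_2 (iv7 F169837) D198693 (iv5 D141046)
theorem F408902 : act 4 n198693 = n191895 := d16_6 D191897 F384730 F218889 D141171 (iv4 F353365) D198693 (iv5 D191895) F365686 (iv2 F307385)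
theorem F408903 : act 0 n198693 = n141049 := d21_1 D198693 F333269 F342557 (iv1 D151184) (iv6 D71251) F52148 (iv1 F55647) (iv5 F86468) D54715 F314633
theorem F408904 : act 0 n141048 = n198693 := d21_1 (iv5 F224051) (iv5 D198693) F169836 (iv1 F100783) (iv6 F312356) F232890 (iv1 D39451) (iv5 F318388) D66721 (iv1 F333274)
def n198694 : Q := act 3 n109861
theorem D198694 : act 3 n109861 = n198694 := rfl
theorem F408905 : act 2 n198694 = n198200 := d0_1 D198694 (iv3 D198200) (iv2 F405767) F405771 (iv2 F378721)
theorem F408906 : act 0 n198694 = n190592 := d20_4 (iv4 F231436) F395079 F395076 D198694 F380247 F377901 D195694 F397879 (iv3 F321386) F321385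
theorem F408907 : act 1 n198694 = n190593 := d15_1 (iv0 F408906) (iv7 F395489) F395488
def n198695 : Q := act 0 n109865
theorem D198695 : act 0 n109865 = n198695 := rfl
def n198696 : Q := act 1 n109865
theorem D198696 : act 1 n109865 = n198696 := rfl
theorem F408908 : act 1 n198696 = n109901 := d15_1 D198696 (iv7 D109901) (iv2 F169855)
def n198697 : Q := act 7 n109865
theorem D198697 : act 7 n109865 = n198697 := rfl
theorem F408909 : act 2 n198697 = n109901 := d4_1 D198697 (iv7 D109901) (iv2 F169855)
theorem F408910 : act 3 n198697 = n190627 := d8_1 D198697 (iv7 D190627) F344000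
theorem F408911 : act 4 n198697 = n125970 := d11_1 D198697 (iv7 D125970) (iv4 F169856)
theorem F408912 : act 5 n198697 = n190855 := d13_1 D198697 F381341 F378996
theorem F408913 : act 6 n198697 = n166529 := d14_1 D198697 (iv7 D166529) (iv6 F322543) F81614 D109865
theorem F408914 : act 1 n109901 = n198695 := d15_0 (iv0 D198695) D198697 F408909
theorem F408915 : act 1 n109899 = n198697 := d15_1 D109899 (iv7 D198697) F169855
theorem F408916 : act 0 n147683 = n197209 := d20_1 F358574 F403548 (iv3 F382249) (iv1 D191105) F150036 (iv4 F150037) F334470 (iv4 F380365) (iv3 F408910) (iv1 F408915)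
theorem F408917 : act 3 n127720 = n198695 := d20_3 F94399 D59962 D127720 (iv1 F408914) F368521 (iv4 F368522) (iv1 D186590) (iv4 F367340) F367339 (iv1 D127616)
theorem F408918 : act 7 n198695 = n109899 := d8_2 (iv7 F366434) F408917 (iv3 F358573)
theorem F408919 : act 2 n109899 = n198696 := d15_3 F408908 F408914 F408918
theorem F408920 : act 2 n198695 = n109898 := d15_3 (iv0 D109898) D109899 (iv7 F408918)
theorem F408921 : act 7 n109898 = n198696 := d4_2 (iv7 F408918) F408920 (iv2 F408919)
theorem F408922 : act 1 n198697 = n109898 := d15_1 F408915 F408921 (iv2 F408919)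
def n198698 : Q := act 3 n109866
theorem D198698 : act 3 n109866 = n198698 := rfl
theorem F408923 : act 4 n198698 = n126017 := d5_2 F169867 D198698 (iv3 D126017) (iv4 D59024) D59023
theorem F408924 : act 7 n198698 = n109907 := d8_2 (iv7 F202496) D198698 (iv3 D109907)
def n198699 : Q := act 4 n109868
theorem D198699 : act 4 n109868 = n198699 := rfl
theorem F408925 : act 2 n198699 = n109911 := d1_1 D198699 (iv4 D109911) (iv2 F169858)
theorem F408926 : act 0 n198699 = n198513 := d18_2 (iv1 F169859) D198699 (iv4 D198513) (iv5 D109369) (iv4 D50466) F79784 (iv4 F169232) F169236 D109353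
theorem F408927 : act 1 n198699 = n198510 := d18_6 (iv1 F244996) F169745 F83898 (iv4 F80027) D109868 D198699 (iv4 D198510) D198509 F408172
def n198700 : Q := act 7 n109868
theorem D198700 : act 7 n109868 = n198700 := rfl
theorem F408928 : act 2 n198700 = n109912 := d4_1 D198700 (iv7 D109912) (iv2 F169858)
theorem F408929 : act 5 n198700 = n109869 := d13_1 D198700 (iv7 D109869) D109868
theorem F408930 : act 1 n109910 = n198700 := d15_1 D109910 (iv7 D198700) F169858
theorem F408931 : act 1 n198700 = n109909 := d15_1 F408930 F170703 (iv2 F170700)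
def n198701 : Q := act 5 n109870
theorem D198701 : act 5 n109870 = n198701 := rfl
theorem F408932 : act 2 n198701 = n109917 := d2_1 D198701 (iv5 D109917) (iv2 F169877)
theorem F408933 : act 7 n198701 = n109921 := d13_2 (iv7 F169878) D198701 (iv5 D109921)
def n198702 : Q := act 4 n109871
theorem D198702 : act 4 n109871 = n198702 := rfl
theorem F408934 : act 2 n198702 = n111335 := d1_1 D198702 F174289 (iv2 F230602)
def n198703 : Q := act 6 n109871
theorem D198703 : act 6 n109871 = n198703 := rfl
theorem F408935 : act 3 n198703 = n177582 := d7_1 D198703 F336521 F320040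
theorem F408936 : act 0 n198703 = n198658 := d21_10 (iv5 D198658) (iv1 D109731) D109732 F169720 D109744 F354552 (iv5 F169904) (iv1 F320034) F320036 D198703
theorem F408937 : act 0 n198655 = n198703 := d21_4 (iv5 F382771) (iv1 F382775) (iv5 F381219) (iv6 F408726) (iv6 D198703) (iv5 F320036) F320033 F205316 (iv6 F380194) (iv1 F380197)
def n198704 : Q := act 4 n109872
theorem D198704 : act 4 n109872 = n198704 := rfl
theorem F408938 : act 3 n198704 = n111339 := d5_1 D198704 F361211 (iv3 F387534) F387536 F378251
theorem F408939 : act 7 n198704 = n111335 := d11_2 (iv7 F230604) D198704 F174289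
theorem F408940 : act 0 n198704 = n111608 := d20_4 F171975 D144327 (iv4 F361211) (iv3 F408938) (iv3 D111608) D111609 F408590 F408588 (iv3 D197795) (iv1 F348799)
theorem F408941 : act 1 n198702 = n111608 := d15_0 (iv0 F408940) F408939 (iv2 F408934)
def n198705 : Q := act 6 n109872
theorem D198705 : act 6 n109872 = n198705 := rfl
theorem F408942 : act 2 n198705 = n166707 := d3_1 D198705 F364247 F230603
theorem F408943 : act 0 n198671 = n198705 := d21_4 F408548 (iv1 F169689) D109742 D198671 (iv6 D198705) (iv5 F377991) (iv1 F377993) F169904 (iv6 F354552) (iv1 F408550)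
def n198706 : Q := act 4 n109874
theorem D198706 : act 4 n109874 = n198706 := rfl
theorem F408944 : act 0 n198706 = n198170 := d17_0 F407087 (iv1 F373712) (iv5 D188497) (iv4 F360145) (iv5 F225903) F225905 (iv5 F174302) F174305 D198706
theorem F408945 : act 1 n198706 = n112413 := d18_6 (iv1 F319625) (iv4 F94395) (iv1 F184460) D142739 (iv5 F225648) D198706 F174897 (iv0 F379382) (iv5 D190321)
theorem F408946 : act 6 n198706 = n120970 := d21_5 (iv5 F323617) (iv1 D161331) D161333 F323212 (iv1 F408945) F345360 (iv1 F209390) F323631 (iv6 F322696) F322694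
def n198707 : Q := act 6 n109874
theorem D198707 : act 6 n109874 = n198707 := rfl
theorem F408947 : act 4 n198707 = n120970 := d10_1 D198707 (iv6 F408946) (iv4 D198706)
theorem F408948 : act 0 n109907 = n198707 := d21_4 (iv5 D180644) D180642 F362313 (iv6 F360142) (iv6 D198707) F225648 F225646 (iv5 F169498) D198541 (iv1 F408287)
def n198708 : Q := act 6 n109876
theorem D198708 : act 6 n109876 = n198708 := rfl
theorem F408949 : act 2 n198708 = n109877 := d3_1 D198708 (iv6 D109877) D109876
theorem F408950 : act 0 n198708 = n155086 := d21_4 (iv5 F228560) F228561 F224375 D198708 F243903 (iv5 F347485) (iv1 F289644) (iv5 F348563) (iv6 D111829) D111826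
theorem F408951 : act 1 n198708 = n178833 := d15_1 (iv0 F408950) (iv7 F366125) F366126
def n198709 : Q := act 1 n109877
theorem D198709 : act 1 n109877 = n198709 := rfl
theorem F408952 : act 7 n198709 = n155086 := d15_2 (iv0 F355021) D198709 (iv2 F366126)
theorem F408953 : act 4 n198709 = n124982 := d18_7 (iv1 F255152) (iv4 F312660) F312659 (iv4 F309289) (iv5 F348548) F170602 D198709 F345379 F345359
theorem F408954 : act 2 n178833 = n198709 := d1_3 F408953 F200753 D178833
def n198710 : Q := act 5 n109877
theorem D198710 : act 5 n109877 = n198710 := rfl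
theorem F408955 : act 3 n198710 = n109878 := d6_1 D198710 (iv5 D109878) (iv3 F169880)
theorem F408956 : act 4 n198710 = n138935 := d16_4 (iv4 F309289) (iv5 F348548) F170602 D198710 (iv5 D138935) (iv4 F100978) (iv5 F222373) (iv7 F245864) F309275
theorem F408957 : act 0 n180641 = n198710 := d21_7 F225648 F225646 (iv5 F169498) D198541 (iv1 F408287) (iv6 F345357) (iv5 F362310) (iv5 D198710) (iv6 D109877) D109874
def n198711 : Q := act 4 n109878
theorem D198711 : act 4 n109878 = n198711 := rfl
theorem F408958 : act 2 n198711 = n112994 := d1_1 D198711 F336223 F174297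
theorem F408959 : act 3 n198711 = n128582 := d5_1 D198711 (iv4 F226902) (iv3 F340016) (iv4 F408956) F408955
theorem F408960 : act 6 n198711 = n112990 := d10_2 F408312 D198711 (iv4 F408313)
theorem F408961 : act 7 n198711 = n128577 := d11_2 F174576 D198711 (iv4 F336222)
theorem F408962 : act 5 n198711 = n198633 := d16_1 D198711 (iv4 D198633) (iv5 D109706) (iv4 F101565) F101566 F101565 D109706 (iv7 F174298) F174297
def n198712 : Q := act 5 n109882
theorem D198712 : act 5 n109882 = n198712 := rfl
theorem F408963 : act 3 n198712 = n196198 := d6_1 D198712 F399834 F378064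
def n198713 : Q := act 3 n109887
theorem D198713 : act 3 n109887 = n198713 := rfl
theorem F408964 : act 4 n198713 = n109896 := d5_2 D109887 D198713 (iv3 D109896) (iv4 D50682) (iv3 F80036)
theorem F408965 : act 5 n198713 = n192196 := d6_2 F344558 D198713 (iv3 D192196)
theorem F408966 : act 6 n198713 = n187085 := d7_2 F362580 D198713 (iv3 D187085)
theorem F408967 : act 7 n198713 = n193957 := d8_2 F349497 D198713 F391513
def n198714 : Q := act 6 n109896
theorem D198714 : act 6 n109896 = n198714 := rfl
theorem F408968 : act 3 n198714 = n109897 := d7_1 D198714 (iv6 D109897) D109896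
theorem F408969 : act 4 n198714 = n187085 := d10_1 D198714 (iv6 F408966) F408964
def n198715 : Q := act 1 n109897
theorem D198715 : act 1 n109897 = n198715 := rfl
theorem F408970 : act 1 n198715 = n125970 := d15_1 D198715 (iv7 D125970) (iv2 F169909)
theorem F408971 : act 7 n198715 = n125967 := d15_2 (iv0 F358572) D198715 F342263
theorem F408972 : act 2 n125968 = n198715 := d4_3 F408971 F342263 (iv7 F342268)
theorem F408973 : act 3 n147845 = n198715 := d8_3 F408971 F342264 F347649
theorem F408974 : act 0 n187085 = n175408 := d20_7 D176086 (iv1 F347658) F357767 F408973 (iv1 D198715) (iv3 F408968) F408969 F274460 F128795 D84003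
def n198716 : Q := act 5 n109897
theorem D198716 : act 5 n109897 = n198716 := rfl
theorem F408975 : act 2 n198716 = n125969 := d2_1 D198716 (iv5 D125969) (iv2 F169909)
theorem F408976 : act 6 n198716 = n125954 := d12_2 D109897 D198716 (iv5 D125954) (iv6 D58974) (iv5 F80046)
theorem F408977 : act 4 n198716 = n140469 := d16_2 (iv4 F169910) D198716 F406099 (iv4 F394624) F394625 (iv4 F381342) (iv5 F408912) (iv7 D198697) F169855
theorem F408978 : act 5 n148665 = n198715 := d17_1 D148665 (iv1 D198715) D198716 F408977 F406099 (iv0 F407675) (iv5 F406972) (iv0 F366600) F231677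
theorem F408979 : act 0 n198716 = n154612 := d21_7 (iv5 D54824) D54822 (iv5 F303649) F309692 F82027 D109897 D198716 (iv5 D154612) F308644 (iv1 F301494)
theorem F408980 : act 6 n161832 = n148665 := d21_5 (iv5 F327228) F161387 D145703 F323461 (iv1 F337582) F408978 (iv1 D198715) D198716 F408976 (iv1 F326494)
theorem F408981 : act 3 n148665 = n193458 := d7_1 F408980 (iv6 D193458) F362749
def n198717 : Q := act 7 n109897
theorem D198717 : act 7 n109897 = n198717 := rfl
theorem F408982 : act 2 n198717 = n125970 := d4_1 D198717 (iv7 D125970) (iv2 F169909)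
theorem F408983 : act 4 n198717 = n109901 := d11_1 D198717 (iv7 D109901) (iv4 F169910)
theorem F408984 : act 6 n198717 = n166457 := d14_1 D198717 F262012 (iv6 F322542) F81646 D109897
theorem F408985 : act 1 n125968 = n198717 := d15_1 D125968 (iv7 D198717) F169909
theorem F408986 : act 1 n198717 = n125967 := d15_1 F408985 (iv7 F408971) (iv2 F408972)
def n198718 : Q := act 3 n109898
theorem D198718 : act 3 n109898 = n198718 := rfl
def n198719 : Q := act 4 n109898
theorem D198719 : act 4 n109898 = n198719 := rfl
def n198720 : Q := act 5 n109898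
theorem D198720 : act 5 n109898 = n198720 := rfl
theorem F408987 : act 0 n198720 = n190146 := d17_2 D109898 D198720 (iv5 D190146) F347831 F130725 (iv0 F358571) (iv5 D147812) (iv0 F358572) F169910
def n198721 : Q := act 5 n109899
theorem D198721 : act 5 n109899 = n198721 := rfl
theorem F408988 : act 1 n198721 = n190146 := d17_8 F392212 F369660 D194886 F394856 (iv4 F381615) (iv5 D109900) D109899 D198721 F392211
def n198722 : Q := act 0 n109900
theorem D198722 : act 0 n109900 = n198722 := rfl
theorem F408989 : act 5 n198722 = n184193 := d21_2 D109900 D198722 (iv6 D184193) (iv1 D87854) D87856 D184197 (iv1 F386270) F386271 (iv6 F358575) (iv1 D109899)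
theorem F408990 : act 6 n198722 = n190809 := d21_5 F169865 (iv1 D50685) D50686 (iv6 F169911) D198722 (iv5 D190809) F289552 D96998 D190867 (iv1 F381392)
def n198723 : Q := act 1 n109900
theorem D198723 : act 1 n109900 = n198723 := rfl
theorem F408991 : act 1 n198723 = n190855 := d15_1 D198723 F381341 F378995
theorem F408992 : act 5 n198723 = n190842 := d18_9 (iv1 F381293) F378974 (iv1 D154610) (iv4 F310752) D95748 D190227 F379127 (iv4 F381615) D198723
def n198724 : Q := act 7 n109900
theorem D198724 : act 7 n109900 = n198724 := rfl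
theorem F408993 : act 2 n198724 = n190855 := d4_1 D198724 F381341 F378995
theorem F408994 : act 3 n198724 = n190920 := d8_1 D198724 F381551 (iv3 F365914)
theorem F408995 : act 5 n198724 = n109901 := d13_1 D198724 (iv7 D109901) D109900
theorem F408996 : act 1 n190855 = n198722 := d15_0 (iv0 D198722) D198724 F408993
def n198725 : Q := act 1 n109903
theorem D198725 : act 1 n109903 = n198725 := rfl
def n198726 : Q := act 2 n109903
theorem D198726 : act 2 n109903 = n198726 := rfl
theorem F408997 : act 4 n198726 = n124281 := d1_2 F173121 D198726 (iv2 F365918)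
theorem F408998 : act 7 n198726 = n198671 := d4_2 F408778 D198726 F408811
theorem F408999 : act 1 n198726 = n166707 := d15_0 (iv0 F408774) F408778 D198726
theorem E103748 : n198725 = n198705 := (c15_1 D198725 (iv0 F408943) (iv7 F408998) (iv2 D198726))
theorem F409000 : act 0 n198705 = n109903 := (sb E103748 (iv1 D198725))
theorem F409001 : act 0 n198498 = n190089 := d21_1 (iv5 F408159) (iv5 F380648) (iv6 D190698) F380196 F380194 (iv5 F205316) (iv1 F377992) F377991 D198705 F409000
def n198727 : Q := act 6 n109903
theorem D198727 : act 6 n109903 = n198727 := rfl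
theorem F409002 : act 3 n198727 = n109905 := d7_1 D198727 (iv6 D109905) D109903
theorem F409003 : act 7 n198727 = n198666 := d14_2 F408778 D198727 (iv6 D198666) F365853 D198664
def n198728 : Q := act 1 n109907
theorem D198728 : act 1 n109907 = n198728 := rfl
theorem F409004 : act 4 n198728 = n120971 := d18_7 (iv1 D63250) (iv4 F98486) (iv1 F342186) (iv4 F203971) (iv5 F407059) F407058 D198728 (iv0 F333836) (iv5 D134620)
theorem F409005 : act 3 n166668 = n198728 := d20_5 (iv4 D35240) F28599 D36436 D79994 D166668 F409004 (iv1 D120971) D120973 F192936 (iv1 F115770)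
def n198729 : Q := act 2 n109907
theorem D198729 : act 2 n109907 = n198729 := rfl
theorem F409006 : act 3 n198729 = n198671 := d0_2 D109907 D198729 F408811 F408771 F202533
theorem F409007 : act 6 n198729 = n198667 := d3_2 (iv6 F360142) D198729 F408789
def n198730 : Q := act 3 n109909
theorem D198730 : act 3 n109909 = n198730 := rfl
theorem F409008 : act 5 n198730 = n197941 := d6_2 (iv5 F170702) D198730 F406251
theorem F409009 : act 7 n198730 = n198485 := d8_2 (iv7 F170703) D198730 F408138
def n198731 : Q := act 4 n109909
theorem D198731 : act 4 n109909 = n198731 := rfl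
theorem F409010 : act 2 n198731 = n198495 := d1_1 D198731 (iv4 D198495) F170701
theorem F409011 : act 7 n198731 = n198486 := d11_2 (iv7 F170703) D198731 (iv4 D198486)
theorem F409012 : act 0 n198731 = n190883 := d18_2 D109909 D198731 (iv4 F408174) F408172 F244995 F202923 (iv4 F169876) (iv0 D50684) D50686
def n198732 : Q := act 6 n109909
theorem D198732 : act 6 n109909 = n198732 := rfl
theorem F409013 : act 2 n198732 = n198496 := d3_1 D198732 (iv6 D198496) F170701
def n198733 : Q := act 3 n109910
theorem D198733 : act 3 n109910 = n198733 := rfl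
theorem F409014 : act 5 n198733 = n198375 := d6_2 (iv5 F169916) D198733 (iv3 D198375)
theorem F409015 : act 7 n198733 = n198492 := d8_2 F170663 D198733 F408148
def n198734 : Q := act 4 n109910
theorem D198734 : act 4 n109910 = n198734 := rfl
theorem F409016 : act 2 n198734 = n198486 := d1_1 D198734 (iv4 D198486) (iv2 F170700)
theorem F409017 : act 7 n198734 = n198495 := d11_2 F170663 D198734 (iv4 D198495)
theorem F409018 : act 1 n198734 = n190883 := d18_6 (iv1 F168381) F162031 (iv1 F170669) F169235 (iv5 F169916) D198734 (iv4 F408174) F408170 (iv5 D109369)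
theorem F409019 : act 6 n198734 = n109910 := d21_5 (iv5 F381191) F381189 F367252 D190883 (iv1 F409018) F169916 (iv1 F169233) (iv5 F169365) (iv6 F381374) F381377
theorem E103749 : n198487 = n198486 := (c3_3 F409019 F170700 D198487 (iv2 F409016))
theorem F409020 : act 6 n198486 = n109353 := (sb E103749 (iv6 D198487))
def n198735 : Q := act 0 n109911
theorem D198735 : act 0 n109911 = n198735 := rfl
theorem F409021 : act 4 n198735 = n198381 := d18_3 (iv1 D109910) D109911 D198735 (iv5 D198381) (iv4 D109265) F79779 (iv4 F79830) F169233 (iv5 F169916)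
theorem F409022 : act 2 n198513 = n198735 := d1_3 F409021 F407824 D198513
theorem F409023 : act 7 n198510 = n198735 := d11_0 F409021 F407825 D198510
theorem F409024 : act 1 n109911 = n194903 := d15_1 (iv0 D198735) F408183 F409022
def n198736 : Q := act 3 n109911
theorem D198736 : act 3 n109911 = n198736 := rfl
theorem F409025 : act 4 n198736 = n160644 := d5_2 D109911 D198736 F253755 (iv4 F115962) F326402
theorem F409026 : act 0 n198736 = n194765 := d20_4 (iv4 D198734) (iv1 D109910) D109911 D198736 (iv3 D194765) D194766 F394379 F379339 (iv3 F381444) (iv1 F409018)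
def n198737 : Q := act 5 n109911
theorem D198737 : act 5 n109911 = n198737 := rfl
theorem F409027 : act 7 n198737 = n135529 := d13_2 F379155 D198737 (iv5 F379152)
theorem F409028 : act 4 n198737 = n135530 := d16_2 D109911 D198737 F217945 F99084 (iv5 F80030) (iv4 F169862) (iv5 F408929) (iv7 D198700) F169858
def n198738 : Q := act 3 n109915
theorem D198738 : act 3 n109915 = n198738 := rfl
theorem F409029 : act 4 n198738 = n113464 := d5_2 (iv4 F169926) D198738 F176647 F82744 (iv3 F93338)
theorem F409030 : act 6 n198738 = n194866 := d7_2 (iv6 F174348) D198738 (iv3 F394804)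
theorem F409031 : act 7 n198738 = n113456 := d8_2 F169928 D198738 F176641
def n198739 : Q := act 5 n109915
theorem D198739 : act 5 n109915 = n198739 := rfl
theorem F409032 : act 2 n198739 = n198509 := d2_1 D198739 F408172 F244994
theorem F409033 : act 7 n198739 = n126184 := d13_2 F169928 D198739 (iv5 D126184)
theorem F409034 : act 0 n198739 = n198380 := d17_2 D109915 D198739 (iv5 D198380) (iv4 D109264) F79778 F48337 (iv5 F80030) F80033 D50690
theorem F409035 : act 1 n198739 = n198381 := d17_6 (iv1 F169872) F169363 F175227 F163803 (iv4 F169926) D198739 (iv5 D198381) F392590 F392588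
def n198740 : Q := act 6 n109917
theorem D198740 : act 6 n109917 = n198740 := rfl
def n198741 : Q := act 5 n109918
theorem D198741 : act 5 n109918 = n198741 := rfl
theorem F409036 : act 3 n198741 = n187269 := d6_1 D198741 (iv5 F369666) F340614
theorem F409037 : act 0 n198741 = n113649 := d21_1 D198741 (iv5 D113649) (iv6 D52471) F40263 D51559 (iv5 F321138) D103084 D194262 (iv6 F408856) (iv1 F408858)
def n198742 : Q := act 5 n109920
theorem D198742 : act 5 n109920 = n198742 := rfl
theorem F409038 : act 3 n198742 = n109921 := d6_1 D198742 (iv5 D109921) D109920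
theorem F409039 : act 4 n198742 = n133376 := d16_4 (iv4 F364798) F364822 F202299 D198742 (iv5 D133376) F97612 F82382 D112701 F175395
theorem F409040 : act 0 n160856 = n198742 := d19_0 (iv5 D198742) (iv4 F202299) (iv3 D125786) (iv1 D58900) D58901 (iv4 F332792) (iv3 F168009) (iv1 F176306) F176303 (iv4 F326783) (iv3 D78575) (iv1 D35793) (iv5 F43514) (iv4 F88440) (iv3 D55898) F327202 (iv5 F327204) (iv4 F115968) (iv3 F254018)
theorem F409041 : act 6 n198742 = n133382 := d21_5 (iv5 D45411) D45409 D97160 (iv6 F353179) F409040 (iv5 F394890) (iv1 F394893) F381684 F381685 (iv1 D97166)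
def n198743 : Q := act 6 n109921
theorem D198743 : act 6 n109921 = n198743 := rfl
theorem F409042 : act 2 n198743 = n187345 := d3_1 D198743 F369903 (iv2 F369685)
theorem F409043 : act 3 n198743 = n133382 := d7_1 D198743 (iv6 F409041) F409038
theorem F409044 : act 5 n198743 = n194879 := d12_1 D198743 (iv6 F408559) (iv5 D198618) F169693 D109921
def n198744 : Q := act 5 n109939
theorem D198744 : act 5 n109939 = n198744 := rfl
theorem F409045 : act 3 n198744 = n176839 := d6_1 D198744 F407244 F407242
def n198745 : Q := act 6 n109991
theorem D198745 : act 6 n109991 = n198745 := rfl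
theorem F409046 : act 7 n198745 = n141958 := d14_2 F173133 D198745 (iv6 D141958) (iv7 F224868) F343771
theorem F409047 : act 4 n141939 = n198745 := d11_3 F409046 (iv4 F407583) (iv7 F407581)
theorem F409048 : act 6 n197953 = n141939 := d10_0 F409047 (iv6 D198745) F406270
def n198746 : Q := act 2 n110000
theorem D198746 : act 2 n110000 = n198746 := rfl
theorem F409049 : act 3 n198746 = n197063 := d0_2 D110000 D198746 (iv2 F402881) (iv3 D112396) (iv2 F105359)
theorem F409050 : act 6 n198746 = n131534 := d3_2 (iv6 F322508) D198746 F216683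
theorem F409051 : act 7 n198746 = n147382 := d4_2 F324466 D198746 F231099
theorem F409052 : act 1 n198746 = n147697 := d15_0 (iv0 D147697) F324466 D198746
theorem F409053 : act 1 n147698 = n198746 := d15_0 F409052 (iv7 F336558) (iv2 F336569)
def n198747 : Q := act 3 n110008
theorem D198747 : act 3 n110008 = n198747 := rfl
theorem F409054 : act 2 n198747 = n125762 := d0_1 D198747 (iv3 D125762) (iv2 F201926) (iv3 F201922) (iv2 F170138)
theorem F409055 : act 4 n198747 = n110010 := d5_2 D110008 D198747 (iv3 D110010) (iv4 D50742) D50741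
theorem F409056 : act 6 n198747 = n195089 := d7_2 (iv6 F322495) D198747 F395721
theorem F409057 : act 7 n198747 = n126035 := d8_2 (iv7 F170139) D198747 (iv3 D126035)
theorem F409058 : act 0 n198747 = n195688 := d20_4 F324552 F323941 D110008 D198747 (iv3 D195688) (iv4 D106209) D106206 (iv4 F201966) F201965 (iv1 F93145)
theorem F409059 : act 0 n195029 = n198747 := d20_4 (iv4 F407207) F407208 (iv4 D195030) D195029 (iv3 D198747) (iv4 D110008) (iv1 F170446) F170447 D58934 (iv1 F405756)
def n198748 : Q := act 5 n110008
theorem D198748 : act 5 n110008 = n198748 := rfl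
theorem F409060 : act 2 n198748 = n125887 := d2_1 D198748 F360438 (iv2 F170138)
theorem F409061 : act 6 n198748 = n125875 := d12_2 (iv6 F322495) D198748 F202373 D126272 (iv5 F360440)
theorem F409062 : act 7 n198748 = n126036 := d13_2 (iv7 F170139) D198748 (iv5 D126036)
theorem F409063 : act 4 n198748 = n125876 := d16_2 D110008 D198748 (iv5 F203031) (iv4 F360456) (iv5 D126380) F170483 (iv5 F323928) (iv7 F323936) (iv2 F105379)
theorem F409064 : act 0 n198748 = n126424 := d17_2 (iv1 F170140) D198748 (iv5 D126424) (iv4 D59311) (iv5 D28155) F45336 (iv5 D28071) (iv0 F169960) (iv4 F93246)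
theorem F409065 : act 1 n198748 = n126393 := d17_6 F324454 (iv5 D50794) F322499 (iv5 F322500) D110008 D198748 (iv5 D126393) F202162 F325534
def n198749 : Q := act 0 n110027
theorem D198749 : act 0 n110027 = n198749 := rfl
theorem F409066 : act 4 n198749 = n112105 := d18_3 F205178 (iv4 F170161) D198749 (iv5 F205299) F205297 F184459 F162365 F162364 D127611
theorem F409067 : act 6 n198749 = n159205 := d21_5 F232050 (iv1 D116594) F322657 (iv6 F323127) D198749 F345829 (iv1 F239251) (iv5 F357448) (iv6 D148244) (iv1 F232049)
theorem F409068 : act 2 n113174 = n198749 := d3_3 F409067 F345828 (iv6 F381052)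
theorem F409069 : act 7 n198706 = n198749 := d14_0 F409067 F345830 (iv6 F359072) F359080 (iv6 F408946)
def n198750 : Q := act 1 n110027
theorem D198750 : act 1 n110027 = n198750 := rfl
theorem F409070 : act 7 n198750 = n113174 := d15_2 (iv0 D198749) D198750 F409068
theorem F409071 : act 5 n198750 = n126662 := d17_7 (iv1 D105635) (iv5 D48836) D48833 D105628 F353474 (iv5 F353475) D198750 F359112 F364300
theorem F409072 : act 4 n198750 = n112106 := d17_9 (iv1 D112106) (iv5 F173668) (iv1 F228562) F228560 F351016 D164135 (iv0 F353473) (iv5 F353475) D198750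
theorem F409073 : act 6 n138142 = n198750 := d21_3 F338713 (iv1 F209396) (iv5 F359102) (iv1 D198750) F323127 (iv5 F322657) D116593 (iv5 F232046) F357450 (iv1 F298623)
theorem F409074 : act 2 n198750 = n198706 := d3_1 F409073 F408946 F359103
theorem F409075 : act 3 n113178 = n198750 := d20_5 F78527 (iv1 F38535) (iv4 F40124) (iv3 F82602) (iv1 F381057) F409072 (iv1 D112106) F81630 (iv3 D49702) D49700
def n198751 : Q := act 4 n110123
theorem D198751 : act 4 n110123 = n198751 := rfl
theorem F409076 : act 2 n198751 = n110162 := d1_1 D198751 (iv4 D110162) (iv2 F170263)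
theorem F409077 : act 3 n198751 = n186655 := d5_1 D198751 F378246 D188326 (iv4 F406758) F406756
theorem F409078 : act 7 n198751 = n110218 := d11_2 (iv7 F170264) D198751 (iv4 D110218)
theorem F409079 : act 5 n198751 = n111715 := d17_5 D197591 F404942 (iv1 D110122) D110123 D198751 (iv0 D111715) (iv5 F169147) F350360 (iv4 F167721)
theorem F409080 : act 0 n198751 = n197863 := d17_0 F406056 (iv1 D116263) (iv5 F360067) (iv4 F404956) F404957 F325564 D178105 (iv0 F360062) D198751
theorem F409081 : act 1 n198751 = n186623 := d18_6 (iv1 F324492) F38547 (iv1 F170127) D50787 D110123 D198751 F367474 (iv0 D180507) (iv5 D86202)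
theorem F409082 : act 2 n111715 = n179866 := d2_1 F409079 (iv5 F362608) (iv2 F409076)
theorem F409083 : act 7 n111715 = n179867 := d13_2 (iv7 F409078) F409079 (iv5 F360066)
theorem F409084 : act 2 n179867 = n111716 := d15_3 F364121 F362613 F409083
theorem F409085 : act 7 n179866 = n111716 := d4_2 (iv7 F409083) F409082 (iv2 F409084)
def n198752 : Q := act 6 n110123
theorem D198752 : act 6 n110123 = n198752 := rfl
theorem F409086 : act 2 n198752 = n110163 := d3_1 D198752 (iv6 D110163) (iv2 F170263)
theorem F409087 : act 0 n198752 = n134213 := d21_4 F404942 (iv1 D110122) D110123 D198752 (iv6 D134213) (iv5 D63049) (iv1 F48132) (iv5 F79287) D108492 D197591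
theorem F409088 : act 1 n198752 = n196814 := d15_1 (iv0 F409087) (iv7 F401877) F222775
def n198753 : Q := act 5 n110127
theorem D198753 : act 5 n110127 = n198753 := rfl
theorem F409089 : act 2 n198753 = n110174 := d2_1 D198753 (iv5 D110174) (iv2 F170269)
theorem F409090 : act 7 n198753 = n110225 := d13_2 (iv7 F170270) D198753 (iv5 D110225)
theorem F409091 : act 0 n198753 = n112454 := d17_2 F174179 D198753 (iv5 D112454) F323090 F299644 F126247 F60711 (iv0 F323104) D112047
theorem F409092 : act 1 n198753 = n112452 := d17_6 (iv1 F38701) (iv5 D24729) (iv1 F170127) D50788 D110127 D198753 (iv5 D112452) (iv0 D51878) (iv4 D25178)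
theorem F409093 : act 4 n198753 = n111716 := d18_5 (iv1 F325628) F101702 F170941 D110127 D198753 F364121 (iv4 F362612) F170402 F325634
def n198754 : Q := act 5 n110138
theorem D198754 : act 5 n110138 = n198754 := rfl
theorem F409094 : act 2 n198754 = n128797 := d2_1 D198754 (iv5 F341763) (iv2 F358837)
theorem F409095 : act 3 n198754 = n110139 := d6_1 D198754 (iv5 D110139) D110138
theorem F409096 : act 6 n198754 = n124621 := d12_2 F358844 D198754 F299760 (iv6 F122751) (iv5 F325526)
theorem F409097 : act 7 n198754 = n126255 := d13_2 (iv7 F170293) D198754 (iv5 D126255)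
theorem F409098 : act 4 n198754 = n126889 := d16_6 (iv4 F203693) (iv5 F224218) F345631 (iv5 D110157) (iv4 F170292) D198754 (iv5 F204657) (iv7 F203697) (iv2 F203696)
def n198755 : Q := act 4 n110139
theorem D198755 : act 4 n110139 = n198755 := rfl
theorem F409099 : act 2 n198755 = n126247 := d1_1 D198755 (iv4 D126247) (iv2 F170294)
theorem F409100 : act 5 n198755 = n125878 := d9_2 D110139 D198755 (iv4 D125878) F325719 F119728 (iv5 F57170) (iv4 F323932) (iv5 F349569) (iv4 F211350) (iv5 F349573) (iv4 D125881) F170864 (iv4 F169603) (iv5 D50794) D50793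
theorem F409101 : act 7 n198755 = n126257 := d11_2 (iv7 F170295) D198755 (iv4 D126257)
def n198756 : Q := act 6 n110139
theorem D198756 : act 6 n110139 = n198756 := rfl
theorem F409102 : act 2 n198756 = n126248 := d3_1 D198756 (iv6 D126248) (iv2 F170294)
theorem F409103 : act 3 n198756 = n124621 := d7_1 D198756 (iv6 F409096) F409095
theorem F409104 : act 5 n198756 = n163613 := d12_1 D198756 (iv6 F319351) (iv5 D162841) F325222 D110139
theorem F409105 : act 7 n198756 = n163612 := d14_2 (iv7 F170295) D198756 F348755 F349604 (iv6 D126258)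
def n198757 : Q := act 5 n110150
theorem D198757 : act 5 n110150 = n198757 := rfl
theorem F409106 : act 2 n198757 = n188357 := d2_1 D198757 (iv5 F405586) F405585
theorem F409107 : act 3 n198757 = n110151 := d6_1 D198757 (iv5 D110151) D110150
theorem F409108 : act 4 n198757 = n187632 := d9_1 D198757 (iv5 D187632) (iv4 F373125) F373126 (iv4 F390825) F390826 (iv4 F169049) (iv5 F406526) F406525 (iv5 D187628) (iv4 F373122) F366644 (iv4 F407240) (iv5 D198211) (iv4 F170306)
theorem F409109 : act 6 n198757 = n193067 := d12_2 F398626 D198757 F398617 (iv6 D195891) D195890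
theorem F409110 : act 7 n198757 = n188348 := d13_2 F407083 D198757 (iv5 F407082)
theorem F409111 : act 1 n193062 = n198757 := d15_1 (iv0 F408260) F409110 (iv2 F406524)
def n198758 : Q := act 6 n110151
theorem D198758 : act 6 n110151 = n198758 := rfl
theorem F409112 : act 3 n198758 = n193067 := d7_1 D198758 (iv6 F409109) F409107
theorem F409113 : act 0 n198758 = n179807 := d21_4 (iv5 D50800) D50797 D110151 D198758 (iv6 F367072) F327465 (iv1 F168546) (iv5 F172905) (iv6 F343158) (iv1 D110161)
theorem F409114 : act 0 n179802 = n198758 := d21_4 (iv5 D198185) (iv1 F405413) (iv5 D197698) (iv6 F370508) (iv6 D198758) (iv5 D110151) (iv1 F80181) D50820 D110219 (iv1 F407138)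
def n198759 : Q := act 5 n110155
theorem D198759 : act 5 n110155 = n198759 := rfl
theorem F409115 : act 4 n198759 = n184570 := d9_1 D198759 F355067 F204021 D126793 F204624 (iv5 F204629) (iv4 F168937) F373316 F373315 F329621 (iv4 F93750) D126625 (iv4 F204614) (iv5 F204616) F170308
theorem F409116 : act 7 n198759 = n184593 := d13_2 F204627 D198759 F361217
theorem F409117 : act 6 n184569 = n198759 := d21_5 (iv5 D153687) F322350 D142816 F360597 (iv1 F286558) (iv5 D198759) (iv1 D110155) D110157 F358851 (iv1 F330103)
def n198760 : Q := act 5 n110156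
theorem D198760 : act 5 n110156 = n198760 := rfl
theorem F409118 : act 2 n198760 = n110157 := d2_1 D198760 (iv5 D110157) D110156
theorem F409119 : act 3 n198760 = n197877 := d6_1 D198760 (iv5 F406779) F223510
theorem F409120 : act 1 n198760 = n197883 := d17_8 F405711 F405710 (iv1 F329615) F143965 (iv4 F286584) F361217 F204666 D198760 F406111
def n198761 : Q := act 1 n110157
theorem D198761 : act 1 n110157 = n198761 := rfl
theorem F409121 : act 4 n198761 = n198253 := d18_7 (iv1 F204023) F204021 (iv1 F203698) (iv4 F203693) (iv5 F224218) F345631 D198761 (iv0 D198253) (iv5 F171679)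
theorem F409122 : act 3 n151247 = n198761 := d20_3 F356726 D127808 (iv4 F400769) (iv1 D198761) F170309 D110162 (iv1 F407451) (iv4 D198279) (iv3 F405828) (iv1 F405825)
theorem F409123 : act 2 n198761 = n197883 := d0_1 F409122 F406109 (iv2 F219109) D198106 F406846
theorem F409124 : act 5 n113581 = n198761 := d2_0 F409123 (iv5 D197883) (iv2 F203774)
def n198762 : Q := act 7 n110157
theorem D198762 : act 7 n110157 = n198762 := rfl
theorem F409125 : act 3 n198762 = n110164 := d8_1 D198762 (iv7 D110164) (iv3 F170309)
theorem F409126 : act 4 n198762 = n139486 := d11_1 D198762 (iv7 F224219) F345631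
theorem F409127 : act 5 n198762 = n110159 := d13_1 D198762 (iv7 D110159) D110157
theorem F409128 : act 1 n197883 = n198762 := d15_1 F409120 (iv7 D198762) (iv2 F409118)
def n198763 : Q := act 4 n110160
theorem D198763 : act 4 n110160 = n198763 := rfl
theorem F409129 : act 2 n198763 = n198280 := d1_1 D198763 F407452 F359827
theorem F409130 : act 7 n198763 = n191336 := d11_2 (iv7 F407170) D198763 (iv4 F407168)
theorem F409131 : act 5 n198763 = n123889 := d16_1 D198763 (iv4 F363295) F341347 (iv4 D86171) (iv5 F299811) (iv4 F324540) F170972 F359822 F359827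
theorem F409132 : act 0 n198763 = n180509 := d17_0 (iv5 F366010) F360061 D123948 F360048 (iv5 D110153) F80177 D50820 F170316 D198763
theorem F409133 : act 1 n198763 = n198268 := d18_6 (iv1 F173764) F170951 (iv1 F171329) D111906 F173874 D198763 (iv4 D198268) F351110 F351106
theorem F409134 : act 3 n188337 = n198763 := d20_5 (iv4 F294578) (iv1 F372994) (iv4 D91225) D91224 D188337 (iv4 D198763) (iv1 F170316) D110218 (iv3 F373190) (iv1 D99045)
theorem F409135 : act 7 n189084 = n188337 := d8_0 F409134 F409130 F383097
def n198764 : Q := act 6 n110160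
theorem D198764 : act 6 n110160 = n198764 := rfl
def n198765 : Q := act 4 n110161
theorem D198765 : act 4 n110161 = n198765 := rfl
theorem F409136 : act 2 n198765 = n191336 := d1_1 D198765 (iv4 F407168) F407166
theorem F409137 : act 5 n198765 = n192218 := d9_2 F170972 D198765 F386053 F341344 (iv4 D86173) F324524 D111906 F173874 D198763 F409131 (iv4 F363295) F341347 (iv4 D86171) (iv5 F299811) (iv4 F324540)
theorem F409138 : act 6 n198765 = n188286 := d10_2 (iv6 F343158) D198765 F372956
theorem F409139 : act 7 n198765 = n198280 := d11_2 (iv7 F359822) D198765 F407452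
theorem F409140 : act 0 n198765 = n198268 := d18_2 (iv1 F170313) D198765 (iv4 D198268) (iv5 D109107) F169968 (iv0 F322514) (iv4 F323987) F80177 D50820
theorem F409141 : act 1 n198765 = n180509 := d18_6 F325166 F91650 F90600 (iv4 F324540) F170972 D198765 (iv4 D180509) (iv0 F325593) (iv5 D108734)
def n198766 : Q := act 6 n110162
theorem D198766 : act 6 n110162 = n198766 := rfl
theorem F409142 : act 4 n198766 = n110163 := d10_1 D198766 (iv6 D110163) D110162
theorem F409143 : act 5 n198766 = n135914 := d12_1 D198766 (iv6 D135914) (iv5 F332958) (iv6 F341519) (iv5 F362608)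
theorem F409144 : act 0 n198766 = n135078 := d21_4 (iv5 F337487) D179866 (iv5 F362608) D198766 (iv6 D135078) F98813 (iv1 D60507) D60509 (iv6 F362606) (iv1 D109170)
def n198767 : Q := act 7 n110162
theorem D198767 : act 7 n110162 = n198767 := rfl
theorem F409145 : act 2 n198767 = n110218 := d4_1 D198767 (iv7 F409078) F409076
theorem F409146 : act 3 n198767 = n139489 := d8_1 D198767 (iv7 F224221) (iv3 F345632)
theorem F409147 : act 4 n198767 = n110164 := d11_1 D198767 (iv7 D110164) D110162
theorem F409148 : act 5 n198767 = n111716 := d13_1 D198767 (iv7 F409085) (iv5 F362608)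
theorem F409149 : act 1 n186623 = n198767 := d15_1 F409081 (iv7 D198767) (iv2 F409076)
theorem F409150 : act 1 n198767 = n197863 := d15_1 F409149 F406058 F375632
def n198768 : Q := act 1 n110163
theorem D198768 : act 1 n110163 = n198768 := rfl
theorem F409151 : act 7 n198768 = n134213 := d15_2 (iv0 F360047) D198768 (iv2 F222775)
theorem F409152 : act 2 n196814 = n198768 := d4_3 F409151 (iv2 F222775) F401877
theorem F409153 : act 5 n198768 = n196806 := d2_2 D196814 F409152 F401860
def n198769 : Q := act 5 n110163
theorem D198769 : act 5 n110163 = n198769 := rfl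
theorem F409154 : act 3 n198769 = n152939 := d6_1 D198769 (iv5 F330096) F358854
theorem F409155 : act 6 n198769 = n110167 := d12_2 D110163 D198769 (iv5 D110167) (iv6 D50801) D50800
theorem F409156 : act 4 n198769 = n137646 := d20_6 F164837 (iv1 F80692) (iv4 F112144) F318355 D152939 (iv3 F409154) (iv1 D137646) (iv4 F164832) F164831 D106949
def n198770 : Q := act 7 n110163
theorem D198770 : act 7 n110163 = n198770 := rfl
theorem F409157 : act 1 n196814 = n198770 := d15_1 F409088 (iv7 D198770) (iv2 F409086)
theorem F409158 : act 1 n198770 = n134213 := d15_1 F409157 (iv7 F409151) (iv2 F409152)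
theorem F409159 : act 6 n198770 = n196377 := d21_5 F79285 F48120 D63049 D134213 (iv1 F409158) (iv5 D196377) (iv1 D106930) (iv5 F79289) (iv6 D50093) D50090
def n198771 : Q := act 6 n110164
theorem D198771 : act 6 n110164 = n198771 := rfl
theorem F409160 : act 2 n198771 = n110219 := d3_1 D198771 (iv6 D110219) (iv2 F170314)
theorem F409161 : act 5 n198771 = n134747 := d12_1 D198771 F351287 (iv5 D81911) F325623 (iv5 F170315)
theorem F409162 : act 7 n198771 = n196377 := d14_2 D110164 D198771 (iv6 F409159) (iv7 D198770) (iv6 D110163)
theorem F409163 : act 1 n187914 = n198771 := d17_6 F345411 F345410 (iv1 D107089) D107090 (iv4 F335538) D187914 F409161 (iv0 D134747) F98564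
def n198772 : Q := act 4 n110167
theorem D198772 : act 4 n110167 = n198772 := rfl
theorem F409164 : act 6 n198772 = n137646 := d10_2 F409155 D198772 (iv4 F409156)
theorem F409165 : act 5 n198772 = n186084 := d16_1 D198772 (iv4 D186084) (iv5 D88641) F63810 D41378 (iv4 F126255) D170855 (iv7 F365856) (iv2 F365855)
def n198773 : Q := act 3 n110170
theorem D198773 : act 3 n110170 = n198773 := rfl
theorem F409166 : act 2 n198773 = n111270 := d0_1 D198773 (iv3 D111270) F80963 D51365 (iv2 F170320)
theorem F409167 : act 4 n198773 = n178127 := d5_2 D110170 D198773 F277680 F325547 (iv3 F169600)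
theorem F409168 : act 6 n198773 = n123485 := d7_2 (iv6 F324530) D198773 (iv3 D123485)
theorem F409169 : act 7 n198773 = n111362 := d8_2 (iv7 F170321) D198773 F172813
theorem F409170 : act 0 n111360 = n198773 := d20_4 F406466 (iv1 F173620) D198536 (iv3 F408263) (iv3 D198773) (iv4 D110170) (iv1 F80185) D50822 D110224 (iv1 F406468)
theorem F409171 : act 1 n111361 = n198773 := d15_1 D111361 F409169 (iv2 D111362)
def n198774 : Q := act 2 n110173
theorem D198774 : act 2 n110173 = n198774 := rfl
theorem F409172 : act 3 n198774 = n111384 := d0_2 D110173 D198774 F406458 F406455 F170269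
theorem F409173 : act 6 n198774 = n147907 := d3_2 (iv6 F365906) D198774 (iv2 F356029)
theorem F409174 : act 5 n147931 = n198774 := d12_5 F409173 (iv5 D147907) F105544 D69306 D147931
def n198775 : Q := act 5 n110173
theorem D198775 : act 5 n110173 = n198775 := rfl
theorem F409175 : act 2 n198775 = n147931 := d2_1 D198775 F409174 (iv2 D198774)
theorem F409176 : act 3 n198775 = n110174 := d6_1 D198775 (iv5 D110174) D110173
theorem F409177 : act 6 n198775 = n128041 := d12_2 (iv6 F365906) D198775 F206042 (iv6 F230544) F356028
theorem F409178 : act 4 n198775 = n128392 := d16_4 F202375 (iv5 F408190) F408189 D198775 F355977 F169043 D125829 (iv7 F405954) (iv2 F405956)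
theorem F409179 : act 1 n198775 = n197906 := d17_8 F354405 (iv5 F354401) (iv1 D108639) D108641 D197755 F405645 (iv0 F202068) D198775 (iv4 D197906)
theorem F409180 : act 0 n198775 = n197729 := d18_0 (iv4 D197729) D197728 (iv4 F405545) F172797 F92943 D58816 D125618 (iv0 F202068) D198775
theorem F409181 : act 7 n197915 = n198775 := d15_2 F406699 D197915 F409175
def n198776 : Q := act 7 n110173
theorem D198776 : act 7 n110173 = n198776 := rfl
theorem F409182 : act 3 n198776 = n110176 := d8_1 D198776 (iv7 D110176) D110173
theorem F409183 : act 4 n198776 = n181703 := d11_1 D198776 (iv7 F408192) F408189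
theorem F409184 : act 5 n198776 = n197915 := d13_1 D198776 F409181 (iv5 D198775)
theorem F409185 : act 6 n198776 = n157869 := d14_1 D198776 (iv7 F254511) (iv6 F282171) F282172 (iv6 F365906)
theorem F409186 : act 1 n111391 = n198776 := d18_8 (iv1 D197915) (iv4 D108770) D108768 F354396 (iv5 F171698) F171697 D125531 (iv4 F201904) F409184
theorem F409187 : act 1 n198774 = n111391 := d15_0 F409186 (iv7 D198776) D198774
def n198777 : Q := act 6 n110174
theorem D198777 : act 6 n110174 = n198777 := rfl
theorem F409188 : act 3 n198777 = n128041 := d7_1 D198777 (iv6 F409177) F409176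
theorem F409189 : act 4 n198777 = n192731 := d10_1 D198777 F387613 F360065
theorem F409190 : act 5 n198777 = n147066 := d12_1 D198777 F356032 F304970 F326517 D110174
theorem F409191 : act 7 n153178 = n198777 := d13_0 F409190 F230546 D153178
theorem F409192 : act 0 n198777 = n188896 := d20_4 F110054 F109098 F206044 (iv3 F409188) (iv3 D188896) F143271 F142696 F142672 (iv3 F349173) (iv1 D154689)
theorem F409193 : act 0 n192941 = n198046 := d21_10 F406581 (iv1 D124312) (iv5 F198710) (iv6 D124228) D124225 (iv6 F356032) (iv5 F409190) F409192 F375162 D192941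
def n198778 : Q := act 7 n110174
theorem D198778 : act 7 n110174 = n198778 := rfl
theorem F409194 : act 2 n198778 = n110225 := d4_1 D198778 (iv7 F409090) F409089
theorem F409195 : act 3 n198778 = n197915 := d8_1 D198778 F409181 F409176
theorem F409196 : act 4 n198778 = n111715 := d11_1 D198778 F409083 F360065
theorem F409197 : act 5 n198778 = n110176 := d13_1 D198778 (iv7 D110176) D110174
theorem F409198 : act 1 n112452 = n198778 := d15_1 F409092 (iv7 D198778) (iv2 F409089)
theorem F409199 : act 1 n198778 = n112454 := d15_1 F409198 (iv7 F360057) F360071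
def n198779 : Q := act 6 n110218
theorem D198779 : act 6 n110218 = n198779 := rfl
theorem F409200 : act 3 n198779 = n191824 := d7_1 D198779 F387568 F373190
theorem F409201 : act 4 n198779 = n110219 := d10_1 D198779 (iv6 D110219) D110218
theorem F409202 : act 0 n120524 = n198779 := d21_4 F300555 F91215 D55489 D120524 (iv6 D198779) F360066 (iv1 D179867) F337487 F337484 D58507
theorem F409203 : act 0 n193093 = n187536 := d20_4 F398965 F409202 F409201 (iv3 F388723) (iv3 D187536) (iv4 D90311) (iv1 F292369) (iv4 F154650) (iv3 F387627) F398970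
theorem F409204 : act 1 n193093 = n187884 := d15_1 (iv0 F409203) (iv7 F407134) F407133
def n198780 : Q := act 7 n110219
theorem D198780 : act 7 n110219 = n198780 := rfl
theorem F409205 : act 2 n198780 = n196377 := d4_1 D198780 (iv7 F409162) F409160
theorem F409206 : act 5 n198780 = n134748 := d13_1 D198780 F351289 F343157
theorem F409207 : act 1 n198780 = n187914 := d15_0 F409163 F409162 (iv2 F409205)
def n198781 : Q := act 5 n110224
theorem D198781 : act 5 n110224 = n198781 := rfl
theorem F409208 : act 3 n198781 = n110225 := d6_1 D198781 (iv5 D110225) D110224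
theorem F409209 : act 0 n111412 = n198781 := d19_0 (iv5 D198781) (iv4 F365922) F258606 (iv1 F325300) D109622 (iv4 F391532) (iv3 F391533) (iv1 F197538) (iv5 F343220) D193896 F391319 F165203 (iv5 F330511) D53304 F84149 (iv1 F47901) D30661 F81110 D111412
def n198782 : Q := act 6 n110225
theorem D198782 : act 6 n110225 = n198782 := rfl
theorem F409210 : act 4 n198782 = n111744 := d10_1 D198782 (iv6 F341519) F362609
theorem F409211 : act 0 n198782 = n111413 := d21_4 F341344 F325625 D110225 D198782 (iv6 D111413) F81109 (iv1 D24999) D25001 D51434 D111525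
def n198783 : Q := act 5 n110245
theorem D198783 : act 5 n110245 = n198783 := rfl
theorem F409212 : act 2 n198783 = n110908 := d2_1 D198783 F171820 (iv2 F170394)
theorem F409213 : act 3 n198783 = n110246 := d6_1 D198783 (iv5 D110246) D110245
theorem F409214 : act 6 n198783 = n125489 := d12_2 (iv6 F330493) D198783 (iv5 D125489) (iv6 D58750) D58749
theorem F409215 : act 7 n198783 = n111346 := d13_2 (iv7 F170396) D198783 (iv5 D111346)
theorem F409216 : act 1 n111348 = n198783 := d15_1 D111348 F409215 F172790
theorem F409217 : act 1 n198783 = n111347 := d15_0 (iv0 D111347) (iv7 F171821) (iv2 F409212)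
def n198784 : Q := act 6 n110246
theorem D198784 : act 6 n110246 = n198784 := rfl
theorem F409218 : act 2 n198784 = n110284 := d3_1 D198784 (iv6 D110284) (iv2 F170399)
theorem F409219 : act 3 n198784 = n125489 := d7_1 D198784 (iv6 F409214) F409213
theorem F409220 : act 4 n198784 = n124159 := d10_1 D198784 F366926 (iv4 F362612)
theorem F409221 : act 5 n198784 = n125487 := d12_1 D198784 (iv6 D125487) (iv5 F330458) (iv6 D110247) D110246
theorem F409222 : act 7 n198784 = n124155 := d14_2 (iv7 F170400) D198784 (iv6 D124155) (iv7 F302093) (iv6 F337482)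
def n198785 : Q := act 2 n110256
theorem D198785 : act 2 n110256 = n198785 := rfl
theorem F409223 : act 3 n198785 = n111499 := d0_2 D110256 D198785 F382028 (iv3 D51900) F170428
theorem F409224 : act 4 n198785 = n125864 := d1_2 (iv4 F170465) D198785 (iv2 D125864)
theorem F409225 : act 6 n198785 = n160434 := d3_2 (iv6 F325244) D198785 (iv2 D160434)
theorem F409226 : act 7 n198785 = n112457 := d4_2 (iv7 F170466) D198785 (iv2 D112457)
theorem F409227 : act 1 n198785 = n111502 := d15_0 (iv0 F173038) (iv7 F170466) D198785
theorem F409228 : act 1 n112456 = n198785 := d15_0 F409227 (iv7 F204645) F204654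
def n198786 : Q := act 0 n110257
theorem D198786 : act 0 n110257 = n198786 := rfl
theorem F409229 : act 5 n198786 = n112047 := d17_1 D198786 F174179 D198753 F409093 (iv5 F409148) F409150 F406056 (iv0 F387545) (iv4 F387549)
theorem F409230 : act 1 n110266 = n198786 := d15_0 (iv0 D198786) F341353 (iv2 F341348)
theorem F409231 : act 2 n111526 = n198786 := d2_3 F409229 (iv2 F324583) (iv5 F341347)
theorem F409232 : act 7 n111525 = n198786 := d13_0 F409229 (iv7 F325626) (iv5 F341344)
def n198787 : Q := act 1 n110257
theorem D198787 : act 1 n110257 = n198787 := rfl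
theorem F409233 : act 1 n198787 = n110266 := d15_1 D198787 F170489 (iv2 F170467)
theorem F409234 : act 7 n198787 = n111526 := d15_2 (iv0 D198786) D198787 F409231
theorem F409235 : act 5 n198787 = n123480 := d17_7 (iv1 F170940) F39348 D50468 (iv5 F170053) D50842 D110257 D198787 F365966 (iv4 D110127)
theorem F409236 : act 6 n197643 = n198787 := d21_9 (iv5 D110257) (iv1 F169777) (iv5 F360056) (iv6 D123945) F303851 (iv6 F345065) (iv5 D108561) (iv1 F167862) D197643 (iv1 D198787)
theorem F409237 : act 2 n198787 = n111525 := d3_1 F409236 (iv6 F360052) (iv2 F405158)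
theorem F409238 : act 3 n198787 = n111571 := d7_1 F409236 F359306 (iv3 F405159)
def n198788 : Q := act 6 n110257
theorem D198788 : act 6 n110257 = n198788 := rfl
theorem F409239 : act 2 n198788 = n111581 := d3_1 D198788 F360055 (iv2 F170467)
theorem F409240 : act 4 n198788 = n128663 := d10_1 D198788 (iv6 F387543) (iv4 F387549)
theorem F409241 : act 5 n198788 = n160437 := d12_1 D198788 (iv6 D160437) (iv5 D76905) F325245 D110257
theorem F409242 : act 7 n198788 = n111312 := d14_2 (iv7 F341353) D198788 (iv6 D111312) F81025 D51434
theorem F409243 : act 0 n111578 = n198788 := d21_4 F195847 (iv1 F277359) (iv5 F304266) F357726 (iv6 D198788) (iv5 D110257) (iv1 F169777) (iv5 F360056) (iv6 D123945) F303851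
theorem F409244 : act 1 n111579 = n198788 := d15_1 D111579 F409242 F172728
def n198789 : Q := act 0 n110265
theorem D198789 : act 0 n110265 = n198789 := rfl
theorem F409245 : act 3 n198789 = n111496 := d20_5 F39263 (iv1 F38703) D50847 D110265 D198789 (iv4 F175409) (iv1 F175412) (iv4 F170501) (iv3 D110273) (iv1 F80205)
theorem F409246 : act 4 n198789 = n112102 := d20_8 (iv4 F409072) (iv1 D198750) F170161 (iv3 D109930) D109928 (iv3 F382041) F382043 D198789 F174291 (iv1 F174306)
theorem F409247 : act 2 n111294 = n198789 := d15_3 (iv0 D198789) (iv0 F170487) (iv7 F172675)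
theorem F409248 : act 1 n111499 = n198789 := d15_0 (iv0 D198789) F170486 (iv2 F382028)
theorem F409249 : act 7 n198789 = n111500 := d15_2 D111499 F409248 (iv2 D111500)
theorem F409250 : act 6 n196471 = n198789 := d7_0 F409245 (iv6 F358707) (iv3 F400774)
def n198790 : Q := act 2 n110265
theorem D198790 : act 2 n110265 = n198790 := rfl
theorem F409251 : act 3 n198790 = n112457 := d0_2 D110265 D198790 (iv2 D112457) (iv3 D51880) (iv2 F170433)
theorem F409252 : act 4 n198790 = n155967 := d1_2 F382043 D198790 (iv2 F382040)
theorem F409253 : act 7 n198790 = n111499 := d4_2 (iv7 F170486) D198790 F382028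
theorem F409254 : act 1 n198790 = n111500 := d15_0 F173033 (iv7 F170486) D198790
theorem F409255 : act 1 n111294 = n198790 := d15_0 F409254 (iv7 F409249) (iv2 F409247)
def n198791 : Q := act 5 n110265
theorem D198791 : act 5 n110265 = n198791 := rfl
theorem F409256 : act 3 n198791 = n110266 := d6_1 D198791 (iv5 D110266) D110265
theorem F409257 : act 6 n198791 = n111299 := d12_2 F363326 D198791 (iv5 D111299) D111300 (iv5 F363323)
theorem F409258 : act 7 n198791 = n112496 := d13_2 (iv7 F170486) D198791 (iv5 D112496)
theorem F409259 : act 1 n198791 = n111523 := d17_6 (iv1 F382063) F220408 (iv1 F357987) D191060 F382043 D198791 F173050 D198001 F406462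
def n198792 : Q := act 0 n110273
theorem D198792 : act 0 n110273 = n198792 := rfl
theorem F409260 : act 1 n111680 = n198792 := d15_0 (iv0 D198792) F173299 D111680
def n198793 : Q := act 1 n110273
theorem D198793 : act 1 n110273 = n198793 := rfl
theorem F409261 : act 4 n198793 = n174051 := d18_7 (iv1 F365457) (iv4 F394294) F394295 F221095 F346482 (iv4 F170501) D198793 (iv0 F390374) (iv5 D193588)
theorem F409262 : act 2 n111645 = n198793 := d1_3 F409261 (iv2 F387407) F387409
theorem F409263 : act 6 n174050 = n198793 := d10_0 F409261 (iv6 D174051) D174050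
theorem F409264 : act 0 n111680 = n198793 := d20_1 F173302 F409261 F352288 (iv1 D125994) (iv3 D59009) (iv4 D28043) (iv1 F22248) D24241 D49704 D107591
theorem F409265 : act 7 n198792 = n111645 := d15_2 (iv0 F409264) F409260 F409262
theorem F409266 : act 3 n111639 = n198792 := d8_3 F409265 (iv3 D111645) F173204
theorem F409267 : act 6 n180491 = n198792 := d14_5 F409265 (iv6 F387404) F387400 (iv6 F358875) F366134
theorem F409268 : act 2 n198792 = n198272 := d3_1 F409267 (iv6 D198272) (iv2 F366135)
theorem F409269 : act 7 n198272 = n198793 := d4_2 (iv7 F409265) F409268 (iv2 F409262)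
theorem E103750 : n198272 = n111679 := ((c15_2 F387405 D111679 F409269 (iv2 F409262))).symm
theorem F409270 : act 2 n111679 = n198792 := (sb E103750 (iv2 F409268))
theorem F409271 : act 6 n111679 = n109110 := (sb E103750 (iv6 D198272))
theorem F409272 : act 7 n111679 = n198793 := (sb E103750 F409269)
def n198794 : Q := act 2 n110273
theorem D198794 : act 2 n110273 = n198794 := rfl
theorem F409273 : act 3 n198794 = n111697 := d0_2 D110273 D198794 (iv2 D111697) (iv3 D51506) (iv2 F173297)
theorem F409274 : act 4 n198794 = n112703 := d1_2 (iv4 F170501) D198794 (iv2 F175404)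
theorem F409275 : act 6 n198794 = n124257 := d3_2 (iv6 F325613) D198794 (iv2 D124257)
theorem F409276 : act 7 n198794 = n111680 := d4_2 (iv7 F173299) D198794 (iv2 D111680)
theorem F409277 : act 1 n198794 = n111645 := d15_0 F387405 (iv7 F173299) D198794
theorem F409278 : act 1 n111679 = n198794 := d15_0 F409277 (iv7 F409265) (iv2 F409270)
def n198795 : Q := act 5 n110273
theorem D198795 : act 5 n110273 = n198795 := rfl
theorem F409279 : act 3 n198795 = n110275 := d6_1 D198795 (iv5 D110275) D110273
theorem F409280 : act 7 n198795 = n111622 := d13_2 (iv7 F173299) D198795 F343751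
theorem F409281 : act 4 n198795 = n188989 := d20_6 F81012 (iv1 F49136) (iv4 F81088) (iv3 F172857) (iv1 F173305) (iv3 F409279) (iv1 F375346) (iv4 F349941) F172866 F81096
theorem F409282 : act 0 n188845 = n198795 := d18_0 F409281 (iv1 F375346) (iv4 F349941) (iv5 D111380) (iv4 F82227) F323179 (iv4 F132135) D180414 (iv5 F386929)
def n198796 : Q := act 6 n110275
theorem D198796 : act 6 n110275 = n198796 := rfl
theorem F409283 : act 2 n198796 = n111669 := d3_1 D198796 F362787 (iv2 F173304)
theorem F409284 : act 4 n198796 = n111600 := d10_1 D198796 (iv6 F407550) F407549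
theorem F409285 : act 5 n198796 = n124260 := d12_1 D198796 (iv6 D124260) (iv5 D57932) F325614 D110275
theorem F409286 : act 7 n198796 = n111331 := d14_2 (iv7 F343752) D198796 (iv6 D111331) F81047 D51483
theorem F409287 : act 0 n111666 = n198796 := d21_4 F329573 (iv1 F329571) F192030 (iv6 F357740) (iv6 D198796) (iv5 D110275) (iv1 F80205) D51510 F337482 (iv1 F195720)
theorem F409288 : act 1 n111667 = n198796 := d15_1 D111667 F409286 F172778
def n198797 : Q := act 2 n110278
theorem D198797 : act 2 n110278 = n198797 := rfl
theorem F409289 : act 3 n198797 = n111680 := d0_2 D110278 D198797 (iv2 D111680) (iv3 D51501) F173292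
theorem F409290 : act 4 n198797 = n113474 := d1_2 (iv4 F170516) D198797 F176654
theorem F409291 : act 7 n198797 = n111697 := d4_2 (iv7 F173293) D198797 (iv2 D111697)
theorem F409292 : act 1 n198797 = n111695 := d15_0 (iv0 D111695) (iv7 F173293) D198797
theorem F409293 : act 1 n111603 = n198797 := d15_0 F409292 F355987 (iv2 F355966)
def n198798 : Q := act 5 n110278
theorem D198798 : act 5 n110278 = n198798 := rfl
theorem F409294 : act 3 n198798 = n110279 := d6_1 D198798 (iv5 D110279) D110278
theorem F409295 : act 6 n198798 = n111321 := d12_2 (iv6 F365963) D198798 (iv5 D111321) D111322 (iv5 F362847)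
theorem F409296 : act 7 n198798 = n111699 := d13_2 (iv7 F173293) D198798 (iv5 D111699)
theorem F409297 : act 4 n198798 = n140773 := d16_2 (iv4 F170516) D198798 (iv5 D140773) (iv4 F223845) (iv5 F349662) F349661 (iv5 D113496) (iv7 F176655) F176654
def n198799 : Q := act 3 n110281
theorem D198799 : act 3 n110281 = n198799 := rfl
theorem F409298 : act 4 n198799 = n114249 := d5_2 F407504 D198799 F178065 D152281 (iv3 F407503)
theorem F409299 : act 5 n198799 = n140703 := d6_2 (iv5 F170518) D198799 (iv3 D140703)
theorem F409300 : act 7 n198799 = n111709 := d8_2 F172848 D198799 (iv3 D111709)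
theorem F409301 : act 2 n198799 = n114278 := d16_9 (iv4 D114278) (iv5 D52743) (iv4 F83339) D114268 F339097 F129778 (iv4 F132135) (iv5 F326447) (iv7 F409300)
theorem F409302 : act 6 n114253 = n198799 := d3_0 F409301 F178122 (iv2 F178079)
def n198800 : Q := act 6 n110281
theorem D198800 : act 6 n110281 = n198800 := rfl
theorem F409303 : act 2 n198800 = n111714 := d3_1 D198800 (iv6 D111714) (iv2 F172849)
theorem F409304 : act 3 n198800 = n114253 := d7_1 D198800 F409302 (iv3 D198799)
theorem F409305 : act 4 n198800 = n152291 := d10_1 D198800 F407510 F407504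
theorem F409306 : act 5 n198800 = n178169 := d12_1 D198800 (iv6 D178169) F130012 F324534 (iv5 F170518)
theorem F409307 : act 7 n198800 = n111751 := d14_2 F172848 D198800 (iv6 D111751) (iv7 F362234) F345424
theorem F409308 : act 0 n138770 = n178169 := d21_1 (iv5 F345428) (iv5 F409306) (iv6 D198800) (iv1 F170519) F337482 (iv5 F337479) F337476 (iv5 F304627) D124021 F364126
theorem E103751 : n188835 = n111751 := ((c8_1 F409307 (iv3 D188835) F178082 (iv3 F409304))).symm
theorem F409309 : act 3 n111751 = n92826 := (sb E103751 (iv3 D188835))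
theorem E103752 : n188836 = n111748 := (c7_3 D111751 F409309 D188836 (iv3 D111748))
theorem F409310 : act 6 n111748 = n92826 := (sb E103752 (iv6 D188836))
theorem F409311 : act 0 n192219 = n152291 := d20_1 (iv4 F386056) (iv4 F409305) F409304 F178080 F143189 (iv4 F237830) F237832 (iv4 F109233) (iv3 F240477) F374513
def n198801 : Q := act 3 n110282
theorem D198801 : act 3 n110282 = n198801 := rfl
theorem F409312 : act 4 n198801 = n137685 := d5_2 F407457 D198801 F220855 F223821 (iv3 F407455)
theorem F409313 : act 5 n198801 = n140705 := d6_2 (iv5 F170521) D198801 (iv3 D140705)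
theorem F409314 : act 6 n198801 = n111753 := d7_2 (iv6 F362245) D198801 (iv3 D111753)
theorem F409315 : act 7 n198801 = n111712 := d8_2 (iv7 F172851) D198801 (iv3 D111712)
def n198802 : Q := act 3 n110283
theorem D198802 : act 3 n110283 = n198802 := rfl
theorem F409316 : act 4 n198802 = n110816 := d5_2 D110283 D198802 F171623 F80590 (iv3 F80208)
theorem F409317 : act 7 n198802 = n111717 := d8_2 (iv7 F170522) D198802 (iv3 D111717)
def n198803 : Q := act 6 n110283
theorem D198803 : act 6 n110283 = n198803 := rfl
theorem F409318 : act 2 n198803 = n124159 := d3_1 D198803 F366926 F362611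
theorem F409319 : act 4 n198803 = n110284 := d10_1 D198803 (iv6 D110284) D110283
theorem F409320 : act 7 n198803 = n123176 := d14_2 (iv7 F170522) D198803 (iv6 D123176) F90497 (iv6 F337483)
theorem F409321 : act 1 n124157 = n198803 := d15_1 D124157 F409320 F197410
theorem F409322 : act 1 n198803 = n124156 := d15_0 (iv0 D124156) D124159 (iv2 F409318)
def n198804 : Q := act 1 n110284
theorem D198804 : act 1 n110284 = n198804 := rfl
theorem F409323 : act 1 n198804 = n124155 := d15_1 D198804 (iv7 F409222) F409218
def n198805 : Q := act 5 n110284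
theorem D198805 : act 5 n110284 = n198805 := rfl
theorem F409324 : act 2 n198805 = n125487 := d2_1 D198805 (iv5 F409221) F409218
theorem F409325 : act 3 n198805 = n111760 := d6_1 D198805 (iv5 D111760) (iv3 F170523)
theorem F409326 : act 6 n198805 = n110287 := d12_2 D110284 D198805 (iv5 D110287) (iv6 D50853) D50852
theorem F409327 : act 0 n140661 = n198805 := d21_10 (iv5 D198805) F401232 (iv5 D196620) (iv6 D107144) (iv1 D49498) D49500 F331789 F101553 (iv5 F101683) D140661
theorem F409328 : act 4 n197367 = n198805 := d10_3 F409326 F330470 D197367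
theorem F409329 : act 0 n198805 = n196732 := d21_4 F398577 (iv1 D110286) D110287 (iv6 F409326) (iv6 D196732) F363143 (iv1 F223486) D140625 F360106 D195879
def n198806 : Q := act 3 n110290
theorem D198806 : act 3 n110290 = n198806 := rfl
theorem F409330 : act 4 n198806 = n196090 := d5_2 D110290 D198806 F399371 F327889 F327352
theorem F409331 : act 7 n198806 = n196464 := d8_2 F360076 D198806 F400757
theorem F409332 : act 0 n198806 = n194569 := d19_4 D77943 (iv5 F326651) D110290 D198806 (iv5 D194569) F159227 F319042 F316682 D138935 (iv4 F408956) F408955 (iv1 F408630) F408631 (iv4 D112527) F81944 F39627 F39375 F324766 (iv3 F56240)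
theorem F409333 : act 0 n110936 = n198806 := d20_4 (iv4 F103642) (iv1 D67622) (iv4 F80698) (iv3 F171971) (iv3 D198806) (iv4 D110290) (iv1 F80213) (iv4 F330462) F164908 (iv1 F103626)
theorem F409334 : act 5 n198806 = n125475 := d17_1 F409333 (iv1 F201786) (iv5 F206928) (iv4 D128641) (iv5 D60498) D60496 D128634 F358323 F343551
theorem F409335 : act 6 n125475 = n196965 := d21_3 D110936 F409333 F409334 (iv1 D196965) (iv6 D107500) F78438 (iv1 F78322) (iv5 F166927) (iv6 F366907) (iv1 D110934)
theorem F409336 : act 2 n110923 = n125475 := d3_3 F409335 (iv2 F402477) F400760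
theorem F409337 : act 2 n198806 = n196465 := d2_3 F400759 F409336 (iv5 F409334)
theorem F409338 : act 7 n125476 = n110923 := d15_2 (iv0 D125475) D125476 F409336
theorem F409339 : act 7 n110922 = n125475 := d15_2 F201792 F201790 (iv2 F409336)
theorem F409340 : act 2 n125476 = n110922 := d4_3 F409339 (iv2 F409336) (iv7 F409338)
theorem F409341 : act 5 n196464 = n110922 := d13_3 F409339 (iv5 F409334) F409331
def n198807 : Q := act 5 n110290
theorem D198807 : act 5 n110290 = n198807 := rfl
theorem F409342 : act 3 n198807 = n125475 := d6_1 D198807 (iv5 F409334) (iv3 D198806)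
theorem F409343 : act 6 n198807 = n140670 := d12_2 (iv6 F360074) D198807 F246298 F362635 (iv5 F299733)
theorem F409344 : act 4 n198807 = n156039 := d16_2 D110290 D198807 (iv5 F358807) D197364 F404059 (iv4 F256104) F328279 (iv7 F328282) F328281
theorem F409345 : act 0 n198807 = n180389 := d17_2 F333473 D198807 (iv5 D180389) F132109 F60675 F296946 D121281 (iv0 F254954) D180163
theorem F409346 : act 1 n198807 = n121277 := d17_6 (iv1 D77944) F56241 D77943 (iv5 F326651) D110290 D198807 (iv5 D121277) D121276 (iv4 F256104)
def n198808 : Q := act 3 n110295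
theorem D198808 : act 3 n110295 = n198808 := rfl
theorem F409347 : act 0 n198808 = n196471 := d20_4 F330462 (iv1 F80214) D110295 D198808 F400774 F337617 (iv1 D161588) D161589 (iv3 F358712) (iv1 F330460)
theorem F409348 : act 0 n140389 = n198808 := d20_4 F166448 (iv1 F101067) (iv4 F101577) (iv3 F223520) (iv3 D198808) (iv4 D110295) (iv1 D50855) (iv4 F80211) F80210 D51525
def n198809 : Q := act 5 n110295
theorem D198809 : act 5 n110295 = n198809 := rfl
theorem F409349 : act 4 n198809 = n156038 := d9_1 D198809 F344467 (iv4 F400745) (iv5 F400746) F256385 (iv5 F326651) D110290 D198807 F409344 (iv5 F358807) D197364 F404059 (iv4 F256104) F328279 D110295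
theorem F409350 : act 0 n198809 = n121277 := d17_2 F362593 D198809 (iv5 D121277) F88534 F43546 D55949 D121284 F301319 (iv4 F325620)
theorem F409351 : act 1 n198809 = n180389 := d17_6 F298413 F135926 (iv1 F298089) F328279 D110295 D198809 (iv5 D180389) (iv0 F301037) F256385
def n198810 : Q := act 5 n110300
theorem D198810 : act 5 n110300 = n198810 := rfl
theorem F409352 : act 2 n198810 = n198809 := d2_1 D198810 (iv5 D198809) (iv2 F362602)
theorem F409353 : act 3 n198810 = n110922 := d6_1 D198810 (iv5 F409341) F400757
theorem F409354 : act 7 n198810 = n198807 := d13_2 (iv7 F360076) D198810 (iv5 D198807)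
theorem F409355 : act 1 n198810 = n157879 := d17_6 F326634 F88805 (iv1 F326645) (iv5 D110301) D110300 D198810 (iv5 D157879) D157878 (iv4 F326638)
theorem F409356 : act 4 n198810 = n195469 := d18_5 (iv1 D109180) F79758 D50856 D110300 D198810 F397094 (iv4 F337394) (iv0 F345392) (iv5 F345393)
theorem F409357 : act 6 n195468 = n198810 := d10_0 F409356 (iv6 D195469) D195468
def n198811 : Q := act 3 n110305
theorem D198811 : act 3 n110305 = n198811 := rfl
theorem F409358 : act 4 n198811 = n176672 := d5_2 D110305 D198811 F276046 (iv4 F358810) (iv3 D110304)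
theorem F409359 : act 6 n198811 = n170811 := d7_2 (iv6 F358824) D198811 (iv3 D170811)
theorem F409360 : act 7 n198811 = n198808 := d8_2 F362615 D198811 (iv3 D198808)
def n198812 : Q := act 5 n110305
theorem D198812 : act 5 n110305 = n198812 := rfl
theorem F409361 : act 2 n198812 = n198807 := d2_1 D198812 (iv5 D198807) (iv2 F360075)
theorem F409362 : act 7 n198812 = n198809 := d13_2 F362615 D198812 (iv5 D198809)
theorem F409363 : act 0 n198812 = n157879 := d17_2 (iv1 F362601) D198812 (iv5 D157879) F112761 F54644 (iv0 F117434) (iv5 F92700) (iv0 F323978) (iv4 F174941)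
theorem F409364 : act 4 n198812 = n196411 := d18_5 (iv1 F170407) F170404 (iv1 F80216) D110305 D198812 (iv0 D196411) F164852 D106960 (iv5 F358803)
theorem F409365 : act 6 n198158 = n198812 := d3_0 F409361 F409343 F407027
def n198813 : Q := act 5 n110321
theorem D198813 : act 5 n110321 = n198813 := rfl
theorem F409366 : act 3 n198813 = n110322 := d6_1 D198813 (iv5 D110322) D110321
theorem F409367 : act 1 n198813 = n176716 := d17_6 (iv1 D78828) F56547 F113656 F326193 (iv4 F170553) D198813 (iv5 D176716) (iv0 F258597) (iv4 D164082)
def n198814 : Q := act 0 n110322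
theorem D198814 : act 0 n110322 = n198814 := rfl
theorem F409368 : act 5 n198814 = n198376 := d21_2 D110322 D198814 (iv6 D198376) (iv1 D109261) (iv6 D50418) D50417 (iv1 F81572) F81574 D51769 (iv1 F166189)
theorem F409369 : act 1 n190500 = n198814 := d15_0 (iv0 D198814) (iv7 F174982) (iv2 F379922)
theorem F409370 : act 2 n198497 = n198814 := d2_3 F409368 F407807 D198497
def n198815 : Q := act 1 n110322
theorem D198815 : act 1 n110322 = n198815 := rfl
theorem F409371 : act 1 n198815 = n190500 := d15_1 D198815 (iv7 F407778) F407776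
theorem F409372 : act 7 n198815 = n198497 := d15_2 (iv0 D198814) D198815 F409370
theorem F409373 : act 5 n198815 = n111856 := d17_7 F169212 F81419 (iv1 F161303) (iv5 D50870) D50869 D110322 D198815 (iv0 F407784) (iv4 D198368)
def n198816 : Q := act 4 n110322
theorem D198816 : act 4 n110322 = n198816 := rfl
theorem F409374 : act 2 n198816 = n164097 := d1_1 D198816 (iv4 F407780) F407776
theorem F409375 : act 3 n189657 = n198816 := d0_0 F409374 F258631 (iv2 F293461) D94275 D189657
theorem F409376 : act 6 n164094 = n198816 := d3_0 F409374 (iv6 D164097) (iv2 F258626)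
theorem F409377 : act 0 n198816 = n188446 := d21_4 (iv5 F250808) (iv1 F141766) D164094 F409376 (iv6 D188446) (iv5 D91842) (iv1 F294336) (iv5 F335316) (iv6 D84330) D84327
def n198817 : Q := act 6 n110322
theorem D198817 : act 6 n110322 = n198817 := rfl
theorem F409378 : act 2 n198817 = n164096 := d3_1 D198817 F407779 F407776
theorem F409379 : act 4 n198817 = n164094 := d10_1 D198817 F409376 (iv4 D198816)
theorem F409380 : act 5 n163966 = n198817 := d16_3 (iv4 F56527) D78772 D163966 F409379 (iv5 D164094) F120003 (iv5 F88540) F88541 (iv2 D35872)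
def n198818 : Q := act 5 n110323
theorem D198818 : act 5 n110323 = n198818 := rfl
theorem F409381 : act 2 n198818 = n190257 := d2_1 D198818 F379223 (iv2 F340610)
theorem F409382 : act 3 n198818 = n162660 := d6_1 D198818 (iv5 D162660) (iv3 F325044)
theorem F409383 : act 6 n198818 = n163966 := d12_2 D110323 D198818 F409380 (iv6 D198817) (iv5 D110322)
theorem F409384 : act 7 n198818 = n198460 := d13_2 F246407 D198818 F408082
theorem F409385 : act 4 n198818 = n163967 := d16_2 (iv4 F170554) D198818 (iv5 F406225) (iv4 F406227) (iv5 D136503) (iv4 D64169) D64170 F169217 F169214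
theorem F409386 : act 0 n198818 = n111994 := d17_2 (iv1 F408365) D198818 (iv5 D111994) (iv4 F93029) F93030 (iv0 F166512) (iv5 F203111) (iv0 F203112) (iv4 F408362)
theorem F409387 : act 1 n198818 = n174694 := d17_6 (iv1 F79821) (iv5 F99382) (iv1 F99384) (iv5 F161308) (iv4 F170554) D198818 (iv5 D174694) F326040 F79904
theorem F409388 : act 1 n141975 = n163967 := d18_6 (iv1 D83471) F325064 (iv1 F39424) (iv4 F81536) D111977 (iv4 F344639) (iv4 F409385) F409387 (iv5 D174694)
def n198819 : Q := act 4 n110324
theorem D198819 : act 4 n110324 = n198819 := rfl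
theorem F409389 : act 2 n198819 = n111871 := d1_1 D198819 F173741 F170557
theorem F409390 : act 3 n198819 = n187420 := d5_1 D198819 F370268 (iv3 F364883) (iv4 F407731) F407735
theorem F409391 : act 6 n198819 = n111796 := d10_2 (iv6 F170556) D198819 (iv4 D111796)
theorem F409392 : act 7 n198819 = n198382 := d11_2 (iv7 F170559) D198819 F407828
theorem F409393 : act 0 n198819 = n198409 := d18_2 D110324 D198819 F407928 (iv5 D125944) (iv4 F173487) (iv0 D111783) F81318 F161309 D50870
theorem F409394 : act 5 n187419 = n198819 := d6_0 F409390 (iv5 D187420) D187419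
theorem F409395 : act 0 n198363 = n187419 := d17_2 (iv1 F169207) D198363 F409394 (iv4 D198819) F170555 (iv0 F169245) (iv5 D51913) (iv0 F161251) (iv4 F79900)
theorem F409396 : act 1 n198819 = n137257 := d15_0 (iv0 F220399) (iv7 F173742) (iv2 F409389)
theorem F409397 : act 0 n187419 = n198361 := d21_1 (iv5 F409394) (iv5 D198361) D198362 (iv1 F407765) (iv6 D109757) D109756 F354542 F354532 D137257 (iv1 F409396)
def n198820 : Q := act 5 n110325
theorem D198820 : act 5 n110325 = n198820 := rfl
theorem F409398 : act 2 n198820 = n198631 := d2_1 D198820 F408627 F407781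
theorem F409399 : act 3 n198820 = n164126 := d6_1 D198820 (iv5 D164126) (iv3 F327057)
theorem F409400 : act 7 n198820 = n198632 := d13_2 F174985 D198820 F408631
theorem F409401 : act 0 n198820 = n112104 := d17_2 F220391 D198820 (iv5 D112104) (iv4 F81959) F81960 (iv0 F172682) D126315 (iv0 F408156) F408153
theorem F409402 : act 1 n198820 = n112238 := d17_6 (iv1 F81320) F39397 F161310 D50870 D110325 D198820 (iv5 D112238) (iv0 F173499) (iv4 D111786)
def n198821 : Q := act 0 n110334
theorem D198821 : act 0 n110334 = n198821 := rfl
theorem F409403 : act 4 n198821 = n113014 := d20_2 (iv4 F170572) D198821 F373653 (iv1 D188164) F292425 (iv4 F376694) F377658 F377657 (iv3 F377296) (iv1 D110336)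
theorem F409404 : act 1 n133656 = n198821 := d15_0 (iv0 D198821) (iv7 F379951) F379948
theorem F409405 : act 2 n196936 = n198821 := d1_3 F409403 F176054 D196936
theorem F409406 : act 7 n133654 = n198821 := d11_0 F409403 F176053 F364663
theorem E103753 : n196936 = n133653 := (c15_4 (iv0 D133653) D133654 F409406 (iv2 F409405))
theorem F409407 : act 2 n133653 = n198821 := (sb E103753 F409405)
theorem F409408 : act 4 n133653 = n107479 := (sb E103753 (iv4 D196936))
def n198822 : Q := act 1 n110334
theorem D198822 : act 1 n110334 = n198822 := rfl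
theorem F409409 : act 1 n198822 = n133656 := d15_1 D198822 (iv7 D133656) (iv2 F170571)
theorem F409410 : act 7 n198822 = n133653 := d15_2 (iv0 D198821) D198822 F409407
theorem F409411 : act 4 n113015 = n198822 := d20_0 (iv1 D198822) F170572 (iv3 F96186) D131307 (iv3 F392289) F373808 (iv1 F370265) (iv4 F376732) F376731 (iv1 F176046)
theorem F409412 : act 2 n198822 = n133654 := d1_1 F409411 (iv4 F364663) (iv2 F176048)
def n198823 : Q := act 5 n110334
theorem D198823 : act 5 n110334 = n198823 := rfl
theorem F409413 : act 2 n198823 = n133655 := d2_1 D198823 (iv5 D133655) (iv2 F170571)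
theorem F409414 : act 3 n198823 = n194751 := d6_1 D198823 F394347 F379954
theorem F409415 : act 6 n198823 = n112978 := d12_2 D110334 D198823 (iv5 D112978) (iv6 D52148) (iv5 F80265)
theorem F409416 : act 7 n198823 = n194749 := d13_2 F379951 D198823 F394344
def n198824 : Q := act 5 n110338
theorem D198824 : act 5 n110338 = n198824 := rfl
theorem F409417 : act 2 n198824 = n126315 := d2_1 D198824 (iv5 D126315) (iv2 F170581)
theorem F409418 : act 3 n198824 = n139279 := d6_1 D198824 (iv5 D139279) F170580
theorem F409419 : act 6 n198824 = n137255 := d12_2 F403924 D198824 (iv5 F403930) (iv6 D197312) D197311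
theorem F409420 : act 0 n198824 = n195112 := d17_2 (iv1 F170579) D198824 (iv5 F408154) F408153 D198497 (iv0 F408158) (iv5 D198367) (iv0 F169209) (iv4 F101565)
theorem F409421 : act 4 n198824 = n137257 := d17_4 F166191 F101566 (iv1 F170579) D198824 F354547 (iv0 F354550) (iv5 D111959) F173488 F173487
theorem F409422 : act 1 n198824 = n195332 := d17_8 (iv1 F407810) (iv5 F408627) (iv1 F408628) (iv5 D109878) (iv4 F80268) F80269 D110338 D198824 (iv4 F407808)
def n198825 : Q := act 5 n110339
theorem D198825 : act 5 n110339 = n198825 := rfl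
theorem F409423 : act 2 n198825 = n144285 := d2_1 D198825 (iv5 F226979) F171839
theorem F409424 : act 3 n198825 = n110920 := d6_1 D198825 (iv5 D110920) (iv3 F170584)
theorem F409425 : act 7 n198825 = n144284 := d13_2 F175402 D198825 F226974
theorem F409426 : act 4 n198825 = n139651 := d17_4 (iv1 F168125) F82423 (iv1 F170582) D198825 (iv5 F245599) (iv0 D156296) (iv5 D74342) D74341 (iv4 F111536)
theorem F409427 : act 0 n198825 = n126689 := d18_0 F203873 (iv1 F245208) (iv4 D115725) (iv5 D53362) D53361 F168116 F165168 D110339 D198825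
theorem F409428 : act 6 n198825 = n116975 := d21_3 F82423 (iv1 F170582) D198825 (iv1 F405985) F405983 (iv5 F404663) (iv1 F404665) (iv5 F204304) (iv6 D127069) (iv1 F168125)
theorem F409429 : act 0 n144286 = n198825 := d21_10 (iv5 D198825) (iv1 D110339) F80271 (iv6 D50882) (iv1 F40834) D53320 F84168 (iv1 F328174) F328177 (iv6 F226982)
def n198826 : Q := act 6 n110339
theorem D198826 : act 6 n110339 = n198826 := rfl
theorem F409430 : act 2 n198826 = n195682 := d3_1 D198826 F397842 F171839
theorem F409431 : act 3 n198826 = n110921 := d7_1 D198826 (iv6 D110921) (iv3 F170584)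
theorem F409432 : act 4 n198826 = n156292 := d10_1 D198826 (iv6 D156292) (iv4 F170583)
theorem F409433 : act 0 n198826 = n197110 := d21_4 D144286 F409429 (iv5 D198825) D198826 (iv6 D197110) (iv5 F392583) F392585 (iv5 D144354) F226980 (iv1 D144285)
theorem F409434 : act 5 n198826 = n125701 := d21_6 (iv5 D24247) F19940 (iv5 F39987) D52143 (iv1 F170582) D198826 F202179 (iv5 F166052) (iv6 D107617) (iv1 D49716)
theorem F409435 : act 7 n195681 = n198826 := d13_0 F409434 F202178 D195681
def n198827 : Q := act 5 n110341
theorem D198827 : act 5 n110341 = n198827 := rfl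
theorem F409436 : act 2 n198827 = n141356 := d2_1 D198827 F224406 (iv2 F170591)
theorem F409437 : act 4 n198827 = n141351 := d9_1 D198827 (iv5 D141351) (iv4 D66308) F49400 (iv4 F94396) D127611 F205177 F170586 (iv4 D105636) (iv5 D48836) F37129 D23828 D48874 D105726 F170588
theorem F409438 : act 7 n198827 = n195500 := d13_2 (iv7 F170589) D198827 F397157
theorem F409439 : act 0 n198827 = n112720 := d17_2 (iv1 F170593) D198827 (iv5 D112720) F82214 F319639 (iv0 F319637) F225888 F174307 F174301
theorem F409440 : act 1 n198827 = n195502 := d17_6 F373625 (iv5 F205110) (iv1 D105725) D105726 F170588 D198827 F397165 F175440 (iv4 F373624)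
theorem F409441 : act 6 n172028 = n198827 := d21_5 (iv5 D101618) (iv1 D47267) D47268 (iv6 F126902) D172028 (iv5 D198827) (iv1 D110341) D110343 (iv6 F361255) (iv1 F316746)
def n198828 : Q := act 6 n110341
theorem D198828 : act 6 n110341 = n198828 := rfl
theorem F409442 : act 2 n198828 = n174174 := d3_1 D198828 (iv6 F353245) (iv2 F170591)
theorem F409443 : act 4 n198828 = n195565 := d10_1 D198828 (iv6 D195565) F170588
theorem F409444 : act 0 n198828 = n126335 := d21_4 (iv5 F397165) (iv1 F409440) (iv5 D198827) D198828 F358668 (iv5 F256538) (iv1 F256588) (iv5 F250809) (iv6 F340645) (iv1 F175440)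
theorem F409445 : act 5 n198828 = n193107 := d21_6 F175069 D139685 F222862 F166911 (iv1 F170593) D198828 (iv1 D193107) F340647 (iv6 D112556) D112553
theorem F409446 : act 0 n173245 = n198828 := d21_4 F393432 (iv1 F348587) (iv5 F344927) (iv6 F361254) (iv6 D198828) D198827 F409439 (iv5 D112720) D112721 (iv1 F393433)
theorem F409447 : act 7 n174173 = n198828 := d13_0 F409445 F388773 (iv5 F386452)
def n198829 : Q := act 5 n110342
theorem D198829 : act 5 n110342 = n198829 := rfl
theorem F409448 : act 2 n198829 = n110343 := d2_1 D198829 (iv5 D110343) D110342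
theorem F409449 : act 4 n198829 = n141333 := d9_1 D198829 (iv5 D141333) (iv4 D66300) D66301 F173670 F173668 F81630 D107587 (iv4 F224370) (iv5 D141342) (iv4 D66305) D66306 D141344 F224375 (iv4 F170594)
theorem F409450 : act 7 n198829 = n195554 := d13_2 (iv7 F170595) D198829 F397331
theorem F409451 : act 0 n198829 = n197068 := d17_2 (iv1 F170596) D198829 (iv5 F402901) F224605 (iv5 D141566) (iv0 F103086) F174377 (iv0 F379382) F379381
theorem F409452 : act 1 n198829 = n144427 := d17_6 D111826 (iv5 F228560) F228561 F224375 (iv4 F170594) D198829 F227229 (iv0 D112717) F82214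
theorem F409453 : act 6 n198829 = n152605 := d21_3 F224406 (iv1 F170596) D198829 (iv1 F389749) F389746 F203978 F111382 D136774 (iv6 F349878) F224407
def n198830 : Q := act 6 n110342
theorem D198830 : act 6 n110342 = n198830 := rfl
theorem F409454 : act 2 n198830 = n110344 := d3_1 D198830 (iv6 D110344) D110342
theorem F409455 : act 3 n198830 = n161588 := d7_1 D198830 (iv6 F334614) F175408
theorem F409456 : act 4 n198830 = n198708 := d10_1 D198830 (iv6 D198708) (iv4 F170594)
theorem F409457 : act 5 n198830 = n131436 := d12_1 D198830 F311504 D152605 (iv6 F409453) (iv5 D198829)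
theorem F409458 : act 7 n198830 = n147669 := d14_2 (iv7 F170595) D198830 (iv6 D147669) (iv7 F166912) F166911
theorem F409459 : act 0 n198830 = n118449 := d21_4 (iv5 F227229) (iv1 F409452) (iv5 D198829) D198830 (iv6 F249644) (iv5 D158443) D158441 F344922 (iv6 D112721) D112717
theorem F409460 : act 1 n198830 = n124975 := d15_1 (iv0 F409459) F200732 (iv2 F186272)
def n198831 : Q := act 1 n110343
theorem D198831 : act 1 n110343 = n198831 := rfl
theorem F409461 : act 1 n198831 = n195554 := d15_1 D198831 (iv7 F409450) F409448
theorem F409462 : act 7 n198831 = n197068 := d15_2 F353477 D198831 (iv2 F402900)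
theorem F409463 : act 5 n198831 = n110370 := d17_7 (iv1 F173632) (iv5 F225903) F225904 (iv5 F162323) (iv4 F80272) D110343 D198831 F175446 F175442
theorem F409464 : act 4 n198831 = n144425 := d17_9 F227224 (iv5 D105631) (iv1 D48834) D48836 D105636 (iv5 F170586) (iv0 D110340) D110343 D198831
theorem F409465 : act 2 n144427 = n198831 := d1_3 F409464 F227222 D144427
def n198832 : Q := act 6 n110346
theorem D198832 : act 6 n110346 = n198832 := rfl
theorem F409466 : act 4 n198832 = n111775 := d10_1 D198832 (iv6 D111775) (iv4 F170603)
theorem F409467 : act 5 n198832 = n170260 := d12_1 D198832 (iv6 D170260) (iv5 F127922) (iv6 F305208) F333436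
theorem F409468 : act 0 n198832 = n126342 := d21_4 F337598 (iv1 F337608) F333436 D198832 (iv6 D126342) (iv5 F326692) (iv1 F189968) D38555 (iv6 F128687) D175074
theorem F409469 : act 0 n126367 = n198832 := d21_4 (iv5 F327437) F254200 F326803 D126367 (iv6 D198832) (iv5 F333436) (iv1 F232874) F337595 (iv6 D110458) (iv1 F170828)
def n198833 : Q := act 6 n110347
theorem D198833 : act 6 n110347 = n198833 := rfl
theorem F409470 : act 2 n198833 = n198353 := d3_1 D198833 (iv6 D198353) (iv2 F170608)
theorem F409471 : act 3 n198833 = n121699 := d7_1 D198833 (iv6 F345642) F359781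
theorem F409472 : act 4 n198833 = n156110 := d10_1 D198833 F245299 F170607
theorem F409473 : act 0 n198163 = n198833 := d18_2 F175588 (iv4 F407053) F409472 (iv5 D156110) (iv4 F171181) F403663 F403661 F166967 D108102
theorem F409474 : act 7 n166171 = n198833 := d8_0 F409471 F345644 D166171
def n198834 : Q := act 6 n110352
theorem D198834 : act 6 n110352 = n198834 := rfl
theorem F409475 : act 2 n198834 = n162789 := d3_1 D198834 F359358 (iv2 F342288)
theorem F409476 : act 4 n198834 = n131553 := d10_1 D198834 F389864 F343344
theorem F409477 : act 5 n198834 = n110432 := d12_1 D198834 F359976 (iv5 D74132) D74133 (iv5 F350824)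
theorem F409478 : act 7 n198834 = n162790 := d14_2 (iv7 F342289) D198834 F359983 (iv7 F325404) F330807
theorem F409479 : act 0 n198834 = n121034 := d21_4 D125995 F354213 (iv5 F350824) D198834 F193005 (iv5 F322688) (iv1 F96298) D61710 (iv6 F352283) (iv1 D125994)
theorem F409480 : act 0 n162791 = n198834 := d21_4 F330713 (iv1 F188040) (iv5 F350673) (iv6 F257073) (iv6 D198834) F350824 (iv1 F350834) F350836 F321904 F330761
def n198835 : Q := act 3 n110353
theorem D198835 : act 3 n110353 = n198835 := rfl
theorem F409481 : act 5 n198835 = n137305 := d6_2 F342290 D198835 (iv3 F394296)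
theorem F409482 : act 6 n198835 = n165656 := d7_2 (iv6 F342286) D198835 (iv3 D165656)
theorem F409483 : act 7 n198835 = n163841 := d8_2 (iv7 F342287) D198835 (iv3 D163841)
theorem F409484 : act 4 n198835 = n180414 := d20_6 F321495 (iv1 F321501) (iv4 F56507) (iv3 F119855) (iv1 F325671) D198835 (iv1 D180414) F132135 F60694 D39889
theorem F409485 : act 0 n198835 = n164009 := d21_4 (iv5 F353952) (iv1 F383217) (iv5 F383219) (iv6 F409482) (iv6 D164009) (iv5 F250794) (iv1 F254400) F254403 (iv6 F389875) F389878
def n198836 : Q := act 0 n110355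
theorem D198836 : act 0 n110355 = n198836 := rfl
theorem F409486 : act 5 n198836 = n113165 := d21_2 D110355 D198836 F361327 F316777 F322778 F321018 D119144 F325405 (iv6 F342286) (iv1 D110353)
theorem F409487 : act 6 n198836 = n149029 := d21_5 (iv5 D125972) (iv1 F325126) D78435 (iv6 F325677) D198836 (iv5 D149029) (iv1 F314432) (iv5 F303198) (iv6 F323461) F228795
theorem F409488 : act 1 n163192 = n198836 := d15_0 (iv0 D198836) (iv7 F175429) (iv2 F361876)
theorem F409489 : act 2 n163190 = n198836 := d3_3 F409487 F234313 F330813
theorem F409490 : act 7 n163191 = n198836 := d15_2 (iv0 D163190) D163191 (iv2 F409489)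
def n198837 : Q := act 1 n110355
theorem D198837 : act 1 n110355 = n198837 := rfl
theorem F409491 : act 1 n198837 = n163192 := d15_1 D198837 (iv7 D163192) (iv2 F325676)
theorem F409492 : act 7 n198837 = n163190 := d15_2 (iv0 D198836) D198837 F409489
theorem F409493 : act 5 n198837 = n113166 := d17_7 D86264 D180601 (iv1 F361322) F169518 F81972 D110355 D198837 F324589 F132220
theorem F409494 : act 2 n163191 = n198837 := d2_3 F409493 F361323 F348489
def n198838 : Q := act 4 n110355
theorem D198838 : act 4 n110355 = n198838 := rfl
theorem F409495 : act 2 n198838 = n163188 := d1_1 D198838 F257476 (iv2 F325676)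
theorem F409496 : act 3 n198838 = n115406 := d5_1 D198838 (iv4 D115406) F84087 (iv4 F80280) (iv3 F170621)
theorem F409497 : act 6 n198838 = n163172 := d10_2 (iv6 F325677) D198838 (iv4 D163172)
theorem F409498 : act 0 n198838 = n196790 := d17_0 (iv5 D196790) D196788 F401801 F223443 F320642 (iv0 F324590) (iv5 F409486) (iv0 D198836) D198838
theorem F409499 : act 0 n134206 = n198838 := d20_7 (iv4 D25854) D25852 F80283 (iv3 F168809) F344734 (iv3 F403005) F403006 (iv4 D198838) F170621 F80281
def n198839 : Q := act 0 n110357
theorem D198839 : act 0 n110357 = n198839 := rfl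
theorem F409500 : act 5 n198839 = n162790 := d21_2 (iv5 F323131) D198839 F359983 (iv1 D79564) F56936 (iv5 F323785) D62278 (iv5 F326013) D120987 F361874
theorem F409501 : act 7 n110432 = n198839 := d13_0 F409500 (iv7 F409478) F409477
theorem F409502 : act 0 n198839 = n110434 := d21_7 F352278 (iv1 D178693) F328010 F327537 (iv1 F324250) (iv6 F359983) (iv5 F409500) F323134 (iv6 F132224) (iv1 F321900)
theorem F409503 : act 4 n198839 = n115685 := d11_1 F409501 (iv7 F359990) (iv4 F351510)
theorem F409504 : act 2 n198839 = n110431 := d15_3 (iv0 D110431) D110432 F409501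
def n198840 : Q := act 1 n110357
theorem D198840 : act 1 n110357 = n198840 := rfl
theorem F409505 : act 1 n198840 = n110434 := d15_1 D198840 (iv7 D110434) (iv2 F170623)
theorem F409506 : act 7 n198840 = n110431 := d15_2 (iv0 D198839) D198840 (iv2 F409504)
theorem F409507 : act 5 n198840 = n162789 := d17_7 (iv1 F318085) F298815 (iv1 F311386) (iv5 F330770) F192836 (iv5 F323131) D198840 (iv0 D162789) F305662
theorem F409508 : act 4 n198840 = n115686 := d17_9 (iv1 D115686) (iv5 F359985) (iv1 D115669) D115670 F351385 (iv5 F347916) F346933 (iv5 F323131) D198840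
theorem F409509 : act 6 n148671 = n198840 := d21_3 (iv5 F51354) D69675 D148671 (iv1 D198840) (iv6 D110357) (iv5 D50889) (iv1 F39858) D52042 F347897 (iv1 D55248)
theorem F409510 : act 2 n198840 = n110432 := d3_1 F409509 F359976 (iv2 F353029)
theorem F409511 : act 6 n110431 = n119564 := d14_3 (iv7 F353030) F409509 F409506 F359353 (iv6 D155842)
theorem F409512 : act 2 n152879 = n115686 := d1_3 (iv4 F409508) F409510 F351510
theorem F409513 : act 5 n115686 = n119614 := d2_2 D152879 F409512 F188656
def n198841 : Q := act 7 n110357
theorem D198841 : act 7 n110357 = n198841 := rfl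
theorem F409514 : act 2 n198841 = n110434 := d4_1 D198841 (iv7 D110434) (iv2 F170623)
theorem F409515 : act 3 n198841 = n125954 := d8_1 D198841 F325663 (iv3 F323130)
theorem F409516 : act 4 n198841 = n115415 := d11_1 D198841 (iv7 D115415) (iv4 F170624)
theorem F409517 : act 5 n198841 = n121086 := d13_1 D198841 F193122 (iv5 F323131)
theorem F409518 : act 1 n110432 = n198841 := d15_1 D110432 (iv7 D198841) F170623
theorem F409519 : act 1 n198841 = n110431 := d15_1 F409518 (iv7 F409506) F409510
def n198842 : Q := act 6 n110364
theorem D198842 : act 6 n110364 = n198842 := rfl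
theorem F409520 : act 2 n198842 = n110458 := d3_1 D198842 (iv6 D110458) (iv2 F170713)
theorem F409521 : act 4 n198842 = n110365 := d10_1 D198842 (iv6 D110365) D110364
theorem F409522 : act 5 n198842 = n145263 := d12_1 D198842 (iv6 D145263) (iv5 F210687) F330829 (iv5 F325961)
theorem F409523 : act 7 n198842 = n175074 := d14_2 (iv7 F170708) D198842 F337599 F175053 F82060
theorem F409524 : act 0 n198842 = n119449 := d21_4 D113377 F327432 (iv5 F325961) D198842 F188223 (iv5 D54968) (iv1 F190062) D119391 F326680 (iv1 F168460)
theorem F409525 : act 1 n198842 = n163530 := d15_1 (iv0 F409524) F361362 (iv2 F188221)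
def n198843 : Q := act 3 n110370
theorem D198843 : act 3 n110370 = n198843 := rfl
theorem F409526 : act 2 n198843 = n163337 := d0_1 D198843 F257645 (iv2 F257941) F353508 (iv2 F224608)
theorem F409527 : act 4 n198843 = n147608 := d5_2 (iv4 F223046) D198843 (iv3 D147608) F105463 (iv3 F223043)
theorem F409528 : act 6 n198843 = n163336 := d7_2 F353241 D198843 (iv3 F258616)
theorem F409529 : act 0 n166475 = n198843 := d21_4 (iv5 D120196) F188320 F328131 D166475 F409528 (iv5 F326796) (iv1 F173095) (iv5 F326805) (iv6 F354801) F191350
def n198844 : Q := act 6 n110371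
theorem D198844 : act 6 n110371 = n198844 := rfl
theorem F409530 : act 2 n198844 = n110373 := d3_1 D198844 (iv6 D110373) D110371
theorem F409531 : act 3 n198844 = n162806 := d7_1 D198844 F346488 F175478
theorem F409532 : act 4 n198844 = n198541 := d10_1 D198844 (iv6 D198541) (iv4 F170723)
theorem F409533 : act 5 n198844 = n126755 := d12_1 D198844 (iv6 D126755) D126754 (iv6 F397169) F397165
theorem F409534 : act 0 n198844 = n197146 := d21_4 F170586 D195502 F397165 D198844 (iv6 F403261) F210800 D139241 (iv5 F348548) (iv6 D110344) D110340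
theorem F409535 : act 1 n198844 = n162812 := d15_1 (iv0 F409534) F349868 (iv2 F403257)
def n198845 : Q := act 7 n110373
theorem D198845 : act 7 n110373 = n198845 := rfl
theorem F409536 : act 3 n198845 = n110378 := d8_1 D198845 (iv7 D110378) (iv3 F170725)
theorem F409537 : act 4 n198845 = n198542 := d11_1 D198845 (iv7 D198542) (iv4 F170726)
theorem F409538 : act 6 n198845 = n110660 := d14_1 D198845 F175451 (iv6 D112721) F82215 D110373
theorem F409539 : act 1 n162812 = n198845 := d15_1 F409535 (iv7 D198845) (iv2 F409530)
theorem F409540 : act 1 n198845 = n197146 := d15_1 F409539 F403259 (iv2 F349867)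
def n198846 : Q := act 7 n110374
theorem D198846 : act 7 n110374 = n198846 := rfl
theorem F409541 : act 2 n198846 = n159433 := d4_1 D198846 F349890 F175488
theorem F409542 : act 3 n198846 = n126752 := d8_1 D198846 (iv7 F219980) F349884
theorem F409543 : act 4 n198846 = n119634 := d11_1 D198846 F346467 F179771
theorem F409544 : act 5 n198846 = n126751 := d13_1 D198846 (iv7 F219978) (iv5 F349887)
theorem F409545 : act 0 n155701 = n198846 := d19_0 F409544 (iv4 F222761) (iv3 D139611) (iv1 F222730) (iv5 F372262) (iv4 D188077) F139718 (iv1 F293358) (iv5 D22530) (iv4 F62727) (iv3 D9756) (iv1 D4406) D4407 D9762 D20605 D43554 (iv5 F294636) F329902 D155701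
def n198847 : Q := act 3 n110375
theorem D198847 : act 3 n110375 = n198847 := rfl
theorem F409546 : act 2 n198847 = n162948 := d0_1 D198847 (iv3 D162948) (iv2 F348411) F348412 (iv2 F175490)
theorem F409547 : act 4 n198847 = n197860 := d5_2 (iv4 F170727) D198847 (iv3 D197860) (iv4 D108729) D108728
theorem F409548 : act 6 n198847 = n152590 := d7_2 F407738 D198847 (iv3 F407742)
theorem F409549 : act 5 n193415 = n198847 := d12_5 F409548 F239777 (iv6 F120200) (iv5 F321174) D193415
theorem F409550 : act 0 n197980 = n198847 := d21_4 F330499 F165227 (iv5 F344746) D197980 F409548 F239777 (iv1 F120219) D164559 F402857 (iv1 F402856)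
def n198848 : Q := act 5 n110375
theorem D198848 : act 5 n110375 = n198848 := rfl
theorem F409551 : act 3 n198848 = n193415 := d6_1 D198848 F409549 (iv3 D198847)
theorem F409552 : act 6 n198848 = n175113 := d12_2 F407738 D198848 F274082 (iv6 F188226) (iv5 F407737)
theorem F409553 : act 7 n198848 = n175126 := d13_2 F175494 D198848 F366439
theorem F409554 : act 1 n198848 = n197114 := d17_6 (iv1 F172663) (iv5 F245604) F245606 F221813 (iv4 F170727) D198848 (iv5 F403113) (iv0 F338337) (iv4 F338333)
def n198849 : Q := act 5 n110376
theorem D198849 : act 5 n110376 = n198849 := rfl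
theorem F409555 : act 2 n198849 = n175126 := d2_1 D198849 F366439 (iv2 F175496)
theorem F409556 : act 3 n198849 = n162955 := d6_1 D198849 (iv5 D162955) (iv3 F348409)
theorem F409557 : act 6 n198849 = n119435 := d12_2 (iv6 F319925) D198849 F188189 F86950 (iv5 F128690)
theorem F409558 : act 0 n198849 = n197114 := d17_2 (iv1 F175502) D198849 (iv5 F403113) (iv4 D125959) (iv5 F167256) (iv0 F167257) F162211 F82239 (iv4 F175500)
theorem F409559 : act 6 n197087 = n154970 := d21_9 (iv5 D73522) (iv1 F188449) (iv5 F188189) (iv6 F409557) F409558 (iv6 D197114) (iv5 F403026) F403028 (iv5 F402998) (iv1 D154970)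
def n198850 : Q := act 0 n110377
theorem D198850 : act 0 n110377 = n198850 := rfl
theorem F409560 : act 5 n198850 = n125981 := d17_3 (iv1 D110376) D110377 D198850 F202660 F172670 (iv0 D107120) (iv5 F79626) D108827 (iv4 F170728)
theorem F409561 : act 7 n197210 = n198850 := d13_0 F409560 F202662 D197210
def n198851 : Q := act 4 n110377
theorem D198851 : act 4 n110377 = n198851 := rfl
theorem F409562 : act 2 n198851 = n163185 := d1_1 D198851 (iv4 F403551) F175498
theorem F409563 : act 3 n198851 = n115799 := d5_1 D198851 F180172 (iv3 F111343) (iv4 F219982) (iv3 F349877)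
theorem F409564 : act 6 n198851 = n115797 := d10_2 F349888 D198851 (iv4 F219977)
theorem F409565 : act 0 n198851 = n163172 := d17_0 (iv5 F351858) (iv1 F405356) (iv5 F405266) F405265 (iv5 D125988) F202661 (iv5 F409560) (iv0 D198850) D198851
theorem F409566 : act 1 n198851 = n125978 := d18_6 (iv1 F175544) (iv4 D110382) (iv1 D50899) (iv4 F80298) D110377 D198851 (iv4 D125978) D125977 F202656
theorem F409567 : act 7 n163184 = n198851 := d14_0 F409564 (iv7 F222762) (iv6 F404759) F404760 F366416
theorem F409568 : act 3 n192936 = n163185 := d0_4 F409563 (iv2 F222740) (iv3 F386753) (iv2 F388272) (iv2 F409562)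
theorem F409569 : act 5 n163185 = n192933 := d6_2 D192936 F409568 F388270
theorem F409570 : act 4 n192933 = n145641 := d16_4 (iv4 F82233) D112735 F403551 F409569 (iv5 D145641) (iv4 D68270) (iv5 F80299) (iv7 D50900) (iv2 F39852)
theorem F409571 : act 6 n145641 = n192932 := d10_2 D192933 F409570 (iv4 D192932)
def n198852 : Q := act 7 n110377
theorem D198852 : act 7 n110377 = n198852 := rfl
theorem F409572 : act 4 n198852 = n163184 := d11_1 D198852 F409567 (iv4 D198851)
theorem F409573 : act 5 n198852 = n110378 := d13_1 D198852 (iv7 D110378) D110377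
theorem F409574 : act 1 n197210 = n198852 := d15_1 (iv0 F403550) (iv7 D198852) (iv2 F175498)
def n198853 : Q := act 3 n110379
theorem D198853 : act 3 n110379 = n198853 := rfl
theorem F409575 : act 2 n198853 = n121034 := d0_1 D198853 (iv3 D121034) F88311 F321754 (iv2 F170732)
theorem F409576 : act 4 n198853 = n119372 := d5_2 D110379 D198853 F188033 (iv4 F317708) (iv3 F166131)
theorem F409577 : act 7 n198853 = n162791 := d8_2 F175506 D198853 F350672
theorem F409578 : act 6 n149035 = n198853 := d14_5 F409577 F257073 (iv7 F318808) F330835 (iv7 F330836)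
theorem F409579 : act 1 n162790 = n198853 := d15_1 D162790 F409577 (iv2 D162791)
theorem F409580 : act 0 n162789 = n198853 := d21_4 (iv5 F320642) (iv1 F359357) F353032 (iv6 F359358) (iv6 F409578) (iv5 D149035) (iv1 D69903) D69905 (iv6 F361327) F324590
theorem F409581 : act 4 n177658 = n115412 := d18_5 F409580 F409576 F330769 (iv4 F327103) F363850 (iv0 D115412) (iv4 F170624) D198840 F409507
theorem F409582 : act 3 n115412 = n186084 := d5_1 F409581 (iv4 D186084) F135895 (iv4 F339167) D177658
def n198854 : Q := act 6 n110379
theorem D198854 : act 6 n110379 = n198854 := rfl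
theorem F409583 : act 2 n198854 = n121179 := d3_1 D198854 (iv6 F319907) (iv2 F170732)
theorem F409584 : act 3 n198854 = n149035 := d7_1 D198854 F409578 (iv3 D198853)
theorem F409585 : act 4 n198854 = n110381 := d10_1 D198854 (iv6 D110381) D110379
theorem F409586 : act 5 n198854 = n119377 := d12_1 D198854 F188045 (iv5 F305463) F359734 F359729
theorem F409587 : act 7 n198854 = n119376 := d14_2 F175506 D198854 F188043 F315488 (iv6 F175505)
theorem F409588 : act 0 n198854 = n110440 := d21_4 D78426 D163135 F359729 D198854 (iv6 D110440) (iv5 F325702) (iv1 D35839) (iv5 D17358) (iv6 F28252) D35739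
theorem F409589 : act 0 n121777 = n198854 := d21_4 D59020 D126012 F327266 (iv6 F350923) (iv6 D198854) (iv5 F359729) (iv1 F257456) (iv5 D78431) (iv6 F326491) (iv1 D59019)
def n198855 : Q := act 4 n110380
theorem D198855 : act 4 n110380 = n198855 := rfl
theorem F409590 : act 2 n198855 = n145704 := d1_1 D198855 (iv4 D145704) (iv2 F170733)
theorem F409591 : act 6 n198855 = n156106 := d10_2 (iv6 F170734) D198855 F245282
theorem F409592 : act 7 n198855 = n196721 := d11_2 F175512 D198855 F401596
theorem F409593 : act 5 n198855 = n196606 := d17_5 F76809 F76808 D50898 D110380 D198855 (iv0 D196606) (iv5 D107131) (iv0 F85113) (iv4 D53962)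
theorem F409594 : act 1 n198855 = n196881 := d18_6 (iv1 D107134) (iv4 F80320) (iv1 F170744) (iv4 D110379) D110380 D198855 F402139 (iv0 F401220) (iv5 D196609)
def n198856 : Q := act 0 n110383
theorem D198856 : act 0 n110383 = n198856 := rfl
theorem F409595 : act 4 n198856 = n164009 := d20_2 (iv4 F170745) D198856 F258473 (iv1 F336490) (iv3 F168865) F321469 F44640 (iv4 F60237) (iv3 F130077) (iv1 F324544)
theorem F409596 : act 3 n198856 = n197858 := d20_5 (iv4 D51108) (iv1 F39849) D50901 D110383 D198856 (iv4 D197858) (iv1 D108719) (iv4 F81070) (iv3 D51359) (iv1 F80626)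
theorem F409597 : act 1 n111379 = n198856 := d15_0 (iv0 D198856) F170747 D111379
theorem F409598 : act 6 n157952 = n198856 := d10_0 F409595 (iv6 D164009) (iv4 F248847)
def n198857 : Q := act 1 n110383
theorem D198857 : act 1 n110383 = n198857 := rfl
theorem F409599 : act 1 n198857 = n111379 := d15_1 D198857 (iv7 F360700) (iv2 F360698)
theorem F409600 : act 5 n188825 = n198857 := d21_6 (iv5 F293128) D47053 F293155 (iv6 F154349) F154350 D188825 (iv1 D198857) (iv5 F173046) F370336 (iv1 F143226)
theorem F409601 : act 3 n198857 = n188901 := d6_1 F409600 (iv5 D188901) (iv3 F375014)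
def n198858 : Q := act 0 n110389
theorem D198858 : act 0 n110389 = n198858 := rfl
def n198859 : Q := act 1 n110389
theorem D198859 : act 1 n110389 = n198859 := rfl
def n198860 : Q := act 5 n110389
theorem D198860 : act 5 n110389 = n198860 := rfl
theorem F409602 : act 2 n198860 = n130890 := d2_1 D198860 (iv5 F351642) F175452
theorem F409603 : act 3 n198860 = n191380 := d6_1 D198860 F383276 F349901
theorem F409604 : act 6 n198860 = n110391 := d12_2 D110389 D198860 (iv5 D110391) (iv6 D50905) D50904
theorem F409605 : act 5 n198858 = n177024 := d21_8 F120315 F127925 F127922 D170260 F337178 (iv6 F409604) (iv5 D198860) D198858 (iv6 D177024) F129484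
theorem F409606 : act 0 n118559 = n198860 := d21_7 (iv5 D107582) (iv1 D49701) D49703 D107590 (iv1 F351355) D197074 F402926 (iv5 D198860) (iv6 D110389) (iv1 F165980)
theorem F409607 : act 4 n198860 = n118550 := d20_2 F210715 F409606 F247749 F247746 F247742 F311697 (iv1 F334076) (iv4 D133834) D133833 (iv1 F344907)
theorem F409608 : act 0 n126734 = n197074 := d21_10 F402926 F409606 (iv5 D198860) (iv6 D110389) (iv1 F165980) F330506 D126836 (iv1 F220095) (iv5 D126733) D126734
theorem F409609 : act 3 n127072 = n198859 := d19_19 (iv1 D198859) D198860 F409607 F247749 F247746 F247743 (iv4 F335467) F335466 (iv1 D52944) (iv5 F83660) (iv4 F178806) F334122 F95498 F95497 F46548 (iv3 F46531) (iv1 F93623) (iv5 F94033) (iv4 F204305)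
theorem F409610 : act 6 n198859 = n127070 := d7_2 D127072 F409609 (iv3 D127070)
theorem F409611 : act 3 n155707 = n198858 := d6_3 F409605 F276442 F358469
theorem E103754 : n193450 = n137385 := (c20_2 (iv4 F357886) D193450 (iv4 F349902) F349901 D198858 (iv3 F409611) F358754 (iv1 D184369) F358741 D174447 F365298)
theorem F409612 : act 0 n137385 = n193435 := (sb E103754 (iv1 F389889))
theorem F409613 : act 1 n137385 = n101736 := (sb E103754 (iv0 D193450))
def n198861 : Q := act 7 n110389
theorem D198861 : act 7 n110389 = n198861 := rfl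
theorem F409614 : act 3 n198861 = n159436 := d8_1 D198861 (iv7 F349899) F349901
theorem F409615 : act 6 n198861 = n159433 := d14_1 D198861 F349890 (iv6 D112732) F82230 D110389
def n198862 : Q := act 3 n110390
theorem D198862 : act 3 n110390 = n198862 := rfl
theorem F409616 : act 2 n198862 = n172562 := d0_1 D198862 (iv3 F348178) (iv2 F341643) (iv3 F348162) F175456
theorem F409617 : act 4 n198862 = n111473 := d5_2 F170753 D198862 F172983 F81187 (iv3 F81162)
theorem F409618 : act 6 n198862 = n166749 := d7_2 (iv6 F175205) D198862 (iv3 F343104)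
theorem F409619 : act 7 n198862 = n111444 := d8_2 (iv7 F170752) D198862 F172954
theorem F409620 : act 0 n198862 = n166473 := d20_4 (iv4 D109578) (iv1 F81164) F170753 D198862 (iv3 D166473) (iv4 D79915) D79912 F324252 F326952 F169526
theorem F409621 : act 0 n158345 = n198862 := d20_4 D167772 F303742 (iv4 D158347) (iv3 F249483) (iv3 D198862) (iv4 F170753) (iv1 F81163) (iv4 F82246) (iv3 F327535) (iv1 F301017)
theorem F409622 : act 5 n198862 = n172574 := d21_2 D158345 F409621 (iv6 F357800) F354617 (iv6 D88074) (iv5 F106453) F106454 F87996 D100041 F344415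
theorem F409623 : act 1 n158345 = n173520 := d15_1 (iv0 F409621) (iv7 F340663) (iv2 F409616)
def n198863 : Q := act 5 n110390
theorem D198863 : act 5 n110390 = n198863 := rfl
theorem F409624 : act 2 n198863 = n132990 := d2_1 D198863 F351646 F175456
theorem F409625 : act 3 n198863 = n172574 := d6_1 D198863 (iv5 F409622) (iv3 D198862)
theorem F409626 : act 4 n198863 = n177203 := d9_1 D198863 (iv5 F344130) F344131 (iv5 D136742) F100087 F48694 (iv4 F82675) D113294 F341895 D131362 (iv4 F210573) (iv5 F344915) F203935 F100045 F170753
theorem F409627 : act 6 n198863 = n132984 := d12_2 (iv6 F175205) D198863 (iv5 D132984) D132985 F351655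
theorem F409628 : act 7 n198863 = n111446 := d13_2 (iv7 F170752) D198863 (iv5 D111446)
theorem F409629 : act 0 n198863 = n148275 := d17_2 (iv1 F170751) D198863 (iv5 F333759) (iv4 D144362) (iv5 D67642) F93852 F93850 F80312 D51027
theorem F409630 : act 1 n198863 = n131185 := d17_8 (iv1 F208270) F186448 (iv1 F192379) F337170 (iv4 F337176) (iv5 D110391) D110390 D198863 (iv4 D131185)
def n198864 : Q := act 4 n110394
theorem D198864 : act 4 n110394 = n198864 := rfl
theorem F409631 : act 2 n198864 = n197007 := d1_1 D198864 F402668 (iv2 F373697)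
theorem F409632 : act 7 n198864 = n191668 := d11_2 (iv7 F373695) D198864 F384094
theorem F409633 : act 0 n198864 = n172569 := d18_2 D110394 D198864 F270745 (iv5 F128659) (iv4 F332390) F401990 F401988 F355866 (iv5 D110397)
theorem F409634 : act 5 n198864 = n191669 := d18_4 (iv1 D107169) (iv4 F80318) D110394 D198864 F384095 F360366 F161520 D105351 (iv5 F345753)
theorem F409635 : act 0 n113301 = n198864 := d20_1 F366129 (iv4 D198864) (iv3 F373715) (iv1 F373718) (iv3 D110414) F321470 (iv1 D27913) (iv4 F45074) (iv3 F92772) D125373
def n198865 : Q := act 5 n110394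
theorem D198865 : act 5 n110394 = n198865 := rfl
theorem F409636 : act 2 n198865 = n113187 := d2_1 D198865 F352468 (iv2 F373697)
theorem F409637 : act 7 n198865 = n113186 := d13_2 (iv7 F373695) D198865 F373684
theorem F409638 : act 4 n198865 = n192409 := d16_4 (iv4 F384095) (iv5 F409634) (iv4 D198864) D198865 (iv5 D192409) F154092 (iv5 F136773) (iv7 F383746) F383743
theorem F409639 : act 0 n198865 = n113185 := d17_2 D110394 D198865 (iv5 D113185) F82600 D52394 F161559 F350006 (iv0 D107168) (iv4 F80318)
theorem F409640 : act 0 n110425 = n198865 := d21_10 (iv5 D198865) F328790 (iv5 F128536) (iv6 D83425) (iv1 D38429) (iv6 F59275) (iv5 D38416) D38414 D83390 (iv6 F327893)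
theorem F409641 : act 6 n174525 = n198865 := d21_5 (iv5 D18326) D18324 D38421 D83410 D174525 (iv5 D198865) F328790 (iv5 F128536) (iv6 D83425) (iv1 D38429)
theorem F409642 : act 2 n162584 = n174525 := d3_3 F409641 F409636 (iv6 F352469)
theorem F409643 : act 7 n174526 = n162584 := d15_2 (iv0 D174525) D174526 F409642
theorem F409644 : act 7 n162585 = n174525 := d15_2 (iv0 D162584) D162585 (iv2 F409642)
theorem F409645 : act 2 n174526 = n162585 := d4_3 F409644 (iv2 F409642) (iv7 F409643)
theorem F409646 : act 5 n162584 = n147806 := d13_1 F409643 F361635 F366958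
theorem F409647 : act 3 n147808 = n162584 := d6_3 F409646 (iv3 D147806) D147808
def n198866 : Q := act 6 n110394
theorem D198866 : act 6 n110394 = n198866 := rfl
theorem F409648 : act 2 n198866 = n194507 := d3_1 D198866 F393487 (iv2 F373697)
theorem F409649 : act 3 n198866 = n121720 := d7_1 D198866 (iv6 F373717) F373715
theorem F409650 : act 7 n198866 = n164138 := d14_2 (iv7 F373695) D198866 (iv6 D164138) F254445 (iv6 F360147)
theorem F409651 : act 0 n110622 = n198866 := d21_4 F351027 (iv1 F171215) (iv5 D110621) D110622 (iv6 D198866) D198865 F409639 (iv5 D113185) F105262 F202630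
theorem F409652 : act 1 n172163 = n198866 := d15_0 (iv0 F409651) (iv7 F175572) (iv2 F353941)
def n198867 : Q := act 3 n110395
theorem D198867 : act 3 n110395 = n198867 := rfl
theorem F409653 : act 2 n198867 = n164128 := d0_1 D198867 F258681 (iv2 F254441) F360146 F373694
theorem F409654 : act 6 n198867 = n163454 := d7_2 (iv6 F373693) D198867 (iv3 F373688)
theorem F409655 : act 4 n163456 = n198867 := d10_3 F409654 (iv4 D163454) D163456
theorem F409656 : act 0 n163846 = n198867 := d21_4 (iv5 F324622) F249406 F275812 (iv6 F330809) F409654 F257740 (iv1 F254422) F253648 (iv6 F345774) (iv1 D180253)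
theorem F409657 : act 0 n180475 = n163456 := d20_1 D180475 F409655 (iv3 D198867) (iv1 D110395) (iv3 D50908) F38754 (iv1 F38464) D50245 D108819 F321498
def n198868 : Q := act 4 n110395
theorem D198868 : act 4 n110395 = n198868 := rfl
theorem F409658 : act 2 n198868 = n191668 := d1_1 D198868 F384094 F373694
theorem F409659 : act 7 n198868 = n197007 := d11_2 F373696 D198868 F402668
theorem F409660 : act 5 n198868 = n186733 := d16_1 D198868 F367823 F136773 (iv4 F154092) D192409 (iv4 F409638) (iv5 D198865) F373695 F373694
theorem F409661 : act 3 n198868 = n113243 := d20_3 F328794 (iv1 F328789) D198868 (iv1 F176437) F165901 F104367 F322532 (iv4 F160854) F322534 (iv1 F176429)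
theorem F409662 : act 0 n172569 = n198868 := d20_10 (iv4 D198868) (iv1 D110395) F80318 (iv3 D49513) F37879 D28379 (iv4 F49300) D65904 D140404 F352238
theorem F409663 : act 1 n113301 = n198868 := d15_1 (iv0 F409635) F409659 (iv2 F409631)
def n198869 : Q := act 5 n110395
theorem D198869 : act 5 n110395 = n198869 := rfl
theorem F409664 : act 2 n198869 = n113186 := d2_1 D198869 F373684 F373694
theorem F409665 : act 7 n198869 = n113187 := d13_2 F373696 D198869 F352468
theorem F409666 : act 0 n198869 = n110425 := d17_2 (iv1 F328789) D198869 F170797 F82603 (iv5 F76644) D105351 (iv5 F345753) F176434 F328794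
theorem F409667 : act 0 n113185 = n198869 := d21_10 (iv5 D198869) (iv1 D110395) D110397 F347893 (iv1 F376011) F398604 F398599 (iv1 D147277) D147278 F230892
def n198870 : Q := act 4 n110400
theorem D198870 : act 4 n110400 = n198870 := rfl
theorem F409668 : act 2 n198870 = n163181 := d1_1 D198870 (iv4 D163181) (iv2 F327226)
theorem F409669 : act 3 n198870 = n154596 := d5_1 D198870 (iv4 D154596) (iv3 F242641) (iv4 F390097) (iv3 F390099)
theorem F409670 : act 7 n198870 = n163176 := d11_2 (iv7 F327227) D198870 (iv4 D163176)
def n198871 : Q := act 3 n110402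
theorem D198871 : act 3 n110402 = n198871 := rfl
theorem F409671 : act 2 n198871 = n164009 := d0_1 D198871 F258473 F254472 (iv3 F344695) F344694
theorem F409672 : act 6 n198871 = n163690 := d7_2 (iv6 F344641) D198871 (iv3 F281147)
theorem F409673 : act 4 n198871 = n111378 := d20_6 (iv4 D50245) F39417 F39416 D50911 D110402 D198871 (iv1 D111378) (iv4 F82227) (iv3 D52032) (iv1 F79612)
theorem F409674 : act 2 n111378 = n198856 := d1_1 F409673 F409595 (iv2 F409671)
theorem F409675 : act 6 n111378 = n180437 := d10_2 (iv6 F409672) F409673 (iv4 F280820)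
theorem F409676 : act 7 n198857 = n111378 := d15_2 (iv0 D198856) D198857 F409674
theorem F409677 : act 7 n111377 = n198856 := d15_2 F360702 F360701 (iv2 F409674)
theorem F409678 : act 2 n198857 = n111377 := d4_3 F409677 (iv2 F409674) (iv7 F409676)
theorem F409679 : act 6 n178317 = n111377 := d14_5 F409677 (iv6 F409598) F280817 (iv6 F404880) F404882
def n198872 : Q := act 5 n110402
theorem D198872 : act 5 n110402 = n198872 := rfl
theorem F409680 : act 2 n198872 = n115690 := d2_1 D198872 F344730 F344694
theorem F409681 : act 7 n198872 = n115689 := d13_2 (iv7 F344700) D198872 (iv5 F344703)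
theorem F409682 : act 4 n198872 = n198640 := d16_2 F380633 D198872 F408662 F324595 (iv5 F318576) (iv4 F244742) F361845 F344647 (iv2 F380632)
theorem F409683 : act 0 n198872 = n115691 := d17_2 D110402 D198872 (iv5 F202690) F202689 F376070 F376068 (iv5 F222812) (iv0 D111970) F81531
theorem F409684 : act 1 n198872 = n110427 := d17_6 F408579 (iv5 F362587) D193629 F390499 F380633 D198872 F170801 D113139 (iv4 F408578)
def n198873 : Q := act 5 n110403
theorem D198873 : act 5 n110403 = n198873 := rfl
theorem F409685 : act 2 n198873 = n115689 := d2_1 D198873 (iv5 F344703) (iv2 F344699)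
theorem F409686 : act 3 n198873 = n197084 := d6_1 D198873 F402979 F344644
theorem F409687 : act 7 n198873 = n115690 := d13_2 F344698 D198873 F344730
theorem F409688 : act 0 n198873 = n110427 := d17_2 (iv1 F175534) D198873 F170801 F82570 D64070 (iv0 F366473) F291980 F352008 (iv4 F175530)
theorem F409689 : act 1 n198873 = n115691 := d17_8 (iv1 F392993) (iv5 D111973) D111970 F222812 (iv4 F222811) (iv5 D110405) D110403 D198873 (iv4 F392990)
theorem F409690 : act 6 n198873 = n128216 := d21_3 (iv5 F376066) (iv1 F175534) D198873 (iv1 F347141) (iv6 D136756) D136755 (iv1 F333078) (iv5 D126930) D126931 F376065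
def n198874 : Q := act 5 n110414
theorem D198874 : act 5 n110414 = n198874 := rfl
theorem F409691 : act 2 n198874 = n137313 := d2_1 D198874 (iv5 F373708) F373707
theorem F409692 : act 3 n198874 = n110415 := d6_1 D198874 (iv5 D110415) D110414
theorem F409693 : act 4 n198874 = n139822 := d9_1 D198874 (iv5 D139822) (iv4 F104392) (iv5 F205106) F205105 D127608 F346326 F346327 (iv4 F336172) (iv5 D139825) (iv4 F101371) F103145 F94395 (iv5 F182588) (iv4 F170787)
theorem F409694 : act 6 n198874 = n155796 := d12_2 (iv6 F323140) D198874 F318952 (iv6 D82538) (iv5 F320694)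
theorem F409695 : act 7 n198874 = n120064 := d13_2 F324020 D198874 F318522
def n198875 : Q := act 4 n110425
theorem D198875 : act 4 n110425 = n198875 := rfl
theorem F409696 : act 3 n198875 = n115282 := d5_1 D198875 (iv4 D115282) F84000 F80331 D110425
theorem F409697 : act 6 n198875 = n174474 := d10_2 (iv6 F327893) D198875 (iv4 D174474)
theorem F409698 : act 7 n198875 = n113188 := d11_2 (iv7 F170798) D198875 (iv4 D113188)
theorem F409699 : act 0 n198875 = n192504 := d17_0 (iv5 D192504) F386664 F386663 F273433 F128536 (iv0 F328790) D198865 (iv0 F409640) D198875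
def n198876 : Q := act 0 n110429
theorem D198876 : act 0 n110429 = n198876 := rfl
theorem F409700 : act 5 n198876 = n115239 := d17_1 D198876 (iv1 F179470) D115459 F327618 D116552 F316205 F278483 F240024 F349443
theorem F409701 : act 1 n115346 = n198876 := d15_0 (iv0 D198876) F170806 (iv2 F179629)
theorem F409702 : act 2 n115349 = n198876 := d2_3 F409700 F218820 (iv5 F360856)
theorem F409703 : act 6 n115420 = n198876 := d12_0 F409700 F336207 F110967 (iv6 F110966) D115420
theorem F409704 : act 7 n115348 = n198876 := d13_0 F409700 F218821 (iv5 F336248)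
def n198877 : Q := act 1 n110429
theorem D198877 : act 1 n110429 = n198877 := rfl
theorem F409705 : act 1 n198877 = n115346 := d15_1 D198877 F349431 (iv2 F349441)
theorem F409706 : act 7 n198877 = n115349 := d15_2 (iv0 D198876) D198877 F409702
theorem F409707 : act 5 n198877 = n115240 := d17_7 (iv1 F179734) D195478 F397117 F162237 F103702 (iv5 F170805) D198877 F179475 (iv4 F179730)
theorem F409708 : act 3 n156084 = n198877 := d20_3 (iv4 F400266) F407718 F407715 (iv1 D198877) (iv3 D110429) (iv4 D50921) D50919 (iv4 F80331) (iv3 F84000) D115280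
theorem F409709 : act 6 n156082 = n198877 := d21_9 F170805 D115231 F349432 (iv6 F349438) (iv1 F184282) F318296 D74653 (iv1 F247051) F247053 (iv1 D198877)
theorem F409710 : act 2 n198877 = n115348 := d3_1 F409709 F336250 F246103
def n198878 : Q := act 0 n110430
theorem D198878 : act 0 n110430 = n198878 := rfl
def n198879 : Q := act 1 n110430
theorem D198879 : act 1 n110430 = n198879 := rfl
theorem F409711 : act 1 n198879 = n115415 := d15_1 D198879 (iv7 D115415) (iv2 F170807)
theorem F409712 : act 5 n198879 = n177255 := d17_7 (iv1 D72134) (iv5 F86288) (iv1 F208018) F316175 D157096 F351454 D198879 (iv0 F366734) (iv4 D152883)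
theorem F409713 : act 3 n160331 = n198879 := d19_19 (iv1 D198879) (iv5 F351454) (iv4 D157096) (iv3 F316174) (iv1 F92360) (iv5 F312480) F53219 D54413 (iv1 F190965) (iv5 D78235) D78234 D162770 F257002 (iv5 F320200) (iv4 F351620) F351619 (iv1 F135902) (iv5 F301965) D160331
theorem F409714 : act 7 n198879 = n115412 := d8_2 (iv7 F366897) F409713 F409582
theorem F409715 : act 2 n115412 = n198878 := d15_3 (iv0 D198878) D198879 F409714
theorem F409716 : act 7 n115413 = n198878 := d15_2 (iv0 D115412) D115413 (iv2 F409715)
theorem F409717 : act 2 n198879 = n115413 := d4_3 F409716 (iv2 F409715) (iv7 F409714)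
theorem F409718 : act 1 n115415 = n198878 := d15_1 F409711 (iv7 F409716) (iv2 F409717)
def n198880 : Q := act 7 n110430
theorem D198880 : act 7 n110430 = n198880 := rfl
theorem F409719 : act 2 n198880 = n115415 := d4_1 D198880 (iv7 D115415) (iv2 F170807)
theorem F409720 : act 3 n198880 = n155240 := d8_1 D198880 (iv7 F366494) F360854
theorem F409721 : act 4 n198880 = n110434 := d11_1 D198880 (iv7 D110434) (iv4 F170808)
theorem F409722 : act 5 n198880 = n116709 := d13_1 D198880 F351569 F351454
theorem F409723 : act 6 n198880 = n115363 := d14_1 D198880 (iv7 D115363) (iv6 D53217) (iv7 F80337) D110430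
theorem F409724 : act 1 n115413 = n198880 := d15_1 D115413 (iv7 D198880) F170807
theorem F409725 : act 1 n198880 = n115412 := d15_1 F409724 (iv7 F409714) F409717
def n198881 : Q := act 3 n110431
theorem D198881 : act 3 n110431 = n198881 := rfl
theorem F409726 : act 4 n198881 = n177284 := d20_6 F53322 D33979 F309334 (iv3 F321468) D110431 D198881 (iv1 D177284) (iv4 F199128) F199127 (iv1 F309217)
def n198882 : Q := act 4 n110431
theorem D198882 : act 4 n110431 = n198882 := rfl
theorem F409727 : act 2 n198882 = n115685 := d1_1 D198882 (iv4 F409503) F409504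
theorem F409728 : act 3 n198882 = n198285 := d5_1 D198882 (iv4 D198285) F351545 (iv4 F409726) (iv3 D198881)
theorem F409729 : act 7 n198882 = n115686 := d11_2 F409506 D198882 (iv4 F409508)
theorem F409730 : act 0 n198882 = n115688 := d17_0 F351509 (iv1 D156252) (iv5 F339873) (iv4 F351381) (iv5 D121095) F193123 (iv5 F409517) F409519 D198882
theorem F409731 : act 1 n198882 = n115288 := d18_8 (iv1 F245564) F179943 (iv1 F112092) D157101 (iv5 F351565) (iv4 F409516) F409519 D198882 (iv5 F339870)
def n198883 : Q := act 5 n110431
theorem D198883 : act 5 n110431 = n198883 := rfl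
theorem F409732 : act 2 n198883 = n162790 := d2_1 D198883 (iv5 F409500) F409504
theorem F409733 : act 6 n198883 = n119232 := d12_2 (iv6 F409511) D198883 (iv5 D119232) D119233 (iv5 F188547)
theorem F409734 : act 7 n198883 = n162789 := d13_2 F409506 D198883 (iv5 F409507)
theorem F409735 : act 4 n198883 = n131552 := d16_2 (iv4 D198882) D198883 F336417 F186486 F86288 (iv4 F108580) D152879 F359990 (iv2 F409727)
theorem F409736 : act 1 n198883 = n121034 := d17_8 (iv1 F350680) F350682 F403319 F403317 (iv4 F323598) (iv5 F409517) F409519 D198883 F305251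
theorem F409737 : act 0 n198883 = n162791 := d21_1 D198883 (iv5 F350671) (iv6 F350637) (iv1 F350646) (iv6 D110407) (iv5 D50912) (iv1 D24760) D24762 D50922 D110431
theorem F409738 : act 3 n198883 = n174160 := d19_3 F351478 (iv5 F336417) (iv4 F409735) (iv1 D174160) (iv5 F271732) (iv4 F401905) F401910 (iv1 F223773) (iv5 D140684) (iv4 D66009) D66008 (iv1 F173771) F82669 (iv4 F99471) (iv3 F218792) F359937 F359936 F211054 (iv3 F211053)
theorem F409739 : act 5 n174160 = n198881 := d6_2 D198883 F409738 (iv3 D198881)
def n198884 : Q := act 6 n110438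
theorem D198884 : act 6 n110438 = n198884 := rfl
theorem F409740 : act 2 n198884 = n132958 := d3_1 D198884 F362187 (iv2 F325698)
theorem F409741 : act 3 n198884 = n110440 := d7_1 D198884 (iv6 D110440) D110438
theorem F409742 : act 5 n198884 = n132910 := d12_1 D198884 (iv6 F213512) F355018 (iv6 D163817) (iv5 F325700)
theorem F409743 : act 7 n198884 = n133004 := d14_2 (iv7 F325701) D198884 F364884 (iv7 F365776) (iv6 D121783)
theorem F409744 : act 0 n198884 = n173210 := d21_4 (iv5 F250804) (iv1 F258183) (iv5 F325700) D198884 F271509 (iv5 D82890) D82888 D173213 (iv6 F345769) (iv1 D160564)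
def n198885 : Q := act 6 n110447
theorem D198885 : act 6 n110447 = n198885 := rfl
theorem F409745 : act 2 n198885 = n197082 := d3_1 D198885 (iv6 D197082) (iv2 F170818)
theorem F409746 : act 3 n198885 = n110452 := d7_1 D198885 (iv6 D110452) (iv3 F170819)
theorem F409747 : act 4 n198885 = n130705 := d10_1 D198885 (iv6 D130705) (iv4 F170823)
theorem F409748 : act 5 n198885 = n196029 := d12_1 D198885 (iv6 D196029) (iv5 F170671) F82059 D110447
theorem F409749 : act 7 n198885 = n196029 := d14_2 (iv7 F170820) D198885 (iv6 D196029) F170689 F96692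
theorem F409750 : act 0 n198885 = n132164 := d21_10 (iv5 D132164) F102068 F93605 (iv6 D59339) (iv1 F45605) D59371 (iv5 F161394) F170699 D110447 D198885
def n198886 : Q := act 3 n110451
theorem D198886 : act 3 n110451 = n198886 := rfl
theorem F409751 : act 4 n198886 = n130703 := d5_2 D110451 D198886 (iv3 D130703) (iv4 F170823) F170819
theorem F409752 : act 7 n198886 = n129169 := d8_2 (iv7 F170833) D198886 (iv3 D129169)
theorem F409753 : act 0 n148768 = n198886 := d20_1 (iv4 F233570) F409751 (iv3 D130703) (iv1 D61321) (iv3 F95801) F95802 D61364 D130814 F365181 (iv1 D148770)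
def n198887 : Q := act 6 n110451
theorem D198887 : act 6 n110451 = n198887 := rfl
theorem F409754 : act 2 n198887 = n129174 := d3_1 D198887 (iv6 D129174) (iv2 F170832)
theorem F409755 : act 4 n198887 = n110452 := d10_1 D198887 (iv6 D110452) D110451
def n198888 : Q := act 3 n110459
theorem D198888 : act 3 n110459 = n198888 := rfl
theorem F409756 : act 4 n198888 = n134144 := d5_2 D110459 D198888 (iv3 D134144) F168001 (iv3 F167999)
theorem F409757 : act 7 n198888 = n129172 := d8_2 (iv7 F170846) D198888 (iv3 D129172)
theorem F409758 : act 0 n198888 = n182599 := d20_10 (iv4 D182599) (iv1 F295121) D191603 F383956 (iv1 F345889) F203344 F93611 F80345 D110459 D198888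
theorem F409759 : act 1 n198888 = n190724 := d15_1 (iv0 F409758) F380814 F365381
theorem F409760 : act 2 n198888 = n190725 := d15_3 (iv0 D190725) (iv0 F366040) (iv7 F409757)
def n198889 : Q := act 5 n110463
theorem D198889 : act 5 n110463 = n198889 := rfl
theorem F409761 : act 2 n198889 = n110464 := d2_1 D198889 (iv5 D110464) D110463
theorem F409762 : act 7 n198889 = n125854 := d13_2 (iv7 F170854) D198889 F202355
theorem F409763 : act 0 n198889 = n112443 := d17_2 (iv1 F325171) D198889 (iv5 D112443) (iv4 D51874) D51875 (iv0 F323043) F296828 (iv0 F119476) (iv4 F119728)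
theorem F409764 : act 1 n198889 = n125857 := d17_6 (iv1 F169961) (iv5 F323115) F323113 (iv5 F80361) (iv4 F170853) D198889 F202359 F170419 F45278
def n198890 : Q := act 4 n110464
theorem D198890 : act 4 n110464 = n198890 := rfl
theorem F409765 : act 7 n198890 = n198517 := d11_2 (iv7 F170869) D198890 (iv4 D198517)
theorem F409766 : act 0 n198890 = n126046 := d17_0 F359711 F359713 D195768 F398093 (iv5 D125846) (iv0 D58932) D58936 (iv0 F171354) D198890
theorem F409767 : act 1 n198890 = n126087 := d18_6 F171082 (iv4 D59311) F170949 (iv4 F80351) D110464 D198890 (iv4 D126087) F202749 F202748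
def n198891 : Q := act 6 n110464
theorem D198891 : act 6 n110464 = n198891 := rfl
theorem F409768 : act 3 n198891 = n110466 := d7_1 D198891 (iv6 D110466) (iv3 F170868)
theorem F409769 : act 5 n198891 = n195688 := d12_1 D198891 F397864 (iv5 F325935) (iv6 D110465) D110464
def n198892 : Q := act 0 n110466
theorem D198892 : act 0 n110466 = n198892 := rfl
theorem F409770 : act 6 n198892 = n195717 := d21_5 (iv5 D50187) F38771 D50938 D110466 D198892 (iv5 D195717) (iv1 D106226) (iv5 F92939) (iv6 D58790) (iv1 F79538)
def n198893 : Q := act 1 n110466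
theorem D198893 : act 1 n110466 = n198893 := rfl
theorem F409771 : act 1 n198893 = n195698 := d15_1 D198893 F397889 F202022
def n198894 : Q := act 7 n110466
theorem D198894 : act 7 n110466 = n198894 := rfl
theorem F409772 : act 2 n198894 = n195698 := d4_1 D198894 F397889 F202022
theorem F409773 : act 5 n198894 = n195689 := d13_1 D198894 (iv7 D195689) (iv5 F355902)
theorem F409774 : act 1 n195698 = n198892 := d15_0 (iv0 D198892) D198894 F409772
def n198895 : Q := act 3 n110467
theorem D198895 : act 3 n110467 = n198895 := rfl
theorem F409775 : act 4 n198895 = n121036 := d5_2 (iv4 F174040) D198895 F348412 F175489 F173806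
theorem F409776 : act 6 n198895 = n163531 := d7_2 F395805 D198895 (iv3 F395804)
theorem F409777 : act 7 n198895 = n162954 := d8_2 F202030 D198895 (iv3 F348408)
theorem F409778 : act 0 n198895 = n177016 := d20_4 F92984 D64449 (iv4 F174040) D198895 F276421 D177020 (iv1 F360012) F360011 F360020 F202045
theorem F409779 : act 2 n162949 = n198895 := d1_3 F409775 F348411 D162949
def n198896 : Q := act 3 n110468
theorem D198896 : act 3 n110468 = n198896 := rfl
theorem F409780 : act 4 n198896 = n197861 := d5_2 (iv4 F170872) D198896 (iv3 D197861) (iv4 D108730) F165156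
theorem F409781 : act 6 n198896 = n145444 := d7_2 F170873 D198896 (iv3 D145444)
theorem F409782 : act 0 n198896 = n125726 := d19_4 F165325 F165323 (iv4 F170872) D198896 (iv5 D125726) (iv4 F172761) F172760 F100284 (iv5 F343755) (iv4 D77836) F56200 F323447 (iv5 F323451) D36555 (iv3 F322586) (iv1 F324075) F243865 (iv4 F347061) (iv3 F347066)
def n198897 : Q := act 4 n110473
theorem D198897 : act 4 n110473 = n198897 := rfl
theorem F409783 : act 2 n198897 = n197487 := d1_1 D198897 F404523 (iv2 F170877)
theorem F409784 : act 6 n198897 = n112861 := d10_2 (iv6 F170878) D198897 (iv4 D112861)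
theorem F409785 : act 7 n198897 = n127125 := d11_2 (iv7 F170879) D198897 F204376
theorem F409786 : act 0 n198897 = n113364 := d18_2 F170881 D198897 (iv4 D113364) (iv5 D52325) D52324 F161173 F40204 D28094 D59145
theorem F409787 : act 1 n198897 = n113369 := d18_6 F165158 (iv4 F201874) F201877 (iv4 D110472) D110473 D198897 (iv4 D113369) (iv0 F100553) (iv5 F165151)
def n198898 : Q := act 5 n110474
theorem D198898 : act 5 n110474 = n198898 := rfl
theorem F409788 : act 3 n198898 = n110476 := d6_1 D198898 (iv5 D110476) D110474
theorem F409789 : act 6 n198898 = n115599 := d12_2 (iv6 F170882) D198898 (iv5 F179909) D137844 F221062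
theorem F409790 : act 7 n198898 = n197484 := d13_2 F175097 D198898 F404520
theorem F409791 : act 0 n198898 = n198826 := d17_2 (iv1 F175067) D198898 F409434 (iv4 F202180) (iv5 F408715) F408716 F348127 F174082 (iv4 F175064)
theorem F409792 : act 1 n198898 = n126333 := d17_6 (iv1 F174279) D112138 F346891 F347188 (iv4 F174038) D198898 (iv5 D126333) (iv0 F174271) F163185
def n198899 : Q := act 3 n110497
theorem D198899 : act 3 n110497 = n198899 := rfl
theorem F409793 : act 4 n198899 = n112468 := d5_2 F170925 D198899 (iv3 D112468) (iv4 D51886) (iv3 F81917)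
theorem F409794 : act 5 n198899 = n126267 := d6_2 F170924 D198899 (iv3 D126267)
theorem F409795 : act 6 n198899 = n177463 := d7_2 (iv6 F323910) D198899 (iv3 F361743)
theorem F409796 : act 7 n198899 = n145455 := d8_2 (iv7 F170975) D198899 (iv3 D145455)
theorem F409797 : act 0 n198899 = n140404 := d20_4 F201650 F323043 F170925 D198899 F352238 F270745 (iv1 F360731) (iv4 F160849) F160848 D104971
theorem F409798 : act 1 n198899 = n140409 := d15_1 (iv0 F409797) F358900 (iv2 F358912)
theorem F409799 : act 0 n198242 = n126267 := d21_1 D198242 (iv5 F409794) F409795 (iv1 D177463) (iv6 D84546) (iv5 D38997) D38994 D84533 D177428 F353617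
def n198900 : Q := act 0 n110501
theorem D198900 : act 0 n110501 = n198900 := rfl
theorem F409800 : act 2 n166079 = n198900 := d15_3 (iv0 D198900) (iv0 F377761) F377760
theorem F409801 : act 1 n194863 = n198900 := d15_0 (iv0 D198900) (iv7 F175706) (iv2 F394787)
def n198901 : Q := act 5 n110568
theorem D198901 : act 5 n110568 = n198901 := rfl
theorem F409802 : act 2 n198901 = n191184 := d2_1 D198901 F382512 F171115
theorem F409803 : act 3 n198901 = n163514 := d6_1 D198901 (iv5 D163514) (iv3 F327078)
theorem F409804 : act 4 n198901 = n127396 := d9_1 D198901 (iv5 D127396) F329736 (iv5 D60649) (iv4 F48371) F48372 (iv4 F79539) D108701 (iv4 F332822) (iv5 D127399) (iv4 F332873) F332874 F206909 F164607 (iv4 F171114)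
theorem F409805 : act 7 n198901 = n125585 := d13_2 (iv7 F171117) D198901 (iv5 D125585)
theorem F409806 : act 0 n198901 = n126189 := d17_2 D110568 D198901 (iv5 D126189) (iv4 D59160) F78434 F93019 F93017 F164078 D50979
theorem F409807 : act 1 n198901 = n126186 := d17_6 D48654 (iv5 F99165) F164610 F164607 (iv4 F171114) D198901 (iv5 D126186) F163885 F45417
theorem F409808 : act 6 n198901 = n191183 := d21_9 F341786 (iv1 D166563) (iv5 F293082) F341780 (iv1 F96554) D61964 F328520 D110568 D198901 (iv1 F382509)
def n198902 : Q := act 1 n110583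
theorem D198902 : act 1 n110583 = n198902 := rfl
theorem F409809 : act 1 n198902 = n197214 := d15_1 D198902 F403573 F233926
theorem F409810 : act 7 n198902 = n197216 := d15_2 (iv0 F342096) D198902 F403586
theorem F409811 : act 5 n198902 = n110607 := d18_9 (iv1 D110607) F80458 D108739 (iv4 F355094) F355095 F230739 F228847 F228846 D198902
theorem E103755 : n197926 = n197868 := (c17_7 (iv1 F175130) (iv5 F409811) (iv1 D198902) (iv5 D110583) F80430 (iv5 F168709) D197926 (iv5 D197868) F223531 F223527)
theorem F409812 : act 0 n197868 = n108776 := (sb E103755 (iv1 D197926))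
theorem F409813 : act 3 n132827 = n198902 := d20_3 F113852 D86017 (iv4 F317752) (iv1 D198902) F171151 F80432 (iv1 F80485) (iv4 D51020) (iv3 F80475) F323585
theorem F409814 : act 2 n198902 = n197215 := d0_1 F409813 F403578 F272130 (iv3 F319403) (iv2 F213330)
theorem F409815 : act 4 n198902 = n162578 := d5_2 (iv4 F317752) F409813 (iv3 F363179) F280373 (iv3 D179994)
theorem F409816 : act 6 n198902 = n132812 := d7_2 D132827 F409813 F213295
def n198903 : Q := act 5 n110585
theorem D198903 : act 5 n110585 = n198903 := rfl
theorem F409817 : act 2 n198903 = n175073 := d2_1 D198903 (iv5 F361281) F175011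
theorem F409818 : act 3 n198903 = n166999 := d6_1 D198903 F262964 (iv3 F361274)
theorem F409819 : act 6 n198903 = n110586 := d12_2 D110585 D198903 (iv5 D110586) (iv6 D50991) D50990
def n198904 : Q := act 4 n110587
theorem D198904 : act 4 n110587 = n198904 := rfl
theorem F409820 : act 2 n198904 = n166475 := d1_1 D198904 F262030 (iv2 F350686)
theorem F409821 : act 3 n198904 = n122468 := d5_1 D198904 F395530 (iv3 D195039) D195040 F395535
theorem F409822 : act 6 n198904 = n118913 := d10_2 (iv6 F350687) D198904 F327104
theorem F409823 : act 0 n198904 = n163337 := d18_2 D110587 D198904 (iv4 F262477) F354806 (iv4 F354809) (iv0 F341464) (iv4 F348483) F348482 F328010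
def n198905 : Q := act 4 n110588
theorem D198905 : act 4 n110588 = n198905 := rfl
theorem F409824 : act 6 n198905 = n174136 := d10_2 (iv6 F348463) D198905 (iv4 D174136)
theorem F409825 : act 7 n198905 = n166475 := d11_2 (iv7 F350702) D198905 F262030
theorem F409826 : act 5 n198905 = n126854 := d18_4 (iv1 D78712) (iv4 F119854) (iv1 F325154) D198905 (iv4 F400258) (iv0 F400263) F223443 (iv0 F350827) F350830
theorem F409827 : act 1 n198905 = n163337 := d18_6 (iv1 F182021) F182018 (iv1 F184083) F353588 F348465 D198905 (iv4 F262477) F354858 (iv5 D147364)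
theorem F409828 : act 3 n198905 = n126855 := d19_3 (iv1 F348464) F348465 D198905 F352233 F352223 (iv4 D129493) D129492 (iv1 F209080) F98295 (iv4 F328401) F322909 (iv1 F162425) (iv5 F395969) F395970 F321489 (iv1 F92273) (iv5 F112635) (iv4 F316331) (iv3 F132221)
def n198906 : Q := act 6 n110595
theorem D198906 : act 6 n110595 = n198906 := rfl
theorem F409829 : act 2 n198906 = n165799 := d3_1 D198906 F351733 (iv2 F351730)
theorem F409830 : act 3 n198906 = n110596 := d7_1 D198906 (iv6 D110596) D110595
theorem F409831 : act 4 n198906 = n111275 := d10_1 D198906 (iv6 D111275) (iv4 F171167)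
theorem F409832 : act 7 n198906 = n166749 := d14_2 (iv7 F171168) D198906 (iv6 F409618) F409619 (iv6 D111444)
theorem F409833 : act 0 n198906 = n163806 := d21_4 F403527 F403156 (iv5 F354604) D198906 F342070 (iv5 F327247) F327243 F254081 (iv6 F328387) F403528
theorem F409834 : act 1 n198906 = n166750 := d15_1 (iv0 F409833) (iv7 F334666) (iv2 F362658)
def n198907 : Q := act 5 n110596
theorem D198907 : act 5 n110596 = n198907 := rfl
theorem F409835 : act 2 n198907 = n132994 := d2_1 D198907 F351659 (iv2 F171169)
theorem F409836 : act 7 n198907 = n132985 := d13_2 F175204 D198907 F351655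
theorem F409837 : act 0 n198907 = n132992 := d17_2 F175054 D198907 (iv5 F351677) F202597 (iv5 F93690) (iv0 D59383) F45627 D51927 D112548
theorem F409838 : act 1 n198907 = n132991 := d17_6 (iv1 F168973) (iv5 F100099) (iv1 D63460) (iv5 F80962) (iv4 F171170) D198907 F351650 F363224 F363222
def n198908 : Q := act 0 n110600
theorem D198908 : act 0 n110600 = n198908 := rfl
theorem F409839 : act 4 n198908 = n191052 := d18_3 (iv1 F354581) (iv4 F171176) D198908 F382005 (iv4 F409252) F409254 F173031 F174288 (iv5 F318883)
theorem F409840 : act 2 n191059 = n198908 := d1_3 F409839 (iv2 F382006) D191059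
theorem F409841 : act 7 n191055 = n198908 := d11_0 F409839 F381995 D191055
theorem F409842 : act 1 n198539 = n198908 := d18_6 (iv1 F382074) F220428 (iv1 D111384) F81098 D109535 D198539 F409839 F381994 (iv5 F382072)
def n198909 : Q := act 1 n110600
theorem D198909 : act 1 n110600 = n198909 := rfl
theorem F409843 : act 1 n198909 = n198539 := d15_1 D198909 F408276 F175137
theorem F409844 : act 7 n198909 = n191059 := d15_2 (iv0 D198908) D198909 F409840
theorem F409845 : act 4 n198909 = n191051 := d18_7 F382012 F365922 (iv1 F406468) F406466 (iv5 F354568) (iv4 F171176) D198909 (iv0 D191051) D191053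
theorem F409846 : act 3 n146759 = n198909 := d20_3 F112549 D75015 (iv4 F350721) (iv1 D198909) (iv3 F182088) F323317 (iv1 F223903) F223900 F350727 (iv1 D157574)
theorem F409847 : act 2 n198909 = n191055 := d0_1 F409846 F382020 (iv2 F346403) F346404 (iv2 F350786)
def n198910 : Q := act 5 n110600
theorem D198910 : act 5 n110600 = n198910 := rfl
theorem F409848 : act 6 n198910 = n110602 := d12_2 D110600 D198910 (iv5 D110602) (iv6 D50999) D50998
theorem F409849 : act 4 n198910 = n146897 := d18_5 F354582 (iv4 F318882) (iv1 F354581) (iv4 F171176) D198910 (iv0 D146897) (iv4 F106152) (iv0 F347932) F347934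
theorem F409850 : act 0 n198910 = n144514 := d18_0 F227370 F365403 (iv4 D148818) D148819 F347819 D191052 (iv4 F409839) (iv0 D198908) D198910
theorem F409851 : act 7 n198910 = n175313 := d15_2 (iv0 F252118) (iv0 F409850) F365766
theorem F409852 : act 0 n146753 = n198910 := d20_10 F409849 (iv1 F233625) F233623 (iv3 F112672) (iv1 F229433) (iv3 F357686) (iv4 F355122) F318116 F350769 D146753
def n198911 : Q := act 7 n110600
theorem D198911 : act 7 n110600 = n198911 := rfl
theorem F409853 : act 2 n198911 = n198539 := d4_1 D198911 F408276 F175137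
theorem F409854 : act 3 n198911 = n127706 := d8_1 D198911 (iv7 F323318) F182088
theorem F409855 : act 4 n198911 = n127708 := d11_1 D198911 F354566 (iv4 F171176)
theorem F409856 : act 5 n198911 = n175313 := d13_1 D198911 (iv7 F409851) (iv5 D198910)
theorem F409857 : act 6 n198911 = n127985 := d14_1 D198911 (iv7 F323305) (iv6 D112557) F81992 D110600
theorem F409858 : act 1 n191055 = n198911 := d15_1 (iv0 F382021) (iv7 D198911) (iv2 F175137)
theorem F409859 : act 1 n198911 = n191059 := d15_1 F409858 (iv7 F409844) F409847
def n198912 : Q := act 1 n110602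
theorem D198912 : act 1 n110602 = n198912 := rfl
theorem F409860 : act 1 n198912 = n175315 := d15_1 D198912 F353497 F175139
theorem F409861 : act 5 n198912 = n198833 := d17_7 F175585 (iv5 F166173) (iv1 D49929) (iv5 F38826) (iv4 F80450) D110602 D198912 (iv0 F409473) F407053
theorem F409862 : act 6 n175135 = n198912 := d21_9 (iv5 D110602) F80451 D108836 (iv6 F406393) (iv1 F406395) F354821 F128762 (iv1 F128700) D175135 (iv1 D198912)
theorem F409863 : act 2 n198912 = n175265 := d3_1 F409862 (iv6 D175265) (iv2 F334568)
theorem F409864 : act 3 n198912 = n146736 := d7_1 F409862 F345650 (iv3 F339384)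
def n198913 : Q := act 4 n110602
theorem D198913 : act 4 n110602 = n198913 := rfl
theorem F409865 : act 3 n198913 = n195674 := d5_1 D198913 (iv4 D195674) (iv3 F163508) D195859 F398496
theorem F409866 : act 6 n198913 = n146897 := d10_2 F409848 D198913 (iv4 F409849)
def n198914 : Q := act 4 n110606
theorem D198914 : act 4 n110606 = n198914 := rfl
def n198915 : Q := act 3 n110613
theorem D198915 : act 3 n110613 = n198915 := rfl
theorem F409867 : act 4 n198915 = n140683 := d5_2 F173769 D198915 (iv3 D140683) (iv4 D66009) D66008
theorem F409868 : act 5 n198915 = n119443 := d6_2 (iv5 F319923) D198915 F188208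
theorem F409869 : act 7 n198915 = n119442 := d8_2 (iv7 F319924) D198915 F188206
theorem F409870 : act 0 n174837 = n198915 := d20_4 F389507 (iv1 D177451) F342123 D174837 (iv3 D198915) (iv4 F173769) (iv1 F173771) F82668 (iv3 F175149) (iv1 F389508)
def n198916 : Q := act 4 n110618
theorem D198916 : act 4 n110618 = n198916 := rfl
def n198917 : Q := act 4 n110621
theorem D198917 : act 4 n110621 = n198917 := rfl
theorem F409871 : act 2 n198917 = n119063 := d1_1 D198917 F313051 (iv2 F171211)
theorem F409872 : act 3 n198917 = n114232 := d5_1 D198917 F321241 F100459 (iv4 F80463) (iv3 F171212)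
theorem F409873 : act 7 n198917 = n119056 := d11_2 (iv7 F171213) D198917 F313050
theorem F409874 : act 5 n198917 = n196193 := d17_5 (iv1 F343354) D84164 (iv1 F355837) D110621 D198917 F399817 F376820 F342093 F227874
theorem F409875 : act 0 n198917 = n119061 := d18_2 (iv1 F171215) D198917 F334759 F130074 (iv4 F319469) (iv0 F93257) (iv4 F93185) D125961 F351027
theorem F409876 : act 0 n114203 = n198917 := d20_10 (iv4 D198917) (iv1 F171214) (iv4 F347783) F347782 (iv1 F318197) F163350 (iv4 F314389) (iv1 F352069) (iv4 D114204) D114203
theorem F409877 : act 6 n152486 = n198917 := d21_5 F65118 (iv1 F32408) D43244 (iv6 F108438) D152486 F409874 (iv1 F399816) (iv5 D188557) (iv6 D92462) (iv1 F67777)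
def n198918 : Q := act 6 n110621
theorem D198918 : act 6 n110621 = n198918 := rfl
theorem F409878 : act 2 n198918 = n147322 := d3_1 D198918 (iv6 D147322) (iv2 F171211)
theorem F409879 : act 3 n198918 = n110623 := d7_1 D198918 (iv6 D110623) (iv3 F171212)
theorem F409880 : act 4 n198918 = n152486 := d10_1 D198918 F409877 (iv4 D198917)
theorem F409881 : act 5 n198918 = n172169 := d12_1 D198918 (iv6 D172169) (iv5 F332154) (iv6 D110622) D110621
theorem F409882 : act 7 n198918 = n195648 := d14_2 (iv7 F171213) D198918 (iv6 D195648) F178496 F308680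
theorem F409883 : act 0 n198918 = n114469 := d21_4 D84164 (iv1 F355837) D110621 D198918 (iv6 F359838) (iv5 F386572) (iv1 F386577) (iv5 F343360) (iv6 D147073) (iv1 F343354)
theorem F409884 : act 0 n114466 = n198918 := d21_4 F138825 D92721 F142937 (iv6 F178523) (iv6 D198918) (iv5 D110621) D110618 F343348 F343351 F328230
def n198919 : Q := act 1 n110622
theorem D198919 : act 1 n110622 = n198919 := rfl
theorem F409885 : act 1 n198919 = n172163 := d15_1 D198919 F353942 F352208
theorem F409886 : act 7 n198919 = n194507 := d15_2 (iv0 F409651) D198919 (iv2 F409648)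
theorem F409887 : act 5 n198919 = n147436 := d17_7 (iv1 F359843) F352179 (iv1 D174043) F128288 F303451 (iv5 F332154) D198919 (iv0 F383787) (iv4 D191553)
theorem F409888 : act 3 n147439 = n198919 := d20_3 D84848 D178287 (iv4 F339608) (iv1 D198919) F171216 (iv4 F81144) F81146 (iv4 F168777) F356023 (iv1 D84846)
theorem F409889 : act 6 n121758 = n198919 := d21_3 (iv5 F330700) (iv1 F330704) (iv5 F254062) (iv1 D198919) (iv6 D110622) D110621 (iv1 F171214) (iv5 F330672) (iv6 D86305) D86300
theorem F409890 : act 2 n198919 = n164138 := d3_1 F409889 (iv6 D164138) F254075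
def n198920 : Q := act 0 n110624
theorem D198920 : act 0 n110624 = n198920 := rfl
theorem F409891 : act 5 n198920 = n163140 := d17_3 (iv1 F326506) D110624 D198920 F332168 (iv5 D108102) (iv0 D49928) (iv5 F38826) F39870 F325864
theorem F409892 : act 6 n198920 = n123709 := d21_5 F182687 (iv1 F354584) (iv5 F353671) F353670 D198920 F198191 (iv1 F115772) (iv5 F112547) D157572 F357690
theorem F409893 : act 2 n146140 = n198920 := d15_3 (iv0 D198920) (iv0 F332147) (iv7 F318787)
theorem F409894 : act 1 n121736 = n198920 := d15_0 (iv0 D198920) (iv7 F175573) F358628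
theorem F409895 : act 3 n166477 = n198920 := d20_3 F278238 F378641 F378639 (iv1 F409894) F348458 (iv4 D182453) (iv1 F292331) (iv4 F136969) (iv3 F368265) (iv1 F368268)
def n198921 : Q := act 1 n110625
theorem D198921 : act 1 n110625 = n198921 := rfl
theorem F409896 : act 1 n198921 = n147564 := d15_1 D198921 (iv7 D147564) (iv2 F171219)
theorem F409897 : act 7 n198921 = n147561 := d15_2 (iv0 F308696) D198921 F308689
theorem F409898 : act 4 n198921 = n189882 := d17_9 (iv1 F378081) (iv5 F358116) (iv1 F160488) (iv5 F358415) (iv4 F358419) (iv5 D158791) D158790 F307477 D198921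
theorem F409899 : act 5 n198921 = n173207 := d18_9 (iv1 F271504) (iv4 F243855) F332036 (iv4 F341911) F341912 (iv4 F393497) F393495 F173545 D198921
theorem F409900 : act 2 n147562 = n198921 := d2_3 F409899 F271500 (iv5 F308694)
theorem F409901 : act 3 n166450 = n198921 := d6_3 F409899 F271501 (iv5 F330279)
theorem F409902 : act 6 n198921 = n177511 := d7_2 (iv6 F339274) F409901 (iv3 D177511)
theorem F409903 : act 0 n167765 = n177511 := d21_4 (iv5 D72627) (iv1 F190175) D80505 D167765 (iv6 F409902) F409899 (iv1 F271504) (iv5 F320703) F344714 (iv1 D153595)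
def n198922 : Q := act 4 n110627
theorem D198922 : act 4 n110627 = n198922 := rfl
theorem F409904 : act 2 n198922 = n127845 := d1_1 D198922 (iv4 F315491) F175152
theorem F409905 : act 3 n198922 = n150188 := d5_1 D198922 F236364 F303186 (iv4 F307476) (iv3 F313054)
theorem F409906 : act 5 n198922 = n155066 := d9_2 D110627 D198922 (iv4 D155066) (iv5 F321765) F183126 (iv5 F168831) F317706 (iv5 F313814) F313813 (iv5 D118102) F324783 (iv5 D64457) F48781 D30353 (iv4 F80472)
theorem F409907 : act 6 n198922 = n114560 := d10_2 (iv6 F313055) D198922 F301483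
theorem F409908 : act 7 n198922 = n155118 := d11_2 F203135 D198922 (iv4 F313819)
theorem F409909 : act 0 n198922 = n150106 := d17_0 (iv5 F238785) (iv1 D150197) (iv5 F107153) F86891 F328023 F327553 F318550 F316276 D198922
theorem F409910 : act 1 n198922 = n160009 := d18_6 F319913 F317719 (iv1 D64464) (iv4 F80472) D110627 D198922 (iv4 F323468) F323465 (iv5 F319917)
def n198923 : Q := act 1 n110630
theorem D198923 : act 1 n110630 = n198923 := rfl
theorem F409911 : act 1 n198923 = n148241 := d15_1 D198923 F232074 F173370
theorem F409912 : act 7 n198923 = n164030 := d15_2 (iv0 F230749) D198923 F348612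
theorem F409913 : act 3 n174141 = n198923 := d20_3 F80458 D108739 (iv4 F355094) (iv1 D198923) (iv3 D110630) (iv4 F322483) F67527 (iv4 F119694) (iv3 F320723) (iv1 D110607)
theorem F409914 : act 6 n165646 = n198923 := d21_3 D125357 (iv1 F348592) F348593 (iv1 D198923) F322482 (iv5 F319972) F331710 (iv5 D178231) (iv6 F341201) (iv1 F201455)
theorem F409915 : act 2 n198923 = n147451 := d0_1 F409913 (iv3 D147451) (iv2 F105423) (iv3 F230740) F355093
def n198924 : Q := act 0 n110635
theorem D198924 : act 0 n110635 = n198924 := rfl
theorem F409916 : act 5 n198924 = n141468 := d17_3 (iv1 F330660) (iv5 F171347) D198924 (iv4 D141468) F181550 F180698 (iv5 F162354) F223257 F330663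
theorem F409917 : act 4 n198924 = n111995 := d18_1 D198924 (iv1 F174072) F169338 (iv5 D69199) D69198 (iv0 F181674) (iv4 F182039) (iv0 D116670) (iv5 F171347)
theorem F409918 : act 0 n194802 = n190325 := d20_4 (iv4 F171242) D198924 F409917 (iv3 F394527) (iv3 D190325) (iv4 D95871) D95869 (iv4 F378299) F408204 (iv1 D198520)
theorem F409919 : act 6 n198924 = n165633 := d21_5 (iv5 F330174) (iv1 F351951) F315533 (iv6 F321853) D198924 F330242 (iv1 F330236) F330238 (iv6 F250699) (iv1 F250703)
theorem F409920 : act 2 n148210 = n198924 := d15_3 (iv0 D198924) (iv0 F373736) F373735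
theorem F409921 : act 1 n116681 = n198924 := d15_0 (iv0 D198924) (iv7 F173396) (iv2 F182066)
theorem F409922 : act 7 n198924 = n148209 := d15_2 (iv0 F373737) F409921 (iv2 F373733)
def n198925 : Q := act 0 n110648
theorem D198925 : act 0 n110648 = n198925 := rfl
theorem F409923 : act 5 n198925 = n110760 := d17_1 D198925 (iv1 F238566) F238564 (iv4 D120154) (iv5 D55289) D55287 (iv5 F312862) F346717 (iv4 F171256)
theorem F409924 : act 4 n198925 = n118571 := d18_3 (iv1 D110650) (iv4 F171256) D198925 F186484 F86286 F86246 D118481 F186372 (iv5 F346714)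
theorem F409925 : act 1 n111851 = n198925 := d15_0 (iv0 D198925) (iv7 F381587) F381584
theorem F409926 : act 2 n111848 = n198925 := d1_3 F409924 F344803 F344951
theorem F409927 : act 6 n190049 = n198925 := d10_0 F409924 (iv6 F368253) (iv4 F378643)
theorem F409928 : act 7 n111849 = n198925 := d11_0 F409924 (iv7 D118571) (iv4 F346384)
def n198926 : Q := act 1 n110648
theorem D198926 : act 1 n110648 = n198926 := rfl
theorem F409929 : act 1 n198926 = n111851 := d15_1 D198926 (iv7 D111851) (iv2 F171255)
theorem F409930 : act 7 n198926 = n111848 := d15_2 (iv0 D198925) D198926 F409926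
theorem F409931 : act 5 n198926 = n110761 := d17_7 (iv1 F108019) (iv5 F97847) F97845 D62731 D133648 (iv5 F360277) D198926 (iv0 F238565) (iv4 D151688)
theorem F409932 : act 4 n198926 = n118484 := d18_7 (iv1 F315051) F189751 (iv1 F87491) F310773 (iv5 F327538) (iv4 F171256) D198926 F354611 (iv5 D173491)
theorem F409933 : act 3 n111845 = n198926 := d19_19 (iv1 D198926) F360277 (iv4 D133648) F97858 F47693 (iv5 D24016) (iv4 D11268) F9965 (iv1 D2185) (iv5 D1072) (iv4 F1988) (iv3 F3533) D5304 D11413 D24252 D49727 (iv1 F360181) (iv5 F166939) (iv4 F173667)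
theorem F409934 : act 6 n111844 = n198926 := d21_3 F380534 (iv1 D112101) (iv5 F173664) (iv1 D198926) (iv6 D110648) F80482 F39290 D50538 D109543 (iv1 F380536)
theorem F409935 : act 2 n198926 = n111849 := d3_1 F409934 (iv6 F354558) (iv2 F248411)
def n198927 : Q := act 3 n110692
theorem D198927 : act 3 n110692 = n198927 := rfl
theorem F409936 : act 2 n198927 = n195113 := d0_1 D198927 (iv3 D195113) (iv2 F173639) (iv3 F324452) F324451
theorem F409937 : act 4 n198927 = n110694 := d5_2 D110692 D198927 (iv3 D110694) (iv4 D51035) D51034
theorem F409938 : act 6 n198927 = n162928 := d7_2 (iv6 F323046) D198927 (iv3 D162928)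
theorem F409939 : act 7 n198927 = n166322 := d8_2 (iv7 F323047) D198927 F261914
theorem F409940 : act 5 n196700 = n198927 := d12_5 F409938 F341703 F192991 (iv5 F341951) (iv6 F401529)
theorem F409941 : act 4 n146457 = n196700 := d18_3 (iv1 D113393) (iv4 F104875) D146457 F409940 F409937 (iv0 F171358) F161096 D105186 (iv5 F176589)
theorem F409942 : act 6 n195128 = n146457 := d10_0 F409941 F401529 (iv4 F395886)
theorem F409943 : act 3 n146457 = n195129 := d7_1 F409942 (iv6 D195129) D195128
def n198928 : Q := act 5 n110692
theorem D198928 : act 5 n110692 = n198928 := rfl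
theorem F409944 : act 2 n198928 = n126385 := d2_1 D198928 (iv5 F324453) F324451
theorem F409945 : act 3 n198928 = n196700 := d6_1 D198928 F409940 (iv3 D198927)
theorem F409946 : act 7 n198928 = n126384 := d13_2 (iv7 F323047) D198928 F323913
theorem F409947 : act 0 n198928 = n113478 := d17_2 F324455 D198928 (iv5 D113478) F82749 F323902 (iv0 F323899) F80361 (iv0 F323113) (iv4 F148457)
theorem F409948 : act 1 n198928 = n126114 := d17_6 (iv1 D78537) (iv5 F61202) F119072 F323048 D110692 D198928 (iv5 D126114) F176634 F323930
def n198929 : Q := act 0 n110729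
theorem D198929 : act 0 n110729 = n198929 := rfl
theorem F409949 : act 5 n198929 = n113570 := d17_3 F80495 D110729 D198929 F176715 F163603 F163601 F78159 (iv0 D48646) (iv4 F76512)
theorem F409950 : act 1 n113669 = n198929 := d15_0 (iv0 D198929) (iv7 F175228) (iv2 F176859)
def n198930 : Q := act 1 n110729
theorem D198930 : act 1 n110729 = n198930 := rfl
theorem F409951 : act 1 n198930 = n113669 := d15_1 D198930 F176860 F176520
def n198931 : Q := act 4 n110729
theorem D198931 : act 4 n110729 = n198931 := rfl
theorem F409952 : act 1 n198931 = n128925 := d18_6 F93090 F40266 (iv1 F45884) D51047 D110729 D198931 F207152 (iv0 F352200) (iv5 D113331)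
def n198932 : Q := act 6 n110729
theorem D198932 : act 6 n110729 = n198932 := rfl
theorem F409953 : act 3 n198932 = n133000 := d7_1 D198932 (iv6 F354290) (iv3 F354340)
theorem F409954 : act 5 n198932 = n190660 := d12_1 D198932 F380484 F202982 F170876 D110729
theorem F409955 : act 0 n129067 = n198932 := d17_2 (iv1 D129066) D129067 F409954 F400116 (iv5 D196267) (iv0 D106850) (iv5 F164626) D196251 (iv4 F400061)
def n198933 : Q := act 6 n110735
theorem D198933 : act 6 n110735 = n198933 := rfl
theorem F409956 : act 2 n198933 = n137329 := d3_1 D198933 (iv6 D137329) (iv2 F336137)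
theorem F409957 : act 3 n198933 = n134190 := d7_1 D198933 F216226 (iv3 F330977)
theorem F409958 : act 4 n198933 = n196786 := d10_1 D198933 (iv6 D196786) (iv4 F336138)
theorem F409959 : act 5 n198933 = n134183 := d12_1 D198933 (iv6 D134183) (iv5 D63036) D63037 (iv5 F330978)
theorem F409960 : act 7 n198933 = n137420 := d14_2 (iv7 F336139) D198933 F360691 F362210 (iv6 D137325)
theorem F409961 : act 1 n137422 = n198933 := d15_1 (iv0 F365535) F409960 (iv2 F360690)
theorem F409962 : act 1 n198933 = n136052 := d15_1 F409961 F218931 D137422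
def n198934 : Q := act 5 n110737
theorem D198934 : act 5 n110737 = n198934 := rfl
theorem F409963 : act 2 n198934 = n110738 := d2_1 D198934 (iv5 D110738) D110737
theorem F409964 : act 3 n198934 = n136957 := d6_1 D198934 F220122 (iv3 F171408)
theorem F409965 : act 7 n198934 = n136948 := d13_2 (iv7 F171410) D198934 F220119
theorem F409966 : act 0 n198934 = n136851 := d17_2 (iv1 F171411) D198934 (iv5 D136851) D136850 F220040 F225706 F225704 F220498 (iv4 D137323)
theorem F409967 : act 1 n198934 = n136846 := d17_6 (iv1 F172280) (iv5 D51229) D51225 F80817 (iv4 F171409) D198934 (iv5 D136846) (iv0 D64333) (iv4 F50029)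
theorem E103756 : n136978 = n136852 := ((c21_4 D198934 F409966 (iv5 D136851) D136852 (iv1 D136978) (iv6 F328172) (iv5 D101369) (iv1 F290172) (iv5 F362209) (iv6 D137325) (iv1 F171411))).symm
theorem F409968 : act 0 n136852 = n64379 := (sb E103756 (iv1 D136978))
theorem F409969 : act 6 n134281 = n198934 := d21_5 (iv5 F365400) (iv1 D134278) (iv5 D63084) D63085 D134281 (iv5 D198934) (iv1 F171412) (iv5 F336146) (iv6 D134179) (iv1 F215984)
def n198935 : Q := act 0 n110738
theorem D198935 : act 0 n110738 = n198935 := rfl
theorem F409970 : act 3 n198935 = n116125 := d20_5 (iv4 F45761) D59467 F93867 (iv3 F171413) D198935 (iv4 D116125) (iv1 F164738) (iv4 F325100) (iv3 D59614) F45797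
theorem F409971 : act 1 n136948 = n198935 := d15_0 (iv0 D198935) F171414 D136948
theorem F409972 : act 5 n198935 = n135952 := d17_7 D107438 F180609 F181245 D51238 (iv4 F100501) (iv5 F220119) F409971 (iv0 D135952) F99436
theorem F409973 : act 2 n136851 = n198935 := d2_3 F409972 F359145 D136851
theorem F409974 : act 7 n136846 = n198935 := d13_0 F409972 F359146 D136846
theorem F409975 : act 6 n134458 = n198935 := d7_0 F409970 F180917 D134458
def n198936 : Q := act 1 n110738
theorem D198936 : act 1 n110738 = n198936 := rfl
theorem F409976 : act 1 n198936 = n136948 := d15_1 D198936 (iv7 F409965) F409963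
theorem F409977 : act 7 n198936 = n136851 := d15_2 (iv0 D198935) D198936 F409973
theorem F409978 : act 5 n198936 = n135953 := d17_7 (iv1 F165750) F180606 (iv1 F181241) F39067 (iv4 F80499) D110738 D198936 F218709 (iv4 F104289)
theorem F409979 : act 2 n136846 = n198936 := d2_3 F409978 F359143 D136846
def n198937 : Q := act 4 n110738
theorem D198937 : act 4 n110738 = n198937 := rfl
theorem F409980 : act 7 n198937 = n136949 := d11_2 (iv7 F171414) D198937 (iv4 D136949)
theorem F409981 : act 0 n198937 = n146845 := d18_2 (iv1 D198936) D198937 F230237 F402219 (iv4 D196900) (iv0 D107438) (iv4 F99436) D135953 (iv5 F409978)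
def n198938 : Q := act 6 n110738
theorem D198938 : act 6 n110738 = n198938 := rfl
theorem F409982 : act 2 n198938 = n134281 := d3_1 D198938 F409969 F409963
theorem F409983 : act 3 n198938 = n110739 := d7_1 D198938 (iv6 D110739) (iv3 F171413)
theorem F409984 : act 0 n134276 = n198938 := d21_4 D134173 (iv1 F360209) (iv5 D134275) D134276 (iv6 D198938) (iv5 D110738) D110735 F330978 (iv6 D63037) D63033
theorem F409985 : act 0 n198938 = n134284 := d20_4 D64909 (iv1 F351696) F203971 (iv3 F409983) F216310 F98393 F163899 D63591 F326052 (iv1 F99637)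
theorem F409986 : act 7 n134282 = n198938 := d15_2 (iv0 D134281) D134282 F409982
theorem F409987 : act 6 n170763 = n134282 := d14_5 F409986 (iv6 D198938) F171414 D136950 (iv7 F346161)
def n198939 : Q := act 0 n110739
theorem D198939 : act 0 n110739 = n198939 := rfl
theorem F409988 : act 4 n198939 = n127056 := d18_3 (iv1 F351696) F203971 D198939 F338712 D165869 F408146 D198491 (iv0 F408145) (iv5 D138182)
theorem F409989 : act 2 n134604 = n198939 := d15_3 (iv0 D198939) F342186 D134604
theorem F409990 : act 3 n198939 = n193363 := d0_2 F364205 F409989 (iv2 F389584) F388693 F374780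
theorem F409991 : act 6 n198939 = n134551 := d3_2 (iv6 F364207) F409989 (iv2 F365519)
theorem F409992 : act 7 n198939 = n134552 := d4_2 D134604 F409989 F216532
theorem F409993 : act 1 n134602 = n198939 := d15_1 D134602 F409992 F216532
def n198940 : Q := act 7 n110739
theorem D198940 : act 7 n110739 = n198940 := rfl
theorem F409994 : act 2 n198940 = n134602 := d4_1 D198940 F342184 (iv2 F171415)
theorem F409995 : act 3 n198940 = n134282 := d8_1 D198940 F409986 F409983
theorem F409996 : act 6 n198940 = n136954 := d14_1 D198940 (iv7 D136954) (iv6 D64371) (iv7 F80502) D110739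
theorem F409997 : act 1 n134552 = n198940 := d15_1 (iv0 F340134) (iv7 D198940) F171415
theorem F409998 : act 1 n198940 = n134604 := d15_1 F409997 (iv7 D134604) (iv2 F216532)
def n198941 : Q := act 6 n110740
theorem D198941 : act 6 n110740 = n198941 := rfl
theorem F409999 : act 3 n198941 = n110742 := d7_1 D198941 (iv6 D110742) D110740
theorem F410000 : act 4 n198941 = n113498 := d10_1 D198941 (iv6 F342149) (iv4 F171416)
theorem F410001 : act 5 n198941 = n192386 := d12_1 D198941 (iv6 D192386) D192385 (iv6 F386621) F223618
theorem F410002 : act 0 n174573 = n198941 := d17_2 F386664 F386663 F410001 F386622 (iv5 F352526) (iv0 F386884) (iv5 D192508) (iv0 D100245) (iv4 F154230)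
theorem F410003 : act 0 n198941 = n196288 := d21_7 (iv5 F400179) (iv1 F400177) (iv5 D140364) D140365 (iv1 F331775) D192386 (iv5 F410001) (iv5 D196288) (iv6 D106875) D106871
def n198942 : Q := act 5 n110742
theorem D198942 : act 5 n110742 = n198942 := rfl
theorem F410004 : act 3 n198942 = n192386 := d6_1 D198942 (iv5 F410001) F409999
theorem F410005 : act 6 n198942 = n192384 := d12_2 D110742 D198942 F402175 (iv6 D196887) F220816
theorem F410006 : act 4 n198836 = n198942 := d10_3 F410005 F386619 (iv6 F409487)
def n198943 : Q := act 5 n110744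
theorem D198943 : act 5 n110744 = n198943 := rfl
theorem F410007 : act 3 n198943 = n153702 := d6_1 D198943 F364621 F225599
theorem F410008 : act 6 n198943 = n188378 := d12_2 D110744 D198943 F373211 (iv6 F363578) F220819
def n198944 : Q := act 6 n110746
theorem D198944 : act 6 n110746 = n198944 := rfl
theorem F410009 : act 2 n198944 = n196155 := d3_1 D198944 (iv6 D196155) (iv2 F171423)
theorem F410010 : act 3 n198944 = n110748 := d7_1 D198944 (iv6 D110748) (iv3 F171424)
theorem F410011 : act 4 n198944 = n194998 := d10_1 D198944 (iv6 D194998) (iv4 F340321)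
def n198945 : Q := act 6 n110747
theorem D198945 : act 6 n110747 = n198945 := rfl
theorem F410012 : act 4 n198945 = n110748 := d10_1 D198945 (iv6 D110748) D110747
theorem F410013 : act 0 n135529 = n198945 := d21_4 (iv5 F76240) D104855 (iv5 F360341) F364266 (iv6 D198945) F378445 (iv1 F378444) F336410 F336411 F157629
def n198946 : Q := act 0 n110748
theorem D198946 : act 0 n110748 = n198946 := rfl
theorem F410014 : act 5 n198946 = n135531 := d17_3 (iv1 F327971) F177100 D198946 F217948 F203324 F202923 F173732 (iv0 D60608) (iv4 F83926)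
theorem F410015 : act 2 n195974 = n198946 := d15_3 (iv0 D198946) (iv0 F399117) F399116
theorem F410016 : act 3 n198946 = n197027 := d0_2 D195974 F410015 (iv2 F402740) F391867 (iv2 F362872)
def n198947 : Q := act 6 n110749
theorem D198947 : act 6 n110749 = n198947 := rfl
theorem F410017 : act 2 n198947 = n110751 := d3_1 D198947 (iv6 D110751) (iv2 F171427)
theorem F410018 : act 3 n198947 = n196164 := d7_1 D198947 (iv6 D196164) (iv3 F171428)
theorem F410019 : act 4 n198947 = n113118 := d10_1 D198947 (iv6 F379516) F379432
theorem F410020 : act 3 n144217 = n188462 := d5_3 F410019 F379762 F379761 (iv4 F399671) (iv3 F410018)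
theorem F410021 : act 5 n188460 = n144217 := d6_0 F410020 (iv5 D188462) D188460
theorem F410022 : act 0 n195980 = n198947 := d20_4 (iv4 F211433) (iv1 F398951) (iv4 D195981) D195980 F410018 F399671 F399750 F399607 (iv3 D196145) (iv1 F164444)
def n198948 : Q := act 0 n110751
theorem D198948 : act 0 n110751 = n198948 := rfl
def n198949 : Q := act 1 n110751
theorem D198949 : act 1 n110751 = n198949 := rfl
def n198950 : Q := act 7 n110751
theorem D198950 : act 7 n110751 = n198950 := rfl
theorem F410023 : act 4 n198950 = n113119 := d11_1 D198950 F379504 F361788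
theorem F410024 : act 1 n195980 = n198950 := d15_1 (iv0 F410022) (iv7 D198950) (iv2 F410017)
def n198951 : Q := act 6 n110753
theorem D198951 : act 6 n110753 = n198951 := rfl
theorem F410025 : act 2 n198951 = n110759 := d3_1 D198951 (iv6 D110759) F171440
theorem F410026 : act 3 n198951 = n189987 := d7_1 D198951 F378459 F376119
theorem F410027 : act 4 n198951 = n142493 := d10_1 D198951 F379565 F379563
theorem F410028 : act 5 n198951 = n114804 := d12_1 D198951 (iv6 D114804) (iv5 D52974) D52975 (iv5 F171439)
theorem F410029 : act 7 n198951 = n142489 := d14_2 (iv7 F171438) D198951 (iv6 D142489) (iv7 F319087) (iv6 D110757)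
theorem F410030 : act 0 n195970 = n198951 := d20_4 (iv4 F211255) (iv1 F398907) (iv4 D195971) D195970 F410026 (iv4 D189987) (iv1 F147148) (iv4 F147590) (iv3 F356942) (iv1 F164539)
def n198952 : Q := act 1 n110754
theorem D198952 : act 1 n110754 = n198952 := rfl
theorem F410031 : act 1 n198952 = n110765 := d15_1 D198952 (iv7 D110765) (iv2 F171441)
theorem F410032 : act 7 n198952 = n110760 := d15_2 (iv0 F171442) D198952 (iv2 F171448)
theorem F410033 : act 4 n198952 = n112919 := d18_7 (iv1 F87486) F87484 (iv1 F42824) (iv4 F38879) D51062 D110754 D198952 F175856 F94244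
theorem F410034 : act 5 n198952 = n111849 := d18_9 (iv1 D111849) F328399 (iv1 F330753) (iv4 F346912) (iv5 F378465) F378464 (iv0 D110752) D110754 D198952
theorem F410035 : act 2 n110761 = n198952 := d2_3 F410034 (iv2 F409935) F409931
def n198953 : Q := act 3 n110754
theorem D198953 : act 3 n110754 = n198953 := rfl
theorem F410036 : act 2 n198953 = n189649 := d0_1 D198953 (iv3 F380346) F380345 (iv3 D110762) (iv2 F171441)
theorem F410037 : act 4 n198953 = n187821 := d5_2 D110754 D198953 F371608 (iv4 D107548) (iv3 F80526)
theorem F410038 : act 7 n198953 = n189917 := d8_2 F238563 D198953 F378237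
theorem F410039 : act 5 n186952 = n198953 := d13_3 F410038 (iv5 D189917) (iv7 F368643)
theorem F410040 : act 6 n187823 = n198953 := d14_5 F410038 F378238 (iv7 F375665) (iv6 F375669) (iv7 F371615)
def n198954 : Q := act 5 n110754
theorem D198954 : act 5 n110754 = n198954 := rfl
theorem F410041 : act 2 n198954 = n110763 := d2_1 D198954 (iv5 D110763) (iv2 F171441)
theorem F410042 : act 3 n198954 = n186952 := d6_1 D198954 F410039 (iv3 D198953)
theorem F410043 : act 4 n198954 = n118548 := d9_1 D198954 (iv5 D118548) (iv4 D54592) F42151 (iv4 F38883) (iv5 F80531) (iv4 F171455) F330361 (iv4 F330757) (iv5 D118554) (iv4 D54594) (iv5 F42153) (iv4 F38879) D51062 D110754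
theorem F410044 : act 7 n198954 = n120154 := d13_2 F238563 D198954 (iv5 F238564)
theorem F410045 : act 0 n198954 = n183228 := d17_2 (iv1 D198952) D198954 F365206 (iv4 D133290) (iv5 D62556) (iv0 F51517) F82402 (iv0 F175855) (iv4 F410033)
theorem F410046 : act 1 n198954 = n183227 := d17_8 F210100 (iv5 D118558) (iv1 F186382) F344949 F344951 F330766 (iv0 F171442) D198954 (iv4 F342243)
def n198955 : Q := act 6 n110754
theorem D198955 : act 6 n110754 = n198955 := rfl
theorem F410047 : act 2 n198955 = n110764 := d3_1 D198955 (iv6 D110764) (iv2 F171441)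
theorem F410048 : act 3 n198955 = n187823 := d7_1 D198955 F410040 (iv3 D198953)
theorem F410049 : act 4 n198955 = n110755 := d10_1 D198955 (iv6 D110755) D110754
theorem F410050 : act 7 n198955 = n189642 := d14_2 F238563 D198955 F382622 F382619 F363168
def n198956 : Q := act 0 n110755
theorem D198956 : act 0 n110755 = n198956 := rfl
theorem F410051 : act 5 n198956 = n117182 := d17_3 (iv1 D114567) (iv5 F171445) D198956 F183339 (iv5 F106445) F234581 (iv5 F311523) (iv0 F317835) F317837
theorem F410052 : act 6 n198956 = n190439 := d21_5 F171429 (iv1 F80523) D51062 D110755 D198956 F379769 (iv1 D133645) D133646 F215053 (iv1 F171431)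
theorem F410053 : act 2 n110766 = n198956 := d15_3 (iv0 D198956) (iv0 F178866) F333592
theorem F410054 : act 7 n198956 = n110767 := d4_2 F333592 F410053 (iv2 F178865)
theorem F410055 : act 1 n110768 = n198956 := d15_1 F178867 F410054 (iv2 F178865)
def n198957 : Q := act 7 n110755
theorem D198957 : act 7 n110755 = n198957 := rfl
theorem F410056 : act 2 n198957 = n110768 := d4_1 D198957 (iv7 D110768) (iv2 F171443)
theorem F410057 : act 3 n198957 = n131300 := d8_1 D198957 (iv7 F316752) (iv3 F171444)
theorem F410058 : act 4 n198957 = n189642 := d11_1 D198957 (iv7 F410050) F410049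
theorem F410059 : act 5 n198957 = n114568 := d13_1 D198957 (iv7 D114568) (iv5 F171445)
theorem F410060 : act 1 n110767 = n198957 := d15_1 D110767 (iv7 D198957) F171443
theorem F410061 : act 1 n198957 = n110766 := d15_1 F410060 (iv7 F333592) F178865
def n198958 : Q := act 1 n110759
theorem D198958 : act 1 n110759 = n198958 := rfl
theorem F410062 : act 1 n198958 = n142489 := d15_1 D198958 (iv7 F410029) F410025
theorem F410063 : act 4 n189691 = n198958 := d20_6 (iv4 D106722) F77976 D106293 F377416 (iv1 D189693) (iv3 F377412) (iv1 D198958) (iv4 F379573) F379572 F340314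
theorem F410064 : act 6 n189685 = n198958 := d21_3 (iv5 F147647) D190416 F379723 (iv1 D198958) (iv6 D110759) (iv5 F97847) F97845 D62731 (iv6 F215053) (iv1 F363792)
theorem F410065 : act 3 n198958 = n189687 := d7_1 F410064 (iv6 D189687) D189685
theorem F410066 : act 2 n195970 = n198958 := d0_5 F410065 F377396 (iv3 F351269) F398894 D195970
def n198959 : Q := act 5 n110759
theorem D198959 : act 5 n110759 = n198959 := rfl
theorem F410067 : act 2 n198959 = n114804 := d2_1 D198959 (iv5 F410028) F410025
theorem F410068 : act 3 n198959 = n114650 := d6_1 D198959 (iv5 F356875) F356874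
theorem F410069 : act 6 n198959 = n113889 := d12_2 D110759 D198959 (iv5 D113889) (iv6 F97843) F97847
def n198960 : Q := act 3 n110760
theorem D198960 : act 3 n110760 = n198960 := rfl
theorem F410070 : act 6 n198960 = n128571 := d7_2 F364971 D198960 F227355
def n198961 : Q := act 6 n110761
theorem D198961 : act 6 n110761 = n198961 := rfl
theorem F410071 : act 3 n198961 = n112104 := d7_1 D198961 F336224 F175967
theorem F410072 : act 4 n198961 = n112936 := d10_1 D198961 (iv6 D112936) F171450
theorem F410073 : act 5 n198961 = n112103 := d12_1 D198961 (iv6 D112103) (iv5 F173664) F409934 F409931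
theorem F410074 : act 7 n198961 = n198630 := d14_2 (iv7 F171449) D198961 F408626 (iv7 F330356) (iv6 D112932)
theorem F410075 : act 0 n189691 = n198961 := d21_4 F365723 F174524 (iv5 F326852) D189691 (iv6 D198961) (iv5 F409931) (iv1 D198926) F360277 F360278 F327734
def n198962 : Q := act 0 n110763
theorem D198962 : act 0 n110763 = n198962 := rfl
theorem F410076 : act 5 n198962 = n120122 := d17_1 D198962 (iv1 F360270) (iv5 D111850) F328399 (iv5 D85129) (iv0 F128024) (iv5 F312214) F379444 F379442
theorem F410077 : act 4 n198962 = n120137 := d18_1 D198962 (iv1 F336414) F259256 D190957 F381696 (iv0 D112924) (iv4 F171447) (iv0 D110760) D110763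
theorem F410078 : act 1 n120154 = n198962 := d15_0 (iv0 D198962) F363177 (iv2 F363165)
theorem F410079 : act 7 n183227 = n198962 := d11_0 F410077 (iv7 F210099) F342243
theorem F410080 : act 2 n198962 = n183228 := d15_3 (iv0 F410045) F410046 F410079
theorem F410081 : act 6 n198695 = n198962 := d3_0 F410080 (iv6 F365207) (iv2 F408920)
def n198963 : Q := act 1 n110763
theorem D198963 : act 1 n110763 = n198963 := rfl
theorem F410082 : act 1 n198963 = n120154 := d15_1 D198963 (iv7 F410044) F410041
theorem F410083 : act 7 n198963 = n183228 := d15_2 (iv0 D198962) D198963 (iv2 F410080)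
theorem F410084 : act 5 n198963 = n120134 := d17_7 (iv1 F108008) (iv5 D51060) (iv1 D24837) D24839 D51065 D110763 D198963 (iv0 F360269) F360272
theorem F410085 : act 4 n198963 = n120128 := d17_9 (iv1 F210721) (iv5 D131455) F96292 (iv5 F186484) (iv4 F409924) F409923 (iv0 D110760) D110763 D198963
theorem F410086 : act 2 n183227 = n198963 := d1_3 F410085 (iv2 F210098) F342243
def n198964 : Q := act 0 n110764
theorem D198964 : act 0 n110764 = n198964 := rfl
theorem F410087 : act 4 n198964 = n147241 := d18_3 (iv1 D110767) (iv4 F171453) D198964 (iv5 D147241) F105239 D69027 (iv4 F230846) F331606 F178787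
theorem F410088 : act 6 n198964 = n111855 := d21_5 (iv5 F410084) (iv1 D198963) (iv5 D110763) D110764 D198964 (iv5 D111855) (iv1 D51575) D51576 (iv6 F173703) F360269
theorem F410089 : act 1 n189642 = n198964 := d15_0 (iv0 D198964) (iv7 F382627) F382623
def n198965 : Q := act 1 n110764
theorem D198965 : act 1 n110764 = n198965 := rfl
theorem F410090 : act 1 n198965 = n189642 := d15_1 D198965 (iv7 F410050) F410047
def n198966 : Q := act 5 n110764
theorem D198966 : act 5 n110764 = n198966 := rfl
theorem F410091 : act 3 n198966 = n190493 := d6_1 D198966 (iv5 F382636) F382634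
theorem F410092 : act 7 n198966 = n190488 := d13_2 F382627 D198966 (iv5 F382626)
theorem F410093 : act 4 n198966 = n190741 := d16_2 (iv4 F171453) D198966 (iv5 D190741) (iv4 F234575) F382260 (iv4 F382258) (iv5 F410059) (iv7 D198957) F171443
theorem F410094 : act 4 n188456 = n176902 := d20_6 F384239 (iv1 D190474) F147659 F293105 D91873 D188456 F380885 (iv4 F410093) F410091 (iv1 F384243)
theorem F410095 : act 6 n176901 = n188456 := d10_0 F410094 (iv6 D176902) D176901
theorem F410096 : act 3 n188459 = n176901 := d7_3 F410095 (iv3 D188456) D188459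
def n198967 : Q := act 4 n110766
theorem D198967 : act 4 n110766 = n198967 := rfl
theorem F410097 : act 3 n198967 = n190435 := d5_1 D198967 F379758 F147650 (iv4 F147652) (iv3 F333588)
theorem F410098 : act 6 n198967 = n111870 := d10_2 (iv6 F333590) D198967 (iv4 F360344)
def n198968 : Q := act 3 n110767
theorem D198968 : act 3 n110767 = n198968 := rfl
def n198969 : Q := act 3 n110770
theorem D198969 : act 3 n110770 = n198969 := rfl
theorem F410099 : act 7 n198969 = n191116 := d8_2 F340405 D198969 (iv3 D191116)
theorem F410100 : act 4 n198969 = n191097 := d20_6 F77864 F37653 D24841 D51068 D110770 D198969 (iv1 F382220) (iv4 D106644) F77859 D49276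
theorem F410101 : act 6 n191170 = n198969 := d10_0 F410100 (iv6 F382211) D191170
def n198970 : Q := act 6 n110770
theorem D198970 : act 6 n110770 = n198970 := rfl
theorem F410102 : act 2 n198970 = n191125 := d3_1 D198970 (iv6 D191125) (iv2 F358376)
theorem F410103 : act 3 n198970 = n191170 := d7_1 D198970 F410101 (iv3 D198969)
theorem F410104 : act 4 n198970 = n190778 := d10_1 D198970 (iv6 D190778) (iv4 F335830)
theorem F410105 : act 4 n144123 = n191169 := d5_2 F410104 (iv3 F392704) (iv3 D191169) D191170 (iv3 F410103)
def n198971 : Q := act 4 n110778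
theorem D198971 : act 4 n110778 = n198971 := rfl
theorem F410106 : act 3 n198971 = n189707 := d5_1 D198971 (iv4 F377478) F358219 F177802 D110778
theorem F410107 : act 7 n198971 = n197054 := d11_2 (iv7 F171477) D198971 (iv4 D197054)
theorem F410108 : act 0 n159990 = n198971 := d20_1 D159990 (iv4 D198971) (iv3 D110778) (iv1 F80540) F316778 (iv4 D74833) (iv1 F96175) D131293 F365582 (iv1 D159989)
theorem F410109 : act 6 n194048 = n198971 := d7_0 F410106 F377479 (iv3 F391867)
def n198972 : Q := act 6 n110778
theorem D198972 : act 6 n110778 = n198972 := rfl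
theorem F410110 : act 3 n198972 = n110780 := d7_1 D198972 (iv6 D110780) D110778
theorem F410111 : act 4 n198972 = n194048 := d10_1 D198972 F410109 (iv4 D198971)
theorem F410112 : act 5 n198972 = n189663 := d12_1 D198972 F377297 (iv5 F355730) F258982 F179022
theorem F410113 : act 1 n194184 = n198972 := d17_6 (iv1 F369344) F293771 (iv1 D47722) D47724 D102905 D194184 F410112 F377293 F369345
theorem F410114 : act 0 n194048 = n197028 := d17_0 F402743 (iv1 F367675) F335487 (iv4 F355829) (iv5 F367591) F367592 D194184 F410113 F410111
def n198973 : Q := act 1 n110780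
theorem D198973 : act 1 n110780 = n198973 := rfl
theorem F410115 : act 1 n198973 = n197053 := d15_1 D198973 (iv7 D197053) (iv2 F171480)
theorem F410116 : act 7 n198973 = n195972 := d15_2 (iv0 F399571) D198973 (iv2 F399569)
theorem F410117 : act 2 n197052 = n198973 := d4_3 F410116 (iv2 F399569) (iv7 F402834)
theorem F410118 : act 3 n198973 = n190438 := d0_2 F402835 F410117 (iv2 F379768) F326848 (iv2 F392276)
def n198974 : Q := act 2 n110781
theorem D198974 : act 2 n110781 = n198974 := rfl
theorem F410119 : act 3 n198974 = n159685 := d0_2 D110781 D198974 (iv2 F258987) (iv3 D107573) F161771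
theorem F410120 : act 5 n198974 = n195235 := d2_2 (iv5 F171486) D198974 F396395
theorem F410121 : act 6 n198974 = n176934 := d3_2 (iv6 F361703) D198974 (iv2 F364459)
theorem F410122 : act 7 n198974 = n197049 := d4_2 (iv7 F171487) D198974 (iv2 D197049)
theorem F410123 : act 1 n198974 = n189681 := d15_0 F396411 (iv7 F171487) D198974
theorem F410124 : act 1 n114456 = n198974 := d15_0 F410123 (iv7 F396226) F396224
def n198975 : Q := act 7 n110783
theorem D198975 : act 7 n110783 = n198975 := rfl
theorem F410125 : act 2 n198975 = n197056 := d4_1 D198975 (iv7 D197056) (iv2 F171490)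
theorem F410126 : act 3 n198975 = n176933 := d8_1 D198975 (iv7 F364458) F347539
theorem F410127 : act 4 n198975 = n113406 := d11_1 D198975 (iv7 F202929) (iv4 F347537)
theorem F410128 : act 5 n198975 = n144788 := d13_1 D198975 F227670 (iv5 F171491)
theorem F410129 : act 6 n198975 = n197053 := d14_1 D198975 (iv7 D197053) (iv6 D107572) (iv7 F161789) D110783
theorem F410130 : act 1 n125642 = n198975 := d15_1 (iv0 F332833) (iv7 D198975) F171490
theorem F410131 : act 1 n198975 = n189678 := d15_1 F410130 F377370 (iv2 F342959)
def n198976 : Q := act 5 n110785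
theorem D198976 : act 5 n110785 = n198976 := rfl
theorem F410132 : act 2 n198976 = n185884 := d2_1 D198976 F288367 F171499
theorem F410133 : act 3 n198976 = n135614 := d6_1 D198976 (iv5 F376440) F376437
theorem F410134 : act 6 n198976 = n185882 := d12_2 (iv6 F171497) D198976 F288358 (iv6 D94318) D94317
theorem F410135 : act 7 n198976 = n197057 := d13_2 F171500 D198976 (iv5 D197057)
def n198977 : Q := act 5 n110786
theorem D198977 : act 5 n110786 = n198977 := rfl
theorem F410136 : act 2 n198977 = n197057 := d2_1 D198977 (iv5 D197057) F171503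
theorem F410137 : act 3 n198977 = n130161 := d6_1 D198977 F336098 F171504
theorem F410138 : act 7 n198977 = n185884 := d13_2 (iv7 F171502) D198977 F288367
theorem F410139 : act 6 n198977 = n197816 := d21_9 F229455 (iv1 F178415) (iv5 F233498) (iv6 D148726) (iv1 F114497) D159653 F251518 (iv1 F171501) D198977 F405871
def n198978 : Q := act 6 n110786
theorem D198978 : act 6 n110786 = n198978 := rfl
theorem F410140 : act 2 n198978 = n197058 := d3_1 D198978 (iv6 D197058) F171503
theorem F410141 : act 3 n198978 = n187184 := d7_1 D198978 F369410 F171504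
theorem F410142 : act 4 n198978 = n132150 := d10_1 D198978 (iv6 D132150) (iv4 F341792)
theorem F410143 : act 5 n198978 = n187958 := d12_1 D198978 F371948 D197816 (iv6 F410139) (iv5 D198977)
theorem F410144 : act 7 n198978 = n187181 := d14_2 (iv7 F171502) D198978 (iv6 D187181) (iv7 F292788) D94323
theorem F410145 : act 0 n195969 = n198978 := d21_10 F410143 (iv1 F371949) F178566 (iv6 F179058) (iv1 F179060) D120119 F189733 (iv1 F398901) (iv5 D195968) D195969
theorem E103757 : n189535 = n189382 := ((c20_7 (iv4 F399076) (iv1 F370129) (iv4 F410142) F410141 (iv1 F369411) F377001 D189382 (iv1 D189535) F144859 (iv3 F144842) D189514)).symm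
theorem F410146 : act 0 n189382 = n94025 := (sb E103757 (iv1 D189535))
def n198979 : Q := act 5 n110791
theorem D198979 : act 5 n110791 = n198979 := rfl
theorem F410147 : act 2 n198979 = n131928 := d2_1 D198979 (iv5 D131928) F171908
theorem F410148 : act 6 n198979 = n123306 := d12_2 (iv6 F171528) D198979 F363088 F173184 (iv5 F167630)
theorem F410149 : act 7 n198979 = n131930 := d13_2 F171910 D198979 (iv5 D131930)
theorem F410150 : act 0 n198979 = n144297 := d17_2 D110791 D198979 F226998 (iv4 F328737) F304694 (iv0 F365659) (iv5 D134256) F168309 (iv4 F80558)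
theorem F410151 : act 4 n198979 = n123307 := d17_4 (iv1 F166277) F93900 D110791 D198979 F342830 (iv0 D139426) (iv5 D65438) D65437 (iv4 F166275)
def n198980 : Q := act 3 n110793
theorem D198980 : act 3 n110793 = n198980 := rfl
theorem F410152 : act 5 n198980 = n158938 := d6_2 (iv5 F336959) D198980 (iv3 D158938)
theorem F410153 : act 7 n198980 = n134796 := d8_2 F216253 D198980 F216911
theorem F410154 : act 0 n198980 = n197972 := d20_4 (iv4 F336985) (iv1 F212469) F207385 D198980 (iv3 D197972) (iv4 F207095) (iv1 F400045) (iv4 F400043) F360768 (iv1 D158968)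
theorem F410155 : act 4 n198980 = n134799 := d20_6 (iv4 F37590) F37591 D24848 D51078 D110793 D198980 (iv1 F216912) F98623 F98266 (iv1 F47927)
theorem E103758 : n134799 = n134789 := (c11_2 (iv7 F410153) F410155 (iv7 F216906) D134796)
theorem F410156 : act 0 n134789 = n63346 := (sb E103758 (iv1 F216912))
theorem F410157 : act 1 n134789 = n63344 := (sb E103758 (iv0 D134799))
theorem F410158 : act 4 n134789 = n198980 := (sb E103758 (iv4 F410155))
theorem F410159 : act 2 n198980 = n134791 := d1_1 F410158 (iv4 D134791) D134789
theorem E103759 : n134800 = n134794 := (c15_2 F410157 D134800 (iv7 D134794) D134789)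
theorem F410160 : act 0 n134794 = n63344 := (sb E103759 (iv1 D134800))
theorem F410161 : act 1 n134794 = n63346 := (sb E103759 F216913)
def n198981 : Q := act 6 n110793
theorem D198981 : act 6 n110793 = n198981 := rfl
def n198982 : Q := act 6 n110794
theorem D198982 : act 6 n110794 = n198982 := rfl
theorem F410162 : act 4 n198982 = n132408 := d10_1 D198982 (iv6 D132408) F171536
def n198983 : Q := act 1 n110799
theorem D198983 : act 1 n110799 = n198983 := rfl
theorem F410163 : act 1 n198983 = n194050 := d15_1 D198983 F391876 F363640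
theorem F410164 : act 7 n198983 = n195574 := d15_2 (iv0 F378176) D198983 F397405
theorem F410165 : act 4 n198983 = n135502 := d17_9 F218362 (iv5 D135547) (iv1 F99226) (iv5 F218209) (iv4 F218207) F336850 (iv0 F359683) F216078 D198983
theorem F410166 : act 5 n134314 = n198983 := d21_6 (iv5 F226174) (iv1 D143403) (iv5 D67171) (iv6 F320242) (iv1 F106642) (iv6 F335178) (iv1 D198983) (iv5 F216078) F333156 D143000
theorem F410167 : act 2 n198983 = n190735 := d2_1 F410166 F380865 (iv2 F335175)
def n198984 : Q := act 6 n110803
theorem D198984 : act 6 n110803 = n198984 := rfl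
theorem F410168 : act 2 n198984 = n196062 := d3_1 D198984 (iv6 D196062) (iv2 F202491)
theorem F410169 : act 3 n198984 = n113824 := d7_1 D198984 F327481 F173731
theorem F410170 : act 4 n198984 = n134291 := d10_1 D198984 (iv6 D134291) (iv4 F171562)
theorem F410171 : act 5 n198984 = n144036 := d12_1 D198984 (iv6 D144036) D144035 F226741 F173118
theorem F410172 : act 7 n198984 = n113853 := d14_2 (iv7 F202508) D198984 F336155 F202517 F173231
theorem F410173 : act 0 n198984 = n129092 := d21_4 (iv5 F98199) F173119 F173118 D198984 (iv6 D129092) D129091 (iv1 F211170) (iv5 F211906) (iv6 D132261) F168450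
def n198985 : Q := act 3 n110806
theorem D198985 : act 3 n110806 = n198985 := rfl
theorem F410174 : act 2 n198985 = n132092 := d0_1 D198985 F211627 F98474 D63244 (iv2 F368898)
theorem F410175 : act 4 n198985 = n132091 := d5_2 F371221 D198985 (iv3 F382374) F382372 (iv3 F371220)
theorem F410176 : act 7 n198985 = n134540 := d8_2 (iv7 F368900) D198985 (iv3 F368894)
theorem F410177 : act 0 n198985 = n134539 := d20_10 (iv4 F216519) (iv1 F164174) (iv4 F211380) F211379 (iv1 F216051) F390335 F390332 (iv1 F371225) F371221 D198985
theorem F410178 : act 0 n134219 = n198985 := d20_4 F349808 (iv1 F355044) (iv4 D134220) D134219 (iv3 D198985) (iv4 F371221) (iv1 F371224) D194781 F394452 (iv1 F349812)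
theorem F410179 : act 6 n193362 = n198985 := d21_3 D96151 D190547 (iv5 F389578) F410177 F355062 (iv5 F352564) (iv1 F287083) F380085 (iv6 D190546) (iv1 D96150)
def n198986 : Q := act 6 n110806
theorem D198986 : act 6 n110806 = n198986 := rfl
theorem F410180 : act 2 n198986 = n134598 := d3_1 D198986 (iv6 D134598) (iv2 F368898)
theorem F410181 : act 3 n198986 = n193362 := d7_1 D198986 F410179 (iv3 D198985)
theorem F410182 : act 4 n198986 = n113921 := d10_1 D198986 (iv6 F371223) F371221
theorem F410183 : act 7 n198986 = n188767 := d14_2 (iv7 F368900) D198986 (iv6 D188767) F292730 D187043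
theorem F410184 : act 5 n188219 = n198986 := d13_3 F410183 (iv5 F374782) (iv7 F372718)
theorem F410185 : act 1 n134289 = n198986 := d15_1 (iv0 F364208) F410183 F374780
theorem F410186 : act 0 n193348 = n198986 := d18_2 D187670 (iv4 F389541) F410182 (iv5 F355647) F276292 (iv0 F365427) F365429 (iv0 D186408) (iv5 F291469)
def n198987 : Q := act 6 n110811
theorem D198987 : act 6 n110811 = n198987 := rfl
theorem F410187 : act 2 n198987 = n110862 := d3_1 D198987 (iv6 D110862) (iv2 F171609)
theorem F410188 : act 3 n198987 = n137435 := d7_1 D198987 (iv6 D137435) F171608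
theorem F410189 : act 4 n198987 = n141149 := d10_1 D198987 (iv6 D141149) F171610
theorem F410190 : act 5 n198987 = n128653 := d12_1 D198987 (iv6 F405099) (iv5 D197629) F350322 F350318
theorem F410191 : act 7 n198987 = n192295 := d14_2 (iv7 F171607) D198987 (iv6 D192295) F329708 (iv6 F171637)
theorem F410192 : act 0 n198987 = n198979 := d21_4 (iv5 F404675) F404677 F350318 D198987 F410148 F363088 (iv1 F173190) F93078 D68176 F209079
theorem F410193 : act 1 n198987 = n110918 := d15_1 (iv0 F410192) (iv7 F211404) (iv2 F410147)
def n198988 : Q := act 3 n110813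
theorem D198988 : act 3 n110813 = n198988 := rfl
theorem F410194 : act 2 n198988 = n141183 := d0_1 D198988 F365195 (iv2 F330551) (iv3 D141165) F224178
theorem F410195 : act 4 n198988 = n127105 := d5_2 F333128 D198988 F345458 F157826 (iv3 F157704)
theorem F410196 : act 7 n198988 = n141161 := d8_2 F224179 D198988 (iv3 D141161)
theorem F410197 : act 0 n198988 = n116249 := d20_4 (iv4 D137667) (iv1 F333126) F333128 D198988 (iv3 D116249) (iv4 F84534) (iv1 F102949) D31237 D67110 F220834
theorem F410198 : act 0 n141184 = n198988 := d20_4 F93960 D59546 D126882 (iv3 F224204) (iv3 D198988) (iv4 F333128) (iv1 F391758) F391762 (iv3 F391763) (iv1 D126874)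
def n198989 : Q := act 3 n110814
theorem D198989 : act 3 n110814 = n198989 := rfl
theorem F410199 : act 4 n198989 = n196663 := d5_2 F333123 D198989 F401402 F219202 (iv3 F333122)
theorem F410200 : act 6 n198989 = n194010 := d7_2 (iv6 F364747) D198989 (iv3 D194010)
theorem F410201 : act 7 n198989 = n141165 := d8_2 (iv7 F224177) D198989 (iv3 D141165)
theorem F410202 : act 0 n141124 = n198989 := d20_4 (iv4 F400364) F400366 (iv4 D141125) D141124 (iv3 D198989) (iv4 F333123) F333121 D137667 (iv3 F224823) (iv1 F224825)
def n198990 : Q := act 5 n110815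
theorem D198990 : act 5 n110815 = n198990 := rfl
theorem F410203 : act 2 n198990 = n110816 := d2_1 D198990 (iv5 D110816) D110815
theorem F410204 : act 3 n198990 = n110899 := d6_1 D198990 (iv5 D110899) (iv3 F171617)
theorem F410205 : act 7 n198990 = n111741 := d13_2 (iv7 F171619) D198990 F173436
theorem F410206 : act 0 n198990 = n139440 := d17_2 (iv1 F171620) D198990 (iv5 D139440) D139439 (iv5 F350327) (iv0 F391824) (iv5 D194035) (iv0 D102602) (iv4 F333125)
theorem F410207 : act 0 n111739 = n198990 := d21_7 F352974 (iv1 D123228) F329209 F328881 D123241 F364749 (iv5 F395998) (iv5 D198990) (iv6 F246446) (iv1 F246450)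
theorem E103760 : n139440 = n111740 := ((c15_1 D111740 (iv0 F410206) F410205 (iv2 D111741))).symm
theorem F410208 : act 1 n111740 = n198990 := (sb E103760 (iv0 F410206))
theorem F410209 : act 5 n111740 = n65442 := (sb E103760 (iv5 D139440))
theorem F410210 : act 6 n111740 = n192042 := (sb E103760 F385325)
def n198991 : Q := act 0 n110816
theorem D198991 : act 0 n110816 = n198991 := rfl
theorem F410211 : act 5 n198991 = n115933 := d21_8 (iv5 F393056) F393058 (iv5 F386319) (iv6 F386317) (iv1 D156685) F111872 D110816 D198991 (iv6 F385230) (iv1 F385231)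
theorem F410212 : act 1 n111741 = n198991 := d15_0 (iv0 D198991) F171624 D111741
theorem F410213 : act 2 n111740 = n198991 := d2_3 F410211 F360380 (iv5 F410209)
theorem F410214 : act 7 n111739 = n198991 := d13_0 F410211 F360381 (iv5 F395998)
def n198992 : Q := act 1 n110816
theorem D198992 : act 1 n110816 = n198992 := rfl
theorem F410215 : act 1 n198992 = n111741 := d15_1 D198992 (iv7 F410205) F410203
theorem F410216 : act 7 n198992 = n111740 := d15_2 (iv0 D198991) D198992 F410213
theorem F410217 : act 5 n198992 = n115934 := d17_7 (iv1 F218694) D136875 F401849 F100313 (iv4 F80586) D110816 D198992 F180516 (iv4 F218687)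
theorem F410218 : act 4 n139105 = n198992 := d20_0 (iv1 D198992) (iv4 F409316) (iv3 D198802) F360070 (iv3 F384634) F384635 (iv1 F387478) F387466 (iv3 F388618) F388619
theorem F410219 : act 6 n124084 = n198992 := d21_3 D136655 F313527 F359393 (iv1 D198992) (iv6 F360942) (iv5 D159712) (iv1 D76409) D76410 (iv6 F309899) (iv1 D136653)
theorem F410220 : act 2 n111739 = n198992 := d2_3 F410217 F360378 (iv5 F395998)
def n198993 : Q := act 0 n110817
theorem D198993 : act 0 n110817 = n198993 := rfl
theorem F410221 : act 5 n198993 = n134352 := d17_3 (iv1 F341511) F341503 D198993 F363021 F364405 (iv0 F364407) (iv5 D123872) F198312 (iv4 F341423)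
theorem F410222 : act 7 n110911 = n198993 := d13_0 F410221 (iv7 D134352) (iv5 F357705)
theorem F410223 : act 1 n110912 = n198993 := d17_6 F370307 (iv5 D185226) (iv1 F362807) (iv5 D123900) D123899 F341505 F410221 (iv0 F391633) F391629
theorem F410224 : act 6 n198993 = n124157 := d21_3 (iv5 F391630) F391633 (iv5 F410221) (iv1 D124157) (iv6 D57859) (iv5 D27618) F91147 D57355 (iv6 F196560) F384913
theorem F410225 : act 2 n198993 = n110910 := d15_3 (iv0 D110910) D110911 F410222
def n198994 : Q := act 1 n110817
theorem D198994 : act 1 n110817 = n198994 := rfl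
theorem F410226 : act 1 n198994 = n110912 := d15_1 D198994 (iv7 D110912) (iv2 F171625)
theorem F410227 : act 7 n198994 = n110910 := d15_2 (iv0 D198993) D198994 (iv2 F410225)
theorem F410228 : act 5 n198994 = n134050 := d18_9 F391632 F391629 F370307 F353709 F362805 F401100 (iv0 D111758) (iv4 F171626) D198994
theorem F410229 : act 6 n134051 = n198994 := d21_3 F350356 (iv1 F168435) D134051 (iv1 D198994) (iv6 D110817) (iv5 D51091) F38948 D30942 D66202 (iv1 F350354)
theorem F410230 : act 2 n198994 = n110911 := d3_1 F410229 F357706 (iv2 F216059)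
def n198995 : Q := act 7 n110817
theorem D198995 : act 7 n110817 = n198995 := rfl
theorem F410231 : act 2 n198995 = n110912 := d4_1 D198995 (iv7 D110912) (iv2 F171625)
theorem F410232 : act 4 n198995 = n111757 := d11_1 D198995 F173442 (iv4 F171626)
theorem F410233 : act 5 n198995 = n122699 := d13_1 D198995 F354944 F341503
theorem F410234 : act 6 n198995 = n111746 := d14_1 D198995 (iv7 D111746) (iv6 D51520) (iv7 F80589) D110817
theorem F410235 : act 1 n110911 = n198995 := d15_1 D110911 (iv7 D198995) F171625
theorem F410236 : act 1 n198995 = n110910 := d15_1 F410235 (iv7 F410227) F410230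
theorem F410237 : act 0 n196567 = n111757 := d18_2 (iv1 F198314) (iv4 F401099) (iv4 F410232) F410233 F354943 (iv0 D57708) F44467 D27561 D57720
def n198996 : Q := act 5 n110818
theorem D198996 : act 5 n110818 = n198996 := rfl
theorem F410238 : act 2 n198996 = n110917 := d2_1 D198996 (iv5 D110917) (iv2 F171851)
theorem F410239 : act 3 n198996 = n144284 := d6_1 D198996 F226974 F175398
theorem F410240 : act 6 n198996 = n134084 := d12_2 F211411 D198996 F216108 (iv6 D131931) D131930
theorem F410241 : act 7 n198996 = n110920 := d13_2 (iv7 F171852) D198996 (iv5 D110920)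
theorem F410242 : act 0 n198996 = n134091 := d17_2 D110818 D198996 F216117 F171684 D139568 (iv0 F222716) (iv5 D139310) F168213 (iv4 F80594)
theorem F410243 : act 1 n198996 = n197854 := d17_8 (iv1 F222536) (iv5 F224194) (iv1 F338269) F338271 F111877 F80604 F171627 D198996 F406036
theorem F410244 : act 4 n198996 = n139608 := d18_5 (iv1 F80901) (iv4 F84337) (iv1 F172446) (iv4 F172448) D198996 (iv0 D139608) F101198 (iv0 F101141) F101142
def n198997 : Q := act 5 n110819
theorem D198997 : act 5 n110819 = n198997 := rfl
theorem F410245 : act 2 n198997 = n197149 := d2_1 D198997 (iv5 D197149) F171631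
theorem F410246 : act 6 n198997 = n134841 := d12_2 (iv6 F171632) D198997 (iv5 D134841) F171746 (iv5 D110875)
theorem F410247 : act 7 n198997 = n139280 := d13_2 F223580 D198997 (iv5 F223577)
theorem F410248 : act 1 n198997 = n126339 := d17_6 F168882 D198056 F406606 (iv5 D138635) F172379 D198997 F203152 (iv0 D65914) (iv4 F84353)
theorem F410249 : act 0 n198997 = n140425 := d18_0 (iv4 F223596) (iv1 F406562) F173459 F81292 D111149 F172523 (iv4 F223467) F223466 D198997
def n198998 : Q := act 3 n110823
theorem D198998 : act 3 n110823 = n198998 := rfl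
theorem F410250 : act 7 n198998 = n192423 := d8_2 (iv7 F361439) D198998 F386698
theorem F410251 : act 4 n198998 = n197314 := d20_6 F39123 (iv1 D24864) D24865 D51095 D110823 D198998 (iv1 D197314) F167122 F80949 (iv1 F39127)
theorem F410252 : act 7 n197314 = n111203 := d11_2 (iv7 F410250) F410251 (iv4 F386699)
theorem F410253 : act 2 n111203 = n197313 := d15_3 (iv0 D197313) D197314 F410252
theorem F410254 : act 2 n197314 = n111202 := d15_3 (iv0 D111202) D111203 (iv7 F410252)
theorem F410255 : act 7 n111202 = n197313 := d4_2 (iv7 F410252) F410254 (iv2 F410253)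
def n198999 : Q := act 4 n110823
theorem D198999 : act 4 n110823 = n198999 := rfl
theorem F410256 : act 2 n198999 = n195883 := d1_1 D198999 F398594 (iv2 F361438)
theorem F410257 : act 7 n198999 = n198173 := d11_2 (iv7 F361439) D198999 F407102
theorem F410258 : act 5 n198999 = n111567 := d16_1 D198999 F358652 (iv5 D75898) (iv4 D34691) D34692 D75901 (iv5 F361441) F361442 (iv2 F361438)
theorem F410259 : act 1 n198999 = n156795 := d18_6 F352629 (iv4 D158976) (iv1 F130927) (iv4 F184254) F361437 D198999 F246725 (iv0 F368619) (iv5 D186947)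
def n199000 : Q := act 6 n110823
theorem D199000 : act 6 n110823 = n199000 := rfl
theorem F410260 : act 0 n138636 = n199000 := d21_4 (iv5 F331760) (iv1 F232731) D150098 F364786 (iv6 D199000) (iv5 F361437) (iv1 F250314) F358649 (iv6 F361446) F361450
def n199001 : Q := act 4 n110824
theorem D199001 : act 4 n110824 = n199001 := rfl
theorem F410261 : act 2 n199001 = n198173 := d1_1 D199001 F407102 (iv2 F361440)
theorem F410262 : act 3 n199001 = n195887 := d5_1 D199001 F398614 (iv3 F375964) F375965 (iv3 F343903)
theorem F410263 : act 5 n199001 = n197739 := d9_2 (iv5 F361441) D199001 F405592 (iv5 D164564) (iv4 D79042) (iv5 F85522) (iv4 F184254) F361437 D198999 F410258 F358652 (iv5 D75898) (iv4 D34691) D34692 D75901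
theorem F410264 : act 6 n199001 = n194401 := d10_2 F343902 D199001 (iv4 D194401)
theorem F410265 : act 7 n199001 = n195883 := d11_2 (iv7 F361442) D199001 F398594
theorem F410266 : act 0 n199001 = n156795 := d18_2 F338242 D199001 F246725 F338224 F229953 (iv0 F199950) D75937 (iv0 F183939) F329163
def n199002 : Q := act 4 n110826
theorem D199002 : act 4 n110826 = n199002 := rfl
theorem F410267 : act 2 n199002 = n144933 := d1_1 D199002 F278772 (iv2 F338239)
theorem F410268 : act 5 n199002 = n148980 := d9_2 D110826 D199002 F234139 (iv5 F239839) (iv4 F400845) F400846 (iv4 F338246) (iv5 F329163) F183938 F104049 (iv4 F59155) D83175 F333005 (iv5 D51161) (iv4 F80600)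
theorem F410269 : act 7 n199002 = n144929 := d11_2 F246022 D199002 (iv4 F338235)
theorem F410270 : act 1 n199002 = n144931 := d18_6 F338225 (iv4 D110952) (iv1 D51159) (iv4 F80600) D110826 D199002 (iv4 F259430) (iv0 D146655) (iv5 F329017)
theorem F410271 : act 1 n144932 = n199002 := d15_0 F410270 F259433 F259439
theorem F410272 : act 6 n170270 = n199002 := d14_5 F410269 (iv6 D144929) F104040 D127427 (iv7 F359376)
def n199003 : Q := act 6 n110826
theorem D199003 : act 6 n110826 = n199003 := rfl
theorem F410273 : act 3 n199003 = n110827 := d7_1 D199003 (iv6 D110827) (iv3 F171648)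
theorem F410274 : act 4 n199003 = n170270 := d10_1 D199003 F410272 (iv4 D199002)
theorem F410275 : act 5 n199003 = n110903 := d12_1 D199003 (iv6 D110903) (iv5 D51137) (iv6 F80601) D110826
theorem F410276 : act 7 n199003 = n117436 := d14_2 F246022 D199003 (iv6 D117436) (iv7 F183522) (iv6 F338236)
theorem F410277 : act 0 n199003 = n122847 := d21_4 (iv5 F361441) (iv1 D110824) D110826 D199003 (iv6 D122847) F110125 (iv1 F90259) (iv5 F114789) (iv6 F312498) (iv1 D158980)
theorem F410278 : act 1 n199003 = n119606 := d15_1 (iv0 F410277) (iv7 F227706) F338171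
def n199004 : Q := act 0 n110828
theorem D199004 : act 0 n110828 = n199004 := rfl
theorem F410279 : act 3 n199004 = n195047 := d20_5 (iv4 D50901) (iv1 F39848) D51098 D110828 D199004 (iv4 D195047) (iv1 D105201) (iv4 F80984) (iv3 D51325) (iv1 F80306)
theorem F410280 : act 1 n140700 = n199004 := d15_0 (iv0 D199004) F171652 D140700
theorem F410281 : act 7 n140698 = n199004 := d8_0 F410279 F395569 (iv3 F223789)
def n199005 : Q := act 1 n110828
theorem D199005 : act 1 n110828 = n199005 := rfl
theorem F410282 : act 3 n191064 = n199005 := d19_19 (iv1 D199005) F171651 D111725 F354329 (iv1 D135724) (iv5 D63815) F48383 (iv3 F40724) D53140 F83871 (iv4 F99541) (iv3 F329362) D99759 (iv5 F368304) (iv4 F382032) (iv3 D191058) (iv1 D97191) D97192 D191064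
theorem F410283 : act 4 n191068 = n199005 := d20_0 (iv1 D199005) F171650 (iv3 D105523) F76844 D50432 (iv4 F82249) D112746 (iv4 F344702) (iv3 F380620) F382087
theorem F410284 : act 6 n199005 = n194491 := d10_2 (iv6 F382086) F410283 F393426
theorem F410285 : act 7 n199005 = n140699 := d11_2 F407785 F410283 (iv4 F407786)
theorem F410286 : act 2 n140699 = n199004 := d15_3 (iv0 D199004) D199005 F410285
theorem F410287 : act 2 n199005 = n140698 := d4_1 (iv7 F410285) F410281 (iv2 F410286)
theorem F410288 : act 1 n199005 = n140700 := d15_0 F410280 (iv7 F410281) (iv2 F410287)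
def n199006 : Q := act 2 n110828
theorem D199006 : act 2 n110828 = n199006 := rfl
theorem F410289 : act 3 n199006 = n125576 := d0_2 D110828 D199006 (iv2 D125576) (iv3 D58792) (iv2 F80606)
theorem F410290 : act 4 n199006 = n195329 := d1_2 (iv4 F171650) D199006 (iv2 D195329)
theorem F410291 : act 5 n199006 = n111724 := d2_2 (iv5 F171651) D199006 (iv2 D111724)
theorem F410292 : act 7 n199006 = n140700 := d4_2 (iv7 F171652) D199006 (iv2 D140700)
theorem F410293 : act 1 n199006 = n140698 := d15_0 (iv0 D140698) (iv7 F171652) D199006
theorem F410294 : act 1 n140699 = n199006 := d15_0 F410293 F410281 (iv2 F410286)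
def n199007 : Q := act 6 n110828
theorem D199007 : act 6 n110828 = n199007 := rfl
theorem F410295 : act 3 n199007 = n110829 := d7_1 D199007 (iv6 D110829) D110828
theorem F410296 : act 4 n199007 = n195330 := d10_1 D199007 (iv6 D195330) (iv4 F171650)
theorem F410297 : act 5 n199007 = n191337 := d12_1 D199007 F383099 F364225 (iv6 D111726) (iv5 F171651)
theorem F410298 : act 7 n199007 = n198526 := d14_2 (iv7 F171652) D199007 F408234 F394994 (iv6 D140701)
def n199008 : Q := act 4 n110834
theorem D199008 : act 4 n110834 = n199008 := rfl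
theorem F410299 : act 2 n199008 = n136706 := d1_1 D199008 F219851 F220266
theorem F410300 : act 6 n199008 = n153904 := d10_2 (iv6 F329613) D199008 F352423
theorem F410301 : act 7 n199008 = n174443 := d11_2 F220268 D199008 (iv4 F354174)
theorem F410302 : act 0 n199008 = n196800 := d18_2 D110834 D199008 F401841 (iv5 F331757) F359812 F373318 D109194 (iv0 F373317) F329621
theorem F410303 : act 0 n184361 = n199008 := d20_7 (iv4 F388224) (iv1 F388226) (iv4 D139320) D139319 F396784 F286187 (iv4 F286290) (iv4 D199008) (iv3 F223473) (iv1 F357566)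
def n199009 : Q := act 3 n110835
theorem D199009 : act 3 n110835 = n199009 := rfl
theorem F410304 : act 0 n199009 = n136870 := d20_4 (iv4 F401841) F401844 F220264 D199009 F220058 F322920 (iv1 F322918) (iv4 D65461) D65460 F222657
theorem F410305 : act 1 n199009 = n136874 := d15_1 (iv0 F410304) (iv7 F222621) F222620
def n199010 : Q := act 5 n110835
theorem D199010 : act 5 n110835 = n199010 := rfl
theorem F410306 : act 2 n199010 = n197770 := d2_1 D199010 F405710 (iv2 F220267)
theorem F410307 : act 7 n199010 = n198245 := d13_2 (iv7 F220265) D199010 F407332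
theorem F410308 : act 4 n199010 = n197769 := d16_4 D195069 F395652 F220264 D199010 (iv5 D197769) F168569 D113425 (iv7 F395639) F395637
theorem F410309 : act 0 n199010 = n126876 := d17_2 (iv1 F204025) D199010 (iv5 D126876) F93960 D59549 F325894 F324860 F203698 (iv4 F204021)
theorem F410310 : act 1 n199010 = n198253 := d17_8 (iv1 D198761) (iv5 D110157) F168938 F373316 F373315 F329621 D110835 D199010 (iv4 F409121)
theorem F410311 : act 1 n198249 = n139486 := d18_8 F222657 (iv4 F401841) F401844 F220264 D199010 F410308 F405705 D198249 (iv5 D139486)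
theorem F410312 : act 6 n199010 = n153678 := d21_3 F355067 (iv1 F204025) D199010 (iv1 F373392) F373390 (iv5 F388968) (iv1 F388970) D193276 F389382 (iv1 F373319)
def n199011 : Q := act 6 n110835
theorem D199011 : act 6 n110835 = n199011 := rfl
theorem F410313 : act 2 n199011 = n174442 := d3_1 D199011 F354175 (iv2 F220267)
theorem F410314 : act 4 n199011 = n174395 := d10_1 D199011 (iv6 F354163) F220264
theorem F410315 : act 5 n199011 = n153650 := d12_1 D199011 F241525 D153678 (iv6 F410312) (iv5 D199010)
theorem F410316 : act 7 n199011 = n174436 := d14_2 (iv7 F220265) D199011 F354166 F352425 F352354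
theorem F410317 : act 0 n199011 = n197102 := d20_1 (iv4 F410314) F403049 F166280 D107661 F330941 (iv4 F330955) F330952 (iv4 D162605) D162604 (iv1 F343433)
def n199012 : Q := act 0 n110844
theorem D199012 : act 0 n110844 = n199012 := rfl
theorem F410318 : act 5 n199012 = n198290 := d19_1 D199012 (iv4 D198290) F169126 (iv1 F169608) F169067 F81421 (iv3 D25060) F19605 F8708 F8564 D6339 (iv1 F22342) (iv5 D11956) D11955 (iv3 F20378) F20381 D24875 D51108 D110844
theorem F410319 : act 2 n125575 = n199012 := d15_3 (iv0 D199012) (iv0 F363310) (iv7 F361648)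
theorem F410320 : act 1 n125576 = n199012 := d15_0 (iv0 D199012) F171699 D125576
theorem F410321 : act 7 n199012 = n125574 := d4_2 (iv7 F361648) F410319 F361646
theorem F410322 : act 1 n177289 = n125576 := d15_0 F410320 F410321 F361646
def n199013 : Q := act 2 n110844
theorem D199013 : act 2 n110844 = n199013 := rfl
theorem F410323 : act 3 n199013 = n140700 := d0_2 D110844 D199013 (iv2 D140700) (iv3 D66016) (iv2 F80622)
theorem F410324 : act 4 n199013 = n125532 := d1_2 (iv4 F171697) D199013 (iv2 D125532)
theorem F410325 : act 5 n199013 = n111733 := d2_2 (iv5 F171698) D199013 (iv2 D111733)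
theorem F410326 : act 7 n199013 = n125576 := d4_2 (iv7 F171699) D199013 (iv2 D125576)
theorem F410327 : act 1 n199013 = n125574 := d15_0 (iv0 D125574) (iv7 F171699) D199013
theorem F410328 : act 1 n125575 = n199013 := d15_0 F410327 (iv7 F410321) (iv2 F410319)
def n199014 : Q := act 5 n110846
theorem D199014 : act 5 n110846 = n199014 := rfl
theorem F410329 : act 2 n199014 = n152774 := d2_1 D199014 (iv5 F363775) F222573
theorem F410330 : act 4 n199014 = n113888 := d9_1 D199014 (iv5 D113888) (iv4 F177172) F328379 (iv4 F165193) D115478 F330565 D139981 F363772 F363770 F218157 (iv5 D126819) F179780 D115481 F330601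
theorem F410331 : act 0 n199014 = n115553 := d17_2 (iv1 F222574) D199014 (iv5 D115553) (iv4 D53304) F330511 (iv0 F165203) (iv5 F330566) (iv0 F330569) (iv4 F330570)
theorem F410332 : act 6 n113892 = n199014 := d10_0 F410330 F177180 D113892
def n199015 : Q := act 6 n110846
theorem D199015 : act 6 n110846 = n199015 := rfl
def n199016 : Q := act 5 n110847
theorem D199016 : act 5 n110847 = n199016 := rfl
theorem F410333 : act 2 n199016 = n110848 := d2_1 D199016 (iv5 D110848) D110847
theorem F410334 : act 3 n199016 = n184570 := d6_1 D199016 F355067 F204020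
theorem F410335 : act 6 n199016 = n184493 := d12_2 F388809 D199016 F286437 (iv6 F155906) (iv5 F388808)
theorem F410336 : act 7 n199016 = n184529 := d13_2 F222568 D199016 (iv5 F354433)
theorem F410337 : act 4 n199016 = n130949 := d16_2 F222796 D199016 (iv5 F218312) F218310 (iv5 F330588) (iv4 D115674) (iv5 F176278) F176279 D139630
def n199017 : Q := act 1 n110848
theorem D199017 : act 1 n110848 = n199017 := rfl
theorem F410338 : act 1 n199017 = n184529 := d15_1 D199017 (iv7 F410336) F410333
theorem F410339 : act 5 n199017 = n110865 := d17_7 (iv1 F179518) F330518 (iv1 F330576) F179550 F101265 D110848 D199017 F179846 (iv4 D115548)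
theorem F410340 : act 3 n136487 = n199017 := d6_3 F410339 (iv3 F361550) F220375
theorem F410341 : act 6 n136486 = n199017 := d12_0 F410339 F361556 (iv5 D137218) (iv6 F211765) (iv5 F219597)
def n199018 : Q := act 4 n110853
theorem D199018 : act 4 n110853 = n199018 := rfl
theorem F410342 : act 2 n199018 = n137297 := d1_1 D199018 F220439 F220442
theorem F410343 : act 3 n199018 = n129578 := d5_1 D199018 F352291 (iv3 D141815) D141816 F224830
theorem F410344 : act 0 n199018 = n196828 := d20_1 D199018 F401932 (iv3 D110894) (iv1 D51135) (iv3 D24886) (iv4 D11801) D11799 D24880 D51116 D110853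
theorem F410345 : act 6 n163149 = n199018 := d7_0 F410343 F342313 (iv3 F257461)
def n199019 : Q := act 6 n110853
theorem D199019 : act 6 n110853 = n199019 := rfl
theorem F410346 : act 3 n199019 = n193493 := d7_1 D199019 F390052 F224830
theorem F410347 : act 4 n199019 = n163149 := d10_1 D199019 F410345 (iv4 D199018)
theorem F410348 : act 5 n199019 = n193277 := d12_1 D199019 (iv6 D193277) D193276 F389382 (iv5 F171710)
theorem F410349 : act 0 n199019 = n189193 := d21_4 (iv5 F329621) F373317 (iv5 F171710) D199019 (iv6 D189193) D189192 F376023 (iv5 F410315) (iv6 D199011) (iv1 D110835)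
theorem F410350 : act 0 n193199 = n199019 := d21_4 F109606 F310328 D101349 (iv6 F389151) (iv6 D199019) F171710 (iv1 F373319) F355067 F355066 F306429
def n199020 : Q := act 6 n110856
theorem D199020 : act 6 n110856 = n199020 := rfl
theorem F410351 : act 2 n199020 = n182777 := d3_1 D199020 F407360 (iv2 F407359)
theorem F410352 : act 3 n199020 = n110858 := d7_1 D199020 (iv6 D110858) (iv3 F171711)
theorem F410353 : act 5 n199020 = n134915 := d12_1 D199020 (iv6 F375994) (iv5 D189184) F360198 D110856
theorem F410354 : act 7 n199020 = n134914 := d14_2 F204121 D199020 F332718 (iv7 F331060) (iv6 F345623)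
theorem F410355 : act 0 n199020 = n123763 := d21_4 F373322 (iv1 D110854) D110856 D199020 (iv6 D123763) F302082 (iv1 F73705) (iv5 F135019) D184570 (iv1 F373320)
def n199021 : Q := act 6 n110860
theorem D199021 : act 6 n110860 = n199021 := rfl
theorem F410356 : act 2 n199021 = n136200 := d3_1 D199021 (iv6 F360385) F204317
theorem F410357 : act 4 n199021 = n127037 := d10_1 D199021 F350333 F342846
theorem F410358 : act 5 n199021 = n116107 := d12_1 D199021 F180898 (iv5 F171635) (iv6 F171637) D110860
theorem F410359 : act 7 n199021 = n136195 := d14_2 (iv7 F350320) D199021 F350324 (iv7 F167787) F350322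
theorem F410360 : act 0 n199021 = n198984 := d21_4 (iv5 D51121) D51119 D110860 D199021 (iv6 D198984) (iv5 F173118) F173239 F173236 (iv6 F167614) (iv1 F167615)
theorem F410361 : act 0 n132572 = n199021 := d21_4 F328732 F217034 (iv5 D132571) D132572 (iv6 D199021) (iv5 D110860) (iv1 F171615) F171612 (iv6 F329070) (iv1 F198048)
def n199022 : Q := act 6 n110863
theorem D199022 : act 6 n110863 = n199022 := rfl
theorem F410362 : act 2 n199022 = n198898 := d3_1 D199022 F409789 F179911
theorem F410363 : act 3 n199022 = n141955 := d7_1 D199022 (iv6 D141955) F171719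
theorem F410364 : act 4 n199022 = n115519 := d10_1 D199022 (iv6 D115519) F171720
theorem F410365 : act 5 n199022 = n112551 := d12_1 D199022 (iv6 F175104) (iv5 F220757) (iv6 D137595) (iv5 F171718)
theorem F410366 : act 7 n199022 = n197110 := d14_2 F179919 D199022 (iv6 D197110) F175897 (iv6 F179923)
theorem F410367 : act 0 n199022 = n195682 := d21_4 (iv5 F99609) F166207 (iv5 F171718) D199022 F397842 F226979 (iv1 D144285) D144286 F226982 (iv1 D108047)
theorem F410368 : act 1 n199022 = n195681 := d15_1 (iv0 F410367) F409435 F409430
def n199023 : Q := act 5 n110866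
theorem D199023 : act 5 n110866 = n199023 := rfl
theorem F410369 : act 2 n199023 = n110867 := d2_1 D199023 (iv5 D110867) D110866
theorem F410370 : act 4 n199023 = n130676 := d9_1 D199023 (iv5 D130676) F95796 (iv5 D59513) (iv4 F83991) (iv5 F330511) D53304 D115553 F349535 (iv5 D130947) F99198 (iv5 F179874) F179873 (iv5 F330521) F179515
theorem F410371 : act 0 n199023 = n199014 := d17_2 (iv1 F179852) D199023 (iv5 D199014) (iv4 F330601) (iv5 D115481) F165191 (iv5 F401403) F401405 F330540
theorem F410372 : act 1 n199023 = n139981 := d17_6 (iv1 F330574) (iv5 D66459) (iv1 F165205) (iv5 F330521) F179515 D199023 (iv5 D139981) (iv0 F101434) (iv4 F101265)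
def n199024 : Q := act 6 n110866
theorem D199024 : act 6 n110866 = n199024 := rfl
theorem F410373 : act 2 n199024 = n110868 := d3_1 D199024 (iv6 D110868) D110866
theorem F410374 : act 3 n199024 = n189115 := d7_1 D199024 F375802 F204114
theorem F410375 : act 5 n189113 = n199024 := d6_0 F410374 (iv5 D189115) D189113
def n199025 : Q := act 1 n110867
theorem D199025 : act 1 n110867 = n199025 := rfl
theorem F410376 : act 7 n199025 = n199014 := d15_2 (iv0 F363777) D199025 F410329
theorem F410377 : act 5 n199025 = n139351 := d17_7 (iv1 F330593) (iv5 D115488) (iv1 F179512) F330513 F83992 D110867 D199025 F222570 (iv4 F222796)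
theorem F410378 : act 2 n139981 = n199025 := d2_3 F410377 (iv2 F222571) D139981
def n199026 : Q := act 6 n110867
theorem D199026 : act 6 n110867 = n199026 := rfl
theorem F410379 : act 3 n199026 = n110869 := d7_1 D199026 (iv6 D110869) (iv3 F171723)
def n199027 : Q := act 0 n110868
theorem D199027 : act 0 n110868 = n199027 := rfl
theorem F410380 : act 3 n199027 = n143249 := d20_5 (iv4 D110874) (iv1 D51128) (iv4 F80646) (iv3 F171724) D199027 F361411 (iv1 D80603) D80604 (iv3 F321533) F171740
def n199028 : Q := act 1 n110868
theorem D199028 : act 1 n110868 = n199028 := rfl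
def n199029 : Q := act 5 n110868
theorem D199029 : act 5 n110868 = n199029 := rfl
theorem F410381 : act 2 n199029 = n189113 := d2_1 D199029 F410375 F410373
theorem F410382 : act 3 n199029 = n110870 := d6_1 D199029 (iv5 D110870) (iv3 F171724)
theorem F410383 : act 7 n134948 = n199029 := d8_0 F410382 F343812 (iv3 F217161)
def n199030 : Q := act 7 n110868
theorem D199030 : act 7 n110868 = n199030 := rfl
theorem F410384 : act 3 n199030 = n110871 := d8_1 D199030 (iv7 D110871) (iv3 F171724)
theorem F410385 : act 5 n199030 = n134948 := d13_1 D199030 F410383 (iv5 D199029)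
theorem F410386 : act 6 n199030 = n134951 := d14_1 D199030 (iv7 F360206) (iv6 D115554) F84150 D110868
def n199031 : Q := act 0 n110869
theorem D199031 : act 0 n110869 = n199031 := rfl
theorem F410387 : act 5 n199031 = n191336 := d17_1 D199031 F407174 D198281 F407457 F170521 F170322 (iv5 F343745) (iv0 D111632) (iv4 F171725)
theorem F410388 : act 4 n199031 = n198787 := d18_1 D199031 (iv1 D198787) F387549 (iv5 F387546) F362605 (iv0 F362603) (iv4 F404949) (iv0 F407523) F407520
theorem F410389 : act 6 n199031 = n171101 := d21_5 (iv5 D53449) F40905 D51125 D110869 D199031 (iv5 D171101) (iv1 F126431) D91358 F337442 (iv1 F84335)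
theorem F410390 : act 1 n111702 = n199031 := d15_0 (iv0 D199031) (iv7 F407551) F407548
theorem F410391 : act 2 n192218 = n199031 := d3_3 F410389 F268820 D192218
theorem F410392 : act 3 n191992 = n199031 := d7_3 F410389 F268821 D191992
theorem F410393 : act 7 n123889 = n199031 := d14_0 F410389 F268822 F355608 F355571 D123889
def n199032 : Q := act 1 n110869
theorem D199032 : act 1 n110869 = n199032 := rfl
theorem F410394 : act 1 n199032 = n111702 := d15_1 D199032 F343822 F204124
theorem F410395 : act 7 n199032 = n192218 := d15_2 (iv0 D199031) D199032 F410391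
theorem F410396 : act 5 n199032 = n198280 := d17_7 D109122 (iv5 F325548) (iv1 F303322) (iv5 F326095) D198297 F407520 D199032 (iv0 D198280) (iv4 D109124)
theorem F410397 : act 4 n199032 = n198786 := d18_7 (iv1 F169777) (iv4 D109782) F169772 (iv4 D51502) (iv5 F343735) (iv4 F171725) D199032 (iv0 D198786) (iv5 D110257)
theorem F410398 : act 6 n123130 = n199032 := d21_3 (iv5 F406345) (iv1 F406347) F197312 (iv1 D199032) (iv6 D110869) (iv5 D51125) F39012 D29774 F329928 (iv1 F198314)
theorem F410399 : act 2 n199032 = n123889 := d3_1 F410398 (iv6 D123889) (iv2 F355567)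
def n199033 : Q := act 0 n110870
theorem D199033 : act 0 n110870 = n199033 := rfl
theorem F410400 : act 5 n199033 = n111137 := d17_3 F171721 D110870 D199033 (iv4 D111137) (iv5 F80857) (iv0 D34110) F26113 D25952 D53597
theorem F410401 : act 4 n199033 = n197586 := d18_1 D199033 (iv1 D197586) F167719 (iv5 F343177) F171794 (iv0 F84531) D53593 (iv0 F166482) D110870
theorem F410402 : act 2 n134954 = n199033 := d15_3 (iv0 D199033) (iv0 F383084) (iv7 F383086)
theorem F410403 : act 1 n134767 = n199033 := d15_0 (iv0 D199033) F343812 (iv2 F216837)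
theorem F410404 : act 7 n199033 = n134953 := d15_2 (iv0 F383085) F410403 (iv2 F383082)
theorem F410405 : act 3 n189134 = n199033 := d8_3 F410404 (iv3 F367957) F390212
def n199034 : Q := act 5 n110874
theorem D199034 : act 5 n110874 = n199034 := rfl
theorem F410406 : act 2 n199034 = n116270 := d2_1 D199034 (iv5 D116270) (iv2 F171738)
theorem F410407 : act 3 n199034 = n194026 := d6_1 D199034 (iv5 D194026) (iv3 F362218)
theorem F410408 : act 7 n199034 = n116267 := d13_2 (iv7 F171739) D199034 (iv5 D116267)
theorem F410409 : act 0 n199034 = n111134 := d17_2 F171740 D199034 (iv5 D111134) F80853 F39074 D31044 F95818 F84525 (iv4 F84544)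
theorem F410410 : act 1 n199034 = n138330 := d17_6 (iv1 F215967) (iv5 F162203) (iv1 F171757) (iv5 D110875) D110874 D199034 F221529 F172350 F172346
def n199035 : Q := act 6 n110876
theorem D199035 : act 6 n110876 = n199035 := rfl
theorem F410411 : act 2 n199035 = n134831 := d3_1 D199035 (iv6 D134831) (iv2 F171761)
theorem F410412 : act 3 n199035 = n197079 := d7_1 D199035 (iv6 D197079) F171762
theorem F410413 : act 4 n199035 = n197542 := d10_1 D199035 (iv6 D197542) F171763
theorem F410414 : act 5 n199035 = n197705 := d12_1 D199035 (iv6 D197705) (iv5 F167972) (iv6 F112149) F171760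
theorem F410415 : act 7 n199035 = n197705 := d14_2 (iv7 F171759) D199035 (iv6 D197705) F167970 (iv6 F112156)
theorem F410416 : act 0 n199035 = n143967 := d21_4 F76898 D62987 F171760 D199035 F226609 F202894 (iv1 F404510) (iv5 D197480) F167336 F166498
theorem F410417 : act 0 n143966 = n199035 := d21_4 (iv5 F207325) F228697 (iv5 F228691) F228692 (iv6 D199035) (iv5 F171760) (iv1 F215973) F215970 (iv6 F220937) (iv1 F220938)
def n199036 : Q := act 3 n110880
theorem D199036 : act 3 n110880 = n199036 := rfl
theorem F410418 : act 5 n199036 = n192757 := d6_2 F350412 D199036 (iv3 D192757)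
theorem F410419 : act 7 n199036 = n141129 := d8_2 (iv7 F361312) D199036 (iv3 D141129)
theorem F410420 : act 0 n110889 = n199036 := d20_4 F181238 F171804 (iv4 D110890) D110889 (iv3 D199036) (iv4 F400279) (iv1 F400414) D196346 F400421 (iv1 F181249)
def n199037 : Q := act 6 n110880
theorem D199037 : act 6 n110880 = n199037 := rfl
theorem F410421 : act 2 n199037 = n141127 := d3_1 D199037 (iv6 D141127) (iv2 F361311)
theorem F410422 : act 0 n199037 = n139309 := d21_10 F385917 (iv1 D192189) F153706 (iv6 D46763) (iv1 F293151) (iv6 F329201) (iv5 F329481) D100598 F350412 D199037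
theorem F410423 : act 0 n192341 = n199037 := d21_4 (iv5 D98531) (iv1 F275137) (iv5 F154036) D192341 (iv6 D199037) (iv5 F350412) (iv1 F350411) F171816 F329205 F151927
def n199038 : Q := act 6 n110881
theorem D199038 : act 6 n110881 = n199038 := rfl
theorem F410424 : act 2 n199038 = n110883 := d3_1 D199038 (iv6 D110883) D110881
theorem F410425 : act 3 n199038 = n116253 := d7_1 D199038 (iv6 D116253) (iv3 F171780)
theorem F410426 : act 4 n199038 = n141820 := d10_1 D199038 (iv6 D141820) (iv4 F171781)
theorem F410427 : act 5 n199038 = n186292 := d12_1 D199038 (iv6 F387562) (iv5 D192706) D192707 (iv5 F387573)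
theorem F410428 : act 7 n199038 = n191846 := d14_2 (iv7 F171782) D199038 (iv6 F384582) F360359 (iv6 D141134)
theorem F410429 : act 0 n199038 = n191903 := d21_4 (iv5 F350418) (iv1 F387575) (iv5 F387573) D199038 (iv6 D191903) (iv5 D99306) (iv1 F73293) (iv5 F73856) (iv6 F329205) D111447
theorem F410430 : act 1 n199038 = n192347 := d15_1 (iv0 F410429) (iv7 D192347) (iv2 F384770)
def n199039 : Q := act 1 n110883
theorem D199039 : act 1 n110883 = n199039 := rfl
theorem F410431 : act 1 n199039 = n191846 := d15_1 D199039 (iv7 F410428) F410424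
theorem F410432 : act 7 n199039 = n191903 := d15_2 (iv0 F350402) D199039 F384770
theorem F410433 : act 2 n192347 = n199039 := d4_3 F410432 F384770 D192347
theorem F410434 : act 6 n192370 = n199039 := d14_5 F410432 (iv6 D191903) F275011 D100119 D192370
def n199040 : Q := act 7 n110883
theorem D199040 : act 7 n110883 = n199040 := rfl
theorem F410435 : act 2 n199040 = n191846 := d4_1 D199040 (iv7 F410428) F410424
theorem F410436 : act 3 n199040 = n110886 := d8_1 D199040 (iv7 D110886) (iv3 F171788)
theorem F410437 : act 4 n199040 = n141828 := d11_1 D199040 (iv7 D141828) (iv4 F171789)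
theorem F410438 : act 5 n199040 = n135175 := d13_1 D199040 (iv7 F350408) F350403
theorem F410439 : act 6 n199040 = n141141 := d14_1 D199040 (iv7 D141141) (iv6 D66201) (iv7 F80650) D110883
theorem F410440 : act 1 n192347 = n199040 := d15_1 F410430 (iv7 D199040) (iv2 F410424)
theorem F410441 : act 1 n199040 = n191903 := d15_1 F410440 (iv7 F410432) (iv2 F410433)
def n199041 : Q := act 3 n110888
theorem D199041 : act 3 n110888 = n199041 := rfl
theorem F410442 : act 4 n199041 = n195922 := d5_2 (iv4 F359128) D199041 (iv3 D195922) (iv4 D106434) D106433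
theorem F410443 : act 5 n199041 = n198249 := d6_2 F359150 D199041 F407342
theorem F410444 : act 7 n199041 = n110894 := d8_2 F171803 D199041 (iv3 D110894)
theorem F410445 : act 0 n199041 = n141176 := d20_10 F224196 (iv1 F203725) (iv4 F204115) F204114 (iv1 F179855) (iv3 F181261) (iv4 F398735) (iv1 D195919) (iv4 F359128) D199041
theorem F410446 : act 0 n116246 = n199041 := d20_4 (iv4 D31237) D31234 F84533 D116246 (iv3 D199041) F359128 F171807 F102889 (iv3 D66331) F49553
theorem F410447 : act 2 n199041 = n141175 := d15_3 F224198 F220523 (iv7 F410444)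
theorem F410448 : act 6 n199041 = n194701 := d21_3 D139486 (iv1 F410311) (iv5 F410443) (iv1 D194701) (iv6 D104144) (iv5 D48192) (iv1 F36444) (iv5 F62144) D87929 (iv1 F331752)
def n199042 : Q := act 6 n110888
theorem D199042 : act 6 n110888 = n199042 := rfl
theorem F410449 : act 2 n199042 = n110892 := d3_1 D199042 (iv6 D110892) D110888
theorem F410450 : act 3 n199042 = n194701 := d7_1 D199042 (iv6 F410448) (iv3 D199041)
theorem F410451 : act 4 n199042 = n195920 := d10_1 D199042 (iv6 D195920) (iv4 F359128)
theorem F410452 : act 5 n199042 = n141325 := d12_1 D199042 (iv6 F364601) (iv5 D136688) D136689 F359150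
theorem F410453 : act 0 n199042 = n141146 := d21_4 (iv5 F224262) (iv1 F359148) F359150 D199042 (iv6 F329688) (iv5 D99998) (iv1 F143900) F338288 (iv6 D139462) (iv1 F180525)
theorem F410454 : act 1 n199042 = n141263 := d15_1 (iv0 F410453) (iv7 F357361) (iv2 F357360)
theorem F410455 : act 7 n141262 = n199042 := d15_2 F362375 D141262 F410449
def n199043 : Q := act 1 n110889
theorem D199043 : act 1 n110889 = n199043 := rfl
def n199044 : Q := act 2 n110889
theorem D199044 : act 2 n110889 = n199044 := rfl
theorem F410456 : act 3 n199044 = n141175 := d0_2 D110889 D199044 (iv2 F410447) (iv3 D199041) (iv2 D110888)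
theorem F410457 : act 4 n133991 = n199044 := d20_2 (iv4 F98193) D133991 F410456 (iv1 D141175) (iv3 D66223) D66224 F102978 D67107 F103066 (iv1 D62948)
theorem F410458 : act 2 n195412 = n133991 := d1_3 F410457 (iv2 D199044) F396930
theorem F410459 : act 0 n141129 = n199044 := d20_10 (iv4 F410457) (iv1 F396935) F396932 F180481 (iv1 F101074) D133977 (iv4 F400418) (iv1 F400417) (iv4 D141130) D141129
theorem F410460 : act 7 n133992 = n195412 := d15_2 (iv0 D133991) D133992 F410458
theorem F410461 : act 7 n195411 = n133991 := d15_2 (iv0 F396931) F396929 (iv2 F410458)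
theorem F410462 : act 2 n133992 = n195411 := d4_3 F410461 (iv2 F410458) (iv7 F410460)
def n199045 : Q := act 5 n110889
theorem D199045 : act 5 n110889 = n199045 := rfl
theorem F410463 : act 3 n199045 = n110891 := d6_1 D199045 (iv5 D110891) D110889
def n199046 : Q := act 6 n110889
theorem D199046 : act 6 n110889 = n199046 := rfl
theorem F410464 : act 3 n199046 = n110892 := d7_1 D199046 (iv6 D110892) D110889
theorem F410465 : act 4 n199046 = n195392 := d10_1 D199046 (iv6 F403810) (iv4 F396930)
def n199047 : Q := act 7 n110889
theorem D199047 : act 7 n110889 = n199047 := rfl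
theorem F410466 : act 3 n199047 = n110893 := d8_1 D199047 (iv7 D110893) D110889
theorem F410467 : act 4 n199047 = n133992 := d11_1 D199047 F410460 (iv4 F396930)
theorem F410468 : act 1 n141129 = n199047 := d15_1 (iv0 F410459) (iv7 D199047) D199044
def n199048 : Q := act 6 n110890
theorem D199048 : act 6 n110890 = n199048 := rfl
theorem F410469 : act 2 n199048 = n195920 := d3_1 D199048 (iv6 D195920) F359131
theorem F410470 : act 4 n199048 = n110892 := d10_1 D199048 (iv6 D110892) D110890
def n199049 : Q := act 4 n110891
theorem D199049 : act 4 n110891 = n199049 := rfl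
def n199050 : Q := act 5 n110892
theorem D199050 : act 5 n110892 = n199050 := rfl
theorem F410471 : act 2 n199050 = n141325 := d2_1 D199050 (iv5 F410452) F410449
theorem F410472 : act 1 n199050 = n129594 := d17_8 D129591 (iv5 F359086) F359084 F93811 (iv4 F100695) D138022 (iv0 F362374) D199050 (iv4 D129594)
theorem F410473 : act 1 n141326 = n199050 := d15_0 F410472 F207773 D141326
def n199051 : Q := act 7 n110892
theorem D199051 : act 7 n110892 = n199051 := rfl
theorem F410474 : act 2 n199051 = n141262 := d4_1 D199051 F410455 F410449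
theorem F410475 : act 1 n141263 = n199051 := d15_1 F410454 (iv7 D199051) (iv2 F410449)
theorem F410476 : act 1 n199051 = n141146 := d15_1 F410475 F224119 D141263
theorem F410477 : act 5 n199051 = n141324 := d17_7 D66481 (iv5 F359095) (iv1 D59429) D59431 D126673 (iv5 F357364) F410475 (iv0 D141324) F102208
theorem F410478 : act 7 n141324 = n199050 := d13_2 D199051 F410477 (iv5 D199050)
def n199052 : Q := act 6 n110893
theorem D199052 : act 6 n110893 = n199052 := rfl
theorem F410479 : act 2 n199052 = n110896 := d3_1 D199052 (iv6 D110896) (iv2 F171805)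
theorem F410480 : act 0 n199052 = n194025 := d21_4 D65454 D139468 (iv5 F359136) D199052 F391805 (iv5 D150093) F232740 F331760 (iv6 D139465) (iv1 D65452)
theorem F410481 : act 1 n199052 = n116269 := d15_1 (iv0 F410480) (iv7 F401636) F401634
def n199053 : Q := act 2 n110894
theorem D199053 : act 2 n110894 = n199053 := rfl
theorem F410482 : act 4 n199053 = n126664 := d1_2 F401932 D199053 (iv2 F401931)
theorem F410483 : act 7 n199053 = n141175 := d4_2 F410444 D199053 (iv2 F410447)
theorem F410484 : act 1 n199053 = n141176 := d15_0 (iv0 F410445) F410444 D199053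
theorem F410485 : act 1 n116246 = n199053 := d15_0 F410484 F224197 F204133
theorem F410486 : act 5 n198252 = n199053 := d17_5 F345104 F169163 (iv1 F176731) F203751 D198252 F410484 (iv5 F369487) (iv0 D184117) (iv4 F286058)
def n199054 : Q := act 5 n110894
theorem D199054 : act 5 n110894 = n199054 := rfl
theorem F410487 : act 2 n199054 = n198252 := d2_1 D199054 F410486 (iv2 D199053)
theorem F410488 : act 3 n199054 = n110895 := d6_1 D199054 (iv5 D110895) D110894
theorem F410489 : act 7 n199054 = n198249 := d13_2 F410444 D199054 (iv5 F410443)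
theorem F410490 : act 4 n199054 = n140405 := d17_4 F373278 F222693 F220522 D199054 (iv5 D140405) (iv0 D65904) (iv5 F79760) (iv0 F204656) F352254
theorem F410491 : act 6 n199054 = n141891 := d21_3 F222693 F220522 D199054 F358552 (iv6 D87804) (iv5 D40909) F66054 D42748 D91345 F373278
theorem F410492 : act 0 n141196 = n199054 := d18_0 F410490 (iv1 F358908) D198245 F407332 (iv4 F219851) (iv0 F375914) F375913 (iv0 F362377) (iv5 F224218)
def n199055 : Q := act 6 n110894
theorem D199055 : act 6 n110894 = n199055 := rfl
theorem F410493 : act 3 n199055 = n110896 := d7_1 D199055 (iv6 D110896) D110894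
theorem F410494 : act 4 n199055 = n149280 := d10_1 D199055 F401936 F401932
theorem F410495 : act 0 n199055 = n194696 := d21_4 (iv5 F224218) F410492 (iv5 D199054) D199055 (iv6 D194696) (iv5 D104128) (iv1 F75732) (iv5 F134902) D184303 (iv1 F362378)
def n199056 : Q := act 4 n110895
theorem D199056 : act 4 n110895 = n199056 := rfl
def n199057 : Q := act 6 n110895
theorem D199057 : act 6 n110895 = n199057 := rfl
theorem F410496 : act 3 n199057 = n141891 := d7_1 D199057 (iv6 F410491) F410488
theorem F410497 : act 0 n199057 = n183978 := d21_4 F338274 (iv1 F171802) D110895 D199057 (iv6 D183978) (iv5 D87763) (iv1 F134736) (iv5 F335364) (iv6 F338286) F338278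
def n199058 : Q := act 1 n110896
theorem D199058 : act 1 n110896 = n199058 := rfl
theorem F410498 : act 7 n199058 = n194025 := d15_2 (iv0 F401638) D199058 (iv2 F401634)
theorem F410499 : act 4 n111089 = n199058 := d20_6 F401947 F347434 D176162 (iv3 F391201) (iv1 F401650) F401647 (iv1 D199058) (iv4 F401923) F401922 D196831
theorem F410500 : act 2 n199058 = n116269 := d1_1 F410499 (iv4 F398717) F401627
theorem F410501 : act 3 n199058 = n192176 := d20_9 (iv4 D102586) (iv1 F153692) D192175 (iv3 F385872) F367187 (iv3 F375868) F401628 (iv1 F401626) F410499 (iv1 F385876)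
def n199059 : Q := act 5 n110896
theorem D199059 : act 5 n110896 = n199059 := rfl
def n199060 : Q := act 7 n110896
theorem D199060 : act 7 n110896 = n199060 := rfl
theorem F410502 : act 6 n199060 = n141262 := d14_1 D199060 F410455 (iv6 D199042) (iv7 F171803) D110896
theorem F410503 : act 1 n116269 = n199060 := d15_1 F410481 (iv7 D199060) (iv2 F410479)
theorem F410504 : act 1 n199060 = n194025 := d15_1 F410503 (iv7 F410498) F410500
theorem F410505 : act 5 n199060 = n135148 := d21_8 (iv5 D29993) D29990 D63504 (iv6 F337791) (iv1 F312697) D197190 F403464 (iv1 F410504) (iv6 D135148) (iv1 D63513)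
theorem F410506 : act 7 n135148 = n199059 := d13_2 D199060 F410505 (iv5 D199059)
def n199061 : Q := act 1 n110899
theorem D199061 : act 1 n110899 = n199061 := rfl
theorem F410507 : act 1 n199061 = n110904 := d15_1 D199061 (iv7 D110904) (iv2 F171810)
theorem F410508 : act 7 n199061 = n110900 := d15_2 F345103 D199061 (iv2 F338285)
theorem F410509 : act 5 n199061 = n115938 := d17_7 D107426 F220816 (iv1 F80828) (iv5 D51238) (iv4 F80658) D110899 D199061 (iv0 D115938) F84350
theorem F410510 : act 6 n124146 = n199061 := d21_9 (iv5 D110899) (iv1 F359127) (iv5 F359150) (iv6 D136689) (iv1 F218657) (iv6 F350359) (iv5 D120630) (iv1 F232582) (iv5 F361476) (iv1 D199061)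
theorem F410511 : act 2 n199061 = n110901 := d3_1 F410510 (iv6 F338281) F361477
def n199062 : Q := act 4 n110899
theorem D199062 : act 4 n110899 = n199062 := rfl
theorem F410512 : act 2 n199062 = n110902 := d1_1 D199062 (iv4 D110902) (iv2 F171810)
theorem F410513 : act 7 n199062 = n129456 := d11_2 (iv7 F338276) D199062 (iv4 F219487)
theorem F410514 : act 5 n199062 = n198937 := d16_1 D199062 (iv4 D198937) (iv5 D110738) F80499 (iv5 F39067) (iv4 F80661) (iv5 F171813) (iv7 D110904) (iv2 F171810)
def n199063 : Q := act 6 n110899
theorem D199063 : act 6 n110899 = n199063 := rfl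
theorem F410515 : act 2 n199063 = n110903 := d3_1 D199063 (iv6 D110903) (iv2 F171810)
theorem F410516 : act 7 n199063 = n133507 := d14_2 (iv7 F338276) D199063 (iv6 D133507) (iv7 F99796) D136368
theorem F410517 : act 0 n138185 = n199063 := d21_4 F218654 (iv1 F99637) D64910 D138185 (iv6 D199063) (iv5 D110899) (iv1 F359127) (iv5 F359150) (iv6 D136689) (iv1 F218657)
def n199064 : Q := act 4 n110900
theorem D199064 : act 4 n110900 = n199064 := rfl
theorem F410518 : act 3 n199064 = n128517 := d5_1 D199064 F206686 F94987 D119211 F338287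
theorem F410519 : act 6 n199064 = n128516 := d10_2 (iv6 F338286) D199064 F206683
theorem F410520 : act 0 n199064 = n132200 := d18_2 D110900 D199064 (iv4 F219600) (iv5 F220375) F361551 F225705 (iv4 D110890) (iv0 D51134) D51137
def n199065 : Q := act 4 n110901
theorem D199065 : act 4 n110901 = n199065 := rfl
theorem F410521 : act 1 n199065 = n132200 := d18_6 F402182 (iv4 F228409) F228411 F180529 (iv5 F180528) D199065 (iv4 F219600) (iv0 F388399) F402183
def n199066 : Q := act 1 n110902
theorem D199066 : act 1 n110902 = n199066 := rfl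
theorem F410522 : act 1 n199066 = n129456 := d15_1 D199066 (iv7 F410513) F410512
def n199067 : Q := act 3 n110902
theorem D199067 : act 3 n110902 = n199067 := rfl
theorem F410523 : act 4 n199067 = n110908 := d5_2 D110902 D199067 (iv3 D110908) (iv4 D51140) (iv3 F80659)
theorem F410524 : act 7 n199067 = n111349 := d8_2 F364004 D199067 (iv3 F364003)
theorem F410525 : act 6 n196436 = n199067 := d10_0 F410523 (iv6 F365200) D196436
def n199068 : Q := act 5 n110902
theorem D199068 : act 5 n110902 = n199068 := rfl
theorem F410526 : act 2 n199068 = n198937 := d2_1 D199068 (iv5 F410514) F410512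
theorem F410527 : act 4 n199068 = n198934 := d9_1 D199068 (iv5 D198934) F171409 (iv5 F80817) (iv4 F171800) (iv5 F338274) F219487 (iv5 F338277) (iv4 D136949) F100312 F48822 (iv5 D24920) (iv4 F39017) D51137 D110902
theorem F410528 : act 1 n137990 = n199068 := d18_6 (iv1 F218708) F218706 F172282 D111086 F172288 D137990 F410527 F409967 (iv5 D136846)
def n199069 : Q := act 6 n110902
theorem D199069 : act 6 n110902 = n199069 := rfl
theorem F410529 : act 3 n199069 = n196436 := d7_1 D199069 F410525 (iv3 D199067)
theorem F410530 : act 4 n199069 = n110903 := d10_1 D199069 (iv6 D110903) D110902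
theorem F410531 : act 7 n199069 = n129449 := d14_2 F364004 D199069 (iv6 D129449) F95535 D129842
theorem F410532 : act 5 n191565 = n199069 := d16_7 (iv4 F214695) F357697 F229155 (iv5 F205733) (iv4 F311798) (iv5 F154527) D191565 F410531 (iv2 F208198)
def n199070 : Q := act 0 n110903
theorem D199070 : act 0 n110903 = n199070 := rfl
theorem F410533 : act 1 n133507 = n199070 := d15_0 (iv0 D199070) (iv7 F341509) F219454
def n199071 : Q := act 1 n110903
theorem D199071 : act 1 n110903 = n199071 := rfl
theorem F410534 : act 1 n199071 = n133507 := d15_1 D199071 (iv7 F410516) F410515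
theorem F410535 : act 6 n134379 = n199071 := d21_3 F100040 (iv1 F359624) D134379 (iv1 D199071) (iv6 D110903) (iv5 D51137) D51134 D110891 (iv6 F338280) (iv1 F218655)
theorem F410536 : act 2 n199071 = n138185 := d3_1 F410535 (iv6 D138185) (iv2 F333884)
theorem F410537 : act 5 n199071 = n134376 := d12_1 F410535 (iv6 D134376) (iv5 D63127) D63128 D134379
theorem F410538 : act 7 n199070 = n138185 := d15_2 F410534 F410533 (iv2 F410536)
def n199072 : Q := act 0 n110908
theorem D199072 : act 0 n110908 = n199072 := rfl
theorem F410539 : act 1 n111346 = n199072 := d15_0 (iv0 D199072) F171821 (iv2 F172790)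
theorem F410540 : act 5 n199072 = n111360 := d17_7 D108718 F400501 (iv1 F400500) (iv5 D108679) (iv4 F81050) D111346 F410539 (iv0 D111360) F81070
def n199073 : Q := act 1 n110908
theorem D199073 : act 1 n110908 = n199073 := rfl
theorem F410541 : act 1 n199073 = n111346 := d15_1 D199073 (iv7 F409215) F409212
theorem F410542 : act 5 n199073 = n111361 := d17_7 (iv1 F345341) F400502 (iv1 D196373) F164793 (iv4 F81054) (iv5 F171820) D199073 F409171 F409167
theorem F410543 : act 6 n157899 = n111361 := d21_5 (iv5 D67620) (iv1 F77629) (iv5 F92853) (iv6 F337384) D157899 (iv5 F410542) (iv1 D199073) F171820 F330486 (iv1 F103636)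
def n199074 : Q := act 1 n110909
theorem D199074 : act 1 n110909 = n199074 := rfl
theorem F410544 : act 1 n199074 = n111757 := d15_1 D199074 F173442 (iv2 F171822)
theorem F410545 : act 7 n199074 = n111758 := d15_2 (iv0 F401097) D199074 (iv2 F401096)
theorem F410546 : act 4 n199074 = n123855 := d17_9 (iv1 F198317) (iv5 D57720) (iv1 D27561) D27562 D57724 D123893 (iv0 F365204) F365202 D199074
theorem F410547 : act 2 n111759 = n199074 := d1_3 F410546 (iv2 F362800) F363105
theorem F410548 : act 6 n134296 = n199074 := d10_0 F410546 F329809 D134296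
def n199075 : Q := act 7 n110909
theorem D199075 : act 7 n110909 = n199075 := rfl
theorem F410549 : act 2 n199075 = n111757 := d4_1 D199075 F173442 (iv2 F171822)
theorem F410550 : act 3 n199075 = n196437 := d8_1 D199075 (iv7 D196437) (iv3 F365201)
theorem F410551 : act 4 n199075 = n110912 := d11_1 D199075 (iv7 D110912) (iv4 F171823)
theorem F410552 : act 5 n199075 = n196430 := d13_1 D199075 (iv7 D196430) F365202
theorem F410553 : act 6 n199075 = n111358 := d14_1 D199075 (iv7 D111358) (iv6 D51357) (iv7 F80671) D110909
theorem F410554 : act 1 n111759 = n199075 := d15_1 D111759 (iv7 D199075) F171822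
theorem F410555 : act 1 n199075 = n111758 := d15_1 F410554 (iv7 F410545) (iv2 F410547)
def n199076 : Q := act 3 n110910
theorem D199076 : act 3 n110910 = n199076 := rfl
def n199077 : Q := act 4 n110910
theorem D199077 : act 4 n110910 = n199077 := rfl
def n199078 : Q := act 5 n110910
theorem D199078 : act 5 n110910 = n199078 := rfl
theorem F410556 : act 2 n199078 = n134352 := d2_1 D199078 (iv5 F410221) F410225
theorem F410557 : act 7 n199078 = n134050 := d13_2 F410227 D199078 (iv5 F410228)
theorem F410558 : act 4 n199078 = n138633 := d17_4 (iv1 F354941) F171649 D110910 D199078 (iv5 F391071) (iv0 F391074) (iv5 D134443) (iv0 F350263) (iv4 F255576)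
theorem F410559 : act 0 n199078 = n134350 := d18_0 (iv4 F374108) (iv1 F374111) F172404 (iv5 F329808) (iv4 F410546) F410544 (iv4 F410232) F410236 D199078
theorem F410560 : act 0 n134349 = n199078 := d21_10 (iv5 D199078) (iv1 F410236) F410233 (iv6 F391330) (iv1 D193899) F157409 (iv5 D47536) D47534 (iv5 F335628) (iv6 F364410)
theorem F410561 : act 6 n134326 = n199078 := d10_0 F410558 F329908 (iv4 F329907)
def n199079 : Q := act 6 n110910
theorem D199079 : act 6 n110910 = n199079 := rfl
theorem F410562 : act 2 n199079 = n124157 := d3_1 D199079 (iv6 F410224) F410225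
theorem F410563 : act 0 n199079 = n123176 := d21_4 F386339 F410560 (iv5 D199078) D199079 (iv6 D123176) (iv5 D57321) (iv1 F91190) D77607 (iv6 F255574) F386340
theorem F410564 : act 1 n199079 = n124159 := d15_1 (iv0 F410563) (iv7 D124159) (iv2 F197410)
theorem F410565 : act 7 n124156 = n199079 := d15_2 F409321 F409322 F410562
def n199080 : Q := act 3 n110911
theorem D199080 : act 3 n110911 = n199080 := rfl
theorem F410566 : act 5 n199080 = n134344 := d6_2 (iv5 F357705) D199080 F216347
theorem F410567 : act 6 n199080 = n134347 := d7_2 (iv6 F357706) D199080 F216348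
theorem F410568 : act 2 n192743 = n199080 := d3_3 F410567 F354686 D192743
theorem F410569 : act 0 n199080 = n192761 := d21_4 F154544 F377961 D134347 (iv6 F410567) (iv6 D192761) (iv5 F350405) (iv1 F171779) D141133 (iv6 F383939) F383941
def n199081 : Q := act 4 n110911
theorem D199081 : act 4 n110911 = n199081 := rfl
theorem F410570 : act 6 n199081 = n134354 := d10_2 (iv6 F357706) D199081 (iv4 D134354)
theorem F410571 : act 0 n199081 = n111411 := d18_2 (iv1 F410235) D199081 F172894 F98216 (iv4 F98424) (iv0 F350263) (iv4 F255576) F255580 (iv5 F410233)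
def n199082 : Q := act 0 n110913
theorem D199082 : act 0 n110913 = n199082 := rfl
theorem F410572 : act 5 n199082 = n135921 := d21_0 (iv1 D135921) D135922 F350345 (iv1 D141143) (iv6 D66202) (iv5 D30942) (iv1 F39022) (iv5 F80674) D110913 D199082
theorem F410573 : act 1 n111746 = n199082 := d15_0 (iv0 D199082) F332962 F332963
def n199083 : Q := act 1 n110913
theorem D199083 : act 1 n110913 = n199083 := rfl
theorem F410574 : act 1 n199083 = n111746 := d15_1 D199083 (iv7 D111746) (iv2 F171824)
theorem F410575 : act 5 n135920 = n199083 := d21_0 (iv1 D199083) F332961 F211757 (iv1 F360370) (iv6 D136789) (iv5 F350332) (iv1 F204273) (iv5 D64036) (iv6 F99402) D135920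
theorem F410576 : act 6 n111715 = n199083 := d21_3 (iv5 F367475) (iv1 F409081) F409079 (iv1 D199083) (iv6 D110913) F80674 (iv1 F39021) D25949 D53586 D116262
theorem F410577 : act 2 n199083 = n111744 := d3_1 F410576 (iv6 F341519) (iv2 F409082)
theorem E103761 : n135920 = n135910 := ((c2_4 F410575 F410577 F332958 D135910)).symm
theorem F410578 : act 0 n135910 = n63912 := (sb E103761 (iv1 F218636))
theorem F410579 : act 1 n135910 = n63910 := (sb E103761 (iv0 D135920))
theorem F410580 : act 5 n135910 = n199083 := (sb E103761 F410575)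
theorem F410581 : act 7 n111743 = n199083 := d15_2 F332957 (iv0 F357721) F410577
theorem F410582 : act 7 n199082 = n111744 := d15_2 F410574 F410573 (iv2 F410577)
theorem F410583 : act 2 n111743 = n199082 := d4_3 F410582 (iv2 F410577) (iv7 F410581)
theorem E103762 : n135921 = n135915 := ((c13_3 F410582 F332958 D135915 (iv5 F410572))).symm
theorem F410584 : act 0 n135915 = n63910 := (sb E103762 (iv1 D135921))
theorem F410585 : act 1 n135915 = n63912 := (sb E103762 F218637)
theorem F410586 : act 5 n135915 = n199082 := (sb E103762 (iv5 F410572))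
def n199084 : Q := act 0 n110917
theorem D199084 : act 0 n110917 = n199084 := rfl
theorem F410587 : act 5 n199084 = n197854 := d17_3 D51144 D110917 D199084 F406036 (iv5 F343872) F343870 (iv5 D67394) (iv0 F101319) F80678
theorem F410588 : act 4 n199084 = n143882 := d18_1 D199084 (iv1 F226513) F222599 F101142 F171828 F171826 F100870 F98294 D110917
theorem F410589 : act 3 n199084 = n154073 := d20_5 (iv4 F219982) (iv1 F403273) (iv4 D197148) (iv3 F171833) D199084 (iv4 D154073) F327137 (iv4 D136256) (iv3 F219283) F219285
theorem F410590 : act 6 n199084 = n134019 := d21_5 D110861 (iv1 F227003) (iv5 F227017) F227019 D199084 (iv5 F215963) (iv1 F171776) F171773 (iv6 F171613) (iv1 F171614)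
theorem F410591 : act 2 n134091 = n199084 := d15_3 (iv0 D199084) (iv0 F171834) (iv7 F216118)
theorem F410592 : act 1 n110920 = n199084 := d15_0 (iv0 D199084) (iv7 F204315) F204312
theorem F410593 : act 7 n199084 = n197854 := d15_2 (iv0 F171933) F410592 F406034
def n199085 : Q := act 4 n110917
theorem D199085 : act 4 n110917 = n199085 := rfl
theorem F410594 : act 2 n199085 = n139608 := d1_1 D199085 (iv4 F410244) F410238
theorem F410595 : act 3 n199085 = n193132 := d5_1 D199085 (iv4 F388852) F403274 (iv4 D197148) (iv3 F171833)
theorem F410596 : act 6 n199085 = n138279 := d10_2 F227019 D199085 (iv4 F227018)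
theorem F410597 : act 7 n199085 = n139381 := d11_2 F204315 D199085 F222590
theorem F410598 : act 5 n199085 = n139306 := d17_5 (iv1 D51145) F39024 D51144 D110917 D199085 (iv0 D139306) (iv5 D65381) D65380 (iv4 F170585)
theorem F410599 : act 0 n199085 = n138336 := d18_2 F171834 D199085 F221540 F100777 (iv4 F101198) (iv0 F226510) F222590 (iv0 F216119) F216117
theorem F410600 : act 1 n199085 = n139350 := d18_6 F168208 (iv4 F49115) D65379 (iv4 F168334) D110917 D199085 F222565 (iv0 F168219) (iv5 D53840)
def n199086 : Q := act 4 n110922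
theorem D199086 : act 4 n110922 = n199086 := rfl
theorem F410601 : act 3 n199086 = n112225 := d5_1 D199086 F174522 (iv3 F397073) (iv4 F409356) F409353
theorem F410602 : act 5 n199086 = n181905 := d17_5 (iv1 D107007) D107009 D196464 F409341 D199086 (iv0 D181905) (iv5 F294255) D103881 (iv4 F393363)
theorem F410603 : act 6 n112223 = n199086 := d12_0 F410602 F377486 F377482 (iv6 D112224) D112223
def n199087 : Q := act 6 n110922
theorem D199087 : act 6 n110922 = n199087 := rfl
theorem F410604 : act 3 n199087 = n195468 := d7_1 D199087 F409357 F409353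
theorem F410605 : act 4 n199087 = n112223 := d10_1 D199087 F410603 (iv4 D199086)
theorem F410606 : act 7 n199087 = n196971 := d14_2 (iv7 F409339) D199087 (iv6 D196971) (iv7 F402476) (iv6 F409335)
def n199088 : Q := act 3 n110923
theorem D199088 : act 3 n110923 = n199088 := rfl
theorem F410607 : act 6 n199088 = n196972 := d7_2 F400760 D199088 (iv3 D196972)
def n199089 : Q := act 0 n110925
theorem D199089 : act 0 n110925 = n199089 := rfl
theorem F410608 : act 5 n199089 = n110933 := d17_1 D199089 (iv1 F295620) D194569 F393711 (iv5 D128675) D128673 F358266 F207302 F206926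
theorem F410609 : act 3 n199089 = n157877 := d20_5 (iv4 F78175) (iv1 F79049) (iv4 F80681) (iv3 F171937) D199089 (iv4 F326648) F326644 (iv4 F337378) F164871 F78150
theorem F410610 : act 1 n129033 = n199089 := d15_0 (iv0 D199089) F171938 (iv2 F207273)
theorem F410611 : act 7 n196460 = n199089 := d8_0 F410609 (iv7 F301039) (iv3 F400747)
theorem F410612 : act 2 n199089 = n196462 := d15_3 F400754 (iv0 F400749) F410611
def n199090 : Q := act 1 n110925
theorem D199090 : act 1 n110925 = n199090 := rfl
theorem F410613 : act 1 n199090 = n129033 := d15_1 D199090 (iv7 F207276) F206927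
theorem F410614 : act 7 n199090 = n196462 := d15_2 (iv0 D199089) D199090 (iv2 F410612)
theorem F410615 : act 5 n199090 = n110934 := d17_7 D103794 D194571 F393719 F163777 F82326 D110925 D199090 (iv0 F295619) F159227
theorem F410616 : act 2 n196460 = n199090 := d2_3 F410615 F366906 D196460
theorem F410617 : act 6 n142806 = n199090 := d12_0 F410615 F366907 F166927 D66938 D142806
def n199091 : Q := act 6 n110925
theorem D199091 : act 6 n110925 = n199091 := rfl
theorem F410618 : act 3 n199091 = n110927 := d7_1 D199091 (iv6 D110927) (iv3 F171937)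
theorem F410619 : act 0 n199091 = n157869 := d20_4 F404429 (iv1 D197459) (iv4 F171941) (iv3 F410618) (iv3 D157869) F112759 (iv1 F56216) (iv4 F60676) D86155 D180390
def n199092 : Q := act 0 n110927
theorem D199092 : act 0 n110927 = n199092 := rfl
theorem F410620 : act 4 n199092 = n164010 := d20_2 (iv4 F171941) D199092 (iv3 D164010) (iv1 F258470) F280697 F330794 F362638 (iv4 F406237) F406238 (iv1 D197459)
theorem F410621 : act 3 n157952 = n199092 := d5_5 F410620 (iv3 D164010) (iv4 D78796) D78795 (iv4 F248847)
theorem F410622 : act 6 n197858 = n199092 := d10_0 F410620 F345343 D197858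
theorem F410623 : act 7 n157165 = n199092 := d11_0 F410620 (iv7 F281218) (iv4 F380718)
theorem F410624 : act 0 n199092 = n157167 := d20_1 (iv4 F410620) (iv4 F400827) F400826 (iv1 D163950) (iv3 D78765) F56525 (iv1 F56237) (iv4 F87612) (iv3 F337391) F337390
theorem F410625 : act 2 n199092 = n157164 := d15_3 (iv0 D157164) D157165 F410623
theorem F410626 : act 3 n157164 = n180382 := d0_2 F410621 F410625 (iv2 F280826) (iv3 F280822) F280821
def n199093 : Q := act 1 n110927
theorem D199093 : act 1 n110927 = n199093 := rfl
theorem F410627 : act 1 n199093 = n157167 := d15_1 D199093 (iv7 D157167) (iv2 F171940)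
theorem F410628 : act 7 n199093 = n157164 := d15_2 (iv0 D199092) D199093 (iv2 F410625)
theorem F410629 : act 4 n196420 = n199093 := d20_0 (iv1 D199093) F171941 F354395 (iv1 D108773) F79573 F38451 D24495 D50230 D108797 (iv1 F400641)
theorem F410630 : act 2 n199093 = n157165 := d1_1 F410629 F380718 F400642
theorem F410631 : act 3 n199093 = n157888 := d20_3 F172915 (iv1 F400641) F410629 (iv1 F280711) F280709 (iv4 F256391) F302618 D164028 F304021 (iv1 F327450)
def n199094 : Q := act 5 n110927
theorem D199094 : act 5 n110927 = n199094 := rfl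
theorem F410632 : act 2 n199094 = n157166 := d2_1 D199094 (iv5 D157166) (iv2 F171940)
theorem F410633 : act 6 n199094 = n110930 := d12_2 D110927 D199094 (iv5 D110930) (iv6 D51148) D51147
theorem F410634 : act 4 n199094 = n127814 := d18_5 D180390 F404429 (iv1 D197459) (iv4 F171941) D199094 (iv0 D127814) (iv4 F178588) (iv0 F370803) (iv5 D180393)
theorem F410635 : act 0 n127820 = n199094 := d21_4 F164448 (iv1 D71281) F94508 D127820 F410633 (iv5 D110930) D110928 (iv5 F172240) F339965 (iv1 F164451)
def n199095 : Q := act 7 n110927
theorem D199095 : act 7 n110927 = n199095 := rfl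
theorem F410636 : act 2 n199095 = n157167 := d4_1 D199095 (iv7 D157167) (iv2 F171940)
theorem F410637 : act 4 n199095 = n197461 := d11_1 D199095 (iv7 D197461) (iv4 F171941)
theorem F410638 : act 6 n199095 = n196493 := d14_1 D199095 (iv7 D196493) (iv6 D107035) (iv7 F80680) D110927
theorem F410639 : act 1 n157165 = n199095 := d15_1 D157165 (iv7 D199095) F171940
theorem F410640 : act 1 n199095 = n157164 := d15_1 F410639 (iv7 F410628) F410630
def n199096 : Q := act 3 n110928
theorem D199096 : act 3 n110928 = n199096 := rfl
theorem F410641 : act 4 n199096 = n156338 := d5_2 (iv4 F171942) D199096 (iv3 D156338) (iv4 D74362) F111338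
theorem F410642 : act 5 n199096 = n191955 := d6_2 F172240 D199096 F384986
theorem F410643 : act 6 n199096 = n110982 := d7_2 F171944 D199096 (iv3 D110982)
theorem F410644 : act 7 n199096 = n157169 := d8_2 F171945 D199096 (iv3 D157169)
theorem F410645 : act 2 n199096 = n192720 := d15_3 F389350 (iv0 F389339) (iv7 F410644)
def n199097 : Q := act 3 n110929
theorem D199097 : act 3 n110929 = n199097 := rfl
theorem F410646 : act 4 n199097 = n176110 := d5_2 (iv4 F171949) D199097 (iv3 F345591) (iv4 F166257) (iv3 F163571)
theorem F410647 : act 7 n199097 = n157168 := d8_2 (iv7 F171948) D199097 (iv3 D157168)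
def n199098 : Q := act 7 n110930
theorem D199098 : act 7 n110930 = n199098 := rfl
theorem F410648 : act 2 n199098 = n157172 := d4_1 D199098 (iv7 D157172) (iv2 F171951)
theorem F410649 : act 5 n199098 = n110931 := d13_1 D199098 (iv7 D110931) D110930
theorem F410650 : act 1 n111047 = n199098 := d15_1 (iv0 F172233) (iv7 D199098) F171951
theorem F410651 : act 1 n199098 = n111044 := d15_1 F410650 F172220 (iv2 F172231)
def n199099 : Q := act 3 n110933
theorem D199099 : act 3 n110933 = n199099 := rfl
theorem F410652 : act 5 n199099 = n157877 := d6_2 F410608 D199099 (iv3 F410609)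
theorem F410653 : act 7 n199099 = n196459 := d8_2 F366910 D199099 (iv3 D196459)
theorem F410654 : act 4 n199099 = n136782 := d20_6 (iv4 D11815) D11813 D24892 D51152 D110933 D199099 (iv1 D136782) F100142 (iv3 D49428) F37807
theorem F410655 : act 2 n197364 = n199099 := d1_3 F410654 (iv2 F397087) D197364
theorem F410656 : act 1 n195888 = n199099 := d17_8 (iv1 D136782) F220005 (iv1 F220006) (iv5 F344467) (iv4 F409349) (iv5 D198809) (iv0 F362593) (iv5 F398628) F410654
def n199100 : Q := act 3 n110934
theorem D199100 : act 3 n110934 = n199100 := rfl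
theorem F410657 : act 4 n199100 = n136606 := d5_2 F393357 D199100 F386012 F386009 F393360
theorem F410658 : act 6 n199100 = n111019 := d7_2 (iv6 F366907) D199100 (iv3 D111019)
theorem F410659 : act 7 n199100 = n196461 := d8_2 (iv7 F366908) D199100 (iv3 D196461)
theorem F410660 : act 0 n199100 = n196470 := d20_10 (iv4 F400781) (iv1 F219575) F219573 F201850 (iv1 F171998) D110951 (iv4 F368599) D194474 F393357 D199100
theorem F410661 : act 0 n196473 = n199100 := d20_4 F246676 (iv1 F387491) (iv4 F387495) (iv3 F400776) (iv3 D199100) (iv4 F393357) (iv1 F393369) (iv4 F393879) F393878 F246679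
theorem F410662 : act 2 n196785 = n199100 := d3_3 F410658 F220499 D196785
def n199101 : Q := act 5 n110935
theorem D199101 : act 5 n110935 = n199101 := rfl
theorem F410663 : act 2 n199101 = n110936 := d2_1 D199101 (iv5 D110936) D110935
theorem F410664 : act 3 n199101 = n111505 := d6_1 D199101 F348793 (iv3 F171966)
theorem F410665 : act 4 n199101 = n128934 := d9_1 D199101 F207157 F206816 (iv5 F295474) F150119 (iv5 F295476) F80745 D107009 F343553 F348757 (iv4 F211172) F348756 (iv4 F348728) (iv5 F348758) F295628
theorem F410666 : act 7 n199101 = n194569 := d13_2 F295623 D199101 (iv5 D194569)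
theorem F410667 : act 0 n199101 = n196465 := d17_2 (iv1 F171968) D199101 F400759 (iv4 F390586) F390585 F370086 (iv5 F393372) F393375 F357666
theorem F410668 : act 1 n199101 = n196464 := d17_6 D112842 F355504 F293086 (iv5 F348758) F295628 D199101 F409341 (iv0 D110922) (iv4 F82326)
theorem F410669 : act 6 n111502 = n199101 := d21_9 F400759 (iv1 D110923) D110925 D199091 F410619 (iv6 F409185) F409184 (iv1 D197915) (iv5 F173037) F410667
def n199102 : Q := act 6 n110935
theorem D199102 : act 6 n110935 = n199102 := rfl
theorem F410670 : act 2 n199102 = n110937 := d3_1 D199102 (iv6 D110937) D110935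
theorem F410671 : act 3 n199102 = n153717 := d7_1 D199102 F316139 (iv3 F171966)
theorem F410672 : act 4 n199102 = n194465 := d10_1 D199102 F393325 F295628
theorem F410673 : act 5 n199102 = n197916 := d12_1 D199102 (iv6 D197916) (iv5 F173037) F410669 (iv5 D199101)
theorem F410674 : act 7 n199102 = n153712 := d14_2 F295623 D199102 (iv6 D153712) F324323 D103793
theorem F410675 : act 0 n199102 = n194578 := d21_4 (iv5 F409341) (iv1 F410668) (iv5 D199101) D199102 F393745 D196774 F401751 (iv5 D194548) F337155 D110922
theorem F410676 : act 0 n197916 = n196962 := d21_7 F37961 D49568 F172098 (iv6 F366087) (iv1 F171968) D199102 F410673 (iv5 D196962) (iv6 D107499) (iv1 D49658)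
theorem F410677 : act 0 n194577 = n199102 := d17_0 F410673 F410676 (iv5 D196962) (iv4 F402451) F402452 F394966 F393954 F393380 (iv4 F393931)
def n199103 : Q := act 1 n110936
theorem D199103 : act 1 n110936 = n199103 := rfl
theorem F410678 : act 1 n199103 = n194569 := d15_1 D199103 (iv7 F410666) F410663
theorem F410679 : act 7 n199103 = n196465 := d15_2 (iv0 F409333) D199103 (iv2 F409337)
theorem F410680 : act 5 n199103 = n125476 := d17_7 (iv1 F175922) F358269 (iv1 F293089) F295479 F82341 D110936 D199103 F201791 (iv4 F175711)
theorem F410681 : act 2 n196464 = n199103 := d2_3 F410680 F409340 (iv5 F409341)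
theorem F410682 : act 4 n196081 = n199103 := d18_5 (iv1 D60496) F46350 D49271 D106631 D196081 F410678 F393711 (iv0 F358316) (iv5 D128634)
def n199104 : Q := act 5 n110937
theorem D199104 : act 5 n110937 = n199104 := rfl
theorem F410683 : act 2 n199104 = n197916 := d2_1 D199104 (iv5 F410673) F410670
theorem F410684 : act 3 n199104 = n110941 := d6_1 D199104 (iv5 D110941) (iv3 F171973)
theorem F410685 : act 6 n199104 = n197906 := d12_2 D110937 D199104 F406168 (iv6 F343552) (iv5 D110936)
theorem F410686 : act 7 n199104 = n194579 := d13_2 F362348 D199104 (iv5 D194579)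
theorem F410687 : act 4 n197907 = n199104 := d10_3 F410685 (iv4 D197906) D197907
def n199105 : Q := act 5 n110938
theorem D199105 : act 5 n110938 = n199105 := rfl
theorem F410688 : act 2 n199105 = n196457 := d2_1 D199105 (iv5 D196457) (iv2 F171974)
theorem F410689 : act 3 n199105 = n197906 := d6_1 D199105 F406168 (iv3 F361199)
theorem F410690 : act 6 n199105 = n110941 := d12_2 D110938 D199105 (iv5 D110941) (iv6 D51154) D51153
def n199106 : Q := act 3 n110939
theorem D199106 : act 3 n110939 = n199106 := rfl
theorem F410691 : act 4 n199106 = n156598 := d5_2 (iv4 F171976) D199106 (iv3 D156598) (iv4 D74462) D74461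
theorem F410692 : act 6 n199106 = n111046 := d7_2 F171978 D199106 (iv3 D111046)
theorem F410693 : act 7 n199106 = n188885 := d8_2 F171979 D199106 F375141
theorem F410694 : act 5 n188886 = n199106 := d13_3 F410693 (iv5 D188885) D188886
theorem F410695 : act 2 n199106 = n196476 := d15_3 (iv0 D196476) (iv0 F400785) (iv7 F410693)
theorem E103763 : n196821 = n196476 := ((c1_2 (iv4 F410691) F410695 F404888 (iv2 F404886))).symm
theorem F410696 : act 4 n196476 = n197575 := (sb E103763 F404888)
theorem F410697 : act 6 n196476 = n107357 := (sb E103763 (iv6 D196821))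
theorem F410698 : act 0 n178156 = n199106 := d20_7 (iv4 F336729) (iv1 F216790) F216792 F360030 (iv1 D84804) (iv3 F130008) D178156 F410691 (iv3 D156598) F336728
def n199107 : Q := act 5 n110939
theorem D199107 : act 5 n110939 = n199107 := rfl
theorem F410699 : act 2 n199107 = n196439 := d2_1 D199107 (iv5 D196439) F171977
theorem F410700 : act 3 n199107 = n188886 := d6_1 D199107 F410694 (iv3 D199106)
theorem F410701 : act 7 n199107 = n188882 := d13_2 F171979 D199107 (iv5 F375140)
theorem F410702 : act 0 n199107 = n196544 := d17_2 D110939 D199107 (iv5 D196544) F165026 (iv5 F93340) (iv0 F171994) (iv5 D110943) (iv0 D51155) (iv4 F80700)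
theorem F410703 : act 1 n199107 = n196542 := d17_6 D49458 D107067 F246277 (iv5 D156597) (iv4 F171976) D199107 (iv5 D196542) (iv0 D107060) F78209
def n199108 : Q := act 3 n110940
theorem D199108 : act 3 n110940 = n199108 := rfl
theorem F410704 : act 4 n199108 = n175000 := d5_2 (iv4 F171983) D199108 (iv3 F361996) F175457 (iv3 F164898)
theorem F410705 : act 6 n199108 = n174500 := d7_2 F228440 D199108 F343943
theorem F410706 : act 7 n199108 = n196438 := d8_2 (iv7 F171982) D199108 (iv3 D196438)
theorem F410707 : act 5 n188820 = n199108 := d12_5 F410705 (iv5 F362759) F374998 (iv5 D188819) D188820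
def n199109 : Q := act 5 n110940
theorem D199109 : act 5 n110940 = n199109 := rfl
theorem F410708 : act 2 n199109 = n188882 := d2_1 D199109 (iv5 F375140) F171984
theorem F410709 : act 3 n199109 = n188820 := d6_1 D199109 F410707 (iv3 D199108)
theorem F410710 : act 6 n199109 = n188818 := d12_2 F228440 D199109 F374991 F364960 D145408
theorem F410711 : act 7 n199109 = n196439 := d13_2 (iv7 F171982) D199109 (iv5 D196439)
theorem F410712 : act 0 n199109 = n196542 := d17_2 (iv1 F171981) D199109 (iv5 D196542) F165030 D107435 (iv0 F165737) F93171 F80701 (iv4 F164946)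
theorem F410713 : act 1 n199109 = n196544 := d17_6 (iv1 F82130) (iv5 F161157) F163605 F163603 (iv4 F171983) D199109 (iv5 D196544) F165025 F104301
def n199110 : Q := act 4 n110941
theorem D199110 : act 4 n110941 = n199110 := rfl
theorem F410714 : act 2 n199110 = n196458 := d1_1 D199110 (iv4 D196458) (iv2 F171985)
theorem F410715 : act 5 n199110 = n198931 := d16_1 D199110 (iv4 D198931) (iv5 D110729) (iv4 D51047) (iv5 F78636) (iv4 F164946) (iv5 F228399) (iv7 F228400) (iv2 F171985)
theorem F410716 : act 0 n199110 = n145323 := d18_2 (iv1 F401039) D199110 (iv4 D145323) (iv5 D68135) F50030 D31723 D68137 F165039 (iv5 F401038)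
def n199111 : Q := act 3 n110945
theorem D199111 : act 3 n110945 = n199111 := rfl
theorem F410717 : act 2 n199111 = n194631 := d0_1 D199111 F393878 (iv2 F357645) (iv3 D110946) D110945
theorem F410718 : act 4 n199111 = n194476 := d5_2 (iv4 F357636) D199111 F393371 (iv4 D111170) D111169
theorem F410719 : act 7 n199111 = n110951 := d8_2 F171999 D199111 (iv3 D110951)
theorem F410720 : act 0 n199111 = n194572 := d20_10 (iv4 D194572) (iv1 D103795) (iv4 F159227) F295622 (iv1 F111976) D156795 F246725 F246518 (iv4 F357636) D199111
theorem F410721 : act 1 n199111 = n142746 := d15_1 (iv0 F410720) (iv7 F400654) (iv2 F400656)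
theorem F410722 : act 6 n194644 = n199111 := d14_5 F410719 F368597 F159003 D103910 D194644
def n199112 : Q := act 5 n110945
theorem D199112 : act 5 n110945 = n199112 := rfl
theorem F410723 : act 2 n199112 = n110948 := d2_1 D199112 (iv5 D110948) D110945
theorem F410724 : act 7 n199112 = n110953 := d13_2 F171999 D199112 (iv5 D110953)
theorem F410725 : act 4 n199112 = n164556 := d16_2 (iv4 F357636) D199112 (iv5 D164556) (iv4 F234128) (iv5 F352635) F352631 D186947 F368622 (iv2 F357637)
theorem F410726 : act 0 n199112 = n196394 := d17_2 (iv1 F357635) D199112 (iv5 D196394) F164824 (iv5 F329492) (iv0 F345982) (iv5 F338248) F246456 F171646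
def n199113 : Q := act 6 n110945
theorem D199113 : act 6 n110945 = n199113 := rfl
theorem F410727 : act 2 n199113 = n110949 := d3_1 D199113 (iv6 D110949) D110945
theorem F410728 : act 3 n199113 = n194644 := d7_1 D199113 F410722 (iv3 D199111)
theorem F410729 : act 7 n199113 = n194642 := d14_2 F171999 D199113 (iv6 D194642) F368596 (iv6 D110954)
theorem F410730 : act 1 n110949 = n196433 := d15_0 (iv0 F400665) (iv7 F410729) F410727
theorem F410731 : act 0 n199113 = n197150 := d20_4 F393931 (iv1 F393380) (iv4 F393926) (iv3 F410728) (iv3 D197150) (iv4 D107759) (iv1 F80706) (iv4 F171988) F362346 D194577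
def n199114 : Q := act 6 n110946
theorem D199114 : act 6 n110946 = n199114 := rfl
theorem F410732 : act 2 n199114 = n197574 := d3_1 D199114 (iv6 D197574) (iv2 F357645)
theorem F410733 : act 3 n199114 = n110949 := d7_1 D199114 (iv6 D110949) D110946
theorem F410734 : act 4 n199114 = n197572 := d10_1 D199114 (iv6 D197572) F357644
theorem F410735 : act 0 n197572 = n156598 := d20_7 F164946 (iv1 F80701) (iv4 F164891) D196433 (iv1 F410730) (iv3 F410733) F410734 (iv4 F410691) (iv3 D199106) (iv1 F171980)
def n199115 : Q := act 1 n110947
theorem D199115 : act 1 n110947 = n199115 := rfl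
theorem F410736 : act 1 n199115 = n110952 := d15_1 D199115 F357633 F357637
theorem F410737 : act 7 n199115 = n164570 := d15_2 F338226 D199115 (iv2 F329016)
theorem F410738 : act 5 n199115 = n164571 := d17_7 (iv1 F410270) F410268 (iv1 F234140) (iv5 F308809) (iv4 F368625) F368626 D199115 F259429 F259430
theorem F410739 : act 3 n111225 = n199115 := d19_19 (iv1 D199115) (iv5 F368626) F368625 (iv3 D95890) (iv1 D44768) (iv5 F297811) F61053 (iv3 F61726) (iv1 F232488) D58506 (iv4 F343114) F169167 (iv1 F364226) D197732 F405564 (iv3 D178649) (iv1 F274391) (iv5 F274392) (iv4 F320585)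
theorem F410740 : act 2 n199115 = n156718 := d0_1 F410739 (iv3 D156718) F212029 (iv3 F172410) F212026
theorem F410741 : act 6 n199115 = n111064 := d7_2 (iv6 F351553) F410739 F181261
def n199116 : Q := act 6 n110947
theorem D199116 : act 6 n110947 = n199116 := rfl
theorem F410742 : act 3 n199116 = n189049 := d7_1 D199116 F375585 F368663
theorem F410743 : act 4 n199116 = n110949 := d10_1 D199116 (iv6 D110949) D110947
theorem F410744 : act 7 n199116 = n189047 := d14_2 F368622 D199116 (iv6 D189047) F293429 (iv6 F368618)
def n199117 : Q := act 0 n110948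
theorem D199117 : act 0 n110948 = n199117 := rfl
theorem F410745 : act 5 n199117 = n196393 := d17_1 D199117 (iv1 F400568) (iv5 F400841) F400842 F342065 F342055 (iv5 F389730) F389733 (iv4 F210773)
theorem F410746 : act 4 n199117 = n158972 := d18_1 D199117 (iv1 F259407) (iv4 F405592) (iv5 F410263) (iv4 D199001) (iv0 F338242) F338246 (iv0 D110944) D110948
theorem F410747 : act 2 n196394 = n199117 := d15_3 (iv0 D199117) (iv0 F358648) (iv7 F400570)
theorem F410748 : act 6 n199117 = n175124 := d3_2 F400572 F410747 F353915
theorem F410749 : act 1 n110953 = n199117 := d17_8 (iv1 F259407) (iv5 D164564) F155359 D83175 F333005 (iv5 D51161) D51159 D110953 F410746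
def n199118 : Q := act 6 n110948
theorem D199118 : act 6 n110948 = n199118 := rfl
theorem F410750 : act 3 n199118 = n198793 := d7_1 D199118 (iv6 F409263) F333022
theorem F410751 : act 4 n199118 = n197205 := d10_1 D199118 (iv6 F403519) (iv4 F210773)
theorem F410752 : act 1 n160571 = n199118 := d18_6 (iv1 F321006) F321008 (iv1 F108286) D71932 F336472 (iv4 F253653) F410751 (iv0 D197205) F347796
def n199119 : Q := act 7 n110948
theorem D199119 : act 7 n110948 = n199119 := rfl
theorem F410753 : act 2 n199119 = n110953 := d4_1 D199119 (iv7 F410724) F410723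
theorem F410754 : act 3 n199119 = n192639 := d8_1 D199119 F387312 F333022
theorem F410755 : act 4 n199119 = n164559 := d11_1 D199119 (iv7 F314759) (iv4 F210773)
theorem F410756 : act 5 n199119 = n110950 := d13_1 D199119 (iv7 D110950) D110948
theorem F410757 : act 0 n196394 = n199119 := d17_0 F410756 F357638 D110957 F333003 (iv5 D72003) (iv0 F155403) D120603 F339243 (iv4 F400571)
def n199120 : Q := act 0 n110949
theorem D199120 : act 0 n110949 = n199120 := rfl
theorem F410758 : act 2 n197150 = n199120 := d15_3 (iv0 D199120) F410730 (iv7 F403280)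
theorem F410759 : act 6 n199120 = n111089 := d3_2 (iv6 F403279) F410758 (iv2 F401627)
def n199121 : Q := act 5 n110949
theorem D199121 : act 5 n110949 = n199121 := rfl
theorem F410760 : act 4 n199121 = n189113 := d19_2 (iv1 F410730) D199121 (iv3 D189113) F295355 (iv5 F286691) (iv4 F356654) F206313 F301021 (iv5 D38835) (iv4 D18456) (iv3 F296571) F296570 (iv5 F324840) F81795 (iv3 F100160) F93341 F93171 (iv4 F164891) D196433
def n199122 : Q := act 7 n110949
theorem D199122 : act 7 n110949 = n199122 := rfl
theorem F410761 : act 2 n199122 = n194642 := d4_1 D199122 (iv7 F410729) F410727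
theorem F410762 : act 4 n199122 = n189047 := d11_1 D199122 (iv7 F410744) F410743
theorem F410763 : act 6 n199122 = n189046 := d14_1 D199122 F375581 F368635 (iv7 D110950) D110949
theorem F410764 : act 1 n194642 = n199120 := d15_0 (iv0 D199120) D199122 F410761
theorem F410765 : act 1 n199122 = n197150 := d15_0 (iv0 F410731) F410729 (iv2 F410761)
def n199123 : Q := act 0 n110951
theorem D199123 : act 0 n110951 = n199123 := rfl
theorem F410766 : act 4 n199123 = n110998 := d20_8 F360550 (iv1 F200890) (iv4 F354246) D194399 F393052 F388002 F368599 D199123 F372115 (iv1 F372116)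
theorem F410767 : act 6 n199123 = n111079 := d21_5 (iv5 F294722) F153803 (iv5 F294324) (iv6 F368597) D199123 (iv5 F172272) F94105 D127205 F340512 F147702
theorem F410768 : act 2 n142746 = n199123 := d15_3 (iv0 D199123) F400657 F400654
theorem F410769 : act 1 n194631 = n199123 := d15_0 (iv0 D199123) (iv7 F410719) F410717
theorem F410770 : act 7 n199123 = n194572 := d15_2 (iv0 F400658) F410769 F400656
def n199124 : Q := act 1 n110954
theorem D199124 : act 1 n110954 = n199124 := rfl
theorem F410771 : act 1 n199124 = n189046 := d15_1 D199124 F375581 F368634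
theorem F410772 : act 7 n199124 = n192977 := d15_2 F368594 D199124 F388410
theorem F410773 : act 4 n199124 = n183973 := d17_9 (iv1 F362694) (iv5 D103335) D103332 F335546 (iv4 F165068) D196576 (iv0 F401124) (iv5 F368595) D199124
theorem F410774 : act 2 n192285 = n199124 := d1_3 F410773 F285852 D192285
theorem F410775 : act 6 n111074 = n199124 := d10_0 F410773 (iv6 F357359) (iv4 F386813)
def n199125 : Q := act 3 n110959
theorem D199125 : act 3 n110959 = n199125 := rfl
def n199126 : Q := act 0 n110962
theorem D199126 : act 0 n110962 = n199126 := rfl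
theorem F410776 : act 5 n199126 = n198223 := d17_3 (iv1 D198675) F361575 D199126 (iv4 F407267) (iv5 D109752) F169743 D136292 F220410 F408831
theorem F410777 : act 3 n199126 = n198225 := d20_5 F163980 (iv1 F100217) (iv4 F80711) (iv3 F172008) D199126 F407273 (iv1 D196358) F164788 F78347 D49607
theorem F410778 : act 4 n199126 = n138270 := d20_8 (iv4 F390053) F400548 F400545 (iv3 D139309) F168212 (iv3 F338259) F338260 D199126 (iv3 F357625) D193493
theorem F410779 : act 6 n199126 = n193485 := d21_5 (iv5 F400841) (iv1 D196495) F164974 D110962 D199126 F390020 (iv1 F388154) F402600 F402596 (iv1 F400568)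
theorem F410780 : act 1 n111052 = n199126 := d15_0 (iv0 D199126) F172009 (iv2 F172248)
theorem F410781 : act 2 n111113 = n199126 := d1_3 F410778 F221464 F361572
theorem F410782 : act 7 n111112 = n199126 := d11_0 F410778 F221465 (iv4 F361562)
def n199127 : Q := act 1 n110962
theorem D199127 : act 1 n110962 = n199127 := rfl
theorem F410783 : act 1 n199127 = n111052 := d15_1 D199127 (iv7 F361566) (iv2 F361564)
theorem F410784 : act 7 n199127 = n111113 := d15_2 (iv0 D199126) D199127 F410781
theorem F410785 : act 4 n199127 = n198678 := d17_9 F408847 (iv5 D136015) F99488 (iv5 F100432) (iv4 F220376) F408828 (iv0 D198674) F361575 D199127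
theorem F410786 : act 2 n111112 = n199127 := d1_3 F410785 F408844 (iv4 F361562)
theorem F410787 : act 5 n198682 = n199127 := d9_0 F410785 (iv5 D198678) (iv4 D109754) (iv5 D50617) D50616 D109752 F407267 (iv5 F410776) F410778 (iv5 D138270) F100733 F48906 D50621 D109756 D198682
def n199128 : Q := act 6 n110968
theorem D199128 : act 6 n110968 = n199128 := rfl
theorem F410788 : act 3 n199128 = n110971 := d7_1 D199128 (iv6 D110971) D110968
theorem F410789 : act 4 n199128 = n196595 := d10_1 D199128 (iv6 D196595) (iv4 F172016)
def n199129 : Q := act 0 n110969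
theorem D199129 : act 0 n110969 = n199129 := rfl
theorem F410790 : act 5 n199129 = n190022 := d17_1 D199129 (iv1 F378594) (iv5 F340514) (iv4 D111020) F166927 F78322 (iv5 F78438) F80713 D110969
theorem F410791 : act 4 n199129 = n145295 := d18_1 D199129 F228324 (iv4 F166902) D196938 F402366 (iv0 F348074) D195811 F398289 (iv5 F383034)
theorem F410792 : act 2 n190505 = n199129 := d15_3 (iv0 D199129) (iv0 F340459) D190505
theorem F410793 : act 1 n110974 = n199129 := d15_0 (iv0 D199129) F180729 F180726
theorem F410794 : act 7 n199129 = n188390 := d15_2 F340460 F410793 F373264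
theorem F410795 : act 3 n139357 = n199129 := d20_9 (iv4 D110974) (iv1 D51166) (iv4 F49615) (iv3 D31353) (iv1 F41243) D53921 F85043 D65410 D139357 (iv1 F410793)
theorem F410796 : act 6 n199129 = n177583 := d7_2 (iv6 F357471) F410795 (iv3 F300487)
def n199130 : Q := act 3 n110969
theorem D199130 : act 3 n110969 = n199130 := rfl
theorem F410797 : act 2 n199130 = n137078 := d0_1 D199130 (iv3 D137078) (iv2 F218673) F218664 F180730
theorem F410798 : act 4 n199130 = n196594 := d5_2 D110969 D199130 (iv3 D196594) (iv4 F172016) (iv3 D110968)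
theorem F410799 : act 7 n199130 = n196948 := d8_2 (iv7 F180729) D199130 (iv3 D196948)
theorem F410800 : act 0 n199130 = n198659 := d19_4 D49630 (iv5 F180711) D110969 D199130 (iv5 F408749) (iv4 D144087) F103400 (iv1 F95008) (iv5 D60457) F46312 F37473 (iv1 D23986) (iv5 D11242) (iv4 F8402) F8401 F9958 D5260 D11368 D24203
theorem F410801 : act 0 n196594 = n144107 := d20_7 F103434 F223610 F223609 (iv3 F340461) F340459 D199130 F410798 (iv4 D144107) D144106 F340473
theorem F410802 : act 1 n137078 = n144077 := d15_0 (iv0 F402425) (iv7 F410799) F410797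
theorem F410803 : act 1 n144497 = n137078 := d15_0 F410802 (iv7 F408748) F408745
theorem F410804 : act 4 n197432 = n137078 := d1_2 F410798 (iv2 F404266) (iv2 F410797)
def n199131 : Q := act 6 n110969
theorem D199131 : act 6 n110969 = n199131 := rfl
theorem F410805 : act 2 n199131 = n196959 := d3_1 D199131 (iv6 D196959) F180730
theorem F410806 : act 4 n199131 = n110971 := d10_1 D199131 (iv6 D110971) D110969
theorem F410807 : act 5 n199131 = n194651 := d12_1 D199131 (iv6 F393952) (iv5 D191320) D191321 (iv5 F383034)
theorem F410808 : act 2 n194651 = n194910 := d2_1 F410807 (iv5 F402452) (iv2 F410805)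
theorem F410809 : act 7 n194909 = n194651 := d15_2 F394966 F394970 F410808
theorem F410810 : act 7 n194650 = n194910 := d15_2 F394971 F394972 (iv2 F410808)
theorem F410811 : act 2 n194909 = n194650 := d4_3 F410810 (iv2 F410808) (iv7 F410809)
def n199132 : Q := act 0 n110971
theorem D199132 : act 0 n110971 = n199132 := rfl
theorem F410812 : act 6 n199132 = n198117 := d21_5 (iv5 F37927) D49630 (iv5 F180711) D110971 D199132 F406897 F401742 (iv5 D196770) (iv6 D107302) (iv1 D49577)
theorem F410813 : act 2 n196541 = n199132 := d3_3 F410812 (iv2 F406900) (iv6 F406837)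
theorem F410814 : act 3 n196916 = n199132 := d7_3 F410812 (iv3 F406901) (iv6 F402278)
theorem F410815 : act 7 n199132 = n196961 := d8_2 (iv7 F402277) F410814 F402454
theorem F410816 : act 1 n110971 = n145325 := d15_1 (iv0 D199132) (iv7 F401017) F410813
theorem F410817 : act 1 n145325 = n196963 := d15_1 F410816 (iv7 D196963) (iv2 F180745)
theorem F410818 : act 1 n196963 = n199132 := d15_1 F410817 F410815 (iv2 F402456)
def n199133 : Q := act 5 n110971
theorem D199133 : act 5 n110971 = n199133 := rfl
theorem F410819 : act 2 n199133 = n196962 := d2_1 D199133 (iv5 D196962) (iv2 F180745)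
theorem F410820 : act 6 n199133 = n196917 := d12_2 D110971 D199133 (iv5 D196917) (iv6 D107449) (iv5 F180711)
theorem F410821 : act 1 n199133 = n199104 := d17_6 (iv1 F393386) (iv5 F394968) (iv1 F394971) (iv5 F410807) F410806 D199133 (iv5 D199104) (iv0 F393928) (iv4 D194645)
def n199134 : Q := act 7 n110971
theorem D199134 : act 7 n110971 = n199134 := rfl
theorem F410822 : act 2 n199134 = n196963 := d4_1 D199134 (iv7 D196963) (iv2 F180745)
theorem F410823 : act 6 n199134 = n196954 := d14_1 D199134 (iv7 D196954) (iv6 D107494) F180713 D110971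
theorem F410824 : act 1 n196961 = n199134 := d15_1 D196961 (iv7 D199134) F180745
theorem F410825 : act 1 n199134 = n196541 := d15_1 F410824 F401017 F402456
def n199135 : Q := act 0 n110973
theorem D199135 : act 0 n110973 = n199135 := rfl
theorem F410826 : act 5 n199135 = n142801 := d17_3 F220059 (iv5 F180717) D199135 (iv4 F359135) F359136 (iv0 D139468) (iv5 D65454) D65452 (iv4 F180529)
theorem F410827 : act 4 n199135 = n135952 := d18_1 D199135 (iv1 F218704) (iv4 F104289) (iv5 F165704) (iv4 F180523) F180525 D139461 (iv0 F222655) (iv5 F180717)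
theorem F410828 : act 3 n199135 = n196914 := d20_5 (iv4 F410791) (iv1 F410793) (iv4 D110974) D110973 D199135 (iv4 F402269) (iv1 D196562) (iv4 D107079) (iv3 F166897) (iv1 F228325)
theorem F410829 : act 2 n136850 = n199135 := d15_3 (iv0 D199135) (iv0 F228391) F359130
theorem F410830 : act 1 n196955 = n199135 := d15_0 (iv0 D199135) (iv7 F180724) D196955
theorem F410831 : act 7 n199135 = n136845 := d15_2 F402440 F410830 F359142
def n199136 : Q := act 2 n110973
theorem D199136 : act 2 n110973 = n199136 := rfl
theorem F410832 : act 3 n199136 = n196592 := d0_2 D110973 D199136 F401188 (iv3 D107491) (iv2 F180714)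
theorem F410833 : act 5 n199136 = n196918 := d2_2 (iv5 F180717) D199136 (iv2 D196918)
theorem F410834 : act 7 n199136 = n196955 := d4_2 F180724 D199136 (iv2 D196955)
theorem F410835 : act 1 n199136 = n136845 := d15_0 (iv0 F228376) F180724 D199136
theorem F410836 : act 1 n136850 = n199136 := d15_0 F410835 (iv7 F410831) (iv2 F410829)
def n199137 : Q := act 4 n110973
theorem D199137 : act 4 n110973 = n199137 := rfl
theorem F410837 : act 3 n199137 = n137075 := d5_1 D199137 (iv4 D137075) F172018 (iv4 D110974) D110973
theorem F410838 : act 7 n199137 = n196956 := d11_2 F180724 D199137 (iv4 D196956)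
theorem F410839 : act 5 n199137 = n194069 := d17_5 (iv1 D107325) D107327 F220059 (iv5 F180717) D199137 (iv0 F391963) (iv5 D137882) F219046 (iv4 F220500)
theorem F410840 : act 0 n199137 = n111086 := d17_0 F172288 (iv1 F383804) (iv5 D137781) D137780 (iv5 F398732) F398730 (iv5 F410826) (iv0 D199135) D199137
theorem F410841 : act 1 n199137 = n111071 := d18_6 D107426 D196886 F402168 F180621 (iv5 F180717) D199137 (iv4 D111071) F172280 (iv5 F78365)
def n199138 : Q := act 6 n110973
theorem D199138 : act 6 n110973 = n199138 := rfl
theorem F410842 : act 3 n199138 = n110976 := d7_1 D199138 (iv6 D110976) D110973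
def n199139 : Q := act 5 n110974
theorem D199139 : act 5 n110974 = n199139 := rfl
theorem F410843 : act 2 n199139 = n196949 := d2_1 D199139 (iv5 D196949) F180726
theorem F410844 : act 3 n199139 = n137076 := d6_1 D199139 (iv5 D137076) F172018
theorem F410845 : act 4 n199139 = n142843 := d9_1 D199139 (iv5 D142843) (iv4 F204486) F204485 (iv4 F180670) (iv5 F180711) D110969 F383034 F383033 F333383 (iv4 F102898) F181538 F84374 F180716 D110974
theorem F410846 : act 7 n199139 = n196958 := d13_2 F180725 D199139 (iv5 D196958)
theorem F410847 : act 1 n199139 = n195811 := d17_6 (iv1 F80769) F80767 (iv1 F78401) F180716 D110974 D199139 (iv5 F401721) (iv0 D196766) (iv4 D107295)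
def n199140 : Q := act 5 n110976
theorem D199140 : act 5 n110976 = n199140 := rfl
theorem F410848 : act 2 n199140 = n196953 := d2_1 D199140 (iv5 D196953) F180727
theorem F410849 : act 6 n199140 = n196921 := d12_2 D110976 D199140 (iv5 D196921) (iv6 D107453) F180716
theorem F410850 : act 4 n190182 = n199140 := d10_3 F410849 F402296 F381311
theorem F410851 : act 0 n199140 = n190204 := d21_4 (iv5 F402291) (iv1 D196920) D196921 (iv6 F410849) (iv6 D190204) (iv5 F360808) F156185 F293013 (iv6 F147358) D190157
def n199141 : Q := act 7 n110976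
theorem D199141 : act 7 n110976 = n199141 := rfl
theorem F410852 : act 2 n199141 = n196954 := d4_1 D199141 (iv7 D196954) F180727
theorem F410853 : act 6 n199141 = n196963 := d14_1 D199141 (iv7 D196963) (iv6 D107499) (iv7 F180715) D110976
theorem F410854 : act 1 n196556 = n199141 := d15_1 (iv0 F407856) (iv7 D199141) (iv2 F180727)
theorem F410855 : act 1 n199141 = n196951 := d15_1 F410854 F407861 F401073
def n199142 : Q := act 2 n110982
theorem D199142 : act 2 n110982 = n199142 := rfl
theorem F410856 : act 3 n199142 = n193083 := d0_2 D110982 D199142 F388698 (iv3 D107101) F111271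
theorem F410857 : act 4 n199142 = n191984 := d1_2 F180169 D199142 (iv2 F385095)
theorem F410858 : act 5 n199142 = n114483 := d2_2 F371638 D199142 F371635
theorem F410859 : act 6 n199142 = n192720 := d3_2 F410643 D199142 (iv2 F410645)
theorem F410860 : act 7 n199142 = n196584 := d4_2 (iv7 F172025) D199142 (iv2 D196584)
theorem F410861 : act 1 n199142 = n196549 := d15_0 F401050 (iv7 F172025) D199142
theorem F410862 : act 1 n196583 = n199142 := d15_0 F410861 F401048 F401148
def n199143 : Q := act 6 n110984
theorem D199143 : act 6 n110984 = n199143 := rfl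
theorem F410863 : act 3 n199143 = n110986 := d7_1 D199143 (iv6 D110986) D110984
theorem F410864 : act 4 n199143 = n124495 := d10_1 D199143 (iv6 F346529) F203975
theorem F410865 : act 5 n199143 = n198134 := d12_1 D199143 (iv6 F406958) (iv5 F388709) F388710 F387612
theorem F410866 : act 3 n198134 = n196862 := d6_1 F410865 F402061 (iv3 F410863)
theorem F410867 : act 0 n198143 = n199143 := d20_10 F410864 (iv1 D124495) D124496 F199123 (iv1 F308519) (iv3 F331112) D197775 (iv1 F406979) (iv4 D198144) D198143
def n199144 : Q := act 6 n110985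
theorem D199144 : act 6 n110985 = n199144 := rfl
theorem F410868 : act 2 n199144 = n196586 := d3_1 D199144 (iv6 D196586) (iv2 F172030)
theorem F410869 : act 3 n199144 = n193085 := d7_1 D199144 F388710 F387610
theorem F410870 : act 4 n199144 = n114521 := d10_1 D199144 (iv6 F228247) (iv4 F339954)
theorem F410871 : act 7 n199144 = n114361 := d14_2 (iv7 F172031) D199144 (iv6 D114361) (iv7 F94512) (iv6 F339960)
theorem F410872 : act 0 n199094 = n199144 := d21_4 F172234 (iv1 D110929) D110930 (iv6 F410633) (iv6 D199144) (iv5 D110985) (iv1 D51170) D51171 (iv6 F80805) D111048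
def n199145 : Q := act 6 n110987
theorem D199145 : act 6 n110987 = n199145 := rfl
theorem F410873 : act 2 n199145 = n196927 := d3_1 D199145 (iv6 D196927) F172036
theorem F410874 : act 3 n199145 = n188118 := d7_1 D199145 F372359 (iv3 F371600)
theorem F410875 : act 4 n199145 = n195165 := d10_1 D199145 (iv6 F396054) F370679
theorem F410876 : act 0 n199145 = n195124 := d21_4 (iv5 D107012) (iv1 F164935) (iv5 F172035) D199145 F395871 F161471 (iv1 F94520) F94518 (iv6 F339960) F165072
def n199146 : Q := act 3 n110988
theorem D199146 : act 3 n110988 = n199146 := rfl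
theorem F410877 : act 5 n199146 = n128507 := d6_2 (iv5 F172041) D199146 F346504
theorem F410878 : act 7 n199146 = n196926 := d8_2 (iv7 F172040) D199146 (iv3 D196926)
def n199147 : Q := act 6 n110990
theorem D199147 : act 6 n110990 = n199147 := rfl
theorem F410879 : act 2 n199147 = n188982 := d3_1 D199147 (iv6 D188982) F339939
theorem F410880 : act 3 n199147 = n188408 := d7_1 D199147 (iv6 D188408) F345141
theorem F410881 : act 4 n199147 = n188979 := d10_1 D199147 (iv6 D188979) (iv4 F339936)
theorem F410882 : act 5 n199147 = n196984 := d12_1 D199147 (iv6 D196984) F165855 (iv6 F80725) (iv5 F172045)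
theorem F410883 : act 0 n192646 = n199147 := d21_1 (iv5 F387341) F410882 (iv6 D196984) (iv1 F165857) (iv6 F339975) F339974 (iv1 D127791) F340006 (iv6 F322931) F314695
theorem F410884 : act 1 n192646 = n196780 := d15_1 (iv0 F410883) F401774 (iv2 F410879)
def n199148 : Q := act 6 n110991
theorem D199148 : act 6 n110991 = n199148 := rfl
theorem F410885 : act 3 n199148 = n110992 := d7_1 D199148 (iv6 D110992) D110991
theorem F410886 : act 4 n199148 = n137036 := d10_1 D199148 (iv6 D137036) (iv4 F172049)
theorem F410887 : act 7 n199148 = n195540 := d14_2 (iv7 F172048) D199148 (iv6 D195540) (iv7 F165196) (iv6 F165796)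
theorem F410888 : act 5 n199148 = n129186 := d21_6 (iv5 F78564) F48715 F39980 D52140 F172051 D199148 (iv1 F211948) F163795 (iv6 D63026) (iv1 F78563)
theorem F410889 : act 0 n129676 = n199148 := d21_4 F166052 F174271 D126333 (iv6 F207853) (iv6 D199148) F201765 (iv1 F217031) F217028 F176288 (iv1 F171695)
def n199149 : Q := act 6 n110993
theorem D199149 : act 6 n110993 = n199149 := rfl
theorem F410890 : act 2 n199149 = n194575 := d3_1 D199149 (iv6 D194575) F295853
theorem F410891 : act 4 n199149 = n113063 := d10_1 D199149 (iv6 D113063) (iv4 F172061)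
theorem F410892 : act 7 n199149 = n195537 := d14_2 F295851 D199149 (iv6 D195537) F162253 (iv6 F295850)
theorem F410893 : act 0 n199149 = n128869 := d21_4 D67476 D144026 F226713 D199149 F207119 (iv5 F357182) D193538 F390191 (iv6 D144025) (iv1 D67475)
theorem F410894 : act 5 n199149 = n157244 := d21_6 D61251 F95720 (iv5 D51185) (iv6 F80738) D110993 D199149 (iv1 D157244) (iv5 D74770) (iv6 D34259) (iv1 F46627)
theorem F410895 : act 6 n159808 = n157244 := d12_4 (iv6 D199149) (iv5 F226713) F340048 D159808 (iv5 F410894)
theorem F410896 : act 2 n157244 = n190278 := d3_1 F410895 (iv6 D190278) (iv2 F251838)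
theorem F410897 : act 7 n157243 = n190278 := d15_2 F247461 F247464 (iv2 F410896)
theorem F410898 : act 0 n128865 = n199149 := d17_0 F410894 (iv1 D157244) (iv5 D74770) F53917 (iv5 F46455) D60732 (iv5 F172058) (iv0 F172060) D128865
def n199150 : Q := act 3 n110999
theorem D199150 : act 3 n110999 = n199150 := rfl
theorem F410899 : act 4 n199150 = n156199 := d5_2 F400655 D199150 (iv3 F400660) (iv4 D196428) D196427
theorem F410900 : act 7 n199150 = n194570 := d8_2 (iv7 F363576) D199150 (iv3 D194570)
theorem F410901 : act 0 n199150 = n194440 := d20_10 F393226 (iv1 F245308) F175915 F82437 (iv1 F357659) F357660 (iv4 F393879) F400658 F400655 D199150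
theorem F410902 : act 0 n113066 = n199150 := d20_4 F246812 F222100 (iv4 D113067) D113066 (iv3 D199150) (iv4 F400655) (iv1 F400657) (iv4 F368599) (iv3 F388002) F388006
def n199151 : Q := act 6 n110999
theorem D199151 : act 6 n110999 = n199151 := rfl
theorem F410903 : act 2 n199151 = n194574 := d3_1 D199151 (iv6 D194574) F363577
theorem F410904 : act 7 n199151 = n196772 := d14_2 (iv7 F363576) D199151 (iv6 D196772) F172115 (iv6 F363564)
theorem F410905 : act 0 n199151 = n196866 := d21_10 F402085 F392525 (iv5 F159198) (iv6 D103769) F150033 (iv6 F337159) (iv5 F340427) D191097 F382210 D199151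
def n199152 : Q := act 6 n111003
theorem D199152 : act 6 n111003 = n199152 := rfl
theorem F410906 : act 2 n199152 = n196772 := d3_1 D199152 (iv6 D196772) F172117
theorem F410907 : act 4 n199152 = n142705 := d10_1 D199152 (iv6 D142705) (iv4 F172088)
theorem F410908 : act 5 n199152 = n194337 := d12_1 D199152 (iv6 D194337) D194336 F392869 F226680
theorem F410909 : act 7 n199152 = n194574 := d14_2 (iv7 F172118) D199152 (iv6 D194574) F363575 (iv6 F359497)
theorem F410910 : act 0 n196866 = n199152 := d21_1 (iv5 F402085) F410908 (iv6 D194337) (iv1 D103226) (iv6 D47837) (iv5 D23017) (iv1 F36043) (iv5 F75040) D103053 (iv1 F392526)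
def n199153 : Q := act 3 n111004
theorem D199153 : act 3 n111004 = n199153 := rfl
theorem F410911 : act 4 n199153 = n115616 := d5_2 F172091 D199153 (iv3 F398685) (iv4 D195906) (iv3 F172092)
theorem F410912 : act 6 n199153 = n194570 := d7_2 F363564 D199153 (iv3 D194570)
theorem F410913 : act 7 n199153 = n196771 := d8_2 F172115 D199153 (iv3 D196771)
def n199154 : Q := act 1 n111006
theorem D199154 : act 1 n111006 = n199154 := rfl
theorem F410914 : act 1 n199154 = n188435 := d15_1 D199154 F373463 F225332
theorem F410915 : act 7 n199154 = n188402 := d15_2 (iv0 F373459) D199154 F373308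
theorem F410916 : act 5 n199154 = n189935 := d17_7 D95477 D189934 (iv1 F378747) (iv5 F378751) (iv4 F395076) F395077 D199154 (iv0 D189935) (iv4 D95479)
theorem F410917 : act 6 n194565 = n199154 := d21_3 F393676 (iv1 F379082) (iv5 F393703) (iv1 D199154) (iv6 D111006) D111005 (iv1 F402368) (iv5 D196938) D196939 F402378
theorem F410918 : act 2 n199154 = n188436 := d3_1 F410917 F373465 (iv2 F393702)
def n199155 : Q := act 1 n111007
theorem D199155 : act 1 n111007 = n199155 := rfl
theorem F410919 : act 1 n199155 = n195534 := d15_1 D199155 (iv7 D195534) (iv2 F172128)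
theorem F410920 : act 7 n199155 = n195531 := d15_2 (iv0 F377522) D199155 (iv2 F397239)
theorem F410921 : act 2 n195532 = n199155 := d4_3 F410920 (iv2 F397239) (iv7 F397241)
def n199156 : Q := act 6 n111008
theorem D199156 : act 6 n111008 = n199156 := rfl
theorem F410922 : act 2 n199156 = n195537 := d3_1 D199156 (iv6 D195537) F172132
theorem F410923 : act 3 n199156 = n136285 := d7_1 D199156 (iv6 D136285) (iv3 F336177)
theorem F410924 : act 4 n199156 = n196107 := d10_1 D199156 F399437 (iv4 F176208)
theorem F410925 : act 7 n199156 = n194575 := d14_2 (iv7 F172131) D199156 (iv6 D194575) F295856 (iv6 F172069)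
theorem F410926 : act 5 n199156 = n157243 := d21_6 F357175 F357185 F350566 (iv6 F162259) (iv1 F172130) D199156 (iv1 F247464) (iv5 D144104) (iv6 F175717) (iv1 F175718)
theorem F410927 : act 0 n128869 = n199156 := d17_0 F410926 (iv1 F247464) (iv5 D144104) (iv4 D67518) (iv5 F96412) (iv0 F96416) (iv5 F172159) F172162 D128869
theorem F410928 : act 0 n195295 = n198471 := d20_7 F189500 F317161 (iv4 F226444) F226443 F410927 F410923 (iv4 F396612) (iv4 D198471) D198470 F408614
theorem F410929 : act 1 n128865 = n199156 := d15_0 (iv0 F410927) (iv7 F212920) F212918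
def n199157 : Q := act 4 n111009
theorem D199157 : act 4 n111009 = n199157 := rfl
theorem F410930 : act 2 n199157 = n195538 := d1_1 D199157 (iv4 D195538) (iv2 F172133)
theorem F410931 : act 6 n199157 = n128769 := d10_2 F395065 D199157 F395063
def n199158 : Q := act 6 n111013
theorem D199158 : act 6 n111013 = n199158 := rfl
theorem F410932 : act 3 n199158 = n111015 := d7_1 D199158 (iv6 D111015) D111013
theorem F410933 : act 4 n199158 = n116111 := d10_1 D199158 (iv6 D116111) (iv4 F172148)
theorem F410934 : act 5 n199158 = n123641 := d12_1 D199158 F328650 (iv5 D129091) D129092 F207325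
theorem F410935 : act 7 n199158 = n134845 := d14_2 (iv7 F172147) D199158 (iv6 D134845) (iv7 F171585) F171584
theorem F410936 : act 0 n199158 = n128819 := d21_4 (iv5 F410171) F410173 F207325 D199158 F207085 (iv5 D126169) F169063 F169060 (iv6 F216971) F226749
theorem F410937 : act 0 n128820 = n199158 := d21_4 F410414 F405451 (iv5 D134870) (iv6 F207086) (iv6 D199158) (iv5 F207325) F228697 (iv5 F228691) F228692 F410417
def n199159 : Q := act 3 n111014
theorem D199159 : act 3 n111014 = n199159 := rfl
theorem F410938 : act 4 n199159 = n116109 := d5_2 D111014 D199159 (iv3 D116109) (iv4 F172148) (iv3 D111013)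
theorem F410939 : act 7 n199159 = n195539 := d8_2 (iv7 F172155) D199159 (iv3 D195539)
theorem F410940 : act 0 n199159 = n128542 := d19_4 F96540 F95280 D111014 D199159 (iv5 F395690) F395691 (iv3 D126222) (iv1 D59173) D59175 D126229 F203000 (iv1 F221093) (iv5 D137872) F102782 (iv3 D59700) D59698 (iv5 F321552) F97139 (iv3 F168031)
theorem F410941 : act 1 n199159 = n196697 := d15_1 (iv0 F410940) F401518 F226633
theorem F410942 : act 0 n116116 = n196342 := d20_4 F40978 D25923 D53517 D116116 F400404 D196697 (iv1 F410941) F410938 (iv3 D116109) (iv1 D53512)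
def n199160 : Q := act 6 n111014
theorem D199160 : act 6 n111014 = n199160 := rfl
theorem F410943 : act 2 n199160 = n195543 := d3_1 D199160 (iv6 D195543) (iv2 F172154)
theorem F410944 : act 4 n199160 = n111015 := d10_1 D199160 (iv6 D111015) D111014
theorem F410945 : act 7 n199160 = n194394 := d14_2 (iv7 F172155) D199160 (iv6 D194394) F331321 (iv6 F165086)
theorem F410946 : act 5 n199160 = n133380 := d21_6 D130587 (iv1 F350554) (iv5 F350552) (iv6 F206796) (iv1 F206797) D199160 (iv1 F226815) (iv5 D144098) F329595 (iv1 F329591)
def n199161 : Q := act 6 n111017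
theorem D199161 : act 6 n111017 = n199161 := rfl
theorem F410947 : act 2 n199161 = n193468 := d3_1 D199161 F389954 (iv2 F172170)
theorem F410948 : act 4 n199161 = n111018 := d10_1 D199161 (iv6 D111018) D111017
theorem F410949 : act 5 n199161 = n177563 := d12_1 D199161 (iv6 F366321) F355248 (iv6 F355410) (iv5 F363580)
theorem F410950 : act 0 n199161 = n193512 := d21_10 (iv5 D193512) (iv1 F390103) (iv5 F379947) (iv6 D190506) (iv1 D96087) (iv6 F147695) (iv5 D96084) D96082 (iv5 F363580) D199161
def n199162 : Q := act 5 n111022
theorem D199162 : act 5 n111022 = n199162 := rfl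
theorem F410951 : act 2 n199162 = n111025 := d2_1 D199162 (iv5 D111025) (iv2 F172179)
theorem F410952 : act 3 n199162 = n196758 := d6_1 D199162 (iv5 D196758) (iv3 F172180)
theorem F410953 : act 4 n199162 = n138535 := d9_1 D199162 (iv5 F341029) (iv4 F276574) F346803 (iv4 F393668) (iv5 D194544) (iv4 F356936) F363389 F245730 (iv5 F341070) (iv4 F381578) F381579 F378724 F356889 F225334
theorem F410954 : act 6 n199162 = n140811 := d12_2 D111022 D199162 F331031 (iv6 D68161) (iv5 F80767)
theorem F410955 : act 7 n199162 = n138529 := d16_8 F245730 (iv5 F341070) (iv4 F381578) F381579 F378724 F356889 F225334 D199162 F245757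
def n199163 : Q := act 7 n111022
theorem D199163 : act 7 n111022 = n199163 := rfl
theorem F410956 : act 2 n199163 = n111026 := d4_1 D199163 (iv7 D111026) (iv2 F172179)
theorem F410957 : act 3 n199163 = n147510 := d8_1 D199163 F350029 (iv3 F172180)
theorem F410958 : act 4 n199163 = n188435 := d11_1 D199163 F373463 F225334
theorem F410959 : act 5 n199163 = n138529 := d13_1 D199163 (iv7 F410955) (iv5 D199162)
theorem F410960 : act 6 n199163 = n153686 := d14_1 D199163 F356924 F356923 (iv7 F80768) D111022
theorem F410961 : act 1 n111024 = n199163 := d15_1 D111024 (iv7 D199163) F172179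
theorem F410962 : act 1 n199163 = n111023 := d15_1 F410961 (iv7 F407792) F407790
def n199164 : Q := act 6 n111024
theorem D199164 : act 6 n111024 = n199164 := rfl
theorem F410963 : act 7 n199164 = n194567 := d14_2 (iv7 F393865) D199164 (iv6 D194567) (iv7 F159300) D194626
def n199165 : Q := act 0 n111025
theorem D199165 : act 0 n111025 = n199165 := rfl
theorem F410964 : act 4 n199165 = n147425 := d18_3 F328587 (iv4 F331029) D199165 (iv5 D147425) F321661 F70638 F317483 (iv0 F243167) D116948
theorem F410965 : act 5 n199165 = n199087 := d19_1 D199165 F410605 F174517 F81740 F79990 (iv4 F39669) (iv3 D25198) (iv1 F19738) (iv5 D11751) F10109 (iv3 F8528) (iv1 F10164) D6845 D14333 D30202 D64076 (iv5 F342889) (iv4 D111034) (iv3 F172181)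
theorem F410966 : act 1 n138529 = n199165 := d15_0 (iv0 D199165) F363391 (iv2 F245757)
theorem F410967 : act 6 n140778 = n199165 := d12_0 F410965 (iv6 D199087) (iv5 F409341) (iv6 F400758) F390356
def n199166 : Q := act 0 n111028
theorem D199166 : act 0 n111028 = n199166 := rfl
theorem F410968 : act 5 n199166 = n132511 := d17_3 D51196 D111028 D199166 (iv4 D132511) (iv5 F100190) (iv0 F100277) (iv5 D51203) (iv0 D24909) (iv4 F39058)
theorem F410969 : act 4 n199166 = n136301 := d18_1 D199166 (iv1 D136301) (iv4 F347203) (iv5 D107205) F102059 F45812 (iv4 F78325) F80779 D111028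
theorem F410970 : act 1 n111030 = n199166 := d15_0 (iv0 D199166) F172187 (iv2 F172189)
theorem F410971 : act 3 n193244 = n199166 := d19_19 (iv1 F410970) (iv5 D111030) (iv4 F102172) F102171 (iv1 D30382) D30383 (iv4 F95320) (iv3 F207373) F327585 D146867 F230257 (iv3 F230326) F341470 (iv5 D120308) F87628 F55818 D75015 (iv5 F357284) D193244
theorem F410972 : act 2 n199166 = n196690 := d0_1 F410971 F401493 F319285 (iv3 F335443) (iv2 F389298)
theorem F410973 : act 6 n199166 = n194340 := d7_2 F389302 F410971 F392875
theorem F410974 : act 7 n199166 = n196691 := d8_2 (iv7 F389299) F410971 (iv3 F401498)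
def n199167 : Q := act 1 n111028
theorem D199167 : act 1 n111028 = n199167 := rfl
theorem F410975 : act 1 n199167 = n111030 := d15_1 D199167 F172190 (iv2 F172186)
theorem F410976 : act 7 n199167 = n196690 := d15_2 (iv0 D199166) D199167 (iv2 F410972)
theorem F410977 : act 5 n199167 = n144317 := d17_7 D106939 F164818 F164820 (iv5 D106418) F95186 D111028 D199167 (iv0 F227046) F112134
theorem F410978 : act 4 n199167 = n136300 := d17_9 (iv1 F401448) F401444 (iv1 F173973) D136297 F342886 F165357 F80779 D111028 D199167
theorem F410979 : act 3 n170375 = n199167 := d19_19 (iv1 D199167) (iv5 D111028) (iv4 F95186) F95185 (iv1 F78105) (iv5 F95959) D131029 F326700 (iv1 F100665) (iv5 D30480) D30479 F102769 F102767 D28339 (iv4 F318671) D31662 F315261 D81695 D170375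
theorem F410980 : act 2 n199167 = n196691 := d0_1 F410979 (iv3 F401498) (iv2 F389292) F389293 F362627
theorem F410981 : act 6 n199167 = n177058 := d7_2 (iv6 F267854) F410979 (iv3 D177058)
theorem F410982 : act 0 n196673 = n155857 := d20_4 F410978 (iv1 F401448) (iv4 D196675) (iv3 F401435) F365243 F158760 D103453 (iv4 F386879) F400227 (iv1 F410975)
def n199168 : Q := act 4 n111030
theorem D199168 : act 4 n111030 = n199168 := rfl
theorem F410983 : act 2 n199168 = n196697 := d1_1 D199168 (iv4 D196697) (iv2 F172189)
theorem F410984 : act 7 n199168 = n128542 := d11_2 (iv7 F172190) D199168 F340043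
theorem F410985 : act 1 n199168 = n195539 := d18_6 F102037 F78290 (iv1 F77654) F102172 D111030 D199168 (iv4 F400237) F400242 (iv5 D127081)
def n199169 : Q := act 6 n111030
theorem D199169 : act 6 n111030 = n199169 := rfl
theorem F410986 : act 2 n199169 = n196698 := d3_1 D199169 (iv6 D196698) (iv2 F172189)
theorem F410987 : act 0 n193234 = n199169 := d21_4 D145408 (iv1 F228441) (iv5 F401253) F401256 (iv6 D199169) (iv5 D111030) (iv1 D51197) D51198 F80775 D68171
theorem F410988 : act 5 n193318 = n199169 := d21_8 F410977 F227045 F165356 F401273 (iv1 D193216) F156126 D101449 D193318 (iv6 D199169) (iv1 F410975)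
theorem F410989 : act 6 n197462 = n193318 := d12_0 F410988 (iv6 D199169) (iv5 D111030) D111031 (iv5 F404437)
def n199170 : Q := act 3 n111032
theorem D199170 : act 3 n111032 = n199170 := rfl
theorem F410990 : act 5 n199170 = n197455 := d6_2 (iv5 F172193) D199170 F404413
theorem F410991 : act 7 n199170 = n196764 := d8_2 F172195 D199170 (iv3 D196764)
theorem F410992 : act 2 n199170 = n196802 := d15_3 (iv0 D196802) F401718 (iv7 F410991)
theorem F410993 : act 0 n140668 = n199170 := d21_7 F404396 F358706 (iv5 D107027) F78167 F336119 D107323 F386488 F410990 (iv6 D197455) D197452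
theorem F410994 : act 1 n196804 = n199170 := d15_0 (iv0 F410993) F223760 (iv2 F401852)
def n199171 : Q := act 4 n111032
theorem D199171 : act 4 n111032 = n199171 := rfl
theorem F410995 : act 2 n199171 = n196685 := d1_1 D199171 F401483 F172194
theorem F410996 : act 7 n199171 = n196686 := d11_2 F172195 D199171 F401486
theorem F410997 : act 5 n199171 = n190325 := d17_5 D196690 F401492 F207053 (iv5 F172193) D199171 (iv0 F409918) F394529 (iv0 F393844) F340043
theorem F410998 : act 0 n199171 = n130552 := d18_2 D111032 D199171 (iv4 F331826) F165224 F78290 F77660 F95186 (iv0 D51196) D51198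
theorem F410999 : act 1 n199171 = n195903 := d18_6 (iv1 F227033) F227035 F175337 (iv4 F167301) (iv5 F172193) D199171 (iv4 D195903) D195902 F398661
theorem F411000 : act 3 n199171 = n190326 := d20_3 (iv4 D111034) D111032 D199171 F379401 F174517 F81738 (iv1 F103689) F103687 (iv3 F174033) (iv1 F363071)
theorem F411001 : act 6 n199171 = n144052 := d21_3 (iv5 F394529) F409918 (iv5 F410997) (iv1 D144052) (iv6 D67492) D67491 (iv1 F331565) F331511 D128542 F393844
def n199172 : Q := act 6 n111032
theorem D199172 : act 6 n111032 = n199172 := rfl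
theorem F411002 : act 2 n199172 = n196763 := d3_1 D199172 (iv6 D196763) F172194
theorem F411003 : act 4 n199172 = n144052 := d10_1 D199172 (iv6 F411001) (iv4 D199171)
theorem F411004 : act 5 n199172 = n196454 := d12_1 D199172 (iv6 D196454) F164943 D108193 (iv5 F172193)
def n199173 : Q := act 3 n111033
theorem D199173 : act 3 n111033 = n199173 := rfl
theorem F411005 : act 5 n199173 = n145395 := d6_2 F172199 D199173 F228429
theorem F411006 : act 7 n199173 = n196762 := d8_2 (iv7 F172198) D199173 (iv3 D196762)
theorem F411007 : act 6 n192457 = n199173 := d12_0 F411005 (iv6 D145395) D145394 F404900 (iv5 F404902)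
theorem F411008 : act 0 n199173 = n192380 := d21_7 (iv5 D49598) F336119 F336114 (iv6 F386483) F386495 D145395 (iv5 F411005) F386613 (iv6 D106436) (iv1 F78341)
def n199174 : Q := act 4 n111033
theorem D199174 : act 4 n111033 = n199174 := rfl
theorem F411009 : act 2 n199174 = n196686 := d1_1 D199174 F401486 (iv2 F172200)
theorem F411010 : act 7 n199174 = n196685 := d11_2 (iv7 F172198) D199174 F401483
theorem F411011 : act 0 n199174 = n195903 := d18_2 (iv1 F172197) D199174 (iv4 D195903) (iv5 D106416) F77653 D49173 F102172 F80773 (iv5 F165357)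
theorem F411012 : act 1 n199174 = n130552 := d18_6 D144314 F227028 F165685 (iv4 F104319) F172199 D199174 (iv4 F331826) (iv0 F227040) (iv5 D144316)
theorem F411013 : act 6 n199174 = n138260 := d21_5 D112885 (iv1 F343135) (iv5 D130551) D130552 (iv1 F411012) (iv5 D138260) (iv1 F168127) D116967 (iv6 F362324) (iv1 F175800)
theorem F411014 : act 3 n193488 = n199174 := d7_3 F411013 (iv3 F365681) D193488
def n199175 : Q := act 6 n111033
theorem D199175 : act 6 n111033 = n199175 := rfl
theorem F411015 : act 2 n199175 = n193216 := d3_1 D199175 (iv6 F401273) (iv2 F172200)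
theorem F411016 : act 3 n199175 = n192457 := d7_1 D199175 F411007 (iv3 D199173)
theorem F411017 : act 4 n199175 = n138260 := d10_1 D199175 (iv6 F411013) (iv4 D199174)
theorem F411018 : act 5 n199175 = n145399 := d12_1 D199175 (iv6 D145399) (iv5 D68167) D68168 F172199
theorem F411019 : act 0 n193218 = n199175 := d17_2 (iv1 F389208) F389209 F411018 F401269 F365020 (iv0 D144294) D144296 F226993 (iv4 F389196)
theorem F411020 : act 1 n193217 = n199175 := d15_0 (iv0 F411019) (iv7 D193218) D193217
theorem F411021 : act 7 n193215 = n199175 := d11_0 F411017 (iv7 F226649) (iv4 F389196)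
def n199176 : Q := act 3 n111034
theorem D199176 : act 3 n111034 = n199176 := rfl
theorem F411022 : act 4 n199176 = n140880 := d5_2 D111034 D199176 F223939 (iv4 F331029) F172181
theorem F411023 : act 5 n199176 = n136294 := d6_2 (iv5 F342889) D199176 (iv3 D136294)
theorem F411024 : act 6 n199176 = n140878 := d7_2 (iv6 F172202) D199176 F331784
theorem F411025 : act 7 n199176 = n157228 := d8_2 F407967 D199176 (iv3 F407964)
theorem F411026 : act 0 n199176 = n148053 := d20_4 (iv4 D199174) (iv1 D111033) D111034 D199176 (iv3 F347165) (iv4 D129614) F168045 (iv4 F95731) (iv3 F209137) (iv1 F411012)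
def n199177 : Q := act 3 n111039
theorem D199177 : act 3 n111039 = n199177 := rfl
theorem F411027 : act 2 n199177 = n190796 := d0_1 D199177 F381099 F148999 (iv3 F328081) F172212
theorem F411028 : act 4 n199177 = n146878 := d5_2 (iv4 F172211) D199177 F365735 F204111 F163662
theorem F411029 : act 6 n199177 = n190792 := d7_2 F206970 D199177 F381090
theorem F411030 : act 7 n199177 = n196243 := d8_2 (iv7 F172210) D199177 F400031
theorem F411031 : act 5 n190319 = n199177 := d12_5 F411029 (iv5 D190792) (iv6 F392622) F392621 (iv6 F379372)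
def n199178 : Q := act 5 n111039
theorem D199178 : act 5 n111039 = n199178 := rfl
theorem F411032 : act 2 n199178 = n113256 := d2_1 D199178 (iv5 F360823) F172212
theorem F411033 : act 3 n199178 = n190319 := d6_1 D199178 F411031 (iv3 D199177)
theorem F411034 : act 6 n199178 = n194279 := d12_2 F206970 D199178 F392631 F267325 (iv5 F328080)
theorem F411035 : act 7 n199178 = n196244 := d13_2 (iv7 F172210) D199178 (iv5 D196244)
theorem F411036 : act 4 n199178 = n190325 := d16_2 (iv4 F172211) D199178 (iv5 F410997) (iv4 D199171) F172193 F167301 (iv5 D60561) (iv7 F78294) (iv2 F163661)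
theorem F411037 : act 0 n199178 = n189806 := d17_2 (iv1 F172209) D199178 (iv5 F377808) F203032 F328775 F95191 F80792 F80790 D60572
theorem F411038 : act 5 n125909 = n198079 := d21_8 F342874 (iv1 F172209) D199178 F411034 F392632 (iv6 F202394) (iv5 D125911) D125909 F406705 (iv1 F203211)
theorem F411039 : act 6 n112840 = n181139 := d21_3 (iv5 D125670) F93053 D112840 (iv1 F358236) (iv6 F342875) F342874 (iv1 F172209) D199178 F411034 F392632
theorem F411040 : act 3 n181139 = n113348 := d7_1 F411039 (iv6 F345928) (iv3 F365967)
theorem F411041 : act 4 n181139 = n174242 := d10_1 F411039 (iv6 F394811) F394810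
theorem F411042 : act 3 n197834 = n125909 := d6_3 F411038 (iv3 D198079) (iv5 F405955)
theorem F411043 : act 4 n125901 = n125909 := d20_2 (iv4 F93156) D125901 (iv3 F411042) (iv1 D197834) F168632 (iv4 F92900) F92902 (iv4 F92996) D125631 F366358
def n199179 : Q := act 1 n111041
theorem D199179 : act 1 n111041 = n199179 := rfl
theorem F411044 : act 1 n199179 = n126243 := d15_1 D199179 F342876 F204339
theorem F411045 : act 7 n199179 = n126242 := d15_2 (iv0 F341781) D199179 (iv2 F355994)
theorem F411046 : act 5 n199179 = n132153 := d17_7 F95231 (iv5 D51208) (iv1 D24910) D24911 D51211 D111041 D199179 (iv0 F211671) F207140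
theorem F411047 : act 2 n126222 = n199179 := d2_3 F411046 F211668 (iv5 F355991)
def n199180 : Q := act 5 n111043
theorem D199180 : act 5 n111043 = n199180 := rfl
theorem F411048 : act 2 n199180 = n196356 := d2_1 D199180 F401956 (iv2 F401949)
theorem F411049 : act 3 n199180 = n111044 := d6_1 D199180 (iv5 D111044) D111043
theorem F411050 : act 7 n199180 = n196753 := d13_2 (iv7 F172218) D199180 (iv5 D196753)
theorem F411051 : act 6 n199180 = n187940 := d21_3 F371648 F389516 D199180 (iv1 D187940) (iv6 D90688) (iv5 F293006) D47119 (iv5 F291457) D188050 F372226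
def n199181 : Q := act 6 n111043
theorem D199181 : act 6 n111043 = n199181 := rfl
theorem F411052 : act 2 n199181 = n174499 := d3_1 D199181 (iv6 F401948) (iv2 F401949)
theorem F411053 : act 3 n199181 = n111045 := d7_1 D199181 (iv6 D111045) D111043
theorem F411054 : act 4 n199181 = n173372 := d10_1 D199181 F309558 (iv4 F331928)
theorem F411055 : act 5 n199181 = n196978 := d12_1 D199181 F402512 (iv5 F371889) (iv6 F411051) (iv5 D199180)
theorem F411056 : act 7 n199181 = n174500 := d14_2 (iv7 F172218) D199181 (iv6 F410705) F410706 F400674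
theorem F411057 : act 0 n173292 = n199181 := d17_0 F411055 (iv1 F402513) F386494 F343467 (iv5 F273356) (iv0 F308345) F308348 (iv0 D173291) D173292
theorem F411058 : act 1 n174503 = n199181 := d15_0 (iv0 F411057) (iv7 F402026) F402024
def n199182 : Q := act 5 n111046
theorem D199182 : act 5 n111046 = n199182 := rfl
theorem F411059 : act 2 n199182 = n196820 := d2_1 D199182 (iv5 D196820) (iv2 F389246)
theorem F411060 : act 3 n199182 = n111047 := d6_1 D199182 (iv5 D111047) D111046
theorem F411061 : act 7 n199182 = n196747 := d13_2 (iv7 F172230) D199182 (iv5 D196747)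
def n199183 : Q := act 4 n111047
theorem D199183 : act 4 n111047 = n199183 := rfl
theorem F411062 : act 2 n199183 = n196754 := d1_1 D199183 (iv4 D196754) (iv2 F172231)
theorem F411063 : act 7 n199183 = n157733 := d11_2 (iv7 F172232) D199183 (iv4 F339970)
theorem F411064 : act 0 n199183 = n196409 := d17_0 F400620 (iv1 D195807) F163339 (iv4 F339962) F165375 (iv0 D74724) D74726 (iv0 F172233) D199183
theorem F411065 : act 6 n187957 = n199183 := d21_9 F400620 (iv1 D195807) F163339 (iv6 D60027) (iv1 F52164) D71280 F107776 D106692 (iv5 F398944) F411064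
def n199184 : Q := act 6 n111047
theorem D199184 : act 6 n111047 = n199184 := rfl
theorem F411066 : act 2 n199184 = n196755 := d3_1 D199184 (iv6 D196755) (iv2 F172231)
theorem F411067 : act 4 n199184 = n187957 := d10_1 D199184 F411065 (iv4 D199183)
def n199185 : Q := act 3 n111048
theorem D199185 : act 3 n111048 = n199185 := rfl
theorem F411068 : act 5 n199185 = n199097 := d6_2 (iv5 F172234) D199185 (iv3 D199097)
theorem F411069 : act 7 n199185 = n187881 := d8_2 F172236 D199185 F371756
theorem F411070 : act 0 n187828 = n199185 := d20_4 F331088 (iv1 F224859) D141943 (iv3 F371629) (iv3 D199185) F352668 (iv1 F205659) (iv4 F352666) F351238 (iv1 F331091)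
theorem F411071 : act 4 n199185 = n192791 := d18_3 F367158 (iv4 F371630) F411070 F387793 F374735 (iv0 D153969) D153971 F374923 (iv5 F367157)
theorem F411072 : act 6 n199185 = n197871 := d21_5 (iv5 F401151) (iv1 F401153) F371647 D187828 F411070 F406068 (iv1 F216943) (iv5 F371653) (iv6 D187834) (iv1 F239729)
def n199186 : Q := act 6 n111048
theorem D199186 : act 6 n111048 = n199186 := rfl
theorem F411073 : act 2 n199186 = n151250 := d3_1 D199186 F339966 F172235
theorem F411074 : act 3 n199186 = n197871 := d7_1 D199186 (iv6 F411072) (iv3 D199185)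
theorem F411075 : act 4 n199186 = n114389 := d10_1 D199186 (iv6 F205658) (iv4 F352668)
theorem F411076 : act 5 n199186 = n144328 := d12_1 D199186 F402078 (iv5 F402132) F402130 (iv5 F172234)
theorem F411077 : act 7 n199186 = n114386 := d14_2 F172236 D199186 (iv6 D114386) (iv7 F94519) (iv6 F339963)
theorem F411078 : act 1 n151248 = n199186 := d15_1 D151248 F411077 F178413
theorem F411079 : act 0 n151247 = n199186 := d20_10 F411075 (iv1 F178418) (iv4 F363672) (iv3 D109061) (iv1 F79733) (iv3 F79741) D109087 D198253 (iv4 F409121) (iv3 F409122)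
def n199187 : Q := act 6 n111051
theorem D199187 : act 6 n111051 = n199187 := rfl
theorem F411080 : act 2 n199187 = n196780 := d3_1 D199187 (iv6 D196780) (iv2 F172244)
theorem F411081 : act 3 n199187 = n197650 := d7_1 D199187 F405210 F225713
theorem F411082 : act 5 n199187 = n196765 := d12_1 D199187 (iv6 D196765) F165357 (iv6 F80808) (iv5 F172245)
theorem F411083 : act 7 n199187 = n199147 := d14_2 D111051 D199187 (iv6 D199147) (iv7 D110990) (iv6 F80805)
def n199188 : Q := act 5 n111052
theorem D199188 : act 5 n111052 = n199188 := rfl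
theorem F411084 : act 2 n199188 = n111114 := d2_1 D199188 (iv5 D111114) (iv2 F172248)
theorem F411085 : act 3 n199188 = n173935 := d6_1 D199188 (iv5 F351814) F172293
theorem F411086 : act 4 n199188 = n198616 := d9_1 D199188 F408548 F169687 F79975 D63957 D136024 F338260 (iv5 F361575) (iv4 D109746) (iv5 D50612) F38650 D24654 D50623 D109760 F338273
theorem F411087 : act 6 n199188 = n125511 := d12_2 D111052 D199188 (iv5 D125511) F92850 (iv5 F80817)
theorem F411088 : act 7 n199188 = n198615 := d13_2 F361566 D199188 F408542
theorem F411089 : act 0 n199188 = n198675 := d17_2 (iv1 F410780) D199188 (iv5 F408832) (iv4 D136021) (iv5 D63955) D63954 D136018 (iv0 F221467) (iv4 F410778)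
theorem F411090 : act 1 n199188 = n198674 := d17_8 (iv1 F408843) (iv5 D198677) (iv1 F169740) D109756 D198682 F410787 F410783 D199188 F408825
theorem F411091 : act 6 n196890 = n137231 := d21_5 D51234 F172281 (iv5 F78365) D107429 D196890 F408828 (iv1 F411090) (iv5 D199188) (iv6 D111052) (iv1 F80819)
theorem F411092 : act 4 n137232 = n196890 := d10_3 F411091 F220376 D137232
def n199189 : Q := act 6 n111055
theorem D199189 : act 6 n111055 = n199189 := rfl
theorem F411093 : act 3 n199189 = n111058 := d7_1 D199189 (iv6 D111058) D111055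
theorem F411094 : act 4 n199189 = n194628 := d10_1 D199189 F401727 F401722
theorem F411095 : act 5 n199189 = n140590 := d12_1 D199189 (iv6 D140590) D140589 F348358 (iv5 F180289)
theorem F411096 : act 0 n199189 = n188434 := d21_4 (iv5 D68234) (iv1 F104382) (iv5 F180289) D199189 (iv6 D188434) F140573 (iv1 F140503) F345146 (iv6 F340512) F204481
def n199190 : Q := act 5 n111056
theorem D199190 : act 5 n111056 = n199190 := rfl
theorem F411097 : act 2 n199190 = n111066 := d2_1 D199190 (iv5 D111066) (iv2 F172252)
theorem F411098 : act 3 n199190 = n133975 := d6_1 D199190 (iv5 D133975) (iv3 F181244)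
theorem F411099 : act 7 n199190 = n111084 := d13_2 (iv7 F172253) D199190 (iv5 D111084)
theorem F411100 : act 1 n199190 = n139936 := d17_6 (iv1 F165706) F165704 (iv1 F165750) F180606 D111056 D199190 (iv5 D139936) D139934 (iv4 F223164)
def n199191 : Q := act 6 n111056
theorem D199191 : act 6 n111056 = n199191 := rfl
theorem F411101 : act 2 n199191 = n111067 := d3_1 D199191 (iv6 D111067) (iv2 F172252)
theorem F411102 : act 3 n199191 = n133976 := d7_1 D199191 (iv6 D133976) (iv3 F181244)
theorem F411103 : act 4 n199191 = n111058 := d10_1 D199191 (iv6 D111058) D111056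
theorem F411104 : act 5 n141797 = n199191 := d21_2 (iv5 F395905) F395907 (iv6 D199191) (iv1 F361548) (iv6 D137220) (iv5 D64495) (iv1 D30363) D30364 (iv6 F100424) D137200
def n199192 : Q := act 5 n111058
theorem D199192 : act 5 n111058 = n199192 := rfl
theorem F411105 : act 2 n199192 = n111076 := d2_1 D199192 (iv5 D111076) (iv2 F172256)
theorem F411106 : act 3 n199192 = n140590 := d6_1 D199192 (iv5 F411095) F411093
theorem F411107 : act 6 n199192 = n140587 := d12_2 D111058 D199192 F402236 (iv6 D196903) F180606
def n199193 : Q := act 1 n111061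
theorem D199193 : act 1 n111061 = n199193 := rfl
theorem F411108 : act 1 n199193 = n145470 := d15_1 D199193 (iv7 F400382) F400380
theorem F411109 : act 7 n199193 = n145474 := d15_2 F227076 D199193 F228522
theorem F411110 : act 4 n199193 = n174552 := d17_9 (iv1 F343463) D196801 F401848 (iv5 F354325) F351324 F172119 F181497 D111061 D199193
theorem F411111 : act 5 n199193 = n116856 := d18_9 F223620 (iv4 D140434) (iv1 D65918) (iv4 F78211) F78212 (iv4 F93859) D126720 (iv4 F203939) D199193
theorem F411112 : act 3 n116857 = n199193 := d19_19 (iv1 D199193) (iv5 D111061) (iv4 F181252) D196334 F400366 (iv5 F404897) F404893 F372461 (iv1 D133983) (iv5 D62939) (iv4 F82504) (iv3 D52181) F40055 D48845 (iv4 F94049) (iv3 F356908) F356905 (iv5 D144004) (iv4 F182482)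
theorem F411113 : act 2 n199193 = n112672 := d0_1 F411112 (iv3 D112672) F182514 (iv3 F166897) F182551
def n199194 : Q := act 6 n111061
theorem D199194 : act 6 n111061 = n199194 := rfl
theorem F411114 : act 2 n199194 = n140925 := d3_1 D199194 F400386 F400380
theorem F411115 : act 3 n199194 = n111072 := d7_1 D199194 (iv6 D111072) (iv3 F172257)
theorem F411116 : act 4 n199194 = n141036 := d10_1 D199194 (iv6 F331850) (iv4 F203939)
theorem F411117 : act 7 n199194 = n193427 := d14_2 F400437 D199194 F389808 (iv7 F346523) F400440
theorem F411118 : act 1 n174474 = n199194 := d15_1 (iv0 F343472) F411117 F389807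
theorem F411119 : act 1 n199194 = n174487 := d15_1 F411118 (iv7 F386497) F386496
def n199195 : Q := act 0 n111062
theorem D199195 : act 0 n111062 = n199195 := rfl
theorem F411120 : act 6 n199195 = n194629 := d21_5 (iv5 F411111) (iv1 D199193) (iv5 D111061) D111062 D199195 F398539 F373399 F373395 F363558 F223611
theorem F411121 : act 2 n147515 = n199195 := d3_3 F411120 (iv2 F401828) (iv6 F231301)
theorem F411122 : act 5 n196784 = n199195 := d12_5 F411120 F398539 (iv6 F401788) (iv5 D196783) D196784
def n199196 : Q := act 1 n111062
theorem D199196 : act 1 n111062 = n199196 := rfl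
theorem F411123 : act 7 n199196 = n147515 := d15_2 (iv0 D199195) D199196 F411121
theorem F411124 : act 4 n196799 = n199196 := d20_6 F154092 D100161 D192411 F386662 (iv1 F350003) F401839 (iv1 D199196) (iv4 F400371) F400370 (iv1 D192408)
theorem F411125 : act 3 n147517 = n199196 := d20_9 (iv4 F400371) F400372 F180904 (iv3 D111027) (iv1 F80779) (iv3 F165352) F165353 (iv1 F320110) (iv4 F231302) (iv1 D199196)
theorem F411126 : act 5 n199196 = n193242 := d6_2 F357281 F411125 F389289
def n199197 : Q := act 5 n111062
theorem D199197 : act 5 n111062 = n199197 := rfl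
theorem F411127 : act 3 n199197 = n111076 := d6_1 D199197 (iv5 D111076) (iv3 F172258)
def n199198 : Q := act 7 n111062
theorem D199198 : act 7 n111062 = n199198 := rfl
theorem F411128 : act 3 n199198 = n111077 := d8_1 D199198 (iv7 D111077) (iv3 F172258)
def n199199 : Q := act 5 n111065
theorem D199199 : act 5 n111065 = n199199 := rfl
theorem F411129 : act 3 n199199 = n111066 := d6_1 D199199 (iv5 D111066) D111065
theorem F411130 : act 6 n199199 = n191693 := d12_2 F380081 D199199 (iv5 D191693) D191694 F384174
theorem F411131 : act 7 n199199 = n188161 := d13_2 F400422 D199199 F400425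
theorem F411132 : act 0 n199199 = n141823 := d17_2 (iv1 F224825) D199199 F357505 (iv4 F357507) F224847 (iv0 F400209) (iv5 D196285) F164710 D141813
theorem F411133 : act 1 n199199 = n192950 := d17_8 F400209 (iv5 F224847) (iv1 D106863) D106865 F364780 F364783 (iv0 F224831) D199199 (iv4 F400206)
def n199200 : Q := act 0 n111066
theorem D199200 : act 0 n111066 = n199200 := rfl
theorem F411134 : act 5 n199200 = n115996 := d17_3 (iv1 D111064) D111066 D199200 F180621 (iv5 F180717) (iv0 F228391) F228390 D195919 F398735
theorem F411135 : act 3 n115997 = n199200 := d6_3 F411134 (iv3 D115996) D115997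
theorem F411136 : act 7 n139936 = n199200 := d13_0 F411134 (iv7 F180683) D139936
theorem F411137 : act 1 n111084 = n199200 := d17_6 (iv1 F165702) (iv5 F165747) F172282 (iv5 D51234) D51233 D111084 F411134 (iv0 F402168) (iv4 D196886)
def n199201 : Q := act 1 n111066
theorem D199201 : act 1 n111066 = n199201 := rfl
theorem F411138 : act 1 n199201 = n111084 := d15_1 D199201 (iv7 F411099) F411097
theorem F411139 : act 5 n199201 = n139935 := d17_7 (iv1 D107427) F78365 (iv1 F172280) (iv5 D51229) D51228 D111066 D199201 (iv0 F402182) (iv4 D196888)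
theorem F411140 : act 0 n111067 = n137193 := d21_4 (iv5 F411139) (iv1 D199201) (iv5 D111066) D111067 (iv6 F350288) (iv5 D99428) F153161 (iv5 F375603) (iv6 F402179) F402182
theorem F411141 : act 2 n139936 = n199201 := d2_3 F411139 (iv2 D139935) D139936
theorem F411142 : act 3 n199014 = n199201 := d6_3 F411139 F223165 D199014
def n199202 : Q := act 4 n111066
theorem D199202 : act 4 n111066 = n199202 := rfl
theorem F411143 : act 5 n199202 = n137990 := d16_1 D199202 (iv4 D137990) (iv5 F172288) (iv4 D111086) (iv5 D51234) D51233 D111084 (iv7 F411099) F411097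
theorem F411144 : act 1 n199202 = n141232 := d18_6 (iv1 D51135) F39017 D24917 D51228 D111066 D199202 (iv4 D141232) F172284 (iv5 D110895)
def n199203 : Q := act 6 n111066
theorem D199203 : act 6 n111066 = n199203 := rfl
theorem F411145 : act 3 n199203 = n191693 := d7_1 D199203 (iv6 F411130) F411129
theorem F411146 : act 0 n125473 = n199203 := d21_4 (iv5 D53235) (iv1 F45111) D58741 D125473 (iv6 D199203) (iv5 D111066) F102890 (iv5 F361546) (iv6 D136379) F99805
theorem F411147 : act 5 n199203 = n191691 := d17_3 (iv1 F342186) (iv5 F201782) F411146 (iv4 F384164) (iv5 F345360) (iv0 D120970) (iv5 F322422) (iv0 F333830) (iv4 F98486)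
theorem F411148 : act 0 n137585 = n191691 := d21_7 F411134 (iv1 F402181) (iv5 F402183) (iv6 D192974) (iv1 F155708) D101112 (iv5 F338484) (iv5 F411147) (iv6 D199203) D199200
theorem F411149 : act 0 n199203 = n192989 := d21_1 (iv5 F411147) F388448 (iv6 F342185) F332698 (iv6 F136857) (iv5 D89158) D89156 F338481 D137585 F411148
def n199204 : Q := act 7 n111066
theorem D199204 : act 7 n111066 = n199204 := rfl
theorem F411150 : act 2 n199204 = n111084 := d4_1 D199204 (iv7 F411099) F411097
theorem F411151 : act 3 n199204 = n188161 := d8_1 D199204 (iv7 F411131) F411129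
theorem F411152 : act 5 n199204 = n111068 := d13_1 D199204 (iv7 D111068) D111066
theorem F411153 : act 1 n139936 = n199204 := d15_1 F411100 (iv7 D199204) (iv2 F411097)
theorem F411154 : act 6 n199204 = n193007 := d21_3 (iv5 F220375) F361547 (iv5 F411152) (iv1 D193007) (iv6 D101089) (iv5 D47091) (iv1 F74328) (iv5 F155706) D192974 F388399
theorem E103764 : n193007 = n188158 := (c7_1 F411154 (iv3 D188158) D188161 (iv3 F411151))
theorem F411155 : act 0 n188158 = n101089 := (sb E103764 (iv1 D193007))
theorem F411156 : act 6 n188158 = n199204 := (sb E103764 (iv6 F411154))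
def n199205 : Q := act 5 n111067
theorem D199205 : act 5 n111067 = n199205 := rfl
theorem F411157 : act 2 n199205 = n141797 := d2_1 D199205 F411104 F411101
theorem F411158 : act 3 n199205 = n191694 := d6_1 D199205 F384174 (iv3 F380083)
theorem F411159 : act 6 n199205 = n191691 := d12_2 D111067 D199205 (iv5 F411147) (iv6 D199203) (iv5 D111066)
theorem F411160 : act 7 n199205 = n141792 := d13_2 F386873 D199205 F386875
theorem F411161 : act 4 n199205 = n129591 := d17_4 (iv1 F218844) D137198 F386817 D199205 (iv5 F359086) F359085 D126670 F203836 (iv4 F336105)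
def n199206 : Q := act 6 n111068
theorem D199206 : act 6 n111068 = n199206 := rfl
theorem F411162 : act 2 n199206 = n111085 := d3_1 D199206 (iv6 D111085) (iv2 F172262)
theorem F411163 : act 3 n199206 = n188699 := d7_1 D199206 (iv6 F400426) F400421
theorem F411164 : act 4 n199206 = n111078 := d10_1 D199206 (iv6 D111078) (iv4 F172263)
theorem F411165 : act 5 n199206 = n188697 := d12_1 D199206 F407614 (iv5 F407613) F411156 F411152
theorem F411166 : act 7 n199206 = n189152 := d14_2 D111068 D199206 (iv6 F386872) F386873 (iv6 D111067)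
def n199207 : Q := act 1 n111071
theorem D199207 : act 1 n111071 = n199207 := rfl
theorem F411167 : act 1 n199207 = n111086 := d15_1 D199207 (iv7 F402230) F402228
theorem F411168 : act 4 n199207 = n196955 := d18_7 (iv1 F398730) F398735 (iv1 D111064) (iv4 D51228) D51229 D111071 D199207 F410830 F410826
theorem F411169 : act 2 n196956 = n199207 := d1_3 F411168 (iv2 D196955) D196956
theorem F411170 : act 3 n126782 = n199207 := d5_5 F411168 F402438 F401867 D198389 F407850
def n199208 : Q := act 3 n111071
theorem D199208 : act 3 n111071 = n199208 := rfl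
theorem F411171 : act 2 n199208 = n136822 := d0_1 D199208 (iv3 D136822) (iv2 F177224) (iv3 F402229) F402228
theorem F411172 : act 4 n199208 = n175701 := d5_2 D111071 D199208 (iv3 F337538) (iv4 F203939) F172257
theorem F411173 : act 0 n199208 = n113779 := d19_4 D24917 D51229 D111071 D199208 (iv5 D113779) (iv4 D52537) F40332 (iv1 F24513) (iv5 D14847) (iv4 D7071) (iv3 D3225) F2558 (iv5 D796) D795 D1446 (iv1 F9959) D2294 D5539 D11826
theorem F411174 : act 5 n113918 = n199208 := d17_1 F396018 F411173 (iv5 D113779) (iv4 D52537) (iv5 D25502) D25501 D52533 F161532 D195158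
theorem F411175 : act 1 n199208 = n136707 := d15_1 (iv0 F411173) (iv7 F220270) F220269
theorem F411176 : act 6 n175700 = n199208 := d10_0 F411172 (iv6 D175701) D175700
def n199209 : Q := act 5 n111071
theorem D199209 : act 5 n111071 = n199209 := rfl
theorem F411177 : act 2 n199209 = n137978 := d2_1 D199209 (iv5 F402231) F402228
theorem F411178 : act 3 n199209 = n113918 := d6_1 D199209 F411174 (iv3 D199208)
theorem F411179 : act 7 n199209 = n137989 := d13_2 F402218 D199209 F402219
theorem F411180 : act 0 n199209 = n137880 := d17_2 (iv1 D199207) D199209 (iv5 D137880) (iv4 F172299) F172173 (iv0 F171807) (iv5 F228390) F402440 (iv4 F411168)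
theorem F411181 : act 1 n199209 = n137781 := d17_6 (iv1 D51240) (iv5 D24920) D24917 D51229 D111071 D199209 (iv5 D137781) F219213 F80831
def n199210 : Q := act 6 n111071
theorem D199210 : act 6 n111071 = n199210 := rfl
theorem F411182 : act 3 n199210 = n175700 := d7_1 D199210 F411176 (iv3 D199208)
theorem F411183 : act 4 n199210 = n111072 := d10_1 D199210 (iv6 D111072) D111071
theorem F411184 : act 7 n193428 = n199210 := d11_0 F411183 (iv7 F402569) F402565
def n199211 : Q := act 5 n111072
theorem D199211 : act 5 n111072 = n199211 := rfl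
theorem F411185 : act 2 n199211 = n140587 := d2_1 D199211 F402236 F402232
theorem F411186 : act 6 n199211 = n111076 := d12_2 D111072 D199211 (iv5 D111076) (iv6 D51230) D51229
def n199212 : Q := act 5 n111074
theorem D199212 : act 5 n111074 = n199212 := rfl
theorem F411187 : act 2 n199212 = n195318 := d2_1 D199212 F396683 F386816
theorem F411188 : act 4 n199212 = n195315 := d9_1 D199212 (iv5 D195315) F162000 D126670 F362700 (iv5 F362701) (iv4 F165219) D196678 F401461 F219364 F162003 F93811 (iv4 F100695) D138022 (iv4 F386813)
def n199213 : Q := act 0 n111076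
theorem D199213 : act 0 n111076 = n199213 := rfl
def n199214 : Q := act 4 n111076
theorem D199214 : act 4 n111076 = n199214 := rfl
def n199215 : Q := act 7 n111076
theorem D199215 : act 7 n111076 = n199215 := rfl
theorem F411189 : act 5 n199215 = n111077 := d13_1 D199215 (iv7 D111077) D111076
def n199216 : Q := act 5 n111078
theorem D199216 : act 5 n111078 = n199216 := rfl
theorem F411190 : act 2 n199216 = n111090 := d2_1 D199216 (iv5 D111090) (iv2 F172268)
theorem F411191 : act 3 n199216 = n187992 := d6_1 D199216 F400444 F400442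
def n199217 : Q := act 6 n111080
theorem D199217 : act 6 n111080 = n199217 := rfl
theorem F411192 : act 2 n199217 = n111083 := d3_1 D199217 (iv6 D111083) D111080
theorem F411193 : act 4 n199217 = n190053 := d10_1 D199217 F378663 (iv4 F206757)
theorem F411194 : act 5 n199217 = n153757 := d12_1 D199217 (iv6 D153757) (iv5 D72742) F324033 F180286
theorem F411195 : act 0 n194533 = n199217 := d18_2 (iv1 F159180) D194533 F411193 (iv5 D190053) F340929 (iv0 D48028) F36289 D23180 D48040
theorem F411196 : act 1 n194531 = n199217 := d18_6 F368498 (iv4 D127685) (iv1 D59945) (iv4 F94414) (iv5 F320990) D194531 F411193 F378704 (iv5 F368496)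
def n199218 : Q := act 5 n111081
theorem D199218 : act 5 n111081 = n199218 := rfl
theorem F411197 : act 4 n199218 = n140853 := d9_1 D199218 (iv5 D140853) F101742 (iv5 F320922) (iv4 F182476) F400378 F400375 (iv5 F399727) F399726 F164508 (iv4 F115233) (iv5 F322806) (iv4 F172278) (iv5 D111082) D111081
theorem F411198 : act 6 n199218 = n189849 := d12_2 F346809 D199218 F377982 F307166 D177147
theorem F411199 : act 7 n199218 = n195811 := d13_2 F401725 D199218 (iv5 F401721)
theorem F411200 : act 0 n199218 = n196958 := d17_2 F172274 D199218 (iv5 D196958) (iv4 D107497) (iv5 F166900) F78402 F78398 F80765 D111017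
theorem F411201 : act 1 n199218 = n196949 := d17_6 F225591 F180735 (iv1 F172277) (iv5 D111082) D111081 D199218 (iv5 D196949) F379944 F379942
def n199219 : Q := act 0 n111083
theorem D199219 : act 0 n111083 = n199219 := rfl
theorem F411202 : act 4 n199219 = n190315 := d18_3 (iv1 F391370) F346808 D199219 (iv5 D190315) F317119 F341039 (iv4 F267881) F366429 (iv5 F391367)
theorem F411203 : act 0 n193623 = n192839 := d20_4 D194244 F392472 (iv4 D193624) D193623 F387986 F346808 D199219 F411202 (iv3 F382081) F382084
theorem F411204 : act 2 n194531 = n199219 := d1_3 F411202 F379353 D194531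
theorem F411205 : act 3 n193342 = n199219 := d5_5 F411202 (iv3 F382081) F382083 F271057 D193342
theorem F411206 : act 7 n194533 = n199219 := d11_0 F411202 F379355 D194533
def n199220 : Q := act 1 n111083
theorem D199220 : act 1 n111083 = n199220 := rfl
theorem F411207 : act 7 n199220 = n194531 := d15_2 (iv0 D199219) D199220 F411204
theorem F411208 : act 4 n199220 = n194454 := d18_7 (iv1 D47986) F36226 D38924 D84415 D177147 F346808 D199220 F393274 (iv5 D103606)
theorem F411209 : act 2 n194533 = n199220 := d1_3 F411208 (iv2 F393277) D194533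
theorem F411210 : act 6 n194584 = n199220 := d10_0 F411208 (iv6 F393279) D194584
def n199221 : Q := act 5 n111083
theorem D199221 : act 5 n111083 = n199221 := rfl
theorem F411211 : act 2 n199221 = n153757 := d2_1 D199221 (iv5 F411194) F411192
theorem F411212 : act 3 n199221 = n111090 := d6_1 D199221 (iv5 D111090) (iv3 F172285)
theorem F411213 : act 6 n199221 = n153516 := d12_2 D111083 D199221 (iv5 D153516) (iv6 F324274) (iv5 D111082)
theorem F411214 : act 0 n199221 = n194559 := d17_2 (iv1 D199220) D199221 F393691 F159196 F75502 F75369 D103602 D194454 (iv4 F411208)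
theorem F411215 : act 1 n199221 = n194460 := d17_6 (iv1 D184217) (iv5 D87862) (iv1 F346807) D177147 F346808 D199221 (iv5 D194460) D194458 F393298
theorem F411216 : act 7 n194557 = n199221 := d14_0 F411213 F241272 (iv6 F345113) F312822 F393685
theorem F411217 : act 2 n187992 = n194686 := d0_3 F411212 (iv2 F411190) F411191 (iv3 F394090) (iv2 F411211)
theorem F411218 : act 4 n194686 = n191956 := d1_2 (iv4 F400454) F411217 F384999
theorem F411219 : act 7 n194687 = n187992 := d15_2 (iv0 D194686) D194687 F411217
theorem F411220 : act 7 n187993 = n194686 := d15_2 (iv0 D187992) D187993 (iv2 F411217)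
theorem F411221 : act 2 n194687 = n187993 := d4_3 F411220 (iv2 F411217) (iv7 F411219)
theorem F411222 : act 4 n191957 = n194687 := d1_0 F411221 F372227 (iv2 F384991)
theorem F411223 : act 6 n194687 = n192644 := d10_2 F384989 F411222 (iv4 D192644)
def n199222 : Q := act 7 n111083
theorem D199222 : act 7 n111083 = n199222 := rfl
theorem F411224 : act 3 n199222 = n111091 := d8_1 D199222 (iv7 D111091) (iv3 F172285)
theorem F411225 : act 4 n199222 = n190056 := d11_1 D199222 F378702 F346808
theorem F411226 : act 5 n199222 = n194557 := d13_1 D199222 F411216 (iv5 D199221)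
theorem F411227 : act 1 n194533 = n199222 := d15_1 (iv0 F411195) (iv7 D199222) (iv2 F411192)
theorem F411228 : act 1 n199222 = n194531 := d15_1 F411227 (iv7 F411207) (iv2 F411209)
def n199223 : Q := act 4 n111084
theorem D199223 : act 4 n111084 = n199223 := rfl
theorem F411229 : act 0 n199223 = n141232 := d18_2 (iv1 F411137) D199223 (iv4 D141232) F101835 F84350 D107427 D196888 F402181 (iv5 F411134)
def n199224 : Q := act 6 n111084
theorem D199224 : act 6 n111084 = n199224 := rfl
theorem F411230 : act 2 n199224 = n188158 := d3_1 D199224 F411156 F411150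
theorem F411231 : act 0 n199224 = n192964 := d21_4 F361546 F102247 D111084 D199224 (iv6 D192964) (iv5 D101038) (iv1 F74326) (iv5 F74348) D101118 F344197
theorem F411232 : act 1 n199224 = n193008 := d15_1 (iv0 F411231) (iv7 D193008) (iv2 F388359)
def n199225 : Q := act 0 n111085
theorem D199225 : act 0 n111085 = n199225 := rfl
theorem F411233 : act 6 n199225 = n149012 := d21_5 (iv5 F411134) (iv1 F411137) (iv5 D111084) D111085 D199225 (iv5 D149012) (iv1 F107097) (iv5 F236192) F402169 F402168
theorem F411234 : act 5 n193384 = n199225 := d12_5 F411233 (iv5 D149012) (iv6 F312671) F312670 D193384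
theorem F411235 : act 0 n199225 = n189152 := d21_4 (iv5 D69886) D69884 D149012 (iv6 F411233) (iv6 F386872) (iv5 F386875) F395908 F395905 F390012 (iv1 D149018)
def n199226 : Q := act 1 n111085
theorem D199226 : act 1 n111085 = n199226 := rfl
theorem F411236 : act 1 n199226 = n189152 := d15_1 D199226 (iv7 F411166) F411162
theorem F411237 : act 4 n142814 = n199226 := d20_6 F411202 F379356 F356926 (iv3 D153686) F322350 D142814 (iv1 D199226) F172286 (iv3 F172285) D199219
theorem F411238 : act 3 n143250 = n199226 := d20_9 F172286 (iv1 F393619) D196735 F401635 F171729 F321533 (iv4 D80604) D80602 (iv4 F361414) (iv1 D199226)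
def n199227 : Q := act 5 n111085
theorem D199227 : act 5 n111085 = n199227 := rfl
theorem F411239 : act 2 n199227 = n188697 := d2_1 D199227 (iv5 F411165) F411162
theorem F411240 : act 3 n199227 = n189135 := d6_1 D199227 F375853 F222479
theorem F411241 : act 0 n188261 = n199227 := d21_10 (iv5 D199227) D199225 (iv5 F411234) (iv6 D193384) (iv1 D101551) F295430 (iv5 D43618) D43615 (iv5 F357623) D188261
theorem F411242 : act 7 n189150 = n199227 := d4_0 F411239 F380060 D189150
theorem F411243 : act 1 n189149 = n199227 := d15_1 D189149 (iv7 F411242) (iv2 D189150)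
def n199228 : Q := act 7 n111085
theorem D199228 : act 7 n111085 = n199228 := rfl
theorem F411244 : act 2 n199228 = n189152 := d4_1 D199228 (iv7 F411166) F411162
theorem F411245 : act 4 n199228 = n111091 := d11_1 D199228 (iv7 D111091) (iv4 F172286)
theorem F411246 : act 5 n199228 = n189150 := d13_1 D199228 F411242 (iv5 D199227)
def n199229 : Q := act 6 n111086
theorem D199229 : act 6 n111086 = n199229 := rfl
theorem F411247 : act 2 n199229 = n193859 := d3_1 D199229 F402226 F402217
theorem F411248 : act 3 n199229 = n118732 := d7_1 D199229 F363012 F172287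
theorem F411249 : act 4 n199229 = n111087 := d10_1 D199229 (iv6 D111087) D111086
theorem F411250 : act 0 n199229 = n193853 := d21_4 D137880 F221108 (iv5 F172288) D199229 (iv6 D193853) (iv5 D102401) (iv1 F139258) D187712 (iv6 F371282) (iv1 F172298)
theorem F411251 : act 1 n199229 = n193860 := d15_1 (iv0 F411250) (iv7 D193860) (iv2 F391214)
theorem F411252 : act 7 n118890 = n199229 := d11_0 F411249 F366149 (iv4 F186944)
def n199230 : Q := act 5 n111087
theorem D199230 : act 5 n111087 = n199230 := rfl
theorem F411253 : act 3 n199230 = n153516 := d6_1 D199230 (iv5 D153516) (iv3 F366148)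
theorem F411254 : act 6 n199230 = n111090 := d12_2 D111087 D199230 (iv5 D111090) (iv6 D51235) D51234
theorem F411255 : act 7 n199230 = n153744 := d13_2 (iv7 F366149) D199230 (iv5 D153744)
theorem F411256 : act 0 n199230 = n196579 := d20_4 F350049 F231727 (iv4 F241271) (iv3 F411253) (iv3 D196579) F339935 (iv1 D92964) D92965 F339940 (iv1 F350047)
def n199231 : Q := act 5 n111089
theorem D199231 : act 5 n111089 = n199231 := rfl
def n199232 : Q := act 0 n111090
theorem D199232 : act 0 n111090 = n199232 := rfl
def n199233 : Q := act 1 n111090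
theorem D199233 : act 1 n111090 = n199233 := rfl
def n199234 : Q := act 4 n111090
theorem D199234 : act 4 n111090 = n199234 := rfl
def n199235 : Q := act 7 n111090
theorem D199235 : act 7 n111090 = n199235 := rfl
theorem F411257 : act 3 n199235 = n194557 := d8_1 D199235 F411216 F411212
theorem F411258 : act 5 n199235 = n111091 := d13_1 D199235 (iv7 D111091) D111090
theorem F411259 : act 6 n193383 = n199235 := d7_0 F411257 (iv6 F393685) F389654
theorem F411260 : act 4 n193384 = n199235 := d19_2 D199225 (iv5 F411234) F411257 (iv1 D194557) (iv5 D103767) (iv4 D48044) F36290 D47825 (iv5 F334503) F334502 F243014 F230591 (iv5 D147094) (iv4 F314846) (iv3 F74213) D100793 D192839 (iv4 F387987) F222479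
theorem F411261 : act 7 n199234 = n193384 := d11_0 F411260 (iv7 D199235) D199234
def n199236 : Q := act 0 n111101
theorem D199236 : act 0 n111101 = n199236 := rfl
theorem F411262 : act 4 n199236 = n138048 := d18_3 F351825 F220514 D199236 F363871 F226274 (iv0 F341198) F330187 F242108 D124424
theorem F411263 : act 3 n199236 = n142747 := d20_5 F406968 F221408 F338273 (iv3 F172293) D199236 F322339 (iv1 F129580) D84446 (iv3 F361560) F406969
theorem F411264 : act 7 n111110 = n199236 := d8_0 F411263 F366259 F359940
theorem F411265 : act 0 n199236 = n111111 := d19_4 F115388 (iv5 F299108) (iv4 F322339) (iv3 F411263) (iv5 F346370) F272621 F128250 F298318 (iv5 D35218) F28040 F12779 D8003 D17106 D35251 D77223 (iv1 F318085) F298815 (iv4 F123673) F123672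
theorem F411266 : act 2 n199236 = n111109 := d15_3 (iv0 D111109) D111110 F411264
def n199237 : Q := act 1 n111101
theorem D199237 : act 1 n111101 = n199237 := rfl
theorem F411267 : act 1 n199237 = n111111 := d15_1 D199237 (iv7 D111111) (iv2 F172292)
theorem F411268 : act 7 n199237 = n111109 := d15_2 (iv0 D199236) D199237 (iv2 F411266)
theorem F411269 : act 2 n111110 = n199237 := d4_3 F411268 (iv2 F411266) (iv7 F411264)
def n199238 : Q := act 7 n111101
theorem D199238 : act 7 n111101 = n199238 := rfl
theorem F411270 : act 2 n199238 = n111111 := d4_1 D199238 (iv7 D111111) (iv2 F172292)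
theorem F411271 : act 3 n199238 = n137242 := d8_1 D199238 F361566 (iv3 F172293)
theorem F411272 : act 6 n199238 = n125498 := d14_1 D199238 F201851 F92850 (iv7 F80826) D111101
theorem F411273 : act 1 n111110 = n199238 := d15_1 D111110 (iv7 D199238) F172292
theorem F411274 : act 1 n199238 = n111109 := d15_1 F411273 (iv7 F411268) (iv2 F411269)
def n199239 : Q := act 6 n111102
theorem D199239 : act 6 n111102 = n199239 := rfl
theorem F411275 : act 3 n199239 = n111105 := d7_1 D199239 (iv6 D111105) D111102
theorem F411276 : act 4 n199239 = n158585 := d10_1 D199239 (iv6 F344759) (iv4 F172295)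
theorem F411277 : act 7 n176162 = n199239 := d11_0 F411276 (iv7 F249764) D176162
def n199240 : Q := act 5 n111103
theorem D199240 : act 5 n111103 = n199240 := rfl
theorem F411278 : act 2 n199240 = n137888 := d2_1 D199240 F221116 (iv2 F172296)
theorem F411279 : act 3 n199240 = n137940 := d6_1 D199240 (iv5 D137940) F172300
theorem F411280 : act 6 n199240 = n186711 := d12_2 (iv6 F371282) D199240 F371292 (iv6 D187713) D187712
theorem F411281 : act 7 n199240 = n137882 := d13_2 (iv7 F172297) D199240 (iv5 D137882)
theorem F411282 : act 0 n199240 = n137885 := d17_2 F219212 D199240 F402443 (iv4 D196956) F166901 (iv0 F228375) (iv5 F336129) F336128 (iv4 D137780)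
theorem F411283 : act 4 n146860 = n199240 := d5_0 F411279 F221196 (iv3 D68847) D68848 D146860
theorem F411284 : act 0 n137391 = n146860 := d20_1 D137391 F411283 F411279 F221198 (iv3 F203000) (iv4 D126229) (iv1 F219100) F349679 F349682 F336144
theorem F411285 : act 0 n137818 = n199240 := d20_4 F347242 (iv1 F345904) F345905 D137818 F411279 F221196 (iv1 F114433) (iv4 F114432) (iv3 F220073) (iv1 F225959)
theorem F411286 : act 5 n146860 = n199066 := d17_1 F411284 (iv1 D199066) D199068 F410527 (iv5 D198934) F171411 (iv5 F336142) F336141 D137391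
theorem F411287 : act 3 n199066 = n146861 := d6_1 F411286 (iv5 D146861) D146860
def n199241 : Q := act 5 n111105
theorem D199241 : act 5 n111105 = n199241 := rfl
theorem F411288 : act 2 n199241 = n198943 := d2_1 D199241 (iv5 D198943) (iv2 F172304)
theorem F411289 : act 0 n196744 = n199241 := d19_0 (iv5 D199241) (iv4 F371283) F371279 F325112 (iv5 F331230) (iv4 D166261) (iv3 F327382) F71537 F71535 D95364 F358930 (iv1 D166465) D166468 (iv4 F358938) (iv3 D159454) (iv1 D76273) (iv5 F83357) (iv4 F339921) D196744
def n199242 : Q := act 1 n111108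
theorem D199242 : act 1 n111108 = n199242 := rfl
theorem F411290 : act 1 n199242 = n196671 := d15_1 D199242 (iv7 F401432) (iv2 F172312)
theorem F411291 : act 7 n199242 = n196672 := d15_2 (iv0 F362569) D199242 (iv2 D196672)
theorem F411292 : act 4 n143376 = n199242 := d20_6 (iv4 F343287) F318370 D141767 F341554 (iv1 F184219) (iv3 F226132) (iv1 D199242) F172313 F100652 D64821
theorem F411293 : act 2 n199242 = n127085 := d1_1 F411292 (iv4 F218930) (iv2 F365530)
theorem F411294 : act 3 n199242 = n196677 := d5_1 F411292 F401455 F357363 F221290 (iv3 F226132)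
def n199243 : Q := act 5 n111108
theorem D199243 : act 5 n111108 = n199243 := rfl
theorem F411295 : act 2 n199243 = n198942 := d2_1 D199243 (iv5 D198942) (iv2 F172312)
theorem F411296 : act 4 n199243 = n163190 := d16_2 (iv4 F172313) D199243 (iv5 F352282) (iv4 F352286) (iv5 F354848) (iv4 F383404) (iv5 F391205) F391206 F221111
def n199244 : Q := act 7 n111108
theorem D199244 : act 7 n111108 = n199244 := rfl
theorem F411297 : act 2 n199244 = n196671 := d4_1 D199244 (iv7 F401432) (iv2 F172312)
theorem F411298 : act 4 n199244 = n137892 := d11_1 D199244 (iv7 D137892) (iv4 F172313)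
theorem F411299 : act 6 n199244 = n196738 := d14_1 D199244 F401643 (iv6 D110744) F102787 D111108
theorem F411300 : act 1 n127085 = n199244 := d15_1 (iv0 F401802) (iv7 D199244) F172312
theorem F411301 : act 1 n199244 = n196672 := d15_1 F411300 (iv7 F411291) F411293
def n199245 : Q := act 3 n111109
theorem D199245 : act 3 n111109 = n199245 := rfl
theorem F411302 : act 2 n199245 = n175036 := d0_1 D199245 F360016 F366258 (iv3 F411263) F411266
theorem F411303 : act 4 n199245 = n162629 := d20_6 F163977 (iv1 D31714) (iv4 F39068) (iv3 F80832) D111109 D199245 (iv1 F402012) F402008 F165434 (iv1 F78354)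
theorem F411304 : act 6 n162628 = n199245 := d10_0 F411303 (iv6 D162629) D162628
theorem F411305 : act 5 n199245 = n124451 := d21_6 D153755 F373297 F373295 F352782 (iv1 F303412) F411304 (iv1 D124451) D124453 (iv6 F353009) (iv1 D153753)
theorem F411306 : act 2 n124451 = n198277 := d2_1 F411305 F407443 (iv2 F411302)
theorem F411307 : act 7 n198278 = n124451 := d15_2 (iv0 D198277) D198278 F411306
theorem F411308 : act 7 n124450 = n198277 := d15_2 F407435 F407436 (iv2 F411306)
theorem F411309 : act 2 n198278 = n124450 := d4_3 F411308 (iv2 F411306) (iv7 F411307)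
def n199246 : Q := act 4 n111109
theorem D199246 : act 4 n111109 = n199246 := rfl
theorem F411310 : act 2 n199246 = n138048 := d1_1 D199246 (iv4 F411262) F411266
theorem F411311 : act 5 n199246 = n174812 := d18_4 (iv1 D137332) F100503 D111109 D199246 (iv4 F341204) F341202 (iv4 F125888) (iv0 F351602) F351625
theorem F411312 : act 3 n199246 = n174813 := d20_3 F100503 D111109 D199246 F354780 F248385 D157628 (iv1 F388886) (iv4 D193139) (iv3 F351627) (iv1 D137332)
theorem F411313 : act 0 n137782 = n199246 := d17_2 D135422 F371284 F411311 (iv4 F341204) F341207 (iv0 F328945) (iv5 D135429) (iv0 D63660) (iv4 F98984)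
theorem F411314 : act 1 n192659 = n199246 := d17_6 F389006 F351607 F272567 (iv5 F387373) F387372 D192659 F411311 (iv0 F383604) (iv4 F389004)
def n199247 : Q := act 5 n111109
theorem D199247 : act 5 n111109 = n199247 := rfl
theorem F411315 : act 3 n199247 = n124451 := d6_1 D199247 (iv5 F411305) (iv3 D199245)
def n199248 : Q := act 6 n111109
theorem D199248 : act 6 n111109 = n199248 := rfl
theorem F411316 : act 3 n199248 = n162628 := d7_1 D199248 F411304 (iv3 D199245)
theorem F411317 : act 7 n173379 = n199248 := d8_0 F411316 F303415 D173379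
def n199249 : Q := act 4 n111110
theorem D199249 : act 4 n111110 = n199249 := rfl
theorem F411318 : act 3 n199249 = n136660 := d5_1 D199249 F339088 F263959 D167679 F359940
theorem F411319 : act 7 n199249 = n138048 := d11_2 (iv7 F411264) D199249 (iv4 F411262)
theorem F411320 : act 1 n199249 = n192659 := d18_8 F363859 F98984 D63660 D135428 F334183 F100503 D111110 D199249 (iv5 D192659)
theorem F411321 : act 1 n137782 = n199249 := d15_0 F411320 F391944 F391941
def n199250 : Q := act 5 n111110
theorem D199250 : act 5 n111110 = n199250 := rfl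
theorem F411322 : act 1 n199250 = n160539 := d17_8 F319511 (iv5 D83184) (iv1 D38292) D38293 D83188 (iv5 F333001) D111110 D199250 (iv4 D160539)
theorem F411323 : act 0 n199250 = n160544 := d18_0 (iv4 D160544) (iv1 D76973) (iv4 F115501) D160395 (iv4 F351463) (iv0 D137331) F100503 D111110 D199250
theorem F411324 : act 4 n191394 = n199250 := d16_6 D199246 F411311 (iv4 F341204) F341207 (iv4 F273680) (iv5 F383318) (iv5 D199250) F411264 F411266
theorem F411325 : act 6 n199250 = n191393 := d10_2 D191394 F411324 (iv4 D191393)
def n199251 : Q := act 6 n111110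
theorem D199251 : act 6 n111110 = n199251 := rfl
def n199252 : Q := act 3 n111112
theorem D199252 : act 3 n111112 = n199252 := rfl
theorem F411326 : act 7 n199252 = n198225 := d8_2 (iv7 F410782) D199252 (iv3 F410777)
theorem F411327 : act 4 n199252 = n197581 := d20_6 F163988 (iv1 D24925) (iv4 F39070) (iv3 F80833) D111112 D199252 (iv1 D197581) F167716 F164970 (iv1 F78348)
theorem F411328 : act 2 n198220 = n199252 := d1_3 F411327 (iv2 F404906) (iv4 F407264)
theorem F411329 : act 5 n199252 = n198218 := d2_2 D198220 F411328 (iv2 D198218)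
def n199253 : Q := act 5 n111112
theorem D199253 : act 5 n111112 = n199253 := rfl
theorem F411330 : act 2 n199253 = n198682 := d2_1 D199253 F410787 (iv2 F410786)
theorem F411331 : act 3 n199253 = n198218 := d6_1 D199253 (iv5 F411329) (iv3 D199252)
theorem F411332 : act 7 n199253 = n198223 := d13_2 (iv7 F410782) D199253 (iv5 F410776)
theorem F411333 : act 4 n199253 = n198620 := d16_2 (iv4 F361562) D199253 (iv5 D198620) (iv4 D109701) (iv5 F99647) (iv4 F219297) (iv5 F220370) (iv7 F408846) F408844
theorem F411334 : act 1 n199253 = n197793 := d17_8 (iv1 F408604) F365852 (iv1 D109697) D109698 D198615 F408542 F361563 D199253 (iv4 F408600)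
theorem E103765 : n198218 = n198208 := (c20_4 (iv4 F365849) (iv1 F408572) (iv4 F411333) F411331 (iv1 F407235) F169056 (iv4 F169059) (iv1 F169062) F168959 D108954 F365846)
theorem F411335 : act 2 n198208 = n109055 := (sb E103765 (iv2 D198218))
theorem F411336 : act 3 n198208 = n199253 := (sb E103765 (iv3 F411331))
theorem F411337 : act 5 n198208 = n199252 := (sb E103765 (iv5 F411329))
theorem F411338 : act 7 n198208 = n109056 := (sb E103765 (iv7 F407263))
theorem E103766 : n198222 = n198209 := (c15_4 F407233 F407235 F411338 (iv2 F407266))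
theorem F411339 : act 2 n198209 = n109056 := (sb E103766 F407266)
theorem F411340 : act 7 n198209 = n109055 := (sb E103766 (iv7 D198222))
def n199254 : Q := act 6 n111112
theorem D199254 : act 6 n111112 = n199254 := rfl
def n199255 : Q := act 3 n111113
theorem D199255 : act 3 n111113 = n199255 := rfl
def n199256 : Q := act 5 n111113
theorem D199256 : act 5 n111113 = n199256 := rfl
theorem F411341 : act 2 n199256 = n198223 := d2_1 D199256 (iv5 F410776) (iv2 F410781)
theorem F411342 : act 4 n199256 = n198618 := d9_1 D199256 (iv5 D198618) (iv4 D109700) F100573 (iv4 F220759) (iv5 F220762) (iv4 F361562) D199253 F411333 (iv5 D198620) (iv4 D109701) (iv5 F99647) (iv4 F219297) (iv5 F220370) F361572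
theorem F411343 : act 7 n199256 = n198682 := d13_2 F410784 D199256 F410787
theorem F411344 : act 1 n197793 = n199256 := d15_1 F411334 F411343 (iv2 F411330)
def n199257 : Q := act 6 n111113
theorem D199257 : act 6 n111113 = n199257 := rfl
theorem F411345 : act 2 n199257 = n193485 := d3_1 D199257 (iv6 F410779) (iv2 F410781)
theorem F411346 : act 4 n199257 = n193483 := d10_1 D199257 F390009 F361572
def n199258 : Q := act 1 n111117
theorem D199258 : act 1 n111117 = n199258 := rfl
theorem F411347 : act 1 n199258 = n196252 := d15_1 D199258 F400064 (iv2 F172321)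
theorem F411348 : act 7 n199258 = n127087 := d15_2 (iv0 F245361) D199258 F204332
theorem F411349 : act 4 n199258 = n125481 := d17_9 F201804 F100216 (iv1 D29336) (iv5 F24580) (iv4 F50024) D68124 D145308 (iv5 F228342) D199258
theorem F411350 : act 6 n125480 = n199258 := d21_3 D49470 D107097 (iv5 F201798) (iv1 D199258) (iv6 D111117) (iv5 F351077) (iv1 F401133) (iv5 D196578) (iv6 D107096) (iv1 D49469)
theorem F411351 : act 2 n199258 = n144299 := d3_1 F411350 (iv6 D144299) (iv2 F201796)
theorem F411352 : act 5 n199258 = n196423 := d21_6 D106942 F164828 (iv5 D58752) D58753 (iv1 F201799) F411350 (iv1 D196423) (iv5 D106966) (iv6 D49417) (iv1 F78133)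
def n199259 : Q := act 6 n111118
theorem D199259 : act 6 n111118 = n199259 := rfl
theorem F411353 : act 2 n199259 = n140648 := d3_1 D199259 F351096 (iv2 F351084)
theorem F411354 : act 3 n199259 = n111120 := d7_1 D199259 (iv6 D111120) D111118
def n199260 : Q := act 4 n111119
theorem D199260 : act 4 n111119 = n199260 := rfl
theorem F411355 : act 2 n199260 = n196883 := d1_1 D199260 (iv4 D196883) (iv2 F172324)
theorem F411356 : act 3 n199260 = n123013 := d5_1 D199260 F299239 (iv3 F298901) (iv4 F118753) (iv3 F351080)
theorem F411357 : act 5 n199260 = n196497 := d9_2 D111119 D199260 F400850 (iv5 F398766) (iv4 D195934) (iv5 D106445) (iv4 F165543) (iv5 F351077) (iv4 F173059) F400858 F400853 (iv5 F398771) (iv4 D195935) (iv5 D106450) (iv4 F165545)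
theorem F411358 : act 7 n199260 = n123332 := d11_2 (iv7 F172325) D199260 F351073
def n199261 : Q := act 6 n111119
theorem D199261 : act 6 n111119 = n199261 := rfl
theorem F411359 : act 2 n199261 = n196884 := d3_1 D199261 (iv6 D196884) (iv2 F172324)
theorem F411360 : act 3 n199261 = n124446 := d7_1 D199261 (iv6 D124446) (iv3 F351080)
theorem F411361 : act 0 n128809 = n199261 := d21_4 (iv5 D49408) (iv1 F46407) D60578 D128809 (iv6 D199261) (iv5 D111119) (iv1 D51244) (iv5 F80710) (iv6 D51163) (iv1 F78137)
def n199262 : Q := act 6 n111121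
theorem D199262 : act 6 n111121 = n199262 := rfl
theorem F411362 : act 2 n199262 = n197736 := d3_1 D199262 F405581 (iv2 F364758)
theorem F411363 : act 3 n199262 = n123040 := d7_1 D199262 (iv6 F253288) F353082
theorem F411364 : act 4 n199262 = n177794 := d10_1 D199262 F402117 F402111
theorem F411365 : act 7 n199262 = n123485 := d14_2 F364757 D199262 (iv6 F409168) F409169 (iv6 F364756)
theorem F411366 : act 0 n197857 = n199262 := d21_4 (iv5 F164793) D196372 (iv5 F400501) D197857 (iv6 D199262) F172329 F247366 (iv5 F405802) (iv6 D197789) F356737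
theorem F411367 : act 1 n198052 = n199262 := d15_1 D198052 F411365 F345337
theorem F411368 : act 5 n198052 = n193728 := d19_1 (iv1 F411367) F390798 (iv3 F378407) F369955 F378794 F378792 F366327 (iv1 D97138) (iv5 D45399) (iv4 F71229) F310782 F309609 F104934 (iv4 F310586) (iv3 F123092) F152294 D98173 (iv4 F300433) (iv3 F411363)
def n199263 : Q := act 3 n111126
theorem D199263 : act 3 n111126 = n199263 := rfl
theorem F411369 : act 5 n199263 = n157078 := d6_2 (iv5 F380326) D199263 (iv3 F367400)
theorem F411370 : act 7 n199263 = n156235 := d8_2 (iv7 F380327) D199263 (iv3 F342224)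
theorem F411371 : act 4 n199263 = n156211 := d20_6 (iv4 D34131) (iv1 F26142) D24926 D51259 D111126 D199263 (iv1 F245483) F111524 (iv3 D63027) F53580
theorem F411372 : act 2 n156246 = n199263 := d1_3 F411371 F245480 (iv4 F245560)
theorem F411373 : act 1 n156242 = n199263 := d17_8 (iv1 F245483) F318300 (iv1 F130437) D85138 F274444 F274443 (iv0 F274364) (iv5 F332250) F411371
theorem F411374 : act 0 n156241 = n199263 := d18_0 F411371 (iv1 F245483) F111524 (iv5 F172434) F315807 F130429 D85131 (iv0 F274357) F332264
def n199264 : Q := act 4 n111126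
theorem D199264 : act 4 n111126 = n199264 := rfl
theorem F411375 : act 3 n199264 = n198025 := d5_1 D199264 F406548 F404217 (iv4 F411371) (iv3 D199263)
theorem F411376 : act 7 n199264 = n192375 := d11_2 (iv7 F380327) D199264 F386604
def n199265 : Q := act 6 n111126
theorem D199265 : act 6 n111126 = n199265 := rfl
theorem F411377 : act 2 n199265 = n192381 := d3_1 D199265 F386614 F380325
theorem F411378 : act 7 n199265 = n191545 := d14_2 (iv7 F380327) D199265 F383756 F268280 D100128
theorem F411379 : act 0 n199265 = n113520 := d21_10 (iv5 D113520) (iv1 F383747) D98623 F152020 F292692 (iv6 F335711) (iv5 F335713) D186599 (iv5 F380326) D199265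
theorem F411380 : act 5 n191546 = n199265 := d17_1 (iv1 F383759) F411379 (iv5 D113520) (iv4 D52397) (iv5 D25432) D25430 D52390 F176681 F355868
theorem F411381 : act 0 n191670 = n199265 := d21_1 D191670 (iv5 F411380) F383757 (iv1 F327933) (iv6 D102636) F74854 (iv1 F72680) (iv5 D46103) D46104 D98621
theorem F411382 : act 1 n192381 = n195144 := d15_0 F395961 (iv7 F411378) F411377
def n199266 : Q := act 3 n111127
theorem D199266 : act 3 n111127 = n199266 := rfl
theorem F411383 : act 2 n199266 = n156243 := d0_1 D199266 (iv3 D156243) (iv2 F245545) (iv3 F342224) F380322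
theorem F411384 : act 4 n199266 = n156270 := d5_2 F388187 D199266 (iv3 F404100) F404101 F403837
theorem F411385 : act 6 n199266 = n191913 := d7_2 F380323 D199266 (iv3 D191913)
def n199267 : Q := act 5 n111128
theorem D199267 : act 5 n111128 = n199267 := rfl
theorem F411386 : act 2 n199267 = n111129 := d2_1 D199267 (iv5 D111129) D111128
theorem F411387 : act 3 n199267 = n138308 := d6_1 D199267 (iv5 D138308) (iv3 F172339)
theorem F411388 : act 6 n199267 = n188344 := d12_2 F375625 D199267 (iv5 D188344) D188345 F373134
theorem F411389 : act 0 n199267 = n194078 := d21_4 F157483 (iv1 F372994) D188344 (iv6 F411388) (iv6 D194078) (iv5 F344560) D198641 F408666 (iv6 F391602) (iv1 D193980)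
def n199268 : Q := act 4 n111129
theorem D199268 : act 4 n111129 = n199268 := rfl
theorem F411390 : act 3 n199268 = n134416 := d5_1 D199268 (iv4 D134416) (iv3 D63139) (iv4 F80851) (iv3 F172341)
theorem F411391 : act 6 n199268 = n198211 := d10_2 (iv6 F343209) D199268 F407240
theorem F411392 : act 7 n199268 = n186981 := d11_2 F172472 D199268 F368747
theorem F411393 : act 0 n199268 = n176927 := d17_0 (iv5 D176927) D176925 F353334 F137323 D89578 F329724 (iv5 F361301) (iv0 F366643) D199268
theorem F411394 : act 0 n193634 = n186995 := d20_1 (iv4 F390518) (iv4 F387990) F387989 (iv1 F347839) F368712 F368711 F354731 D134416 (iv3 F411390) F411393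
def n199269 : Q := act 3 n111132
theorem D199269 : act 3 n111132 = n199269 := rfl
theorem F411395 : act 4 n199269 = n157173 := d5_2 (iv4 F172346) D199269 (iv3 D157173) (iv4 D74729) D74728
theorem F411396 : act 5 n199269 = n183019 := d6_2 F181225 D199269 (iv3 F343172)
theorem F411397 : act 6 n199269 = n139337 := d7_2 F172348 D199269 (iv3 D139337)
theorem F411398 : act 7 n199269 = n138326 := d8_2 F172349 D199269 (iv3 D138326)
theorem F411399 : act 2 n192980 = n199269 := d3_3 F411397 F328893 D192980
theorem F411400 : act 0 n135148 = n183019 := d21_1 F410505 (iv5 F411396) F411397 F328891 F155641 (iv5 D70656) (iv1 F232741) D150093 (iv6 F391805) (iv1 F410504)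
def n199270 : Q := act 4 n111134
theorem D199270 : act 4 n111134 = n199270 := rfl
theorem F411401 : act 2 n199270 = n138329 := d1_1 D199270 (iv4 D138329) (iv2 F172354)
theorem F411402 : act 5 n199270 = n141977 := d16_1 D199270 F225009 F102411 F49467 (iv5 F48919) (iv4 F100771) (iv5 F221529) (iv7 D138330) (iv2 F172354)
theorem F411403 : act 7 n141976 = n199270 := d13_0 F411402 (iv7 D141977) D141976
def n199271 : Q := act 7 n111134
theorem D199271 : act 7 n111134 = n199271 := rfl
theorem F411404 : act 2 n199271 = n138330 := d4_1 D199271 (iv7 D138330) (iv2 F172354)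
theorem F411405 : act 3 n199271 = n192486 := d8_1 D199271 F386789 F384553
theorem F411406 : act 4 n199271 = n141976 := d11_1 D199271 F411403 (iv4 D199270)
theorem F411407 : act 5 n199271 = n111135 := d13_1 D199271 (iv7 D111135) D111134
theorem F411408 : act 1 n116270 = n199271 := d15_1 (iv0 F181224) (iv7 D199271) F172354
theorem F411409 : act 1 n199271 = n116267 := d15_1 F411408 (iv7 F410408) F410406
def n199272 : Q := act 0 n111136
theorem D199272 : act 0 n111136 = n199272 := rfl
theorem F411410 : act 4 n199272 = n134020 := d18_1 D199272 (iv1 F215972) F111424 D138327 (iv4 F404734) F404732 (iv4 F343811) (iv0 F383084) F383083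
theorem F411411 : act 2 n134090 = n199272 := d15_3 (iv0 D199272) F172366 D134090
theorem F411412 : act 1 n111137 = n199272 := d15_0 (iv0 D199272) F172362 (iv2 F172363)
theorem F411413 : act 7 n199272 = n134018 := d15_2 (iv0 F172365) F411412 F215956
theorem F411414 : act 6 n115931 = n199272 := d14_5 F411413 (iv6 D134018) F98218 D63028 (iv7 F180506)
def n199273 : Q := act 3 n111136
theorem D199273 : act 3 n111136 = n199273 := rfl
theorem F411415 : act 2 n199273 = n192881 := d0_1 D199273 F388097 (iv2 F365301) (iv3 D138331) (iv2 F172360)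
theorem F411416 : act 4 n199273 = n197280 := d5_2 D111136 D199273 (iv3 D197280) F167084 (iv3 F111313)
theorem F411417 : act 6 n199273 = n139346 := d7_2 (iv6 F172361) D199273 (iv3 D139346)
theorem F411418 : act 7 n199273 = n138334 := d8_2 (iv7 F172362) D199273 (iv3 D138334)
theorem F411419 : act 0 n199273 = n197309 := d20_4 F80853 D51262 D111136 D199273 (iv3 F404037) (iv4 F387042) F385489 D192953 F388317 (iv1 D111133)
theorem F411420 : act 0 n146947 = n199273 := d20_4 F237234 (iv1 F232647) (iv4 F278923) F364011 (iv3 D199273) (iv4 D111136) (iv1 F80862) (iv4 F100771) F318064 D150687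
def n199274 : Q := act 4 n111138
theorem D199274 : act 4 n111138 = n199274 := rfl
theorem F411421 : act 2 n199274 = n197558 := d1_1 D199274 F404817 (iv2 F361304)
theorem F411422 : act 3 n199274 = n196380 := d5_1 D199274 F400522 F278472 F274449 (iv3 F361302)
theorem F411423 : act 7 n199274 = n187963 := d11_2 F361303 D199274 F377632
theorem F411424 : act 5 n199274 = n187964 := d16_5 F292787 (iv5 F326394) (iv4 F361300) F361301 D199274 F371959 (iv5 F369409) (iv7 D187184) (iv2 F292786)
theorem F411425 : act 0 n199274 = n188923 := d18_2 D111138 D199274 F375211 F294169 (iv4 F367280) (iv0 F367282) F363175 (iv0 F342225) (iv5 D111141)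
theorem F411426 : act 0 n197571 = n199274 := d20_10 (iv4 D199274) (iv1 F329724) F329727 F167822 (iv1 F313632) D124842 F316130 F222165 (iv4 F357644) D197571
theorem F411427 : act 6 n196359 = n199274 := d21_3 F402517 (iv1 D196358) D196359 F411425 (iv6 D188923) (iv5 D92910) (iv1 F73972) (iv5 F293155) D100978 (iv1 F391234)
def n199275 : Q := act 6 n111138
theorem D199275 : act 6 n111138 = n199275 := rfl
theorem F411428 : act 4 n199275 = n196359 := d10_1 D199275 F411427 (iv4 D199274)
theorem F411429 : act 7 n199275 = n141127 := d14_2 F361303 D199275 (iv6 D141127) (iv7 F361307) (iv6 F350407)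
theorem F411430 : act 0 n199275 = n192341 := d21_4 D111129 F366643 F361301 D199275 (iv6 D192341) F154036 (iv1 F318850) F343489 F380323 (iv1 D111127)
theorem F411431 : act 1 n199275 = n139309 := d15_1 (iv0 F411430) (iv7 F391471) F391468
def n199276 : Q := act 4 n111141
theorem D199276 : act 4 n111141 = n199276 := rfl
theorem F411432 : act 2 n199276 = n187122 := d1_1 D199276 F369169 F361772
theorem F411433 : act 3 n199276 = n134343 := d5_1 D199276 (iv4 D134343) F98406 (iv4 F80868) (iv3 F172369)
theorem F411434 : act 5 n199276 = n176926 := d9_2 D111141 D199276 F369406 D189670 (iv4 F405140) (iv5 D197639) (iv4 F329727) (iv5 D89578) (iv4 F137323) (iv5 F353334) (iv4 F368656) D189669 F377318 (iv5 D108445) (iv4 F80866)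
theorem F411435 : act 6 n199276 = n187084 := d10_2 F363031 D199276 F369054
theorem F411436 : act 7 n199276 = n186598 := d11_2 F335714 D199276 F367380
theorem F411437 : act 0 n199276 = n164620 := d18_2 F361771 D199276 (iv4 F307590) (iv5 F155573) (iv4 F385070) (iv0 D108524) (iv4 F80910) D111208 (iv5 F356538)
theorem F411438 : act 1 n199276 = n186955 := d18_6 D186957 F368660 (iv1 D108443) (iv4 F80866) D111141 D199276 (iv4 D186955) (iv0 D89416) D89418
def n199277 : Q := act 0 n111143
theorem D199277 : act 0 n111143 = n199277 := rfl
theorem F411439 : act 4 n199277 = n123883 := d20_2 (iv4 F172373) D199277 (iv3 F355572) (iv1 F184788) D148517 (iv4 F374091) (iv1 D188584) D188585 F374109 (iv1 D134350)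
theorem F411440 : act 1 n138633 = n199277 := d15_0 (iv0 D199277) (iv7 F363018) (iv2 F363019)
theorem F411441 : act 0 n111411 = n199077 := d18_2 (iv1 D134015) (iv4 F172894) (iv4 D199077) D199078 F410558 F411440 F411439 (iv0 F363289) (iv5 F362801)
theorem F411442 : act 2 n138630 = n199277 := d1_3 F411439 F357150 (iv4 F364408)
theorem F411443 : act 7 n138631 = n199277 := d11_0 F411439 F355569 F357153
def n199278 : Q := act 1 n111143
theorem D199278 : act 1 n111143 = n199278 := rfl
theorem F411444 : act 1 n199278 = n138633 := d15_1 D199278 (iv7 D138633) (iv2 F172372)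
theorem F411445 : act 7 n199278 = n138630 := d15_2 (iv0 D199277) D199278 F411442
theorem F411446 : act 6 n122651 = n199278 := d21_3 F343212 (iv1 F343224) (iv5 F301782) (iv1 D199278) (iv6 D111143) (iv5 D51266) (iv1 F53728) (iv5 F111689) D156487 (iv1 F360246)
theorem F411447 : act 2 n199278 = n138631 := d3_1 F411446 (iv6 F343230) (iv2 F350754)
theorem F411448 : act 4 n199278 = n123888 := d10_1 F411446 (iv6 F198326) F350756
def n199279 : Q := act 5 n111143
theorem D199279 : act 5 n111143 = n199279 := rfl
theorem F411449 : act 2 n199279 = n138632 := d2_1 D199279 (iv5 D138632) (iv2 F172372)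
theorem F411450 : act 3 n199279 = n187094 := d6_1 D199279 F369063 (iv3 F363020)
theorem F411451 : act 6 n199279 = n111146 := d12_2 D111143 D199279 (iv5 D111146) (iv6 D51267) D51266
theorem F411452 : act 7 n199279 = n177893 := d13_2 F363018 D199279 (iv5 F364405)
theorem F411453 : act 0 n199279 = n134443 := d17_2 (iv1 D199278) D199279 (iv5 D134443) F98424 (iv5 F98216) D134015 F362801 F363290 (iv4 F411448)
def n199280 : Q := act 3 n111144
theorem D199280 : act 3 n111144 = n199280 := rfl
theorem F411454 : act 4 n199280 = n197150 := d5_2 (iv4 F172374) D199280 (iv3 D197150) (iv4 D107759) D107758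
theorem F411455 : act 6 n199280 = n116269 := d7_2 F172375 D199280 (iv3 D116269)
theorem F411456 : act 7 n199280 = n138636 := d8_2 F172376 D199280 (iv3 D138636)
def n199281 : Q := act 5 n111144
theorem D199281 : act 5 n111144 = n199281 := rfl
theorem F411457 : act 2 n199281 = n138635 := d2_1 D199281 (iv5 D138635) (iv2 F172378)
theorem F411458 : act 7 n199281 = n138637 := d13_2 F172376 D199281 (iv5 D138637)
theorem F411459 : act 0 n199281 = n139393 := d17_2 D111144 D199281 (iv5 D139393) (iv4 D65425) (iv5 F79712) D109024 (iv5 F169018) (iv0 D51268) (iv4 F80870)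
theorem F411460 : act 1 n199281 = n139389 := d17_6 D110832 (iv5 F202185) F403278 (iv5 D197149) (iv4 F172374) D199281 (iv5 D139389) F168883 (iv4 F80615)
def n199282 : Q := act 3 n111145
theorem D199282 : act 3 n111145 = n199282 := rfl
theorem F411461 : act 4 n199282 = n136496 := d5_2 F223576 D199282 (iv3 D136496) (iv4 F167118) F223582
theorem F411462 : act 6 n199282 = n192281 := d7_2 F343245 D199282 F386276
theorem F411463 : act 7 n199282 = n138634 := d8_2 (iv7 F172382) D199282 (iv3 D138634)
def n199283 : Q := act 4 n111146
theorem D199283 : act 4 n111146 = n199283 := rfl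
theorem F411464 : act 2 n199283 = n138640 := d1_1 D199283 (iv4 D138640) (iv2 F172384)
theorem F411465 : act 3 n199283 = n156097 := d5_1 D199283 (iv4 F386165) (iv3 F386163) (iv4 F387901) F387903
theorem F411466 : act 5 n199283 = n198051 := d16_1 D199283 (iv4 D198051) (iv5 D108889) (iv4 D50276) F49342 (iv4 F100886) (iv5 F221805) (iv7 D138641) (iv2 F172384)
theorem F411467 : act 0 n199283 = n198068 := d18_2 (iv1 F222650) D199283 (iv4 D198068) (iv5 D108897) (iv4 D50280) D50279 D108893 F168887 (iv5 F222649)
theorem F411468 : act 1 n199283 = n198044 := d18_6 (iv1 F172523) (iv4 D111149) (iv1 D51269) (iv4 F80870) D111146 D199283 F406575 F406644 F406639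
def n199284 : Q := act 3 n111148
theorem D199284 : act 3 n111148 = n199284 := rfl
theorem F411469 : act 4 n199284 = n197334 := d5_2 D111148 D199284 (iv3 D197334) F167170 (iv3 F163555)
theorem F411470 : act 6 n199284 = n116279 := d7_2 (iv6 F172390) D199284 (iv3 D116279)
theorem F411471 : act 7 n199284 = n138647 := d8_2 (iv7 F172391) D199284 (iv3 D138647)
def n199285 : Q := act 5 n111148
theorem D199285 : act 5 n111148 = n199285 := rfl
theorem F411472 : act 2 n199285 = n138643 := d2_1 D199285 (iv5 D138643) (iv2 F172389)
theorem F411473 : act 7 n199285 = n124046 := d13_2 (iv7 F172391) D199285 F336654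
theorem F411474 : act 0 n199285 = n139383 := d17_2 (iv1 F172396) D199285 (iv5 D139383) F171677 D140425 (iv0 F410249) (iv5 D198997) (iv0 D110819) (iv4 F80880)
theorem F411475 : act 1 n199285 = n139380 := d17_6 D30675 D65422 (iv1 F169016) (iv5 F169018) D111148 D199285 (iv5 D139380) (iv0 D65416) F49132
theorem F411476 : act 6 n185131 = n199285 := d21_5 (iv5 D88226) (iv1 D41174) D41176 D88233 D185131 (iv5 D199285) (iv1 F172524) (iv5 F406639) F406642 F356383
def n199286 : Q := act 3 n111149
theorem D199286 : act 3 n111149 = n199286 := rfl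
theorem F411477 : act 4 n199286 = n197475 := d5_2 D111149 D199286 (iv3 D197475) (iv4 F167332) (iv3 F161359)
theorem F411478 : act 6 n199286 = n171032 := d7_2 (iv6 F336653) D199286 F268749
theorem F411479 : act 7 n199286 = n138642 := d8_2 (iv7 F172394) D199286 (iv3 D138642)
theorem F411480 : act 0 n199286 = n111172 := d19_4 F81293 F81292 D111149 D199286 F352988 F157156 (iv3 F157154) F346064 (iv5 D155375) (iv4 D73846) (iv3 D33913) (iv1 F25894) (iv5 D7612) D7611 (iv3 F297158) F297157 D17179 F322599 (iv3 F168260)
theorem F411481 : act 2 n192854 = n199286 := d3_3 F411478 F268748 D192854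
theorem F411482 : act 0 n192495 = n199286 := d21_4 (iv5 F374412) (iv1 D188677) F292892 D192495 F411478 (iv5 D171032) F155447 D100776 F154867 D100787
theorem F411483 : act 1 n194637 = n138642 := d15_1 (iv0 F393906) (iv7 F411479) (iv2 F411481)
def n199287 : Q := act 5 n111149
theorem D199287 : act 5 n111149 = n199287 := rfl
theorem F411484 : act 2 n199287 = n124046 := d2_1 D199287 F336654 (iv2 F172393)
theorem F411485 : act 6 n199287 = n122567 := d12_2 (iv6 F336653) D199287 F302310 (iv6 D81980) D81979
theorem F411486 : act 7 n199287 = n138643 := d13_2 (iv7 F172394) D199287 (iv5 D138643)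
theorem F411487 : act 0 n199287 = n139380 := d17_2 (iv1 F172523) D199287 (iv5 D139380) F168899 (iv5 F203152) (iv0 F203153) F202428 (iv0 F223468) F223467
theorem F411488 : act 1 n199287 = n139383 := d17_6 (iv1 F79659) (iv5 F79712) F81293 F81292 D111149 D199287 (iv5 D139383) F168897 F168894
def n199288 : Q := act 5 n111151
theorem D199288 : act 5 n111151 = n199288 := rfl
theorem F411489 : act 3 n199288 = n186978 := d6_1 D199288 F375529 F375532
theorem F411490 : act 4 n199288 = n159014 := d9_1 D199288 F336343 (iv4 F340258) F336361 (iv4 F353929) (iv5 F403202) F403204 F336362 (iv4 F345976) (iv5 D107691) (iv4 F80941) (iv5 F335398) (iv4 F353924) F353925 (iv4 F350807)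
theorem F411491 : act 1 n199288 = n111187 := d17_6 F343437 (iv5 D128174) D128172 F353925 (iv4 F350807) D199288 F172432 (iv0 F354226) D154284
theorem F411492 : act 6 n199288 = n186845 := d21_3 (iv5 D111154) D111151 D199288 (iv1 F389317) F389315 F368231 (iv1 F216001) (iv5 F336386) F198101 (iv1 F336370)
def n199289 : Q := act 6 n111151
theorem D199289 : act 6 n111151 = n199289 := rfl
theorem F411493 : act 3 n199289 = n137179 := d7_1 D199289 F375528 F375532
theorem F411494 : act 5 n199289 = n137177 := d12_1 D199289 F368240 F368237 (iv6 F411492) (iv5 D199288)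
theorem F411495 : act 7 n199289 = n199019 := d14_2 (iv7 F373326) D199289 (iv6 D199019) F220443 (iv6 F345615)
theorem F411496 : act 0 n199289 = n154149 := d21_4 (iv5 F172432) (iv1 F411491) (iv5 D199288) D199289 (iv6 D154149) (iv5 D73019) (iv1 F190550) D33674 (iv6 F109603) F354226
theorem F411497 : act 1 n199289 = n139300 := d15_1 (iv0 F411496) F389153 F389149
def n199290 : Q := act 3 n111152
theorem D199290 : act 3 n111152 = n199290 := rfl
theorem F411498 : act 4 n199290 = n194036 := d5_2 F403204 D199290 F391827 F219764 D197135
theorem F411499 : act 6 n199290 = n194034 := d7_2 (iv6 F373324) D199290 F391818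
theorem F411500 : act 0 n199290 = n178964 := d20_4 (iv4 F375965) F403205 F403204 D199290 (iv3 D178964) (iv4 D85366) (iv1 F200371) D39477 D85501 (iv1 F361443)
theorem F411501 : act 1 n199290 = n192488 := d15_1 (iv0 F411500) (iv7 F386799) F360931
def n199291 : Q := act 0 n111156
theorem D199291 : act 0 n111156 = n199291 := rfl
theorem F411502 : act 5 n199291 = n123907 := d17_1 D199291 (iv1 F198337) F198296 F90890 (iv5 F90895) F197317 (iv5 F357149) (iv0 D134285) (iv4 F172404)
theorem F411503 : act 2 n187435 = n199291 := d15_3 (iv0 D199291) F374111 F374107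
theorem F411504 : act 4 n199291 = n134349 := d1_2 F391629 F411503 (iv2 F391627)
theorem F411505 : act 6 n199291 = n187068 := d3_2 (iv6 F370311) F411503 F369015
theorem F411506 : act 7 n199291 = n160300 := d4_2 F374107 F411503 (iv2 F374112)
def n199292 : Q := act 4 n111157
theorem D199292 : act 4 n111157 = n199292 := rfl
theorem F411507 : act 3 n199292 = n184952 := d5_1 D199292 (iv4 D184952) (iv3 D88171) D88172 (iv3 F352338)
theorem F411508 : act 5 n199292 = n198032 := d16_1 D199292 (iv4 D198032) (iv5 D108879) F101603 D140353 F223467 (iv5 F406639) F406643 F172519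
theorem F411509 : act 0 n199292 = n139457 := d18_2 (iv1 F222597) D199292 (iv4 D139457) (iv5 D65449) (iv4 F80615) F165729 (iv4 F168890) F168889 (iv5 F222596)
def n199293 : Q := act 6 n111160
theorem D199293 : act 6 n111160 = n199293 := rfl
theorem F411510 : act 3 n199293 = n136015 := d7_1 D199293 (iv6 F365538) (iv3 F364008)
theorem F411511 : act 5 n199293 = n136014 := d12_1 D199293 F365609 (iv5 D164575) (iv6 F259421) F333939
theorem F411512 : act 7 n199293 = n137218 := d14_2 F212027 D199293 (iv6 F361556) (iv7 F179856) (iv6 F351553)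
def n199294 : Q := act 6 n111162
theorem D199294 : act 6 n111162 = n199294 := rfl
theorem F411513 : act 2 n199294 = n186829 := d3_1 D199294 F368159 (iv2 F332233)
theorem F411514 : act 3 n199294 = n111164 := d7_1 D199294 (iv6 D111164) (iv3 F172412)
theorem F411515 : act 4 n199294 = n161656 := d10_1 D199294 F319558 (iv4 F332234)
theorem F411516 : act 5 n199294 = n186814 := d12_1 D199294 (iv6 F368106) (iv5 F362388) (iv6 D111163) D111162
theorem F411517 : act 0 n199294 = n186835 := d21_10 F368195 (iv1 D101382) D101383 (iv6 F383420) (iv1 D164573) (iv6 F259421) F333939 (iv1 D111160) D111162 D199294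
theorem F411518 : act 1 n199294 = n186834 := d15_1 (iv0 F411517) F368187 (iv2 F368194)
theorem F411519 : act 7 n199294 = n186832 := d15_2 D186835 (iv0 F411517) F368172
def n199295 : Q := act 1 n111164
theorem D199295 : act 1 n111164 = n199295 := rfl
theorem F411520 : act 1 n199295 = n186827 := d15_1 D199295 F368151 F356359
theorem F411521 : act 7 n199295 = n186840 := d15_2 (iv0 F363029) D199295 (iv2 F368210)
theorem F411522 : act 5 n199295 = n171105 := d17_7 (iv1 F289889) (iv5 F369205) (iv1 F369206) (iv5 D98391) (iv4 F335702) F335731 D199295 F352771 F140522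
theorem F411523 : act 4 n199295 = n134324 := d17_9 (iv1 D134324) (iv5 F329110) (iv1 D122714) (iv5 D56995) (iv4 F44464) F298112 (iv0 F335729) F335731 D199295
theorem F411524 : act 6 n123883 = n199295 := d21_3 D27562 D57722 D123883 (iv1 D199295) (iv6 D111164) (iv5 D51275) (iv1 D24931) D24933 (iv6 F329778) (iv1 D27561)
theorem F411525 : act 2 n199295 = n186841 := d3_1 F411524 (iv6 F368215) (iv2 F357150)
theorem F411526 : act 6 n134324 = n199277 := d10_2 F411524 F411523 F411439
def n199296 : Q := act 7 n111164
theorem D199296 : act 7 n111164 = n199296 := rfl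
theorem F411527 : act 2 n199296 = n186827 := d4_1 D199296 F368151 F356359
theorem F411528 : act 3 n199296 = n186832 := d8_1 D199296 (iv7 F411519) F411514
theorem F411529 : act 4 n199296 = n134245 := d11_1 D199296 (iv7 D134245) (iv4 F172414)
theorem F411530 : act 5 n199296 = n122399 := d13_1 D199296 (iv7 F344213) F335731
theorem F411531 : act 1 n186841 = n199296 := d15_1 D186841 (iv7 D199296) (iv2 F356359)
theorem F411532 : act 1 n199296 = n186840 := d15_1 F411531 (iv7 F411521) F411525
def n199297 : Q := act 5 n111167
theorem D199297 : act 5 n111167 = n199297 := rfl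
theorem F411533 : act 2 n199297 = n111185 := d2_1 D199297 F172429 F172417
theorem F411534 : act 3 n199297 = n134424 := d6_1 D199297 F216395 F172546
theorem F411535 : act 7 n199297 = n111180 := d13_2 (iv7 F172418) D199297 (iv5 D111180)
theorem F411536 : act 4 n199297 = n195852 := d16_2 F176160 D199297 (iv5 F398462) F395458 F376551 (iv4 D113080) (iv5 D52191) D52192 F176159
theorem F411537 : act 1 n111182 = n199297 := d17_8 (iv1 D195852) (iv5 F163789) F357305 (iv5 D114100) (iv4 F177696) F329102 D156454 (iv5 F396281) F411536
theorem F411538 : act 0 n111181 = n199297 := d20_4 (iv4 F278772) F236558 (iv4 F259419) (iv3 F364007) F411534 F331629 (iv1 F397425) F397422 F361431 (iv1 F278770)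
theorem F411539 : act 5 n156453 = n111181 := d17_1 D156453 F411538 (iv5 D199297) (iv4 F176160) (iv5 F396283) F396286 F377579 (iv0 D133339) (iv4 F111654)
theorem F411540 : act 6 n156453 = n192883 := d21_3 D51280 D111181 (iv5 F411539) (iv1 D192883) (iv6 D100881) (iv5 F357532) (iv1 D93065) D93067 F347691 (iv1 D51278)
def n199298 : Q := act 6 n111167
theorem D199298 : act 6 n111167 = n199298 := rfl
theorem F411541 : act 2 n199298 = n111186 := d3_1 D199298 (iv6 D111186) F172417
theorem F411542 : act 4 n199298 = n193531 := d10_1 D199298 (iv6 F390177) F176160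
theorem F411543 : act 7 n199298 = n139288 := d14_2 (iv7 F172418) D199298 (iv6 D139288) F101071 F98185
theorem F411544 : act 0 n199298 = n139294 := d21_4 F411539 F411538 (iv5 D199297) D199298 F357396 (iv5 D162735) F320206 (iv5 F356133) F356134 D156453
theorem F411545 : act 5 n136006 = n199298 := d21_2 (iv5 D136008) D136006 (iv6 D199298) (iv1 F172419) (iv6 F347691) (iv5 D93067) D93064 F345035 D100876 F357161
theorem F411546 : act 1 n199298 = n139293 := d17_6 (iv1 F128880) F304819 F239804 F304813 (iv4 F337652) F411545 F357630 F275071 (iv4 D175686)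
def n199299 : Q := act 5 n111168
theorem D199299 : act 5 n111168 = n199299 := rfl
theorem F411547 : act 2 n199299 = n111171 := d2_1 D199299 (iv5 D111171) D111168
theorem F411548 : act 3 n199299 = n186576 := d6_1 D199299 (iv5 F375536) F375535
theorem F411549 : act 7 n199299 = n111176 := d13_2 F172420 D199299 (iv5 D111176)
theorem F411550 : act 0 n199299 = n114098 := d21_1 D199299 F329102 (iv6 F356134) (iv1 F357492) (iv6 D139359) (iv5 F357473) (iv1 F222490) (iv5 D133981) F98185 (iv1 F357669)
theorem F411551 : act 6 n199299 = n186905 := d21_9 (iv5 F347715) F151994 (iv5 F290936) D189630 (iv1 F377196) (iv6 F352391) (iv5 D111180) (iv1 F357669) D199299 (iv1 F368472)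
theorem F411552 : act 4 n187207 = n199299 := d10_3 F411551 F368470 D187207
def n199300 : Q := act 6 n111168
theorem D199300 : act 6 n111168 = n199300 := rfl
theorem F411553 : act 2 n199300 = n111172 := d3_1 D199300 (iv6 D111172) D111168
theorem F411554 : act 3 n199300 = n192499 := d7_1 D199300 F386839 F375535
theorem F411555 : act 5 n199300 = n186933 := d12_1 D199300 F368554 (iv5 F368471) (iv6 F411551) (iv5 D199299)
theorem F411556 : act 7 n199300 = n192495 := d14_2 F172420 D199300 (iv6 D192495) (iv7 F294163) F347691
theorem F411557 : act 0 n192854 = n199300 := d21_4 (iv5 F357491) (iv1 F154871) D100827 D192854 (iv6 D199300) D199299 F411550 F329102 (iv6 F356134) (iv1 F357492)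
theorem F411558 : act 1 n138642 = n199300 := d15_1 F411483 F411556 (iv2 F393902)
def n199301 : Q := act 6 n111169
theorem D199301 : act 6 n111169 = n199301 := rfl
theorem F411559 : act 2 n199301 = n199116 := d3_1 D199301 (iv6 D199116) (iv2 F357637)
theorem F411560 : act 3 n199301 = n111172 := d7_1 D199301 (iv6 D111172) D111169
theorem F411561 : act 4 n199301 = n199113 := d10_1 D199301 (iv6 D199113) F357636
theorem F411562 : act 5 n199301 = n193802 := d12_1 D199301 (iv6 D193802) F352985 D117637 F338231
def n199302 : Q := act 1 n111170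
theorem D199302 : act 1 n111170 = n199302 := rfl
theorem F411563 : act 1 n199302 = n111175 := d15_1 D199302 F357667 F357671
theorem F411564 : act 7 n199302 = n194399 := d15_2 (iv0 F246470) D199302 F393050
theorem F411565 : act 3 n112975 = n199302 := d20_3 (iv4 F158474) F355167 (iv4 F319051) (iv1 D199302) (iv3 F393371) (iv4 F410718) F410720 (iv4 D194572) (iv3 F354258) (iv1 D103226)
theorem F411566 : act 2 n199302 = n156840 := d0_1 F411565 (iv3 D156840) (iv2 F314308) D85459 (iv2 F319050)
def n199303 : Q := act 5 n111170
theorem D199303 : act 5 n111170 = n199303 := rfl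
theorem F411567 : act 3 n199303 = n187382 := d6_1 D199303 (iv5 F393372) F393371
theorem F411568 : act 7 n199303 = n187379 := d13_2 (iv7 F388005) D199303 (iv5 F388004)
def n199304 : Q := act 7 n111171
theorem D199304 : act 7 n111171 = n199304 := rfl
theorem F411569 : act 2 n199304 = n111176 := d4_1 D199304 (iv7 F411549) F411547
theorem F411570 : act 3 n199304 = n186938 := d8_1 D199304 F368582 F352983
theorem F411571 : act 4 n199304 = n189423 := d11_1 D199304 (iv7 D189423) (iv4 F352982)
theorem F411572 : act 5 n199304 = n111173 := d13_1 D199304 (iv7 D111173) D111171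
theorem F411573 : act 6 n199304 = n186565 := d14_1 D199304 F289504 D186892 F368432 F352980
theorem F411574 : act 0 n114098 = n199304 := d21_4 F308356 (iv1 D57257) F83230 D114098 F411573 (iv5 D186565) F289522 D89095 F303374 (iv1 F308353)
def n199305 : Q := act 0 n111172
theorem D199305 : act 0 n111172 = n199305 := rfl
theorem F411575 : act 2 n138642 = n199305 := d15_3 (iv0 D199305) (iv0 F411480) F411479
theorem F411576 : act 1 n192495 = n199305 := d15_0 (iv0 D199305) (iv7 F393905) F393902
theorem F411577 : act 7 n199305 = n192854 := d15_2 (iv0 F411482) F411576 F411481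
def n199306 : Q := act 5 n111175
theorem D199306 : act 5 n111175 = n199306 := rfl
theorem F411578 : act 2 n199306 = n187379 := d2_1 D199306 (iv5 F388004) F388001
theorem F411579 : act 6 n199306 = n187377 := d12_2 F375518 D199306 (iv5 D187377) (iv6 F294893) (iv5 F375517)
theorem F411580 : act 4 n199306 = n189411 := d16_2 D111175 D199306 (iv5 D189411) F144779 D93960 (iv4 F352982) (iv5 D111171) D111173 F172422
def n199307 : Q := act 0 n111180
theorem D199307 : act 0 n111180 = n199307 := rfl
theorem F411581 : act 5 n199307 = n138274 := d17_1 D199307 (iv1 D138274) D138276 (iv4 F336380) (iv5 F399861) (iv0 D196203) (iv5 F398464) (iv0 F398467) F352392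
theorem F411582 : act 1 n111185 = n199307 := d15_0 (iv0 D199307) (iv7 F411535) F411533
theorem F411583 : act 6 n146931 = n199307 := d21_9 F172429 (iv1 F357628) (iv5 F411572) F411573 (iv1 F289505) F347750 (iv5 F230337) (iv1 F393167) (iv5 F373186) (iv1 F411582)
theorem F411584 : act 4 n199307 = n194144 := d10_1 F411583 (iv6 D194144) (iv4 F377180)
def n199308 : Q := act 1 n111180
theorem D199308 : act 1 n111180 = n199308 := rfl
theorem F411585 : act 1 n199308 = n111185 := d15_1 D199308 (iv7 D111185) (iv2 F172426)
theorem F411586 : act 5 n199308 = n138273 := d17_7 D130527 F396272 (iv1 F396271) (iv5 D113077) F82516 D111180 D199308 (iv0 D138273) F100735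
theorem F411587 : act 3 n146655 = n199308 := d20_3 F183938 D144931 (iv4 F259430) (iv1 D199308) F331638 D146956 F234630 (iv4 F233610) (iv3 F348298) F259410
theorem F411588 : act 7 n199308 = n111181 := d8_2 F259434 F411587 F364007
theorem F411589 : act 7 n156453 = n138273 := d13_2 F411588 (iv5 F411539) (iv5 F411586)
theorem F411590 : act 2 n111181 = n199307 := d15_3 (iv0 D199307) D199308 F411588
theorem F411591 : act 2 n199308 = n111182 := d15_3 F411537 (iv0 F411538) (iv7 F411588)
theorem F411592 : act 2 n156454 = n138273 := d2_3 (iv5 F411586) F411591 F396281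
theorem F411593 : act 7 n111182 = n199307 := d4_2 (iv7 F411588) F411591 (iv2 F411590)
theorem F411594 : act 7 n138274 = n156454 := d13_2 F411593 F411581 (iv5 F396281)
theorem F411595 : act 2 n156453 = n138274 := d4_3 F411594 F411592 (iv7 F411589)
def n199309 : Q := act 4 n111181
theorem D199309 : act 4 n111181 = n199309 := rfl
theorem F411596 : act 2 n199309 = n194144 := d1_1 D199309 (iv4 F411584) (iv2 F411590)
theorem F411597 : act 3 n199309 = n146496 := d5_1 D199309 F236507 D150313 (iv4 F259419) (iv3 F364007)
theorem F411598 : act 0 n199309 = n189416 := d17_0 (iv5 D189416) F376241 F376237 (iv4 F347687) (iv5 D111176) F172419 D199297 (iv0 F411538) D199309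
theorem F411599 : act 1 n199309 = n189420 := d18_8 (iv1 D93959) (iv4 F144779) D189409 (iv4 F395458) F398462 (iv4 F411536) (iv0 F411538) D199309 (iv5 D189420)
theorem F411600 : act 6 n189626 = n199309 := d7_0 F411597 (iv6 F355701) (iv3 F377167)
def n199310 : Q := act 6 n111181
theorem D199310 : act 6 n111181 = n199310 := rfl
theorem F411601 : act 2 n199310 = n146931 := d3_1 D199310 F411583 (iv2 F411590)
theorem F411602 : act 4 n199310 = n189626 := d10_1 D199310 F411600 (iv4 D199309)
theorem F411603 : act 0 n199310 = n117252 := d21_4 F329102 D156453 F411539 D199310 F346100 F290627 (iv1 F153871) (iv5 F368471) (iv6 F411551) F411550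
theorem F411604 : act 1 n199310 = n146933 := d15_1 (iv0 F411603) (iv7 F370343) F370340
theorem F411605 : act 7 n146932 = n199310 := d11_0 F411602 (iv7 F377168) F365208
theorem F411606 : act 3 n142604 = n199310 := d20_5 (iv4 D67115) F323721 (iv4 F323724) F323723 D142604 F411602 (iv1 D189626) F333379 (iv3 D141460) (iv1 F103073)
theorem F411607 : act 6 n164568 = n142604 := d7_0 F411606 (iv6 D199310) F364007
def n199311 : Q := act 3 n111182
theorem D199311 : act 3 n111182 = n199311 := rfl
theorem F411608 : act 2 n199311 = n186995 := d0_1 D199311 F368790 (iv2 F259435) F411587 F411591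
theorem F411609 : act 6 n186583 = n199311 := d3_0 F411608 (iv6 D186995) (iv2 F378676)
theorem F411610 : act 5 n199311 = n192902 := d21_6 F305470 (iv1 F63923) (iv5 F64357) D89336 (iv1 F367316) F411609 (iv1 D192902) F155573 F307591 (iv1 F109570)
theorem F411611 : act 3 n192902 = n156454 := d6_1 F411610 (iv5 F396281) D199311
theorem F411612 : act 0 n186978 = n199311 := d21_10 F411610 (iv1 D192902) F155573 F307591 (iv1 F109570) (iv6 F316858) (iv5 F319206) D101863 F156994 D186978
def n199312 : Q := act 4 n111182
theorem D199312 : act 4 n111182 = n199312 := rfl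
theorem F411613 : act 7 n199312 = n194144 := d11_2 (iv7 F411593) D199312 (iv4 F411584)
theorem F411614 : act 0 n199312 = n189420 := d17_0 (iv5 D189420) (iv1 D93959) D93960 (iv4 F352982) (iv5 D111171) (iv0 D51277) D51280 D111182 D199312
def n199313 : Q := act 6 n111182
theorem D199313 : act 6 n111182 = n199313 := rfl
theorem F411615 : act 3 n199313 = n186583 := d7_1 D199313 F411609 (iv3 D199311)
theorem F411616 : act 0 n195189 = n199313 := d21_4 F161805 (iv1 F90125) (iv5 F161595) D195189 (iv6 D199313) F396281 (iv1 D156454) (iv5 F329102) (iv6 D114098) (iv1 F161807)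
theorem F411617 : act 5 n193480 = n199313 := d21_8 (iv5 D51280) D51277 D111171 (iv6 F352980) F352989 D188577 (iv5 F383497) (iv1 F389995) (iv6 D199313) (iv1 D111182)
theorem F411618 : act 7 n199313 = n186990 := d16_8 (iv4 D195230) F371519 F371518 F331833 F156563 D101785 D193480 F411617 (iv2 F396376)
theorem F411619 : act 0 n199313 = n186890 := d17_2 (iv1 F389995) F411617 (iv5 F386408) (iv4 D192318) F311784 D179819 (iv5 F383494) F383492 D191447
def n199314 : Q := act 0 n111183
theorem D199314 : act 0 n111183 = n199314 := rfl
theorem F411620 : act 5 n199314 = n196204 := d21_0 (iv1 F399870) F376905 F178105 F332619 D159545 (iv5 F259022) F335478 (iv5 F352378) F352395 D199314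
theorem F411621 : act 2 n195853 = n199314 := d15_3 (iv0 D199314) (iv0 F395447) D195853
theorem F411622 : act 6 n199314 = n144917 := d3_2 (iv6 F398465) F411621 (iv2 F366237)
theorem F411623 : act 7 n199314 = n195847 := d4_2 D195853 F411621 F398440
theorem F411624 : act 1 n195852 = n199314 := d15_1 D195852 F411623 F398440
theorem F411625 : act 6 n195020 = n195997 := d21_3 (iv5 F411620) (iv1 F411624) (iv5 F398462) (iv1 D195997) (iv6 D106509) (iv5 D49219) F50510 D52670 (iv6 F177698) (iv1 F399869)
theorem F411626 : act 2 n195997 = n197033 := d3_1 F411625 (iv6 F402762) (iv2 F395456)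
theorem F411627 : act 5 n195997 = n189549 := d21_6 F69074 F292486 D48623 D105150 D195020 F411625 (iv1 D189549) (iv5 D94028) (iv6 D43945) D43942
theorem F411628 : act 2 n189549 = n152053 := d2_1 F411627 (iv5 F402758) (iv2 F411626)
def n199315 : Q := act 3 n111183
theorem D199315 : act 3 n111183 = n199315 := rfl
theorem F411629 : act 4 n199315 = n111191 := d5_2 D111183 D199315 (iv3 D111191) (iv4 D51284) (iv3 F80883)
theorem F411630 : act 6 n199315 = n195821 := d7_2 F352395 D199315 (iv3 F398330)
theorem F411631 : act 7 n134069 = n199315 := d11_0 F411629 F172437 D134069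
def n199316 : Q := act 7 n111183
theorem D199316 : act 7 n111183 = n199316 := rfl
theorem F411632 : act 2 n199316 = n195852 := d4_1 D199316 F398460 (iv2 F352393)
theorem F411633 : act 3 n199316 = n134069 := d8_1 D199316 F411631 (iv3 D199315)
theorem F411634 : act 4 n199316 = n111185 := d11_1 D199316 (iv7 D111185) D111183
theorem F411635 : act 5 n199316 = n189552 := d13_1 D199316 F395457 (iv5 F395445)
theorem F411636 : act 1 n195847 = n199316 := d15_1 (iv0 F398442) (iv7 D199316) F352393
theorem F411637 : act 1 n199316 = n195853 := d15_1 F411636 (iv7 D195853) (iv2 F398440)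
def n199317 : Q := act 0 n111186
theorem D199317 : act 0 n111186 = n199317 := rfl
theorem F411638 : act 5 n199317 = n175722 := d17_1 D199317 (iv1 F275148) (iv5 F385711) (iv4 D192138) (iv5 D99736) D99734 D192130 F385684 F176170
theorem F411639 : act 4 n199317 = n192123 := d18_3 F385675 F176170 D199317 (iv5 D192123) (iv4 D99731) F73568 (iv4 F74551) F153537 D192127
theorem F411640 : act 3 n199317 = n137211 := d20_5 (iv4 D31325) (iv1 F168225) (iv4 F80899) (iv3 F172430) D199317 F361572 (iv1 D111113) F338258 (iv3 F338257) F101319
theorem F411641 : act 6 n199317 = n192850 := d21_5 (iv5 F411581) (iv1 F411582) F172429 D111186 D199317 F388014 (iv1 F346707) (iv5 F387940) F387941 (iv1 F245968)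
theorem F411642 : act 1 n139288 = n199317 := d15_0 (iv0 D199317) F172431 (iv2 F222489)
theorem F411643 : act 2 n139294 = n199317 := d3_3 F411641 (iv2 F388017) (iv6 F357396)
theorem F411644 : act 7 n139293 = n199317 := d15_2 (iv0 F411544) F411546 (iv2 F411643)
def n199318 : Q := act 1 n111186
theorem D199318 : act 1 n111186 = n199318 := rfl
theorem F411645 : act 1 n199318 = n139288 := d15_1 D199318 (iv7 F411543) F411541
theorem F411646 : act 7 n199318 = n139294 := d15_2 (iv0 D199317) D199318 F411643
theorem F411647 : act 5 n199318 = n175723 := d17_7 F304828 (iv5 D80218) D80216 (iv5 F304825) D193422 F389792 D199318 F275149 F156579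
theorem F411648 : act 4 n199318 = n192118 := d17_9 (iv1 F389958) (iv5 D193469) (iv1 D101775) D101777 F389840 F389837 (iv0 F389793) F389792 D199318
theorem F411649 : act 2 n139293 = n199318 := d1_3 F411648 F385639 F357631
theorem F411650 : act 3 n199318 = n192520 := d0_2 F408845 F411649 (iv2 F390064) F390065 (iv2 F408844)
theorem F411651 : act 6 n192517 = n199318 := d7_0 F411650 (iv6 D192520) D192517
theorem E103767 : n192874 = n192517 := (c21_5 F154885 (iv1 F74211) D47019 D100867 D192874 F411651 F411647 (iv1 D175723) (iv5 F335336) (iv6 D100876) (iv1 F154888))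
theorem F411652 : act 1 n192517 = n100867 := (sb E103767 (iv0 D192874))
def n199319 : Q := act 2 n111187
theorem D199319 : act 2 n111187 = n199319 := rfl
theorem F411653 : act 3 n199319 = n178634 := d0_2 D111187 D199319 (iv2 F318036) (iv3 D111259) (iv2 F80955)
theorem F411654 : act 5 n199319 = n134087 := d2_2 (iv5 F172432) D199319 (iv2 D134087)
def n199320 : Q := act 5 n111188
theorem D199320 : act 5 n111188 = n199320 := rfl
theorem F411655 : act 6 n199320 = n134089 := d12_2 D111188 D199320 (iv5 D134089) (iv6 D62986) (iv5 F80885)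
theorem F411656 : act 0 n199320 = n120462 := d17_2 (iv1 F341462) D199320 (iv5 D120462) (iv4 F353604) F329155 (iv0 F343229) F343204 D134419 F341446
theorem F411657 : act 4 n199320 = n140500 := d17_4 (iv1 F341478) (iv5 F171576) (iv1 F341462) D199320 F349729 (iv0 F165410) F345288 D135185 F349737
theorem F411658 : act 0 n120467 = n199320 := d21_10 (iv5 D199320) F341461 D146924 (iv6 F405405) (iv1 F405406) (iv6 F404965) F336759 (iv1 F295071) (iv5 F367963) F367969
def n199321 : Q := act 0 n111191
theorem D199321 : act 0 n111191 = n199321 := rfl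
theorem F411659 : act 4 n199321 = n114942 := d20_8 F161877 F161792 F177640 (iv3 F163423) F395447 D199315 F411629 D199321 F179021 (iv1 F161876)
theorem F411660 : act 1 n134066 = n199321 := d15_0 (iv0 D199321) F172437 (iv2 F216074)
theorem F411661 : act 6 n137878 = n199321 := d10_0 F411659 (iv6 F258982) F341539
theorem F411662 : act 7 n114935 = n199321 := d11_0 F411659 (iv7 D114942) (iv4 F179019)
theorem F411663 : act 5 n134092 = n199321 := d17_3 F355342 F328715 D134092 F411659 F179022 F258980 (iv5 D76398) D76397 (iv4 F355345)
theorem F411664 : act 2 n199321 = n137917 := d2_1 F411663 (iv5 D137917) (iv2 F361493)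
theorem F411665 : act 6 n134789 = n138044 := d21_5 F411663 (iv1 F411660) (iv5 D134066) (iv6 F98620) (iv1 F410157) F361492 (iv1 D123019) D123020 (iv6 F328333) D134092
theorem E103768 : n137997 = n134071 := (c21_5 (iv5 D64327) D64324 F103147 D64857 D137997 (iv6 D134071) (iv5 F172436) D199321 (iv5 F411663) F361494 F220966)
theorem F411666 : act 1 n134071 = n64857 := (sb E103768 (iv0 D137997))
theorem F411667 : act 2 n138044 = n134793 := d3_1 F411665 (iv6 D134793) D134789
theorem E103769 : n191485 = n134798 := (c14_5 F216906 F411665 F363154 (iv6 F356326) (iv7 F383547) (iv6 D134798))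
theorem F411668 : act 0 n134798 = n98451 := (sb E103769 F383548)
theorem F411669 : act 1 n134798 = n138031 := (sb E103769 F383549)
theorem F411670 : act 2 n134798 = n138029 := (sb E103769 F383545)
theorem F411671 : act 3 n134798 = n98565 := (sb E103769 F383546)
theorem F411672 : act 5 n134798 = n98433 := (sb E103769 (iv5 D191485))
theorem F411673 : act 7 n134798 = n138028 := (sb E103769 F383547)
theorem F411674 : act 6 n191886 = n134797 := d12_4 D134798 F411672 F157638 D191886 (iv5 D134797)
theorem E103770 : n191577 = n134795 := (c7_3 D134798 F411671 D191577 (iv3 D134795))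
theorem F411675 : act 6 n134795 = n98565 := (sb E103770 (iv6 D191577))
theorem F411676 : act 6 n138029 = n134794 := d3_2 D134798 F411670 F216910
theorem F411677 : act 7 n134793 = n138045 := d14_4 F383524 F411676 (iv7 D134794) D134793 (iv6 F383523)
theorem F411678 : act 1 n138043 = n134793 := d15_1 F356284 F411677 (iv2 F363152)
theorem F411679 : act 1 n134793 = n137870 := d15_1 F411678 F356300 F356301
def n199322 : Q := act 1 n111191
theorem D199322 : act 1 n111191 = n199322 := rfl
theorem F411680 : act 7 n199322 = n137917 := d15_2 (iv0 D199321) D199322 (iv2 F411664)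
theorem F411681 : act 2 n114935 = n199322 := d4_3 F411680 (iv2 F411664) (iv7 F411662)
theorem F411682 : act 5 n134093 = n199322 := d13_3 F411680 (iv5 D137917) (iv7 F361495)
theorem F411683 : act 6 n114928 = n199322 := d14_5 F411680 F221176 D137933 F353553 F336783
theorem E103771 : n137917 = n134068 := ((c15_2 F377405 D134068 (iv7 F411680) (iv2 F411681))).symm
theorem F411684 : act 2 n134068 = n199321 := (sb E103771 (iv2 F411664))
theorem F411685 : act 5 n134068 = n64819 := (sb E103771 (iv5 D137917))
theorem F411686 : act 6 n134068 = n64823 := (sb E103771 F221176)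
theorem F411687 : act 7 n134068 = n199322 := (sb E103771 (iv7 F411680))
theorem F411688 : act 5 n143099 = n134803 := d17_1 (iv1 F365742) (iv1 D134803) (iv5 D63345) F48091 D62973 D134068 F411685 (iv0 F354839) (iv4 F217057)
theorem F411689 : act 3 n199322 = n191412 := d7_1 F411683 (iv6 D191412) F366793
theorem F411690 : act 4 n199322 = n114930 := d10_1 F411683 (iv6 D114930) D114928
theorem F411691 : act 3 n158964 = n134068 := d8_3 F411687 F411689 (iv7 F391594)
theorem F411692 : act 5 n137887 = n158964 := d6_0 F411691 F411685 (iv3 F221114)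
theorem F411693 : act 6 n137891 = n158964 := d7_0 F411691 F411686 (iv3 F221117)
theorem F411694 : act 1 n199322 = n134066 := d15_0 F411660 (iv7 F411662) F411681
theorem F411695 : act 0 n114930 = n121325 := d20_1 F411690 F368719 (iv3 D186972) (iv1 F367307) F367297 F328459 F339492 (iv4 D134383) (iv3 F216075) (iv1 F411694)
theorem F411696 : act 0 n158965 = n191412 := d20_4 (iv4 F408298) (iv1 F408300) (iv4 F368714) F354743 (iv3 F411689) F411690 F411695 F368719 (iv3 D186972) (iv1 F367307)
theorem F411697 : act 1 n125097 = n191412 := d15_0 (iv0 F411696) (iv7 F391635) F391634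
theorem F411698 : act 5 n188593 = n193805 := d21_6 F137230 D100552 (iv5 F363720) D191412 (iv1 F411697) (iv6 F374130) (iv1 D193805) (iv5 F372386) F372387 F368961
def n199323 : Q := act 2 n111191
theorem D199323 : act 2 n111191 = n199323 := rfl
theorem F411699 : act 3 n199323 = n117468 := d0_2 D111191 D199323 F329413 F98417 (iv2 F80891)
theorem F411700 : act 5 n199323 = n134053 := d2_2 (iv5 F172436) D199323 (iv2 F216066)
theorem F411701 : act 7 n199323 = n134066 := d4_2 (iv7 F172437) D199323 F216074
theorem F411702 : act 1 n199323 = n114935 := d15_0 F377405 (iv7 F172437) D199323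
theorem F411703 : act 1 n134068 = n199323 := d15_0 F411702 F411662 (iv2 F411684)
theorem F411704 : act 5 n137908 = n191461 := d21_6 (iv5 F411700) (iv1 F411703) F411685 (iv6 D64819) D64816 D137908 (iv1 D191461) (iv5 F336948) (iv6 D134058) D134053
def n199324 : Q := act 5 n111196
theorem D199324 : act 5 n111196 = n199324 := rfl
theorem F411705 : act 2 n199324 = n134428 := d2_1 D199324 (iv5 D134428) (iv2 F172440)
theorem F411706 : act 6 n199324 = n111199 := d12_2 D111196 D199324 (iv5 D111199) (iv6 D51287) (iv5 F80898)
theorem F411707 : act 7 n199324 = n160307 := d13_2 F342800 D199324 (iv5 F253208)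
theorem F411708 : act 4 n199324 = n115358 := d16_2 (iv4 F172441) D199324 F179637 F84105 (iv5 F101671) (iv4 F345294) F98835 (iv7 D63145) (iv2 F98272)
theorem F411709 : act 0 n199324 = n160309 := d17_2 F356447 D199324 F253211 (iv4 F191568) (iv5 F404707) (iv0 D197530) (iv5 F171540) F357134 (iv4 F357130)
theorem F411710 : act 1 n199324 = n120457 := d17_6 (iv1 D123251) D123252 F341413 F98635 (iv4 F172441) D199324 (iv5 D120457) D120456 F357683
def n199325 : Q := act 3 n111198
theorem D199325 : act 3 n111198 = n199325 := rfl
theorem F411711 : act 4 n199325 = n115711 := d5_2 F172448 D199325 (iv3 D115711) (iv4 F175399) F175398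
theorem F411712 : act 7 n199325 = n139303 := d8_2 (iv7 F172447) D199325 (iv3 D139303)
theorem F411713 : act 0 n137218 = n199325 := d20_4 (iv4 F406968) (iv1 F406970) (iv4 D137219) (iv3 F220374) (iv3 D199325) (iv4 F172448) (iv1 F171627) (iv4 F111877) (iv3 F338259) (iv1 F221409)
def n199326 : Q := act 5 n111198
theorem D199326 : act 5 n111198 = n199326 := rfl
theorem F411714 : act 2 n199326 = n139301 := d2_1 D199326 (iv5 D139301) (iv2 F172449)
theorem F411715 : act 7 n199326 = n124427 := d13_2 (iv7 F172447) D199326 F342821
theorem F411716 : act 0 n199326 = n175724 := d17_2 (iv1 F172446) D199326 F357156 F222565 (iv5 F168317) (iv0 D67396) (iv5 D31326) (iv0 F168226) (iv4 F84337)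
def n199327 : Q := act 6 n111198
theorem D199327 : act 6 n111198 = n199327 := rfl
theorem F411717 : act 2 n199327 = n139302 := d3_1 D199327 (iv6 D139302) (iv2 F172449)
theorem F411718 : act 4 n199327 = n131930 := d10_1 D199327 F211411 F172448
theorem F411719 : act 7 n199327 = n123307 := d14_2 (iv7 F172447) D199327 (iv6 D123307) (iv7 F197088) F342823
theorem F411720 : act 0 n141317 = n199327 := d21_4 (iv5 F329612) (iv1 F135036) (iv5 F329909) (iv6 F224336) (iv6 D199327) D199326 F411716 F357156 (iv6 D139350) F111408
theorem F411721 : act 1 n141159 = n199327 := d15_0 (iv0 F411720) (iv7 D141317) (iv2 F224147)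
def n199328 : Q := act 0 n111199
theorem D199328 : act 0 n111199 = n199328 := rfl
theorem F411722 : act 5 n199328 = n139381 := d17_3 (iv1 D111198) D111199 D199328 F222590 (iv5 D127075) (iv0 F166985) F80604 F171627 F172448
theorem F411723 : act 1 n115924 = n199328 := d15_0 (iv0 D199328) F172450 (iv2 F180490)
theorem F411724 : act 2 n139307 = n199328 := d2_3 F411722 (iv2 F406627) F406631
theorem F411725 : act 7 n139306 = n199328 := d13_0 F411722 (iv7 F410597) F410598
def n199329 : Q := act 1 n111199
theorem D199329 : act 1 n111199 = n199329 := rfl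
theorem F411726 : act 1 n199329 = n115924 := d15_1 D199329 F180491 F172569
theorem F411727 : act 7 n199329 = n139307 := d15_2 (iv0 D199328) D199329 F411724
theorem F411728 : act 5 n199329 = n139608 := d17_7 F168232 (iv5 D31326) (iv1 F168225) F39081 (iv4 F80899) D111199 D199329 (iv0 D139608) F101198
theorem F411729 : act 2 n139306 = n199329 := d2_3 F411728 (iv2 F410594) F410598
theorem F411730 : act 6 n136844 = n199329 := d12_0 F411728 F224314 (iv5 F342842) (iv6 F400268) F400270
theorem F411731 : act 3 n199329 = n136847 := d7_1 F411730 (iv6 D136847) D136844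
def n199330 : Q := act 4 n111199
theorem D199330 : act 4 n111199 = n199330 := rfl
theorem F411732 : act 3 n199330 = n115359 := d5_1 D199330 F179638 (iv3 F362016) D193422 (iv3 F389795)
theorem F411733 : act 6 n199330 = n115358 := d10_2 F411706 D199330 (iv4 F411708)
theorem F411734 : act 7 n199330 = n139308 := d11_2 (iv7 F172450) D199330 (iv4 D139308)
def n199331 : Q := act 5 n111201
theorem D199331 : act 5 n111201 = n199331 := rfl
theorem F411735 : act 2 n199331 = n156109 := d2_1 D199331 (iv5 D156109) F172458
theorem F411736 : act 3 n199331 = n113061 := d6_1 D199331 (iv5 D113061) F172461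
theorem F411737 : act 6 n199331 = n163766 := d12_2 (iv6 F172457) D199331 (iv5 F363265) F164895 (iv5 F165260)
theorem F411738 : act 7 n199331 = n156110 := d13_2 (iv7 F172460) D199331 (iv5 D156110)
theorem F411739 : act 1 n199331 = n163133 := d17_8 D163140 (iv5 F409891) (iv1 F409894) (iv5 D121736) (iv4 F327260) (iv5 F111137) F172459 D199331 F257449
theorem F411740 : act 4 n199331 = n166171 := d18_5 (iv1 D108028) (iv4 F166957) D197230 F403654 D199331 (iv0 F366442) F202668 F175028 F175025
theorem F411741 : act 0 n199331 = n112265 := d18_0 (iv4 F332145) (iv1 D166143) (iv4 F326046) (iv5 F166173) D108103 F245289 F245287 F172459 D199331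
def n199332 : Q := act 3 n111202
theorem D199332 : act 3 n111202 = n199332 := rfl
theorem F411742 : act 7 n199332 = n179222 := d8_2 (iv7 F410255) D199332 (iv3 F403932)
theorem F411743 : act 4 n199332 = n125063 := d20_6 (iv4 F38170) F23986 D24938 D51291 D111202 D199332 (iv1 F200917) (iv4 F320634) F166973 (iv1 F78904)
theorem F411744 : act 2 n179227 = n199332 := d1_3 F411743 F351006 D179227
theorem F411745 : act 0 n197259 = n199332 := d20_10 F411743 (iv1 F200917) (iv4 F320634) F166973 (iv1 F78904) D49941 F78980 D64427 (iv4 F167049) (iv3 F403753)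
theorem F411746 : act 5 n199332 = n111202 := d2_2 (iv5 F403940) F411744 (iv2 F410254)
def n199333 : Q := act 4 n111202
theorem D199333 : act 4 n111202 = n199333 := rfl
theorem F411747 : act 2 n199333 = n198998 := d1_1 D199333 F410251 F410254
theorem F411748 : act 1 n199333 = n146976 := d18_8 (iv1 F230280) F230278 F230427 (iv4 F331629) F216395 (iv4 F403935) F403938 D199333 (iv5 D146976)
theorem F411749 : act 0 n199333 = n146964 := d20_1 D199333 (iv4 F404074) (iv3 D197372) (iv1 F167208) (iv3 D49941) (iv4 F38170) F23986 D24938 D51291 D111202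
theorem F411750 : act 3 n199333 = n154103 := d20_3 (iv4 F80906) D111202 D199333 F353932 (iv3 D85501) (iv4 D39477) F232408 D71347 (iv3 F316922) (iv1 D51309)
theorem F411751 : act 5 n154101 = n199333 := d6_0 F411750 (iv5 D154103) D154101
def n199334 : Q := act 6 n111202
theorem D199334 : act 6 n111202 = n199334 := rfl
def n199335 : Q := act 3 n111203
theorem D199335 : act 3 n111203 = n199335 := rfl
theorem F411752 : act 0 n199335 = n196441 := d20_4 F404074 F386701 F386699 D199335 F400681 (iv4 D156780) F214158 F210281 D108131 F404077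
theorem F411753 : act 1 n199335 = n196443 := d15_1 (iv0 F411752) (iv7 F404002) F403999
def n199336 : Q := act 5 n111203
theorem D199336 : act 5 n111203 = n199336 := rfl
theorem F411754 : act 2 n199336 = n179222 := d2_1 D199336 (iv5 F403931) (iv2 F410253)
theorem F411755 : act 7 n199336 = n179227 := d13_2 F410252 D199336 F403940
theorem F411756 : act 0 n199336 = n197259 := d17_2 (iv1 F403941) D199336 (iv5 D197259) F167048 (iv5 F329114) (iv0 F356567) (iv5 D111249) F172548 (iv4 F403935)
theorem F411757 : act 4 n199336 = n125064 := d18_5 F404077 F404074 F386701 F386699 D199336 F200921 (iv4 F320634) F403669 F403665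
theorem F411758 : act 6 n155784 = n199336 := d10_0 F411757 F351009 D155784
def n199337 : Q := act 0 n111205
theorem D199337 : act 0 n111205 = n199337 := rfl
theorem F411759 : act 4 n199337 = n125187 := d18_1 D199337 (iv1 F201258) (iv4 F322250) (iv5 F404075) F404074 (iv0 F411749) (iv4 D199333) (iv0 D111202) D111205
theorem F411760 : act 1 n197267 = n199337 := d15_0 (iv0 D199337) (iv7 F403806) F403803
theorem F411761 : act 2 n179951 = n199337 := d1_3 F411759 F350996 D179951
theorem F411762 : act 7 n179946 = n199337 := d11_0 F411759 F350998 D179946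
theorem F411763 : act 3 n197256 = n199337 := d20_5 (iv4 D34046) F48167 (iv4 F78944) D108053 D197256 F411759 (iv1 F201258) (iv4 F322250) (iv3 D156035) (iv1 D74215)
def n199338 : Q := act 1 n111205
theorem D199338 : act 1 n111205 = n199338 := rfl
theorem F411764 : act 1 n199338 = n197267 := d15_1 D199338 F403789 F397334
theorem F411765 : act 7 n199338 = n179951 := d15_2 (iv0 D199337) D199338 F411761
theorem F411766 : act 4 n199338 = n125188 := d17_9 (iv1 D125188) (iv5 F131572) D179651 F351005 (iv4 F411743) F411746 (iv0 D111202) D111205 D199338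
theorem F411767 : act 2 n179946 = n199338 := d1_3 F411766 F350999 D179946
def n199339 : Q := act 0 n111206
theorem D199339 : act 0 n111206 = n199339 := rfl
theorem F411768 : act 4 n199339 = n156287 := d18_1 D199339 (iv1 F404255) F404235 F167243 (iv4 F361837) F226620 (iv4 F407830) F407832 F215920
theorem F411769 : act 2 n195353 = n199339 := d15_3 (iv0 D199339) (iv0 F336197) (iv7 F396809)
theorem F411770 : act 5 n199339 = n195352 := d2_2 D195353 F411769 (iv2 D195352)
def n199340 : Q := act 3 n111208
theorem D199340 : act 3 n111208 = n199340 := rfl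
theorem F411771 : act 2 n199340 = n197242 := d0_1 D199340 F403704 F411372 (iv3 D199263) (iv2 F380325)
theorem F411772 : act 5 n199340 = n187123 := d6_2 F356538 D199340 (iv3 D187123)
theorem F411773 : act 7 n199340 = n199266 := d8_2 (iv7 F380324) D199340 (iv3 D199266)
theorem F411774 : act 4 n199340 = n197240 := d20_6 (iv4 D74424) (iv1 F53603) (iv4 F100764) (iv3 F172339) (iv1 F172469) D199340 (iv1 F403698) (iv4 F332266) (iv3 F314742) F314740
def n199341 : Q := act 4 n111208
theorem D199341 : act 4 n111208 = n199341 := rfl
theorem F411775 : act 2 n199341 = n199264 := d1_1 D199341 (iv4 D199264) (iv2 F380325)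
theorem F411776 : act 3 n199341 = n134825 := d5_1 D199341 F216975 (iv3 F403695) (iv4 F411774) (iv3 D199340)
theorem F411777 : act 7 n199341 = n192910 := d11_2 (iv7 F380324) D199341 F388187
def n199342 : Q := act 5 n111209
theorem D199342 : act 5 n111209 = n199342 := rfl
theorem F411778 : act 2 n199342 = n111210 := d2_1 D199342 (iv5 D111210) D111209
theorem F411779 : act 3 n199342 = n156475 := d6_1 D199342 (iv5 D156475) (iv3 F172465)
theorem F411780 : act 7 n199342 = n199267 := d13_2 (iv7 F172467) D199342 (iv5 D199267)
theorem F411781 : act 1 n199342 = n178690 := d17_6 D108442 (iv5 F372020) (iv1 F405114) (iv5 D197633) (iv4 F172466) D199342 F361301 (iv0 D111138) F80866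
theorem F411782 : act 0 n199342 = n146975 := d21_1 D199342 F374450 F350416 (iv1 D66198) D66201 D141140 (iv1 F383759) F411380 (iv6 D199265) (iv1 F172468)
theorem F411783 : act 6 n199342 = n193974 := d21_3 (iv5 F380326) (iv1 F172468) D199342 (iv1 D193974) (iv6 D102518) F74749 (iv1 F63956) D41499 D88892 D186599
def n199343 : Q := act 6 n111209
theorem D199343 : act 6 n111209 = n199343 := rfl
theorem F411784 : act 2 n199343 = n111211 := d3_1 D199343 (iv6 D111211) D111209
theorem F411785 : act 3 n199343 = n156476 := d7_1 D199343 (iv6 D156476) (iv3 F172465)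
theorem F411786 : act 4 n199343 = n181323 := d10_1 D199343 (iv6 F366739) (iv4 F172466)
def n199344 : Q := act 0 n111210
theorem D199344 : act 0 n111210 = n199344 := rfl
theorem F411787 : act 3 n199344 = n178551 := d20_5 F80897 (iv1 F96399) F96397 (iv3 F172471) D199344 (iv4 D178551) (iv1 F275799) (iv4 F318037) (iv3 D111259) (iv1 F80950)
theorem F411788 : act 2 n146975 = n199344 := d15_3 (iv0 D199344) (iv0 F391999) F391997
theorem F411789 : act 1 n199267 = n199344 := d15_0 (iv0 D199344) F172472 (iv2 F411386)
theorem F411790 : act 7 n199344 = n178690 := d15_2 (iv0 F411389) F411789 (iv2 F391995)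
theorem F411791 : act 5 n199344 = n111214 := d17_7 D108534 (iv5 F350373) (iv1 F371973) (iv5 F371965) (iv4 F172340) D199267 F411789 (iv0 D111214) F80917
theorem F411792 : act 0 n139322 = n111211 := d21_4 D141133 F224850 (iv5 D139321) D139322 (iv6 D111211) D111210 D199344 F411791 F350407 (iv1 F171779)
def n199345 : Q := act 0 n111211
theorem D199345 : act 0 n111211 = n199345 := rfl
def n199346 : Q := act 4 n111213
theorem D199346 : act 4 n111213 = n199346 := rfl
theorem F411793 : act 2 n199346 = n156496 := d1_1 D199346 (iv4 D156496) (iv2 F172476)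
theorem F411794 : act 3 n199346 = n123982 := d5_1 D199346 (iv4 D123982) (iv3 F198390) (iv4 F386728) (iv3 F386730)
def n199347 : Q := act 3 n111215
theorem D199347 : act 3 n111215 = n199347 := rfl
theorem F411795 : act 2 n199347 = n146964 := d0_1 D199347 (iv3 F361429) F349782 (iv3 F361302) F361304
theorem F411796 : act 4 n199347 = n179913 := d5_2 F404817 D199347 F280196 (iv4 F343125) D197558
theorem F411797 : act 5 n199347 = n146832 := d6_2 F391998 D199347 (iv3 F391996)
theorem F411798 : act 7 n199347 = n146976 := d8_2 F361308 D199347 (iv3 F374451)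
theorem F411799 : act 0 n198998 = n199347 := d20_4 (iv4 F246725) (iv1 F410259) (iv4 D198999) D198998 (iv3 D199347) (iv4 F404817) F404816 (iv4 F364764) (iv3 F368617) F368619
def n199348 : Q := act 6 n111215
theorem D199348 : act 6 n111215 = n199348 := rfl
theorem F411800 : act 2 n199348 = n199275 := d3_1 D199348 (iv6 D199275) F361304
theorem F411801 : act 5 n199348 = n198642 := d12_1 D199348 (iv6 D198642) F344560 D194078 F391998
theorem F411802 : act 7 n199348 = n199037 := d14_2 F361308 D199348 (iv6 D199037) F361312 (iv6 F350416)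
theorem F411803 : act 0 n199348 = n193942 := d21_4 D199267 F411389 F391998 D199348 F391470 (iv5 D162025) (iv1 F311768) F268282 D100128 F342222
theorem F411804 : act 1 n199348 = n193945 := d15_1 (iv0 F411803) F391480 (iv2 F391468)
theorem E103772 : n193963 = n193946 := (c21_5 F408666 (iv1 D193961) (iv5 D102504) D102505 D193963 (iv6 D193946) D193945 (iv1 F411804) F411801 (iv6 D198642) D198641)
theorem F411805 : act 1 n193946 = n102505 := (sb E103772 (iv0 D193963))
def n199349 : Q := act 6 n111224
theorem D199349 : act 6 n111224 = n199349 := rfl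
theorem F411806 : act 2 n199349 = n199293 := d3_1 D199349 (iv6 D199293) (iv2 F212025)
theorem F411807 : act 3 n199349 = n156727 := d7_1 D199349 (iv6 D156727) (iv3 F172505)
theorem F411808 : act 4 n199349 = n178806 := d10_1 D199349 (iv6 D178806) (iv4 F317223)
theorem F411809 : act 0 n199325 = n199349 := d20_7 F351563 (iv1 D53781) (iv4 F84184) F84183 D53356 D115711 (iv4 F411711) F411808 (iv3 F366469) (iv1 F351562)
def n199350 : Q := act 6 n111226
theorem D199350 : act 6 n111226 = n199350 := rfl
theorem F411810 : act 2 n199350 = n111228 := d3_1 D199350 (iv6 D111228) D111226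
theorem F411811 : act 3 n199350 = n185203 := d7_1 D199350 (iv6 F352348) (iv3 F172507)
theorem F411812 : act 4 n199350 = n156171 := d10_1 D199350 (iv6 D156171) (iv4 F172508)
theorem F411813 : act 7 n199350 = n185178 := d14_2 (iv7 F172509) D199350 F287517 F144120 (iv6 F359969)
theorem F411814 : act 5 n185179 = n199350 := d13_3 F411813 (iv5 D185178) D185179
def n199351 : Q := act 6 n111227
theorem D199351 : act 6 n111227 = n199351 := rfl
theorem F411815 : act 3 n199351 = n111229 := d7_1 D199351 (iv6 D111229) (iv3 F172513)
def n199352 : Q := act 0 n111228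
theorem D199352 : act 0 n111228 = n199352 := rfl
def n199353 : Q := act 1 n111228
theorem D199353 : act 1 n111228 = n199353 := rfl
theorem F411816 : act 1 n199353 = n185178 := d15_1 D199353 (iv7 F411813) F411810
def n199354 : Q := act 5 n111228
theorem D199354 : act 5 n111228 = n199354 := rfl
theorem F411817 : act 2 n199354 = n185179 := d2_1 D199354 F411814 F411810
theorem F411818 : act 3 n199354 = n111230 := d6_1 D199354 (iv5 D111230) (iv3 F172515)
theorem F411819 : act 7 n185168 = n199354 := d8_0 F411818 (iv7 F406643) F406641
theorem F411820 : act 1 n185177 = n199354 := d15_1 D185177 (iv7 F411819) F287509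
theorem F411821 : act 1 n199354 = n185176 := d15_0 (iv0 D185176) D185179 (iv2 F411817)
def n199355 : Q := act 7 n111228
theorem D199355 : act 7 n111228 = n199355 := rfl
theorem F411822 : act 2 n199355 = n185178 := d4_1 D199355 (iv7 F411813) F411810
theorem F411823 : act 3 n199355 = n111231 := d8_1 D199355 (iv7 D111231) (iv3 F172515)
theorem F411824 : act 4 n199355 = n156175 := d11_1 D199355 (iv7 D156175) (iv4 F172516)
theorem F411825 : act 5 n199355 = n185168 := d13_1 D199355 F411819 (iv5 D199354)
theorem F411826 : act 6 n199355 = n189185 := d14_1 D199355 F375996 (iv6 D111163) (iv7 F80936) D111228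
theorem F411827 : act 1 n185178 = n199352 := d15_0 (iv0 D199352) D199355 F411822
def n199356 : Q := act 5 n111229
theorem D199356 : act 5 n111229 = n199356 := rfl
theorem F411828 : act 2 n199356 = n185227 := d2_1 D199356 (iv5 F353707) (iv2 F172517)
theorem F411829 : act 6 n199356 = n111230 := d12_2 D111229 D199356 (iv5 D111230) (iv6 D51304) D51303
theorem F411830 : act 1 n199356 = n123900 := d17_6 D57293 D123122 F342792 F362801 (iv4 F172518) D199356 (iv5 D123900) (iv0 D57727) F44471
theorem F411831 : act 0 n199356 = n123905 := d21_7 (iv5 D62959) (iv1 F95290) (iv5 F98372) (iv6 F329774) (iv1 F329101) D111229 D199356 (iv5 D123905) (iv6 F341479) F168757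
theorem F411832 : act 7 n199356 = n185216 := d15_2 (iv0 F362806) (iv0 F411831) F287535
def n199357 : Q := act 7 n111229
theorem D199357 : act 7 n111229 = n199357 := rfl
theorem F411833 : act 2 n199357 = n185226 := d4_1 D199357 (iv7 F353708) (iv2 F172517)
theorem F411834 : act 4 n199357 = n197974 := d11_1 D199357 (iv7 D197974) (iv4 F172518)
theorem F411835 : act 5 n199357 = n185216 := d13_1 D199357 (iv7 F411832) (iv5 D199356)
theorem F411836 : act 6 n199357 = n199296 := d14_1 D199357 (iv7 D199296) (iv6 D111164) (iv7 F80938) D111229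
theorem F411837 : act 1 n188588 = n199357 := d15_1 F374111 (iv7 D199357) F172517
theorem F411838 : act 1 n199357 = n199291 := d15_1 F411837 F411506 (iv2 F374112)
theorem F411839 : act 6 n185072 = n123907 := d21_5 (iv5 D99867) (iv1 F289618) D47502 F337968 D185072 (iv5 F411502) (iv1 F411838) F411835 (iv6 D185216) (iv1 F336648)
def n199358 : Q := act 4 n111230
theorem D199358 : act 4 n111230 = n199358 := rfl
theorem F411840 : act 2 n199358 = n199292 := d1_1 D199358 (iv4 D199292) (iv2 F172519)
def n199359 : Q := act 4 n111232
theorem D199359 : act 4 n111232 = n199359 := rfl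
theorem F411841 : act 2 n199359 = n197135 := d1_1 D199359 F403204 (iv2 F373325)
theorem F411842 : act 3 n199359 = n125082 := d5_1 D199359 (iv4 F404779) (iv3 D197549) (iv4 F368660) (iv3 F368661)
theorem F411843 : act 7 n199359 = n125088 := d11_2 F373326 D199359 (iv4 F350807)
theorem F411844 : act 5 n199359 = n153913 := d18_4 F321287 (iv4 F80941) D111232 D199359 (iv4 F336375) F336370 (iv4 F329468) F342709 F113812
theorem F411845 : act 0 n179221 = n199359 := d19_0 F411844 (iv4 F336375) F172402 F328728 (iv5 F328729) (iv4 D30518) (iv3 F48718) F48720 (iv5 D16494) (iv4 D7658) D7657 (iv1 F19935) (iv5 F39092) (iv4 F78969) D108087 D197313 F403931 (iv4 D179222) D179221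
def n199360 : Q := act 5 n111232
theorem D199360 : act 5 n111232 = n199360 := rfl
theorem F411846 : act 2 n199360 = n123724 := d2_1 D199360 (iv5 F336362) (iv2 F373325)
theorem F411847 : act 7 n199360 = n199288 := d13_2 F373326 D199360 (iv5 D199288)
theorem F411848 : act 4 n199360 = n178959 := d16_4 F336375 (iv5 F411844) (iv4 D199359) D199360 F336296 (iv4 F335396) (iv5 F336365) F336367 (iv2 F335400)
theorem F411849 : act 0 n199360 = n199319 := d17_2 D111232 D199360 F411654 F354237 F339309 F345975 (iv5 F342707) (iv0 D107688) (iv4 F80941)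
theorem F411850 : act 6 n199360 = n123682 := d21_3 F335398 D111232 D199360 (iv1 D123682) (iv6 D57659) (iv5 D27544) (iv1 F21947) D16276 D33671 D73088
theorem F411851 : act 0 n111261 = n199360 := d19_0 (iv5 D199360) D199359 F411842 F352304 F92372 (iv4 F113791) (iv3 D75881) D75879 D158958 F337005 (iv3 F212411) (iv1 D129301) (iv5 F95908) (iv4 F207342) (iv3 D129113) F95289 D62957 F98232 D111261
def n199361 : Q := act 3 n111233
theorem D199361 : act 3 n111233 = n199361 := rfl
theorem F411852 : act 7 n199361 = n199290 := d8_2 (iv7 F373327) D199361 (iv3 D199290)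
def n199362 : Q := act 4 n111233
theorem D199362 : act 4 n111233 = n199362 := rfl
theorem F411853 : act 2 n199362 = n125088 := d1_1 D199362 (iv4 F350807) F373328
theorem F411854 : act 7 n199362 = n197135 := d11_2 (iv7 F373327) D199362 F403204
theorem F411855 : act 5 n199362 = n153912 := d16_1 D199362 F342698 F336365 F335396 (iv5 F336296) (iv4 F411848) (iv5 D199360) (iv7 F373326) F373328
theorem F411856 : act 0 n199362 = n179221 := d18_2 (iv1 F172530) D199362 F369482 (iv5 D187204) (iv4 F345968) (iv0 D128106) F94775 D73089 (iv5 F336361)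
theorem F411857 : act 3 n199362 = n136449 := d20_3 (iv4 F340258) (iv1 F172530) D199362 (iv1 F219544) (iv3 F344829) F350216 F331334 F319051 (iv3 F321603) F321601
def n199363 : Q := act 5 n111233
theorem D199363 : act 5 n111233 = n199363 := rfl
theorem F411858 : act 2 n199363 = n199288 := d2_1 D199363 (iv5 D199288) F373328
theorem F411859 : act 4 n199363 = n178958 := d9_1 D199363 (iv5 F336290) F166013 D111154 F336375 (iv5 F411844) (iv4 D199359) D199360 F411848 F336296 (iv4 F335396) (iv5 F336365) (iv4 F342698) (iv5 F411855) (iv4 D199362)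
theorem F411860 : act 7 n199363 = n123724 := d13_2 (iv7 F373327) D199363 (iv5 F336362)
theorem F411861 : act 0 n199363 = n111261 := d17_2 (iv1 F172530) D199363 F172561 F166262 D107658 F342709 F113812 D85508 (iv4 F340258)
theorem F411862 : act 6 n199363 = n193246 := d21_3 (iv5 F336361) (iv1 F172530) D199363 (iv1 F389312) F368251 (iv5 D134030) D134027 F347331 (iv6 F198068) (iv1 F198070)
theorem F411863 : act 0 n199319 = n199363 := d19_0 (iv5 D199363) D199362 F411857 (iv1 F219544) F344828 F319429 F312597 F314967 F312505 (iv4 F298385) F107414 (iv1 F107373) F309010 (iv4 F208021) (iv3 F209863) (iv1 F189782) (iv5 F316075) D178634 (iv3 F411653)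
def n199364 : Q := act 6 n111233
theorem D199364 : act 6 n111233 = n199364 := rfl
theorem F411864 : act 2 n199364 = n199289 := d3_1 D199364 (iv6 D199289) F373328
theorem F411865 : act 0 n199364 = n193199 := d21_4 (iv5 F411654) F411863 (iv5 D199363) D199364 F389151 (iv5 D101349) F308267 D57648 (iv6 F198066) (iv1 F354239)
theorem F411866 : act 1 n199364 = n189193 := d15_1 (iv0 F411865) F376026 (iv2 F389149)
def n199365 : Q := act 6 n111240
theorem D199365 : act 6 n111240 = n199365 := rfl
theorem F411867 : act 2 n199365 = n111258 := d3_1 D199365 (iv6 D111258) F172545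
theorem F411868 : act 3 n199365 = n199298 := d7_1 D199365 (iv6 D199298) (iv3 F172546)
def n199366 : Q := act 6 n111241
theorem D199366 : act 6 n111241 = n199366 := rfl
theorem F411869 : act 2 n199366 = n111245 := d3_1 D199366 (iv6 D111245) D111241
theorem F411870 : act 4 n199366 = n197390 := d10_1 D199366 (iv6 D197390) (iv4 F210277)
theorem F411871 : act 0 n199366 = n199284 := d20_7 F403661 (iv1 F166966) D108103 (iv3 F246390) F361408 (iv3 F404118) (iv4 F411870) F411469 (iv3 D197334) (iv1 F403664)
def n199367 : Q := act 0 n111242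
theorem D199367 : act 0 n111242 = n199367 := rfl
theorem F411872 : act 1 n139143 = n199367 := d15_0 (iv0 D199367) F386799 F386795
def n199368 : Q := act 1 n111242
theorem D199368 : act 1 n111242 = n199368 := rfl
theorem F411873 : act 1 n199368 = n139143 := d15_1 D199368 F360932 (iv2 F360931)
theorem F411874 : act 3 n189037 = n199368 := d19_19 (iv1 D199368) (iv5 F356864) (iv4 F349075) F349074 (iv1 D176020) (iv5 F319756) F179308 F99179 F97464 (iv5 F97465) (iv4 F98707) (iv3 D63393) (iv1 D29951) D29953 (iv4 F79351) (iv3 F167796) F371972 F350373 (iv4 F375522)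
theorem F411875 : act 2 n199368 = n199290 := d0_1 F411874 (iv3 D199290) (iv2 F373325) F368661 F375524
theorem F411876 : act 4 n199368 = n136548 := d5_2 (iv4 F375522) F411874 (iv3 D136548) D136549 F219644
theorem F411877 : act 6 n199368 = n137667 := d7_2 (iv6 F375523) F411874 (iv3 F224823)
theorem F411878 : act 5 n159739 = n199368 := d12_5 F411877 (iv5 F388747) F388750 (iv5 D159738) D159739
theorem E103773 : n199367 = n199361 := (c15_2 F411873 F411872 F411852 (iv2 F411875))
theorem F411879 : act 0 n199361 = n139143 := (sb E103773 (iv1 F411872))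
theorem F411880 : act 1 n199361 = n111242 := (sb E103773 (iv0 D199367))
def n199369 : Q := act 4 n111242
theorem D199369 : act 4 n111242 = n199369 := rfl
theorem F411881 : act 2 n199369 = n136463 := d1_1 D199369 (iv4 F360933) (iv2 F360931)
theorem F411882 : act 7 n199369 = n136464 := d11_2 (iv7 F386799) D199369 F386801
theorem F411883 : act 1 n199369 = n136465 := d18_6 (iv1 F252178) F252174 (iv1 F193598) F349075 F356864 D199369 (iv4 F246445) F246448 F352977
theorem F411884 : act 0 n199369 = n115386 := d20_1 D199369 F179684 (iv3 D65082) (iv1 F48987) D51297 F80917 D108534 (iv4 F375522) F411874 (iv1 D199368)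
theorem F411885 : act 3 n199369 = n139098 := d20_9 (iv4 D197318) (iv1 F204012) F204009 (iv3 F218612) (iv1 F218617) D136548 (iv4 F411876) (iv1 D199368) D199369 (iv1 F403968)
def n199370 : Q := act 6 n111242
theorem D199370 : act 6 n111242 = n199370 := rfl
theorem F411886 : act 3 n199370 = n111245 := d7_1 D199370 (iv6 D111245) D111242
def n199371 : Q := act 3 n111243
theorem D199371 : act 3 n111243 = n199371 := rfl
theorem F411887 : act 2 n199371 = n139079 := d0_1 D199371 (iv3 D139079) F210269 D108131 F210278
theorem F411888 : act 4 n199371 = n139098 := d5_2 D111243 D199371 (iv3 F411885) (iv4 D199369) (iv3 D111242)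
theorem F411889 : act 5 n199371 = n197234 := d6_2 F356564 D199371 (iv3 D197234)
theorem F411890 : act 0 n199371 = n136578 := d20_10 (iv4 D136578) (iv1 D64204) (iv4 F93890) (iv3 D59486) F45732 D51291 F80906 D51308 D111243 D199371
theorem F411891 : act 7 n199371 = n197396 := d15_2 (iv0 F366313) (iv0 F411890) (iv2 D197396)
theorem F411892 : act 0 n136573 = n199371 := d20_1 D136573 F411888 (iv3 F411885) F411884 (iv3 D115386) F84079 F47022 F45108 D30249 D64203
def n199372 : Q := act 6 n111243
theorem D199372 : act 6 n111243 = n199372 := rfl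
theorem F411893 : act 2 n199372 = n197390 := d3_1 D199372 (iv6 D197390) F210278
theorem F411894 : act 4 n199372 = n111245 := d10_1 D199372 (iv6 D111245) D111243
def n199373 : Q := act 7 n111243
theorem D199373 : act 7 n111243 = n199373 := rfl
theorem F411895 : act 2 n199373 = n111248 := d4_1 D199373 F210274 F210278
theorem F411896 : act 3 n199373 = n197396 := d8_1 D199373 (iv7 F411891) (iv3 D199371)
theorem F411897 : act 4 n199373 = n111246 := d11_1 D199373 (iv7 D111246) D111243
theorem F411898 : act 5 n199373 = n197236 := d13_1 D199373 (iv7 D197236) F356564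
theorem F411899 : act 1 n197389 = n199373 := d15_1 D197389 (iv7 D199373) (iv2 F210278)
theorem F411900 : act 1 n199373 = n197372 := d15_1 F411899 F404076 F404117
theorem F411901 : act 6 n192425 = n199373 := d10_0 F411897 F366477 (iv4 F386707)
def n199374 : Q := act 4 n111244
theorem D199374 : act 4 n111244 = n199374 := rfl
theorem F411902 : act 2 n199374 = n147031 := d1_1 D199374 F352577 (iv2 F356860)
theorem F411903 : act 7 n199374 = n144519 := d11_2 (iv7 F356565) D199374 (iv4 F335194)
theorem F411904 : act 5 n199374 = n144520 := d16_7 (iv4 F225418) F354245 (iv4 F354251) F356564 (iv4 D111243) D111244 D199374 (iv7 D144520) (iv2 F183053)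
theorem F411905 : act 0 n199374 = n146982 := d17_0 (iv5 D146982) (iv1 D68899) (iv5 D32041) (iv4 F50666) D68886 (iv0 F356547) F356543 F356862 D199374
theorem F411906 : act 0 n146979 = n199374 := d20_1 (iv4 F336909) (iv4 D199374) F356863 (iv1 D154255) F109599 (iv4 F94775) D128106 F345968 (iv3 F369469) F369471
def n199375 : Q := act 6 n111244
theorem D199375 : act 6 n111244 = n199375 := rfl
theorem F411907 : act 5 n199375 = n192258 := d21_6 (iv5 F336980) F212982 (iv5 F216273) (iv6 F356549) (iv1 F356566) D199375 (iv1 D192258) (iv5 F370348) (iv6 F370351) (iv1 F230334)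
theorem F411908 : act 0 n199375 = n188576 := d21_10 (iv5 F392028) F392030 (iv5 D155512) (iv6 D73964) D73960 F331637 (iv5 D51311) D51308 D111244 D199375
def n199376 : Q := act 0 n111245
theorem D199376 : act 0 n111245 = n199376 := rfl
def n199377 : Q := act 1 n111245
theorem D199377 : act 1 n111245 = n199377 := rfl
def n199378 : Q := act 5 n111245
theorem D199378 : act 5 n111245 = n199378 := rfl
theorem F411909 : act 6 n199378 = n192258 := d12_2 D111245 D199378 (iv5 F411907) (iv6 D199375) (iv5 D111244)
def n199379 : Q := act 7 n111245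
theorem D199379 : act 7 n111245 = n199379 := rfl
def n199380 : Q := act 5 n111256
theorem D199380 : act 5 n111256 = n199380 := rfl
theorem F411910 : act 2 n199380 = n149210 := d2_1 D199380 (iv5 F234593) F331663
theorem F411911 : act 3 n199380 = n176326 := d6_1 D199380 (iv5 F346395) F216386
theorem F411912 : act 0 n199380 = n170465 := d18_0 (iv4 F353468) (iv1 D179652) F320894 F320140 D68890 (iv0 F230279) F230278 F364977 D199380
theorem F411913 : act 6 n149207 = n199380 := d21_5 (iv5 D69923) (iv1 F55341) D76528 (iv6 F133023) (iv1 F234583) (iv5 D199380) (iv1 F364977) (iv5 F253030) (iv6 D160239) F115237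
def n199381 : Q := act 0 n111258
theorem D199381 : act 0 n111258 = n199381 := rfl
def n199382 : Q := act 1 n111258
theorem D199382 : act 1 n111258 = n199382 := rfl
def n199383 : Q := act 5 n111258
theorem D199383 : act 5 n111258 = n199383 := rfl
theorem F411914 : act 3 n199383 = n111266 := d6_1 D199383 (iv5 D111266) (iv3 F172558)
def n199384 : Q := act 6 n111259
theorem D199384 : act 6 n111259 = n199384 := rfl
theorem F411915 : act 2 n199384 = n148818 := d3_1 D199384 (iv6 F361641) (iv2 F318036)
theorem F411916 : act 3 n199384 = n111260 := d7_1 D199384 (iv6 D111260) D111259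
theorem F411917 : act 4 n199384 = n148816 := d10_1 D199384 (iv6 F347935) (iv4 F318037)
theorem F411918 : act 7 n148823 = n199384 := d11_0 F411917 (iv7 F233677) D148823
def n199385 : Q := act 5 n111260
theorem D199385 : act 5 n111260 = n199385 := rfl
theorem F411919 : act 2 n199385 = n199320 := d2_1 D199385 (iv5 D199320) (iv2 F172560)
theorem F411920 : act 4 n199385 = n141852 := d17_4 (iv1 F341496) (iv5 F171540) (iv1 F342808) D199385 (iv5 D141852) F180857 F345311 F349749 (iv4 D120471)
theorem F411921 : act 0 n191335 = n199385 := d21_10 (iv5 D199385) F342807 F198293 (iv6 F404971) (iv1 F404972) F287497 (iv5 D88236) D88234 (iv5 F343095) D191335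
def n199386 : Q := act 2 n111261
theorem D199386 : act 2 n111261 = n199386 := rfl
theorem F411922 : act 3 n199386 = n175317 := d0_2 D111261 D199386 (iv2 F315806) (iv3 D111189) F80953
theorem F411923 : act 5 n199386 = n154283 := d2_2 (iv5 F172561) D199386 (iv2 F336348)
theorem F411924 : act 6 n199386 = n123698 := d3_2 (iv6 F336384) D199386 F356980
theorem F411925 : act 7 n199386 = n199319 := d4_2 (iv7 F172562) D199386 (iv2 D199319)
theorem F411926 : act 1 n199386 = n199288 := d15_0 F411491 (iv7 F172562) D199386
theorem F411927 : act 1 n123724 = n199386 := d15_0 F411926 (iv7 F411847) F411846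
def n199387 : Q := act 4 n111261
theorem D199387 : act 4 n111261 = n199387 := rfl
theorem F411928 : act 3 n199387 = n125096 := d5_1 D199387 F354745 F215989 F98232 D111261
theorem F411929 : act 6 n199387 = n128197 := d10_2 (iv6 F336384) D199387 F348697
theorem F411930 : act 7 n199387 = n159056 := d11_2 (iv7 F172562) D199387 (iv4 F354234)
theorem F411931 : act 0 n199387 = n128215 := d17_0 (iv5 F375966) F403205 F403202 F353929 (iv5 F336361) F172525 D199360 (iv0 F411851) D199387
def n199388 : Q := act 5 n111262
theorem D199388 : act 5 n111262 = n199388 := rfl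
theorem F411932 : act 2 n199388 = n123785 := d2_1 D199388 (iv5 D123785) (iv2 F356352)
theorem F411933 : act 3 n199388 = n154318 := d6_1 D199388 (iv5 D154318) (iv3 F356366)
theorem F411934 : act 6 n199388 = n197103 := d12_2 D111262 D199388 (iv5 D197103) (iv6 D107652) (iv5 F80952)
theorem F411935 : act 7 n199388 = n123790 := d13_2 (iv7 F356353) D199388 (iv5 D123790)
def n199389 : Q := act 4 n111266
theorem D199389 : act 4 n111266 = n199389 := rfl
theorem F411936 : act 2 n199389 = n199330 := d1_1 D199389 (iv4 D199330) (iv2 F172569)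
theorem F411937 : act 5 n199389 = n139308 := d16_1 D199389 (iv4 D139308) (iv5 D65381) F49115 F24177 (iv4 F49115) D65381 (iv7 F172450) (iv2 F172569)
def n199390 : Q := act 0 n111270
theorem D199390 : act 0 n111270 = n199390 := rfl
theorem F411938 : act 5 n199390 = n111347 := d17_1 D199390 (iv1 F409217) (iv5 D198783) F330492 (iv5 F400504) F400507 (iv5 F405453) (iv0 D197706) (iv4 F172590)
theorem F411939 : act 1 n111362 = n199390 := d15_0 (iv0 D199390) F172592 D111362
theorem F411940 : act 4 n199390 = n197894 := d18_7 (iv1 D151248) F107779 D71284 D151253 (iv5 F363678) (iv4 F172814) F411939 (iv0 D197894) (iv5 F406850)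
theorem F411941 : act 6 n180391 = n199390 := d21_5 (iv5 D106942) (iv1 D49406) D49408 D106948 F337385 F411938 (iv1 F409217) (iv5 D198783) F330493 (iv1 F164829)
theorem F411942 : act 2 n199390 = n111361 := d3_1 F411941 (iv6 F410543) F363806
theorem F411943 : act 6 n197894 = n197458 := d10_2 F411941 F411940 F404423
theorem F411944 : act 2 n199073 = n111347 := d2_3 (iv5 F411938) F411942 (iv5 F410542)
theorem F411945 : act 7 n111360 = n199390 := d15_2 F409171 (iv0 F409170) F411942
theorem F411946 : act 7 n111347 = n199072 := d13_2 F411945 F411938 F410540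
theorem F411947 : act 2 n199072 = n111348 := d15_3 F409216 F409217 F411946
theorem F411948 : act 7 n199073 = n111348 := d4_2 (iv7 F411946) (iv2 F411944) (iv2 F411947)
def n199391 : Q := act 1 n111270
theorem D199391 : act 1 n111270 = n199391 := rfl
theorem F411949 : act 1 n199391 = n111362 := d15_1 D199391 (iv7 F409169) F409166
theorem F411950 : act 7 n199391 = n111361 := d15_2 (iv0 D199390) D199391 (iv2 F411942)
theorem F411951 : act 4 n197864 = n199391 := d20_6 (iv4 D25441) (iv1 F38829) (iv4 F38828) D50210 D108739 D197864 (iv1 D199391) F172590 (iv3 D108603) F79441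
theorem F411952 : act 2 n111360 = n199391 := d4_3 F411950 (iv2 F411942) (iv7 F411945)
theorem F411953 : act 5 n111348 = n199391 := d13_3 F411950 (iv5 F410542) F411948
theorem F411954 : act 6 n178123 = n199391 := d21_5 D108670 D197798 F405829 (iv6 D178127) D178123 (iv5 F411953) (iv1 D111348) (iv5 D51353) F39169 D50176
def n199392 : Q := act 3 n111271
theorem D199392 : act 3 n111271 = n199392 := rfl
theorem F411955 : act 7 n199392 = n111455 := d8_2 (iv7 F173369) D199392 (iv3 D111455)
theorem F411956 : act 0 n199392 = n188901 := d19_4 (iv1 F321010) D148241 (iv4 F232075) D199392 (iv5 D188901) F143275 (iv3 F143270) (iv1 F335956) F231788 (iv4 D117332) (iv3 F94257) F327583 (iv5 F327588) F83023 F50771 D28409 D59854 (iv4 F105293) F321012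
def n199393 : Q := act 5 n111273
theorem D199393 : act 5 n111273 = n199393 := rfl
theorem F411957 : act 2 n199393 = n111274 := d2_1 D199393 (iv5 D111274) D111273
theorem F411958 : act 3 n199393 = n111400 := d6_1 D199393 (iv5 D111400) (iv3 F172595)
theorem F411959 : act 7 n199393 = n111464 := d13_2 (iv7 F172596) D199393 (iv5 D111464)
theorem F411960 : act 0 n199393 = n111467 := d17_2 (iv1 F172597) D199393 F403537 F323986 D180579 (iv0 F348620) F348613 F348614 (iv4 D111456)
theorem F411961 : act 0 n111466 = n199393 := d21_1 (iv5 F365188) (iv5 D199393) F351735 (iv1 D163969) (iv6 D78773) D78772 (iv1 F327524) (iv5 D111576) (iv6 D51459) D51455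
def n199394 : Q := act 0 n111274
theorem D199394 : act 0 n111274 = n199394 := rfl
theorem F411962 : act 5 n199394 = n111296 := d17_3 (iv1 D111272) D111274 D199394 F347816 F339254 (iv0 F182010) D147161 (iv0 F230749) F172594
theorem F411963 : act 1 n111464 = n199394 := d15_0 (iv0 D199394) F172601 (iv2 F172978)
theorem F411964 : act 2 n111467 = n199394 := d2_3 F411962 F173106 (iv5 F403537)
theorem F411965 : act 7 n111466 = n199394 := d13_0 F411962 F173107 (iv5 F365188)
def n199395 : Q := act 1 n111274
theorem D199395 : act 1 n111274 = n199395 := rfl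
theorem F411966 : act 1 n199395 = n111464 := d15_1 D199395 (iv7 F411959) F411957
theorem F411967 : act 7 n199395 = n111467 := d15_2 (iv0 D199394) D199395 F411964
theorem F411968 : act 5 n199395 = n111297 := d17_7 F403528 F403527 F403156 (iv5 F354604) F171167 D111274 D199395 F172690 (iv4 F173076)
theorem F411969 : act 3 n112454 = n199395 := d20_3 (iv4 F407504) F407506 (iv4 F360051) (iv1 D199395) F172600 F80971 (iv1 F80592) F80590 (iv3 F80208) D110281
theorem F411970 : act 2 n111466 = n199395 := d2_3 F411968 F173103 (iv5 F365188)
def n199396 : Q := act 4 n111274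
theorem D199396 : act 4 n111274 = n199396 := rfl
theorem F411971 : act 3 n199396 = n115957 := d5_1 D199396 (iv4 D115957) F84361 (iv4 F80971) (iv3 F172600)
theorem F411972 : act 7 n199396 = n111468 := d11_2 (iv7 F172601) D199396 (iv4 D111468)
theorem F411973 : act 0 n198305 = n199396 := d20_4 (iv4 D198265) (iv1 F169091) D109166 D198305 F411971 (iv4 D115957) D115955 F407558 (iv3 D198307) (iv1 F407398)
def n199397 : Q := act 6 n111274
theorem D199397 : act 6 n111274 = n199397 := rfl
theorem F411974 : act 3 n199397 = n111276 := d7_1 D199397 (iv6 D111276) (iv3 F172600)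
theorem F411975 : act 5 n199397 = n188312 := d12_1 D199397 (iv6 D188312) (iv5 F327456) (iv6 D111275) D111274
def n199398 : Q := act 5 n111283
theorem D199398 : act 5 n111283 = n199398 := rfl
theorem F411976 : act 2 n199398 = n111284 := d2_1 D199398 (iv5 D111284) D111283
theorem F411977 : act 3 n199398 = n111464 := d6_1 D199398 (iv5 D111464) (iv3 F172627)
theorem F411978 : act 7 n199398 = n111400 := d13_2 (iv7 F172629) D199398 (iv5 D111400)
theorem F411979 : act 1 n199398 = n111402 := d17_6 D52312 (iv5 F219256) (iv1 F203059) F203057 (iv4 F172628) D199398 F354462 (iv0 D51427) (iv4 F40189)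
theorem F411980 : act 0 n199398 = n111403 := d21_1 D199398 F220875 F348804 (iv1 D50293) D50296 D108939 D198117 F406897 (iv6 D111394) (iv1 F172630)
def n199399 : Q := act 6 n111283
theorem D199399 : act 6 n111283 = n199399 := rfl
theorem F411981 : act 2 n199399 = n111285 := d3_1 D199399 (iv6 D111285) D111283
theorem F411982 : act 3 n199399 = n111465 := d7_1 D199399 (iv6 D111465) (iv3 F172627)
theorem F411983 : act 4 n199399 = n195049 := d10_1 D199399 (iv6 D195049) (iv4 F172628)
theorem F411984 : act 0 n197723 = n199399 := d21_4 D50295 D108933 (iv5 F219105) D197723 (iv6 D199399) D199398 F411980 F220875 F348804 (iv1 D50293)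
theorem F411985 : act 7 n197903 = n199399 := d8_0 F411982 F361595 (iv3 F406163)
theorem F411986 : act 1 n197905 = n199399 := d15_1 F406166 (iv7 F411985) F406162
def n199400 : Q := act 0 n111284
theorem D199400 : act 0 n111284 = n199400 := rfl
theorem F411987 : act 4 n199400 = n134743 := d18_1 D199400 F223822 (iv4 F409312) F409313 (iv4 F380720) (iv0 F380722) F377790 (iv0 D111281) D111284
theorem F411988 : act 5 n199400 = n111307 := d19_1 D199400 (iv4 F176684) F395682 (iv1 D195078) F342904 (iv4 F212487) (iv3 D132417) (iv1 F203542) (iv5 F345903) (iv4 F347242) F225934 (iv1 D136880) (iv5 D64345) (iv4 F84346) (iv3 D53454) (iv1 F40923) D30666 (iv4 F80987) (iv3 F172633)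
theorem F411989 : act 3 n199400 = n197729 := d20_5 (iv4 F80590) F80591 (iv4 F80987) (iv3 F172633) D199400 (iv4 D197729) D197728 (iv4 F405545) (iv3 D111352) (iv1 F81056)
theorem F411990 : act 1 n111400 = n199400 := d15_0 (iv0 D199400) F172634 (iv2 F172888)
theorem F411991 : act 7 n111402 = n199400 := d8_0 F411989 F405546 (iv3 F354460)
theorem F411992 : act 2 n199400 = n111403 := d15_3 (iv0 F411980) F411979 F411991
theorem F411993 : act 6 n199400 = n154781 := d21_3 (iv5 D111310) D111307 (iv5 F411988) (iv1 D154781) (iv6 D73396) (iv5 D33759) D33756 D73385 (iv6 F350052) (iv1 F219134)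
def n199401 : Q := act 1 n111284
theorem D199401 : act 1 n111284 = n199401 := rfl
theorem F411994 : act 1 n199401 = n111400 := d15_1 D199401 (iv7 F411978) F411976
theorem F411995 : act 7 n199401 = n111403 := d15_2 (iv0 D199400) D199401 (iv2 F411992)
theorem F411996 : act 5 n199401 = n111308 := d17_7 (iv1 F93376) D126223 F219113 F93400 (iv4 F80984) D111284 D199401 F172722 (iv4 F82693)
theorem F411997 : act 4 n199401 = n196367 := d17_9 (iv1 F400490) F363660 (iv1 D64723) D64724 (iv4 F219132) F219137 (iv0 D111281) D111284 D199401
theorem F411998 : act 2 n111402 = n199401 := d1_3 F411997 (iv2 D196367) (iv4 F354461)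
theorem F411999 : act 3 n199401 = n196457 := d0_2 (iv3 F354460) F411998 (iv2 F410688) F410689 F406167
theorem F412000 : act 6 n156803 = n199401 := d7_0 F411999 F400743 (iv3 F246745)
def n199402 : Q := act 0 n111285
theorem D199402 : act 0 n111285 = n199402 := rfl
theorem F412001 : act 2 n197905 = n199402 := d15_3 (iv0 D199402) (iv0 F406146) D197905
theorem F412002 : act 1 n197903 = n199402 := d15_0 (iv0 D199402) F405221 (iv2 F406162)
theorem F412003 : act 7 n199402 = n197723 := d15_2 D197903 F412002 F405519
theorem F412004 : act 6 n197893 = n199402 := d14_5 F412003 (iv6 D197723) F203758 D108760 D197893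
def n199403 : Q := act 3 n111290
theorem D199403 : act 3 n111290 = n199403 := rfl
theorem F412005 : act 2 n199403 = n177794 := d0_1 D199403 (iv3 D177794) (iv2 F129873) F325332 (iv2 F172652)
theorem F412006 : act 4 n199403 = n197736 := d5_2 D111290 D199403 (iv3 D197736) (iv4 D108624) (iv3 F80993)
theorem F412007 : act 5 n199403 = n140533 := d6_2 (iv5 F336682) D199403 F223676
theorem F412008 : act 6 n199403 = n196497 := d7_2 (iv6 F172653) D199403 (iv3 F400851)
theorem F412009 : act 7 n199403 = n111492 := d8_2 (iv7 F172654) D199403 (iv3 D111492)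
theorem F412010 : act 1 n178124 = n199403 := d15_1 D178124 F412009 F345335
theorem F412011 : act 0 n178123 = n199403 := d21_10 F412007 (iv1 F401474) F401472 (iv6 D128809) F95193 (iv6 F330493) D198783 (iv1 F409216) F411953 (iv6 F411954)
def n199404 : Q := act 6 n111294
theorem D199404 : act 6 n111294 = n199404 := rfl
theorem F412012 : act 2 n199404 = n196471 := d3_1 D199404 F409250 (iv2 F409247)
theorem F412013 : act 3 n199404 = n111295 := d7_1 D199404 (iv6 D111295) D111294
theorem F412014 : act 4 n199404 = n112103 := d10_1 D199404 (iv6 D112103) (iv4 F172674)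
theorem F412015 : act 7 n199404 = n140389 := d14_2 (iv7 F172675) D199404 (iv6 D140389) F101569 (iv6 F81200)
theorem F412016 : act 0 n199404 = n198811 := d20_7 F174645 F326426 (iv4 F170553) (iv3 D110321) F166188 (iv3 F174295) (iv4 F412014) F409358 F276046 (iv1 F344522)
theorem F412017 : act 5 n196470 = n199404 := d2_0 F412012 (iv5 D196471) D196470
theorem F412018 : act 5 n152576 = n125470 := d16_7 F400781 F412017 F412014 (iv5 F410073) F410072 F175880 (iv4 F239766) (iv7 F400778) F400780
def n199405 : Q := act 5 n111295
theorem D199405 : act 5 n111295 = n199405 := rfl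
theorem F412019 : act 2 n199405 = n111498 := d2_1 D199405 (iv5 D111498) (iv2 F172677)
theorem F412020 : act 3 n199405 = n196470 := d6_1 D199405 F412017 F412013
theorem F412021 : act 7 n199405 = n140391 := d13_2 (iv7 F172679) D199405 (iv5 D140391)
theorem F412022 : act 0 n199405 = n156142 := d17_2 (iv1 F172681) D199405 F332214 (iv4 D111773) (iv5 D51531) (iv0 D25036) F19572 D25037 D51535
theorem F412023 : act 1 n199405 = n156137 := d17_6 F407667 (iv5 D198339) (iv1 F169176) F84329 (iv4 F172678) D199405 F332215 (iv0 F400802) F400801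
def n199406 : Q := act 3 n111296
theorem D199406 : act 3 n111296 = n199406 := rfl
theorem F412024 : act 2 n199406 = n112451 := d0_1 D199406 (iv3 D112451) F323977 (iv3 F323985) (iv2 F173106)
theorem F412025 : act 4 n199406 = n136264 := d5_2 (iv4 F347816) D199406 (iv3 F349833) F349834 (iv3 F345364)
theorem F412026 : act 7 n199406 = n111559 := d8_2 (iv7 F173107) D199406 (iv3 D111559)
theorem F412027 : act 0 n197795 = n199406 := d20_4 F39168 D50176 D108669 D197795 (iv3 D199406) F347816 (iv1 D125456) (iv4 F349854) (iv3 D111340) (iv1 D51351)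
def n199407 : Q := act 6 n111296
theorem D199407 : act 6 n111296 = n199407 := rfl
theorem F412028 : act 2 n199407 = n111567 := d3_1 D199407 (iv6 D111567) (iv2 F173106)
theorem F412029 : act 4 n199407 = n152592 := d10_1 D199407 (iv6 F339255) (iv4 F347816)
theorem F412030 : act 7 n199407 = n197739 := d14_2 (iv7 F173107) D199407 (iv6 D197739) F170038 (iv6 F359287)
theorem F412031 : act 0 n199407 = n198172 := d21_4 D111274 D199394 F411962 D199407 (iv6 F407098) (iv5 F337720) F359310 F359304 (iv6 F353073) (iv1 D111272)
theorem F412032 : act 5 n195883 = n199407 := d18_9 F412031 F407097 (iv1 F389732) F368586 (iv5 D110953) D110952 (iv0 F338225) F338228 F398595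
theorem F412033 : act 1 n199407 = n111776 := d15_1 (iv0 F412031) F173468 (iv2 F407099)
theorem F412034 : act 3 n199407 = n195885 := d6_1 F412032 (iv5 D195885) D195883
theorem F412035 : act 6 n195885 = n199406 := d7_2 D199407 F412034 (iv3 D199406)
theorem F412036 : act 0 n144323 = n195885 := d20_4 F92845 (iv1 F103636) (iv4 F103638) D144323 (iv3 F412034) F412029 F339240 (iv4 F400571) F400569 F164828
def n199408 : Q := act 5 n111298
theorem D199408 : act 5 n111298 = n199408 := rfl
theorem F412037 : act 2 n199408 = n111299 := d2_1 D199408 (iv5 D111299) D111298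
theorem F412038 : act 3 n199408 = n111511 := d6_1 D199408 (iv5 D111511) (iv3 F172687)
theorem F412039 : act 7 n199408 = n111568 := d13_2 (iv7 F172688) D199408 (iv5 D111568)
theorem F412040 : act 0 n199408 = n111571 := d17_2 (iv1 F172689) D199408 (iv5 F232083) (iv4 F172594) F322481 (iv0 D152489) (iv5 F341252) F336502 (iv4 D111560)
theorem F412041 : act 1 n199408 = n111570 := d17_6 F354828 (iv5 D152268) (iv1 F347791) (iv5 F403532) F403531 D199408 F232076 (iv0 D111271) (iv4 F171167)
theorem F412042 : act 4 n111571 = n191876 := d18_1 F412040 (iv1 D191876) (iv4 F384629) (iv5 F384630) F253653 (iv0 F336504) (iv4 F323986) F172691 D199408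
def n199409 : Q := act 4 n111299
theorem D199409 : act 4 n111299 = n199409 := rfl
theorem F412043 : act 3 n199409 = n116256 := d5_1 D199409 (iv4 D116256) F84540 (iv4 F81012) (iv3 F172692)
theorem F412044 : act 7 n199409 = n111572 := d11_2 (iv7 F172693) D199409 (iv4 D111572)
theorem F412045 : act 0 n199409 = n152527 := d19_4 (iv1 D53582) D53584 D116256 (iv3 F412043) (iv5 D152527) (iv4 D71937) F52467 D60009 (iv5 F161682) F163450 F326246 D142823 (iv5 F378579) F378578 (iv3 F378563) F378567 (iv5 D142363) (iv4 F181200) (iv3 D116249)
def n199410 : Q := act 6 n111303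
theorem D199410 : act 6 n111303 = n199410 := rfl
theorem F412046 : act 2 n199410 = n111533 := d3_1 D199410 (iv6 D111533) (iv2 F172703)
theorem F412047 : act 3 n199410 = n174202 := d7_1 D199410 (iv6 D174202) (iv3 F346347)
theorem F412048 : act 4 n199410 = n126339 := d10_1 D199410 (iv6 D126339) (iv4 F172698)
theorem F412049 : act 5 n199410 = n178119 := d12_1 D199410 (iv6 D178119) (iv5 D84788) (iv6 F302042) (iv5 F341338)
theorem F412050 : act 7 n199410 = n197762 := d14_2 F172699 D199410 (iv6 D197762) F171888 F168472
theorem F412051 : act 0 n199410 = n198190 := d21_4 F341294 (iv1 D123310) (iv5 F341338) D199410 (iv6 F407160) F364137 (iv1 F180072) F336724 (iv6 F341289) (iv1 F341293)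
theorem F412052 : act 0 n111772 = n199410 := d21_4 D197946 F406258 (iv5 D111771) D111772 (iv6 D199410) F341338 D123309 (iv5 F341296) (iv6 F169198) (iv1 F222465)
def n199411 : Q := act 5 n111309
theorem D199411 : act 5 n111309 = n199411 := rfl
theorem F412053 : act 2 n199411 = n111310 := d2_1 D199411 (iv5 D111310) D111309
theorem F412054 : act 3 n199411 = n111568 := d6_1 D199411 (iv5 D111568) (iv3 F172718)
theorem F412055 : act 7 n199411 = n111511 := d13_2 (iv7 F172720) D199411 (iv5 D111511)
theorem F412056 : act 0 n199411 = n111514 := d17_2 (iv1 F172721) D199411 (iv5 F219128) (iv4 F176740) F176743 D137702 F220883 (iv0 F173419) (iv4 D111503)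
theorem F412057 : act 1 n199411 = n111513 := d17_6 D105200 (iv5 F345925) F345923 (iv5 D126225) (iv4 F172719) D199411 F219137 (iv0 D111281) F80984
theorem F412058 : act 0 n198115 = n124297 := d21_4 (iv5 F358702) (iv1 F402041) (iv5 F402075) D198115 F365643 D199411 F412056 (iv5 F219128) (iv6 F402104) F402101
def n199412 : Q := act 4 n111310
theorem D199412 : act 4 n111310 = n199412 := rfl
theorem F412059 : act 3 n199412 = n140357 := d5_1 D199412 F223471 F101802 (iv4 F81024) (iv3 F172724)
theorem F412060 : act 7 n199412 = n111515 := d11_2 (iv7 F172725) D199412 (iv4 D111515)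
theorem F412061 : act 5 n199412 = n140355 := d16_1 D199412 F223470 (iv5 F220880) F219143 (iv5 D113342) F82693 D111511 (iv7 F412055) F412053
theorem F412062 : act 1 n199412 = n196793 := d18_8 F219090 (iv4 D136119) (iv1 D64013) (iv4 F78107) D106896 (iv4 F172883) F219102 D199412 (iv5 D196793)
theorem F412063 : act 3 n111619 = n154714 := d20_5 F81095 (iv1 F80645) F80643 (iv3 F81253) D111619 (iv4 F401817) (iv1 F412062) (iv4 D199412) F172724 (iv1 F81097)
theorem F412064 : act 5 n140698 = n111619 := d6_0 F412063 F350079 (iv3 F223789)
theorem F412065 : act 6 n154712 = n111619 := d7_0 F412063 (iv6 D154714) (iv3 F242888)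
theorem F412066 : act 0 n199412 = n193254 := d19_4 (iv1 D66198) D66200 (iv4 F223471) (iv3 F412059) (iv5 D193254) F156248 (iv3 F156246) F345483 (iv5 F406300) F406299 F399256 F203579 (iv5 F101894) D105586 (iv3 F181083) (iv1 F349997) (iv5 F397148) (iv4 F397149) (iv3 D141129)
def n199413 : Q := act 6 n111310
theorem D199413 : act 6 n111310 = n199413 := rfl
theorem F412067 : act 3 n199413 = n111312 := d7_1 D199413 (iv6 D111312) (iv3 F172724)
def n199414 : Q := act 0 n111311
theorem D199414 : act 0 n111311 = n199414 := rfl
theorem F412068 : act 5 n199414 = n187251 := d19_1 D199414 F369635 F137908 D89854 F358127 F334003 (iv3 D78643) F254377 F28295 (iv4 F28519) (iv3 D17520) D17518 F320942 F80084 D29564 F164106 (iv5 F39163) (iv4 F81027) (iv3 F172726)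
theorem F412069 : act 4 n199414 = n166592 := d20_0 (iv1 D166592) F122732 (iv3 D55348) D55346 F326757 (iv4 D50732) F163890 (iv4 F81027) (iv3 F172726) D199414
theorem F412070 : act 3 n160432 = n199414 := d20_5 F87594 (iv1 F56519) F56520 D76904 D160432 F412069 (iv1 D166592) F122732 (iv3 D55348) D55346
def n199415 : Q := act 1 n111311
theorem D199415 : act 1 n111311 = n199415 := rfl
theorem F412071 : act 1 n199415 = n160454 := d15_1 D199415 (iv7 F257962) F365642
theorem F412072 : act 4 n199415 = n166591 := d18_7 D191208 F382584 F382586 F373571 (iv5 D126233) (iv4 F172727) D199415 (iv0 D166591) (iv5 F294903)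
theorem F412073 : act 5 n199415 = n197924 := d18_9 (iv1 D197924) F379025 (iv1 D190169) (iv4 F379021) (iv5 F379022) (iv4 F358047) (iv0 D126231) (iv4 F172727) D199415
theorem F412074 : act 6 n196853 = n199415 := d21_3 (iv5 D196770) F389956 D196853 (iv1 D199415) (iv6 D111311) D111310 (iv1 F219102) (iv5 D111393) D111394 F401742
theorem F412075 : act 2 n199415 = n198115 := d3_1 F412074 (iv6 D198115) (iv2 F402074)
theorem F412076 : act 3 n199415 = n196857 := d7_1 F412074 (iv6 D196857) (iv3 F402043)
theorem F412077 : act 2 n163595 = n166591 := d1_3 (iv4 F412072) F412075 F406893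
theorem F412078 : act 7 n166592 = n163595 := d15_2 (iv0 D166591) D166592 F412077
theorem F412079 : act 7 n163594 = n166591 := d15_2 F262176 F262174 (iv2 F412077)
theorem F412080 : act 2 n166592 = n163594 := d4_3 F412079 (iv2 F412077) (iv7 F412078)
theorem F412081 : act 7 n198115 = n199414 := d11_2 F412078 (iv4 F406893) F412069
theorem F412082 : act 7 n160432 = n124274 := d8_2 F412081 (iv3 F412070) F406894
theorem F412083 : act 1 n160454 = n199414 := d15_1 F412071 (iv7 F412081) (iv2 F412075)
theorem F412084 : act 2 n124274 = n160433 := d15_3 F253425 F253421 F412082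
theorem F412085 : act 2 n160432 = n124275 := d15_3 F253426 F253424 (iv7 F412082)
theorem F412086 : act 7 n124275 = n160433 := d4_2 (iv7 F412082) F412085 (iv2 F412084)
theorem F412087 : act 3 n160433 = n196865 := d0_2 (iv3 F406894) F412084 F402082 (iv3 F412076) F412075
theorem F412088 : act 6 n160433 = n196860 := d3_2 F406895 F412084 (iv2 F406889)
theorem F412089 : act 5 n190869 = n120271 := d18_9 (iv1 D120271) (iv4 F122732) D166591 (iv4 F412072) F412073 F406207 F381525 F381513 F394873
theorem F412090 : act 2 n120271 = n160415 := d2_1 F412089 F379022 (iv2 F381394)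
theorem F412091 : act 7 n160416 = n120271 := d15_2 (iv0 D160415) D160416 F412090
theorem F412092 : act 7 n120270 = n160415 := d15_2 F253404 F253402 (iv2 F412090)
theorem F412093 : act 2 n160416 = n120270 := d4_3 F412092 (iv2 F412090) (iv7 F412091)
def n199416 : Q := act 5 n111311
theorem D199416 : act 5 n111311 = n199416 := rfl
theorem F412094 : act 3 n199416 = n111315 := d6_1 D199416 (iv5 D111315) (iv3 F172726)
def n199417 : Q := act 7 n111311
theorem D199417 : act 7 n111311 = n199417 := rfl
theorem F412095 : act 2 n199417 = n160454 := d4_1 D199417 (iv7 F257962) F365642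
theorem F412096 : act 3 n199417 = n111316 := d8_1 D199417 (iv7 D111316) (iv3 F172726)
theorem F412097 : act 4 n199417 = n126234 := d11_1 D199417 (iv7 D126234) (iv4 F172727)
theorem F412098 : act 6 n199417 = n111520 := d14_1 D199417 (iv7 D111520) (iv6 D51431) (iv7 F81022) D111311
theorem F412099 : act 1 n198115 = n199417 := d15_1 (iv0 F412058) (iv7 D199417) (iv2 F365642)
def n199418 : Q := act 1 n111312
theorem D199418 : act 1 n111312 = n199418 := rfl
theorem F412100 : act 1 n199418 = n111581 := d15_1 D199418 (iv7 D111581) (iv2 F172728)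
theorem F412101 : act 7 n199418 = n111578 := d15_2 F350347 D199418 (iv2 F357725)
theorem F412102 : act 4 n199418 = n134290 := d18_7 D111597 F173139 (iv1 F167600) (iv4 F206964) F329458 (iv4 F172729) D199418 F216312 (iv5 D111600)
theorem F412103 : act 2 n111579 = n199418 := d1_3 F412102 (iv2 F328924) F357728
def n199419 : Q := act 5 n111312
theorem D199419 : act 5 n111312 = n199419 := rfl
theorem F412104 : act 2 n199419 = n111580 := d2_1 D199419 (iv5 D111580) (iv2 F172728)
theorem F412105 : act 4 n199419 = n111332 := d9_1 D199419 (iv5 D111332) (iv4 F98198) F98199 (iv4 F167593) F329463 (iv4 F173116) (iv5 F343781) (iv4 F343765) F173241 (iv4 F173235) F173236 (iv4 F206964) F329458 (iv4 F172729)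
theorem F412106 : act 6 n199419 = n111315 := d12_2 D111312 D199419 (iv5 D111315) (iv6 D51340) D51339
theorem F412107 : act 7 n199419 = n160437 := d13_2 F409242 D199419 (iv5 F409241)
theorem F412108 : act 0 n199419 = n197944 := d18_0 (iv4 D197944) F362797 F198773 (iv5 F409285) F409284 F328916 (iv4 F198403) F350347 D199419
theorem F412109 : act 0 n197942 = n160444 := d20_4 (iv4 F412105) F412108 (iv4 D197944) (iv3 F406254) F253444 F115541 (iv1 F119157) (iv4 F191508) F365866 F173943
theorem F412110 : act 0 n197938 = n199419 := d21_4 (iv5 D134829) (iv1 F167668) (iv5 F400356) (iv6 F406240) F412106 (iv5 D111315) D111313 (iv5 F173229) F343792 F224891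
def n199420 : Q := act 3 n111313
theorem D199420 : act 3 n111313 = n199420 := rfl
theorem F412111 : act 4 n199420 = n165708 := d5_2 F173226 D199420 (iv3 F325138) F202597 F173228
theorem F412112 : act 5 n199420 = n197947 := d6_2 F173229 D199420 (iv3 D197947)
theorem F412113 : act 7 n199420 = n111588 := d8_2 (iv7 F202500) D199420 (iv3 D111588)
def n199421 : Q := act 4 n111315
theorem D199421 : act 4 n111315 = n199421 := rfl
theorem F412114 : act 2 n199421 = n111590 := d1_1 D199421 (iv4 D111590) (iv2 F172733)
theorem F412115 : act 5 n199421 = n111331 := d9_2 D111315 D199421 (iv4 F215929) (iv5 F343844) F173152 F81248 (iv4 F81237) (iv5 F173130) F343783 (iv5 F343845) F343841 (iv5 D63404) F48156 (iv5 F39163) (iv4 F81027)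
theorem F412116 : act 6 n199421 = n111332 := d10_2 F412106 D199421 (iv4 F412105)
theorem F412117 : act 7 n199421 = n124260 := d11_2 (iv7 F362788) D199421 (iv4 F198773)
def n199422 : Q := act 3 n111317
theorem D199422 : act 3 n111317 = n199422 := rfl
theorem F412118 : act 2 n199422 = n120267 := d0_1 D199422 (iv3 D120267) (iv2 F87599) F326021 (iv2 F172743)
theorem F412119 : act 4 n199422 = n180482 := d5_2 D111317 D199422 (iv3 F326222) (iv4 D108648) F168283
theorem F412120 : act 7 n199422 = n111595 := d8_2 (iv7 F172744) D199422 (iv3 D111595)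
theorem F412121 : act 0 n111343 = n199422 := d20_4 F115547 (iv1 F55916) D58731 (iv3 F349858) (iv3 D199422) (iv4 D111317) (iv1 F81034) (iv4 F81237) (iv3 F327399) (iv1 F115549)
def n199423 : Q := act 2 n111318
theorem D199423 : act 2 n111318 = n199423 := rfl
theorem F412122 : act 7 n111319 = n199423 := d15_2 (iv0 D111318) D111319 (iv2 D199423)
def n199424 : Q := act 3 n111318
theorem D199424 : act 3 n111318 = n199424 := rfl
theorem F412123 : act 4 n199424 = n111548 := d20_6 (iv4 F39238) F39166 (iv4 F39164) D51344 D111318 D199424 (iv1 D111548) F81229 (iv3 D25009) (iv1 F39237)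
theorem F412124 : act 2 n199118 = n199424 := d1_3 F412123 (iv2 F403520) (iv4 F410751)
theorem F412125 : act 6 n199112 = n199424 := d10_0 F412123 (iv6 F342072) (iv4 F410725)
theorem F412126 : act 7 n111640 = n199424 := d11_0 F412123 (iv7 F403522) (iv4 F403523)
theorem F412127 : act 1 n111340 = n199424 := d18_6 F347790 F108434 (iv1 F108281) (iv4 F336474) (iv5 D125457) (iv4 F349854) F412123 F403535 F403532
theorem E103774 : n111644 = n111318 := ((c8_2 F412126 (iv3 D199424) (iv7 D111644) D111640)).symm
theorem E103775 : n199423 = n51489 := ((D199423).symm.trans (sb E103774 F173206))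
theorem F412128 : act 7 n111318 = n51488 := (sb E103774 (iv7 D111644))
theorem F412129 : act 2 n51489 = n111318 := (sb E103775 (iv2 D199423))
theorem E103776 : n111639 = n111319 := ((F173204).symm.trans (sb E103775 (iv7 F412122)))
theorem F412130 : act 2 n111319 = n51488 := (sb E103776 (iv2 D111639))
theorem F412131 : act 3 n111319 = n198792 := (sb E103776 F409266)
theorem F412132 : act 6 n111319 = n108651 := (sb E103776 (iv6 F363307))
theorem F412133 : act 7 n111319 = n51489 := (sb E103776 (iv7 F173204))
def n199425 : Q := act 4 n111318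
theorem D199425 : act 4 n111318 = n199425 := rfl
theorem F412134 : act 2 n199425 = n111646 := d1_1 D199425 (iv4 D111646) F412129
theorem F412135 : act 7 n199425 = n111641 := d11_2 (iv7 F412128) D199425 (iv4 D111641)
theorem F412136 : act 0 n199425 = n125864 := d20_1 D199425 (iv4 F409224) F409223 (iv1 D111499) (iv3 D51426) (iv4 F39238) F39166 (iv4 F39164) D51344 D111318
theorem F412137 : act 0 n112442 = n199425 := d20_10 (iv4 D199425) (iv1 F172751) D111649 (iv3 F173211) (iv1 F201928) (iv3 F201922) (iv4 F169775) (iv1 D51872) D51874 D112442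
def n199426 : Q := act 5 n111318
theorem D199426 : act 5 n111318 = n199426 := rfl
theorem F412138 : act 2 n199426 = n111647 := d2_1 D199426 (iv5 D111647) F412129
theorem F412139 : act 7 n199426 = n111642 := d13_2 (iv7 F412128) D199426 (iv5 D111642)
theorem F412140 : act 1 n199426 = n111352 := d17_8 (iv1 F405543) (iv5 D108766) (iv1 F168483) F219108 F219110 (iv5 D111650) F172751 D199426 F405545
theorem F412141 : act 0 n199426 = n111733 := d18_0 F354400 (iv1 F355983) D197729 F405547 (iv4 D125715) F173210 (iv4 D111649) F172751 D199426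
theorem F412142 : act 4 n199426 = n198296 := d19_2 D111318 D199426 (iv3 D198296) (iv1 F169144) F79756 F38550 F19026 (iv1 F8568) (iv5 F8640) (iv4 D5640) (iv3 F8631) D11959 (iv5 F22576) (iv4 F38491) F38490 D24514 F39233 (iv4 F39164) D51344
def n199427 : Q := act 6 n111318
theorem D199427 : act 6 n111318 = n199427 := rfl
theorem F412143 : act 2 n199427 = n111648 := d3_1 D199427 (iv6 D111648) F412129
theorem F412144 : act 3 n199427 = n199112 := d7_1 D199427 F412125 (iv3 D199424)
theorem F412145 : act 7 n199427 = n197767 := d14_2 (iv7 F412128) D199427 (iv6 D197767) F352257 (iv6 F363306)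
theorem F412146 : act 5 n199111 = n199427 := d13_3 F412145 F405693 (iv7 F410719)
theorem F412147 : act 1 n198244 = n199427 := d15_1 D198244 F412145 F405691
theorem F412148 : act 1 n199427 = n111764 := d15_1 F412147 F173448 (iv2 F407330)
def n199428 : Q := act 4 n111319
theorem D199428 : act 4 n111319 = n199428 := rfl
theorem F412149 : act 2 n199428 = n111641 := d1_1 D199428 (iv4 D111641) (iv2 F412130)
theorem F412150 : act 6 n199428 = n113381 := d10_2 (iv6 F412132) D199428 F176585
theorem F412151 : act 7 n199428 = n111646 := d11_2 (iv7 F412133) D199428 (iv4 D111646)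
theorem F412152 : act 0 n199428 = n112442 := d20_1 D199428 F174930 (iv3 D51880) D51878 D112451 F174940 (iv1 F219321) F219319 F172770 (iv1 F172756)
theorem F412153 : act 3 n199428 = n113207 := d20_3 (iv4 D111649) (iv1 F172756) D199428 (iv1 F176377) (iv3 F168911) F168912 (iv1 F168539) (iv4 F202203) (iv3 D125709) (iv1 F173212)
theorem F412154 : act 0 n125864 = n199428 := d20_10 (iv4 D199428) (iv1 D111319) F81039 (iv3 D27990) D27989 D58863 F93079 D109512 D198527 (iv3 F408242)
def n199429 : Q := act 5 n111319
theorem D199429 : act 5 n111319 = n199429 := rfl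
theorem F412155 : act 2 n199429 = n111642 := d2_1 D199429 (iv5 D111642) (iv2 F412130)
theorem F412156 : act 7 n199429 = n111647 := d13_2 (iv7 F412133) D199429 (iv5 D111647)
theorem F412157 : act 0 n199429 = n111352 := d17_2 (iv1 F172756) D199429 F172797 F92943 D58818 D125624 F405944 F173210 (iv4 D111649)
theorem F412158 : act 1 n199429 = n111733 := d17_8 (iv1 F355983) (iv5 D108619) D108616 F219105 F219103 (iv5 D111321) D111319 D199429 F354400
theorem F412159 : act 4 n199429 = n198304 := d18_5 (iv1 F409227) F409224 F412154 (iv4 D199428) D199429 F407546 F241638 F406699 (iv5 F173037)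
def n199430 : Q := act 6 n111320
theorem D199430 : act 6 n111320 = n199430 := rfl
theorem F412160 : act 2 n199430 = n111322 := d3_1 D199430 (iv6 D111322) D111320
theorem F412161 : act 3 n199430 = n111614 := d7_1 D199430 (iv6 D111614) (iv3 F172752)
theorem F412162 : act 4 n199430 = n125719 := d10_1 D199430 (iv6 D125719) (iv4 F172753)
def n199431 : Q := act 1 n111321
theorem D199431 : act 1 n111321 = n199431 := rfl
theorem F412163 : act 1 n199431 = n111650 := d15_1 D199431 (iv7 F406151) F406149
theorem F412164 : act 7 n199431 = n111657 := d15_2 F407494 D199431 (iv2 F407491)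
theorem F412165 : act 5 n199431 = n177289 := d17_7 (iv1 F201908) (iv5 F360426) (iv1 D125721) (iv5 D58868) (iv4 F81039) D111321 D199431 F410322 F201991
theorem F412166 : act 2 n111656 = n199431 := d2_3 F412165 (iv2 F361646) (iv5 F406157)
theorem F412167 : act 6 n177184 = n199431 := d12_0 F412165 (iv6 D177289) (iv5 D84462) (iv6 F129567) D177184
def n199432 : Q := act 0 n111322
theorem D199432 : act 0 n111322 = n199432 := rfl
theorem F412168 : act 3 n199432 = n177631 := d20_5 (iv4 F168696) (iv1 D58861) (iv4 F81044) (iv3 F172760) D199432 (iv4 D177631) D177628 (iv4 F353986) F353985 (iv1 F172710)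
theorem F412169 : act 4 n199432 = n177634 := d20_8 F358041 (iv1 D163123) (iv4 F341718) (iv3 D125738) (iv1 D58874) (iv3 F93087) (iv4 F172761) D199432 (iv3 D177634) (iv1 F277079)
theorem F412170 : act 5 n199432 = n174902 := d21_0 (iv1 D174902) D174904 F333028 (iv1 D177288) D177289 (iv5 F412165) (iv1 D199431) (iv5 D111321) D111322 D199432
theorem F412171 : act 6 n198246 = n199432 := d21_5 (iv5 D84462) F312884 D153792 F365126 (iv1 F407334) F412170 (iv1 D174902) D174904 F333028 (iv1 D177288)
theorem F412172 : act 2 n199432 = n174092 := d3_1 F412171 F346876 F407337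
def n199433 : Q := act 1 n111322
theorem D199433 : act 1 n111322 = n199433 := rfl
theorem F412173 : act 7 n199433 = n174092 := d15_2 (iv0 D199432) D199433 (iv2 F412172)
theorem F412174 : act 3 n173231 = n199433 := d19_19 (iv1 D199433) (iv5 F362847) (iv4 F326138) F203216 (iv1 F326136) D78392 (iv4 F334234) F334233 (iv1 F346373) F342133 F216588 (iv3 F98978) D135387 F340189 F128112 F59157 (iv1 F58974) D82899 D173231
theorem F412175 : act 5 n199433 = n174901 := d6_2 F273808 F412174 F362034
def n199434 : Q := act 4 n111326
theorem D199434 : act 4 n111326 = n199434 := rfl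
theorem F412176 : act 2 n199434 = n111609 := d1_1 D199434 (iv4 D111609) (iv2 F355964)
theorem F412177 : act 6 n199434 = n197778 := d10_2 F405750 D199434 (iv4 D197778)
theorem F412178 : act 7 n199434 = n111604 := d11_2 (iv7 F355965) D199434 (iv4 D111604)
def n199435 : Q := act 5 n111326
theorem D199435 : act 5 n111326 = n199435 := rfl
theorem F412179 : act 2 n199435 = n111610 := d2_1 D199435 (iv5 D111610) (iv2 F355964)
theorem F412180 : act 7 n199435 = n111605 := d13_2 (iv7 F355965) D199435 (iv5 D111605)
theorem F412181 : act 0 n199435 = n111724 := d17_2 D111326 D199435 (iv5 F410291) F410290 F397262 (iv0 F397261) (iv5 F385942) (iv0 F169779) F99655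
theorem F412182 : act 0 n111354 = n199435 := d21_7 D109045 (iv1 F372495) F378261 F378255 (iv1 F378279) (iv6 D140701) (iv5 F172800) (iv5 D199435) (iv6 F405750) (iv1 F168587)
theorem F412183 : act 4 n188647 = n199435 := d11_3 F412180 F375174 (iv7 F392321)
theorem E103777 : n187942 = n187541 := (c19_4 D111326 D199435 (iv4 F412183) F392320 (iv1 F370743) (iv5 F288353) (iv4 F336033) F165430 F100067 (iv5 D59412) (iv4 D28212) (iv3 F38468) F39932 F39931 (iv4 D25286) D25285 F39923 (iv5 F47895) (iv4 F47898) D51347)
theorem F412184 : act 2 n187541 = n90689 := (sb E103777 (iv2 D187942))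
theorem F412185 : act 3 n187541 = n188647 := (sb E103777 (iv3 F392320))
theorem F412186 : act 7 n187541 = n90690 := (sb E103777 (iv7 F371898))
theorem E103778 : n187947 = n187542 := (c15_4 F370737 F370743 F412186 (iv2 F371908))
theorem F412187 : act 2 n187542 = n90690 := (sb E103778 F371908)
theorem F412188 : act 7 n187542 = n90689 := (sb E103778 (iv7 D187947))
def n199436 : Q := act 3 n111327
theorem D199436 : act 3 n111327 = n199436 := rfl
theorem F412189 : act 7 n199436 = n111608 := d8_2 (iv7 F355968) D199436 (iv3 D111608)
theorem F412190 : act 6 n125502 = n199436 := d14_5 F412189 F378716 (iv7 F405766) (iv6 F405775) F395308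
def n199437 : Q := act 5 n111327
theorem D199437 : act 5 n111327 = n199437 := rfl
theorem F412191 : act 2 n199437 = n111605 := d2_1 D199437 (iv5 D111605) (iv2 F355967)
theorem F412192 : act 7 n199437 = n111610 := d13_2 (iv7 F355968) D199437 (iv5 D111610)
theorem F412193 : act 0 n199437 = n111354 := d21_1 D199437 F172800 D140701 F394984 F394981 F273808 (iv1 F272975) (iv5 F358919) (iv6 D111614) (iv1 F172773)
theorem F412194 : act 4 n188648 = n199437 := d20_0 F412193 (iv4 F354415) (iv3 F354418) (iv1 F218237) F365706 F231799 (iv1 F229674) (iv4 F375158) F375157 (iv1 F374303)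
theorem F412195 : act 1 n199437 = n111724 := d15_1 (iv0 F412193) F354411 F354408
def n199438 : Q := act 6 n111327
theorem D199438 : act 6 n111327 = n199438 := rfl
theorem F412196 : act 2 n199438 = n111606 := d3_1 D199438 (iv6 D111606) (iv2 F355967)
theorem F412197 : act 3 n199438 = n125502 := d7_1 D199438 F412190 (iv3 D199436)
theorem F412198 : act 7 n199438 = n197783 := d14_2 (iv7 F355968) D199438 (iv6 D197783) F405754 F378714
theorem F412199 : act 1 n111761 = n199438 := d15_1 (iv0 F355981) F412198 F405782
theorem F412200 : act 5 n125500 = n199438 := d16_7 (iv4 F407214) (iv5 F407215) F377424 D194173 F392249 (iv5 F279063) (iv4 F366485) F412198 F405782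
theorem F412201 : act 1 n199438 = n198203 := d15_0 (iv0 D198203) F378717 (iv2 F412196)
def n199439 : Q := act 5 n111328
theorem D199439 : act 5 n111328 = n199439 := rfl
theorem F412202 : act 2 n199439 = n111329 := d2_1 D199439 (iv5 D111329) D111328
theorem F412203 : act 3 n199439 = n111650 := d6_1 D199439 (iv5 D111650) (iv3 F172770)
theorem F412204 : act 7 n199439 = n111613 := d13_2 (iv7 F172771) D199439 (iv5 D111613)
theorem F412205 : act 1 n199439 = n111619 := d17_6 F174007 D198523 F408225 (iv5 F349530) F219319 D199439 (iv5 F412064) (iv0 D140698) (iv4 F174005)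
theorem F412206 : act 1 n111620 = n199439 := d15_1 D111620 F412204 F173162
def n199440 : Q := act 6 n111328
theorem D199440 : act 6 n111328 = n199440 := rfl
theorem F412207 : act 2 n199440 = n111330 := d3_1 D199440 (iv6 D111330) D111328
theorem F412208 : act 3 n199440 = n111651 := d7_1 D199440 (iv6 D111651) (iv3 F172770)
theorem F412209 : act 4 n199440 = n158003 := d10_1 D199440 F365631 F219319
theorem F412210 : act 7 n172097 = n199440 := d11_0 F412209 F365632 D172097
def n199441 : Q := act 0 n111329
theorem D199441 : act 0 n111329 = n199441 := rfl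
theorem F412211 : act 1 n111613 = n199441 := d15_0 (iv0 D199441) F172776 (iv2 F173162)
def n199442 : Q := act 1 n111329
theorem D199442 : act 1 n111329 = n199442 := rfl
theorem F412212 : act 1 n199442 = n111613 := d15_1 D199442 (iv7 F412204) F412202
theorem F412213 : act 5 n199442 = n199005 := d21_2 D111613 (iv1 F412212) F410284 F393427 (iv6 D140351) (iv5 F168619) (iv1 F405764) (iv5 D197779) F405750 (iv1 F172769)
theorem F412214 : act 2 n111619 = n199442 := d2_3 F412213 F410287 F412064
theorem F412215 : act 4 n188809 = n199442 := d17_4 (iv1 D92900) D92901 F177030 (iv5 F374970) F412213 F410288 F354409 (iv0 F387849) F375174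
theorem F412216 : act 6 n199442 = n188808 := d10_2 D188809 F412215 (iv4 D188808)
theorem F412217 : act 7 n199441 = n111619 := d15_2 F412212 F412211 F412214
theorem F412218 : act 7 n111620 = n199442 := d15_2 (iv0 D111619) D111620 (iv2 F412214)
theorem F412219 : act 2 n199441 = n111620 := d4_3 F412218 (iv2 F412214) (iv7 F412217)
theorem F412220 : act 5 n140699 = n111620 := d13_3 F412218 F412213 F410285
theorem F412221 : act 5 n199441 = n199004 := d2_2 F412220 (iv2 F412219) (iv2 F410286)
theorem F412222 : act 4 n188888 = n199441 := d17_4 (iv1 F374308) (iv5 F394419) (iv1 F394421) (iv5 F375181) F412221 (iv0 D199004) F171651 (iv0 F395002) F395004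
theorem F412223 : act 6 n189014 = n199441 := d21_5 F142678 F293158 F292040 D93020 D189014 F412221 (iv1 F410280) F354409 (iv6 D92918) (iv1 F142680)
theorem E103779 : n189014 = n188887 := ((c10_4 F412223 (iv4 F412222) (iv6 D188888) D188887)).symm
theorem F412224 : act 1 n188887 = n93020 := (sb E103779 (iv0 D189014))
theorem F412225 : act 6 n188887 = n199441 := (sb E103779 F412223)
def n199443 : Q := act 4 n111329
theorem D199443 : act 4 n111329 = n199443 := rfl
theorem F412226 : act 3 n199443 = n130947 := d5_1 D199443 (iv4 F349535) F179859 F98201 (iv3 F172775)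
theorem F412227 : act 7 n199443 = n111621 := d11_2 (iv7 F172776) D199443 (iv4 D111621)
theorem F412228 : act 5 n130946 = n199443 := d13_3 F412227 (iv5 F349532) (iv7 F214613)
def n199444 : Q := act 6 n111329
theorem D199444 : act 6 n111329 = n199444 := rfl
theorem F412229 : act 3 n199444 = n111331 := d7_1 D199444 (iv6 D111331) (iv3 F172775)
def n199445 : Q := act 0 n111330
theorem D199445 : act 0 n111330 = n199445 := rfl
def n199446 : Q := act 1 n111330
theorem D199446 : act 1 n111330 = n199446 := rfl
theorem F412230 : act 1 n199446 = n172097 := d15_1 D199446 F412210 F412207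
def n199447 : Q := act 5 n111330
theorem D199447 : act 5 n111330 = n199447 := rfl
theorem F412231 : act 3 n199447 = n111332 := d6_1 D199447 (iv5 D111332) (iv3 F172777)
def n199448 : Q := act 7 n111330
theorem D199448 : act 7 n111330 = n199448 := rfl
theorem F412232 : act 2 n199448 = n172097 := d4_1 D199448 F412210 F412207
theorem F412233 : act 3 n199448 = n111333 := d8_1 D199448 (iv7 D111333) (iv3 F172777)
theorem F412234 : act 4 n199448 = n158004 := d11_1 D199448 F365629 (iv4 F365620)
theorem F412235 : act 6 n199448 = n111626 := d14_1 D199448 (iv7 D111626) (iv6 D51479) (iv7 F81045) D111330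
theorem F412236 : act 1 n172097 = n199445 := d15_0 (iv0 D199445) D199448 F412232
theorem F412237 : act 0 n199448 = n198221 := d21_4 F273803 (iv1 F318099) F358917 (iv6 F412235) (iv6 D198221) D198220 F407265 (iv5 F333031) (iv6 D174908) D174906
theorem F412238 : act 3 n198221 = n160416 := d20_5 (iv4 F173226) (iv1 F215927) F215923 (iv3 F412233) F412237 (iv4 F365641) (iv1 D126232) (iv4 F172727) F172726 D111313
theorem F412239 : act 1 n199440 = n198221 := d15_0 (iv0 F412237) (iv7 D199448) (iv2 F412207)
theorem F412240 : act 6 n160416 = n198219 := d7_2 D198221 F412238 (iv3 D198219)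
def n199449 : Q := act 0 n111331
theorem D199449 : act 0 n111331 = n199449 := rfl
theorem F412241 : act 4 n199449 = n120633 := d18_3 (iv1 F343842) F215929 D199449 F350356 (iv4 D63591) (iv0 F163899) (iv4 F98393) F168746 (iv5 F328925)
theorem F412242 : act 6 n199449 = n120632 := d21_5 F39269 (iv1 F39167) D51348 D111331 D199449 (iv5 F405143) (iv1 F405146) (iv5 F345334) (iv6 D111353) (iv1 F81056)
theorem F412243 : act 1 n111669 = n199449 := d15_0 (iv0 D199449) (iv7 F409286) F409283
theorem F412244 : act 5 n199449 = n197952 := d17_7 D108792 F173229 (iv1 F172737) (iv5 F173130) F343783 (iv5 F343845) F412243 (iv0 D197952) (iv4 D108794)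
theorem F412245 : act 2 n111666 = n199449 := d3_3 F412242 F302058 (iv6 F357740)
theorem F412246 : act 7 n111667 = n199449 := d14_0 F412242 (iv7 F304406) D124014 F363281 (iv6 F357730)
def n199450 : Q := act 1 n111331
theorem D199450 : act 1 n111331 = n199450 := rfl
theorem F412247 : act 1 n199450 = n111669 := d15_1 D199450 (iv7 D111669) (iv2 F172778)
theorem F412248 : act 7 n199450 = n111666 := d15_2 (iv0 D199449) D199450 F412245
theorem F412249 : act 4 n199450 = n141143 := d18_7 F171520 (iv4 D63408) F81252 (iv4 F173152) F343844 F215929 D199450 F224111 (iv5 F329463)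
theorem F412250 : act 5 n199450 = n197953 := d18_9 (iv1 D197953) (iv4 D108794) D108792 D197948 F406262 F357724 F343843 F215929 D199450
theorem F412251 : act 6 n124010 = n199450 := d12_0 F412250 F409048 (iv5 D141939) D141940 F363279
theorem F412252 : act 2 n199450 = n111667 := d3_1 F412251 F357730 (iv2 F363277)
theorem F412253 : act 3 n199450 = n111666 := d7_1 F412251 F357740 D124010
theorem F412254 : act 3 n111578 = n191848 := d20_3 (iv4 F215929) (iv1 F343843) (iv4 F357724) F384586 F173112 F81236 D66245 (iv4 F357739) (iv3 F412253) (iv1 D199450)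
def n199451 : Q := act 3 n111334
theorem D199451 : act 3 n111334 = n199451 := rfl
theorem F412255 : act 7 n199451 = n111340 := d8_2 F172784 D199451 (iv3 D111340)
theorem F412256 : act 0 n199451 = n199118 := d20_4 (iv4 F400766) (iv1 F400767) (iv4 F361207) D199451 F410750 F409261 F352289 F330496 F173027 (iv1 F400742)
theorem F412257 : act 4 n199451 = n125458 := d20_6 (iv4 D50842) (iv1 F38702) (iv4 F39263) (iv3 F81049) (iv1 F361206) D199451 (iv1 F336505) (iv4 F323986) F323985 (iv1 F323983)
theorem F412258 : act 0 n111640 = n199451 := d20_4 F170465 F202282 (iv4 D111641) D111640 (iv3 D199451) F361207 (iv1 D144328) (iv4 F171975) F361199 F202207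
def n199452 : Q := act 5 n111334
theorem D199452 : act 5 n111334 = n199452 := rfl
theorem F412259 : act 2 n199452 = n111337 := d2_1 D199452 (iv5 D111337) D111334
theorem F412260 : act 7 n199452 = n111342 := d13_2 F172784 D199452 (iv5 D111342)
theorem F412261 : act 0 n199452 = n111630 := d17_2 (iv1 F361206) D199452 F173197 F172590 (iv5 F169064) (iv0 F405796) (iv5 D197788) F356738 (iv4 F81050)
theorem F412262 : act 6 n111337 = n199452 := d21_5 (iv5 D68135) D68133 D145319 (iv6 F351069) F402076 (iv5 D199452) F361205 (iv5 F171820) (iv6 F365200) F164892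
def n199453 : Q := act 6 n111334
theorem D199453 : act 6 n111334 = n199453 := rfl
theorem F412263 : act 2 n199453 = n111338 := d3_1 D199453 (iv6 D111338) D111334
theorem F412264 : act 4 n199453 = n196855 := d10_1 D199453 (iv6 F402078) (iv4 F361207)
theorem F412265 : act 5 n199453 = n111338 := d12_1 D199453 (iv6 D111338) D111337 F412262 (iv5 D199452)
theorem F412266 : act 0 n199260 = n199453 := d17_0 F412265 F402070 (iv5 F351074) (iv4 F351067) (iv5 F172332) (iv0 F247364) (iv5 F405802) F405805 D199260
theorem F412267 : act 1 n111537 = n199453 := d17_6 F400616 (iv5 F400613) F400615 F398771 (iv4 F400853) (iv5 F400858) F412265 (iv0 F402150) (iv4 D196883)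
def n199454 : Q := act 0 n111335
theorem D199454 : act 0 n111335 = n199454 := rfl
def n199455 : Q := act 1 n111335
theorem D199455 : act 1 n111335 = n199455 := rfl
theorem F412268 : act 3 n111695 = n199455 := d20_3 F81021 D59172 (iv4 F173416) (iv1 D199455) (iv3 D111335) D111336 (iv1 F361197) F164952 (iv3 F348767) (iv1 D111308)
theorem F412269 : act 2 n199455 = n111608 := d0_1 F412268 (iv3 D111608) (iv2 F355964) (iv3 F176540) F355988
theorem F412270 : act 6 n199455 = n197790 := d7_2 (iv6 F355942) F412268 (iv3 F405807)
def n199456 : Q := act 5 n111335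
theorem D199456 : act 5 n111335 = n199456 := rfl
theorem F412271 : act 3 n199456 = n111337 := d6_1 D199456 (iv5 D111337) D111335
theorem F412272 : act 4 n199456 = n146784 := d16_2 (iv4 F174289) D199456 (iv5 D146784) (iv4 F182686) F182687 (iv4 F318882) F318883 F230601 F230602
def n199457 : Q := act 6 n111335
theorem D199457 : act 6 n111335 = n199457 := rfl
theorem F412273 : act 3 n199457 = n111338 := d7_1 D199457 (iv6 D111338) D111335
def n199458 : Q := act 3 n111336
theorem D199458 : act 3 n111336 = n199458 := rfl
theorem F412274 : act 2 n199458 = n198088 := d0_1 D199458 (iv3 D198088) F358827 (iv3 F361203) (iv2 F361213)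
theorem F412275 : act 4 n199458 = n198199 := d5_2 D111336 D199458 (iv3 F407205) (iv4 F174289) (iv3 D111335)
theorem F412276 : act 5 n199458 = n192703 := d6_2 F363668 D199458 F387539
theorem F412277 : act 7 n199458 = n192702 := d8_2 F361212 D199458 F387534
theorem F412278 : act 0 n199458 = n197738 := d20_4 (iv4 F39168) D51350 D111336 D199458 (iv3 D197738) F330497 (iv1 D137316) (iv4 F330495) (iv3 D108673) (iv1 D50177)
theorem F412279 : act 0 n198169 = n199458 := d20_4 F324490 F323092 F170261 (iv3 F407080) (iv3 D199458) (iv4 D111336) (iv1 F170398) F330492 F330490 (iv1 F79746)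
theorem F412280 : act 5 n188899 = n198689 := d21_8 F412276 (iv1 F387541) F372507 D198006 (iv1 F406486) (iv6 F375167) (iv5 D188901) D188899 F408877 F412279
theorem F412281 : act 3 n123945 = n188899 := d6_3 F412280 (iv3 D198689) (iv5 F360056)
theorem F412282 : act 4 n192542 = n188899 := d18_3 F412193 (iv4 F354415) D192542 F412280 F408876 (iv0 F169779) F99655 D111327 D199437
theorem F412283 : act 6 n188899 = n123944 := d10_2 (iv6 F387016) F412282 F352842
def n199459 : Q := act 0 n111337
theorem D199459 : act 0 n111337 = n199459 := rfl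
theorem F412284 : act 5 n199459 = n198773 := d17_3 D51350 D111337 D199459 F409167 (iv5 F405829) (iv0 D197798) (iv5 D108670) (iv0 D50176) (iv4 F39168)
theorem F412285 : act 2 n111630 = n199459 := d15_3 (iv0 D199459) (iv0 F402076) (iv7 F173198)
theorem F412286 : act 3 n199459 = n111632 := d0_2 D111630 F412285 F343744 F172857 F81268
def n199460 : Q := act 4 n111337
theorem D199460 : act 4 n111337 = n199460 := rfl
theorem F412287 : act 3 n199460 = n146788 := d5_1 D199460 (iv4 D146788) (iv3 F230144) (iv4 F412272) F412271
theorem F412288 : act 5 n199460 = n146796 := d16_1 D199460 (iv4 F335948) F176969 (iv4 F178414) F363667 (iv4 D111341) D111342 (iv7 F412260) F412259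
def n199461 : Q := act 7 n111337
theorem D199461 : act 7 n111337 = n199461 := rfl
theorem F412289 : act 2 n199461 = n111342 := d4_1 D199461 (iv7 F412260) F412259
theorem F412290 : act 5 n199461 = n111339 := d13_1 D199461 (iv7 D111339) D111337
theorem F412291 : act 1 n111342 = n199459 := d15_0 (iv0 D199459) D199461 F412289
theorem F412292 : act 1 n199461 = n111630 := d15_0 (iv0 F412261) F412260 (iv2 F412289)
theorem E103780 : n197895 = n197864 := ((c17_10 (iv1 D197895) (iv5 F406850) (iv1 D151248) (iv5 F363666) (iv4 F361211) (iv5 F412290) F412292 F173197 D199391 (iv4 F411951))).symm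
theorem F412293 : act 0 n197864 = n108762 := (sb E103780 (iv1 D197895))
def n199462 : Q := act 7 n111338
theorem D199462 : act 7 n111338 = n199462 := rfl
theorem F412294 : act 4 n199462 = n196587 := d11_1 D199462 (iv7 F402066) F402069
theorem F412295 : act 1 n199260 = n199462 := d15_1 (iv0 F412266) (iv7 D199462) (iv2 F412263)
theorem F412296 : act 1 n199462 = n111537 := d15_1 F412295 (iv7 F402149) (iv2 F411355)
theorem F412297 : act 3 n196858 = n111518 := d20_3 F412294 F401166 D196858 (iv1 D111518) F81202 F39240 D25003 D51441 D111537 (iv1 F412296)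
def n199463 : Q := act 6 n111339
theorem D199463 : act 6 n111339 = n199463 := rfl
theorem F412298 : act 2 n199463 = n111343 := d3_1 D199463 (iv6 D111343) (iv2 F172786)
theorem F412299 : act 1 n199463 = n111595 := d15_0 F360129 (iv7 F349859) (iv2 F412298)
theorem F412300 : act 1 n120267 = n199463 := d15_0 F412299 (iv7 F412120) F412118
def n199464 : Q := act 0 n111340
theorem D199464 : act 0 n111340 = n199464 := rfl
theorem F412301 : act 4 n199464 = n111547 := d20_0 (iv1 F403534) F403531 F172687 (iv1 F172722) F348767 (iv4 F164952) (iv1 F361214) (iv4 D111341) D111340 D199464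
theorem F412302 : act 2 n111640 = n199464 := d15_3 (iv0 D199464) F412127 (iv7 F412126)
theorem F412303 : act 3 n199464 = n111679 := d0_2 D111640 F412302 F409270 (iv3 F412131) F412130
theorem F412304 : act 6 n199464 = n197799 := d3_2 F363308 F412302 (iv2 F405831)
theorem F412305 : act 7 n199464 = n199118 := d4_2 (iv7 F412126) F412302 F412124
def n199465 : Q := act 5 n111340
theorem D199465 : act 5 n111340 = n199465 := rfl
theorem F412306 : act 2 n199465 = n191874 := d2_1 D199465 (iv5 F384630) (iv2 F349853)
theorem F412307 : act 3 n199465 = n111342 := d6_1 D199465 (iv5 D111342) D111340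
theorem F412308 : act 4 n191871 = n199465 := d1_0 F412306 F384629 (iv2 F384626)
theorem F412309 : act 6 n191870 = n199465 := d3_0 F412306 (iv6 D191874) (iv2 F384624)
def n199466 : Q := act 6 n111341
theorem D199466 : act 6 n111341 = n199466 := rfl
theorem F412310 : act 3 n199466 = n125447 := d7_1 D199466 (iv6 F349856) F172787
theorem F412311 : act 4 n199466 = n111343 := d10_1 D199466 (iv6 D111343) D111341
theorem F412312 : act 5 n199466 = n114361 := d12_1 D199466 (iv6 D114361) (iv5 F83394) D114386 F363667
def n199467 : Q := act 4 n111342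
theorem D199467 : act 4 n111342 = n199467 := rfl
def n199468 : Q := act 6 n111342
theorem D199468 : act 6 n111342 = n199468 := rfl
theorem F412313 : act 3 n199468 = n191870 := d7_1 D199468 F412309 F412307
def n199469 : Q := act 5 n111343
theorem D199469 : act 5 n111343 = n199469 := rfl
theorem F412314 : act 3 n199469 = n125451 := d6_1 D199469 (iv5 D125451) (iv3 F349858)
def n199470 : Q := act 4 n111346
theorem D199470 : act 4 n111346 = n199470 := rfl
theorem F412315 : act 2 n199470 = n111349 := d1_1 D199470 (iv4 D111349) (iv2 F172790)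
def n199471 : Q := act 3 n111347
theorem D199471 : act 3 n111347 = n199471 := rfl
def n199472 : Q := act 4 n111347
theorem D199472 : act 4 n111347 = n199472 := rfl
theorem F412316 : act 3 n199472 = n148134 := d19_3 D199390 F411938 D199472 (iv1 F231952) (iv5 D127381) (iv4 D59830) F45898 F22708 (iv5 D11224) (iv4 D5162) F3451 (iv1 F10326) F10327 (iv4 F18529) (iv3 F18530) (iv1 F24265) (iv5 F39140) D51318 D111270
theorem F412317 : act 4 n199471 = n148796 := d5_2 (iv4 D199472) D199471 F233628 (iv4 F231951) (iv3 F412316)
def n199473 : Q := act 6 n111347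
theorem D199473 : act 6 n111347 = n199473 := rfl
theorem F412318 : act 0 n199473 = n111350 := d21_4 F173197 D199390 F411938 D199473 (iv6 D111350) (iv5 D51353) D51350 D111337 F412262 F412261
theorem F412319 : act 1 n199473 = n124154 := d15_1 (iv0 F412318) F366920 (iv2 F364125)
def n199474 : Q := act 3 n111348
theorem D199474 : act 3 n111348 = n199474 := rfl
def n199475 : Q := act 4 n111348
theorem D199475 : act 4 n111348 = n199475 := rfl
def n199476 : Q := act 6 n111348
theorem D199476 : act 6 n111348 = n199476 := rfl
def n199477 : Q := act 0 n111349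
theorem D199477 : act 0 n111349 = n199477 := rfl
def n199478 : Q := act 1 n111349
theorem D199478 : act 1 n111349 = n199478 := rfl
def n199479 : Q := act 5 n111349
theorem D199479 : act 5 n111349 = n199479 := rfl
def n199480 : Q := act 0 n111350
theorem D199480 : act 0 n111350 = n199480 := rfl
theorem F412320 : act 4 n199480 = n196256 := d18_3 (iv1 F373566) F364006 D199480 (iv5 D196256) (iv4 D106835) (iv0 D49364) (iv4 F48594) D64097 D136337
def n199481 : Q := act 7 n111350
theorem D199481 : act 7 n111350 = n199481 := rfl
theorem F412321 : act 2 n199481 = n124154 := d4_1 D199481 F366920 (iv2 F364125)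
theorem F412322 : act 3 n199481 = n111358 := d8_1 D199481 (iv7 D111358) (iv3 F172792)
theorem F412323 : act 4 n199481 = n129447 := d11_1 D199481 (iv7 F208194) F364006
theorem F412324 : act 5 n199481 = n187955 := d13_1 D199481 F371939 (iv5 F172793)
theorem F412325 : act 6 n199481 = n196437 := d14_1 D199481 (iv7 D196437) F365200 F171821 D111350
theorem F412326 : act 1 n124154 = n199480 := d15_0 (iv0 D199480) D199481 F412321
def n199482 : Q := act 6 n111352
theorem D199482 : act 6 n111352 = n199482 := rfl
theorem F412327 : act 3 n199482 = n111353 := d7_1 D199482 (iv6 D111353) D111352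
def n199483 : Q := act 3 n111356
theorem D199483 : act 3 n111356 = n199483 := rfl
theorem F412328 : act 7 n199483 = n111753 := d8_2 (iv7 F362237) D199483 (iv3 D111753)
theorem F412329 : act 4 n156615 = n199483 := d19_2 F312321 D156615 (iv3 D199483) (iv1 F172806) F81286 (iv4 F343111) F343110 (iv1 F351245) F167718 (iv4 F166940) (iv3 D108021) (iv1 F97589) (iv5 F167166) F167167 D137065 F245115 F247050 F317014 (iv3 D124759)
theorem F412330 : act 2 n199483 = n188951 := d1_1 F412329 F375241 F314698
theorem F412331 : act 5 n199483 = n184556 := d16_1 F412329 (iv4 D184556) (iv5 D88011) F309276 F245845 D74469 D156608 (iv7 F314699) F314698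
theorem F412332 : act 0 n199483 = n156324 := d18_2 (iv1 F405552) F412329 (iv4 D156324) (iv5 D74355) F53520 D34115 D74376 (iv0 F316706) (iv5 F405550)
theorem F412333 : act 6 n188949 = n199483 := d3_0 F412330 (iv6 D188951) (iv2 F375237)
def n199484 : Q := act 5 n111356
theorem D199484 : act 5 n111356 = n199484 := rfl
theorem F412334 : act 2 n199484 = n111750 := d2_1 D199484 (iv5 D111750) (iv2 F362236)
theorem F412335 : act 3 n199484 = n184556 := d6_1 D199484 (iv5 F412331) (iv3 D199483)
theorem F412336 : act 7 n199484 = n111755 := d13_2 (iv7 F362237) D199484 (iv5 D111755)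
theorem F412337 : act 0 n199484 = n141940 := d17_2 D111356 D199484 F363279 (iv4 F363276) (iv5 D135922) (iv0 F410584) F410586 (iv0 D199082) F171825
theorem F412338 : act 4 n199484 = n157939 := d17_4 (iv1 D108690) (iv5 F81064) D111356 D199484 (iv5 F349766) (iv0 D156569) F111748 (iv0 F351243) F337452
theorem F412339 : act 0 n180418 = n199484 := d21_10 (iv5 D199484) (iv1 F172806) F81286 D109218 (iv1 F345206) (iv6 F345220) D192744 F398970 F398966 (iv6 F351230)
def n199485 : Q := act 6 n111356
theorem D199485 : act 6 n111356 = n199485 := rfl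
theorem F412340 : act 2 n199485 = n111751 := d3_1 D199485 (iv6 D111751) (iv2 F362236)
theorem F412341 : act 3 n199485 = n188949 := d7_1 D199485 F412333 (iv3 D199483)
theorem F412342 : act 7 n199485 = n111714 := d14_2 (iv7 F362237) D199485 (iv6 D111714) (iv7 F172851) F362245
def n199486 : Q := act 3 n111357
theorem D199486 : act 3 n111357 = n199486 := rfl
theorem F412343 : act 5 n199486 = n180412 := d6_2 (iv5 F345423) D199486 F280793
theorem F412344 : act 6 n199486 = n111709 := d7_2 (iv6 F345424) D199486 (iv3 D111709)
theorem F412345 : act 7 n199486 = n111748 := d8_2 (iv7 F362234) D199486 (iv3 D111748)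
def n199487 : Q := act 4 n111360
theorem D199487 : act 4 n111360 = n199487 := rfl
theorem F412346 : act 2 n199487 = n197864 := d1_1 D199487 F411951 (iv2 F411952)
theorem F412347 : act 3 n199487 = n198003 := d5_1 D199487 (iv4 F408254) (iv3 D198535) D198536 (iv3 F408263)
theorem F412348 : act 7 n199487 = n197894 := d11_2 (iv7 F411945) D199487 (iv4 F411940)
theorem F412349 : act 1 n199487 = n197724 := d18_8 F406852 F237974 (iv1 F178415) (iv4 F405823) F405829 (iv4 F409167) (iv0 F409170) D199487 (iv5 F406843)
theorem F412350 : act 0 n199487 = n197896 := d20_1 D199487 (iv4 F406127) (iv3 D111396) (iv1 D51375) (iv3 D24976) (iv4 D11859) D11857 D24970 D51359 D111360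
def n199488 : Q := act 6 n111360
theorem D199488 : act 6 n111360 = n199488 := rfl
theorem F412351 : act 2 n199488 = n178123 := d3_1 D199488 F411954 (iv2 F411952)
theorem F412352 : act 7 n199488 = n178124 := d14_2 (iv7 F411945) D199488 F402161 (iv7 F363807) F411941
theorem F412353 : act 0 n199488 = n177794 := d21_4 (iv5 F171820) D199072 F410540 D199488 F402117 (iv5 F402148) F402150 (iv5 F412265) (iv6 D199453) F361205
theorem F412354 : act 0 n111492 = n199488 := d21_4 D197788 F405796 F169064 (iv6 F173025) (iv6 D199488) (iv5 F410540) (iv1 F410539) (iv5 D111346) F81051 (iv1 F356738)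
theorem F412355 : act 5 n199488 = n194345 := d21_2 (iv5 F336692) F412354 (iv6 D194345) D194342 F401441 F401436 (iv1 D144315) D144316 F401437 (iv1 D140531)
theorem F412356 : act 6 n194344 = n199072 := d12_4 D199488 F412355 (iv6 D194345) D194344 F410540
theorem F412357 : act 2 n199476 = n194344 := d3_3 F412356 F411947 D199476
theorem F412358 : act 5 n194338 = n199476 := d2_0 F412357 (iv5 D194344) (iv2 F392870)
theorem F412359 : act 4 n199476 = n188038 := d16_2 D194338 F412358 (iv5 D188038) (iv4 D90751) (iv5 D42495) (iv4 F65623) D90725 F139644 (iv2 F158478)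
theorem F412360 : act 6 n188038 = n199475 := d10_2 D199476 F412359 (iv4 D199475)
def n199489 : Q := act 3 n111361
theorem D199489 : act 3 n111361 = n199489 := rfl
theorem F412361 : act 6 n199489 = n164028 := d7_2 F410543 D199489 F304021
theorem F412362 : act 4 n199489 = n164030 := d20_6 (iv4 D50805) D50803 D110170 D198773 (iv1 F409171) D199489 (iv1 F348615) (iv4 D111461) F325712 (iv1 F325711)
def n199490 : Q := act 4 n111361
theorem D199490 : act 4 n111361 = n199490 := rfl
theorem F412363 : act 2 n199490 = n197894 := d1_1 D199490 (iv4 F411940) F411942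
theorem F412364 : act 3 n199490 = n140392 := d5_1 D199490 F353654 F353657 (iv4 F412362) (iv3 D199489)
theorem F412365 : act 6 n199490 = n196490 := d10_2 F410543 D199490 F400822
theorem F412366 : act 7 n199490 = n197864 := d11_2 F411950 D199490 F411951
theorem F412367 : act 0 n199490 = n197724 := d17_0 (iv5 F406843) F406852 F363668 (iv4 D111336) D111337 (iv0 F402076) (iv5 D111363) D111361 D199490
theorem F412368 : act 0 n197896 = n199490 := d20_10 (iv4 D199490) (iv1 D111361) F81070 (iv3 D50201) F38444 D30841 F49300 D59820 D127354 (iv3 F406126)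
def n199491 : Q := act 5 n111362
theorem D199491 : act 5 n111362 = n199491 := rfl
theorem F412369 : act 2 n199491 = n111363 := d2_1 D199491 (iv5 D111363) D111362
theorem F412370 : act 3 n199491 = n140707 := d6_1 D199491 (iv5 D140707) (iv3 F172813)
theorem F412371 : act 6 n199491 = n196895 := d12_2 F364756 D199491 (iv5 D196895) (iv6 F398769) F398771
theorem F412372 : act 7 n199491 = n199459 := d13_2 F409169 D199491 F412284
theorem F412373 : act 1 n199491 = n199461 := d17_6 (iv1 F356732) F356733 (iv1 F363679) (iv5 F363678) (iv4 F172814) D199491 F412290 F361210 F81054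
theorem F412374 : act 0 n199491 = n199452 := d21_7 F400858 (iv1 D196498) D196499 F400860 (iv1 F172013) F364756 D199491 (iv5 D199452) D199453 (iv1 F412267)
def n199492 : Q := act 4 n111363
theorem D199492 : act 4 n111363 = n199492 := rfl
theorem F412375 : act 3 n199492 = n139470 := d5_1 D199492 (iv4 D139470) F101160 (iv4 F81072) (iv3 F172815)
def n199493 : Q := act 7 n111365
theorem D199493 : act 7 n111365 = n199493 := rfl
theorem F412376 : act 2 n199493 = n140712 := d4_1 D199493 (iv7 D140712) (iv2 F172818)
theorem F412377 : act 3 n199493 = n196897 := d8_1 D199493 F402205 F360130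
theorem F412378 : act 4 n199493 = n139479 := d11_1 D199493 (iv7 D139479) (iv4 F172819)
theorem F412379 : act 5 n199493 = n196896 := d13_1 D199493 F402199 (iv5 F360131)
theorem F412380 : act 1 n140711 = n199493 := d15_1 D140711 (iv7 D199493) F172818
theorem F412381 : act 1 n199493 = n140710 := d15_1 F412380 (iv7 F405905) F375412
def n199494 : Q := act 6 n111366
theorem D199494 : act 6 n111366 = n199494 := rfl
theorem F412382 : act 2 n199494 = n140688 := d3_1 D199494 (iv6 D140688) F175471
theorem F412383 : act 4 n199494 = n126312 := d10_1 D199494 F203095 F172823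
theorem F412384 : act 5 n199494 = n111768 := d12_1 D199494 (iv6 F363566) F172093 D142745 (iv5 F331098)
theorem F412385 : act 7 n199494 = n196402 := d14_2 F175469 D199494 F400595 (iv7 F173775) F175475
theorem F412386 : act 0 n199494 = n111428 := d21_4 (iv5 F342480) F342481 (iv5 F331098) D199494 (iv6 D111428) (iv5 F169086) (iv1 F372969) F372966 F168600 (iv1 F168526)
theorem F412387 : act 0 n125518 = n199494 := d21_4 D111332 (iv1 F405513) (iv5 D197721) (iv6 F337400) (iv6 D199494) F331098 F331104 (iv5 D112203) F81699 (iv1 F171523)
def n199495 : Q := act 3 n111367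
theorem D199495 : act 3 n111367 = n199495 := rfl
theorem F412388 : act 2 n199495 = n174908 := d0_1 D199495 (iv3 F333029) (iv2 F360009) (iv3 D140689) F175474
theorem F412389 : act 4 n199495 = n198410 := d5_2 (iv4 F172825) D199495 (iv3 D198410) F175062 (iv3 F175061)
theorem F412390 : act 6 n199495 = n173341 := d7_2 F175106 D199495 (iv3 F351065)
theorem F412391 : act 7 n199495 = n140686 := d8_2 (iv7 F175473) D199495 (iv3 D140686)
def n199496 : Q := act 3 n111369
theorem D199496 : act 3 n111369 = n199496 := rfl
theorem F412392 : act 4 n199496 = n119442 := d5_2 D111369 D199496 F188206 F317718 (iv3 F170917)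
theorem F412393 : act 6 n199496 = n152589 := d7_2 F173474 D199496 (iv3 F361364)
theorem F412394 : act 7 n199496 = n140683 := d8_2 (iv7 F172832) D199496 (iv3 D140683)
theorem F412395 : act 0 n199496 = n198023 := d20_10 F406542 F334111 (iv4 F272621) (iv3 F346369) (iv1 F172331) F351066 F81076 D51362 D111369 D199496
theorem F412396 : act 0 n111463 = n199496 := d20_4 (iv4 D76121) F301550 D123323 (iv3 F353076) (iv3 D199496) (iv4 D111369) (iv1 F81083) (iv4 F101698) F326229 F117626
def n199497 : Q := act 5 n111369
theorem D199497 : act 5 n111369 = n199497 := rfl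
theorem F412397 : act 2 n199497 = n140681 := d2_1 D199497 (iv5 D140681) (iv2 F172831)
theorem F412398 : act 6 n199497 = n195460 := d12_2 F173474 D199497 F397059 (iv6 F351552) F332215
theorem F412399 : act 7 n199497 = n140684 := d13_2 (iv7 F172832) D199497 (iv5 D140684)
theorem F412400 : act 1 n199497 = n196842 := d17_6 (iv1 F79479) (iv5 F101529) (iv1 F111788) F111785 D111369 D199497 F402014 F168514 F79683
theorem F412401 : act 4 n199497 = n195462 := d18_5 (iv1 D111367) F81076 D51362 D111369 D199497 (iv0 F402137) F402135 (iv0 F400694) F400692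
theorem F412402 : act 0 n199497 = n197748 := d21_1 D199497 (iv5 D197748) F172732 (iv1 D111314) (iv6 D51340) D51339 (iv1 F81097) (iv5 D51369) D51370 (iv1 F172840)
theorem F412403 : act 0 n199128 = n198145 := d21_4 (iv5 F402268) (iv1 D196914) F180732 D199128 (iv6 D198145) F168958 (iv1 F172840) D199497 F412398 (iv1 F398752)
theorem F412404 : act 0 n198148 = n196709 := d21_4 (iv5 D199497) F172833 F168960 D198148 (iv6 F402470) F402472 (iv1 F400538) (iv5 F406439) (iv6 F406441) (iv1 F412400)
def n199498 : Q := act 3 n111370
theorem D199498 : act 3 n111370 = n199498 := rfl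
theorem F412405 : act 4 n199498 = n145444 := d5_2 D111370 D199498 (iv3 D145444) F104342 (iv3 F104343)
theorem F412406 : act 6 n199498 = n197861 := d7_2 (iv6 F172836) D199498 (iv3 D197861)
theorem F412407 : act 7 n199498 = n140680 := d8_2 (iv7 F172837) D199498 (iv3 D140680)
theorem F412408 : act 0 n196501 = n199498 := d20_4 D111123 (iv1 F400874) (iv4 D196502) D196501 (iv3 D199498) (iv4 D111370) (iv1 D51363) (iv4 F81076) (iv3 F351066) (iv1 D111122)
theorem F412409 : act 5 n199498 = n196851 := d21_2 (iv5 F406906) F412408 (iv6 F402038) (iv1 F295620) (iv6 D103793) (iv5 F294314) F140480 (iv5 F294758) D194586 (iv1 F406903)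
theorem F412410 : act 1 n111394 = n199498 := d15_0 (iv0 F412408) (iv7 F402100) (iv2 F402106)
theorem E103781 : n197891 = n197861 := ((c21_4 (iv5 D196853) D196851 (iv5 F412409) F412406 (iv1 D197891) (iv6 D108760) D108759 (iv1 F386120) (iv5 D108931) D108932 (iv1 F406814))).symm
theorem F412411 : act 0 n197861 = n108760 := (sb E103781 (iv1 D197891))
theorem F412412 : act 0 n127357 = n145436 := d20_7 F173012 (iv1 F81194) D108730 D197861 F412411 (iv3 F406112) F406113 (iv4 F406042) (iv3 D197859) F173016
theorem F412413 : act 0 n197888 = n170230 := d20_1 (iv4 F406122) (iv4 F345576) (iv3 F345577) (iv1 F254133) (iv3 F325335) F173012 (iv1 F81194) D108730 D197861 F412411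
theorem F412414 : act 0 n177494 = n197884 := d20_4 F302260 F299398 (iv4 F301653) D177494 F406112 (iv4 F406122) F412413 (iv4 F345576) (iv3 F345577) (iv1 F254133)
def n199499 : Q := act 5 n111370
theorem D199499 : act 5 n111370 = n199499 := rfl
theorem F412415 : act 2 n199499 = n140684 := d2_1 D199499 (iv5 D140684) (iv2 F172835)
theorem F412416 : act 3 n199499 = n196851 := d6_1 D199499 (iv5 F412409) (iv3 D199498)
theorem F412417 : act 6 n199499 = n199099 := d12_2 (iv6 F172836) D199499 F410652 (iv6 F299234) (iv5 F341294)
theorem F412418 : act 7 n199499 = n140681 := d13_2 (iv7 F172837) D199499 (iv5 D140681)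
theorem F412419 : act 0 n199499 = n196842 := d17_2 (iv1 F172839) D199499 F402014 F168515 D125985 (iv0 F204374) F204373 F175462 (iv4 F168872)
theorem F412420 : act 1 n199499 = n197748 := d17_6 F163908 D51748 F163909 F81078 D111370 D199499 (iv5 D197748) (iv0 D108632) F79478
def n199500 : Q := act 3 n111372
theorem D199500 : act 3 n111372 = n199500 := rfl
theorem F412421 : act 4 n199500 = n126054 := d5_2 (iv4 F324526) D199500 (iv3 D126054) (iv4 D59062) (iv3 F323100)
theorem F412422 : act 5 n199500 = n111712 := d6_2 F172856 D199500 (iv3 D111712)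
theorem F412423 : act 6 n199500 = n124188 := d7_2 (iv6 F324527) D199500 (iv3 D124188)
theorem F412424 : act 7 n199500 = n140705 := d8_2 (iv7 F172853) D199500 (iv3 D140705)
theorem F412425 : act 0 n199500 = n195046 := d20_10 (iv4 D195046) (iv1 F161125) F82656 (iv3 F172595) (iv1 F172599) F325712 (iv4 D86171) F297654 (iv4 F324526) D199500
theorem F412426 : act 0 n195045 = n197010 := d20_10 F402674 (iv1 F377914) F173636 (iv3 F324452) F324450 D126054 (iv4 F412421) F412425 (iv4 D195046) D195045
theorem F412427 : act 1 n199500 = n195047 := d15_1 (iv0 F412425) F395569 (iv2 F395565)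
def n199501 : Q := act 0 n111375
theorem D199501 : act 0 n111375 = n199501 := rfl
def n199502 : Q := act 7 n111375
theorem D199502 : act 7 n111375 = n199502 := rfl
theorem F412428 : act 3 n199502 = n191937 := d8_1 D199502 F384906 (iv3 F345427)
theorem F412429 : act 4 n199502 = n139455 := d11_1 D199502 (iv7 D139455) (iv4 F172863)
theorem F412430 : act 5 n199502 = n197642 := d13_1 D199502 F405157 F345428
theorem F412431 : act 6 n199502 = n140712 := d14_1 D199502 (iv7 D140712) (iv6 D66022) (iv7 F81089) D111375
def n199503 : Q := act 0 n111376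
theorem D199503 : act 0 n111376 = n199503 := rfl
theorem F412432 : act 2 n198050 = n199503 := d15_3 (iv0 D199503) (iv0 F407703) F407702
theorem F412433 : act 1 n197737 = n199503 := d15_0 (iv0 D199503) F172865 (iv2 F405583)
theorem F412434 : act 7 n199503 = n198049 := d15_2 F407704 F412433 (iv2 F407701)
theorem F412435 : act 6 n141869 = n199503 := d21_9 (iv5 D197737) F168497 (iv5 F223572) (iv6 F377745) D193286 F400554 (iv5 F404748) F404749 F224911 (iv1 F412433)
def n199504 : Q := act 4 n111376
theorem D199504 : act 4 n111376 = n199504 := rfl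
theorem F412436 : act 2 n199504 = n198054 := d1_1 D199504 (iv4 D198054) (iv2 F172864)
theorem F412437 : act 6 n199504 = n152779 := d10_2 (iv6 F345429) D199504 F366401
theorem F412438 : act 7 n199504 = n198051 := d11_2 (iv7 F172865) D199504 (iv4 D198051)
theorem F412439 : act 3 n156156 = n199504 := d8_3 F412438 F406596 (iv7 F245404)
def n199505 : Q := act 3 n111377
theorem D199505 : act 3 n111377 = n199505 := rfl
theorem F412440 : act 7 n199505 = n197858 := d8_2 (iv7 F409677) D199505 (iv3 F409596)
theorem F412441 : act 4 n199505 = n197707 := d20_6 (iv4 D27956) F39846 F39845 D51368 D111377 D199505 (iv1 D197707) (iv4 F172590) (iv3 D111270) F80966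
theorem F412442 : act 2 n197856 = n199505 := d1_3 F412441 F405864 D197856
theorem F412443 : act 0 n196506 = n199505 := d20_10 F412441 (iv1 D197707) (iv4 F172590) (iv3 D111270) F80966 D58792 F92943 D58815 D125613 (iv3 F400885)
theorem F412444 : act 0 n199505 = n111396 := d20_1 (iv4 F412441) F406127 F406126 (iv1 F406102) (iv3 F406103) (iv4 D109373) (iv1 F81432) (iv4 F173761) F173760 (iv1 F405455)
theorem F412445 : act 1 n196873 = n197858 := d15_1 F406131 (iv7 F412440) (iv2 F412442)
theorem F412446 : act 1 n197858 = n197897 := d15_1 F412445 F406129 (iv2 F402102)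
def n199506 : Q := act 4 n111377
theorem D199506 : act 4 n111377 = n199506 := rfl
theorem F412447 : act 6 n199506 = n166435 := d10_2 F409679 D199506 (iv4 F277900)
theorem F412448 : act 7 n199506 = n164009 := d11_2 (iv7 F409677) D199506 (iv4 F409595)
theorem F412449 : act 3 n199506 = n163871 := d20_3 F82227 D111377 D199506 (iv1 D163871) (iv3 D78719) F88492 (iv1 D18872) (iv4 F30116) (iv3 F60694) (iv1 F323179)
theorem F412450 : act 0 n163841 = n199506 := d20_10 (iv4 D199506) (iv1 F360701) (iv4 D180462) (iv3 F324599) (iv1 F175446) D198843 F409527 (iv1 F354857) (iv4 D163842) D163841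
def n199507 : Q := act 5 n111377
theorem D199507 : act 5 n111377 = n199507 := rfl
theorem F412451 : act 2 n199507 = n188825 := d2_1 D199507 F409600 F409678
theorem F412452 : act 1 n199507 = n111410 := d17_8 (iv1 D114277) (iv5 D52743) D52741 (iv5 F143386) (iv4 F375341) (iv5 F375342) F360701 D199507 (iv4 F353545)
theorem F412453 : act 6 n115044 = n199507 := d21_5 F291271 (iv1 F74301) (iv5 F292615) (iv6 F178142) (iv1 F179161) (iv5 D199507) (iv1 F360701) F375342 (iv6 D188988) F143384
theorem F412454 : act 4 n199507 = n115045 := d10_1 F412453 (iv6 D115045) D115044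
def n199508 : Q := act 3 n111378
theorem D199508 : act 3 n111378 = n199508 := rfl
theorem F412455 : act 6 n199508 = n157889 := d7_2 (iv6 F409675) D199508 (iv3 F280822)
theorem F412456 : act 7 n199508 = n188901 := d8_2 F409676 D199508 (iv3 F409601)
theorem F412457 : act 5 n188902 = n199508 := d13_3 F412456 (iv5 D188901) D188902
theorem F412458 : act 0 n111455 = n199508 := d19_0 (iv5 F412457) F375168 (iv3 F375157) (iv1 F375160) (iv5 D146440) (iv4 D68658) D68657 (iv1 F104874) (iv5 D52554) (iv4 F77077) F77073 F54312 D68973 F105168 D69116 F182065 F182069 (iv4 D111456) D111455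
def n199509 : Q := act 5 n111378
theorem D199509 : act 5 n111378 = n199509 := rfl
theorem F412459 : act 3 n199509 = n188902 := d6_1 D199509 F412457 (iv3 D199508)
theorem F412460 : act 7 n199509 = n188825 := d13_2 F409676 D199509 F409600
theorem F412461 : act 0 n199509 = n111410 := d17_2 (iv1 F360702) D199509 F172893 (iv4 F82192) D112705 F360712 F129778 D86186 D180462
theorem F412462 : act 4 n199509 = n188828 := d19_2 (iv1 F360702) D199509 F375018 (iv1 F322802) F322805 (iv4 D54080) (iv3 F85132) F85134 (iv5 D32067) F24777 (iv3 D15142) D15140 D32084 F320037 D96373 F320033 F205316 (iv4 F172874) (iv3 F360699)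
def n199510 : Q := act 5 n111379
theorem D199510 : act 5 n111379 = n199510 := rfl
theorem F412463 : act 2 n199510 = n111380 := d2_1 D199510 (iv5 D111380) D111379
theorem F412464 : act 4 n199510 = n188991 := d9_1 D199510 F375345 (iv4 F347720) (iv5 D137384) (iv4 F345511) (iv5 D110387) (iv4 F170745) (iv5 F173046) (iv4 F370335) (iv5 D187442) (iv4 F338498) (iv5 D137379) D137378 F349930 F175479
theorem F412465 : act 7 n199510 = n188988 := d13_2 F360700 D199510 (iv5 F375342)
def n199511 : Q := act 6 n111379
theorem D199511 : act 6 n111379 = n199511 := rfl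
theorem F412466 : act 2 n199511 = n111381 := d3_1 D199511 (iv6 D111381) D111379
theorem F412467 : act 3 n199511 = n198543 := d7_1 D199511 F408291 F406465
theorem F412468 : act 4 n199511 = n162806 := d10_1 D199511 F346488 F175479
theorem F412469 : act 7 n199511 = n196486 := d14_2 F360700 D199511 (iv6 F400859) (iv7 F383282) F383281
theorem F412470 : act 1 n196482 = n199511 := d17_8 (iv1 D162806) D162809 F401904 F401901 F345547 F401908 (iv0 D196823) (iv5 F400798) F412468
theorem F412471 : act 0 n174158 = n199511 := d20_10 F412468 (iv1 D162806) (iv4 F305000) (iv3 D160372) (iv1 F253286) F353082 (iv4 F402111) (iv1 F402114) F400866 F362027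
def n199512 : Q := act 0 n111380
theorem D199512 : act 0 n111380 = n199512 := rfl
theorem F412472 : act 5 n199512 = n133969 := d19_1 D199512 (iv4 F360744) F360746 (iv1 F325255) F325257 F183132 F85108 (iv1 F47167) (iv5 F47168) (iv4 F95569) (iv3 F336590) (iv1 D126796) (iv5 D59503) (iv4 F93902) (iv3 D59490) F45750 D30681 (iv4 F81095) (iv3 F172866)
theorem F412473 : act 4 n199512 = n194433 := d20_0 (iv1 D194433) (iv4 F393181) F393180 (iv1 D111657) F81273 (iv4 F80635) F80636 (iv4 F81095) (iv3 F172866) D199512
theorem F412474 : act 1 n188988 = n199512 := d15_0 (iv0 D199512) (iv7 F173047) (iv2 F375340)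
def n199513 : Q := act 1 n111380
theorem D199513 : act 1 n111380 = n199513 := rfl
theorem F412475 : act 1 n199513 = n188988 := d15_1 D199513 (iv7 F412465) F412463
theorem F412476 : act 5 n199513 = n133970 := d17_7 (iv1 F175412) (iv5 F346482) F349921 (iv5 D112730) F82227 D111380 D199513 F215897 (iv4 F175409)
theorem F412477 : act 4 n199513 = n194432 := d17_9 (iv1 F393189) F375053 (iv1 F374154) F235979 (iv4 F412454) (iv5 D199507) (iv0 D111377) D111380 D199513
def n199514 : Q := act 6 n111380
theorem D199514 : act 6 n111380 = n199514 := rfl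
theorem F412478 : act 3 n199514 = n111382 := d7_1 D199514 (iv6 D111382) (iv3 F172866)
theorem F412479 : act 4 n199514 = n188997 := d10_1 D199514 F375360 (iv4 F349941)
theorem F412480 : act 7 n199514 = n188995 := d14_2 F173047 D199514 (iv6 D188995) F143390 (iv6 F370336)
def n199515 : Q := act 1 n111381
theorem D199515 : act 1 n111381 = n199515 := rfl
theorem F412481 : act 1 n199515 = n196486 := d15_1 D199515 (iv7 F412469) F412466
theorem F412482 : act 7 n199515 = n196482 := d15_2 (iv0 F362031) D199515 F400797
theorem F412483 : act 6 n173241 = n199515 := d21_3 (iv5 F272947) (iv1 F272949) (iv5 F271576) (iv1 D199515) (iv6 D111381) D111380 D199512 F412472 F360745 F300898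
theorem F412484 : act 2 n199515 = n174158 := d3_1 F412483 (iv6 D174158) (iv2 F271574)
theorem F412485 : act 4 n199515 = n173242 := d10_1 F412483 (iv6 D173242) (iv4 F271575)
theorem F412486 : act 5 n199515 = n196825 := d12_1 F412483 F401918 F398590 (iv6 D174273) (iv5 F271576)
def n199516 : Q := act 7 n111381
theorem D199516 : act 7 n111381 = n199516 := rfl
theorem F412487 : act 2 n199516 = n196486 := d4_1 D199516 (iv7 F412469) F412466
theorem F412488 : act 3 n199516 = n111383 := d8_1 D199516 (iv7 D111383) (iv3 F172867)
theorem F412489 : act 4 n199516 = n162805 := d11_1 D199516 (iv7 F360737) F175487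
theorem F412490 : act 6 n199516 = n140421 := d14_1 D199516 F223573 (iv6 F170746) F170747 D111381
theorem F412491 : act 1 n174158 = n199516 := d15_1 (iv0 F412471) (iv7 D199516) (iv2 F412466)
theorem F412492 : act 1 n199516 = n196482 := d15_1 F412491 (iv7 F412482) F412484
def n199517 : Q := act 0 n111382
theorem D199517 : act 0 n111382 = n199517 := rfl
def n199518 : Q := act 1 n111382
theorem D199518 : act 1 n111382 = n199518 := rfl
theorem F412493 : act 6 n188077 = n199518 := d21_3 F343798 (iv1 F222730) (iv5 F372262) (iv1 D199518) (iv6 D111382) (iv5 D51369) (iv1 F39192) D24993 D51416 D111474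
theorem F412494 : act 4 n199518 = n139477 := d10_1 F412493 (iv6 F362784) D188077
def n199519 : Q := act 7 n111382
theorem D199519 : act 7 n111382 = n199519 := rfl
theorem F412495 : act 3 n199519 = n188995 := d8_1 D199519 (iv7 F412480) F412478
theorem F412496 : act 4 n199519 = n139423 := d11_1 D199519 (iv7 D139423) (iv4 F172868)
theorem F412497 : act 6 n199519 = n188994 := d14_1 D199519 F375356 (iv6 D111522) (iv7 F81210) D111382
def n199520 : Q := act 5 n111384
theorem D199520 : act 5 n111384 = n199520 := rfl
theorem F412498 : act 3 n199520 = n147931 := d6_1 D199520 F409174 F409172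
theorem F412499 : act 0 n199520 = n111412 := d17_2 (iv1 F406469) D199520 F172895 F81199 (iv5 F169515) F408269 (iv5 D198537) F173620 (iv4 F406466)
theorem F412500 : act 6 n147930 = n199520 := d7_0 F412498 (iv6 D147931) (iv3 F231738)
def n199521 : Q := act 6 n111384
theorem D199521 : act 6 n111384 = n199521 := rfl
theorem F412501 : act 2 n199521 = n197879 := d3_1 D199521 F406459 (iv2 F406458)
theorem F412502 : act 3 n199521 = n147907 := d7_1 D199521 (iv6 F409173) F409172
theorem F412503 : act 4 n199521 = n189939 := d10_1 D199521 (iv6 F378316) F220428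
theorem F412504 : act 5 n199521 = n147906 := d12_1 D199521 F231678 D147930 F412500 (iv5 D199520)
theorem F412505 : act 0 n197876 = n199521 := d21_4 D198092 (iv1 F406760) (iv5 D197875) D197876 (iv6 D199521) D199520 F412499 F172895 F81200 D108918
theorem F412506 : act 1 n111478 = n199521 := d15_0 (iv0 F412505) (iv7 F406084) F360136
theorem F412507 : act 7 n199521 = n197880 := d15_2 (iv0 F365965) F412506 F406097
def n199522 : Q := act 5 n111385
theorem D199522 : act 5 n111385 = n199522 := rfl
theorem F412508 : act 2 n199522 = n111386 := d2_1 D199522 (iv5 D111386) D111385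
theorem F412509 : act 3 n199522 = n188988 := d6_1 D199522 (iv5 F375342) F360699
theorem F412510 : act 1 n199522 = n198791 := d17_6 D109871 (iv5 F320036) F320033 F205316 (iv4 F172874) D199522 (iv5 D198791) (iv0 F170487) F81199
theorem F412511 : act 6 n199522 = n188987 := d21_5 F411968 (iv1 D111297) D111299 (iv6 F409257) (iv1 F412510) F375338 D192434 (iv5 F405262) F387021 (iv1 F411966)
def n199523 : Q := act 6 n111385
theorem D199523 : act 6 n111385 = n199523 := rfl
theorem F412512 : act 2 n199523 = n111387 := d3_1 D199523 (iv6 D111387) D111385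
theorem F412513 : act 3 n199523 = n191383 := d7_1 D199523 F383281 F360699
theorem F412514 : act 4 n199523 = n190579 := d10_1 D199523 F380194 (iv4 F172874)
theorem F412515 : act 5 n199523 = n192436 := d12_1 D199523 (iv6 D192436) (iv5 F375338) (iv6 F412511) (iv5 D199522)
theorem F412516 : act 7 n199523 = n198027 := d14_2 F406467 D199523 (iv6 F408822) F408823 F408291
theorem F412517 : act 0 n199523 = n194487 := d21_4 D198791 (iv1 F412510) (iv5 D199522) D199523 (iv6 F393414) D197874 F406076 F168710 (iv6 F81200) F170487
theorem F412518 : act 1 n199523 = n194489 := d15_1 (iv0 F412517) F393422 (iv2 F393412)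
def n199524 : Q := act 1 n111386
theorem D199524 : act 1 n111386 = n199524 := rfl
theorem F412519 : act 5 n199524 = n198790 := d17_7 F174290 (iv5 F380534) (iv1 F380537) (iv5 D109535) (iv4 F81098) D111386 D199524 F409254 F173031
theorem F412520 : act 2 n198791 = n199524 := d2_3 F412519 (iv2 D198790) D198791
theorem F412521 : act 3 n198108 = n199524 := d6_3 F412519 F409251 (iv5 F406854)
theorem F412522 : act 6 n199524 = n199408 := d7_2 (iv6 F406856) F412521 F412038
def n199525 : Q := act 4 n111386
theorem D199525 : act 4 n111386 = n199525 := rfl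
theorem F412523 : act 3 n199525 = n139369 := d5_1 D199525 (iv4 D139369) F101111 (iv4 F81099) (iv3 F172875)
theorem F412524 : act 5 n199525 = n146897 := d16_3 (iv4 F81098) D111386 D199525 (iv4 F409849) (iv5 D198910) F171176 F354568 F173617 (iv2 D109534)
theorem F412525 : act 0 n146784 = n199525 := d20_7 F81024 F49373 (iv4 F81072) (iv3 F172815) F402076 (iv3 F412271) F412272 (iv4 D199525) F172875 F81100
theorem F412526 : act 1 n186648 = n199525 := d17_6 (iv1 F353668) F353671 (iv1 F382013) F382018 (iv4 F391585) F391586 F412524 (iv0 D146897) (iv4 F106152)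
def n199526 : Q := act 6 n111386
theorem D199526 : act 6 n111386 = n199526 := rfl
theorem F412527 : act 2 n199526 = n188987 := d3_1 D199526 (iv6 F412511) F412508
theorem F412528 : act 3 n199526 = n111388 := d7_1 D199526 (iv6 D111388) (iv3 F172875)
theorem F412529 : act 5 n199526 = n192435 := d21_6 F365188 (iv1 F172689) D199408 (iv6 F412522) (iv1 D199524) D199526 (iv1 F405261) F405258 (iv6 D111469) D111466
def n199527 : Q := act 5 n111387
theorem D199527 : act 5 n111387 = n199527 := rfl
theorem F412530 : act 2 n199527 = n192436 := d2_1 D199527 (iv5 F412515) F412512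
theorem F412531 : act 3 n199527 = n111389 := d6_1 D199527 (iv5 D111389) (iv3 F172876)
theorem F412532 : act 6 n199527 = n192435 := d12_2 D111387 D199527 (iv5 F412529) (iv6 D199526) (iv5 D111386)
theorem F412533 : act 7 n199527 = n198028 := d13_2 F172878 D199527 (iv5 D198028)
def n199528 : Q := act 0 n111388
theorem D199528 : act 0 n111388 = n199528 := rfl
theorem F412534 : act 5 n199528 = n153619 := d21_0 F365474 (iv5 F374511) F374512 (iv1 D111475) (iv6 D51416) (iv5 D24993) (iv1 F39193) D51372 D111388 D199528
theorem F412535 : act 3 n153620 = n199528 := d6_3 F412534 (iv3 D153619) D153620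
theorem F412536 : act 0 n199528 = n188994 := d20_4 (iv4 F206505) F206506 (iv4 F241498) F412535 (iv3 D188994) (iv4 D92975) (iv1 D43495) D43496 D92977 F339898
theorem F412537 : act 4 n139452 = n199528 := d20_8 (iv4 F206492) F237669 (iv4 D150956) F322664 D115791 (iv3 F345427) F172863 D139452 (iv3 F412535) F241500
def n199529 : Q := act 1 n111388
theorem D199529 : act 1 n111388 = n199529 := rfl
theorem F412538 : act 1 n199529 = n188994 := d15_1 D199529 F375356 F173048
theorem F412539 : act 6 n123989 = n199529 := d21_3 (iv5 F191937) F304334 (iv5 F304463) (iv1 D199529) (iv6 D111388) (iv5 D51372) (iv1 D24975) D24977 D51381 (iv1 F329124)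
theorem F412540 : act 4 n199529 = n139453 := d10_1 F412539 F343238 (iv4 F304462)
theorem F412541 : act 5 n192454 = n199529 := d21_8 (iv5 F191920) (iv1 F327319) F327322 (iv6 F153012) (iv1 F345070) (iv6 F374512) F374511 D192454 (iv6 F412539) (iv1 F198398)
def n199530 : Q := act 5 n111388
theorem D199530 : act 5 n111388 = n199530 := rfl
theorem F412542 : act 2 n199530 = n153175 := d2_1 D199530 (iv5 F370338) F173048
theorem F412543 : act 3 n199530 = n192435 := d6_1 D199530 (iv5 F412529) F412528
theorem F412544 : act 6 n199530 = n111389 := d12_2 D111388 D199530 (iv5 D111389) (iv6 D51373) D51372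
theorem F412545 : act 0 n199530 = n147066 := d21_1 D199530 (iv5 F409190) (iv6 D198777) F360059 (iv6 D123945) (iv5 F191937) F304334 (iv5 F304463) F412539 (iv1 D199529)
theorem F412546 : act 7 n199530 = n192405 := d15_2 F359355 (iv0 F412545) (iv2 D192405)
theorem E103782 : n192405 = n153176 := ((c15_2 (iv0 D153175) D153176 (iv7 F412546) F412542)).symm
theorem F412547 : act 2 n153176 = n100158 := (sb E103782 (iv2 D192405))
theorem F412548 : act 3 n153176 = n197658 := (sb E103782 (iv3 F405252))
theorem F412549 : act 7 n153176 = n199530 := (sb E103782 (iv7 F412546))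
theorem F412550 : act 1 n199530 = n153177 := d15_0 (iv0 F359354) F365332 (iv2 F412542)
def n199531 : Q := act 7 n111388
theorem D199531 : act 7 n111388 = n199531 := rfl
theorem F412551 : act 2 n199531 = n188994 := d4_1 D199531 F375356 F173048
theorem F412552 : act 4 n199531 = n124023 := d11_1 D199531 F364224 (iv4 F172879)
theorem F412553 : act 5 n199531 = n153176 := d13_1 D199531 F412549 (iv5 D199530)
def n199532 : Q := act 0 n111389
theorem D199532 : act 0 n111389 = n199532 := rfl
theorem F412554 : act 5 n199532 = n138644 := d17_3 (iv1 F98655) D111389 D199532 (iv4 D138644) (iv5 D65099) (iv0 D30569) (iv5 F39188) F39190 (iv4 F79650)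
theorem F412555 : act 6 n199532 = n196386 := d21_5 F412541 (iv1 D199529) D199530 F412544 D199532 F400541 (iv1 F226614) (iv5 F386750) (iv6 D192456) D192454
theorem F412556 : act 2 n198031 = n199532 := d15_3 (iv0 D199532) (iv0 F341267) (iv7 F406566)
theorem F412557 : act 1 n140422 = n199532 := d15_0 (iv0 D199532) F172881 (iv2 F223574)
theorem F412558 : act 7 n199532 = n198030 := d15_2 (iv0 F341266) F412557 F406564
theorem F412559 : act 3 n154719 = n199532 := d19_19 (iv1 F412557) (iv5 D140422) (iv4 D65910) F101542 (iv1 F80316) (iv5 F49690) (iv4 F103656) (iv3 F318610) (iv1 F230056) F313799 (iv4 F310761) F310760 (iv1 F340816) (iv5 F240648) (iv4 F240646) F310658 F149153 F310624 D154719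
def n199533 : Q := act 4 n111389
theorem D199533 : act 4 n111389 = n199533 := rfl
theorem F412560 : act 2 n199533 = n198036 := d1_1 D199533 (iv4 D198036) (iv2 F172880)
theorem F412561 : act 7 n199533 = n198032 := d11_2 (iv7 F172881) D199533 (iv4 D198032)
def n199534 : Q := act 6 n111391
theorem D199534 : act 6 n111391 = n199534 := rfl
theorem F412562 : act 2 n199534 = n196504 := d3_1 D199534 F400877 F203772
theorem F412563 : act 3 n199534 = n111394 := d7_1 D199534 (iv6 D111394) D111391
theorem F412564 : act 4 n199534 = n125860 := d10_1 D199534 F360410 (iv4 F201904)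
theorem F412565 : act 5 n199534 = n153797 := d12_1 D199534 (iv6 F402278) (iv5 F406861) (iv6 D198110) (iv5 F172885)
theorem F412566 : act 0 n199534 = n142806 := d21_4 (iv5 F406858) (iv1 D198109) (iv5 F172885) D199534 F410617 F410615 (iv1 D110934) D110936 F343552 F202207
def n199535 : Q := act 3 n111392
theorem D199535 : act 3 n111392 = n199535 := rfl
theorem F412567 : act 2 n199535 = n127356 := d0_1 D199535 (iv3 D127356) F203753 D113580 (iv2 F203771)
def n199536 : Q := act 6 n111392
theorem D199536 : act 6 n111392 = n199536 := rfl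
theorem F412568 : act 4 n199536 = n111394 := d10_1 D199536 (iv6 D111394) D111392
theorem F412569 : act 5 n199536 = n198895 := d12_1 D199536 F409776 (iv5 F380861) F380862 F220845
theorem F412570 : act 0 n199536 = n129025 := d21_4 D113496 (iv1 F220846) F220845 D199536 (iv6 D129025) (iv5 F208887) (iv1 F211933) (iv5 F246740) (iv6 F348763) (iv1 F176606)
theorem F412571 : act 3 n129049 = n199536 := d6_3 F412569 (iv3 D198895) F365655
theorem F412572 : act 6 n199535 = n129049 := d7_0 F412571 (iv6 D199536) D199535
def n199537 : Q := act 6 n111393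
theorem D199537 : act 6 n111393 = n199537 := rfl
theorem F412573 : act 3 n199537 = n198110 := d7_1 D199537 (iv6 D198110) F172884
theorem F412574 : act 4 n199537 = n196325 := d10_1 D199537 (iv6 D196325) (iv4 F172883)
theorem F412575 : act 5 n199537 = n199132 := d12_1 D199537 F410812 F406897 (iv6 D111394) D111393
theorem F412576 : act 7 n199537 = n154757 := d14_2 (iv7 F219133) D199537 (iv6 D154757) (iv7 F231726) F350053
def n199538 : Q := act 7 n111394
theorem D199538 : act 7 n111394 = n199538 := rfl
theorem F412577 : act 2 n199538 = n196501 := d4_1 D199538 (iv7 F402100) (iv2 F402106)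
theorem F412578 : act 5 n199538 = n194599 := d13_1 D199538 F406902 F406897
theorem F412579 : act 6 n199538 = n166068 := d14_1 D199538 (iv7 F377787) (iv6 F377788) F203768 D111394
theorem F412580 : act 0 n140680 = n199538 := d17_2 F401543 F358702 F412578 (iv4 D194599) D194600 (iv0 F393788) (iv5 F410908) (iv0 F410910) (iv4 D196866)
def n199539 : Q := act 0 n111396
theorem D199539 : act 0 n111396 = n199539 := rfl
theorem F412581 : act 4 n199539 = n197706 := d20_0 (iv1 F405454) (iv4 F172814) F172813 (iv1 F172852) D199500 F412421 F202758 (iv4 D111397) D111396 D199539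
theorem F412582 : act 2 n197858 = n199539 := d15_3 (iv0 D199539) (iv0 F412444) F412440
theorem F412583 : act 1 n196506 = n199539 := d15_0 (iv0 D199539) (iv7 F402105) F402102
theorem F412584 : act 7 n199539 = n197856 := d15_2 (iv0 F412443) F412583 F412442
theorem F412585 : act 6 n199539 = n157164 := d3_2 (iv6 F410622) F412582 (iv2 F410625)
def n199540 : Q := act 5 n111396
theorem D199540 : act 5 n111396 = n199540 := rfl
theorem F412586 : act 3 n199540 = n111398 := d6_1 D199540 (iv5 D111398) D111396
theorem F412587 : act 6 n154744 = n199540 := d7_0 F412586 F350052 (iv3 F243416)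
def n199541 : Q := act 6 n111396
theorem D199541 : act 6 n111396 = n199541 := rfl
theorem F412588 : act 3 n199541 = n111399 := d7_1 D199541 (iv6 D111399) D111396
theorem F412589 : act 5 n199541 = n154745 := d12_1 D199541 (iv6 D154745) D154744 F412587 (iv5 D199540)
theorem F412590 : act 7 n199541 = n196503 := d14_2 F402105 D199541 (iv6 D196503) F204579 D196873
def n199542 : Q := act 6 n111400
theorem D199542 : act 6 n111400 = n199542 := rfl
theorem F412591 : act 2 n199542 = n111405 := d3_1 D199542 (iv6 D111405) (iv2 F172888)
theorem F412592 : act 4 n199542 = n124859 := d10_1 D199542 F350376 F220830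
theorem F412593 : act 5 n123769 = n199542 := d9_0 F412592 (iv5 D124859) (iv4 D58375) D58376 (iv4 F304666) D87792 (iv4 F338865) (iv5 F338866) (iv4 F333014) (iv5 D124843) (iv4 D58370) D58371 (iv4 F304664) D87787 (iv4 F338874)
theorem F412594 : act 1 n199542 = n192224 := d17_6 (iv1 D87795) (iv5 D40904) D40902 D87787 (iv4 F338874) F412593 (iv5 D192224) (iv0 F286005) (iv4 D184056)
def n199543 : Q := act 0 n111401
theorem D199543 : act 0 n111401 = n199543 := rfl
theorem F412595 : act 5 n199543 = n194671 := d17_1 D199543 F405658 (iv5 D197759) F168544 D125838 F399378 D196093 (iv0 F399377) F176453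
theorem F412596 : act 3 n199543 = n157167 := d20_5 F262464 F261279 (iv4 F301265) F351736 D199543 (iv4 F400827) (iv1 F404426) (iv4 F404429) F363802 (iv1 F344360)
theorem F412597 : act 4 n199543 = n190706 := d20_0 (iv1 F380695) F267334 F248776 F122842 D166736 F262464 F261279 (iv4 F301265) F351736 D199543
theorem F412598 : act 2 n111406 = n199543 := d1_3 F412597 (iv2 F380694) (iv4 F365872)
theorem F412599 : act 6 n197908 = n199543 := d10_0 F412597 F380696 (iv4 F406170)
theorem F412600 : act 7 n111407 = n199543 := d11_0 F412597 F380697 (iv4 F362854)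
theorem F412601 : act 0 n199543 = n111409 := d20_1 (iv4 F412597) (iv4 F176468) F176467 (iv1 F164130) (iv3 F327058) (iv4 D39864) (iv1 F33810) D45024 D96427 D190706
theorem F412602 : act 0 n184584 = n194671 := d21_10 (iv5 F412595) F412601 F405215 (iv6 D197651) F402501 (iv6 D188375) F292871 D103817 F294758 D184584
def n199544 : Q := act 1 n111401
theorem D199544 : act 1 n111401 = n199544 := rfl
theorem F412603 : act 1 n199544 = n111409 := d15_1 D199544 (iv7 D111409) (iv2 F172889)
theorem F412604 : act 7 n199544 = n111406 := d15_2 (iv0 D199543) D199544 F412598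
theorem F412605 : act 4 n129039 = n199544 := d20_0 (iv1 D199544) (iv4 F176453) F351737 (iv1 F358971) F358972 (iv4 D125366) (iv1 F92765) (iv4 F132098) (iv3 F267333) (iv1 F380698)
theorem F412606 : act 6 n129035 = n199544 := d21_3 F343587 (iv1 F167303) (iv5 F207281) (iv1 D199544) (iv6 D111401) D111400 (iv1 F411994) F411996 F348768 (iv1 F343585)
theorem F412607 : act 2 n199544 = n111407 := d3_1 F412606 F354464 (iv2 F207278)
theorem F412608 : act 5 n199544 = n194675 := d12_1 F412606 (iv6 F394050) (iv5 D153689) F314359 (iv5 F207281)
def n199545 : Q := act 5 n111401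
theorem D199545 : act 5 n111401 = n199545 := rfl
theorem F412609 : act 2 n199545 = n111408 := d2_1 D199545 (iv5 D111408) (iv2 F172889)
theorem F412610 : act 3 n199545 = n188311 := d6_1 D199545 F373054 F351736
theorem F412611 : act 6 n199545 = n123769 := d12_2 D111401 D199545 F412593 (iv6 D199542) (iv5 D111400)
theorem F412612 : act 4 n184041 = n199545 := d10_3 F412611 F338874 D184041
theorem F412613 : act 0 n199545 = n140735 := d21_4 D192224 (iv1 F412594) (iv5 F412593) (iv6 F412611) (iv6 D140735) (iv5 D66038) D66035 D140725 F358529 F286005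
theorem E103783 : n183458 = n138152 := ((c17_3 (iv1 F380787) (iv5 D138156) D138152 (iv5 F285991) F412612 (iv5 D199545) D199544 F412608 (iv0 F405657) F405655)).symm
theorem F412614 : act 5 n138152 = n184041 := (sb E103783 (iv5 F285991))
theorem F412615 : act 6 n138152 = n87567 := (sb E103783 (iv6 D183458))
theorem F412616 : act 0 n157862 = n198250 := d20_10 F407344 F407349 F412612 F412610 F373055 F195612 (iv4 F116161) F116162 (iv4 F112755) (iv3 F248777)
def n199546 : Q := act 7 n111401
theorem D199546 : act 7 n111401 = n199546 := rfl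
theorem F412617 : act 2 n199546 = n111409 := d4_1 D199546 (iv7 D111409) (iv2 F172889)
theorem F412618 : act 3 n199546 = n157872 := d8_1 D199546 (iv7 F301266) F351736
theorem F412619 : act 6 n199546 = n197903 := d14_1 D199546 F411985 (iv6 D199399) F172629 D111401
theorem F412620 : act 1 n111407 = n199546 := d15_1 D111407 (iv7 D199546) F172889
theorem F412621 : act 1 n199546 = n111406 := d15_1 F412620 (iv7 F412604) F412607
def n199547 : Q := act 6 n111402
theorem D199547 : act 6 n111402 = n199547 := rfl
theorem F412622 : act 2 n199547 = n156803 := d3_1 D199547 F412000 (iv2 F411998)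
theorem F412623 : act 3 n199547 = n197916 := d7_1 D199547 (iv6 D197916) (iv3 F354460)
theorem F412624 : act 4 n199547 = n196368 := d10_1 D199547 (iv6 D196368) (iv4 F354461)
theorem F412625 : act 5 n199547 = n153717 := d12_1 D199547 F316139 (iv5 F348793) (iv6 D111505) (iv5 F354462)
theorem F412626 : act 7 n153716 = n199547 := d13_0 F412625 (iv7 D153717) D153716
theorem F412627 : act 1 n145371 = n199547 := d17_6 (iv1 F393537) F393539 (iv1 F204799) (iv5 F330075) (iv4 F104313) D145371 F412625 (iv0 F393575) (iv4 D194523)
def n199548 : Q := act 3 n111403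
theorem D199548 : act 3 n111403 = n199548 := rfl
theorem F412628 : act 5 n199548 = n111507 := d6_2 (iv5 F220875) D199548 (iv3 D111507)
theorem F412629 : act 7 n199548 = n196457 := d8_2 F411995 D199548 (iv3 F411999)
def n199549 : Q := act 4 n111403
theorem D199549 : act 4 n111403 = n199549 := rfl
theorem F412630 : act 2 n199549 = n134743 := d1_1 D199549 (iv4 F411987) F411992
theorem F412631 : act 5 n199549 = n197703 := d9_2 (iv5 F220875) D199549 F405438 F203888 D138060 F221304 (iv4 D111503) (iv5 F354462) F354461 F164791 (iv4 F168835) F168836 D136223 F219255 (iv4 D111508)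
theorem F412632 : act 7 n199549 = n196367 := d11_2 F411995 D199549 (iv4 F411997)
theorem F412633 : act 0 n199549 = n196323 := d17_0 (iv5 D196323) (iv1 D106894) D106896 (iv4 F172883) (iv5 D111393) (iv0 D51374) D51377 D111403 D199549
theorem F412634 : act 1 n199549 = n196321 := d18_8 (iv1 F164755) (iv4 D64719) (iv1 F99601) D136119 F219088 (iv4 D111404) D111403 D199549 (iv5 D196321)
theorem F412635 : act 3 n196361 = n199549 := d20_5 (iv4 F372453) (iv1 D101183) (iv4 F155885) (iv3 F388730) (iv1 F400469) (iv4 D199549) (iv1 D111403) D111404 (iv3 F400175) (iv1 F400177)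
def n199550 : Q := act 6 n111403
theorem D199550 : act 6 n111403 = n199550 := rfl
theorem F412636 : act 2 n199550 = n154781 := d3_1 D199550 (iv6 F411993) F411992
theorem F412637 : act 5 n199550 = n197913 := d12_1 D199550 (iv6 D197913) F354403 (iv6 F348804) (iv5 F220875)
theorem F412638 : act 0 n199550 = n153179 := d21_4 (iv5 D199411) (iv1 F172723) (iv5 F220875) D199550 (iv6 D153179) (iv5 D72296) (iv1 F105574) D147925 F350053 (iv1 F412057)
theorem F412639 : act 1 n199550 = n154782 := d15_1 (iv0 F412638) (iv7 D154782) (iv2 F240478)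
def n199551 : Q := act 0 n111404
theorem D199551 : act 0 n111404 = n199551 := rfl
theorem F412640 : act 5 n199551 = n140494 := d17_3 F219090 F219088 D199551 (iv4 F223848) F360192 (iv0 F360189) (iv5 D143066) (iv0 F220509) F220508
theorem F412641 : act 3 n199551 = n140496 := d20_5 (iv4 D192758) (iv1 F350411) (iv4 F400174) F400175 D199551 (iv4 F404706) (iv1 F404709) (iv4 F404977) F404976 (iv1 F388741)
def n199552 : Q := act 1 n111404
theorem D199552 : act 1 n111404 = n199552 := rfl
def n199553 : Q := act 0 n111405
theorem D199553 : act 0 n111405 = n199553 := rfl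
theorem F412642 : act 5 n199553 = n192225 := d17_3 (iv1 F338876) (iv5 F350380) D199553 F386084 F153796 F73707 D88006 (iv0 F306662) D123694
theorem F412643 : act 4 n199553 = n197730 := d18_1 D199553 (iv1 F405552) F412329 F412331 (iv4 D184556) (iv0 F306664) (iv4 F198251) F366782 (iv5 F350380)
theorem F412644 : act 6 n199553 = n197729 := d21_5 (iv5 D111398) (iv1 D51375) D51377 D111405 D199553 F405547 (iv1 F202214) (iv5 F406854) F406856 (iv1 F219138)
theorem F412645 : act 3 n154781 = n199553 := d7_3 F412644 (iv3 F411989) F411993
theorem F412646 : act 7 n192224 = n199553 := d13_0 F412642 (iv7 D192225) D192224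
def n199554 : Q := act 3 n111406
theorem D199554 : act 3 n111406 = n199554 := rfl
theorem F412647 : act 6 n199554 = n197921 := d7_2 F365873 D199554 (iv3 D197921)
theorem F412648 : act 0 n157869 = n199554 := d20_4 F60682 (iv1 F56217) (iv4 F112759) D157869 (iv3 D199554) F365872 (iv1 D169908) F125353 (iv3 D75204) (iv1 F60680)
def n199555 : Q := act 5 n111406
theorem D199555 : act 5 n111406 = n199555 := rfl
theorem F412649 : act 2 n199555 = n194671 := d2_1 D199555 (iv5 F412595) (iv2 F412598)
theorem F412650 : act 7 n199555 = n194675 := d13_2 F412604 D199555 (iv5 F412608)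
theorem F412651 : act 4 n199555 = n192230 := d16_2 (iv4 F365872) D199555 F386126 F168740 D128964 (iv4 F364792) (iv5 F364793) (iv7 F380697) (iv2 F380694)
theorem F412652 : act 0 n184101 = n199555 := d20_10 F412651 F386128 (iv4 F332736) F268436 (iv1 F132124) (iv3 F326774) F326775 (iv1 F144530) D189207 F376088
def n199556 : Q := act 5 n111407
theorem D199556 : act 5 n111407 = n199556 := rfl
theorem F412653 : act 2 n199556 = n194675 := d2_1 D199556 (iv5 F412608) F412607
theorem F412654 : act 3 n199556 = n157166 := d6_1 D199556 (iv5 D157166) (iv3 F354463)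
theorem F412655 : act 6 n199556 = n157162 := d12_2 (iv6 F354464) D199556 (iv5 D157162) (iv6 D74722) D74721
theorem F412656 : act 7 n199556 = n194671 := d13_2 (iv7 F412600) D199556 (iv5 F412595)
theorem F412657 : act 4 n199556 = n192231 := d16_6 F168740 D128964 (iv4 F364792) (iv5 F364793) (iv4 F362854) D199556 (iv5 F395425) F395424 (iv2 F394033)
theorem F412658 : act 0 n199556 = n184101 := d18_0 F286050 D184102 F394025 (iv5 F395379) (iv4 F334363) (iv0 D113266) F82659 D111407 D199556
def n199557 : Q := act 0 n111408
theorem D199557 : act 0 n111408 = n199557 := rfl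
theorem F412659 : act 5 n199557 = n197757 := d17_3 (iv1 D111407) D111408 D199557 F405650 (iv5 F380133) F377708 (iv5 F380701) F380703 (iv4 F362854)
theorem F412660 : act 4 n199557 = n134914 := d20_8 F357728 (iv1 D111579) F81236 (iv3 F101827) (iv1 F338881) D191739 F384304 D199557 F217110 (iv1 F328923)
theorem F412661 : act 6 n199557 = n115844 := d21_5 D184568 F350382 F350380 F350381 D199557 (iv5 D115844) (iv1 F180222) (iv5 F407618) (iv6 F407621) F309406
theorem F412662 : act 2 n140735 = n199557 := d3_3 F412661 F180320 D140735
def n199558 : Q := act 1 n111408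
theorem D199558 : act 1 n111408 = n199558 := rfl
theorem F412663 : act 7 n199558 = n140735 := d15_2 (iv0 D199557) D199558 F412662
theorem F412664 : act 4 n199558 = n182777 := d17_9 F367094 (iv5 F287226) F336399 (iv5 F386126) (iv4 F412651) (iv5 D199555) (iv0 D111406) D111408 D199558
theorem F412665 : act 6 n198761 = n199558 := d10_0 F412664 F407360 (iv4 F409121)
theorem F412666 : act 5 n197758 = n199558 := d16_5 (iv4 F164300) D196113 F399467 (iv5 F380715) (iv4 F405652) F412664 (iv5 D182777) (iv7 F332725) F217108
def n199559 : Q := act 2 n111410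
theorem D199559 : act 2 n111410 = n199559 := rfl
theorem F412667 : act 5 n199559 = n111496 := d2_2 (iv5 F172893) D199559 (iv2 D111496)
theorem F412668 : act 6 n196477 = n199559 := d12_0 F412667 (iv6 F358707) (iv5 D107018) D107019 D196477
theorem F412669 : act 0 n199559 = n188825 := d21_10 F409600 (iv1 D198857) (iv5 F173046) F370336 (iv1 F143226) D92883 D188885 F400785 D196477 F412668
def n199560 : Q := act 6 n111410
theorem D199560 : act 6 n111410 = n199560 := rfl
theorem F412670 : act 2 n199560 = n196477 := d3_1 D199560 F412668 (iv2 D199559)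
theorem F412671 : act 3 n199560 = n111411 := d7_1 D199560 (iv6 D111411) D111410
theorem F412672 : act 5 n199560 = n178156 := d12_1 D199560 (iv6 F358685) F358684 (iv6 D111497) (iv5 F172893)
theorem F412673 : act 0 n199560 = n145353 := d21_7 F228319 (iv1 F78341) (iv5 D49598) (iv6 F78167) (iv1 F358682) F358685 (iv5 F412672) (iv5 D145353) (iv6 D68148) D68145
def n199561 : Q := act 5 n111411
theorem D199561 : act 5 n111411 = n199561 := rfl
theorem F412674 : act 3 n199561 = n178156 := d6_1 D199561 (iv5 F412672) F412671
theorem F412675 : act 6 n199561 = n111498 := d12_2 D111411 D199561 (iv5 D111498) (iv6 D51425) (iv5 F81105)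
theorem F412676 : act 4 n178164 = n199561 := d5_0 F412674 (iv4 D178156) F130008 D84805 D178164
def n199562 : Q := act 2 n111412
theorem D199562 : act 2 n111412 = n199562 := rfl
theorem F412677 : act 5 n199562 = n111500 := d2_2 (iv5 F172895) D199562 (iv2 D111500)
theorem F412678 : act 6 n199562 = n152047 := d3_2 F356117 D199562 F239068
theorem F412679 : act 4 n152048 = n199562 := d10_3 F412678 (iv4 D152047) D152048
theorem F412680 : act 0 n199397 = n152047 := d21_4 (iv5 F232083) (iv1 D111272) D111274 D199397 (iv6 F412678) F412677 (iv1 F409254) (iv5 F412519) F412522 F412040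
def n199563 : Q := act 4 n111412
theorem D199563 : act 4 n111412 = n199563 := rfl
theorem F412681 : act 2 n199563 = n152048 := d1_1 D199563 F412679 (iv2 D199562)
theorem F412682 : act 3 n199563 = n139291 := d5_1 D199563 (iv4 D139291) F101075 F81110 D111412
theorem F412683 : act 6 n199563 = n152044 := d10_2 F356117 D199563 F239062
theorem F412684 : act 0 n146900 = n199563 := d20_4 D117696 (iv1 F230265) F230263 (iv3 F230281) F412682 (iv4 D139291) D139289 F357472 F230329 F105066
def n199564 : Q := act 0 n111413
theorem D199564 : act 0 n111413 = n199564 := rfl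
theorem F412685 : act 4 n199564 = n111743 := d18_1 D199564 F357721 F332964 F172805 (iv4 F371952) (iv0 F371954) (iv4 F216777) (iv0 F364227) (iv5 F172897)
theorem F412686 : act 6 n199564 = n153178 := d21_5 (iv5 D25010) (iv1 F39237) (iv5 F81109) D111413 D199564 (iv5 D153178) D153175 (iv5 F370338) (iv6 D111522) (iv1 F81206)
theorem F412687 : act 3 n153179 = n199564 := d7_3 F412686 F240477 D153179
def n199565 : Q := act 7 n111413
theorem D199565 : act 7 n111413 = n199565 := rfl
theorem F412688 : act 4 n199565 = n139299 := d11_1 D199565 (iv7 D139299) (iv4 F172896)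
theorem F412689 : act 5 n199565 = n196364 := d13_1 D199565 (iv7 F400479) (iv5 F172897)
def n199566 : Q := act 6 n111419
theorem D199566 : act 6 n111419 = n199566 := rfl
theorem F412690 : act 2 n199566 = n196483 := d3_1 D199566 F400800 F365756
theorem F412691 : act 3 n199566 = n111420 := d7_1 D199566 (iv6 D111420) D111419
theorem F412692 : act 7 n199566 = n197943 := d14_2 F392187 D199566 (iv6 D197943) (iv7 F405492) F405491
def n199567 : Q := act 6 n111421
theorem D199567 : act 6 n111421 = n199567 := rfl
theorem F412693 : act 2 n199567 = n198189 := d3_1 D199567 (iv6 D198189) F172902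
theorem F412694 : act 4 n199567 = n120467 := d10_1 D199567 (iv6 F367969) F367965
theorem F412695 : act 5 n199567 = n198041 := d12_1 D199567 (iv6 D198041) (iv5 F405671) (iv6 D197762) (iv5 F172901)
theorem F412696 : act 7 n199567 = n198764 := d14_2 F172903 D199567 (iv6 D198764) F407170 (iv6 D198191)
def n199568 : Q := act 3 n111425
theorem D199568 : act 3 n111425 = n199568 := rfl
theorem F412697 : act 4 n199568 = n125630 := d5_2 (iv4 F172910) D199568 F202074 F93000 (iv3 F92945)
theorem F412698 : act 5 n199568 = n156582 := d6_2 (iv5 F336678) D199568 F246250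
theorem F412699 : act 6 n199568 = n156585 := d7_2 F336679 D199568 F246251
theorem F412700 : act 7 n199568 = n125577 := d8_2 (iv7 F172913) D199568 F201992
theorem F412701 : act 0 n180404 = n199568 := d20_4 F248847 (iv1 F258232) (iv4 F258230) D180404 (iv3 D199568) F172910 (iv1 F168004) D110454 F327419 D157952
def n199569 : Q := act 0 n111428
theorem D199569 : act 0 n111428 = n199569 := rfl
theorem F412702 : act 5 n199569 = n111767 := d17_1 D199569 F330479 (iv5 F330480) F79529 F38431 F39272 D51531 (iv0 F81291) (iv4 F172919)
theorem F412703 : act 4 n199569 = n139279 := d18_3 F81295 (iv4 F172919) D199569 (iv5 D139279) (iv4 F166448) (iv0 D51525) F39270 D25037 D51536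
theorem F412704 : act 6 n199569 = n111877 := d21_5 D50367 D109097 F169086 D111428 D199569 F343753 (iv1 F343759) (iv5 D111538) F81219 F168281
theorem F412705 : act 2 n196402 = n199569 := d15_3 (iv0 D199569) (iv0 F412386) F412385
theorem F412706 : act 1 n125518 = n199569 := d15_0 (iv0 D199569) F172920 (iv2 F337398)
theorem F412707 : act 7 n199569 = n140688 := d15_2 (iv0 F412387) F412706 (iv2 F412382)
def n199570 : Q := act 3 n111430
theorem D199570 : act 3 n111430 = n199570 := rfl
theorem F412708 : act 5 n199570 = n182434 := d6_2 F327636 D199570 (iv3 D182434)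
theorem F412709 : act 7 n199570 = n135050 := d8_2 F172927 D199570 (iv3 D135050)
theorem F412710 : act 0 n199570 = n190212 := d20_4 (iv4 F79252) D108420 (iv4 F172925) D199570 F379093 (iv4 D138035) (iv1 F356303) (iv4 F217290) (iv3 D135056) F168416
theorem F412711 : act 4 n199570 = n183410 := d20_6 D87585 F328522 F328124 F327943 D111430 D199570 (iv1 D183410) (iv4 D87554) F61866 D40769
theorem F412712 : act 3 n129818 = n183410 := d5_5 (iv4 F412711) (iv3 D199570) F172925 (iv3 F171898) D129818
theorem F412713 : act 7 n183410 = n129861 := d8_2 (iv7 F208171) F412712 (iv3 D129861)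
theorem F412714 : act 2 n129861 = n183409 := d15_3 (iv0 D183409) D183410 F412713
theorem F412715 : act 0 n190376 = n199570 := d18_0 F412711 (iv1 D183410) (iv4 D87554) (iv5 D40753) (iv4 F61810) D87467 (iv4 F268360) (iv0 F268362) D190376
def n199571 : Q := act 5 n111435
theorem D199571 : act 5 n111435 = n199571 := rfl
theorem F412716 : act 2 n199571 = n134909 := d2_1 D199571 F332732 (iv2 F355028)
theorem F412717 : act 3 n199571 = n186784 := d6_1 D199571 F367990 (iv3 F207098)
theorem F412718 : act 7 n199571 = n134908 := d13_2 (iv7 F355029) D199571 F332713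
theorem F412719 : act 0 n199571 = n134906 := d17_2 D111435 D199571 (iv5 D134906) (iv4 F164294) F399389 (iv0 F399390) (iv5 D132038) (iv0 D61959) (iv4 F81135)
theorem F412720 : act 0 n134765 = n199571 := d19_0 (iv5 D199571) F213557 F399951 (iv1 D196219) (iv5 F382207) F382206 F382163 F382166 (iv5 F393227) F393226 F245307 (iv1 F364775) F220230 F111080 (iv3 D65034) (iv1 F48967) D50068 (iv4 F98588) (iv3 F216833)
def n199572 : Q := act 3 n111436
theorem D199572 : act 3 n111436 = n199572 := rfl
theorem F412721 : act 7 n199572 = n134990 := d8_2 (iv7 F355033) D199572 (iv3 D134990)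
def n199573 : Q := act 5 n111436
theorem D199573 : act 5 n111436 = n199573 := rfl
theorem F412722 : act 2 n199573 = n134908 := d2_1 D199573 F332713 (iv2 F355032)
theorem F412723 : act 7 n199573 = n134909 := d13_2 (iv7 F355033) D199573 F332732
theorem F412724 : act 0 n199573 = n134765 := d17_2 (iv1 F172946) D199573 (iv5 D134765) F98585 (iv5 F96581) (iv0 F359036) (iv5 D132043) F164216 F164212
theorem F412725 : act 6 n199573 = n187514 := d21_3 (iv5 D134994) (iv1 F172946) D199573 (iv1 D187514) (iv6 F370589) (iv5 F391194) (iv1 F391197) (iv5 F398385) (iv6 F398387) F332733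
theorem F412726 : act 0 n134906 = n199573 := d21_10 (iv5 D199573) (iv1 D111436) (iv5 F328749) (iv6 D91183) (iv1 D42693) D42695 (iv5 F295007) D91281 D188382 (iv6 F373221)
theorem F412727 : act 1 n187512 = n188934 := d17_8 F412726 (iv5 D199573) (iv1 D111436) (iv5 F328749) (iv4 F373003) F377312 (iv0 F377313) F376145 (iv4 F376564)
def n199574 : Q := act 6 n111436
theorem D199574 : act 6 n111436 = n199574 := rfl
theorem F412728 : act 2 n199574 = n134988 := d3_1 D199574 (iv6 D134988) (iv2 F355032)
theorem F412729 : act 7 n199574 = n197973 := d14_2 (iv7 F355033) D199574 (iv6 D197973) F354989 (iv6 F354998)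
theorem F412730 : act 5 n199574 = n185232 := d21_6 F109592 (iv1 F304955) (iv5 F156039) (iv6 F328659) (iv1 F172946) D199574 (iv1 F358618) F310362 (iv6 F306922) F240102
theorem F412731 : act 0 n199574 = n135211 := d21_10 (iv5 F358579) (iv1 F358588) (iv5 F358590) (iv6 F295050) (iv1 F332744) (iv6 D134907) D134906 F412726 (iv5 D199573) D199574
theorem F412732 : act 0 n154409 = n199574 := d21_4 (iv5 F388171) F388172 F358597 (iv6 F358596) (iv6 D199574) D199573 F412724 (iv5 D134765) D134766 F355869
theorem F412733 : act 1 n134988 = n134453 := d15_0 (iv0 F406343) (iv7 F412729) F412728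
theorem F412734 : act 0 n132086 = n138064 := d20_1 (iv4 F359030) F221307 F100701 (iv1 F347005) F98419 F48010 D29859 D63152 D134453 (iv1 F412733)
def n199575 : Q := act 4 n111440
theorem D199575 : act 4 n111440 = n199575 := rfl
theorem F412735 : act 3 n199575 = n180414 := d5_1 D199575 (iv4 F409484) (iv3 D198835) F350840 F351727
def n199576 : Q := act 4 n111443
theorem D199576 : act 4 n111443 = n199576 := rfl
theorem F412736 : act 0 n199576 = n130657 := d18_2 F353833 D199576 (iv4 F402972) F402973 (iv4 D111560) (iv0 D51455) (iv4 F81229) D111548 (iv5 F342074)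
def n199577 : Q := act 0 n111444
theorem D199577 : act 0 n111444 = n199577 := rfl
theorem F412737 : act 4 n199577 = n178149 := d20_2 (iv4 F172955) D199577 (iv3 D178149) (iv1 D84799) (iv3 D39187) (iv4 D18588) D18586 D39177 D84777 (iv1 F361601)
theorem F412738 : act 3 n199577 = n119239 := d20_5 F81158 (iv1 D51405) (iv4 F81150) (iv3 F172954) D199577 F327102 (iv1 F350676) (iv4 F122194) (iv3 F326949) F170759
theorem F412739 : act 5 n199577 = n119238 := d21_0 F315279 D158142 F249095 F308158 F342072 (iv5 F342074) F353833 (iv5 D111443) D111444 D199577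
theorem F412740 : act 2 n158345 = n199577 := d15_3 (iv0 D199577) F348174 (iv7 F249484)
theorem F412741 : act 1 n172562 = n199577 := d15_0 (iv0 D199577) (iv7 F409619) F409616
theorem F412742 : act 7 n199577 = n166473 := d15_2 D172562 F412741 F328129
def n199578 : Q := act 0 n111446
theorem D199578 : act 0 n111446 = n199578 := rfl
theorem F412743 : act 5 n199578 = n126342 := d17_1 D199578 F363259 F363258 (iv4 D170452) (iv5 F344141) F344140 (iv5 F201396) F344135 (iv4 F351639)
theorem F412744 : act 4 n199578 = n118539 := d18_1 D199578 (iv1 F317235) (iv4 F319524) F326963 F80486 F80316 (iv4 F170755) (iv0 F170756) D111446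
theorem F412745 : act 6 n199578 = n155190 := d21_5 D54599 (iv1 F344955) F344956 (iv6 F351640) D199578 (iv5 D155190) (iv1 F303611) (iv5 F311883) (iv6 D118562) (iv1 D54597)
theorem F412746 : act 2 n131185 = n199578 := d15_3 (iv0 D199578) F351637 F317239
theorem F412747 : act 1 n132990 = n199578 := d15_0 (iv0 D199578) (iv7 F409628) F409624
theorem F412748 : act 7 n199578 = n148275 := d15_2 (iv0 F319527) F412747 F232094
theorem F412749 : act 3 n173831 = n199578 := d8_3 F412748 (iv3 F333766) F344934
def n199579 : Q := act 3 n111447
theorem D199579 : act 3 n111447 = n199579 := rfl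
theorem F412750 : act 7 n199579 = n139314 := d8_2 (iv7 F406007) D199579 (iv3 D139314)
theorem F412751 : act 4 n199579 = n115488 := d20_6 (iv4 D14540) (iv1 F19309) D24990 D51407 D111447 D199579 (iv1 F330595) F176277 (iv3 D65408) (iv1 D30671)
theorem F412752 : act 2 n141725 = n199579 := d1_3 F412751 F179784 D141725
def n199580 : Q := act 6 n111447
theorem D199580 : act 6 n111447 = n199580 := rfl
theorem F412753 : act 2 n199580 = n139322 := d3_1 D199580 (iv6 D139322) (iv2 F406006)
theorem F412754 : act 4 n199580 = n198039 := d10_1 D199580 F406574 F388312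
theorem F412755 : act 0 n199580 = n199343 := d21_4 D66200 D141135 F350418 D199580 (iv6 D199343) D199342 F411782 F374450 F350416 (iv1 D66198)
theorem F412756 : act 0 n139430 = n199580 := d21_4 F384771 F386791 (iv5 D192486) (iv6 F384862) (iv6 D199580) (iv5 F350418) (iv1 F387575) (iv5 F387573) D199038 F410429
def n199581 : Q := act 3 n111448
theorem D199581 : act 3 n111448 = n199581 := rfl
theorem F412757 : act 7 n199581 = n139319 := d8_2 (iv7 F406003) D199581 (iv3 D139319)
theorem F412758 : act 0 n139460 = n199581 := d20_4 F180621 F222655 (iv4 D139461) D139460 (iv3 D199581) (iv4 F388308) (iv1 F388309) (iv4 F375609) (iv3 F402164) F402168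
def n199582 : Q := act 6 n111448
theorem D199582 : act 6 n111448 = n199582 := rfl
theorem F412759 : act 2 n199582 = n139317 := d3_1 D199582 (iv6 D139317) (iv2 F406002)
theorem F412760 : act 5 n199582 = n192824 := d21_6 (iv5 D22411) (iv1 F292031) D43527 (iv6 F329201) (iv1 F172961) D199582 (iv1 F387911) F369081 (iv6 D100155) (iv1 D46746)
theorem F412761 : act 7 n192823 = n199582 := d13_0 F412760 (iv7 D192824) D192823
def n199583 : Q := act 1 n111455
theorem D199583 : act 1 n111455 = n199583 := rfl
theorem F412762 : act 3 n197856 = n199583 := d20_3 F81070 D108718 D197856 (iv1 D199583) (iv3 D111455) D111456 (iv1 F348614) (iv4 F412362) (iv3 D199489) (iv1 D111361)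
theorem F412763 : act 2 n199583 = n188901 := d0_1 F412762 (iv3 F409601) F409678 D199505 (iv2 F412442)
theorem F412764 : act 4 n199583 = n189927 := d5_2 D197856 F412762 F378276 (iv4 F406038) (iv3 D197855)
theorem F412765 : act 6 n189926 = n199583 := d10_0 F412764 (iv6 D189927) D189926
theorem F412766 : act 5 n199583 = n188646 := d12_1 F412765 (iv6 D188646) F354458 D192497 (iv5 F386830)
theorem F412767 : act 0 n198369 = n189927 := d18_2 (iv1 F410294) (iv4 F407786) (iv4 F412764) F412766 F374302 D188648 F412194 F412195 (iv5 F410291)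
def n199584 : Q := act 5 n111455
theorem D199584 : act 5 n111455 = n199584 := rfl
theorem F412768 : act 3 n199584 = n111457 := d6_1 D199584 (iv5 D111457) D111455
def n199585 : Q := act 6 n111455
theorem D199585 : act 6 n111455 = n199585 := rfl
theorem F412769 : act 3 n199585 = n111458 := d7_1 D199585 (iv6 D111458) D111455
theorem F412770 : act 7 n198021 = n199585 := d8_0 F412769 F352217 D198021
def n199586 : Q := act 4 n111457
theorem D199586 : act 4 n111457 = n199586 := rfl
theorem F412771 : act 2 n199586 = n191876 := d1_1 D199586 (iv4 F412042) F232082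
theorem F412772 : act 0 n199586 = n191871 := d18_2 (iv1 F230758) D199586 F412308 (iv5 D199465) F349854 D125456 (iv4 F347816) (iv0 D111296) D111299
theorem F412773 : act 1 n199586 = n191877 := d15_1 (iv0 F412772) (iv7 D191877) (iv2 F384626)
def n199587 : Q := act 6 n111457
theorem D199587 : act 6 n111457 = n199587 := rfl
theorem F412774 : act 2 n199587 = n154764 := d3_1 D199587 (iv6 F359306) F232082
theorem F412775 : act 5 n199587 = n147928 := d12_1 D199587 (iv6 F359346) F352220 (iv6 D111458) D111457
theorem F412776 : act 7 n154769 = n199587 := d13_0 F412775 F359339 D154769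
def n199588 : Q := act 4 n111462
theorem D199588 : act 4 n111462 = n199588 := rfl
theorem F412777 : act 7 n199588 = n191876 := d11_2 F232081 D199588 (iv4 F412042)
theorem F412778 : act 0 n191871 = n199588 := d20_7 (iv4 F171791) F384900 F384897 (iv3 F412286) (iv1 F412291) (iv3 F412307) (iv4 F412308) (iv4 D199588) (iv3 F341346) (iv1 D111526)
theorem F412779 : act 1 n191877 = n199588 := d15_1 F412773 F412777 (iv2 F412771)
theorem F412780 : act 2 n199588 = n191875 := d15_3 (iv0 D191875) D191876 (iv7 F412777)
theorem F412781 : act 4 n191875 = n111570 := d1_2 D199588 F412780 (iv2 F232078)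
theorem F412782 : act 7 n191875 = n199586 := d4_2 (iv7 F412777) F412780 F412771
def n199589 : Q := act 6 n111462
theorem D199589 : act 6 n111462 = n199589 := rfl
theorem F412783 : act 3 n199589 = n123887 := d7_1 D199589 F363296 F341346
def n199590 : Q := act 1 n111463
theorem D199590 : act 1 n111463 = n199590 := rfl
theorem F412784 : act 1 n199590 = n198023 := d15_1 D199590 F406543 F353078
theorem F412785 : act 2 n140683 = n199590 := d15_3 F412784 (iv0 F412395) F412394
theorem F412786 : act 6 n199590 = n198011 := d3_2 (iv6 F351061) F412785 (iv2 F406504)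
def n199591 : Q := act 5 n111463
theorem D199591 : act 5 n111463 = n199591 := rfl
theorem F412787 : act 2 n199591 = n193203 := d2_1 D199591 F389169 F353078
theorem F412788 : act 4 n199591 = n193202 := d16_6 (iv4 F187383) (iv5 F353095) (iv4 F330271) (iv5 F353081) (iv4 F353077) D199591 F389165 (iv7 D160273) F115318
def n199592 : Q := act 4 n111464
theorem D199592 : act 4 n111464 = n199592 := rfl
theorem F412789 : act 2 n199592 = n111468 := d1_1 D199592 (iv4 D111468) (iv2 F172978)
def n199593 : Q := act 5 n111465
theorem D199593 : act 5 n111465 = n199593 := rfl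
theorem F412790 : act 2 n199593 = n111472 := d2_1 D199593 (iv5 D111472) (iv2 F172979)
theorem F412791 : act 6 n199593 = n192434 := d12_2 D111465 D199593 (iv5 F405262) F387021 (iv5 D111464)
theorem F412792 : act 7 n199593 = n197562 := d13_2 (iv7 F361595) D199593 F404847
theorem F412793 : act 0 n199593 = n197564 := d17_2 F363992 D199593 (iv5 F404853) F198628 (iv5 F184558) F348591 F348593 (iv0 F406493) F406490
theorem F412794 : act 0 n197563 = n199593 := d21_7 F232083 (iv1 D111571) (iv5 D51458) D51459 (iv1 F327521) (iv6 F198708) (iv5 F404849) (iv5 D199593) (iv6 D111465) (iv1 F172598)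
def n199594 : Q := act 3 n111466
theorem D199594 : act 3 n111466 = n199594 := rfl
theorem F412795 : act 2 n199594 = n188899 := d0_1 D199594 (iv3 F412281) (iv2 F360050) F411969 (iv2 F411970)
theorem F412796 : act 5 n199594 = n111559 := d6_2 (iv5 F365188) D199594 (iv3 D111559)
theorem F412797 : act 0 n199594 = n188902 := d21_7 D157891 F376970 F372140 (iv6 F387535) F387537 F359286 (iv5 F412796) F412457 F412455 (iv1 D157889)
theorem F412798 : act 7 n188900 = n199594 := d15_2 (iv0 D188899) D188900 F412795
theorem F412799 : act 3 n199394 = n188900 := d8_3 F412798 (iv3 D199594) F411965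
theorem F412800 : act 5 n199406 = n188900 := d13_3 F412798 F412796 (iv7 F412026)
theorem F412801 : act 4 n188900 = n192543 := d20_6 (iv4 F80673) (iv1 F80675) (iv4 F80971) (iv3 F172600) D199394 F412799 (iv1 D192543) F354415 (iv3 D111354) (iv1 D51356)
def n199595 : Q := act 4 n111466
theorem D199595 : act 4 n111466 = n199595 := rfl
def n199596 : Q := act 6 n111466
theorem D199596 : act 6 n111466 = n199596 := rfl
theorem F412802 : act 5 n199596 = n198017 := d12_1 D199596 (iv6 D198017) F362480 (iv6 F359287) (iv5 F365188)
theorem F412803 : act 0 n199596 = n154775 := d21_4 (iv5 D51458) D51455 (iv5 F365188) D199596 (iv6 D154775) (iv5 D73393) D73390 D154764 (iv6 F359306) (iv1 D111571)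
def n199597 : Q := act 4 n111467
theorem D199597 : act 4 n111467 = n199597 := rfl
def n199598 : Q := act 6 n111467
theorem D199598 : act 6 n111467 = n199598 := rfl
def n199599 : Q := act 0 n111468
theorem D199599 : act 0 n111468 = n199599 := rfl
def n199600 : Q := act 1 n111468
theorem D199600 : act 1 n111468 = n199600 := rfl
theorem F412804 : act 3 n198297 = n199600 := d20_3 (iv4 D109157) D109155 D198297 (iv1 D199600) F172980 (iv4 D65472) D65470 (iv4 F350364) F217366 (iv1 F350360)
theorem F412805 : act 5 n199600 = n199026 := d6_2 (iv5 F407520) F412804 F410379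
theorem F412806 : act 6 n199600 = n199029 := d7_2 (iv6 F407521) F412804 F410382
theorem F412807 : act 7 n199600 = n198305 := d8_2 (iv7 F407522) F412804 (iv3 D198305)
theorem F412808 : act 2 n198305 = n199599 := d15_3 (iv0 D199599) D199600 F412807
theorem F412809 : act 3 n199599 = n188382 := d0_2 D198305 F412808 F373217 F217109 (iv2 F341396)
theorem F412810 : act 5 n188381 = n199599 := d6_0 F412809 (iv5 D188382) D188381
def n199601 : Q := act 5 n111468
theorem D199601 : act 5 n111468 = n199601 := rfl
theorem F412811 : act 3 n199601 = n139520 := d6_1 D199601 (iv5 D139520) (iv3 F172980)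
def n199602 : Q := act 6 n111468
theorem D199602 : act 6 n111468 = n199602 := rfl
theorem F412812 : act 3 n199602 = n139521 := d7_1 D199602 (iv6 D139521) (iv3 F172980)
theorem F412813 : act 4 n199602 = n111469 := d10_1 D199602 (iv6 D111469) D111468
theorem F412814 : act 7 n192572 = n199602 := d11_0 F412813 (iv7 F387019) (iv4 F387124)
theorem F412815 : act 0 n199602 = n189582 := d20_4 (iv4 D100449) F329567 (iv4 F222696) (iv3 F412812) F377039 (iv4 F371548) (iv1 F371551) (iv4 F370588) (iv3 F384364) (iv1 F384367)
def n199603 : Q := act 1 n111469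
theorem D199603 : act 1 n111469 = n199603 := rfl
def n199604 : Q := act 5 n111470
theorem D199604 : act 5 n111470 = n199604 := rfl
theorem F412816 : act 7 n199604 = n197847 := d13_2 F363995 D199604 F406014
def n199605 : Q := act 0 n111472
theorem D199605 : act 0 n111472 = n199605 := rfl
theorem F412817 : act 3 n199605 = n192368 := d20_5 F167337 F171777 F336729 (iv3 F172982) D199605 F386589 F342226 F172371 F167677 F111577
theorem F412818 : act 2 n197564 = n199605 := d15_3 (iv0 D199605) (iv0 F360090) (iv7 F404851)
theorem F412819 : act 1 n197562 = n199605 := d15_0 (iv0 D199605) F343148 (iv2 F404846)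
theorem F412820 : act 7 n199605 = n197563 := d15_2 F404848 F412819 (iv2 F404850)
theorem F412821 : act 6 n192366 = n199605 := d7_0 F412817 (iv6 D192368) D192366
def n199606 : Q := act 4 n111472
theorem D199606 : act 4 n111472 = n199606 := rfl
theorem F412822 : act 3 n199606 = n197232 := d5_1 D199606 F403661 F166963 F336729 (iv3 F172982)
theorem F412823 : act 6 n199606 = n197351 := d10_2 F405259 D199606 (iv4 F405257)
theorem F412824 : act 7 n199606 = n197228 := d11_2 (iv7 F343148) D199606 F403650
def n199607 : Q := act 3 n111474
theorem D199607 : act 3 n111474 = n199607 := rfl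
theorem F412825 : act 2 n199607 = n154773 := d0_1 D199607 (iv3 F243424) F375009 F375008 (iv2 F343797)
theorem F412826 : act 5 n199607 = n139611 := d6_2 (iv5 F343798) D199607 (iv3 D139611)
theorem F412827 : act 7 n199607 = n154772 := d8_2 (iv7 F343799) D199607 F345052
theorem F412828 : act 0 n199607 = n154771 := d19_4 (iv1 F357136) F329817 F345057 D199607 (iv5 D154771) F110085 (iv3 F87427) (iv1 F110854) (iv5 F357016) (iv4 F357084) (iv3 D93105) F293158 F292040 (iv4 D43522) (iv3 F68396) D93013 (iv5 F369198) (iv4 F393393) F393392
theorem F412829 : act 0 n147930 = n199607 := d20_4 (iv4 D72751) D72749 (iv4 F109230) (iv3 F231738) (iv3 D199607) (iv4 F345057) (iv1 D99877) F329854 (iv3 F319261) F185893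
theorem F412830 : act 1 n192540 = n154771 := d15_0 (iv0 F412828) F412827 (iv2 F387007)
def n199608 : Q := act 6 n111474
theorem D199608 : act 6 n111474 = n199608 := rfl
theorem F412831 : act 4 n199608 = n192220 := d10_1 D199608 (iv6 D192220) F345057
theorem F412832 : act 5 n199608 = n197938 := d12_1 D199608 F406240 F400356 F167663 (iv5 F343798)
theorem F412833 : act 1 n134354 = n199608 := d18_6 (iv1 F168739) F171568 (iv1 D106595) F77828 D63117 D134354 F412831 F386061 F216317
def n199609 : Q := act 1 n111492
theorem D199609 : act 1 n111492 = n199609 := rfl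
theorem F412834 : act 1 n199609 = n177794 := d15_1 D199609 F277293 (iv2 F345335)
theorem F412835 : act 7 n199609 = n178123 := d15_2 (iv0 F412354) D199609 (iv2 F412351)
theorem F412836 : act 6 n180390 = n199609 := d21_3 (iv5 F341314) F341313 F363803 (iv1 D199609) F173025 (iv5 F169064) F339986 (iv5 F356733) (iv6 F363332) (iv1 D180481)
theorem F412837 : act 2 n199609 = n178124 := d3_1 F412836 F402161 (iv2 F363805)
def n199610 : Q := act 5 n111494
theorem D199610 : act 5 n111494 = n199610 := rfl
theorem F412838 : act 2 n199610 = n199513 := d2_1 D199610 F412476 (iv2 F360749)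
theorem F412839 : act 3 n199610 = n197802 := d6_1 D199610 (iv5 D197802) (iv3 F173027)
theorem F412840 : act 7 n199610 = n199512 := d13_2 F360748 D199610 F412472
theorem F412841 : act 4 n199610 = n188846 := d16_4 (iv4 F100481) D137306 F330496 D199610 (iv5 F390377) (iv4 D193589) (iv5 D101992) (iv7 F329377) F100509
theorem F412842 : act 0 n199610 = n199510 := d17_2 D111494 D199610 (iv5 D199510) (iv4 F175479) (iv5 F349930) F360710 (iv5 F360707) (iv0 D112703) F82192
theorem F412843 : act 0 n111521 = n199610 := d19_0 (iv5 D199610) (iv4 F330496) F220457 (iv1 F323990) F323991 (iv4 D60851) F46498 D28879 (iv5 F47219) (iv4 F97051) (iv3 F212944) F336302 (iv5 D126625) F93750 (iv3 D51101) F38992 D50283 (iv4 F81204) D111521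
def n199611 : Q := act 6 n111494
theorem D199611 : act 6 n111494 = n199611 := rfl
theorem F412844 : act 3 n199611 = n197803 := d7_1 D199611 (iv6 D197803) (iv3 F173027)
theorem F412845 : act 0 n111588 = n199611 := d21_4 F400798 D196823 (iv5 F401908) (iv6 F173127) (iv6 D199611) D199610 F412842 (iv5 D199510) D199511 (iv1 F412470)
def n199612 : Q := act 3 n111495
theorem D199612 : act 3 n111495 = n199612 := rfl
theorem F412846 : act 2 n199612 = n197795 := d0_1 D199612 (iv3 D197795) (iv2 F400740) F400741 F360750
theorem F412847 : act 0 n111559 = n199612 := d20_4 F253653 F336503 (iv4 D111560) D111559 (iv3 D199612) (iv4 F390373) F390374 (iv4 F409261) (iv3 F410750) (iv1 F410752)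
theorem F412848 : act 1 n112451 = n199612 := d15_0 (iv0 F412847) (iv7 F412026) F412024
def n199613 : Q := act 5 n111495
theorem D199613 : act 5 n111495 = n199613 := rfl
theorem F412849 : act 2 n199613 = n199512 := d2_1 D199613 F412472 F360750
theorem F412850 : act 4 n199613 = n188847 := d9_1 D199613 (iv5 F377186) (iv4 D137388) (iv5 D64578) (iv4 F100481) D137306 F330496 D199610 F412841 (iv5 F390377) (iv4 D193589) (iv5 D101992) (iv4 F156952) D193588 F390373
theorem F412851 : act 7 n199613 = n199513 := d13_2 (iv7 F360751) D199613 F412476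
theorem F412852 : act 0 n199613 = n111521 := d17_2 (iv1 F215898) D199613 F173046 F170745 D110387 (iv0 F345509) F345512 F175407 (iv4 F215894)
theorem F412853 : act 1 n199613 = n199510 := d15_1 (iv0 F412852) F412465 F375340
def n199614 : Q := act 6 n111495
theorem D199614 : act 6 n111495 = n199614 := rfl
theorem F412854 : act 2 n199614 = n160763 := d3_1 D199614 (iv6 F360745) F360750
theorem F412855 : act 4 n199614 = n158801 := d10_1 D199614 (iv6 F390372) F390373
theorem F412856 : act 7 n158800 = n199614 := d11_0 F412855 (iv7 D158801) D158800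
theorem F412857 : act 0 n173247 = n199614 := d18_2 (iv1 F300915) D173247 F412855 F250005 F113619 F113058 (iv4 F298151) (iv0 D77145) D77148
theorem F412858 : act 1 n111529 = n199614 := d18_6 (iv1 D38135) F29407 F117667 D27682 D58055 (iv4 F327953) F412855 F250007 (iv5 D82899)
def n199615 : Q := act 1 n111497
theorem D199615 : act 1 n111497 = n199615 := rfl
theorem F412859 : act 1 n199615 = n174859 := d15_1 D199615 (iv7 F358708) (iv2 F358705)
theorem F412860 : act 7 n199615 = n196475 := d15_2 F358642 D199615 (iv2 F400786)
theorem F412861 : act 4 n199615 = n174037 := d17_9 (iv1 F272787) (iv5 D83211) (iv1 D38300) D38301 D83215 (iv5 F332994) (iv0 F358681) F358684 D199615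
theorem F412862 : act 2 n196453 = n199615 := d1_3 F412861 (iv2 F387303) (iv4 F400728)
theorem F412863 : act 5 n197454 = n199615 := d9_0 F412861 F272769 (iv4 F272770) (iv5 F155785) F357946 (iv5 D138448) (iv4 F112136) (iv5 F227056) (iv4 F342032) (iv5 F311737) F311736 F274810 D193051 F388594 (iv4 F404409)
def n199616 : Q := act 4 n111498
theorem D199616 : act 4 n111498 = n199616 := rfl
theorem F412864 : act 3 n199616 = n156018 := d5_1 D199616 F345266 (iv3 F277709) (iv4 F358683) (iv3 F358695)
theorem F412865 : act 6 n199616 = n178164 := d10_2 F412675 D199616 F412676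
theorem F412866 : act 7 n199616 = n196479 := d11_2 F358694 D199616 (iv4 D196479)
theorem F412867 : act 5 n199616 = n156016 := d16_1 D199616 F358700 (iv5 D140391) F101577 F49282 (iv4 F101577) D140391 (iv7 F412021) F412019
def n199617 : Q := act 5 n111499
theorem D199617 : act 5 n111499 = n199617 := rfl
theorem F412868 : act 2 n199617 = n112496 := d2_1 D199617 (iv5 D112496) (iv2 F382028)
theorem F412869 : act 7 n199617 = n199524 := d13_2 F409253 D199617 F412519
theorem F412870 : act 0 n199617 = n111523 := d17_2 (iv1 F409248) D199617 F173050 F168861 (iv5 F169904) F377993 F377991 F174294 (iv4 F409246)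
theorem F412871 : act 1 n199617 = n199522 := d17_6 (iv1 D191063) (iv5 D97192) D97190 D191056 F382027 D199617 (iv5 D199522) F406457 F406456
def n199618 : Q := act 4 n111511
theorem D199618 : act 4 n111511 = n199618 := rfl
theorem F412872 : act 2 n199618 = n111515 := d1_1 D199618 (iv4 D111515) (iv2 F173041)
theorem F412873 : act 0 n199618 = n196793 := d17_0 (iv5 D196793) F219090 F219088 (iv4 D111404) (iv5 D51377) D51375 D111398 F219138 D199618
theorem F412874 : act 1 n199618 = n193254 := d18_8 F345471 (iv4 D136116) (iv1 F99597) D64719 D137677 F220841 F219138 D199618 (iv5 D193254)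
def n199619 : Q := act 0 n111512
theorem D199619 : act 0 n111512 = n199619 := rfl
theorem F412875 : act 6 n199619 = n197758 := d21_5 D111393 (iv1 F219101) (iv5 D111511) D111512 D199619 F412666 (iv1 D199558) (iv5 D111408) (iv6 D51378) D51374
def n199620 : Q := act 1 n111512
theorem D199620 : act 1 n111512 = n199620 := rfl
theorem F412876 : act 1 n199620 = n111520 := d15_1 D199620 (iv7 D111520) (iv2 F173042)
def n199621 : Q := act 5 n111512
theorem D199621 : act 5 n111512 = n199621 := rfl
theorem F412877 : act 2 n199621 = n111519 := d2_1 D199621 (iv5 D111519) (iv2 F173042)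
theorem F412878 : act 6 n199621 = n112457 := d12_2 D111512 D199621 (iv5 F406854) F406856 (iv5 D111511)
def n199622 : Q := act 7 n111512
theorem D199622 : act 7 n111512 = n199622 := rfl
theorem F412879 : act 2 n199622 = n111520 := d4_1 D199622 (iv7 D111520) (iv2 F173042)
theorem F412880 : act 3 n199622 = n160456 := d8_1 D199622 F353979 (iv3 F353978)
theorem F412881 : act 6 n199622 = n160454 := d14_1 D199622 (iv7 F257962) F365643 F172720 D111512
theorem F412882 : act 1 n111520 = n199619 := d15_0 (iv0 D199619) D199622 F412879
theorem F412883 : act 1 n111518 = n199622 := d15_1 D111518 (iv7 D199622) F173042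
theorem F412884 : act 3 n196864 = n199619 := d20_3 (iv4 F402069) (iv1 D196863) D196864 (iv1 F412882) F173045 F81215 (iv1 F81015) D111306 (iv3 F402147) F402150
theorem F412885 : act 7 n199619 = n111518 := d8_2 (iv7 F402080) F412884 (iv3 F412297)
theorem F412886 : act 2 n111518 = n199620 := d15_3 F412876 F412882 F412885
theorem F412887 : act 2 n199619 = n111517 := d15_3 (iv0 D111517) D111518 (iv7 F412885)
theorem F412888 : act 7 n111517 = n199620 := d4_2 (iv7 F412885) F412887 (iv2 F412886)
theorem F412889 : act 1 n199622 = n111517 := d15_1 F412883 F412888 (iv2 F412886)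
def n199623 : Q := act 3 n111514
theorem D199623 : act 3 n111514 = n199623 := rfl
theorem F412890 : act 5 n199623 = n196873 := d6_2 F219128 D199623 (iv3 F402103)
theorem F412891 : act 7 n199623 = n199540 := d8_2 (iv7 F219130) D199623 F412586
theorem F412892 : act 6 n196542 = n199623 := d14_5 F412891 (iv6 F412587) F375127 F401029 (iv7 F401019)
theorem F412893 : act 0 n199623 = n197796 := d21_10 (iv5 D197796) (iv1 F348799) D199105 F410690 F171986 (iv6 F165034) (iv5 D107062) D107060 D196542 F412892
theorem F412894 : act 0 n197802 = n199623 := d21_1 D197802 F412890 (iv6 D196873) (iv1 D107403) F78356 (iv5 D49166) (iv1 F39030) D51153 D110938 F361202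
theorem F412895 : act 0 n196865 = n197803 := d21_4 (iv5 D49609) D49607 D107397 D196865 (iv6 D197803) D197802 F412894 F412890 (iv6 D196873) (iv1 D107403)
def n199624 : Q := act 6 n111514
theorem D199624 : act 6 n111514 = n199624 := rfl
theorem F412896 : act 2 n199624 = n199537 := d3_1 D199624 (iv6 D199537) (iv2 F219129)
theorem F412897 : act 3 n199624 = n196542 := d7_1 D199624 F412892 (iv3 D199623)
theorem F412898 : act 5 n199624 = n196541 := d12_1 D199624 F406837 F406834 F402104 F219128
def n199625 : Q := act 0 n111515
theorem D199625 : act 0 n111515 = n199625 := rfl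
theorem F412899 : act 5 n199625 = n137656 := d17_1 D199625 (iv1 D137656) D137658 F220830 (iv5 D111400) F172626 (iv5 F219137) (iv0 D111513) D111515
theorem F412900 : act 2 n196793 = n199625 := d2_3 F412899 F349718 D196793
theorem F412901 : act 3 n140501 = n199625 := d6_3 F412899 F349719 (iv5 F345332)
theorem F412902 : act 7 n193254 = n199625 := d13_0 F412899 F349720 D193254
theorem F412903 : act 6 n151167 = n199625 := d21_5 (iv5 D138472) (iv1 F111569) (iv5 F245792) (iv6 F345112) F241263 F412899 (iv1 D137656) D137658 (iv6 F350376) F316984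
def n199626 : Q := act 1 n111515
theorem D199626 : act 1 n111515 = n199626 := rfl
theorem F412904 : act 7 n199626 = n196793 := d15_2 (iv0 D199625) D199626 F412900
theorem F412905 : act 5 n199626 = n137655 := d17_7 F329343 (iv5 F294517) (iv1 F329587) D137699 (iv4 F400154) F400152 D199626 (iv0 D137655) (iv4 D64711)
theorem F412906 : act 3 n196797 = n199626 := d20_9 (iv4 D111515) D111513 F219132 F100596 F98537 (iv3 F101620) D140440 F371840 (iv4 F401834) (iv1 D199626)
theorem F412907 : act 2 n199626 = n193254 := d0_1 F412906 F389332 F349728 (iv3 F349730) (iv2 F401833)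
def n199627 : Q := act 3 n111517
theorem D199627 : act 3 n111517 = n199627 := rfl
def n199628 : Q := act 4 n111517
theorem D199628 : act 4 n111517 = n199628 := rfl
theorem F412908 : act 0 n199628 = n123195 := d20_1 D199628 F197479 (iv3 D57438) D57436 F326030 (iv4 D51445) (iv1 D25004) (iv4 F39240) (iv3 F81202) D111517
theorem E103784 : n199627 = n197892 := ((c20_5 F326031 F326919 F341323 (iv3 F173044) F406125 (iv3 D199627) D199628 F412908 F197479 (iv3 D57438) D57436)).symm
theorem F412909 : act 3 n197892 = n111517 := (sb E103784 (iv3 D199627))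
theorem F412910 : act 5 n111517 = n197884 := d6_2 D197892 F412909 F406112
theorem F412911 : act 6 n190657 = n199628 := d21_3 (iv5 F377705) (iv1 F377709) F380716 F412908 F197480 (iv5 F294903) D191208 F382583 (iv6 F380696) (iv1 F380695)
def n199629 : Q := act 6 n111517
theorem D199629 : act 6 n111517 = n199629 := rfl
theorem F412912 : act 2 n199629 = n197758 := d3_1 D199629 (iv6 F412875) F412887
theorem F412913 : act 4 n199629 = n190657 := d10_1 D199629 F412911 (iv4 D199628)
theorem F412914 : act 7 n197757 = n199629 := d11_0 F412913 F380710 (iv4 F405650)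
theorem F412915 : act 0 n197760 = n199629 := d18_0 F412913 (iv1 D190657) F148280 D170838 F332736 (iv0 F386128) (iv4 F412651) (iv0 F412652) (iv5 F405661)
theorem F412916 : act 1 n197754 = n199629 := d15_0 (iv0 F412915) (iv7 D197760) (iv2 F405640)
def n199630 : Q := act 4 n111518
theorem D199630 : act 4 n111518 = n199630 := rfl
theorem F412917 : act 3 n199630 = n177396 := d5_1 D199630 (iv4 F358853) F226470 D196858 F412297
theorem F412918 : act 0 n123195 = n199630 := d20_10 (iv4 D199630) (iv1 D111518) (iv4 F82696) F82695 D52318 (iv3 F326281) (iv4 D45183) F296367 D57341 D123195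
theorem F412919 : act 6 n199630 = n121709 := d21_5 (iv5 F96575) (iv1 F365954) F294903 (iv6 F197480) F412918 (iv5 D121709) F297617 D125305 (iv6 F358446) (iv1 D129037)
def n199631 : Q := act 5 n111518
theorem D199631 : act 5 n111518 = n199631 := rfl
theorem F412920 : act 3 n199631 = n196502 := d6_1 D199631 (iv5 F402050) F412297
theorem F412921 : act 0 n199631 = n177494 := d20_4 F164976 D107038 D196502 (iv3 F412920) (iv3 D177494) F301653 (iv1 F300806) (iv4 F343761) F400854 (iv1 D196498)
def n199632 : Q := act 6 n111518
theorem D199632 : act 6 n111518 = n199632 := rfl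
theorem F412922 : act 4 n199632 = n121709 := d10_1 D199632 (iv6 F412919) (iv4 D199630)
theorem F412923 : act 5 n138562 = n199632 := d21_2 F405537 (iv1 F341166) (iv6 D199632) (iv1 D111518) (iv6 D51431) D51430 D111513 F219137 F377788 F405538
theorem F412924 : act 7 n199632 = n140738 := d13_2 (iv7 F324370) F412923 (iv5 D140738)
def n199633 : Q := act 1 n111519
theorem D199633 : act 1 n111519 = n199633 := rfl
def n199634 : Q := act 0 n111522
theorem D199634 : act 0 n111522 = n199634 := rfl
theorem F412925 : act 4 n199634 = n141234 := d20_0 (iv1 F224275) (iv4 F412429) F412428 F384907 (iv3 F362358) (iv4 D92625) (iv1 F138593) (iv4 F143224) F370337 D199634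
theorem F412926 : act 1 n199531 = n199634 := d15_0 (iv0 D199634) (iv7 F375356) (iv2 F412551)
theorem F412927 : act 2 n199528 = n199634 := d1_3 F412925 F343250 F412537
theorem F412928 : act 7 n199529 = n199634 := d11_0 F412925 F343249 (iv4 F412540)
theorem F412929 : act 5 n199634 = n192938 := d13_1 F412928 F388282 F412541
def n199635 : Q := act 1 n111522
theorem D199635 : act 1 n111522 = n199635 := rfl
theorem F412930 : act 1 n199635 = n199531 := d15_1 D199635 (iv7 D199531) (iv2 F173048)
theorem F412931 : act 7 n199635 = n199528 := d15_2 (iv0 D199634) D199635 F412927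
theorem F412932 : act 3 n128034 = n199635 := d20_3 (iv4 F237853) (iv1 F241264) F241262 (iv1 D199635) (iv3 F370337) F143224 F138592 D92634 (iv3 F339904) F242838
theorem F412933 : act 6 n124069 = n199635 := d21_3 (iv5 F198380) F304363 (iv5 F305163) (iv1 D199635) (iv6 D111522) F81203 F80305 D51320 D111276 F329126
theorem F412934 : act 5 n128033 = n199635 := d21_6 F407162 (iv1 D198190) F405569 F406017 F407156 F366160 (iv1 D199635) F370338 F370339 (iv1 F406565)
theorem F412935 : act 2 n199635 = n199529 := d2_1 F412934 (iv5 F412541) (iv2 F386747)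
theorem F412936 : act 4 n124070 = n199635 := d1_0 F412935 F412540 F343236
def n199636 : Q := act 2 n111523
theorem D199636 : act 2 n111523 = n199636 := rfl
theorem F412937 : act 3 n199636 = n199510 := d0_2 D111523 D199636 F412463 F172866 F81214
theorem F412938 : act 5 n199636 = n198002 := d2_2 (iv5 F173050) D199636 (iv2 D198002)
theorem F412939 : act 7 n199636 = n199522 := d4_2 (iv7 F173051) D199636 F412508
theorem F412940 : act 1 n199636 = n112496 := d15_0 (iv0 F223799) (iv7 F173051) D199636
theorem F412941 : act 1 n199524 = n199636 := d15_0 F412940 (iv7 F409258) F412520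
def n199637 : Q := act 4 n111523
theorem D199637 : act 4 n111523 = n199637 := rfl
theorem F412942 : act 7 n199637 = n199525 := d11_2 (iv7 F173051) D199637 (iv4 D199525)
theorem F412943 : act 5 n199637 = n148793 := d16_1 D199637 (iv4 F403164) (iv5 F409856) F409855 F205316 (iv4 F172874) D199522 (iv7 F412939) (iv2 D199636)
def n199638 : Q := act 6 n111523
theorem D199638 : act 6 n111523 = n199638 := rfl
theorem F412944 : act 3 n199638 = n111524 := d7_1 D199638 (iv6 D111524) D111523
def n199639 : Q := act 0 n111524
theorem D199639 : act 0 n111524 = n199639 := rfl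
def n199640 : Q := act 1 n111524
theorem D199640 : act 1 n111524 = n199640 := rfl
theorem F412945 : act 1 n199640 = n199519 := d15_1 D199640 (iv7 D199519) (iv2 F173052)
theorem F412946 : act 6 n197853 = n199640 := d21_3 (iv5 D115796) (iv1 F168663) (iv5 F406031) (iv1 D199640) (iv6 D111524) F81213 F79646 D51326 D111286 (iv1 F345069)
theorem F412947 : act 2 n199640 = n199518 := d3_1 F412946 (iv6 F412493) (iv2 F406029)
theorem F412948 : act 4 n199640 = n141228 := d10_1 F412946 (iv6 F372257) (iv4 F406030)
def n199641 : Q := act 5 n111524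
theorem D199641 : act 5 n111524 = n199641 := rfl
theorem F412949 : act 2 n199641 = n198145 := d2_1 D199641 F406980 (iv2 F173052)
theorem F412950 : act 6 n199641 = n197749 := d12_2 D111524 D199641 F405618 F168855 (iv5 F81213)
def n199642 : Q := act 7 n111524
theorem D199642 : act 7 n111524 = n199642 := rfl
theorem F412951 : act 2 n199642 = n199519 := d4_1 D199642 (iv7 D199519) (iv2 F173052)
theorem F412952 : act 6 n199642 = n199531 := d14_1 D199642 (iv7 D199531) (iv6 D111388) (iv7 F81212) D111524
theorem F412953 : act 1 n199519 = n199639 := d15_0 (iv0 D199639) D199642 F412951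
theorem F412954 : act 1 n199518 = n199642 := d15_1 D199518 (iv7 D199642) F173052
theorem F412955 : act 7 n199639 = n199518 := d15_2 F412945 F412953 (iv2 F412947)
theorem F412956 : act 4 n141227 = n199639 := d11_3 F412955 F412494 (iv7 F372260)
theorem F412957 : act 2 n199639 = n199517 := d15_3 (iv0 D199517) D199518 (iv7 F412955)
theorem F412958 : act 4 n199517 = n139476 := d1_2 F412956 F412957 F372261
theorem F412959 : act 7 n199517 = n199640 := d4_2 (iv7 F412955) F412957 F412947
theorem F412960 : act 1 n199642 = n199517 := d15_1 F412954 F412959 F412947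
def n199643 : Q := act 3 n111525
theorem D199643 : act 3 n111525 = n199643 := rfl
theorem F412961 : act 2 n199643 = n199584 := d0_1 D199643 F412768 (iv2 F232082) (iv3 F409238) F409237
theorem F412962 : act 5 n199643 = n180431 := d6_2 (iv5 F341344) D199643 (iv3 D180431)
theorem F412963 : act 6 n199643 = n114281 := d7_2 F360052 D199643 F364769
theorem F412964 : act 4 n114282 = n199643 := d20_8 D112498 (iv1 F223798) (iv4 D140708) F101703 F49347 (iv3 F81253) D111621 F371121 (iv3 D199643) F341343
def n199644 : Q := act 0 n111529
theorem D199644 : act 0 n111529 = n199644 := rfl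
theorem F412965 : act 4 n199644 = n158221 := d18_3 (iv1 F318816) (iv4 F327953) D199644 (iv5 D158221) F113103 F117875 (iv4 F58574) (iv0 F296739) (iv5 F316542)
theorem F412966 : act 2 n158800 = n199644 := d15_3 (iv0 D199644) F412858 (iv7 F412856)
theorem F412967 : act 1 n173247 = n199644 := d15_0 (iv0 D199644) F327954 (iv2 F271587)
theorem F412968 : act 7 n199644 = n160763 := d15_2 (iv0 F412857) F412967 (iv2 F412854)
def n199645 : Q := act 5 n111529
theorem D199645 : act 5 n111529 = n199645 := rfl
theorem F412969 : act 2 n199645 = n174155 := d2_1 D199645 F272947 F328346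
theorem F412970 : act 3 n199645 = n111530 := d6_1 D199645 (iv5 D111530) D111529
theorem F412971 : act 6 n199645 = n198595 := d12_2 (iv6 F327952) D199645 F408440 (iv6 F372504) (iv5 D180798)
theorem F412972 : act 7 n199645 = n123311 := d13_2 (iv7 F327954) D199645 F346346
theorem F412973 : act 4 n199645 = n173249 := d16_2 (iv4 F327953) D199645 F346338 (iv4 D82908) (iv5 D38145) D38144 D82906 F127718 F118744
theorem F412974 : act 0 n199645 = n173266 := d17_2 (iv1 F412858) D199645 F271629 F128329 F59173 F58979 D82897 F250006 (iv4 F412855)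
theorem F412975 : act 1 n199645 = n173240 := d17_6 (iv1 D82953) (iv5 D38178) (iv1 F118801) D58055 (iv4 F327953) D199645 (iv5 D173240) D173238 F271569
def n199646 : Q := act 1 n111531
theorem D199646 : act 1 n111531 = n199646 := rfl
theorem F412976 : act 5 n199646 = n160456 := d17_7 (iv1 F339260) D160588 F353965 F119633 (iv4 F129724) (iv5 F341340) D199646 (iv0 F353975) F353963
theorem F412977 : act 2 n160445 = n199646 := d2_3 F412976 F257961 (iv5 F353987)
theorem F412978 : act 0 n174182 = n199646 := d19_0 F412976 F329866 (iv3 D163034) (iv1 F129746) D177557 (iv4 F389963) F389967 F389957 (iv5 D192123) (iv4 D99731) D99730 F287095 (iv5 D83502) F59345 F29533 (iv1 F118787) D38333 D83259 D174182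
theorem F412979 : act 6 n199646 = n160443 := d3_2 D160445 F412977 (iv2 D160443)
def n199647 : Q := act 2 n111531
theorem D199647 : act 2 n111531 = n199647 := rfl
theorem F412980 : act 3 n199647 = n173247 := d0_2 D111531 D199647 F271587 (iv3 F346347) F172703
theorem F412981 : act 5 n199647 = n177500 := d2_2 (iv5 F341340) D199647 (iv2 D177500)
theorem F412982 : act 7 n199647 = n174182 := d4_2 F406508 D199647 (iv2 F406505)
theorem F412983 : act 1 n199647 = n160445 := d15_0 (iv0 F406509) F406508 D199647
def n199648 : Q := act 6 n111531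
theorem D199648 : act 6 n111531 = n199648 := rfl
theorem F412984 : act 3 n199648 = n111533 := d7_1 D199648 (iv6 D111533) D111531
theorem F412985 : act 4 n199648 = n189865 := d10_1 D199648 (iv6 F408726) (iv4 F408728)
theorem F412986 : act 7 n199648 = n198188 := d14_2 F406508 D199648 (iv6 D198188) (iv7 F405675) (iv6 F406507)
theorem F412987 : act 5 n198037 = n199648 := d13_3 F412986 F407149 (iv7 F406570)
theorem F412988 : act 1 n194824 = n199648 := d18_6 F289638 (iv4 F153280) F289588 F76048 D104621 D194824 F412985 F380582 (iv5 D190684)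
theorem F412989 : act 0 n194822 = n199648 := d20_1 D194822 F412985 F380587 (iv1 D190633) F148075 D96274 F148080 (iv4 D48392) D48391 (iv1 F160315)
def n199649 : Q := act 0 n111543
theorem D199649 : act 0 n111543 = n199649 := rfl
theorem F412990 : act 5 n199649 = n199503 := d17_1 D199649 (iv1 F412433) (iv5 D197737) (iv4 D108624) (iv5 F80876) F80878 D65099 (iv0 F100888) (iv4 F173071)
theorem F412991 : act 4 n199649 = n198997 := d18_3 F101241 (iv4 F173071) D199649 (iv5 D198997) (iv4 F172379) (iv0 D65092) F48989 D30570 (iv5 F79769)
theorem F412992 : act 6 n199649 = n198156 := d21_5 (iv5 F351104) (iv1 F254133) F343742 D111543 D199649 F407015 F180081 (iv5 F336682) F172653 (iv1 F173774)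
theorem F412993 : act 2 n198194 = n199649 := d15_3 (iv0 D199649) (iv0 F202429) (iv7 F407178)
theorem F412994 : act 1 n197764 = n199649 := d15_0 (iv0 D199649) F173072 (iv2 F405678)
theorem F412995 : act 7 n199649 = n111763 := d15_2 (iv0 F405682) F412994 F173447
def n199650 : Q := act 3 n111547
theorem D199650 : act 3 n111547 = n199650 := rfl
theorem F412996 : act 2 n199650 = n147374 := d0_1 D199650 (iv3 F353847) F353632 (iv3 F403526) F403525
theorem F412997 : act 5 n199650 = n147136 := d6_2 F403010 D199650 (iv3 F403008)
theorem F412998 : act 6 n199650 = n180600 := d7_2 (iv6 F402996) D199650 (iv3 F366193)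
theorem F412999 : act 7 n199650 = n131511 := d8_2 F403521 D199650 (iv3 F403517)
theorem F413000 : act 0 n199650 = n147371 := d20_4 (iv4 F349854) D199464 F412301 D199650 F231088 (iv4 F180030) (iv1 F349851) F349834 (iv3 F345364) (iv1 D125456)
theorem F413001 : act 4 n199650 = n113166 := d20_6 F45495 F38614 D25007 D51449 D111547 D199650 (iv1 D113166) (iv4 F93176) (iv3 D58973) (iv1 F45493)
theorem F413002 : act 0 n127619 = n199650 := d20_10 F413001 (iv1 D113166) (iv4 F93176) (iv3 D58973) (iv1 F45493) (iv3 F51038) (iv4 F81302) F81304 D59925 D127619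
def n199651 : Q := act 6 n111550
theorem D199651 : act 6 n111550 = n199651 := rfl
theorem F413003 : act 2 n199651 = n152481 := d3_1 D199651 (iv6 D152481) (iv2 F347799)
theorem F413004 : act 3 n199651 = n111552 := d7_1 D199651 (iv6 D111552) (iv3 F173077)
theorem F413005 : act 5 n199651 = n178333 := d12_1 D199651 F353484 (iv5 F327515) (iv6 D111551) D111550
theorem F413006 : act 0 n178368 = n199651 := d21_4 (iv5 D107602) (iv1 F82565) (iv5 F176269) (iv6 F335996) (iv6 D199651) (iv5 D111550) D111547 (iv5 F403010) (iv6 D197091) F166243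
theorem F413007 : act 4 n199651 = n115158 := d18_1 F413006 (iv1 F179444) (iv4 F348626) F262056 (iv4 F352057) F160689 (iv4 F352038) F395180 F395179
theorem F413008 : act 2 n115158 = n115226 := d1_1 F413007 F356621 (iv2 F413003)
theorem F413009 : act 6 n115158 = n164499 := d10_2 D199651 F413007 (iv4 F347800)
theorem F413010 : act 7 n115227 = n115158 := d15_2 (iv0 D115226) D115227 F413008
theorem F413011 : act 7 n115159 = n115226 := d15_2 (iv0 D115158) D115159 (iv2 F413008)
theorem F413012 : act 2 n115227 = n115159 := d4_3 F413011 (iv2 F413008) (iv7 F413010)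
def n199652 : Q := act 0 n111552
theorem D199652 : act 0 n111552 = n199652 := rfl
theorem F413013 : act 5 n199652 = n121217 := d17_1 D199652 (iv1 F330729) (iv5 F368267) F368266 F137114 D99811 F346943 (iv0 F357201) F244975
theorem F413014 : act 4 n199652 = n112121 := d20_0 (iv1 F363699) F262054 F122666 (iv1 F88984) (iv3 F335976) F166379 D115158 (iv4 F413007) F413004 D199652
theorem F413015 : act 3 n124662 = n199652 := d20_5 F315543 F87906 (iv4 F313339) (iv3 F92072) D124662 F413014 (iv1 F363699) F262054 F122666 (iv1 F88984)
theorem F413016 : act 0 n199652 = n188431 := d19_4 D38602 D83781 (iv4 F334606) F413015 F373443 F327672 (iv3 F274388) (iv1 F344918) F344919 (iv4 D82536) (iv3 F192687) F316273 (iv5 D58698) F45068 (iv3 F91262) (iv1 D35419) (iv5 D17179) (iv4 F28136) (iv3 F29556)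
def n199653 : Q := act 1 n111552
theorem D199653 : act 1 n111552 = n199653 := rfl
theorem F413017 : act 1 n199653 = n188431 := d15_1 D199653 F373444 F176573
theorem F413018 : act 4 n112122 = n199653 := d20_0 (iv1 D199653) (iv4 F244975) (iv3 F379371) (iv1 F390788) (iv3 F378427) F378428 (iv1 F242994) (iv4 F368638) (iv3 F368640) (iv1 F363714)
theorem F413019 : act 3 n116694 = n199653 := d20_3 F334090 (iv1 D149185) (iv4 F346261) (iv1 D199653) (iv3 F413004) F413007 (iv1 F179444) (iv4 F348626) F348625 (iv1 F334089)
def n199654 : Q := act 5 n111552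
theorem D199654 : act 5 n111552 = n199654 := rfl
theorem F413020 : act 2 n199654 = n178250 := d2_1 D199654 (iv5 F360224) F176573
theorem F413021 : act 3 n199654 = n178333 := d6_1 D199654 (iv5 F413005) F413004
theorem F413022 : act 6 n199654 = n111555 := d12_2 D111552 D199654 (iv5 D111555) (iv6 D51451) D51450
theorem F413023 : act 4 n199654 = n152924 := d16_6 (iv4 F128790) F322945 D142132 (iv5 F346907) F244975 D199654 (iv5 F315317) F315318 F201109
theorem F413024 : act 0 n199654 = n124650 := d18_0 (iv4 F322773) F322772 F304721 (iv5 F122667) (iv4 F262054) F363699 (iv4 F413014) (iv0 D199652) D199654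
def n199655 : Q := act 7 n111552
theorem D199655 : act 7 n111552 = n199655 := rfl
theorem F413025 : act 2 n199655 = n188431 := d4_1 D199655 F373444 F176573
def n199656 : Q := act 1 n111559
theorem D199656 : act 1 n111559 = n199656 := rfl
theorem F413026 : act 1 n199656 = n112451 := d15_1 D199656 (iv7 F408878) F408875
theorem F413027 : act 7 n199656 = n197795 := d15_2 (iv0 F412847) D199656 (iv2 F412846)
theorem F413028 : act 3 n196455 = n199656 := d20_3 F81054 (iv1 F356732) (iv4 F400735) (iv1 D199656) (iv3 D111559) D111560 (iv1 F336502) (iv4 F412257) (iv3 D199451) F361205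
def n199657 : Q := act 4 n111568
theorem D199657 : act 4 n111568 = n199657 := rfl
theorem F413029 : act 2 n199657 = n111572 := d1_1 D199657 (iv4 D111572) (iv2 F173109)
theorem F413030 : act 3 n199657 = n189102 := d20_3 (iv4 D199586) (iv1 F230759) D199657 F388362 (iv3 D187626) (iv4 F373122) (iv1 F367557) F367553 (iv3 F384632) (iv1 F412773)
theorem F413031 : act 5 n184499 = n199657 := d6_0 F413030 (iv5 F388361) F388360
theorem F413032 : act 6 n184502 = n199657 := d7_0 F413030 (iv6 D189102) F295439
theorem F413033 : act 0 n152527 = n199657 := d21_7 (iv5 F340061) (iv1 F393391) F393388 (iv6 D152569) (iv1 D71954) (iv6 F108440) D152527 (iv5 F413031) (iv6 D184499) (iv1 F340065)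
def n199658 : Q := act 6 n111568
theorem D199658 : act 6 n111568 = n199658 := rfl
theorem F413034 : act 2 n199658 = n111573 := d3_1 D199658 (iv6 D111573) (iv2 F173109)
theorem F413035 : act 4 n199658 = n184502 := d10_1 D199658 F413032 (iv4 D199657)
def n199659 : Q := act 3 n111570
theorem D199659 : act 3 n111570 = n199659 := rfl
theorem F413036 : act 5 n199659 = n199392 := d6_2 (iv5 F232076) D199659 (iv3 D199392)
theorem F413037 : act 7 n199659 = n199584 := d8_2 F232079 D199659 F412768
theorem F413038 : act 6 n188883 = n199659 := d21_5 (iv5 F292911) (iv1 D47054) F293128 D92883 D188883 F413036 F411956 (iv5 D188901) (iv6 D92898) D92895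
def n199660 : Q := act 6 n111570
theorem D199660 : act 6 n111570 = n199660 := rfl
theorem F413039 : act 2 n199660 = n199589 := d3_1 D199660 (iv6 D199589) F232078
theorem F413040 : act 3 n199660 = n188883 := d7_1 D199660 F413038 (iv3 D199659)
def n199661 : Q := act 0 n111572
theorem D199661 : act 0 n111572 = n199661 := rfl
def n199662 : Q := act 5 n111572
theorem D199662 : act 5 n111572 = n199662 := rfl
theorem F413041 : act 2 n199662 = n184499 := d2_1 D199662 F413031 F413029
theorem F413042 : act 3 n199662 = n141204 := d6_1 D199662 (iv5 D141204) (iv3 F173111)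
theorem F413043 : act 6 n199662 = n184466 := d12_2 F368144 D199662 (iv5 D184466) (iv6 F362649) (iv5 F368141)
theorem F413044 : act 0 n199026 = n199662 := d19_0 (iv5 D199662) (iv4 D111572) F81234 (iv1 F81211) F81213 (iv4 D50265) F76577 (iv1 F76575) (iv5 D24984) (iv4 D11865) (iv3 D5568) (iv1 D2311) D2312 D5574 D11883 D25026 (iv5 F343735) (iv4 F171725) (iv3 F410379)
def n199663 : Q := act 5 n111573
theorem D199663 : act 5 n111573 = n199663 := rfl
theorem F413045 : act 3 n199663 = n111580 := d6_1 D199663 (iv5 D111580) (iv3 F173112)
theorem F413046 : act 6 n199663 = n111576 := d12_2 D111573 D199663 (iv5 D111576) (iv6 D51459) D51458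
def n199664 : Q := act 7 n111573
theorem D199664 : act 7 n111573 = n199664 := rfl
theorem F413047 : act 3 n199664 = n111581 := d8_1 D199664 (iv7 D111581) (iv3 F173112)
theorem F413048 : act 4 n199664 = n189104 := d11_1 D199664 F375766 F368143
theorem F413049 : act 6 n199664 = n112496 := d14_1 D199664 (iv7 F409258) F409257 F172693 D111573
def n199665 : Q := act 0 n111576
theorem D199665 : act 0 n111576 = n199665 := rfl
theorem F413050 : act 5 n199665 = n121271 := d17_3 F327522 D111576 D199665 F193377 F88540 F67483 (iv5 F250805) (iv0 D35168) (iv4 F55848)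
theorem F413051 : act 2 n121272 = n199665 := d15_3 (iv0 D199665) F327524 (iv7 F193382)
theorem F413052 : act 1 n160455 = n199665 := d15_0 (iv0 D199665) F327526 (iv2 F257960)
theorem F413053 : act 7 n199665 = n163964 := d15_2 (iv0 F253455) F413052 F258433
theorem F413054 : act 4 n199665 = n190104 := d16_0 F378861 (iv4 D188480) (iv5 D92177) F67475 F32271 (iv4 F56527) D78772 (iv7 F193382) F413051
theorem F413055 : act 6 n190103 = n199665 := d10_0 F413054 (iv6 D190104) D190103
def n199666 : Q := act 4 n111576
theorem D199666 : act 4 n111576 = n199666 := rfl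
theorem F413056 : act 7 n199666 = n194760 := d11_2 (iv7 F327526) D199666 (iv4 F394371)
theorem F413057 : act 5 n199666 = n176901 := d16_1 D199666 (iv4 D176901) (iv5 F250817) (iv4 F193227) F250809 F119798 D160455 (iv7 F257963) (iv2 F327525)
theorem F413058 : act 3 n199666 = n191021 := d19_3 F327522 D111576 D199666 (iv1 D191021) F290796 F133985 F326386 D97371 F296312 F112714 F326234 F79861 (iv5 F324950) F27447 F21246 F14031 D7982 D17060 D35142
def n199667 : Q := act 3 n111579
theorem D199667 : act 3 n111579 = n199667 := rfl
def n199668 : Q := act 6 n111579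
theorem D199668 : act 6 n111579 = n199668 := rfl
def n199669 : Q := act 0 n111580
theorem D199669 : act 0 n111580 = n199669 := rfl
theorem F413059 : act 4 n199669 = n197718 := d18_1 D199669 F405501 F343783 (iv5 F343845) F343841 (iv0 F328920) (iv4 F357724) (iv0 D111578) D111580
theorem F413060 : act 1 n160437 = n199669 := d15_0 (iv0 D199669) F343780 (iv2 F253430)
theorem F413061 : act 2 n197944 = n199669 := d1_3 F413059 F405499 D197944
theorem F413062 : act 7 n197938 = n199669 := d11_0 F413059 F405500 D197938
def n199670 : Q := act 1 n111580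
theorem D199670 : act 1 n111580 = n199670 := rfl
theorem F413063 : act 1 n199670 = n160437 := d15_1 D199670 (iv7 F412107) F412104
theorem F413064 : act 7 n199670 = n197944 := d15_2 (iv0 D199669) D199670 F413061
theorem F413065 : act 4 n199670 = n197717 := d17_9 F405497 (iv5 D111315) D111313 (iv5 F173229) D197948 F406262 (iv0 D111578) D111580 D199670
theorem F413066 : act 6 n156339 = n199670 := d21_3 (iv5 F352681) F352677 D156339 (iv1 D199670) F173115 (iv5 D51463) D51461 D111585 F343793 (iv1 F225017)
theorem F413067 : act 2 n199670 = n197938 := d3_1 F413066 F406240 (iv2 F400357)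
def n199671 : Q := act 5 n111583
theorem D199671 : act 5 n111583 = n199671 := rfl
theorem F413068 : act 3 n199671 = n111585 := d6_1 D199671 (iv5 D111585) D111583
theorem F413069 : act 7 n199671 = n197949 := d13_2 F365917 D199671 F406263
theorem F413070 : act 0 n199671 = n160464 := d21_1 D199671 F253469 (iv6 F393421) (iv1 F412518) (iv6 D199523) D199522 (iv1 F412871) (iv5 D199617) F382029 (iv1 F358385)
theorem F413071 : act 6 n141995 = n199671 := d7_0 F413068 F343793 (iv3 F225020)
def n199672 : Q := act 6 n111583
theorem D199672 : act 6 n111583 = n199672 := rfl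
theorem F413072 : act 3 n199672 = n111586 := d7_1 D199672 (iv6 D111586) D111583
theorem F413073 : act 4 n199672 = n198727 := d10_1 D199672 (iv6 D198727) (iv4 F173121)
theorem F413074 : act 5 n199672 = n141996 := d12_1 D199672 (iv6 D141996) D141995 F413071 (iv5 D199671)
theorem F413075 : act 7 n199672 = n198140 := d14_2 F365917 D199672 (iv6 D198140) (iv7 F405614) F405613
def n199673 : Q := act 4 n111585
theorem D199673 : act 4 n111585 = n199673 := rfl
theorem F413076 : act 2 n199673 = n197948 := d1_1 D199673 (iv4 D197948) (iv2 F202537)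
theorem F413077 : act 6 n199673 = n141997 := d10_2 (iv6 F343793) D199673 (iv4 D141997)
theorem F413078 : act 7 n199673 = n197950 := d11_2 (iv7 F202535) D199673 (iv4 D197950)
theorem F413079 : act 5 n199673 = n123992 := d16_1 D199673 F198403 F328519 (iv4 F168008) F97078 (iv4 F172739) D111589 (iv7 F202538) (iv2 F202537)
def n199674 : Q := act 1 n111588
theorem D199674 : act 1 n111588 = n199674 := rfl
def n199675 : Q := act 2 n111588
theorem D199675 : act 2 n111588 = n199675 := rfl
theorem F413080 : act 3 n199675 = n160441 := d0_2 D111588 D199675 (iv2 F365919) (iv3 F365916) F202504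
theorem F413081 : act 4 n199675 = n124490 := d1_2 F202716 D199675 (iv2 F345537)
theorem F413082 : act 6 n199675 = n124488 := d3_2 (iv6 F173127) D199675 (iv2 F362196)
def n199676 : Q := act 4 n111589
theorem D199676 : act 4 n111589 = n199676 := rfl
theorem F413083 : act 2 n199676 = n197950 := d1_1 D199676 (iv4 D197950) F202536
theorem F413084 : act 5 n199676 = n199418 := d9_2 D111589 D199676 F412102 (iv5 D134290) (iv4 F171562) (iv5 F173118) (iv4 D111584) D111585 D199673 F413079 F198403 F328519 (iv4 F168008) F97078 (iv4 F172739)
theorem F413085 : act 7 n199676 = n197948 := d11_2 F202538 D199676 (iv4 D197948)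
def n199677 : Q := act 3 n111590
theorem D199677 : act 3 n111590 = n199677 := rfl
theorem F413086 : act 4 n199677 = n191021 := d5_2 D111590 D199677 (iv3 F413058) (iv4 D199666) F173113
theorem F413087 : act 5 n199677 = n111658 := d6_2 (iv5 F362792) D199677 F173223
theorem F413088 : act 6 n199677 = n111661 := d7_2 (iv6 F362793) D199677 F173224
theorem F413089 : act 7 n199677 = n194761 := d8_2 (iv7 F362794) D199677 F394372
theorem F413090 : act 0 n199677 = n190187 := d19_4 (iv1 D51462) D51463 D111590 D199677 (iv5 F407375) (iv4 D198261) F169083 D109097 F169086 (iv4 D51391) (iv3 F164334) (iv1 D11912) (iv5 F10996) (iv4 F23038) (iv3 F46589) D61103 (iv5 F345539) F202716 (iv3 D111588)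
theorem F413091 : act 2 n194766 = n199677 := d1_3 F413086 F394382 D194766
def n199678 : Q := act 0 n111593
theorem D199678 : act 0 n111593 = n199678 := rfl
theorem F413092 : act 5 n199678 = n111943 := d17_3 (iv1 F168439) D111593 D199678 F173936 (iv5 F171564) F171569 (iv5 F173227) (iv0 D111663) F81276
theorem F413093 : act 2 n197959 = n199678 := d15_3 (iv0 D199678) (iv0 F176735) (iv7 F406285)
theorem F413094 : act 1 n111596 = n199678 := d15_0 (iv0 D199678) F173133 (iv2 F173138)
theorem F413095 : act 7 n199678 = n196273 := d15_2 (iv0 F176736) F413094 F400148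
def n199679 : Q := act 4 n111593
theorem D199679 : act 4 n111593 = n199679 := rfl
theorem F413096 : act 2 n199679 = n197952 := d1_1 D199679 F406268 (iv2 F343769)
theorem F413097 : act 3 n199679 = n197953 := d5_1 D199679 (iv4 F406270) F365871 F191495 (iv3 F326022)
theorem F413098 : act 7 n199679 = n197953 := d11_2 (iv7 F173133) D199679 (iv4 F406270)
theorem F413099 : act 5 n199679 = n111666 := d16_1 D199679 F357739 F357707 (iv4 D63097) F79593 D51471 D111596 F343770 (iv2 F343769)
theorem F413100 : act 0 n199679 = n197956 := d18_2 F176735 D199679 F406273 F168715 F79578 F164118 D51625 (iv0 F164100) D113577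
theorem F413101 : act 1 n199679 = n197719 := d18_6 (iv1 D51462) F39246 D25012 D51467 D111593 D199679 (iv4 D197719) (iv0 F173128) (iv5 D111589)
theorem F413102 : act 4 n120294 = n174712 := d20_6 D197719 (iv1 F413101) (iv4 D199679) F326022 F119176 (iv3 F191548) (iv1 D174712) (iv4 F273557) (iv3 F348952) F173128
def n199680 : Q := act 5 n111595
theorem D199680 : act 5 n111595 = n199680 := rfl
theorem F413103 : act 3 n199680 = n111596 := d6_1 D199680 (iv5 D111596) D111595
theorem F413104 : act 6 n199680 = n145308 := d12_2 (iv6 F173137) D199680 (iv5 F228342) (iv6 D111117) (iv5 F351077)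
def n199681 : Q := act 4 n111596
theorem D199681 : act 4 n111596 = n199681 := rfl
theorem F413105 : act 2 n199681 = n197953 := d1_1 D199681 (iv4 F406270) (iv2 F173138)
theorem F413106 : act 5 n199681 = n111667 := d9_2 D111596 D199681 F357729 (iv5 F357718) (iv4 D63093) (iv5 F79597) D51467 D111593 D199679 F413099 F357739 F357707 (iv4 D63097) F79593 D51471
theorem F413107 : act 7 n199681 = n197952 := d11_2 (iv7 F343770) D199681 F406268
theorem F413108 : act 0 n199681 = n197719 := d18_2 (iv1 F413094) D199681 (iv4 D197719) (iv5 D108612) F79447 D50150 D108614 F173934 (iv5 F413092)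
theorem F413109 : act 1 n199681 = n197956 := d18_6 (iv1 F172742) F172735 (iv1 F81035) D51471 D111596 D199681 F406273 (iv0 F173122) (iv5 D111585)
theorem F413110 : act 6 n198317 = n199681 := d21_5 (iv5 D108802) F168436 D196273 F400149 D198317 F413106 (iv1 D111667) (iv5 F362792) F362793 (iv1 F168728)
def n199682 : Q := act 6 n111596
theorem D199682 : act 6 n111596 = n199682 := rfl
theorem F413111 : act 2 n199682 = n198745 := d3_1 D199682 (iv6 D198745) (iv2 F173138)
theorem F413112 : act 3 n199682 = n145308 := d7_1 D199682 (iv6 F413104) F413103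
theorem F413113 : act 4 n199682 = n198317 := d10_1 D199682 F413110 (iv4 D199681)
theorem F413114 : act 5 n199682 = n198154 := d12_1 D199682 (iv6 D198154) (iv5 D108963) (iv6 F81244) D111596
theorem F413115 : act 0 n199682 = n196614 := d21_10 (iv5 D196614) F400636 F400635 (iv6 D162235) F119156 D160267 (iv5 F343773) (iv1 F172782) D111596 D199682
theorem F413116 : act 0 n197933 = n199682 := d18_2 (iv1 D197932) D197933 F413113 F407585 F406942 (iv0 D108945) (iv4 F164769) D196327 F406231
theorem F413117 : act 1 n197933 = n141958 := d15_1 (iv0 F413116) (iv7 F409046) (iv2 F413111)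
def n199683 : Q := act 3 n111597
theorem D199683 : act 3 n111597 = n199683 := rfl
theorem F413118 : act 4 n199683 = n133219 := d5_2 (iv4 F173139) D199683 (iv3 D133219) (iv4 F164105) (iv3 F169227)
theorem F413119 : act 6 n199683 = n172220 := d7_2 F173141 D199683 (iv3 F327600)
theorem F413120 : act 7 n199683 = n134921 := d8_2 F173143 D199683 (iv3 D134921)
theorem F413121 : act 0 n191695 = n199683 := d20_4 (iv4 F383922) (iv1 F384182) (iv4 D191696) D191695 (iv3 D199683) F173139 (iv1 F167600) (iv4 F206964) F367735 (iv1 F367743)
def n199684 : Q := act 3 n111598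
theorem D199684 : act 3 n111598 = n199684 := rfl
theorem F413122 : act 4 n199684 = n132262 := d5_2 F173148 D199684 (iv3 D132262) (iv4 D62052) D62051
theorem F413123 : act 7 n199684 = n134920 := d8_2 (iv7 F173146) D199684 (iv3 D134920)
def n199685 : Q := act 6 n111598
theorem D199685 : act 6 n111598 = n199685 := rfl
theorem F413124 : act 2 n199685 = n134922 := d3_1 D199685 (iv6 D134922) F173147
theorem F413125 : act 4 n199685 = n132261 := d10_1 D199685 (iv6 D132261) F173148
theorem F413126 : act 7 n199685 = n198197 := d14_2 (iv7 F173146) D199685 (iv6 D198197) (iv7 F170715) (iv6 F168002)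
theorem F413127 : act 0 n199685 = n134460 := d21_4 D108809 D197968 F406316 D199685 (iv6 F329057) (iv5 F304270) F304267 (iv5 F302518) F327855 (iv1 D108807)
theorem F413128 : act 0 n134456 = n199685 := d21_4 D134249 F363083 F363078 (iv6 F216415) (iv6 D199685) (iv5 F406316) (iv1 F406318) F216317 (iv6 F216038) (iv1 F216039)
def n199686 : Q := act 0 n111599
theorem D199686 : act 0 n111599 = n199686 := rfl
def n199687 : Q := act 1 n111599
theorem D199687 : act 1 n111599 = n199687 := rfl
def n199688 : Q := act 2 n111599
theorem D199688 : act 2 n111599 = n199688 := rfl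
theorem F413129 : act 3 n199688 = n134907 := d0_2 D111599 D199688 F217108 F98714 (iv2 F81245)
theorem F413130 : act 6 n199688 = n134759 := d3_2 (iv6 F173149) D199688 (iv2 D134759)
theorem F413131 : act 7 n182775 = n199688 := d8_0 F413129 F332725 D182775
theorem F413132 : act 1 n199687 = n182775 := d15_1 D199687 F413131 (iv2 D199688)
def n199689 : Q := act 5 n111599
theorem D199689 : act 5 n111599 = n199689 := rfl
theorem F413133 : act 3 n199689 = n111600 := d6_1 D199689 (iv5 D111600) D111599
def n199690 : Q := act 7 n111599
theorem D199690 : act 7 n111599 = n199690 := rfl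
theorem F413134 : act 2 n199690 = n182775 := d4_1 D199690 F413131 (iv2 D199688)
theorem F413135 : act 3 n199690 = n111601 := d8_1 D199690 (iv7 D111601) D111599
theorem F413136 : act 6 n199690 = n134952 := d14_1 D199690 (iv7 D134952) (iv6 D63423) (iv7 F98579) (iv6 F173149)
theorem F413137 : act 1 n182775 = n199686 := d15_0 (iv0 D199686) D199690 F413134
def n199691 : Q := act 5 n111603
theorem D199691 : act 5 n111603 = n199691 := rfl
theorem F413138 : act 3 n199691 = n111605 := d6_1 D199691 (iv5 D111605) D111603
theorem F413139 : act 0 n199691 = n111712 := d18_0 (iv4 F400318) (iv1 F412634) (iv4 D199549) F220875 D111508 (iv0 F173421) (iv4 D111698) (iv0 F355989) D199691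
def n199692 : Q := act 6 n111603
theorem D199692 : act 6 n111603 = n199692 := rfl
theorem F413140 : act 3 n199692 = n111606 := d7_1 D199692 (iv6 D111606) D111603
theorem F413141 : act 4 n199692 = n126224 := d10_1 D199692 (iv6 D126224) (iv4 F173158)
theorem F413142 : act 7 n199692 = n128362 := d14_2 F355959 D199692 (iv6 F355975) F405747 (iv6 F405746)
theorem F413143 : act 5 n125163 = n199692 := d13_3 F413142 (iv5 D128362) (iv7 F201177)
theorem F413144 : act 0 n199692 = n128996 := d17_2 (iv1 F313644) F413143 F208765 (iv4 D74740) (iv5 F208780) F311935 (iv5 F311280) F53811 D65246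
theorem F413145 : act 1 n199692 = n129012 := d17_6 F313024 F312967 (iv1 D58526) D58529 D125163 F413143 (iv5 F208766) D157182 F314352
def n199693 : Q := act 0 n111604
theorem D199693 : act 0 n111604 = n199693 := rfl
theorem F413146 : act 1 n111609 = n199693 := d15_0 (iv0 D199693) (iv7 F412178) F412176
def n199694 : Q := act 5 n111604
theorem D199694 : act 5 n111604 = n199694 := rfl
theorem F413147 : act 3 n199694 = n128542 := d6_1 D199694 (iv5 F395690) (iv3 F395692)
theorem F413148 : act 0 n199694 = n194398 := d17_2 F408589 D199694 F393049 F380621 (iv5 D188901) D188900 (iv5 F412800) (iv0 F412027) (iv4 F408588)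
theorem F413149 : act 4 n139286 = n199694 := d5_0 F413147 F340043 F400229 (iv4 D192509) F380082
theorem F413150 : act 6 n128539 = n199694 := d7_0 F413147 (iv6 D128542) D128539
def n199695 : Q := act 6 n111604
theorem D199695 : act 6 n111604 = n199695 := rfl
theorem F413151 : act 4 n199695 = n111606 := d10_1 D199695 (iv6 D111606) D111604
theorem F413152 : act 7 n199695 = n198202 := d14_2 F412178 D199695 (iv6 D198202) (iv7 F405758) (iv6 F412177)
theorem F413153 : act 5 n199695 = n158071 := d21_6 F303295 (iv1 F300698) D158810 (iv6 F408591) F408589 D199695 (iv1 D158071) (iv5 F128372) (iv6 D83298) D83295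
theorem F413154 : act 0 n194914 = n199695 := d21_4 (iv5 D48438) D48436 D104756 D194914 (iv6 D199695) D199694 F413148 F393049 (iv6 D190692) F148373
def n199696 : Q := act 6 n111605
theorem D199696 : act 6 n111605 = n199696 := rfl
theorem F413155 : act 4 n199696 = n188910 := d10_1 D199696 (iv6 D188910) (iv4 F375174)
def n199697 : Q := act 0 n111606
theorem D199697 : act 0 n111606 = n199697 := rfl
theorem F413156 : act 3 n199697 = n198244 := d20_5 (iv4 F246738) F355985 (iv4 F413141) F413140 D199697 (iv4 F407329) F358316 (iv4 F393711) F393709 F348810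
theorem F413157 : act 2 n111761 = n199697 := d15_3 (iv0 D199697) F407660 (iv7 F173444)
theorem F413158 : act 1 n197783 = n199697 := d15_0 (iv0 D199697) (iv7 F378717) (iv2 F405782)
theorem F413159 : act 7 n199697 = n198203 := d15_2 (iv0 F407650) F413158 (iv2 F407217)
theorem F413160 : act 0 n194987 = n194914 := d20_1 F405784 (iv4 F400580) (iv3 D144323) F103639 (iv3 F171971) (iv4 F343551) (iv1 F358323) F407329 (iv3 F413156) (iv1 F413158)
theorem F413161 : act 0 n144321 = n194986 := d20_7 F76236 D48468 D104843 D194987 F413160 (iv3 F408624) (iv4 F408621) (iv4 D194986) (iv3 D104842) F340334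
def n199698 : Q := act 4 n111608
theorem D199698 : act 4 n111608 = n199698 := rfl
theorem F413162 : act 3 n199698 = n190320 := d5_1 D199698 F379373 F174509 (iv4 D111609) D111608
theorem F413163 : act 6 n199698 = n198204 := d10_2 (iv6 F378716) D199698 (iv4 D198204)
theorem F413164 : act 5 n199698 = n157703 := d18_4 (iv1 F174294) D198704 F408940 D199698 (iv4 D157703) F229434 (iv4 F408267) (iv0 F408270) F248412
theorem F413165 : act 1 n199698 = n112487 := d18_8 (iv1 F381990) F316665 (iv1 F347961) (iv4 F320035) F320036 D198702 F408941 D199698 F381992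
theorem F413166 : act 0 n199698 = n155967 := d20_1 D199698 (iv4 F409252) F409251 (iv1 F204655) (iv3 F361199) F171975 D144327 (iv4 F361211) (iv3 F408938) F408940
def n199699 : Q := act 5 n111608
theorem D199699 : act 5 n111608 = n199699 := rfl
theorem F413167 : act 3 n199699 = n111610 := d6_1 D199699 (iv5 D111610) D111608
def n199700 : Q := act 5 n111609
theorem D199700 : act 5 n111609 = n199700 := rfl
theorem F413168 : act 0 n194398 = n199700 := d21_7 F407203 F368507 D189915 F378230 (iv1 F160472) D190692 (iv5 F393049) (iv5 D199700) F378713 (iv1 F407201)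
def n199701 : Q := act 6 n111610
theorem D199701 : act 6 n111610 = n199701 := rfl
theorem F413169 : act 4 n199701 = n188833 := d10_1 D199701 (iv6 F375032) (iv4 F395004)
theorem F413170 : act 5 n199701 = n198207 := d12_1 D199701 (iv6 D198207) (iv5 D109042) F378714 D111610
theorem F413171 : act 0 n199701 = n111748 := d21_4 (iv5 D199439) (iv1 F172774) D111610 D199701 F409310 F242890 (iv1 D154710) D154712 F412065 (iv1 F412205)
def n199702 : Q := act 5 n111612
theorem D199702 : act 5 n111612 = n199702 := rfl
theorem F413172 : act 2 n199702 = n111617 := d2_1 D199702 (iv5 D111617) (iv2 F173160)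
theorem F413173 : act 3 n199702 = n130536 := d6_1 D199702 (iv5 F349563) F219308
theorem F413174 : act 6 n199702 = n196943 := d12_2 F358922 D199702 (iv5 F402402) (iv6 F300621) D174190
theorem F413175 : act 7 n199702 = n130531 := d13_2 F219320 D199702 (iv5 F349530)
theorem F413176 : act 1 n199702 = n193536 := d17_6 D199004 (iv5 F412221) (iv1 F412211) (iv5 D111613) D111612 D199702 (iv5 F390184) (iv0 F174183) (iv4 F171650)
def n199703 : Q := act 4 n111613
theorem D199703 : act 4 n111613 = n199703 := rfl
theorem F413177 : act 2 n199703 = n111621 := d1_1 D199703 (iv4 D111621) (iv2 F173162)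
theorem F413178 : act 3 n199703 = n127809 := d5_1 D199703 (iv4 F406849) F406848 D197902 (iv3 F406155)
def n199704 : Q := act 6 n111613
theorem D199704 : act 6 n111613 = n199704 := rfl
theorem F413179 : act 2 n199704 = n111622 := d3_1 D199704 (iv6 D111622) (iv2 F173162)
theorem F413180 : act 5 n199704 = n111680 := d12_1 D199704 F362848 (iv5 F358919) (iv6 D111614) D111613
theorem F413181 : act 0 n199704 = n188845 := d21_4 (iv5 D199435) (iv1 F172769) D111613 D199704 (iv6 D188845) F292037 (iv1 F154083) F354445 (iv6 F354410) F412182
theorem F413182 : act 4 n188990 = n199704 := d18_1 (iv1 F375343) F413181 F375050 F143219 (iv4 F361673) (iv0 D114266) F83339 D52742 D114274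
theorem F413183 : act 3 n114306 = n188990 := d20_5 F284752 D183151 F358479 F178201 (iv1 F178177) F413182 F413181 F375050 (iv3 F364374) F358477
theorem F413184 : act 6 n188990 = n199703 := d7_2 (iv6 F205611) F413183 F413178
def n199705 : Q := act 7 n111614
theorem D199705 : act 7 n111614 = n199705 := rfl
theorem F413185 : act 2 n199705 = n111626 := d4_1 D199705 (iv7 D111626) (iv2 F173163)
theorem F413186 : act 4 n199705 = n160811 := d11_1 D199705 F300936 (iv4 F358918)
theorem F413187 : act 5 n199705 = n160788 := d13_1 D199705 F300921 (iv5 F358919)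
theorem F413188 : act 6 n199705 = n172097 := d14_1 D199705 F412210 (iv6 D199440) F172771 D111614
theorem F413189 : act 1 n111624 = n199705 := d15_1 D111624 (iv7 D199705) F173163
theorem F413190 : act 1 n199705 = n111623 := d15_1 F413189 F343713 (iv2 F343706)
def n199706 : Q := act 5 n111615
theorem D199706 : act 5 n111615 = n199706 := rfl
theorem F413191 : act 3 n199706 = n112281 := d6_1 D199706 (iv5 D112281) (iv3 F173164)
theorem F413192 : act 7 n199706 = n192193 := d13_2 F173165 D199706 (iv5 F385942)
theorem F413193 : act 6 n199706 = n127105 := d21_9 (iv5 F182956) F355658 (iv5 F357478) F357479 D158862 F359253 (iv5 D111617) D111615 D199706 (iv1 D127105)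
theorem F413194 : act 0 n136304 = n199706 := d20_4 (iv4 F162075) (iv1 F162076) (iv4 F99683) D136304 F413191 (iv4 F324392) (iv1 F153714) (iv4 F326378) F81564 D51660
theorem F413195 : act 0 n199706 = n141283 := d20_4 (iv4 D102503) (iv1 F153715) F324392 (iv3 F413191) (iv3 D141283) (iv4 D66271) (iv1 F111172) (iv4 F206729) (iv3 F344586) (iv1 F344550)
theorem F413196 : act 4 n141288 = n199700 := d18_3 F413195 F224302 D141288 (iv5 D199700) (iv4 D111609) F172774 (iv4 F219319) F219321 D199706
def n199707 : Q := act 6 n111615
theorem D199707 : act 6 n111615 = n199707 := rfl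
theorem F413197 : act 3 n199707 = n112282 := d7_1 D199707 (iv6 D112282) (iv3 F173164)
theorem F413198 : act 5 n199707 = n189699 := d12_1 D199707 (iv6 F386897) (iv5 F386896) (iv6 F413193) (iv5 D199706)
theorem F413199 : act 7 n199707 = n198212 := d14_2 F173165 D199707 (iv6 D198212) (iv7 F174393) F359285
theorem F413200 : act 0 n198336 = n199707 := d21_10 F413198 F377449 D189721 F377524 F250185 (iv6 F395029) (iv5 D194926) (iv1 F289697) D192811 F407651
def n199708 : Q := act 5 n111616
theorem D199708 : act 5 n111616 = n199708 := rfl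
theorem F413201 : act 2 n199708 = n192193 := d2_1 D199708 (iv5 F385942) F219325
theorem F413202 : act 3 n199708 = n193952 := d6_1 D199708 F391496 F349828
theorem F413203 : act 6 n199708 = n192192 := d12_2 (iv6 F359284) D199708 F385926 D193736 F390826
theorem F413204 : act 0 n199708 = n136304 := d17_2 (iv1 F219326) D199708 F219360 (iv4 F171650) F171651 (iv0 F395002) (iv5 D111610) F172774 (iv4 F219319)
theorem F413205 : act 0 n141283 = n199708 := d21_10 (iv5 D199708) (iv1 D111616) D111617 (iv6 F359253) F302426 (iv6 F365278) (iv5 F375503) (iv1 F375504) (iv5 F349157) F349158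
def n199709 : Q := act 1 n111617
theorem D199709 : act 1 n111617 = n199709 := rfl
theorem F413206 : act 1 n199709 = n130531 := d15_1 D199709 (iv7 F413175) F413172
theorem F413207 : act 2 n193536 = n199709 := d15_3 F413206 (iv0 F408225) F408218
theorem F413208 : act 6 n199709 = n192137 := d3_2 D193536 F413207 (iv2 F385707)
def n199710 : Q := act 4 n111619
theorem D199710 : act 4 n111619 = n199710 := rfl
theorem F413209 : act 2 n199710 = n188809 := d1_1 D199710 F412215 (iv2 F412214)
theorem F413210 : act 3 n199710 = n196795 := d5_1 D199710 (iv4 D196795) (iv3 F401815) F401817 (iv3 F412063)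
theorem F413211 : act 6 n199710 = n114479 := d10_2 F412065 D199710 (iv4 F242889)
theorem F413212 : act 7 n199710 = n188888 := d11_2 F412217 D199710 F412222
theorem F413213 : act 5 n199710 = n187756 := d17_5 F412193 F172800 D140698 F412064 D199710 (iv0 F371420) F159987 D188648 F412194
def n199711 : Q := act 3 n111620
theorem D199711 : act 3 n111620 = n199711 := rfl
def n199712 : Q := act 4 n111620
theorem D199712 : act 4 n111620 = n199712 := rfl
theorem F413214 : act 2 n199712 = n188888 := d1_1 D199712 F412222 F412219
theorem F413215 : act 7 n199712 = n188809 := d11_2 (iv7 F412218) D199712 F412215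
theorem F413216 : act 5 n199712 = n194774 := d17_5 F412181 (iv5 F410291) (iv1 F410294) F412220 D199712 F394412 F375187 F374306 F412183
theorem F413217 : act 6 n188642 = n199712 := d12_0 F413216 (iv6 F394414) F251208 (iv6 F206243) (iv5 F374288)
def n199713 : Q := act 6 n111620
theorem D199713 : act 6 n111620 = n199713 := rfl
theorem F413218 : act 2 n199713 = n188887 := d3_1 D199713 F412225 F412219
theorem F413219 : act 4 n199713 = n188642 := d10_1 D199713 F413217 (iv4 D199712)
theorem F413220 : act 7 n199713 = n188889 := d14_2 (iv7 F412218) D199713 F375135 (iv7 F374968) (iv6 F412216)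
theorem F413221 : act 0 n188673 = n199713 := d21_4 (iv5 F142787) F292939 (iv5 F291996) D188673 (iv6 D199713) (iv5 F412220) (iv1 D140699) (iv5 F172800) F354410 (iv1 F142670)
theorem E103785 : n189015 = n188889 := (c15_2 F412224 D189015 (iv7 F413220) F413218)
theorem F413222 : act 0 n188889 = n93020 := (sb E103785 (iv1 D189015))
theorem F413223 : act 0 n199713 = n189017 := d20_1 (iv4 F413219) F375417 (iv3 F375408) (iv1 F375410) F187303 D151345 F369157 F360960 F238395 D188642
def n199714 : Q := act 1 n111621
theorem D199714 : act 1 n111621 = n199714 := rfl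
theorem F413224 : act 4 n199659 = n199714 := d20_6 F81266 (iv1 D30955) (iv4 F39245) (iv3 F81234) D111570 D199659 (iv1 D199714) (iv4 D111621) F81253 D51482
theorem F413225 : act 6 n199714 = n188674 := d10_2 F413038 F413224 (iv4 F375131)
theorem F413226 : act 2 n189021 = n199714 := d3_3 F413225 F374398 D189021
def n199715 : Q := act 6 n111621
theorem D199715 : act 6 n111621 = n199715 := rfl
theorem F413227 : act 2 n199715 = n188990 := d3_1 D199715 F413184 F413177
theorem F413228 : act 4 n199715 = n111622 := d10_1 D199715 (iv6 D111622) D111621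
theorem F413229 : act 7 n188989 = n199715 := d11_0 F413228 (iv7 F409280) F409281
theorem F413230 : act 0 n188991 = n199715 := d18_0 F413228 F395005 F393181 F367115 (iv4 F369530) (iv0 F369531) F178059 D114248 (iv5 F375345)
theorem F413231 : act 0 n199715 = n187442 := d20_7 F39245 D30954 (iv4 F49389) (iv3 F101703) F343747 (iv3 F173170) (iv4 F413228) F370335 (iv3 D111521) (iv1 F81206)
def n199716 : Q := act 1 n111622
theorem D199716 : act 1 n111622 = n199716 := rfl
theorem F413232 : act 7 n199716 = n188845 := d15_2 (iv0 F395005) D199716 (iv2 F393179)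
theorem F413233 : act 4 n188848 = n199716 := d11_3 F413232 F375050 D188848
def n199717 : Q := act 3 n111623
theorem D199717 : act 3 n111623 = n199717 := rfl
theorem F413234 : act 5 n199717 = n140411 := d6_2 (iv5 F343712) D199717 F353652
theorem F413235 : act 6 n199717 = n170836 := d21_3 D174904 (iv1 F353651) (iv5 F413234) (iv1 D170836) F326416 D109136 D198289 F407488 F407489 (iv1 D174902)
def n199718 : Q := act 6 n111623
theorem D199718 : act 6 n111623 = n199718 := rfl
theorem F413236 : act 2 n199718 = n197785 := d3_1 D199718 (iv6 F405787) (iv2 F343710)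
theorem F413237 : act 3 n199718 = n170836 := d7_1 D199718 (iv6 F413235) (iv3 D199717)
theorem F413238 : act 0 n199718 = n187997 := d21_4 (iv5 F318836) F318833 (iv5 F343712) D199718 F372052 F370870 (iv1 F370872) (iv5 F378260) (iv6 F378259) (iv1 F276217)
theorem F413239 : act 1 n199718 = n197786 := d15_1 (iv0 F413238) (iv7 D197786) (iv2 F372050)
def n199719 : Q := act 4 n111630
theorem D199719 : act 4 n111630 = n199719 := rfl
theorem F413240 : act 3 n199719 = n141232 := d5_1 D199719 (iv4 D141232) (iv3 D66243) (iv4 F81266) D111630
theorem F413241 : act 7 n199719 = n199492 := d11_2 (iv7 F173198) D199719 (iv4 D199492)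
def n199720 : Q := act 6 n111630
theorem D199720 : act 6 n111630 = n199720 := rfl
theorem F413242 : act 3 n199720 = n111631 := d7_1 D199720 (iv6 D111631) D111630
def n199721 : Q := act 0 n111631
theorem D199721 : act 0 n111631 = n199721 := rfl
def n199722 : Q := act 1 n111631
theorem D199722 : act 1 n111631 = n199722 := rfl
theorem F413243 : act 1 n199722 = n199502 := d15_1 D199722 (iv7 D199502) (iv2 F173199)
theorem F413244 : act 6 n120504 = n199722 := d21_3 F81283 (iv1 F337474) D120504 (iv1 D199722) (iv6 D111631) F81265 F80966 (iv5 F81055) D111353 F337471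
theorem F413245 : act 5 n140492 = n199722 := d21_6 (iv5 F407181) (iv1 D198194) F341357 (iv6 D65946) D65942 D140492 (iv1 D199722) (iv5 F406602) (iv6 D198055) (iv1 F406594)
theorem F413246 : act 3 n199722 = n187812 := d6_1 F413245 F371590 (iv3 F371650)
theorem F413247 : act 4 n123157 = n199722 := d5_0 F413246 (iv4 D187812) F139480 (iv4 F178880) (iv3 F364654)
theorem F413248 : act 2 n199722 = n124021 := d1_1 F413247 F198412 (iv2 F197360)
def n199723 : Q := act 7 n111631
theorem D199723 : act 7 n111631 = n199723 := rfl
theorem F413249 : act 2 n199723 = n199502 := d4_1 D199723 (iv7 D199502) (iv2 F173199)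
theorem F413250 : act 4 n199723 = n141237 := d11_1 D199723 (iv7 D141237) (iv4 F173200)
theorem F413251 : act 6 n199723 = n199493 := d14_1 D199723 (iv7 D199493) (iv6 D111365) (iv7 F81270) D111631
theorem F413252 : act 1 n199502 = n199721 := d15_0 (iv0 D199721) D199723 F413249
theorem F413253 : act 1 n124021 = n199723 := d15_1 (iv0 F364126) (iv7 D199723) F173199
theorem F413254 : act 7 n199721 = n124021 := d15_2 F413243 F413252 (iv2 F413248)
theorem F413255 : act 4 n123895 = n199721 := d11_3 F413254 F198412 (iv7 F198329)
theorem F413256 : act 6 n123894 = n199721 := d14_5 F413254 (iv6 D124021) (iv7 D57776) (iv6 F90894) D123894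
theorem F413257 : act 2 n199721 = n199501 := d15_3 (iv0 D199501) (iv0 F364126) (iv7 F413254)
theorem F413258 : act 4 n199501 = n198075 := d1_2 F413255 F413257 (iv2 F406682)
theorem F413259 : act 7 n199501 = n199722 := d4_2 (iv7 F413254) F413257 F413248
theorem F413260 : act 1 n199723 = n199501 := d15_1 F413253 F413259 F413248
def n199724 : Q := act 5 n111640
theorem D199724 : act 5 n111640 = n199724 := rfl
theorem F413261 : act 3 n199724 = n111642 := d6_1 D199724 (iv5 D111642) D111640
theorem F413262 : act 4 n198305 = n199724 := d5_0 F413261 F173205 (iv3 D109165) D109166 D198305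
theorem F413263 : act 0 n199592 = n198305 := d20_7 (iv4 D197912) (iv1 D108769) D108770 (iv3 F354460) (iv1 F411979) F411977 D199592 F413262 F413261 (iv1 F406189)
def n199725 : Q := act 0 n111641
theorem D199725 : act 0 n111641 = n199725 := rfl
theorem F413264 : act 4 n199725 = n112457 := d20_2 D111641 D199725 (iv3 F409251) (iv1 F409255) (iv3 D111294) F81005 F40901 (iv4 D25023) D25022 D51488
theorem F413265 : act 2 n112442 = n199725 := d15_3 (iv0 D199725) (iv0 F202282) (iv7 F174931)
theorem F413266 : act 1 n111646 = n199725 := d15_0 (iv0 D199725) (iv7 F412135) F412134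
theorem F413267 : act 7 n199725 = n125864 := d15_2 (iv0 F387406) F413266 (iv2 D125864)
theorem F413268 : act 3 n125850 = n199725 := d20_9 (iv4 D111646) (iv1 D51489) D51491 F81271 F45169 D48633 F76483 D74181 (iv4 F202350) (iv1 F413266)
def n199726 : Q := act 3 n111641
theorem D199726 : act 3 n111641 = n199726 := rfl
theorem F413269 : act 2 n199726 = n125800 := d0_1 D199726 (iv3 D125800) (iv2 F359806) (iv3 F412153) F412149
theorem F413270 : act 4 n199726 = n177678 := d5_2 D111641 D199726 (iv3 F403526) (iv4 F403523) (iv3 D111640)
theorem F413271 : act 6 n199726 = n195687 := d7_2 F363309 D199726 (iv3 F397861)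
theorem F413272 : act 0 n199726 = n125553 := d20_4 (iv4 D51491) D51488 D111641 D199726 (iv3 D125553) D125554 F362949 F207163 F343542 (iv1 D111653)
theorem F413273 : act 0 n180673 = n199726 := d18_2 F351030 (iv4 F281208) F413270 F342092 (iv4 F334781) F334779 F225735 F175179 F175177
def n199727 : Q := act 5 n111641
theorem D199727 : act 5 n111641 = n199727 := rfl
def n199728 : Q := act 5 n111645
theorem D199728 : act 5 n111645 = n199728 := rfl
theorem F413274 : act 3 n199728 = n111647 := d6_1 D199728 (iv5 D111647) D111645
theorem F413275 : act 0 n111709 = n199728 := d21_1 (iv5 F326447) (iv5 D199728) (iv6 F387404) F387401 F274489 D191391 F386727 D192515 F386928 (iv1 D180414)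
theorem F413276 : act 4 n199728 = n188827 := d20_0 (iv1 D188827) (iv4 F375015) F375014 D188899 (iv3 F412281) F198375 (iv1 F360063) (iv4 D111710) D111709 F413275
theorem F413277 : act 1 n114278 = n199728 := d15_0 (iv0 F413275) (iv7 F409300) F409301
theorem F413278 : act 3 n187836 = n188827 := d20_5 D114323 F331522 (iv4 F331527) (iv3 F178529) (iv1 F371654) (iv4 F413276) (iv1 F413277) (iv4 D114278) F83341 D52761
def n199729 : Q := act 5 n111646
theorem D199729 : act 5 n111646 = n199729 := rfl
theorem F413279 : act 3 n199729 = n125797 := d6_1 D199729 (iv5 D125797) F173207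
theorem F413280 : act 0 n199729 = n125880 := d17_2 (iv1 F413266) D199729 (iv5 F408190) F408189 D198775 F409179 F406168 F204655 (iv4 F413264)
def n199730 : Q := act 6 n111646
theorem D199730 : act 6 n111646 = n199730 := rfl
theorem F413281 : act 3 n199730 = n125798 := d7_1 D199730 (iv6 D125798) F173207
theorem F413282 : act 4 n199730 = n111648 := d10_1 D199730 (iv6 D111648) D111646
theorem F413283 : act 7 n199730 = n198243 := d14_2 F412151 D199730 (iv6 D198243) F352261 (iv6 F412150)
theorem F413284 : act 0 n196081 = n199730 := d18_2 (iv1 F410678) (iv4 F410682) F413282 (iv5 F393880) F393879 F393369 F393357 (iv0 F295619) D194569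
theorem F413285 : act 0 n199730 = n196090 := d20_7 F325620 (iv1 F301319) F344525 (iv3 F358643) (iv1 F387402) (iv3 F387403) (iv4 F413282) (iv4 F409330) (iv3 D198806) (iv1 F362600)
def n199731 : Q := act 4 n111647
theorem D199731 : act 4 n111647 = n199731 := rfl
theorem F413286 : act 2 n199731 = n198296 := d1_1 D199731 (iv4 F412142) F412138
theorem F413287 : act 3 n199731 = n198300 := d5_1 D199731 F407536 F413278 (iv4 F413276) F413274
theorem F413288 : act 7 n199731 = n198304 := d11_2 F412156 D199731 (iv4 F412159)
theorem F413289 : act 0 n199731 = n128392 := d17_0 F355977 F405755 D109136 D198290 (iv5 F410318) (iv0 D199012) F171698 (iv0 F406191) D199731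
theorem F413290 : act 1 n199731 = n198286 := d18_8 (iv1 F407196) F407200 (iv1 F202745) (iv4 D108923) (iv5 F354397) F354396 (iv0 F406191) D199731 (iv5 D198286)
theorem E103786 : n198303 = n198286 := ((c15_1 F413290 (iv0 D198303) (iv7 F407517) (iv2 F413286))).symm
theorem F413291 : act 1 n198286 = n109165 := (sb E103786 (iv0 D198303))
def n199732 : Q := act 6 n111647
theorem D199732 : act 6 n111647 = n199732 := rfl
def n199733 : Q := act 1 n111648
theorem D199733 : act 1 n111648 = n199733 := rfl
theorem F413292 : act 1 n199733 = n197767 := d15_1 D199733 (iv7 F412145) F412143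
theorem F413293 : act 7 n199733 = n198244 := d15_2 (iv0 F400659) D199733 F407330
theorem F413294 : act 2 n111764 = n199733 := d4_3 F413293 F407330 (iv7 F173448)
theorem F413295 : act 3 n198203 = n199733 := d8_3 F413293 (iv3 F413156) F413159
def n199734 : Q := act 5 n111649
theorem D199734 : act 5 n111649 = n199734 := rfl
theorem F413296 : act 2 n199734 = n111654 := d2_1 D199734 (iv5 D111654) (iv2 F173208)
theorem F413297 : act 3 n199734 = n125769 := d6_1 D199734 (iv5 D125769) F173211
theorem F413298 : act 7 n199734 = n125718 := d13_2 (iv7 F173209) D199734 (iv5 D125718)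
theorem F413299 : act 0 n199734 = n125721 := d17_2 (iv1 F173212) D199734 F360426 (iv4 F201904) F172885 D198109 F406858 (iv0 F202207) (iv4 D125710)
theorem F413300 : act 1 n199734 = n125720 := d17_6 D199012 F410318 F407493 (iv5 D111650) D111649 D199734 (iv5 F360423) (iv0 D125530) (iv4 F171697)
def n199735 : Q := act 6 n111650
theorem D199735 : act 6 n111650 = n199735 := rfl
theorem F413301 : act 2 n199735 = n111658 := d3_1 D199735 (iv6 D111658) (iv2 F173213)
theorem F413302 : act 4 n199735 = n198107 := d10_1 D199735 (iv6 D198107) F219110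
theorem F413303 : act 5 n194766 = n199735 := d2_0 F413301 (iv5 F413087) (iv2 F413091)
def n199736 : Q := act 0 n111651
theorem D199736 : act 0 n111651 = n199736 := rfl
theorem F413304 : act 4 n199736 = n189809 := d20_0 (iv1 D189809) F146907 (iv3 D57937) (iv1 F55816) D76827 F115364 D158003 (iv4 F412209) F412208 D199736
theorem F413305 : act 2 n111659 = n199736 := d1_3 F413304 (iv2 F377823) (iv4 F364838)
theorem F413306 : act 7 n111660 = n199736 := d11_0 F413304 (iv7 F377824) F377828
theorem F413307 : act 3 n124255 = n199736 := d20_5 (iv4 D35115) F27973 D27645 D57931 D124255 F413304 (iv1 D189809) F146907 (iv3 D57937) (iv1 F55816)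
def n199737 : Q := act 1 n111651
theorem D199737 : act 1 n111651 = n199737 := rfl
theorem F413308 : act 1 n199737 = n111662 := d15_1 D199737 (iv7 D111662) (iv2 F173214)
theorem F413309 : act 7 n199737 = n111659 := d15_2 (iv0 D199736) D199737 F413305
theorem F413310 : act 4 n189808 = n199737 := d20_0 (iv1 D199737) F377864 (iv3 D189816) (iv1 D95287) (iv3 D44512) (iv4 D21169) D21167 D44508 D95276 D189808
theorem F413311 : act 3 n125428 = n199737 := d20_3 (iv4 F119798) (iv1 F257782) (iv4 F201715) (iv1 D199737) (iv3 F412208) F412209 (iv1 F248915) (iv4 F196332) F196331 (iv1 F115550)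
theorem F413312 : act 6 n197771 = n199737 := d21_3 (iv5 D142749) D142747 (iv5 F405712) (iv1 D199737) (iv6 D111651) D111650 (iv1 F412163) F412165 (iv6 D177289) (iv1 F322343)
theorem E103787 : n199717 = n123336 := (c21_1 (iv5 F413234) (iv1 D123336) D123338 F362844 (iv1 F413308) (iv6 F413312) F405712 F322338 (iv5 F276667) (iv6 F333028) (iv1 F353651))
theorem F413313 : act 3 n123336 = n111623 := (sb E103787 (iv3 D199717))
theorem F413314 : act 5 n123336 = n140411 := (sb E103787 F413234)
theorem F413315 : act 6 n123336 = n170836 := (sb E103787 F413235)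
theorem F413316 : act 2 n199737 = n111660 := d0_1 F413311 (iv3 F377829) (iv2 F262237) F262235 (iv2 F256577)
theorem F413317 : act 1 n111662 = n199736 := d15_1 F413308 (iv7 F413306) (iv2 F413316)
def n199738 : Q := act 5 n111651
theorem D199738 : act 5 n111651 = n199738 := rfl
theorem F413318 : act 2 n199738 = n111661 := d2_1 D199738 (iv5 D111661) (iv2 F173214)
theorem F413319 : act 6 n199738 = n194766 := d12_2 D111651 D199738 F413303 (iv6 D199735) (iv5 D111650)
theorem F413320 : act 4 n194768 = n199738 := d10_3 F413319 (iv4 D194766) D194768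
def n199739 : Q := act 7 n111651
theorem D199739 : act 7 n111651 = n199739 := rfl
theorem F413321 : act 2 n199739 = n111662 := d4_1 D199739 (iv7 D111662) (iv2 F173214)
theorem F413322 : act 3 n199739 = n172097 := d8_1 D199739 F412210 F412208
theorem F413323 : act 1 n111660 = n199739 := d15_1 D111660 (iv7 D199739) F173214
theorem F413324 : act 1 n199739 = n111659 := d15_1 F413323 (iv7 F413309) F413316
def n199740 : Q := act 5 n111653
theorem D199740 : act 5 n111653 = n199740 := rfl
theorem F413325 : act 2 n199740 = n125623 := d2_1 D199740 F355946 (iv2 F204643)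
theorem F413326 : act 6 n199740 = n125881 := d12_2 F343547 D199740 F349573 F211351 (iv5 F207157)
theorem F413327 : act 7 n199740 = n125624 := d13_2 (iv7 F204644) D199740 F405944
theorem F413328 : act 4 n199740 = n125882 := d16_4 D108770 (iv5 F173037) F173218 D199740 F356041 F202149 D197726 F405530 F168704
theorem F413329 : act 0 n199740 = n125533 := d17_2 (iv1 F173217) D199740 (iv5 D125533) (iv4 F171697) F171698 (iv0 F406191) (iv5 D111647) F172757 F172753
theorem F413330 : act 1 n199740 = n125621 := d15_0 (iv0 F405960) F405958 (iv2 F413325)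
def n199741 : Q := act 0 n111655
theorem D199741 : act 0 n111655 = n199741 := rfl
theorem F413331 : act 4 n199741 = n124275 := d20_0 (iv1 D124275) (iv4 F146907) (iv3 D95276) F70018 F326751 (iv4 D59274) (iv1 F168029) (iv4 F92921) (iv3 F173221) D199741
theorem F413332 : act 3 n166326 = n199741 := d20_5 (iv4 D34419) (iv1 F33925) (iv4 F70734) D96342 F360457 F413331 (iv1 D124275) (iv4 F146907) (iv3 D95276) F70018
theorem F413333 : act 6 n199741 = n166321 := d7_2 D166326 F413332 F261913
def n199742 : Q := act 1 n111655
theorem D199742 : act 1 n111655 = n199742 := rfl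
theorem F413334 : act 4 n124274 = n199742 := d20_0 (iv1 D199742) F173222 F81274 (iv1 F168439) (iv3 F326021) (iv4 D35571) (iv1 F42974) (iv4 F44571) D57937 D124274
theorem F413335 : act 6 n177395 = n199742 := d21_3 (iv5 D145449) D145446 F326466 (iv1 D199742) (iv6 D111655) D111654 F360417 (iv5 D125614) D125615 F360404
def n199743 : Q := act 7 n111655
theorem D199743 : act 7 n111655 = n199743 := rfl
theorem F413336 : act 3 n199743 = n125550 := d8_1 D199743 (iv7 D125550) (iv3 F173221)
theorem F413337 : act 4 n199743 = n111662 := d11_1 D199743 (iv7 D111662) (iv4 F173222)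
theorem F413338 : act 5 n199743 = n131997 := d13_1 D199743 F398080 F398079
theorem F413339 : act 6 n199743 = n125727 := d14_1 D199743 (iv7 D125727) (iv6 D58869) (iv7 F81272) D111655
def n199744 : Q := act 3 n111656
theorem D199744 : act 3 n111656 = n199744 := rfl
theorem F413340 : act 5 n199744 = n152484 := d6_2 (iv5 F406157) D199744 (iv3 F361644)
theorem F413341 : act 0 n191874 = n199744 := d17_2 (iv1 F410752) F384630 F413340 (iv4 D152484) (iv5 D71923) D71922 (iv5 F347812) F403518 (iv4 F410751)
theorem F413342 : act 6 n199247 = n160568 := d21_3 (iv5 F333001) D111109 D199247 (iv1 D160568) D160571 F384630 F413341 F413340 (iv6 F361593) (iv1 D173984)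
theorem F413343 : act 6 n124256 = n124451 := d7_2 F413342 (iv3 F262235) (iv3 F411315)
theorem F413344 : act 6 n198277 = n160263 := d3_2 F413343 F411306 (iv2 F262237)
def n199745 : Q := act 0 n111658
theorem D199745 : act 0 n111658 = n199745 := rfl
theorem F413345 : act 3 n199745 = n191872 := d20_5 F412102 (iv1 F343837) F171713 (iv3 F173223) D199745 F384627 (iv1 F375765) (iv4 F413048) F413047 (iv1 F412100)
def n199746 : Q := act 1 n111658
theorem D199746 : act 1 n111658 = n199746 := rfl
def n199747 : Q := act 7 n111658
theorem D199747 : act 7 n111658 = n199747 := rfl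
theorem F413346 : act 3 n199747 = n111669 := d8_1 D199747 (iv7 D111669) (iv3 F173223)
theorem F413347 : act 5 n199747 = n194761 := d13_1 D199747 (iv7 F413089) F413087
theorem F413348 : act 6 n199747 = n111699 := d14_1 D199747 (iv7 F409296) F409295 F172759 D111658
def n199748 : Q := act 5 n111659
theorem D199748 : act 5 n111659 = n199748 := rfl
def n199749 : Q := act 6 n111659
theorem D199749 : act 6 n111659 = n199749 := rfl
def n199750 : Q := act 5 n111660
theorem D199750 : act 5 n111660 = n199750 := rfl
def n199751 : Q := act 6 n111660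
theorem D199751 : act 6 n111660 = n199751 := rfl
theorem F413349 : act 2 n199751 = n197771 := d3_1 D199751 F413312 F413316
theorem F413350 : act 3 n199751 = n198277 := d7_1 D199751 F413344 F377829
theorem F413351 : act 4 n199751 = n166620 := d10_1 D199751 (iv6 F377826) F377828
theorem F413352 : act 7 n197772 = n199751 := d11_0 F413351 F299626 (iv4 F405715)
theorem F413353 : act 5 n167672 = n199751 := d16_1 D167672 F413351 (iv5 F326483) (iv4 D145720) (iv5 F326486) F117084 D80469 (iv7 F299109) F299107
theorem F413354 : act 1 n153792 = n199751 := d17_8 (iv1 D166620) (iv5 D79965) (iv1 F296368) D38997 D84545 (iv5 F312882) (iv0 D153790) D153792 F413351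
theorem F413355 : act 0 n177281 = n199751 := d18_0 F413351 (iv1 D166620) (iv4 F325520) F325521 (iv4 D84453) (iv0 D38938) D38940 D84460 D177281
theorem F413356 : act 6 n199750 = n190147 := d12_4 (iv6 F360017) F413353 (iv6 D199751) D199750 F378978
theorem F413357 : act 4 n190148 = n199750 := d10_3 F413356 (iv4 D190147) D190148
def n199752 : Q := act 0 n111661
theorem D199752 : act 0 n111661 = n199752 := rfl
def n199753 : Q := act 1 n111661
theorem D199753 : act 1 n111661 = n199753 := rfl
def n199754 : Q := act 4 n111661
theorem D199754 : act 4 n111661 = n199754 := rfl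
theorem F413358 : act 2 n199754 = n194768 := d1_1 D199754 F413320 F413318
theorem F413359 : act 6 n199754 = n191021 := d10_2 F413088 D199754 (iv4 F413086)
def n199755 : Q := act 7 n111661
theorem D199755 : act 7 n111661 = n199755 := rfl
theorem F413360 : act 3 n199755 = n111671 := d8_1 D199755 (iv7 D111671) (iv3 F173224)
theorem F413361 : act 5 n199755 = n111662 := d13_1 D199755 (iv7 D111662) D111661
theorem F413362 : act 6 n199755 = n120273 := d14_1 D199755 (iv7 F253406) F394373 (iv7 F413089) F413088
def n199756 : Q := act 3 n111667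
theorem D199756 : act 3 n111667 = n199756 := rfl
def n199757 : Q := act 4 n111679
theorem D199757 : act 4 n111679 = n199757 := rfl
theorem F413363 : act 3 n199757 = n113166 := d5_1 D199757 (iv4 F413001) (iv3 D199650) (iv4 F412301) F412303
theorem F413364 : act 6 n199757 = n180599 := d10_2 (iv6 F409271) D199757 F359054
theorem F413365 : act 7 n199757 = n174051 := d11_2 (iv7 F409272) D199757 (iv4 F409261)
theorem F413366 : act 0 n199757 = n160764 := d20_1 D199757 F360744 (iv3 F400741) (iv1 D196456) (iv3 F348767) (iv4 F176603) (iv1 F176606) (iv4 F173423) (iv3 F409273) (iv1 F409278)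
theorem F413367 : act 5 n147151 = n180599 := d21_2 (iv5 D147154) D147151 (iv6 F413364) F413366 (iv6 D160764) (iv5 D77128) (iv1 D35217) D35218 (iv6 F115843) (iv1 F353650)
theorem F413368 : act 3 n180601 = n147151 := d6_3 F413367 (iv3 D180599) D180601
def n199758 : Q := act 5 n111679
theorem D199758 : act 5 n111679 = n199758 := rfl
theorem F413369 : act 0 n199758 = n111709 := d17_2 (iv1 F409278) D199758 F326447 F132135 (iv5 F129778) D177674 F346469 F175405 (iv4 F409274)
theorem F413370 : act 4 n199758 = n188826 := d19_2 (iv1 F409278) D199758 F375016 (iv1 F366144) (iv5 D143665) F103182 F49573 D31295 F313564 (iv4 F92331) (iv3 F200849) F321554 D126639 (iv4 F203740) (iv3 F329353) F329351 (iv5 D113496) (iv4 F173423) (iv3 F409273)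
theorem F413371 : act 0 n114278 = n199758 := d21_10 (iv5 D199758) (iv1 D111679) (iv5 F343751) (iv6 D111622) D111619 (iv6 F412065) (iv5 D154712) F178148 (iv5 D114290) (iv6 F178122)
theorem F413372 : act 6 n188935 = n199758 := d10_0 F413370 F376560 D188935
def n199759 : Q := act 5 n111695
theorem D199759 : act 5 n111695 = n199759 := rfl
theorem F413373 : act 1 n199759 = n111712 := d17_6 (iv1 D105201) (iv5 F93400) (iv1 F219116) (iv5 D126219) (iv4 F173416) D199759 (iv5 F412422) F412427 (iv4 D195047)
def n199760 : Q := act 5 n111697
theorem D199760 : act 5 n111697 = n199760 := rfl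
theorem F413374 : act 2 n199760 = n111699 := d2_1 D199760 (iv5 D111699) D111697
theorem F413375 : act 4 n199760 = n196324 := d9_1 D199760 (iv5 F400336) (iv4 D137127) D137128 F220911 (iv5 D126382) (iv4 F170516) D198798 F409297 (iv5 D140773) (iv4 F223845) (iv5 F349662) F349661 (iv5 D113496) (iv4 F173423)
def n199761 : Q := act 0 n111699
theorem D199761 : act 0 n111699 = n199761 := rfl
theorem F413376 : act 5 n199761 = n113252 := d17_3 F355989 D111699 D199761 (iv4 D113252) D113253 F219100 (iv5 D59175) D59173 (iv4 F173158)
theorem F413377 : act 4 n199761 = n193254 := d18_1 D199761 (iv1 F412874) (iv4 D199618) (iv5 D111511) (iv4 F82693) F93372 (iv4 F173416) (iv0 D111695) D111699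
def n199762 : Q := act 2 n111709
theorem D199762 : act 2 n111709 = n199762 := rfl
theorem F413378 : act 5 n199762 = n180408 := d2_2 (iv5 F326447) D199762 F280782
theorem F413379 : act 7 n199762 = n114278 := d4_2 F409300 D199762 (iv2 F409301)
theorem F413380 : act 4 n114279 = n199762 := d11_3 F413379 (iv4 D114278) D114279
def n199763 : Q := act 4 n111709
theorem D199763 : act 4 n111709 = n199763 := rfl
theorem F413381 : act 2 n199763 = n114279 := d1_1 D199763 F413380 (iv2 D199762)
theorem F413382 : act 7 n199763 = n114249 := d11_2 F409300 D199763 (iv4 F409298)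
theorem F413383 : act 5 n199763 = n114250 := d16_7 (iv4 F83339) D114268 F339097 F129778 (iv4 F132135) (iv5 F326447) D199763 (iv7 D114250) F83318
theorem F413384 : act 0 n199763 = n114277 := d18_2 F413369 D199763 F353545 F172893 (iv4 F82192) (iv0 F173252) (iv4 D111681) D111679 D199758
theorem F413385 : act 3 n199763 = n152282 := d19_3 (iv1 D180414) (iv5 F326447) D199763 (iv1 F239360) F346140 F183788 (iv3 D68994) (iv1 D32095) D32097 (iv4 F81302) (iv3 D51539) F45404 D59149 (iv4 F166885) F347789 (iv1 F321006) (iv5 F351725) D199575 F412735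
theorem F413386 : act 1 n199763 = n114276 := d15_0 (iv0 D114276) D114279 (iv2 F413381)
theorem F413387 : act 4 n118704 = n152056 := d20_6 (iv4 D199763) F413275 F413276 (iv3 F413278) (iv1 D187836) (iv3 F186703) (iv1 D152056) (iv4 F239073) (iv3 F386973) (iv1 F413386)
theorem F413388 : act 2 n152056 = n118761 := d1_1 F413387 (iv4 D118761) (iv2 F186702)
theorem F413389 : act 6 n152056 = n118707 := d10_2 (iv6 F186704) F413387 (iv4 D118707)
def n199764 : Q := act 0 n111710
theorem D199764 : act 0 n111710 = n199764 := rfl
theorem F413390 : act 5 n199764 = n134917 := d17_1 D199764 (iv1 D134917) (iv5 F332716) (iv4 D111702) (iv5 D51508) F80196 D110246 F170402 D111710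
theorem F413391 : act 4 n199764 = n180574 := d18_1 D199764 (iv1 F360064) (iv4 F360065) (iv5 F360066) (iv4 D110218) F170316 D198763 F409133 F407407
theorem F413392 : act 2 n123949 = n199764 := d15_3 (iv0 D199764) F360063 D123949
theorem F413393 : act 1 n111713 = n199764 := d15_0 (iv0 D199764) (iv7 F407505) F407502
theorem F413394 : act 7 n199764 = n123140 := d15_2 (iv0 F360061) F413393 F197336
theorem F413395 : act 6 n123981 = n199764 := d14_5 F413394 (iv6 D123140) F90425 D57757 D123981
def n199765 : Q := act 3 n111710
theorem D199765 : act 3 n111710 = n199765 := rfl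
theorem F413396 : act 2 n199765 = n152528 := d0_1 D199765 (iv3 F373037) F373036 (iv3 F407455) F407454
theorem F413397 : act 4 n199765 = n152282 := d5_2 D111710 D199765 (iv3 F413385) (iv4 D199763) (iv3 D111709)
theorem F413398 : act 7 n199765 = n152281 := d8_2 F407505 D199765 (iv3 F407503)
theorem F413399 : act 0 n199765 = n199601 := d19_4 F325627 (iv5 F325634) D111710 D199765 (iv5 D199601) (iv4 D111468) F81181 (iv1 F81108) F81109 (iv4 F39238) (iv3 F38109) (iv1 F77446) F77444 (iv4 D30355) F39281 (iv1 F24262) F19292 D24972 D51365
theorem E103788 : n199601 = n152525 := ((c15_1 D152525 (iv0 F413399) F413398 F239355)).symm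
theorem F413400 : act 1 n152525 = n199765 := (sb E103788 (iv0 F413399))
theorem F413401 : act 3 n152525 = n139520 := (sb E103788 F412811)
theorem F413402 : act 5 n152525 = n111468 := (sb E103788 (iv5 D199601))
theorem F413403 : act 1 n199765 = n152524 := d15_0 (iv0 D152524) D152528 (iv2 F413396)
def n199766 : Q := act 2 n111712
theorem D199766 : act 2 n111712 = n199766 := rfl
theorem F413404 : act 3 n199766 = n114278 := d0_2 D111712 D199766 (iv2 F409301) (iv3 D198799) F172849
theorem F413405 : act 4 n199766 = n114330 := d1_2 F400318 D199766 (iv2 F400315)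
theorem F413406 : act 6 n199766 = n114289 := d3_2 (iv6 F400321) D199766 F365817
def n199767 : Q := act 6 n111713
theorem D199767 : act 6 n111713 = n199767 := rfl
theorem F413407 : act 2 n199767 = n152291 := d3_1 D199767 F407510 F407502
theorem F413408 : act 3 n199767 = n152572 := d7_1 D199767 F373048 F373043
theorem F413409 : act 4 n199767 = n111714 := d10_1 D199767 (iv6 D111714) D111713
def n199768 : Q := act 0 n111714
theorem D199768 : act 0 n111714 = n199768 := rfl
theorem F413410 : act 1 n111751 = n199768 := d15_0 (iv0 D199768) (iv7 F412342) F412340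
theorem F413411 : act 3 n111735 = n199768 := d20_3 F81183 D65478 (iv4 F345075) (iv1 F413410) F409309 (iv4 F178085) (iv1 F178087) D114287 F349168 (iv1 D111475)
theorem F413412 : act 5 n199768 = n115786 := d6_2 (iv5 F337425) F413411 (iv3 D115786)
def n199769 : Q := act 1 n111714
theorem D199769 : act 1 n111714 = n199769 := rfl
theorem F413413 : act 1 n199769 = n111751 := d15_1 D199769 (iv7 F409307) F409303
theorem F413414 : act 4 n139549 = n199769 := d20_6 (iv4 F387632) (iv1 F387635) F372014 F359644 F375556 (iv3 F365299) (iv1 D199769) (iv4 F413409) F413408 (iv1 F386102)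
theorem F413415 : act 6 n111736 = n199769 := d21_3 F292039 (iv1 F329684) (iv5 F337429) (iv1 D199769) (iv6 D111714) F172856 (iv1 D111372) D111373 (iv6 F345426) F358822
def n199770 : Q := act 5 n111714
theorem D199770 : act 5 n111714 = n199770 := rfl
theorem F413416 : act 2 n199770 = n178169 := d2_1 D199770 (iv5 F409306) F409303
theorem F413417 : act 3 n199770 = n188947 := d6_1 D199770 (iv5 D188947) (iv3 F400322)
theorem F413418 : act 6 n199770 = n124189 := d12_2 D111714 D199770 (iv5 D124189) (iv6 F324527) (iv5 F172856)
theorem F413419 : act 0 n199770 = n197642 := d21_1 D199770 (iv5 F412430) F412431 (iv1 F375415) (iv6 D189013) F292039 (iv1 F329684) (iv5 F337429) F413415 (iv1 D199769)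
theorem F413420 : act 0 n198055 = n199770 := d21_10 (iv5 D199770) D199768 F413412 (iv6 F245674) (iv1 F389403) F406591 (iv5 D198048) (iv1 F168876) D108891 D198055
theorem F413421 : act 4 n177996 = n199770 := d10_3 F413418 F302602 D177996
theorem F413422 : act 1 n192398 = n177996 := d18_6 D199721 (iv4 F413255) (iv1 F406690) F406687 F375355 (iv4 F386644) F413421 (iv0 F413420) F406602
def n199771 : Q := act 3 n111715
theorem D199771 : act 3 n111715 = n199771 := rfl
theorem F413423 : act 5 n199771 = n186655 := d6_2 F409079 D199771 (iv3 F409077)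
theorem F413424 : act 7 n199771 = n191880 := d8_2 (iv7 F409083) D199771 F384634
theorem F413425 : act 4 n197779 = n199771 := d19_2 D108658 D197779 (iv3 D199771) (iv1 F362613) (iv5 F337492) F169156 F79755 (iv1 F79522) F79524 (iv4 D30824) (iv3 F39202) F39832 F39828 F38803 D24830 (iv1 F38902) (iv5 F48111) (iv4 F48114) D50173
theorem F413426 : act 2 n199771 = n191878 := d1_1 F413425 (iv4 F384651) (iv2 F405762)
theorem F413427 : act 0 n199771 = n192680 := d17_0 F387454 (iv1 F384498) (iv5 F384639) F384638 (iv5 F378260) F400145 F400142 (iv0 F405765) F413425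
theorem F413428 : act 1 n199771 = n191805 := d18_6 F387538 F387536 (iv1 F405760) (iv4 D197778) D197779 F413425 (iv4 F388630) F409111 (iv5 D198757)
def n199772 : Q := act 3 n111716
theorem D199772 : act 3 n111716 = n199772 := rfl
theorem F413429 : act 5 n199772 = n139489 := d6_2 F409148 D199772 (iv3 F409146)
theorem F413430 : act 0 n199772 = n192590 := d20_4 F360072 (iv1 F409092) F409093 D199772 F387183 F358530 F223819 F223821 (iv3 F407455) (iv1 F407460)
theorem F413431 : act 4 n140057 = n199772 := d16_0 F413429 (iv4 D139489) (iv5 D65462) D65461 (iv5 F322088) (iv4 F323724) (iv5 F223265) (iv7 F224544) F224543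
theorem F413432 : act 6 n192614 = n199772 := d21_5 (iv5 D187153) (iv1 F283725) (iv5 D100450) D100451 D192614 F413429 (iv1 F372566) (iv5 F371709) (iv6 D187857) F369255
theorem F413433 : act 3 n140058 = n136491 := d20_9 F99880 D129845 F373165 (iv3 F358536) (iv1 F364121) D199772 (iv4 F413431) (iv1 D140057) D140058 (iv1 D136491)
theorem F413434 : act 4 n136491 = n148136 := d5_2 D140058 F413433 (iv3 D148136) (iv4 D69401) (iv3 F101446)
def n199773 : Q := act 6 n111716
theorem D199773 : act 6 n111716 = n199773 := rfl
theorem F413435 : act 2 n199773 = n192731 := d3_1 D199773 F387613 F409084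
theorem F413436 : act 3 n199773 = n192614 := d7_1 D199773 F413432 (iv3 D199772)
theorem F413437 : act 0 n139549 = n199773 := d21_4 (iv5 D90783) D90780 F343864 D139549 (iv6 D199773) (iv5 F409148) (iv1 F409149) F367475 F365334 (iv1 F358823)
def n199774 : Q := act 0 n111717
theorem D199774 : act 0 n111717 = n199774 := rfl
theorem F413438 : act 6 n199774 = n136603 := d21_5 (iv5 D123221) (iv1 F316730) D57818 (iv6 F337488) D199774 (iv5 D136603) (iv1 F219714) (iv5 F100034) (iv6 F219807) (iv1 F342619)
theorem F413439 : act 2 n136619 = n199774 := d3_3 F413438 F219690 D136619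
def n199775 : Q := act 1 n111717
theorem D199775 : act 1 n111717 = n199775 := rfl
theorem F413440 : act 7 n199775 = n136619 := d15_2 (iv0 D199774) D199775 F413439
def n199776 : Q := act 2 n111717
theorem D199776 : act 2 n111717 = n199776 := rfl
theorem F413441 : act 3 n199776 = n136565 := d0_2 D111717 D199776 F366379 F280133 F337485
theorem F413442 : act 4 n199776 = n111741 := d1_2 (iv4 F173430) D199776 (iv2 D111741)
theorem F413443 : act 5 n199776 = n152052 := d2_2 F407532 D199776 F407534
theorem F413444 : act 6 n199776 = n124081 := d3_2 (iv6 F337488) D199776 F198482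
theorem F413445 : act 0 n199776 = n136619 := d21_4 F309898 F312099 D124081 (iv6 F413444) (iv6 D136619) (iv5 D64217) D64213 D136597 F341526 (iv1 F341532)
def n199777 : Q := act 4 n111724
theorem D199777 : act 4 n111724 = n199777 := rfl
theorem F413446 : act 2 n199777 = n111725 := d1_1 D199777 (iv4 D111725) D111724
theorem F413447 : act 7 n199777 = n188708 := d11_2 (iv7 F354411) D199777 F374505
theorem F413448 : act 0 n199777 = n192543 := d18_2 F412181 D199777 (iv4 F412801) (iv5 F412800) F412025 F219322 (iv4 D111612) F172769 D199435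
theorem F413449 : act 1 n199777 = n192542 := d18_6 F380622 (iv4 F366011) (iv1 F396726) (iv4 F410290) F410291 D199777 F412282 (iv0 D188899) D188901
theorem F413450 : act 6 n199777 = n189550 := d21_5 F374366 (iv1 F288671) D186260 (iv6 F387016) (iv1 F413449) F376863 (iv1 F376270) (iv5 F376272) (iv6 D189006) (iv1 F374382)
def n199778 : Q := act 6 n111724
theorem D199778 : act 6 n111724 = n199778 := rfl
theorem F413451 : act 2 n199778 = n111726 := d3_1 D199778 (iv6 D111726) D111724
theorem F413452 : act 4 n199778 = n189550 := d10_1 D199778 (iv6 F413450) (iv4 D199777)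
theorem F413453 : act 7 n199778 = n188655 := d14_2 (iv7 F354411) D199778 (iv6 D188655) (iv7 F142839) D92918
theorem F413454 : act 0 n199778 = n188935 := d21_4 (iv5 F412064) (iv1 F410293) F410291 D199778 F413372 (iv5 D199758) (iv1 D111679) (iv5 F343751) (iv6 D111622) D111619
theorem F413455 : act 5 n188056 = n199778 := d18_9 F413454 (iv4 D188935) (iv1 D92913) (iv4 F143282) (iv5 F376854) (iv4 D188061) (iv0 D90764) (iv4 F139690) D188056
theorem E103789 : n188944 = n188935 := (c15_1 D188944 (iv0 F413454) F413453 F374322)
theorem F413456 : act 0 n188935 = n92921 := (sb E103789 (iv1 D188944))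
theorem E103790 : n188056 = n187898 := ((c2_4 F413455 F413451 (iv5 F364225) (iv2 F371783))).symm
theorem F413457 : act 0 n187898 = n90763 := (sb E103790 (iv1 D188056))
theorem F413458 : act 5 n187898 = n199778 := (sb E103790 F413455)
theorem F413459 : act 1 n199778 = n188930 := d17_8 (iv1 F374321) F374317 (iv1 F375218) (iv5 F375219) (iv4 F376996) (iv5 D188057) (iv0 F413457) F413458 (iv4 D188930)
theorem E103791 : n187946 = n187842 := ((c17_9 F371691 (iv5 F394205) (iv1 F413459) (iv5 F413458) (iv4 D187898) D187899 (iv0 F371784) F214518 D187842 F371906)).symm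
theorem F413460 : act 3 n187842 = n120450 := (sb E103791 F371905)
theorem F413461 : act 4 n187842 = n120503 := (sb E103791 F371906)
theorem F413462 : act 5 n187842 = n93970 := (sb E103791 F371907)
theorem F413463 : act 6 n187842 = n90689 := (sb E103791 (iv6 D187946))
theorem E103792 : n189443 = n189318 := ((c21_5 (iv5 D133400) (iv1 F97645) (iv5 F95765) D93881 D189318 (iv6 D189443) (iv5 F413462) (iv1 D187842) (iv5 F214518) (iv6 D133411) (iv1 F214490))).symm
theorem F413464 : act 6 n189318 = n93970 := (sb E103792 (iv6 D189443))
def n199779 : Q := act 0 n111725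
theorem D199779 : act 0 n111725 = n199779 := rfl
theorem F413465 : act 1 n188708 = n199779 := d15_0 (iv0 D199779) F354419 (iv2 F374504)
theorem F413466 : act 5 n132786 = n199779 := d21_0 (iv1 F413465) F374506 (iv6 D187149) F290704 D90437 (iv5 F142438) F355686 (iv5 D133454) D133455 F355687
theorem F413467 : act 3 n199779 = n135223 := d6_1 F413466 (iv5 D135223) (iv3 F213269)
theorem F413468 : act 6 n199779 = n132789 := d12_2 D132786 F413466 (iv5 D132789) (iv6 D62321) D62320
def n199780 : Q := act 1 n111725
theorem D199780 : act 1 n111725 = n199780 := rfl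
theorem F413469 : act 1 n199780 = n188708 := d15_1 D199780 (iv7 F413447) F413446
theorem F413470 : act 4 n199594 = n199780 := d20_6 (iv4 D51140) F39018 (iv4 F39223) (iv3 F81181) D111466 D199594 (iv1 D199780) (iv4 D111725) (iv3 D51515) (iv1 F80670)
theorem F413471 : act 2 n199780 = n192542 := d1_1 F413470 F412282 (iv2 F412795)
theorem F413472 : act 7 n199780 = n192543 := d11_2 F412798 F413470 (iv4 F412801)
theorem F413473 : act 0 n188646 = n199594 := d18_0 F413470 (iv1 D199780) (iv4 D111725) (iv5 F171651) F171650 D195328 (iv4 F396724) D199583 F412766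
theorem F413474 : act 2 n192543 = n199779 := d15_3 (iv0 D199779) D199780 F413472
theorem F413475 : act 7 n192542 = n199779 := d4_2 (iv7 F413472) F413471 (iv2 F413474)
def n199781 : Q := act 5 n111725
theorem D199781 : act 5 n111725 = n199781 := rfl
theorem F413476 : act 3 n199781 = n134499 := d6_1 D199781 F218230 (iv3 F354329)
theorem F413477 : act 7 n199781 = n188739 := d13_2 (iv7 F354419) D199781 F374653
theorem F413478 : act 4 n141291 = n199781 := d16_2 F224302 D141291 (iv5 D199781) (iv4 D111725) (iv5 F171651) F171650 (iv5 F219360) F219361 F364297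
theorem F413479 : act 0 n188733 = n199781 := d21_10 (iv5 D199781) D199779 (iv5 F413466) (iv6 D132786) (iv1 F209530) F324651 F114430 (iv1 F68148) D92732 D188733
theorem F413480 : act 6 n199781 = n134498 := d21_5 F114430 (iv1 F68148) D92732 D188733 F413479 (iv5 F365737) (iv1 F376293) (iv5 F376294) (iv6 D146857) (iv1 F114433)
def n199782 : Q := act 6 n111725
theorem D199782 : act 6 n111725 = n199782 := rfl
theorem F413481 : act 2 n199782 = n189550 := d3_1 D199782 (iv6 F413450) F413446
theorem F413482 : act 4 n199782 = n111726 := d10_1 D199782 (iv6 D111726) D111725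
theorem F413483 : act 5 n199782 = n189270 := d12_1 D199782 F376274 F365737 (iv6 F413480) (iv5 D199781)
theorem F413484 : act 7 n199782 = n188709 := d14_2 (iv7 F354419) D199782 (iv6 D188709) F142844 D100365
theorem F413485 : act 1 n189549 = n199782 := d15_1 D189549 F413484 F374507
theorem F413486 : act 1 n199782 = n189548 := d15_1 F413485 F376862 (iv2 F411628)
theorem F413487 : act 4 n188925 = n189549 := d18_7 (iv1 F376276) D189545 (iv1 F376931) (iv4 D188940) (iv5 D92914) (iv4 F143282) D188925 F413485 F413483
theorem F413488 : act 4 n189548 = n188924 := d18_7 (iv1 F387431) F371764 (iv1 F370686) F376937 F364225 (iv4 F413482) F413486 (iv0 D188924) (iv5 F376854)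
theorem F413489 : act 3 n188924 = n135420 := d5_1 F413488 (iv4 D135420) (iv3 F108171) (iv4 F238207) F376860
def n199783 : Q := act 0 n111726
theorem D199783 : act 0 n111726 = n199783 := rfl
theorem F413490 : act 4 n199783 = n188653 := d18_1 D199783 (iv1 D188653) (iv4 F374314) (iv5 F375380) (iv4 F376852) (iv0 D187564) (iv4 F370822) (iv0 F377005) F364225
theorem E103793 : n188933 = n188653 := ((c20_3 F413482 D199783 F413490 F376565 (iv1 D187550) (iv3 F370759) F370760 F215397 (iv4 F238207) F376860 (iv1 F413486))).symm
theorem F413491 : act 2 n188653 = n92913 := (sb E103793 F375214)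
theorem F413492 : act 3 n188653 = n187550 := (sb E103793 F376565)
theorem F413493 : act 7 n188653 = n92912 := (sb E103793 (iv7 D188933))
theorem F413494 : act 1 n188655 = n199783 := d15_0 (iv0 D199783) (iv7 F354416) (iv2 F374322)
theorem F413495 : act 7 n188930 = n199783 := d11_2 F413493 D188930 F413490
theorem E103794 : n188928 = n188652 := (c15_4 (iv0 D188652) D188653 F413493 D188928)
theorem F413496 : act 2 n188652 = n92912 := (sb E103794 (iv2 D188928))
theorem F413497 : act 7 n188652 = n92913 := (sb E103794 (iv7 F375213))
theorem F413498 : act 2 n199783 = n188935 := d15_3 (iv0 F413454) F413459 F413495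
def n199784 : Q := act 1 n111726
theorem D199784 : act 1 n111726 = n199784 := rfl
theorem F413499 : act 1 n199784 = n188655 := d15_1 D199784 (iv7 F413453) F413451
theorem F413500 : act 7 n199784 = n188935 := d15_2 (iv0 D199783) D199784 (iv2 F413498)
theorem F413501 : act 2 n188930 = n199784 := d4_3 F413500 (iv2 F413498) (iv7 F413495)
theorem F413502 : act 4 n188652 = n199784 := d11_3 F413500 (iv4 D188935) (iv7 F413497)
def n199785 : Q := act 6 n111735
theorem D199785 : act 6 n111735 = n199785 := rfl
theorem F413503 : act 4 n199785 = n134353 := d10_1 D199785 F350361 (iv4 F345075)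
theorem F413504 : act 0 n199785 = n134296 := d21_10 (iv5 F406274) (iv1 F413109) F413106 F357730 (iv1 F405904) F180161 (iv5 D53391) D53389 (iv5 F337425) D199785
def n199786 : Q := act 3 n111736
theorem D199786 : act 3 n111736 = n199786 := rfl
theorem F413505 : act 5 n199786 = n115788 := d6_2 (iv5 F337429) D199786 (iv3 D115788)
theorem F413506 : act 0 n199786 = n194344 := d19_4 D90780 F343864 (iv4 F345077) D199786 (iv5 D194344) (iv4 D103237) F75122 (iv1 F291226) (iv5 D43736) (iv4 D20716) (iv3 D9817) (iv1 D4434) (iv5 D1858) F1823 (iv3 F3076) D4283 D9451 D20064 D42507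
def n199787 : Q := act 3 n111739
theorem D199787 : act 3 n111739 = n199787 := rfl
theorem F413507 : act 5 n199787 = n139433 := d6_2 (iv5 F395998) D199787 (iv3 D139433)
def n199788 : Q := act 4 n111739
theorem D199788 : act 4 n111739 = n199788 := rfl
theorem F413508 : act 2 n199788 = n139105 := d1_1 D199788 F410218 (iv2 F410220)
theorem F413509 : act 6 n139067 = n199788 := d3_0 F413508 (iv6 D139105) (iv2 F222247)
def n199789 : Q := act 6 n111739
theorem D199789 : act 6 n111739 = n199789 := rfl
theorem F413510 : act 2 n199789 = n124084 := d3_1 D199789 F410219 (iv2 F410220)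
theorem F413511 : act 4 n199789 = n139067 := d10_1 D199789 F413509 (iv4 D199788)
theorem F413512 : act 0 n199789 = n124081 := d21_10 (iv5 D124081) (iv1 F197402) F337494 (iv6 F387690) F387691 (iv6 D139447) (iv5 D65444) D65441 (iv5 F395998) D199789
theorem F413513 : act 1 n199789 = n123173 := d15_1 (iv0 F413512) F197405 (iv2 F198482)
theorem F413514 : act 7 n199789 = n124083 := d15_2 (iv0 F342604) (iv0 F413512) (iv2 F359388)
def n199790 : Q := act 3 n111740
theorem D199790 : act 3 n111740 = n199790 := rfl
theorem F413515 : act 5 n199790 = n139438 := d6_2 (iv5 F410209) D199790 (iv3 D139438)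
theorem F413516 : act 6 n199790 = n191953 := d7_2 (iv6 F410210) D199790 (iv3 F385322)
theorem F413517 : act 2 n192709 = n199790 := d3_3 F413516 F384975 D192709
theorem F413518 : act 0 n130950 = n199790 := d21_7 F384840 F367128 (iv5 F372278) (iv6 F372280) F349775 (iv6 F339880) F330532 F413515 (iv6 F357357) (iv1 F384842)
def n199791 : Q := act 4 n111740
theorem D199791 : act 4 n111740 = n199791 := rfl
theorem F413519 : act 6 n199791 = n193074 := d10_2 (iv6 F410210) D199791 (iv4 F388669)
theorem F413520 : act 7 n199791 = n139105 := d11_2 F410216 D199791 F410218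
def n199792 : Q := act 3 n111743
theorem D199792 : act 3 n111743 = n199792 := rfl
theorem F413521 : act 4 n199792 = n198329 := d5_2 F412685 D199792 (iv3 F407631) F241641 F412687
theorem F413522 : act 5 n199792 = n135916 := d6_2 (iv5 F357722) D199792 (iv3 D135916)
theorem F413523 : act 6 n199792 = n191960 := d21_3 (iv5 F391931) (iv1 F391934) (iv5 F413522) (iv1 D191960) (iv6 D99382) F291849 (iv1 F65987) D42539 D90830 D188126
theorem F413524 : act 2 n192736 = n199792 := d3_3 F413523 F385007 D192736
theorem F413525 : act 2 n135916 = n194063 := d2_3 F391920 F413524 F413522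
theorem F413526 : act 7 n194062 = n135916 := d15_2 F391918 F391933 F413525
theorem F413527 : act 3 n135910 = n194062 := d8_3 F413526 (iv3 D135916) F218634
theorem F413528 : act 0 n192759 = n199792 := d18_0 F413521 (iv1 F407630) (iv4 D193660) (iv5 D102179) D102178 F353347 (iv4 F137270) D187108 (iv5 F387685)
def n199793 : Q := act 6 n111743
theorem D199793 : act 6 n111743 = n199793 := rfl
theorem F413529 : act 3 n199793 = n191960 := d7_1 D199793 (iv6 F413523) (iv3 D199792)
theorem F413530 : act 4 n199793 = n153178 := d10_1 D199793 (iv6 F412686) F412685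
theorem F413531 : act 7 n199793 = n192731 := d14_2 (iv7 F410581) D199793 F387613 (iv7 F409083) F410576
theorem F413532 : act 0 n199793 = n139549 := d21_4 (iv5 F341515) (iv1 F218633) (iv5 F357722) D199793 (iv6 D139549) (iv5 F343864) F369103 (iv5 F386302) (iv6 F386306) (iv1 F366146)
def n199794 : Q := act 3 n111744
theorem D199794 : act 3 n111744 = n199794 := rfl
theorem F413533 : act 5 n199794 = n135911 := d6_2 (iv5 F332958) D199794 (iv3 D135911)
def n199795 : Q := act 0 n111748
theorem D199795 : act 0 n111748 = n199795 := rfl
theorem F413534 : act 5 n199795 = n198329 := d19_1 D199795 (iv4 F413521) (iv3 D199792) F357721 (iv5 D136357) F99722 (iv3 D63822) (iv1 F78962) (iv5 F78963) (iv4 F78964) (iv3 F167075) F167076 (iv5 F167126) D197318 F403949 F390553 F332959 (iv4 D111749) D111748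
def n199796 : Q := act 2 n111748
theorem D199796 : act 2 n111748 = n199796 := rfl
theorem F413535 : act 3 n199796 = n188951 := d0_2 D111748 D199796 (iv2 F412330) (iv3 D199483) F362236
theorem F413536 : act 6 n199796 = n114291 := d3_2 (iv6 F409310) D199796 F178149
theorem F413537 : act 4 n199796 = n114292 := d16_0 F178154 (iv4 F390716) (iv5 F390717) (iv4 D136510) (iv5 F329869) F345432 (iv5 F412343) F412345 D199796
theorem F413538 : act 5 n193054 = n199796 := d16_1 (iv4 F388607) F413537 F178154 (iv4 F390716) (iv5 F390717) (iv4 D136510) (iv5 F329869) F372482 (iv2 F372480)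
def n199797 : Q := act 4 n111748
theorem D199797 : act 4 n111748 = n199797 := rfl
theorem F413539 : act 2 n199797 = n114292 := d1_1 D199797 (iv4 F413537) (iv2 D199796)
theorem F413540 : act 6 n199797 = n114254 := d10_2 (iv6 F409310) D199797 F178085
theorem F413541 : act 3 n119611 = n199797 := d7_3 F413540 F178084 D119611
theorem F413542 : act 5 n189298 = n199797 := d12_5 F413540 F178086 F83331 D93873 D189298
def n199798 : Q := act 5 n111748
theorem D199798 : act 5 n111748 = n199798 := rfl
theorem F413543 : act 2 n199798 = n193054 := d2_1 D199798 F413538 (iv2 D199796)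
theorem F413544 : act 3 n199798 = n111750 := d6_1 D199798 (iv5 D111750) D111748
theorem F413545 : act 6 n199798 = n192009 := d12_2 (iv6 F409310) D199798 F385186 (iv6 F361662) (iv5 F242890)
theorem F413546 : act 7 n199798 = n180412 := d13_2 F412345 D199798 (iv5 F412343)
theorem F413547 : act 4 n199798 = n188147 := d17_4 (iv1 F407232) (iv5 F413170) F413171 D199798 F372478 (iv0 D135882) D135885 (iv0 F352851) D193660
theorem F413548 : act 1 n199798 = n187989 := d17_6 D92979 D189005 (iv1 F377605) F413542 (iv4 D199797) D199798 (iv5 F376994) F376993 F143394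
def n199799 : Q := act 3 n111749
theorem D199799 : act 3 n111749 = n199799 := rfl
theorem F413549 : act 4 n199799 = n119611 := d5_2 D111749 D199799 F413541 (iv4 D199797) (iv3 D111748)
theorem F413550 : act 5 n199799 = n136458 := d6_2 F332959 D199799 (iv3 F245119)
theorem F413551 : act 0 n136486 = n199799 := d20_4 (iv4 F161920) F161922 (iv4 F99871) D136486 (iv3 D199799) (iv4 D111749) (iv1 F172808) (iv4 F332964) F219451 F99725
theorem F413552 : act 2 n152576 = n199799 := d2_3 F413550 (iv2 F400779) (iv5 F412018)
theorem F413553 : act 6 n199799 = n119610 := d21_3 F219504 D136458 (iv5 F413550) F188647 D152569 (iv5 F393388) (iv1 D194480) F340060 D188407 F388754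
def n199800 : Q := act 6 n111749
theorem D199800 : act 6 n111749 = n199800 := rfl
theorem F413554 : act 3 n199800 = n119610 := d7_1 D199800 (iv6 F413553) (iv3 D199799)
theorem F413555 : act 4 n199800 = n111751 := d10_1 D199800 (iv6 D111751) D111749
theorem F413556 : act 7 n199800 = n152291 := d14_2 (iv7 F362235) D199800 F407510 F407505 F351249
theorem F413557 : act 5 n152871 = n199800 := d6_0 F413554 F188645 D152871
theorem F413558 : act 0 n152871 = n139377 := d21_7 (iv5 D51117) (iv1 F40906) D53449 D115923 (iv1 F362242) D199800 (iv5 F413557) (iv5 D139377) (iv6 D65415) (iv1 F80637)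
def n199801 : Q := act 0 n111750
theorem D199801 : act 0 n111750 = n199801 := rfl
theorem F413559 : act 5 n199801 = n135925 := d17_3 D51521 D111750 D199801 (iv4 D135925) (iv5 D63911) D63909 (iv5 F357722) (iv0 D111743) F81285
theorem F413560 : act 1 n111755 = n199801 := d15_0 (iv0 D199801) F345272 (iv2 F345268)
theorem F413561 : act 4 n199801 = n198125 := d17_9 F407588 F363356 F332969 (iv5 D109206) F79762 (iv5 F39268) D51522 D111755 F413560
theorem F413562 : act 6 n141829 = n199801 := d21_3 D109189 D198317 F407585 (iv1 F413560) F345270 F112785 F58381 D75227 (iv6 F363343) (iv1 D109188)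
theorem F413563 : act 2 n199801 = n141940 := d3_1 F413562 (iv6 D141940) (iv2 F406941)
theorem F413564 : act 7 n199801 = n180418 := d14_2 (iv7 F406943) F413562 F351230 F362686 (iv6 D141945)
def n199802 : Q := act 1 n111750
theorem D199802 : act 1 n111750 = n199802 := rfl
theorem F413565 : act 1 n199802 = n111755 := d15_1 D199802 (iv7 F412336) F412334
theorem F413566 : act 7 n199802 = n141940 := d15_2 (iv0 D199801) D199802 (iv2 F413563)
theorem F413567 : act 3 n197641 = n199802 := d20_3 (iv4 D124344) (iv1 F301599) (iv4 F405152) (iv1 D199802) (iv3 F413544) F413547 (iv1 F372479) (iv4 F390625) F390624 F303683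
theorem F413568 : act 2 n199802 = n180418 := d0_1 F413567 (iv3 F360003) (iv2 F398955) F398956 F405153
theorem F413569 : act 6 n188149 = n199802 := d3_0 F413568 F351230 F372490
def n199803 : Q := act 4 n111750
theorem D199803 : act 4 n111750 = n199803 := rfl
theorem F413570 : act 2 n199803 = n157939 := d1_1 D199803 (iv4 F412338) F412334
theorem F413571 : act 5 n199803 = n134753 := d9_2 D111750 D199803 F349769 (iv5 D156013) D156012 F345273 (iv4 D111754) D111755 F345269 (iv5 F130011) (iv4 F345266) (iv5 D156018) D156017 F332959 (iv4 D111749)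
theorem F413572 : act 6 n199803 = n199484 := d10_2 (iv6 F345271) D199803 F412338
theorem F413573 : act 7 n199803 = n157863 := d11_2 (iv7 F345272) D199803 F248779
theorem F413574 : act 0 n199803 = n138762 := d17_0 F221899 D156306 F350387 F168622 D115784 F405904 (iv5 F413559) (iv0 D199801) D199803
theorem F413575 : act 1 n199803 = n157937 := d18_8 (iv1 F245629) (iv4 F245625) (iv1 F404220) (iv4 F406548) (iv5 F406923) (iv4 F413561) (iv0 D199801) D199803 F357951
def n199804 : Q := act 5 n111751
theorem D199804 : act 5 n111751 = n199804 := rfl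
theorem F413576 : act 3 n199804 = n154710 := d6_1 D199804 (iv5 F242890) (iv3 F409309)
theorem F413577 : act 6 n199804 = n156569 := d12_2 D111751 D199804 F349766 (iv6 F345271) (iv5 D111750)
theorem F413578 : act 7 n199804 = n178169 := d13_2 F409307 D199804 (iv5 F409306)
theorem F413579 : act 0 n199804 = n198055 := d21_7 (iv5 D25024) (iv1 D11882) D11884 D25033 D51521 D111751 D199804 F406602 (iv6 D111631) (iv1 F81269)
theorem F413580 : act 0 n197642 = n199804 := d21_7 F172805 (iv1 F168626) D109216 D198331 (iv1 F407639) (iv6 F412431) F412430 (iv5 D199804) (iv6 D111751) (iv1 F172808)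
def n199805 : Q := act 2 n111753
theorem D199805 : act 2 n111753 = n199805 := rfl
theorem F413581 : act 4 n199805 = n156608 := d1_2 F362332 D199805 (iv2 F314710)
theorem F413582 : act 5 n199805 = n184551 := d2_2 (iv5 F362328) D199805 F366882
theorem F413583 : act 7 n199805 = n188951 := d4_2 F412328 D199805 (iv2 F412330)
theorem F413584 : act 1 n199805 = n156324 := d15_0 (iv0 F412332) F412328 D199805
def n199806 : Q := act 3 n111754
theorem D199806 : act 3 n111754 = n199806 := rfl
theorem F413585 : act 4 n199806 = n142039 := d5_2 D111754 D199806 F351890 F362332 (iv3 D111753)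
theorem F413586 : act 6 n199806 = n140579 := d7_2 F407459 D199806 (iv3 F407455)
theorem F413587 : act 0 n199806 = n193276 := d20_4 F332964 (iv1 F172807) D111754 D199806 F389381 F364779 D198329 (iv4 F413521) (iv3 D199792) F357721
theorem F413588 : act 0 n193274 = n199806 := d20_4 (iv4 F351903) (iv1 F385194) (iv4 F385193) (iv3 F389374) (iv3 D199806) (iv4 D111754) (iv1 D51522) (iv4 F81285) (iv3 F173437) F337456
def n199807 : Q := act 5 n111757
theorem D199807 : act 5 n111757 = n199807 := rfl
theorem F413589 : act 2 n199807 = n196430 := d2_1 D199807 (iv5 F410552) F410549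
theorem F413590 : act 6 n199807 = n198332 := d12_2 D111757 D199807 (iv5 D198332) (iv6 D109218) (iv5 F81286)
theorem F413591 : act 7 n199807 = n111760 := d13_2 (iv7 F173442) D199807 (iv5 D111760)
theorem F413592 : act 0 n123893 = n199807 := d21_1 D123893 (iv5 D199807) (iv6 D111757) (iv1 F172803) F345424 F325634 (iv1 F325628) D140707 F364127 (iv1 D123891)
theorem F413593 : act 1 n196429 = n199807 := d15_1 D196429 F413591 F365203
def n199808 : Q := act 3 n111758
theorem D199808 : act 3 n111758 = n199808 := rfl
def n199809 : Q := act 3 n111759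
theorem D199809 : act 3 n111759 = n199809 := rfl
def n199810 : Q := act 0 n111760
theorem D199810 : act 0 n111760 = n199810 := rfl
theorem F413594 : act 5 n199810 = n123131 := d17_3 (iv1 D111759) D111760 D199810 (iv4 D123131) (iv5 D57295) (iv0 F342785) (iv5 F98216) D134015 F363105
theorem F413595 : act 1 n196430 = n199810 := d15_0 (iv0 D199810) (iv7 F413591) F413589
theorem F413596 : act 2 n123893 = n199810 := d2_3 F413594 F197313 D123893
theorem F413597 : act 6 n199810 = n195911 := d21_3 (iv5 F401095) F364123 (iv5 F413594) (iv1 D195911) (iv6 D106426) F77664 D59116 F166899 D107081 D196566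
theorem F413598 : act 5 n195911 = n179786 := d12_1 F413597 (iv6 D179786) F304542 (iv6 F197314) (iv5 F413594)
theorem F413599 : act 7 n196429 = n199810 := d15_2 (iv0 F365204) D196429 (iv2 F413596)
def n199811 : Q := act 1 n111760
theorem D199811 : act 1 n111760 = n199811 := rfl
theorem F413600 : act 1 n199811 = n196430 := d15_1 D199811 (iv7 D196430) (iv2 F365203)
theorem F413601 : act 7 n199811 = n123893 := d15_2 (iv0 D199810) D199811 F413596
theorem F413602 : act 5 n123894 = n199811 := d21_6 F81061 (iv1 F80967) (iv5 F81265) D111631 D199721 (iv6 F413256) (iv1 D199811) (iv5 D111760) (iv6 D51524) (iv1 F81059)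
theorem F413603 : act 2 n196429 = n199811 := d4_3 F413601 F413596 (iv7 F413599)
def n199812 : Q := act 4 n111761
theorem D199812 : act 4 n111761 = n199812 := rfl
theorem F413604 : act 3 n199812 = n111784 := d5_1 D199812 (iv4 F173493) (iv3 F170580) (iv4 F166448) D111761
theorem F413605 : act 7 n199812 = n198336 := d11_2 (iv7 F173444) D199812 (iv4 D198336)
theorem F413606 : act 0 n199812 = n198212 := d20_7 (iv4 D110295) (iv1 D50855) (iv4 F80211) F80210 D51525 D111761 D199812 F407243 (iv3 F398627) F362593
def n199813 : Q := act 6 n111761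
theorem D199813 : act 6 n111761 = n199813 := rfl
theorem F413607 : act 3 n199813 = n111763 := d7_1 D199813 (iv6 D111763) D111761
theorem F413608 : act 0 n194854 = n199813 := d20_4 (iv4 D194824) F160314 D104648 D194854 F413607 (iv4 F222469) F222470 F202184 (iv3 F412984) (iv1 F412988)
theorem F413609 : act 4 n174647 = n199813 := d20_8 (iv4 D139391) (iv1 F169016) (iv4 F407159) F407163 (iv1 F407132) F407128 F395264 (iv1 F395263) F413607 (iv1 F223584)
theorem F413610 : act 6 n199812 = n174647 := d10_0 F413609 (iv6 D199813) D199812
def n199814 : Q := act 6 n111764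
theorem D199814 : act 6 n111764 = n199814 := rfl
theorem F413611 : act 3 n199814 = n111766 := d7_1 D199814 (iv6 D111766) D111764
theorem F413612 : act 5 n199814 = n144401 := d21_6 (iv5 F405882) (iv1 F405885) (iv5 D109081) D109082 F358877 D199814 F359814 F352246 (iv6 D140406) (iv1 F176730)
def n199815 : Q := act 3 n111767
theorem D199815 : act 3 n111767 = n199815 := rfl
theorem F413613 : act 7 n199815 = n179254 := d8_2 F363572 D199815 F360001
theorem F413614 : act 4 n179257 = n199815 := d20_2 D195884 (iv1 F398615) (iv3 D199815) F330479 (iv3 D58751) F45128 (iv1 F26100) D23991 D49165 D106406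
theorem F413615 : act 1 n199815 = n125500 := d18_8 (iv1 F412199) D199812 F413606 F407243 (iv5 D195890) D195889 (iv0 F398601) F413614 F412200
theorem F413616 : act 0 n199815 = n128361 := d20_7 (iv4 D27814) (iv1 F22067) (iv4 F29967) (iv3 F60393) F351393 (iv3 F279180) F413614 F206483 (iv3 D60429) F46266
def n199816 : Q := act 4 n111767
theorem D199816 : act 4 n111767 = n199816 := rfl
theorem F413617 : act 2 n199816 = n196428 := d1_1 D199816 (iv4 D196428) F363571
theorem F413618 : act 3 n199816 = n155998 := d5_1 D199816 F359957 (iv3 F279180) F413614 (iv3 D199815)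
theorem F413619 : act 7 n199816 = n156184 := d11_2 F363572 D199816 F245449
theorem F413620 : act 5 n199816 = n196397 := d16_1 D199816 (iv4 D196397) F332222 (iv4 F93410) D126312 (iv4 F412383) F412384 F363568 F363571
theorem F413621 : act 0 n199816 = n156016 := d18_2 D111767 D199816 F358700 (iv5 D140391) F101577 F101067 (iv4 F166448) (iv0 D51525) D51527
theorem F413622 : act 1 n199816 = n199616 := d18_6 D198352 F407719 F222464 (iv4 F412703) F412702 D199816 (iv4 D199616) (iv0 F358696) (iv5 F358697)
def n199817 : Q := act 4 n111768
theorem D199817 : act 4 n111768 = n199817 := rfl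
theorem F413623 : act 2 n199817 = n156184 := d1_1 D199817 F245449 (iv2 F363567)
theorem F413624 : act 3 n199817 = n156215 := d5_1 D199817 (iv4 F393713) (iv3 D194570) (iv4 F363563) (iv3 F363565)
theorem F413625 : act 5 n199817 = n196400 := d9_2 F412384 D199817 (iv4 D196400) F332218 F166448 D139279 (iv4 F412703) F412702 D199816 F413620 (iv4 D196397) F332222 (iv4 F93410) D126312 (iv4 F412383)
theorem F413626 : act 6 n199817 = n195906 := d10_2 F363566 D199817 (iv4 D195906)
theorem F413627 : act 7 n199817 = n196428 := d11_2 (iv7 F363568) D199817 (iv4 D196428)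
theorem F413628 : act 0 n199817 = n199616 := d18_2 (iv1 F330478) D199817 (iv4 D199616) (iv5 D111498) F81197 (iv0 F166162) F93410 F81288 F330480
theorem F413629 : act 1 n199817 = n156016 := d18_6 (iv1 F222465) (iv4 F176738) F203096 (iv4 F412383) F412384 D199817 F358700 (iv0 F407753) (iv5 D198359)
theorem F413630 : act 0 n194231 = n194570 := d20_1 (iv4 F392429) F393713 (iv3 F413624) F413628 F412864 F345266 (iv1 F345279) F345282 (iv3 F245311) (iv1 F245315)
theorem F413631 : act 0 n191115 = n193695 := d21_1 (iv5 F393714) (iv5 D193695) (iv6 D102239) F337135 F106430 (iv5 D47766) D47764 D103023 D194231 F413630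
def n199818 : Q := act 6 n111770
theorem D199818 : act 6 n111770 = n199818 := rfl
theorem F413632 : act 3 n199818 = n111772 := d7_1 D199818 (iv6 D111772) D111770
theorem F413633 : act 4 n199818 = n189791 := d10_1 D199818 F377765 F176711
theorem F413634 : act 5 n199818 = n177056 := d21_6 D111400 (iv1 F411994) F411996 F348768 (iv1 F343585) D199818 (iv1 F366385) (iv5 F377786) (iv6 F377788) (iv1 F172626)
theorem F413635 : act 0 n140738 = n199818 := d17_0 F413634 (iv1 F366385) (iv5 F377786) (iv4 D189796) (iv5 D95267) F126195 (iv5 F347410) F347409 (iv4 F324363)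
def n199819 : Q := act 0 n111771
theorem D199819 : act 0 n111771 = n199819 := rfl
theorem F413636 : act 5 n199819 = n198352 := d17_1 D199819 (iv1 F407722) D198359 F407751 F245249 F245040 (iv5 F245039) D155984 F332220
theorem F413637 : act 3 n199819 = n197453 := d20_5 (iv4 D125181) (iv1 F201132) F312964 (iv3 F332224) D199819 (iv4 F404404) F404407 F312826 (iv3 D157183) (iv1 F314350)
theorem F413638 : act 2 n198350 = n199819 := d15_3 (iv0 D199819) (iv0 F406258) (iv7 F407712)
theorem F413639 : act 1 n111777 = n199819 := d15_0 (iv0 D199819) F173457 (iv2 F173469)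
theorem F413640 : act 7 n199819 = n198349 := d15_2 F406259 F413639 (iv2 F407709)
def n199820 : Q := act 6 n111771
theorem D199820 : act 6 n111771 = n199820 := rfl
theorem F413641 : act 2 n199820 = n198357 := d3_1 D199820 (iv6 D198357) (iv2 F173456)
theorem F413642 : act 3 n199820 = n145374 := d7_1 D199820 F348817 (iv3 F332224)
theorem F413643 : act 4 n199820 = n115409 := d10_1 D199820 F359948 F332220
theorem F413644 : act 7 n145378 = n199820 := d8_0 F413642 F348819 D145378
def n199821 : Q := act 5 n111776
theorem D199821 : act 5 n111776 = n199821 := rfl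
theorem F413645 : act 2 n199821 = n197456 := d2_1 D199821 F404417 F389725
theorem F413646 : act 3 n199821 = n111777 := d6_1 D199821 (iv5 D111777) D111776
theorem F413647 : act 7 n199821 = n198356 := d13_2 (iv7 F173468) D199821 (iv5 D198356)
def n199822 : Q := act 6 n111777
theorem D199822 : act 6 n111777 = n199822 := rfl
theorem F413648 : act 2 n199822 = n198351 := d3_1 D199822 (iv6 D198351) (iv2 F173469)
theorem F413649 : act 5 n199822 = n134205 := d12_1 D199822 (iv6 F216242) (iv5 F336739) (iv6 D111778) D111777
theorem F413650 : act 0 n199822 = n116123 := d21_4 F358693 (iv1 F166185) D111777 D199822 (iv6 F344435) (iv5 D124410) D124407 F301181 (iv6 F351460) (iv1 F358691)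
theorem F413651 : act 1 n199822 = n116117 := d15_1 (iv0 F413650) (iv7 F400277) F400276
def n199823 : Q := act 5 n111784
theorem D199823 : act 5 n111784 = n199823 := rfl
theorem F413652 : act 2 n199823 = n198361 := d2_1 D199823 (iv5 D198361) (iv2 F173494)
theorem F413653 : act 7 n199823 = n198363 := d13_2 (iv7 F173492) D199823 (iv5 D198363)
def n199824 : Q := act 6 n111784
theorem D199824 : act 6 n111784 = n199824 := rfl
theorem F413654 : act 2 n199824 = n198362 := d3_1 D199824 (iv6 D198362) (iv2 F173494)
theorem F413655 : act 3 n199824 = n174647 := d7_1 D199824 (iv6 F413610) F413604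
theorem F413656 : act 4 n199824 = n197311 := d10_1 D199824 F403924 F173493
theorem F413657 : act 7 n199824 = n198683 := d14_2 (iv7 F173492) D199824 F408856 F392554 F340589
theorem F413658 : act 1 n198581 = n199824 := d15_1 (iv0 F408388) F413657 (iv2 F408857)
theorem F413659 : act 1 n199824 = n198582 := d15_1 F413658 F408391 (iv2 F408384)
def n199825 : Q := act 0 n111785
theorem D199825 : act 0 n111785 = n199825 := rfl
theorem F413660 : act 5 n199825 = n198409 := d17_3 (iv1 D111784) D111785 D199825 F407928 (iv5 D125944) F166192 F80269 D110338 F173493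
theorem F413661 : act 2 n198365 = n199825 := d15_3 (iv0 D199825) (iv0 F354549) (iv7 F407773)
theorem F413662 : act 1 n111959 = n199825 := d15_0 (iv0 D199825) F173496 (iv2 F173981)
theorem F413663 : act 7 n199825 = n198364 := d15_2 (iv0 F354550) F413662 (iv2 F407770)
theorem F413664 : act 6 n156876 = n199825 := d21_3 (iv5 D157229) F167265 F246899 (iv1 F413662) F365094 F365093 F347193 (iv5 F226899) (iv6 F340028) (iv1 F247444)
theorem F413665 : act 3 n199155 = n199825 := d8_3 F413663 (iv3 F407771) (iv7 F410920)
theorem F413666 : act 6 n190436 = n199155 := d7_0 F413665 (iv6 F413664) (iv3 F404372)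
def n199826 : Q := act 4 n111785
theorem D199826 : act 4 n111785 = n199826 := rfl
theorem F413667 : act 2 n199826 = n198531 := d1_1 D199826 (iv4 D198531) (iv2 F173495)
theorem F413668 : act 6 n199826 = n191115 := d10_2 F363591 D199826 (iv4 D191115)
theorem F413669 : act 7 n199826 = n198366 := d11_2 (iv7 F173496) D199826 (iv4 D198366)
def n199827 : Q := act 0 n111795
theorem D199827 : act 0 n111795 = n199827 := rfl
theorem F413670 : act 4 n199827 = n195111 := d18_3 D51546 D111795 D199827 F395818 F203500 (iv0 F168173) (iv4 D63837) (iv0 D30117) (iv5 F39294)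
theorem F413671 : act 2 n111862 = n199827 := d15_3 (iv0 D199827) (iv0 F173528) (iv7 F173715)
theorem F413672 : act 1 n111796 = n199827 := d15_0 (iv0 D199827) F173527 (iv2 F173529)
theorem F413673 : act 7 n199827 = n111798 := d15_2 (iv0 F173531) F413672 F173535
theorem F413674 : act 6 n111976 = n199827 := d14_5 F413673 (iv6 D111798) F81339 D64518 (iv7 F174022)
theorem F413675 : act 5 n194220 = n199827 := d16_7 F100455 F76579 (iv4 F48424) D63860 D135809 (iv5 F377644) (iv4 F392399) F413673 F173535
theorem F413676 : act 3 n199827 = n164075 := d6_1 F413675 (iv5 F380920) D194220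
theorem F413677 : act 7 n164075 = n158032 := d8_2 (iv7 F413673) F413676 (iv3 F365577)
theorem E103795 : n194214 = n172107 := ((c13_2 F413677 (iv5 F365634) (iv7 F392393) F380920)).symm
theorem F413678 : act 2 n172107 = n102999 := (sb E103795 (iv2 D194214))
theorem F413679 : act 7 n172107 = n103000 := (sb E103795 (iv7 F392393))
theorem F413680 : act 2 n158032 = n164074 := d15_3 (iv0 D164074) D164075 F413677
theorem F413681 : act 2 n164075 = n158031 := d15_3 (iv0 D158031) D158032 (iv7 F413677)
theorem F413682 : act 5 n158031 = n194219 := d2_2 F380920 F413681 F392397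
theorem F413683 : act 7 n158031 = n164074 := d4_2 (iv7 F413677) F413681 (iv2 F413680)
theorem E103796 : n194217 = n164074 := ((c13_1 F413683 (iv5 D194217) D194219 (iv5 F413682))).symm
theorem F413684 : act 5 n164074 = n102999 := (sb E103796 (iv5 D194217))
theorem F413685 : act 5 n194203 = n189472 := d17_1 D194203 (iv1 F376644) (iv5 F376627) F376626 F373775 F258569 F413684 (iv0 D102999) (iv4 F158255)
theorem E103797 : n194219 = n172106 := (c15_4 (iv0 D172106) D172107 F413679 (iv2 F392397))
theorem F413686 : act 2 n172106 = n103000 := (sb E103797 F392397)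
theorem F413687 : act 5 n172106 = n158031 := (sb E103797 (iv5 F413682))
theorem F413688 : act 7 n172106 = n102999 := (sb E103797 (iv7 D194219))
def n199828 : Q := act 5 n111795
theorem D199828 : act 5 n111795 = n199828 := rfl
theorem F413689 : act 2 n199828 = n111864 := d2_1 D199828 (iv5 D111864) (iv2 F173525)
theorem F413690 : act 3 n199828 = n189716 := d6_1 D199828 F377502 F364546
theorem F413691 : act 7 n199828 = n111870 := d13_2 (iv7 F173527) D199828 (iv5 D111870)
theorem F413692 : act 4 n199828 = n189997 := d16_2 D111795 D199828 F378507 F364661 (iv5 D130713) (iv4 D61326) F81330 F99983 (iv2 F99974)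
theorem F413693 : act 0 n199828 = n136269 := d17_2 F173528 D199828 (iv5 D136269) F99661 F93106 D107626 (iv5 F166222) (iv0 D105281) (iv4 F100455)
def n199829 : Q := act 3 n111796
theorem D199829 : act 3 n111796 = n199829 := rfl
theorem F413694 : act 2 n199829 = n194160 := d0_1 D199829 (iv3 D194160) F364549 F327946 (iv2 F173529)
theorem F413695 : act 4 n199829 = n112599 := d5_2 D111796 D199829 (iv3 D112599) (iv4 F172583) F172582
theorem F413696 : act 6 n199829 = n187420 := d7_2 F409391 D199829 (iv3 F409390)
theorem F413697 : act 7 n199829 = n111863 := d8_2 (iv7 F173530) D199829 (iv3 D111863)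
theorem F413698 : act 0 n199829 = n146022 := d20_4 F326042 (iv1 F81329) D111796 D199829 F334280 D164090 (iv1 F327244) F327246 (iv3 D158112) (iv1 D75306)
theorem F413699 : act 0 n126938 = n129350 := d19_0 F366070 (iv4 F413695) (iv3 D199829) F173531 D137281 F344963 (iv3 F397518) (iv1 F397523) F379990 F379791 (iv3 F383886) F383889 F383011 F383007 F289988 (iv1 D47418) (iv5 F329339) (iv4 F94004) (iv3 F204193)
theorem F413700 : act 0 n163351 = n199829 := d20_4 D176730 (iv1 F370055) (iv4 F369676) F369675 (iv3 D199829) (iv4 D111796) (iv1 D51547) (iv4 F81325) (iv3 F173514) F327730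
def n199830 : Q := act 5 n111796
theorem D199830 : act 5 n111796 = n199830 := rfl
theorem F413701 : act 2 n199830 = n111870 := d2_1 D199830 (iv5 D111870) (iv2 F173529)
theorem F413702 : act 4 n199830 = n190439 := d9_1 D199830 F379769 F333578 F328843 (iv4 D61329) (iv5 F81327) D111795 D199828 F413692 F378507 F364661 (iv5 D130713) (iv4 D61326) F81330 D111796
theorem F413703 : act 7 n199830 = n111864 := d13_2 (iv7 F173530) D199830 (iv5 D111864)
theorem F413704 : act 1 n199830 = n136269 := d17_6 (iv1 D25143) (iv5 F23075) D29030 F81330 D111796 D199830 (iv5 D136269) F169229 (iv4 D51787)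
def n199831 : Q := act 2 n111797
theorem D199831 : act 2 n111797 = n199831 := rfl
theorem F413705 : act 3 n199831 = n137277 := d0_2 D111797 D199831 (iv2 D137277) (iv3 D64519) F81341
theorem F413706 : act 4 n199831 = n196271 := d1_2 (iv4 F173532) D199831 (iv2 D196271)
theorem F413707 : act 6 n199831 = n164074 := d3_2 F365578 D199831 (iv2 F413680)
theorem F413708 : act 7 n199831 = n137270 := d4_2 (iv7 F173533) D199831 (iv2 D137270)
theorem F413709 : act 1 n199831 = n111908 := d15_0 (iv0 F173879) (iv7 F173533) D199831
theorem F413710 : act 1 n137269 = n199831 := d15_0 F413709 F173878 (iv2 F351018)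
def n199832 : Q := act 5 n111798
theorem D199832 : act 5 n111798 = n199832 := rfl
theorem F413711 : act 2 n199832 = n137281 := d2_1 D199832 (iv5 D137281) (iv2 F173535)
theorem F413712 : act 3 n199832 = n172107 := d6_1 D199832 F365634 (iv3 F365577)
theorem F413713 : act 6 n199832 = n190337 := d12_2 D111798 D199832 (iv5 F379457) (iv6 D155977) F110946
theorem F413714 : act 7 n199832 = n194220 := d13_2 F413673 D199832 F413675
theorem F413715 : act 0 n199832 = n112268 := d17_2 F173537 D199832 (iv5 D112268) (iv4 D51783) F81336 (iv0 D29876) F23700 D25054 D51584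
theorem F413716 : act 1 n199832 = n112271 := d17_6 (iv1 F202243) (iv5 F203487) (iv1 D126545) (iv5 F161394) (iv4 F173536) D199832 (iv5 D112271) F174622 F174621
def n199833 : Q := act 6 n111802
theorem D199833 : act 6 n111802 = n199833 := rfl
theorem F413717 : act 2 n199833 = n137257 := d3_1 D199833 (iv6 D137257) (iv2 F173562)
theorem F413718 : act 4 n199833 = n126315 := d10_1 D199833 F203109 (iv4 F173549)
theorem F413719 : act 5 n199833 = n198364 := d12_1 D199833 F407768 (iv5 D176829) D176830 F354541
theorem F413720 : act 7 n199833 = n198409 := d14_2 (iv7 F173558) D199833 (iv6 D198409) (iv7 F175098) F174039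
theorem F413721 : act 0 n198382 = n199833 := d21_4 D155960 (iv1 F407826) (iv5 D198381) D198382 (iv6 D199833) (iv5 F354541) (iv1 F408557) (iv5 D198618) F169693 (iv1 F169929)
theorem F413722 : act 1 n111871 = n199833 := d15_0 (iv0 F413721) (iv7 F409392) F409389
def n199834 : Q := act 4 n111807
theorem D199834 : act 4 n111807 = n199834 := rfl
theorem F413723 : act 2 n199834 = n136507 := d1_1 D199834 F219618 (iv2 F173570)
theorem F413724 : act 6 n199834 = n135892 := d10_2 (iv6 F173572) D199834 (iv4 D135892)
theorem F413725 : act 7 n199834 = n136089 := d11_2 (iv7 F173573) D199834 F219027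
theorem F413726 : act 0 n199834 = n137626 := d17_0 F220780 (iv1 D137241) (iv5 D64502) (iv4 D30366) F48512 F79976 F100573 (iv0 F173574) D199834
theorem F413727 : act 1 n199834 = n136244 := d18_8 (iv1 F220383) (iv4 F338258) D111112 F361562 F220762 F220759 (iv0 F173574) D199834 (iv5 F220382)
theorem F413728 : act 3 n199834 = n143877 := d19_3 D51553 D111807 D199834 (iv1 D143877) (iv5 D67394) (iv4 D31325) (iv3 D14767) (iv1 F11964) F11961 (iv4 F26233) (iv3 F53858) D74690 (iv5 F316175) D197158 F403314 F176332 (iv5 D110627) F80472 F48784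
def n199835 : Q := act 0 n111809
theorem D199835 : act 0 n111809 = n199835 := rfl
theorem F413729 : act 3 n199835 = n129073 := d20_5 (iv4 D27980) (iv1 F39305) D51556 D111809 D199835 (iv4 F395223) (iv1 D107529) (iv4 F92966) (iv3 D58803) (iv1 F45247)
theorem F413730 : act 1 n125599 = n199835 := d15_0 (iv0 D199835) F173583 D125599
theorem F413731 : act 4 n199835 = n190594 := d18_7 D96226 (iv4 F259054) F206696 F319199 F100457 (iv4 F202047) F413730 (iv0 D190594) (iv5 D96228)
theorem F413732 : act 3 n189830 = n190594 := d20_5 F317122 F103926 F318909 (iv3 F146957) D189830 (iv4 F413731) (iv1 F413730) F202047 F100456 F318873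
theorem F413733 : act 6 n129070 = n199835 := d7_0 F413729 (iv6 D129073) D129070
theorem F413734 : act 5 n125691 = n199835 := d21_2 D105177 (iv1 F399419) (iv6 F413733) F343672 (iv6 F395363) F395362 F365771 (iv5 F395494) (iv6 D195032) (iv1 D105175)
theorem F413735 : act 7 n199835 = n125597 := d13_2 D125691 F413734 F366352
theorem F413736 : act 2 n199835 = n125598 := d15_3 F382095 F382096 (iv7 F413735)
theorem F413737 : act 6 n125598 = n188440 := d3_2 F413733 F413736 F373490
theorem F413738 : act 3 n188441 = n125598 := d7_3 F413737 (iv3 D188440) D188441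
theorem F413739 : act 0 n125600 = n195027 := d21_1 D125600 (iv5 D195027) D195028 F402414 F402411 (iv5 F376288) (iv1 F377359) (iv5 F377360) (iv6 F413737) (iv1 D125598)
def n199836 : Q := act 1 n111809
theorem D199836 : act 1 n111809 = n199836 := rfl
theorem F413740 : act 1 n199836 = n125599 := d15_1 D199836 (iv7 F382094) F382091
theorem F413741 : act 7 n199836 = n125598 := d15_2 (iv0 D199835) D199836 (iv2 F413736)
theorem F413742 : act 4 n190595 = n199836 := d20_6 F81340 F76564 F38751 D50537 D109539 F380251 (iv1 D199836) F173582 (iv3 D51557) (iv1 F81338)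
theorem F413743 : act 6 n199836 = n125537 := d10_2 F395148 F413742 (iv4 F395146)
theorem F413744 : act 2 n125597 = n199836 := d3_3 F413743 F201920 (iv6 F366353)
theorem F413745 : act 5 n125535 = n199836 := d12_5 F413743 (iv5 D125537) (iv6 D58773) D58772 D125535
def n199837 : Q := act 4 n111810
theorem D199837 : act 4 n111810 = n199837 := rfl
theorem F413746 : act 2 n199837 = n137286 := d1_1 D199837 (iv4 D137286) F173847
theorem F413747 : act 6 n199837 = n163432 := d10_2 (iv6 F356056) D199837 F257722
theorem F413748 : act 7 n199837 = n137283 := d11_2 (iv7 F173848) D199837 (iv4 D137283)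
theorem F413749 : act 1 n199837 = n197830 := d15_0 (iv0 F405933) F356048 (iv2 F413746)
def n199838 : Q := act 3 n111816
theorem D199838 : act 3 n111816 = n199838 := rfl
theorem F413750 : act 2 n199838 = n192812 := d0_1 D199838 F387877 (iv2 F251824) F355931 F173597
theorem F413751 : act 4 n199838 = n140701 := d5_2 (iv4 F173595) D199838 F223790 F101700 F93895
theorem F413752 : act 6 n199838 = n111969 := d7_2 (iv6 F173596) D199838 (iv3 D111969)
theorem F413753 : act 7 n199838 = n192813 := d8_2 F319037 D199838 (iv3 F387879)
theorem F413754 : act 0 n199838 = n174197 := d20_4 (iv4 F82842) F93026 (iv4 F173595) D199838 F272986 F128338 F59195 D38837 F325353 (iv1 F81583)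
theorem F413755 : act 0 n191986 = n199838 := d20_4 (iv4 F380273) (iv1 F305505) F343036 (iv3 F385102) (iv3 D199838) F173595 (iv1 F93044) D110659 (iv3 F395035) F395038
def n199839 : Q := act 4 n111821
theorem D199839 : act 4 n111821 = n199839 := rfl
theorem F413756 : act 2 n199839 = n198536 := d1_1 D199839 (iv4 D198536) (iv2 F204864)
theorem F413757 : act 7 n199839 = n198533 := d11_2 F204863 D199839 (iv4 D198533)
def n199840 : Q := act 6 n111821
theorem D199840 : act 6 n111821 = n199840 := rfl
theorem F413758 : act 2 n199840 = n198538 := d3_1 D199840 (iv6 D198538) (iv2 F204864)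
theorem F413759 : act 3 n199840 = n174679 := d7_1 D199840 (iv6 F362492) F320059
theorem F413760 : act 0 n111993 = n199840 := d21_4 D198625 F408594 F169714 D111993 (iv6 D199840) F204862 F397358 F397355 (iv6 F174560) (iv1 F174564)
theorem F413761 : act 1 n198561 = n199840 := d15_0 (iv0 F413760) (iv7 F174069) D198561
def n199841 : Q := act 4 n111822
theorem D199841 : act 4 n111822 = n199841 := rfl
theorem F413762 : act 2 n199841 = n198533 := d1_1 D199841 (iv4 D198533) F204865
theorem F413763 : act 7 n199841 = n198536 := d11_2 (iv7 F204866) D199841 (iv4 D198536)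
theorem F413764 : act 5 n199841 = n199471 := d16_1 D199841 F412317 (iv5 D148796) F106116 (iv5 F104741) (iv4 F204859) (iv5 F204862) (iv7 F204863) F204865
theorem F413765 : act 3 n199841 = n199390 := d20_3 F172874 (iv1 F173619) D199841 (iv1 F411939) F172813 F101702 F170941 D110127 (iv3 F406455) (iv1 F406457)
def n199842 : Q := act 6 n111822
theorem D199842 : act 6 n111822 = n199842 := rfl
theorem F413766 : act 2 n199842 = n198534 := d3_1 D199842 (iv6 D198534) F204865
def n199843 : Q := act 3 n111826
theorem D199843 : act 3 n111826 = n199843 := rfl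
theorem F413767 : act 2 n199843 = n190594 := d0_1 D199843 (iv3 F413732) (iv2 F408283) (iv3 D198540) (iv2 F228563)
theorem F413768 : act 4 n199843 = n125598 := d5_2 (iv4 F351016) D199843 (iv3 F413738) F373495 F258681
theorem F413769 : act 6 n199843 = n164130 := d7_2 (iv6 F351017) D199843 (iv3 D164130)
theorem F413770 : act 7 n199843 = n190595 := d8_2 (iv7 F228564) D199843 (iv3 F380251)
theorem F413771 : act 0 n199843 = n190597 := d19_4 F353473 (iv5 D164135) (iv4 F351016) D199843 F380256 (iv4 F235974) F235973 F321492 D145005 F341185 F252153 (iv1 F359058) F359059 F359061 F204408 F319230 F60613 (iv4 F92488) (iv3 F201264)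
theorem F413772 : act 0 n190585 = n199843 := d20_4 (iv4 F101531) D140348 (iv4 F378232) (iv3 F380218) (iv3 D199843) F351016 (iv1 F351014) (iv4 F346326) (iv3 F351019) (iv1 D137269)
def n199844 : Q := act 5 n111827
theorem D199844 : act 5 n111827 = n199844 := rfl
theorem F413773 : act 2 n199844 = n142833 := d2_1 D199844 F225729 F228565
theorem F413774 : act 3 n199844 = n164426 := d6_1 D199844 F377908 (iv3 F377907)
theorem F413775 : act 7 n199844 = n143040 := d13_2 F228566 D199844 F225903
theorem F413776 : act 0 n199844 = n111846 := d17_2 (iv1 F173631) D199844 F173668 F81630 D107587 D197068 (iv5 F402901) F175445 F170723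
theorem F413777 : act 4 n199844 = n142832 := d17_4 F225646 (iv5 F169498) (iv1 F173631) D199844 F225725 F182580 (iv5 F205106) F205103 D142739
theorem F413778 : act 1 n199844 = n141344 := d17_8 F173690 F49420 D31438 F317380 (iv4 F106448) (iv5 F319639) D111827 D199844 (iv4 D141344)
theorem F413779 : act 6 n164424 = n199844 := d21_5 F105249 F70189 (iv5 F96256) (iv6 F210605) (iv1 F362085) (iv5 D199844) (iv1 D111827) F319639 (iv6 D70054) (iv1 F105250)
def n199845 : Q := act 6 n111827
theorem D199845 : act 6 n111827 = n199845 := rfl
theorem F413780 : act 2 n199845 = n166400 := d3_1 D199845 (iv6 F360149) F228565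
theorem F413781 : act 3 n199845 = n174667 := d7_1 D199845 F395701 (iv3 F377907)
theorem F413782 : act 4 n199845 = n121720 := d10_1 D199845 (iv6 F373717) F373716
theorem F413783 : act 7 n199845 = n164141 := d14_2 F228566 D199845 (iv6 D164141) F254446 F351022
theorem F413784 : act 0 n198451 = n199845 := d21_4 D198634 F408641 (iv5 D198450) D198451 (iv6 D199845) D199844 F413776 F173668 F81631 D109707
theorem F413785 : act 1 n174692 = n199845 := d15_0 (iv0 F413784) (iv7 F408065) F353504
def n199846 : Q := act 6 n111831
theorem D199846 : act 6 n111831 = n199846 := rfl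
theorem F413786 : act 3 n199846 = n111832 := d7_1 D199846 (iv6 D111832) D111831
theorem F413787 : act 4 n199846 = n113658 := d10_1 D199846 (iv6 D113658) (iv4 F173636)
theorem F413788 : act 7 n199846 = n186087 := d14_2 (iv7 F173635) D199846 (iv6 F366940) F356001 F356012
theorem F413789 : act 5 n174270 = n199846 := d21_8 (iv5 F377908) (iv1 F377909) F204811 F358196 (iv1 F395699) (iv6 F395702) (iv5 F395248) (iv1 F394551) (iv6 D199846) (iv1 F377906)
def n199847 : Q := act 6 n111835
theorem D199847 : act 6 n111835 = n199847 := rfl
theorem F413790 : act 2 n199847 = n111839 := d3_1 D199847 (iv6 D111839) (iv2 F173648)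
theorem F413791 : act 3 n199847 = n147260 := d7_1 D199847 (iv6 F378298) F378295
theorem F413792 : act 4 n199847 = n194078 := d10_1 D199847 (iv6 D194078) (iv4 F352824)
theorem F413793 : act 5 n199847 = n158873 := d12_1 D199847 (iv6 D158873) (iv5 D75805) F325204 D111835
theorem F413794 : act 7 n199847 = n190068 := d14_2 (iv7 F173649) D199847 (iv6 D190068) (iv7 F348960) (iv6 F361107)
theorem F413795 : act 0 n199847 = n192840 := d20_1 (iv4 F413792) F387990 F368790 (iv1 F259425) F338222 F338223 (iv1 F356821) F356818 (iv3 F411387) F411389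
def n199848 : Q := act 0 n111839
theorem D199848 : act 0 n111839 = n199848 := rfl
theorem F413796 : act 4 n199848 = n199311 := d20_2 F361300 D199848 (iv3 D199311) (iv1 D111182) F80883 D51284 F80893 (iv4 F80851) (iv3 F172341) F366643
theorem F413797 : act 2 n192840 = n199848 := d1_3 F413796 F411608 (iv4 F387990)
theorem F413798 : act 6 n190120 = n199848 := d10_0 F413796 (iv6 F411609) (iv4 F378921)
theorem F413799 : act 1 n190068 = n199848 := d18_6 (iv1 D189038) (iv4 F375211) F405237 F405232 (iv5 F374450) (iv4 F378768) F413796 (iv0 F411612) F375529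
theorem F413800 : act 3 n199848 = n195651 := d7_1 F413798 (iv6 D195651) (iv3 F378920)
theorem F413801 : act 3 n133431 = n199312 := d5_3 (iv4 F413796) F413800 F397731 (iv4 D199312) D199311
theorem F413802 : act 5 n199312 = n133429 := d6_2 D133431 F413801 (iv3 D133429)
theorem F413803 : act 0 n189416 = n199312 := d20_4 F379808 (iv1 D140785) (iv4 F223871) (iv3 F376558) (iv3 F413801) (iv4 F397731) (iv1 F397732) F381252 (iv3 F364500) (iv1 F379810)
theorem F413804 : act 6 n133429 = n185910 := d21_3 D189416 F413803 F413802 (iv1 D185910) F135600 (iv5 D41333) D41331 F65920 D43917 D93958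
theorem F413805 : act 2 n185910 = n189362 := d3_1 F413804 (iv6 F402805) F402799
theorem F413806 : act 3 n185910 = n133432 := d7_1 F413804 (iv6 D133432) D133429
theorem F413807 : act 7 n189361 = n185910 := d15_2 F376473 (iv0 F376472) F413805
theorem F413808 : act 7 n185909 = n189362 := d15_2 F376477 F376478 (iv2 F413805)
theorem F413809 : act 2 n189361 = n185909 := d4_3 F413808 (iv2 F413805) (iv7 F413807)
def n199849 : Q := act 1 n111839
theorem D199849 : act 1 n111839 = n199849 := rfl
theorem F413810 : act 1 n199849 = n190068 := d15_1 D199849 (iv7 F413794) F413790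
theorem F413811 : act 7 n199849 = n192840 := d15_2 (iv0 D199848) D199849 F413797
theorem F413812 : act 3 n190149 = n199849 := d19_19 (iv1 D199849) F326394 (iv4 F292787) (iv3 F145425) F360280 (iv5 F402790) F402791 (iv3 F403367) F403370 F355255 (iv4 F235638) (iv3 F312779) (iv1 D133598) F97815 (iv4 F307008) (iv3 F305061) D96787 F305226 (iv4 F378981)
def n199850 : Q := act 7 n111839
theorem D199850 : act 7 n111839 = n199850 := rfl
theorem F413813 : act 2 n199850 = n190068 := d4_1 D199850 (iv7 F413794) F413790
theorem F413814 : act 3 n199850 = n111851 := d8_1 D199850 (iv7 D111851) (iv3 F173659)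
theorem F413815 : act 4 n199850 = n199344 := d11_1 D199850 F411790 F361300
theorem F413816 : act 5 n199850 = n176764 := d13_1 D199850 (iv7 D176764) (iv5 F326394)
theorem F413817 : act 6 n199850 = n190065 := d14_1 D199850 F378758 F348933 (iv7 F81396) D111839
theorem F413818 : act 0 n192840 = n199850 := d18_2 F411394 (iv4 F387990) F413815 F411791 (iv4 F377632) (iv0 F377633) (iv4 F364764) D186958 (iv5 F390519)
def n199851 : Q := act 6 n111848
theorem D199851 : act 6 n111848 = n199851 := rfl
theorem F413819 : act 2 n199851 = n190049 := d3_1 D199851 F409927 (iv2 F409926)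
theorem F413820 : act 3 n199851 = n191416 := d7_1 D199851 F383424 F351358
theorem F413821 : act 5 n199851 = n142359 := d12_1 D199851 (iv6 D142359) (iv5 F330355) (iv6 D112932) (iv5 F330766)
theorem F413822 : act 7 n199851 = n190050 := d14_2 F409930 D199851 (iv6 F378647) (iv7 F173665) F409934
theorem F413823 : act 0 n190048 = n199851 := d21_4 F106446 (iv1 F70585) (iv5 F147245) D190048 (iv6 D199851) F330766 F171456 F330361 (iv6 D87465) F106447
theorem F413824 : act 1 n190051 = n199851 := d15_1 F378653 F413822 F378648
def n199852 : Q := act 3 n111849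
theorem D199852 : act 3 n111849 = n199852 := rfl
theorem F413825 : act 2 n199852 = n195556 := d0_1 D199852 F397336 (iv2 F173666) F409933 F409935
theorem F413826 : act 4 n199852 = n141345 := d5_2 (iv4 F346384) D199852 F346386 F346385 F186481
theorem F413827 : act 6 n199852 = n141344 := d7_2 F354558 D199852 (iv3 F248410)
def n199853 : Q := act 0 n111852
theorem D199853 : act 0 n111852 = n199853 := rfl
theorem F413828 : act 3 n199853 = n176711 := d20_5 F100455 D105281 F170677 D111852 D199853 (iv4 F304018) (iv1 F351679) (iv4 F413695) (iv3 D199829) F173531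
theorem F413829 : act 7 n198534 = n199853 := d8_0 F413828 (iv7 F348600) (iv3 F408249)
def n199854 : Q := act 1 n111852
theorem D199854 : act 1 n111852 = n199854 := rfl
def n199855 : Q := act 2 n111852
theorem D199855 : act 2 n111852 = n199855 := rfl
theorem F413830 : act 3 n199855 = n157971 := d0_2 D111852 D199855 (iv2 F261344) (iv3 D158112) (iv2 F327197)
theorem F413831 : act 4 n199855 = n157974 := d1_2 (iv4 F392189) D199855 (iv2 F392190)
theorem F413832 : act 6 n199855 = n198484 := d3_2 (iv6 F173705) D199855 (iv2 D198484)
theorem F413833 : act 1 n199855 = n198534 := d15_0 (iv0 F408251) (iv7 F327737) D199855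
def n199856 : Q := act 5 n111852
theorem D199856 : act 5 n111852 = n199856 := rfl
theorem F413834 : act 3 n199856 = n111853 := d6_1 D199856 (iv5 D111853) D111852
def n199857 : Q := act 4 n111853
theorem D199857 : act 4 n111853 = n199857 := rfl
theorem F413835 : act 3 n199857 = n190468 := d19_3 D51574 D111853 D199857 (iv1 D190468) (iv5 D96044) (iv4 F71724) (iv3 D45480) D45478 (iv5 F294902) F57186 F31631 F27974 (iv5 D17050) F12739 F12738 (iv1 F12267) D8684 D18467 (iv3 F326392)
def n199858 : Q := act 6 n111853
theorem D199858 : act 6 n111853 = n199858 := rfl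
theorem F413836 : act 5 n199858 = n198486 := d12_1 D199858 F409020 (iv5 D109353) (iv6 F169860) D111853
theorem F413837 : act 4 n135262 = n199858 := d16_0 F413836 (iv4 D198486) (iv5 D109353) D109352 F203319 F203321 (iv5 F217463) (iv7 F217465) F217468
theorem F413838 : act 6 n199857 = n135262 := d10_0 F413837 (iv6 D199858) D199857
def n199859 : Q := act 6 n111854
theorem D199859 : act 6 n111854 = n199859 := rfl
theorem F413839 : act 3 n199859 = n111856 := d7_1 D199859 (iv6 D111856) D111854
theorem F413840 : act 7 n199859 = n198493 := d14_2 (iv7 F327413) D199859 (iv6 D198493) (iv7 F407803) F407802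
theorem F413841 : act 0 n164157 = n199859 := d21_4 F362313 (iv1 D180643) D180644 (iv6 F345357) (iv6 D199859) F327412 (iv1 D180639) (iv5 D86287) D86288 D180642
def n199860 : Q := act 4 n111855
theorem D199860 : act 4 n111855 = n199860 := rfl
theorem F413842 : act 6 n199860 = n147241 := d10_2 F410088 D199860 (iv4 F410087)
theorem F413843 : act 5 n199860 = n147238 := d16_1 D199860 (iv4 F345024) F216450 F179246 (iv5 F166222) F170677 D111853 (iv7 F174608) (iv2 F174606)
def n199861 : Q := act 3 n111857
theorem D199861 : act 3 n111857 = n199861 := rfl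
theorem F413844 : act 5 n199861 = n112257 := d6_2 (iv5 F174554) D199861 (iv3 D112257)
theorem F413845 : act 6 n199861 = n190813 := d7_2 F365991 D199861 F381208
def n199862 : Q := act 3 n111858
theorem D199862 : act 3 n111858 = n199862 := rfl
theorem F413846 : act 5 n199862 = n112259 := d6_2 (iv5 F174532) D199862 (iv3 D112259)
theorem F413847 : act 7 n199862 = n180632 := d8_2 F365724 D199862 F365725
theorem F413848 : act 2 n199862 = n180630 := d15_3 (iv0 F373675) F373676 (iv7 F413847)
theorem F413849 : act 6 n128575 = n199862 := d3_0 F413848 (iv6 F365091) (iv2 F365101)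
theorem F413850 : act 0 n164140 = n199862 := d17_2 (iv1 F254448) D164140 F413846 F326846 (iv5 F256538) (iv0 F327512) F327515 (iv0 D157968) D157971
theorem F413851 : act 1 n164131 = n199862 := d17_6 (iv1 D34809) F27600 D27920 F254073 D78850 D164131 F413846 F326844 (iv4 D76214)
def n199863 : Q := act 4 n111858
theorem D199863 : act 4 n111858 = n199863 := rfl
theorem F413852 : act 0 n199863 = n112923 := d18_2 (iv1 F327739) D199863 (iv4 F344963) (iv5 D137281) F100455 D105282 F169874 (iv0 F326922) D158116
theorem F413853 : act 1 n199863 = n189758 := d18_6 (iv1 F219336) F219334 (iv1 F202251) F174543 (iv5 F174532) D199863 (iv4 F392399) (iv0 F392402) F379661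
theorem F413854 : act 3 n188163 = n199863 := d20_5 (iv4 D189519) F376695 F376694 (iv3 F292425) D188163 (iv4 D199863) (iv1 D111858) D111859 F327740 (iv1 F376789)
def n199864 : Q := act 6 n111858
theorem D199864 : act 6 n111858 = n199864 := rfl
theorem F413855 : act 2 n199864 = n142365 := d3_1 D199864 F365720 (iv2 F365719)
theorem F413856 : act 3 n199864 = n128575 := d7_1 D199864 F413849 (iv3 D199862)
theorem F413857 : act 7 n199864 = n142366 := d14_2 F365724 D199864 (iv6 F330008) (iv7 F382609) F382608
theorem F413858 : act 5 n117046 = n199864 := d21_2 (iv5 D117061) (iv1 F182991) (iv6 D199864) (iv1 D111858) (iv6 F173703) (iv5 D111850) D111848 F330766 D112932 F330352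
theorem F413859 : act 0 n199864 = n116457 := d17_2 (iv1 F182991) F413858 (iv5 D116457) (iv4 D53675) D53676 F181666 F41109 D26081 D53946
theorem F413860 : act 1 n199864 = n116470 := d17_6 F179987 (iv5 F205305) F223806 (iv5 D140713) F182993 F413858 (iv5 D116470) F181710 F181709
def n199865 : Q := act 3 n111862
theorem D199865 : act 3 n111862 = n199865 := rfl
theorem F413861 : act 4 n199865 = n182328 := d5_2 (iv4 F173713) D199865 (iv3 F359044) F161412 (iv3 F161399)
theorem F413862 : act 6 n199865 = n190636 := d7_2 F173716 D199865 (iv3 F380409)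
theorem F413863 : act 7 n199865 = n137279 := d8_2 (iv7 F173715) D199865 F220425
def n199866 : Q := act 5 n111862
theorem D199866 : act 5 n111862 = n199866 := rfl
theorem F413864 : act 2 n199866 = n194220 := d2_1 D199866 F413675 (iv2 F413671)
theorem F413865 : act 7 n199866 = n137281 := d13_2 (iv7 F173715) D199866 (iv5 D137281)
theorem F413866 : act 4 n199866 = n186370 := d16_2 (iv4 F173713) D199866 (iv5 F345004) (iv4 D135623) (iv5 D63771) (iv4 F93654) (iv5 F161394) D195111 F395816
theorem F413867 : act 0 n199866 = n112271 := d17_2 D111862 D199866 (iv5 D112271) (iv4 D51787) F81750 F48412 (iv5 F81333) F81337 D51580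
theorem F413868 : act 1 n199866 = n112268 := d17_6 F173090 (iv5 F95542) F173089 (iv5 F161400) (iv4 F173713) D199866 (iv5 D112268) (iv0 F172747) F99661
theorem F413869 : act 6 n186369 = n199866 := d10_0 F413866 (iv6 D186370) D186369
def n199867 : Q := act 5 n111863
theorem D199867 : act 5 n111863 = n199867 := rfl
theorem F413870 : act 3 n199867 = n111864 := d6_1 D199867 (iv5 D111864) D111863
theorem F413871 : act 6 n199867 = n189228 := d12_2 (iv6 F173717) D199867 F376156 D194904 F394947
theorem F413872 : act 4 n199867 = n189229 := d17_4 (iv1 F378490) (iv5 F382100) (iv1 F382102) D199867 F376158 F364362 (iv5 F380002) (iv0 F380003) F379681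
theorem F413873 : act 0 n196183 = n199867 := d19_0 (iv5 D199867) (iv4 F363505) F194363 (iv1 F327262) (iv5 F323390) (iv4 F95532) F95531 D60989 (iv5 F207398) F334315 (iv3 F336070) F336067 D132858 F323703 (iv3 F341824) (iv1 D129037) (iv5 F96575) (iv4 F211646) (iv3 F399759)
def n199868 : Q := act 1 n111864
theorem D199868 : act 1 n111864 = n199868 := rfl
theorem F413874 : act 1 n199868 = n111870 := d15_1 D199868 (iv7 F413691) F413689
theorem F413875 : act 7 n199868 = n136269 := d15_2 F202259 D199868 F219332
theorem F413876 : act 5 n199868 = n136270 := d17_7 F81745 (iv5 F46675) (iv1 F81415) (iv5 D51581) D51580 D111864 D199868 F219336 (iv4 D112230)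
theorem F413877 : act 3 n188511 = n199868 := d6_3 F413876 (iv3 F365627) (iv5 F390834)
theorem F413878 : act 6 n199868 = n142490 := d21_3 F379661 (iv1 F219336) (iv5 F413876) (iv1 F379576) (iv6 D190368) D190367 F379570 F344961 F344962 F379664
def n199869 : Q := act 4 n111864
theorem D199869 : act 4 n111864 = n199869 := rfl
theorem F413879 : act 2 n199869 = n189997 := d1_1 D199869 (iv4 F413692) F413689
theorem F413880 : act 3 n199869 = n190418 := d5_1 D199869 F379730 (iv3 F376157) (iv4 F413872) F413870
theorem F413881 : act 7 n199869 = n190439 := d11_2 F413703 D199869 (iv4 F413702)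
theorem F413882 : act 0 n199869 = n190438 := d17_0 (iv5 F379767) (iv1 D190417) F147647 (iv4 F379660) F379661 (iv0 F174539) D125757 F202259 D199869
theorem F413883 : act 1 n199869 = n189685 := d18_6 (iv1 D51575) F39315 D25053 D51580 D111864 D199869 F377393 F326851 (iv5 D111855)
theorem F413884 : act 6 n133230 = n199869 := d14_5 F413881 (iv6 F410052) F410054 (iv6 F365419) F217961
def n199870 : Q := act 6 n111864
theorem D199870 : act 6 n111864 = n199870 := rfl
theorem F413885 : act 3 n199870 = n189228 := d7_1 D199870 (iv6 F413871) F413870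
theorem F413886 : act 4 n199870 = n133230 := d10_1 D199870 F413884 (iv4 D199869)
theorem F413887 : act 5 n199870 = n194903 := d12_1 D199870 F394951 (iv5 D109367) (iv6 F81413) D111864
theorem F413888 : act 0 n199870 = n142484 := d21_4 (iv5 D199832) (iv1 F173538) D111864 D199870 (iv6 D142484) (iv5 F181601) (iv1 D53925) D53927 (iv6 F346896) (iv1 F413716)
def n199871 : Q := act 6 n111867
theorem D199871 : act 6 n111867 = n199871 := rfl
theorem F413889 : act 2 n199871 = n125639 := d3_1 D199871 (iv6 D125639) (iv2 F173725)
theorem F413890 : act 3 n199871 = n128917 := d7_1 D199871 F395746 F364567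
theorem F413891 : act 4 n199871 = n111868 := d10_1 D199871 (iv6 D111868) D111867
theorem F413892 : act 5 n199871 = n128915 := d12_1 D199871 F396539 (iv5 F399224) F399225 (iv5 F332820)
theorem F413893 : act 7 n199871 = n195044 := d14_2 (iv7 F173726) D199871 (iv6 D195044) (iv7 F165640) F165633
theorem F413894 : act 0 n199871 = n126317 := d21_10 F203116 (iv1 D113562) (iv5 D52409) (iv6 D25437) (iv1 F36917) D48661 D105242 (iv1 F332839) (iv5 F332820) D199871
theorem F413895 : act 0 n125941 = n128915 := d21_1 D125941 (iv5 F413892) (iv6 D199871) F173728 (iv6 D58767) D58766 F92884 F82640 D52269 (iv1 F161315)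
theorem F413896 : act 0 n126314 = n199871 := d21_4 D113367 F348390 (iv5 F348385) (iv6 F203103) (iv6 D199871) F332820 (iv1 F332828) F176652 (iv6 F161169) (iv1 F168361)
theorem F413897 : act 0 n128915 = n125947 := d17_2 F413896 F413892 (iv5 D125947) (iv4 D58970) D58971 (iv0 F161423) (iv5 F175326) (iv0 F175329) D126314
def n199872 : Q := act 0 n111871
theorem D199872 : act 0 n111871 = n199872 := rfl
theorem F413898 : act 5 n199872 = n198365 := d17_1 D199872 (iv1 D198365) (iv5 D109250) F79771 F38556 (iv0 F161250) D51913 (iv0 F161390) (iv4 F173741)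
theorem F413899 : act 6 n199872 = n111984 := d21_5 D125757 F202258 (iv5 D111870) D111871 D199872 F346909 (iv1 F352806) (iv5 D112138) D112139 F174352
theorem F413900 : act 2 n198409 = n199872 := d15_3 (iv0 D199872) F413722 F413720
theorem F413901 : act 1 n198382 = n199872 := d15_0 (iv0 D199872) F173742 (iv2 F407827)
theorem F413902 : act 7 n199872 = n137257 := d15_2 (iv0 F413721) F413901 (iv2 F413717)
def n199873 : Q := act 5 n111871
theorem D199873 : act 5 n111871 = n199873 := rfl
theorem F413903 : act 2 n199873 = n187419 := d2_1 D199873 F409394 F409389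
theorem F413904 : act 7 n199873 = n198515 := d13_2 (iv7 F173742) D199873 (iv5 D198515)
theorem F413905 : act 1 n199873 = n191147 := d17_6 D51542 (iv5 F169317) F169316 (iv5 F81419) (iv4 F173741) D199873 (iv5 F382409) (iv0 D111783) F81318
theorem F413906 : act 0 n199873 = n199823 := d21_1 D199873 (iv5 D199823) D199824 (iv1 F413658) F408386 D198620 F408571 F354541 D199833 (iv1 F413722)
def n199874 : Q := act 3 n111872
theorem D199874 : act 3 n111872 = n199874 := rfl
theorem F413907 : act 4 n199874 = n131852 := d5_2 D111872 D199874 (iv3 D131852) F165575 (iv3 F165576)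
theorem F413908 : act 5 n199874 = n189993 := d6_2 F218096 D199874 F378487
theorem F413909 : act 6 n199874 = n135532 := d7_2 (iv6 F173744) D199874 (iv3 D135532)
theorem F413910 : act 7 n199874 = n130714 := d8_2 (iv7 F173745) D199874 (iv3 D130714)
theorem F413911 : act 0 n131852 = n197017 := d20_7 (iv4 F397822) (iv1 F397825) F364798 (iv3 F328439) F202270 D199874 F413907 F402702 F165918 F163179
theorem F413912 : act 2 n190401 = n199874 := d3_3 F413909 (iv2 F379742) F379744
def n199875 : Q := act 3 n111873
theorem D199875 : act 3 n111873 = n199875 := rfl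
theorem F413913 : act 4 n199875 = n112565 := d5_2 (iv4 F324427) D199875 F321411 F92647 (iv3 F299814)
theorem F413914 : act 5 n199875 = n197635 := d6_2 F341393 D199875 F405123
theorem F413915 : act 6 n199875 = n123496 := d7_2 (iv6 F324428) D199875 F197911
theorem F413916 : act 7 n199875 = n124246 := d8_2 (iv7 F324429) D199875 F198749
theorem F413917 : act 0 n199875 = n178147 := d20_4 (iv4 D109619) F324421 (iv4 F324427) D199875 (iv3 F358897) (iv4 F176727) F408442 (iv4 F406104) (iv3 F406103) F169618
theorem F413918 : act 0 n174140 = n199875 := d21_1 (iv5 F407438) F413914 (iv6 D197635) F371972 (iv6 D90710) D90709 F293365 D100587 D192749 (iv1 F407437)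
theorem F413919 : act 2 n198914 = n199875 := d1_3 F413913 F175242 D198914
theorem F413920 : act 1 n198914 = n140408 := d15_0 F353646 (iv7 F413916) (iv2 F413919)
def n199876 : Q := act 3 n111878
theorem D199876 : act 3 n111878 = n199876 := rfl
theorem F413921 : act 2 n199876 = n174904 := d0_1 D199876 F273801 (iv2 F271789) (iv3 F351065) F173777
theorem F413922 : act 4 n199876 = n197001 := d5_2 (iv4 F173776) D199876 (iv3 D197001) (iv4 D107524) D107523
theorem F413923 : act 5 n199876 = n174903 := d6_2 F351104 D199876 (iv3 F345577)
theorem F413924 : act 6 n199876 = n140689 := d7_2 (iv6 F175475) D199876 (iv3 D140689)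
theorem F413925 : act 7 n199876 = n197859 := d8_2 (iv7 F173775) D199876 (iv3 D197859)
theorem F413926 : act 0 n174129 = n199876 := d20_4 (iv4 D38315) D38313 D83241 D174129 (iv3 D199876) F173776 F171733 F80455 F324770 (iv1 D83248)
def n199877 : Q := act 3 n111881
theorem D199877 : act 3 n111881 = n199877 := rfl
theorem F413927 : act 5 n199877 = n177494 := d6_2 (iv5 F341304) D199877 (iv3 D177494)
theorem F413928 : act 6 n199877 = n129032 := d7_2 (iv6 F173788) D199877 (iv3 F337395)
theorem F413929 : act 7 n199877 = n197861 := d8_2 (iv7 F173789) D199877 (iv3 D197861)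
theorem F413930 : act 0 n197725 = n199877 := d20_4 F400861 (iv1 F164981) D196505 (iv3 F405527) (iv3 D199877) (iv4 D111881) (iv1 F81426) (iv4 F168684) F400851 (iv1 F400864)
theorem F413931 : act 2 n199877 = n197890 := d15_3 (iv0 D197890) (iv0 F412411) (iv7 F413929)
theorem F413932 : act 3 n197890 = n177499 := d0_2 D199877 F413931 (iv2 F406050) (iv3 D197860) (iv2 F173787)
def n199878 : Q := act 3 n111943
theorem D199878 : act 3 n111943 = n199878 := rfl
theorem F413933 : act 4 n199878 = n164075 := d5_2 (iv4 F173936) D199878 (iv3 F413676) F413670 F395817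
theorem F413934 : act 6 n199878 = n198047 := d7_2 F173937 D199878 (iv3 D198047)
theorem F413935 : act 7 n199878 = n196272 := d8_2 (iv7 F173935) D199878 F400146
def n199879 : Q := act 4 n111945
theorem D199879 : act 4 n111945 = n199879 := rfl
theorem F413936 : act 2 n199879 = n141972 := d1_1 D199879 F362795 (iv2 F173941)
theorem F413937 : act 3 n199879 = n197962 := d5_1 D199879 (iv4 D197962) F326833 (iv4 F191508) F365866
theorem F413938 : act 7 n199879 = n197962 := d11_2 (iv7 F173942) D199879 (iv4 D197962)
theorem F413939 : act 5 n199879 = n199785 := d16_1 D199879 F413503 F216351 (iv4 D63408) F79450 D108614 D197721 F405511 (iv2 F173941)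
theorem F413940 : act 0 n199879 = n199421 := d17_0 F412115 D199449 F412244 F406268 F343768 F172745 D111332 (iv0 F173943) D199879
theorem F413941 : act 1 n199879 = n160420 := d18_6 (iv1 D108611) F79447 F164117 D51625 D111945 D199879 (iv4 F343783) (iv0 F405501) (iv5 D197718)
theorem F413942 : act 6 n199879 = n141838 := d21_5 F191549 (iv1 F115302) D76900 D160420 (iv1 F413941) F224876 (iv1 F167661) (iv5 F341378) (iv6 D120296) D120295
theorem F413943 : act 6 n191025 = n197962 := d7_2 F413942 F381919 (iv3 F413937)
theorem F413944 : act 4 n197963 = n191025 := d10_3 F413943 (iv4 D197962) D197963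
def n199880 : Q := act 6 n111945
theorem D199880 : act 6 n111945 = n199880 := rfl
theorem F413945 : act 2 n199880 = n141971 := d3_1 D199880 (iv6 F362796) (iv2 F173941)
theorem F413946 : act 3 n199880 = n141946 := d7_1 D199880 (iv6 F362691) F365866
theorem F413947 : act 4 n199880 = n141838 := d10_1 D199880 (iv6 F413942) (iv4 D199879)
theorem F413948 : act 5 n199880 = n156330 := d12_1 D199880 F343819 (iv5 D109499) (iv6 F81484) D111945
theorem F413949 : act 7 n141968 = n199880 := d13_0 F413948 (iv7 F404733) (iv5 F404736)
theorem F413950 : act 1 n196332 = n199880 := d18_8 (iv1 F343831) (iv4 F343827) (iv1 F343815) (iv4 F405376) F405375 F400353 (iv0 D196330) D196332 F413948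
def n199881 : Q := act 6 n111955
theorem D199881 : act 6 n111955 = n199881 := rfl
theorem F413951 : act 2 n199881 = n111957 := d3_1 D199881 (iv6 D111957) D111955
theorem F413952 : act 3 n199881 = n190699 := d7_1 D199881 F380653 (iv3 F173969)
theorem F413953 : act 4 n199881 = n195074 := d10_1 D199881 (iv6 D195074) (iv4 F173970)
theorem F413954 : act 7 n199881 = n194959 := d14_2 (iv7 F173971) D199881 F395187 F169471 F110942
theorem F413955 : act 0 n194500 = n199881 := d21_4 F393446 (iv1 F159106) D103675 D194500 (iv6 D199881) (iv5 F401444) F401447 (iv5 F353195) F353193 (iv1 F393449)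
theorem F413956 : act 1 n198529 = n199881 := d15_1 D198529 F413954 F395185
def n199882 : Q := act 0 n111956
theorem D199882 : act 0 n111956 = n199882 := rfl
theorem F413957 : act 5 n199882 = n111978 := d17_1 D199882 (iv1 F174027) (iv5 F401467) (iv4 D196681) F165221 D128803 F400241 F400242 (iv4 F347201)
theorem F413958 : act 4 n199882 = n196690 := d18_1 D199882 (iv1 F401494) D196697 F401517 F395695 F342887 F342885 (iv0 D111953) D111956
theorem F413959 : act 6 n199882 = n188012 := d21_5 F392994 (iv1 F396222) F396219 F347200 D199882 (iv5 F372096) (iv1 D187362) F138091 D103265 D194381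
theorem F413960 : act 1 n136299 = n199882 := d15_0 (iv0 D199882) F173975 (iv2 F219357)
theorem F413961 : act 2 n136301 = n199882 := d3_3 F413959 (iv2 F372098) F376039
theorem F413962 : act 3 n142438 = n199882 := d7_3 F413959 (iv3 F372095) F344496
theorem F413963 : act 7 n199882 = n136300 := d8_2 (iv7 F344478) F413962 F361855
def n199883 : Q := act 1 n111956
theorem D199883 : act 1 n111956 = n199883 := rfl
theorem F413964 : act 1 n199883 = n136299 := d15_1 D199883 (iv7 F401446) F401443
theorem F413965 : act 7 n199883 = n136301 := d15_2 (iv0 D199882) D199883 F413961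
theorem F413966 : act 5 n199883 = n111979 := d17_7 (iv1 F204596) F362276 (iv1 D52599) (iv5 F76554) (iv4 F81505) D111956 D199883 F174031 (iv4 F204592)
theorem F413967 : act 4 n199883 = n196691 := d17_9 (iv1 D196691) (iv5 D107214) F102174 (iv5 F172204) (iv4 F407963) F407962 (iv0 D111953) D111956 D199883
theorem F413968 : act 3 n163254 = n199883 := d19_19 (iv1 D199883) (iv5 D111956) F81505 F76553 (iv1 F36927) D25427 F40205 (iv3 F40279) D52497 F82884 (iv4 F85121) F85120 (iv1 F84935) F84929 (iv4 F85465) D117501 (iv1 F368302) F368304 F344572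
theorem F413969 : act 2 n199883 = n136300 := d0_1 F413968 F361855 (iv2 F344488) (iv3 F344510) F344509
def n199884 : Q := act 0 n111957
theorem D199884 : act 0 n111957 = n199884 := rfl
theorem F413970 : act 1 n194959 = n199884 := d15_0 (iv0 D199884) F173978 (iv2 F395185)
def n199885 : Q := act 1 n111957
theorem D199885 : act 1 n111957 = n199885 := rfl
theorem F413971 : act 1 n199885 = n194959 := d15_1 D199885 (iv7 F413954) F413951
theorem F413972 : act 3 n166250 = n199885 := d20_3 F362592 (iv1 F256895) (iv4 F261752) (iv1 D199885) F173976 F81511 F161310 D50869 D110321 F362594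
theorem F413973 : act 6 n166248 = n199885 := d21_3 F159115 (iv1 F159095) F331169 (iv1 D199885) (iv6 D111957) D111956 D199882 F413957 F393409 (iv1 F393410)
theorem F413974 : act 2 n199885 = n194500 := d3_1 F413973 (iv6 D194500) (iv2 F331170)
theorem F413975 : act 7 n198529 = n199885 := d15_2 (iv0 F393452) D198529 F413974
theorem F413976 : act 7 n199884 = n194500 := d15_2 F413971 F413970 (iv2 F413974)
theorem F413977 : act 2 n198529 = n199884 := d4_3 F413976 (iv2 F413974) (iv7 F413975)
def n199886 : Q := act 5 n111957
theorem D199886 : act 5 n111957 = n199886 := rfl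
theorem F413978 : act 3 n199886 = n111959 := d6_1 D199886 (iv5 D111959) (iv3 F173976)
theorem F413979 : act 6 n199886 = n195200 := d12_2 D111957 D199886 F396219 F347200 (iv5 D111956)
theorem F413980 : act 7 n199886 = n198530 := d13_2 (iv7 F173978) D199886 (iv5 D198530)
theorem F413981 : act 4 n130595 = n199886 := d10_3 F413979 (iv4 D195200) (iv6 F209167)
theorem F413982 : act 0 n131130 = n199886 := d21_4 (iv5 D52145) (iv1 F47502) (iv5 F96038) D131130 F413979 F396219 (iv1 F339991) (iv5 D114418) F83398 (iv1 F82430)
theorem F413983 : act 4 n198530 = n133398 := d11_3 F214479 F413981 F413980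
def n199887 : Q := act 4 n111959
theorem D199887 : act 4 n111959 = n199887 := rfl
theorem F413984 : act 2 n199887 = n198366 := d1_1 D199887 (iv4 D198366) (iv2 F173981)
theorem F413985 : act 7 n199887 = n198531 := d11_2 (iv7 F173982) D199887 (iv4 D198531)
theorem F413986 : act 5 n199887 = n199826 := d16_1 D199887 (iv4 D199826) (iv5 D111785) F81318 F39286 (iv4 F81318) D111785 F173496 (iv2 F173981)
def n199888 : Q := act 3 n111961
theorem D199888 : act 3 n111961 = n199888 := rfl
theorem F413987 : act 5 n199888 = n196686 := d6_2 F408509 D199888 F408510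
theorem F413988 : act 7 n199888 = n190325 := d8_2 (iv7 F340705) D199888 (iv3 D190325)
theorem F413989 : act 4 n199888 = n196244 := d20_6 (iv4 D51672) (iv1 F39444) (iv4 F79824) (iv3 F169219) (iv1 F173988) D199888 F400033 F228488 (iv3 F175600) (iv1 D112038)
theorem F413990 : act 0 n199888 = n190604 := d20_10 (iv4 F380270) (iv1 F204594) F204592 (iv3 F174009) (iv1 F174014) (iv3 F369712) F369713 (iv1 F149957) F357988 D199888
theorem F413991 : act 0 n198445 = n199888 := d20_4 F174156 D148209 F232047 D198445 (iv3 D199888) (iv4 F357988) (iv1 F149951) F340379 (iv3 F393436) F393439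
def n199889 : Q := act 0 n111963
theorem D199889 : act 0 n111963 = n199889 := rfl
theorem F413992 : act 5 n199889 = n112220 := d17_3 (iv1 D111961) D111963 D199889 (iv4 F379373) F379374 F335112 F149952 F149951 F357988
theorem F413993 : act 6 n199889 = n190056 := d21_5 (iv5 D91287) (iv1 F75190) D103346 (iv6 F358493) D199889 (iv5 D190056) (iv1 D95594) D95595 F147269 F294333
theorem F413994 : act 1 n193959 = n199889 := d15_0 (iv0 D199889) F173991 (iv2 F391518)
theorem F413995 : act 3 n199700 = n199889 := d20_3 F224302 D141288 F413196 (iv1 F413994) (iv3 D193959) (iv4 D102503) (iv1 F153715) F324392 (iv3 F413191) F413195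
theorem F413996 : act 2 n194627 = n199889 := d3_3 F413993 F378701 (iv6 F393868)
theorem F413997 : act 7 n194628 = n199889 := d14_0 F413993 F378702 F346809 (iv7 F401725) (iv6 F401727)
def n199890 : Q := act 1 n111963
theorem D199890 : act 1 n111963 = n199890 := rfl
theorem F413998 : act 1 n199890 = n193959 := d15_1 D199890 F391520 F358494
theorem F413999 : act 7 n199890 = n194627 := d15_2 (iv0 D199889) D199890 F413996
theorem F414000 : act 5 n199890 = n112221 := d17_7 F337321 F378751 (iv1 D190063) F340714 (iv4 F81513) D111963 D199890 F174515 (iv4 F337325)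
theorem F414001 : act 3 n143977 = n199890 := d19_19 (iv1 D199890) (iv5 D111963) F81513 (iv3 D50527) (iv1 F39311) (iv5 F80043) (iv4 F81993) F81994 (iv1 D32183) D32185 D69206 D147671 F395079 F395077 F172127 F80772 D51196 D111028 F340044
theorem F414002 : act 6 n143975 = n199890 := d21_3 D196958 F402448 F399727 (iv1 D199890) F358493 (iv5 D103346) (iv1 F75191) D91290 D188390 (iv1 F373269)
theorem F414003 : act 2 n199890 = n194628 := d3_1 F414002 F401727 (iv2 F401723)
def n199891 : Q := act 0 n111966
theorem D199891 : act 0 n111966 = n199891 := rfl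
theorem F414004 : act 5 n199891 = n112130 := d17_1 D199891 F326024 (iv5 F325912) F148071 D183892 F285723 D185479 (iv0 F287743) (iv4 F340566)
theorem F414005 : act 4 n199891 = n186906 := d18_1 D199891 F392569 F379136 F356020 (iv4 F173602) F93047 D110659 (iv0 F171263) D111966
theorem F414006 : act 0 n197129 = n197137 := d19_8 D199891 F414004 F227093 F227090 F166315 (iv5 D107682) D107681 D197129 (iv5 D197137) F166356 F320209 (iv1 D43247) (iv5 D20401) F15077 (iv3 F15047) D20382 D43217 (iv4 F138094) (iv3 F358522)
theorem F414007 : act 6 n199891 = n119264 := d21_5 (iv5 F358499) F358498 F358496 F358521 D199891 (iv5 D119264) (iv1 F186063) F329994 F158525 (iv1 F154096)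
theorem F414008 : act 2 n112028 = n199891 := d15_3 (iv0 D199891) (iv0 F365992) F358518
theorem F414009 : act 1 n112031 = n199891 := d15_0 (iv0 D199891) F358523 F340556
theorem F414010 : act 7 n199891 = n112029 := d15_2 F365993 F414009 (iv2 F358525)
def n199892 : Q := act 0 n111967
theorem D199892 : act 0 n111967 = n199892 := rfl
theorem F414011 : act 5 n199892 = n133349 := d17_1 D199892 (iv1 F214394) (iv5 F349563) F219309 (iv5 F399519) F399522 F349546 (iv0 D125522) (iv4 F173997)
theorem F414012 : act 3 n199892 = n187287 := d20_5 (iv4 F38825) (iv1 F45144) (iv4 F81523) D111967 D199892 (iv4 F369711) (iv1 F340706) (iv4 F81513) (iv3 D51637) (iv1 F39401)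
theorem F414013 : act 1 n125660 = n199892 := d15_0 (iv0 D199892) F173998 D125660
theorem F414014 : act 7 n125658 = n199892 := d8_0 F414012 F369710 (iv3 F363492)
theorem F414015 : act 2 n199892 = n125659 := d15_3 (iv0 F397266) F397267 F414014
def n199893 : Q := act 1 n111967
theorem D199893 : act 1 n111967 = n199893 := rfl
theorem F414016 : act 1 n199893 = n125660 := d15_1 D199893 (iv7 F397265) F397263
theorem F414017 : act 7 n199893 = n125659 := d15_2 (iv0 D199892) D199893 (iv2 F414015)
theorem F414018 : act 5 n199893 = n129614 := d17_7 (iv1 F97595) (iv5 F164582) (iv1 F164670) F176205 (iv4 F176208) F336178 D199893 F209120 F209118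
theorem F414019 : act 2 n125658 = n199893 := d2_3 F414018 F209114 (iv5 F349594)
theorem F414020 : act 6 n199893 = n190637 := d21_3 F349563 (iv1 F209120) (iv5 F414018) (iv1 F394555) (iv6 D113647) D113646 F340727 (iv5 F347820) F349593 (iv1 F219311)
def n199894 : Q := act 6 n111967
theorem D199894 : act 6 n111967 = n199894 := rfl
theorem F414021 : act 3 n199894 = n111968 := d7_1 D199894 (iv6 D111968) D111967
theorem F414022 : act 4 n199894 = n125526 := d10_1 D199894 (iv6 D125526) (iv4 F173997)
theorem F414023 : act 7 n199894 = n194276 := d14_2 (iv7 F173998) D199894 (iv6 D194276) (iv7 F251822) F355933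
def n199895 : Q := act 5 n111968
theorem D199895 : act 5 n111968 = n199895 := rfl
theorem F414024 : act 2 n199895 = n195331 := d2_1 D199895 (iv5 D195331) (iv2 F173999)
theorem F414025 : act 7 n199895 = n190230 := d13_2 F174003 D199895 F379137
theorem F414026 : act 0 n199895 = n198701 := d17_2 F174001 D199895 (iv5 D198701) (iv4 D109870) (iv5 F83894) (iv0 D53145) F40730 D50420 D109265
theorem F414027 : act 1 n199895 = n187276 := d17_6 (iv1 F202922) F173178 (iv1 D60609) (iv5 F92875) (iv4 F174000) D199895 F369683 F244996 F244995
def n199896 : Q := act 1 n111969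
theorem D199896 : act 1 n111969 = n199896 := rfl
theorem F414028 : act 7 n199896 = n195328 := d15_2 (iv0 F174007) D199896 F396725
theorem F414029 : act 4 n199896 = n199392 := d17_9 F411956 (iv5 D188901) D188899 F412280 F408876 F385942 (iv0 F385943) F219347 D199896
theorem F414030 : act 3 n148243 = n199896 := d20_3 (iv4 F232047) (iv1 F232048) D148243 (iv1 D199896) (iv3 D111969) F81529 F45231 F38825 D50446 D109315
theorem F414031 : act 5 n199709 = n199896 := d21_0 (iv1 D199896) (iv5 F219347) (iv6 F387959) F387961 F368785 D113073 (iv1 F361680) (iv5 D130530) D130531 (iv1 F413206)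
theorem F414032 : act 2 n199896 = n112049 := d2_1 F414031 F390184 F413207
theorem F414033 : act 1 n199896 = n195329 := d17_8 (iv1 F410294) F412220 (iv1 D111620) (iv5 D51478) D51477 D111617 D199709 F414031 (iv4 F410290)
def n199897 : Q := act 2 n111969
theorem D199897 : act 2 n111969 = n199897 := rfl
theorem F414034 : act 3 n199897 = n125660 := d0_2 D111969 D199897 (iv2 D125660) (iv3 D58841) F81530
theorem F414035 : act 4 n199897 = n140700 := d1_2 (iv4 F174005) D199897 (iv2 D140700)
theorem F414036 : act 5 n199897 = n141283 := d2_2 F219347 D199897 (iv2 F364297)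
theorem F414037 : act 6 n199897 = n192812 := d3_2 F413752 D199897 (iv2 F413750)
theorem F414038 : act 7 n199897 = n195329 := d4_2 (iv7 F174006) D199897 (iv2 D195329)
theorem F414039 : act 1 n199897 = n112049 := d15_0 (iv0 F174183) (iv7 F174006) D199897
theorem F414040 : act 1 n195328 = n199897 := d15_0 F414039 F174182 (iv2 F396725)
def n199898 : Q := act 3 n111970
theorem D199898 : act 3 n111970 = n199898 := rfl
theorem F414041 : act 2 n199898 = n198520 := d0_1 D199898 (iv3 F408204) (iv2 F378300) F369712 (iv2 F353513)
theorem F414042 : act 4 n199898 = n112554 := d5_2 (iv4 F353514) D199898 (iv3 F354805) F262477 F257645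
theorem F414043 : act 5 n199898 = n139639 := d6_2 (iv5 F222812) D199898 (iv3 F222809)
theorem F414044 : act 6 n199898 = n163338 := d7_2 (iv6 F353515) D199898 (iv3 D163338)
theorem F414045 : act 7 n199898 = n194270 := d8_2 (iv7 F353516) D199898 F392592
theorem F414046 : act 0 n199898 = n148243 := d20_4 F380627 (iv1 D163342) (iv4 F353514) D199898 F414030 F414029 F411956 (iv4 F380621) F380620 D190694
theorem F414047 : act 0 n112039 = n199898 := d20_4 F39431 D25100 D51672 D112039 (iv3 D199898) F353514 F351992 (iv4 F324595) (iv3 D112004) (iv1 D51656)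
def n199899 : Q := act 5 n111972
theorem D199899 : act 5 n111972 = n199899 := rfl
theorem F414048 : act 2 n199899 = n111973 := d2_1 D199899 (iv5 D111973) D111972
theorem F414049 : act 3 n199899 = n196681 := d6_1 D199899 F401467 (iv3 F174009)
theorem F414050 : act 4 n199899 = n178940 := d9_1 D199899 (iv5 F352003) (iv4 F352006) (iv5 F352011) (iv4 F347899) (iv5 D112749) F82249 D109286 (iv4 F347163) F336572 F353510 (iv5 F376076) F376075 F347145 (iv4 F174010)
theorem F414051 : act 7 n199899 = n198401 := d13_2 (iv7 F174011) D199899 (iv5 D198401)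
theorem F414052 : act 0 n199899 = n136277 := d17_2 F352012 D199899 (iv5 D136277) D136276 (iv5 F397171) (iv0 F397175) F318533 (iv0 F352000) (iv4 F352006)
theorem F414053 : act 1 n199899 = n115660 := d17_6 D113138 (iv5 F390368) F390367 F347145 (iv4 F174010) D199899 (iv5 F180027) (iv0 D64067) (iv4 F82570)
def n199900 : Q := act 4 n111973
theorem D199900 : act 4 n111973 = n199900 := rfl
theorem F414054 : act 2 n199900 = n178940 := d1_1 D199900 (iv4 F414050) F414048
theorem F414055 : act 3 n199900 = n139827 := d5_1 D199900 (iv4 D139827) F101372 F82278 (iv3 F174015)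
theorem F414056 : act 5 n199900 = n178248 := d9_2 D111973 D199900 (iv4 F352009) (iv5 F291980) (iv4 F376063) (iv5 F376066) F175530 D198401 F407892 (iv5 D163343) (iv4 F353514) F222812 (iv4 F222811) (iv5 D110405) (iv4 F81531)
theorem F414057 : act 7 n199900 = n178939 := d11_2 (iv7 F174016) D199900 F347163
theorem F414058 : act 0 n199900 = n178938 := d17_0 (iv5 F355175) (iv1 F351976) (iv5 F392752) F392751 F322990 F169199 D198360 (iv0 F407759) D199900
theorem F414059 : act 1 n199900 = n177700 := d18_8 F219341 (iv4 D136276) (iv1 D64068) (iv4 F82570) (iv5 F170801) (iv4 F407757) (iv0 F407759) D199900 (iv5 F322507)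
def n199901 : Q := act 6 n111973
theorem D199901 : act 6 n111973 = n199901 := rfl
theorem F414060 : act 3 n199901 = n111975 := d7_1 D199901 (iv6 D111975) (iv3 F174015)
theorem F414061 : act 0 n128218 = n199901 := d21_4 (iv5 F340393) (iv1 F366331) (iv5 D128261) (iv6 F206345) (iv6 D199901) (iv5 D111973) D111970 F222812 (iv6 F392846) (iv1 F392847)
def n199902 : Q := act 1 n111975
theorem D199902 : act 1 n111975 = n199902 := rfl
theorem F414062 : act 1 n199902 = n198423 := d15_1 D199902 (iv7 D198423) (iv2 F174020)
theorem F414063 : act 7 n199902 = n144117 := d15_2 (iv0 F365095) D199902 F226829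
theorem F414064 : act 2 n144129 = n199902 := d4_3 F414063 F226829 D144129
theorem E103798 : n198423 = n144126 := (c15_1 F414062 (iv0 D144126) D144129 F414064)
theorem F414065 : act 0 n144126 = n199902 := (sb E103798 (iv1 F414062))
theorem F414066 : act 3 n144126 = n193540 := (sb E103798 F407978)
theorem F414067 : act 6 n144126 = n143792 := (sb E103798 F407979)
theorem F414068 : act 7 n144126 = n109301 := (sb E103798 (iv7 D198423))
def n199903 : Q := act 5 n111975
theorem D199903 : act 5 n111975 = n199903 := rfl
theorem F414069 : act 2 n199903 = n198422 := d2_1 D199903 (iv5 D198422) (iv2 F174020)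
theorem F414070 : act 6 n199903 = n111977 := d12_2 D111975 D199903 (iv5 D111977) (iv6 D51644) D51643
def n199904 : Q := act 7 n111975
theorem D199904 : act 7 n111975 = n199904 := rfl
theorem F414071 : act 2 n199904 = n144126 := d4_1 D199904 F414068 (iv2 F174020)
theorem F414072 : act 6 n199904 = n198408 := d14_1 D199904 (iv7 D198408) (iv6 D109288) (iv7 F81534) D111975
theorem F414073 : act 1 n144129 = n199904 := d15_1 F397195 (iv7 D199904) F174020
theorem F414074 : act 1 n199904 = n144117 := d15_1 F414073 (iv7 F414063) (iv2 F414064)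
def n199905 : Q := act 3 n111976
theorem D199905 : act 3 n111976 = n199905 := rfl
theorem F414075 : act 4 n199905 = n198047 := d5_2 F174023 D199905 (iv3 D198047) (iv4 F168878) F171165
theorem F414076 : act 6 n199905 = n164075 := d7_2 (iv6 F413674) D199905 (iv3 F413676)
theorem F414077 : act 7 n199905 = n137272 := d8_2 (iv7 F174022) D199905 F220414
theorem F414078 : act 0 n199905 = n173319 := d20_4 (iv4 F169331) (iv1 F171163) F174023 D199905 (iv3 D173319) (iv4 D82945) (iv1 F59030) (iv4 F59323) F325201 D50549
theorem F414079 : act 2 n199905 = n174660 := d15_3 (iv0 D174660) (iv0 F365989) (iv7 F414077)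
theorem F414080 : act 3 n174660 = n194810 := d0_2 D199905 F414079 (iv2 F394552) (iv3 F380409) (iv2 F174024)
theorem F414081 : act 6 n174660 = n158031 := d3_2 (iv6 F414076) F414079 (iv2 F413681)
theorem F414082 : act 0 n174662 = n199905 := d20_7 (iv4 D50277) (iv1 D24521) (iv4 F38496) (iv3 F79649) D108870 D198021 (iv4 F406535) F414075 (iv3 D198047) (iv1 F168876)
def n199906 : Q := act 5 n111976
theorem D199906 : act 5 n111976 = n199906 := rfl
theorem F414083 : act 2 n199906 = n198424 := d2_1 D199906 (iv5 D198424) (iv2 F174024)
theorem F414084 : act 7 n199906 = n137274 := d13_2 (iv7 F174022) D199906 (iv5 D137274)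
theorem F414085 : act 0 n199906 = n198741 := d17_2 (iv1 F174021) D199906 (iv5 D198741) F169935 F80050 F79931 F79928 F79820 (iv4 F169324)
theorem F414086 : act 1 n199906 = n198684 := d17_6 F228352 (iv5 D145311) (iv1 F203886) F203884 F174023 D199906 (iv5 D198684) F407765 F407762
def n199907 : Q := act 0 n111977
theorem D199907 : act 0 n111977 = n199907 := rfl
theorem F414087 : act 5 n199907 = n194267 := d17_3 (iv1 D111976) D111977 D199907 F403920 (iv5 D197310) (iv0 D108084) (iv5 F80442) D110594 F174023
theorem F414088 : act 1 n198428 = n199907 := d15_0 (iv0 D199907) F174026 (iv2 F407985)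
theorem F414089 : act 2 n191000 = n199907 := d2_3 F414087 F408857 (iv5 F408861)
theorem F414090 : act 3 n190954 = n199907 := d6_3 F414087 F392581 F381684
theorem F414091 : act 6 n190970 = n199907 := d12_0 F414087 (iv6 D194267) (iv5 D103090) D103091 (iv5 F381759)
theorem F414092 : act 7 n198426 = n199907 := d13_0 F414087 (iv7 F407763) (iv5 F407982)
def n199908 : Q := act 1 n111977
theorem D199908 : act 1 n111977 = n199908 := rfl
theorem F414093 : act 1 n199908 = n198428 := d15_1 D199908 (iv7 D198428) (iv2 F174025)
theorem F414094 : act 7 n199908 = n191000 := d15_2 (iv0 D199907) D199908 F414089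
theorem F414095 : act 5 n199908 = n199824 := d17_7 F169557 F161308 (iv1 D30238) (iv5 F39422) (iv4 F81536) D111977 D199908 F413659 (iv4 D198582)
theorem F414096 : act 2 n198426 = n199908 := d2_3 F414095 F413654 (iv5 F407982)
def n199909 : Q := act 4 n111978
theorem D199909 : act 4 n111978 = n199909 := rfl
theorem F414097 : act 2 n199909 = n145453 := d1_1 D199909 F228488 F175603
theorem F414098 : act 5 n199909 = n131973 := d9_2 F413957 D199909 F211453 F96530 D128800 (iv5 F401497) (iv4 F413967) F413966 (iv4 F377805) (iv5 F377808) F203032 F328775 D128801 (iv5 F401492) (iv4 F413958)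
theorem F414099 : act 6 n199909 = n194803 := d10_2 (iv6 F393409) D199909 F394532
theorem F414100 : act 7 n199909 = n198416 := d11_2 (iv7 F175604) D199909 (iv4 D198416)
theorem F414101 : act 0 n199909 = n199178 := d17_0 (iv5 D199178) (iv1 D111039) D111041 F341783 D136297 (iv0 F401469) F401467 F174027 D199909
theorem F414102 : act 1 n199909 = n128765 := d18_8 F95184 (iv4 D60572) (iv1 F80790) (iv4 F165245) F328812 F204592 F174027 D199909 (iv5 D128765)
def n199910 : Q := act 6 n111980
theorem D199910 : act 6 n111980 = n199910 := rfl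
theorem F414103 : act 2 n199910 = n111982 := d3_1 D199910 (iv6 D111982) D111980
theorem F414104 : act 3 n199910 = n198402 := d7_1 D199910 (iv6 D198402) (iv3 F174028)
theorem F414105 : act 5 n199910 = n195683 := d12_1 D199910 F397846 F357176 D193543 F390205
theorem F414106 : act 0 n199910 = n113372 := d21_10 (iv5 D113372) F82709 D53932 (iv6 F346867) F360322 (iv6 F326184) (iv5 F407962) (iv1 F407966) F390205 D199910
theorem F414107 : act 1 n199910 = n117024 := d15_1 (iv0 F414106) (iv7 F209135) F209134
def n199911 : Q := act 7 n111982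
theorem D199911 : act 7 n111982 = n199911 := rfl
theorem F414108 : act 3 n199911 = n111987 := d8_1 D199911 (iv7 D111987) (iv3 F174035)
theorem F414109 : act 5 n199911 = n125991 := d13_1 D199911 (iv7 F202909) F346857
theorem F414110 : act 6 n199911 = n198421 := d14_1 D199911 (iv7 D198421) (iv6 D109300) (iv7 F81538) D111982
theorem F414111 : act 1 n117024 = n199911 := d15_1 F414107 (iv7 D199911) (iv2 F414103)
theorem F414112 : act 1 n199911 = n113372 := d15_1 F414111 (iv7 F402406) F402404
def n199912 : Q := act 3 n111984
theorem D199912 : act 3 n111984 = n199912 := rfl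
theorem F414113 : act 4 n199912 = n140686 := d5_2 F223532 D199912 (iv3 D140686) (iv4 F175460) (iv3 F223533)
theorem F414114 : act 5 n199912 = n137183 := d6_2 (iv5 F346909) D199912 (iv3 F352807)
theorem F414115 : act 7 n199912 = n198410 := d8_2 F175103 D199912 (iv3 D198410)
theorem F414116 : act 0 n199912 = n173824 := d20_4 (iv4 F101587) D140395 F223532 D199912 (iv3 D173824) (iv4 D83121) F326666 (iv4 F326668) (iv3 F327362) F161386
def n199913 : Q := act 0 n111986
theorem D199913 : act 0 n111986 = n199913 := rfl
theorem F414117 : act 5 n199913 = n155966 := d17_1 D199913 (iv1 F245005) (iv5 F352750) (iv4 F352792) F318329 F180846 F316908 (iv0 F318306) (iv4 F346864)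
theorem F414118 : act 2 n198411 = n199913 := d15_3 (iv0 D199913) (iv0 F244976) F407932
theorem F414119 : act 6 n199913 = n151277 := d3_2 F407933 F414118 (iv2 F366596)
theorem F414120 : act 7 n199913 = n155965 := d4_2 F407932 F414118 F245001
theorem F414121 : act 1 n198413 = n199913 := d15_1 F407942 F414120 F245001
def n199914 : Q := act 7 n111986
theorem D199914 : act 7 n111986 = n199914 := rfl
theorem F414122 : act 2 n199914 = n198413 := d4_1 D199914 (iv7 D198413) (iv2 F174041)
theorem F414123 : act 3 n199914 = n125991 := d8_1 D199914 (iv7 F202909) (iv3 F346858)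
theorem F414124 : act 4 n199914 = n125992 := d11_1 D199914 F202670 (iv4 F346864)
theorem F414125 : act 5 n199914 = n111987 := d13_1 D199914 (iv7 D111987) D111986
theorem F414126 : act 1 n155965 = n199914 := d15_1 (iv0 F245002) (iv7 D199914) F174041
theorem F414127 : act 1 n199914 = n198411 := d15_1 F414126 (iv7 F407932) (iv2 F245001)
def n199915 : Q := act 5 n111988
theorem D199915 : act 5 n111988 = n199915 := rfl
theorem F414128 : act 2 n199915 = n117073 := d2_1 D199915 F348127 (iv2 F174048)
theorem F414129 : act 6 n199915 = n178883 := d12_2 (iv6 F174049) D199915 F361862 F408271 (iv5 D137253)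
theorem F414130 : act 7 n199915 = n117078 := d13_2 (iv7 F174050) D199915 F359482
theorem F414131 : act 0 n199915 = n112129 := d17_2 (iv1 F174052) D199915 (iv5 D112129) (iv4 F169335) D195682 (iv0 F410367) F410365 F176840 F176837
theorem F414132 : act 4 n199915 = n117067 := d17_4 (iv1 F408030) F408028 (iv1 F174052) D199915 F318342 (iv0 F351427) F351429 F318332 F339855
theorem F414133 : act 1 n199915 = n112126 := d17_6 D25115 D51714 F174059 (iv5 D111989) D111988 D199915 (iv5 D112126) (iv0 D51707) F39480
def n199916 : Q := act 4 n111989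
theorem D199916 : act 4 n111989 = n199916 := rfl
theorem F414134 : act 2 n199916 = n115529 := d1_1 D199916 F179814 (iv2 F174054)
theorem F414135 : act 6 n199916 = n115249 := d10_2 (iv6 F174056) D199916 (iv4 D115249)
theorem F414136 : act 7 n199916 = n198415 := d11_2 (iv7 F174057) D199916 (iv4 D198415)
theorem F414137 : act 0 n199916 = n115716 := d17_0 F224073 (iv1 D141071) (iv5 D66158) (iv4 D30926) F24321 D25116 D51719 (iv0 F174058) D199916
theorem F414138 : act 1 n199916 = n152837 := d18_6 (iv1 F176841) F176837 (iv1 F174052) (iv4 D111988) D111989 D199916 (iv4 F397840) (iv0 F404521) F404520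
def n199917 : Q := act 4 n111990
theorem D199917 : act 4 n111990 = n199917 := rfl
theorem F414139 : act 2 n199917 = n198431 := d1_1 D199917 (iv4 D198431) (iv2 F344711)
theorem F414140 : act 3 n199917 = n180649 := d5_1 D199917 F281187 (iv3 F344695) F344696 (iv3 F344708)
theorem F414141 : act 6 n199917 = n180647 := d10_2 F344709 D199917 F281182
theorem F414142 : act 7 n199917 = n198429 := d11_2 F344710 D199917 (iv4 D198429)
def n199918 : Q := act 6 n111992
theorem D199918 : act 6 n111992 = n199918 := rfl
theorem F414143 : act 2 n199918 = n111993 := d3_1 D199918 (iv6 D111993) D111992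
theorem F414144 : act 3 n199918 = n198451 := d7_1 D199918 (iv6 D198451) (iv3 F174061)
theorem F414145 : act 4 n199918 = n197876 := d10_1 D199918 (iv6 D197876) (iv4 F174062)
theorem F414146 : act 7 n199918 = n198561 := d14_2 (iv7 F174063) D199918 (iv6 F408754) F408751 (iv6 D198433)
theorem F414147 : act 0 n199918 = n198538 := d21_4 (iv5 F361862) (iv1 F408685) F408683 D199918 (iv6 D198538) D198537 (iv1 F408269) F169515 (iv6 F81754) D112231
theorem E103799 : n198560 = n198538 := (c15_1 D198560 (iv0 F414147) F414146 (iv2 D198561))
theorem F414148 : act 0 n198538 = n109572 := (sb E103799 (iv1 D198560))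
theorem F414149 : act 1 n199918 = n198559 := d15_0 (iv0 D198559) F174069 (iv2 F414143)
theorem F414150 : act 7 n198559 = n199840 := d15_2 (iv0 F414147) F414149 F413758
theorem F414151 : act 6 n199853 = n198559 := d14_5 F414150 (iv6 D199840) (iv7 F204863) D198534 F413829
def n199919 : Q := act 1 n111993
theorem D199919 : act 1 n111993 = n199919 := rfl
theorem F414152 : act 1 n199919 = n198561 := d15_1 D199919 (iv7 F414146) F414143
theorem F414153 : act 7 n199919 = n198538 := d15_2 (iv0 F413760) D199919 (iv2 F413758)
theorem F414154 : act 2 n198559 = n199919 := d4_3 F414153 (iv2 F413758) (iv7 F414150)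
theorem F414155 : act 3 n194831 = n199919 := d8_3 F414153 F408273 F394656
def n199920 : Q := act 5 n111993
theorem D199920 : act 5 n111993 = n199920 := rfl
theorem F414156 : act 3 n199920 = n111994 := d6_1 D199920 (iv5 D111994) (iv3 F174067)
theorem F414157 : act 7 n199920 = n198562 := d13_2 F174069 D199920 (iv5 D198562)
theorem F414158 : act 4 n199920 = n198722 := d18_5 (iv1 F392203) F406095 (iv1 D197880) (iv4 F174068) D199920 (iv0 D198722) F381615 (iv0 D190109) (iv5 F160480)
theorem F414159 : act 0 n199920 = n190193 := d21_7 F378822 F382774 F382771 F378068 (iv1 D111991) D111993 D199920 F379054 (iv6 D189867) D189864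
def n199921 : Q := act 4 n111994
theorem D199921 : act 4 n111994 = n199921 := rfl
theorem F414160 : act 2 n199921 = n198461 := d1_1 D199921 (iv4 D198461) (iv2 F174070)
theorem F414161 : act 7 n199921 = n198563 := d11_2 (iv7 F174071) D199921 (iv4 D198563)
def n199922 : Q := act 5 n111995
theorem D199922 : act 5 n111995 = n199922 := rfl
theorem F414162 : act 2 n199922 = n198448 := d2_1 D199922 (iv5 D198448) F373742
theorem F414163 : act 3 n199922 = n194618 := d6_1 D199922 (iv5 F394529) F394527
theorem F414164 : act 7 n199922 = n198446 := d13_2 F373743 D199922 (iv5 D198446)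
theorem F414165 : act 0 n199922 = n115643 := d17_2 D111995 D199922 F180010 F169701 (iv5 F222862) (iv0 D139685) (iv5 F175069) (iv0 D112553) F81989
theorem F414166 : act 1 n199922 = n112018 := d17_6 F330673 (iv5 F323584) (iv1 F224523) (iv5 F409916) F409917 D199922 F174121 D112235 F330679
theorem F414167 : act 6 n199922 = n194617 := d21_3 F169717 D111995 D199922 F393842 (iv6 D112989) D112988 (iv1 F245465) F210034 (iv6 F211362) F359067
theorem F414168 : act 0 n144291 = n198651 := d21_4 F366637 (iv1 F365048) (iv5 D144290) D144291 (iv6 D198651) F169717 D111995 D199922 F414167 F393842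
def n199923 : Q := act 6 n111997
theorem D199923 : act 6 n111997 = n199923 := rfl
theorem F414169 : act 2 n199923 = n111998 := d3_1 D199923 (iv6 D111998) D111997
theorem F414170 : act 3 n199923 = n198433 := d7_1 D199923 (iv6 D198433) (iv3 F174073)
theorem F414171 : act 4 n199923 = n173338 := d10_1 D199923 F340651 F175074
theorem F414172 : act 7 n199923 = n174885 := d14_2 (iv7 F174074) D199923 (iv6 F334712) F408065 (iv6 D198451)
def n199924 : Q := act 0 n111998
theorem D199924 : act 0 n111998 = n199924 := rfl
theorem F414173 : act 5 n199924 = n117033 := d17_1 D199924 F408734 F408735 (iv4 D174175) (iv5 D83256) F318963 D172016 (iv0 F340646) F175084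
theorem F414174 : act 4 n199924 = n164154 := d18_3 (iv1 F340648) F175084 D199924 F345819 F262763 F345825 F191103 (iv0 F321092) (iv5 F271878)
theorem F414175 : act 3 n117034 = n199924 := d5_5 F414174 (iv3 F362179) F341700 (iv3 F267763) F332911
theorem F414176 : act 6 n164152 = n199924 := d10_0 F414174 (iv6 D164154) D164152
theorem F414177 : act 1 n174885 = n199924 := d18_6 F351950 (iv4 F316141) (iv1 F195779) (iv4 F253925) F300634 D174885 F414174 F345368 (iv5 F315533)
theorem F414178 : act 0 n199859 = n164152 := d21_4 D86307 (iv1 F281172) (iv5 F327412) D199859 F414176 F414173 F408734 F408735 F328758 (iv1 F132255)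
def n199925 : Q := act 1 n111998
theorem D199925 : act 1 n111998 = n199925 := rfl
theorem F414179 : act 1 n199925 = n174885 := d15_1 D199925 (iv7 F414172) F414169
theorem F414180 : act 6 n177531 = n199925 := d21_3 (iv5 D198667) (iv1 F353284) (iv5 F345354) (iv1 D199925) (iv6 D111998) (iv5 F169717) (iv1 F408642) (iv5 D198634) (iv6 F351035) (iv1 F408794)
theorem F414181 : act 4 n199925 = n177533 := d10_1 F414180 (iv6 D177533) D177531
def n199926 : Q := act 5 n111998
theorem D199926 : act 5 n111998 = n199926 := rfl
theorem F414182 : act 3 n199926 = n111999 := d6_1 D199926 (iv5 D111999) (iv3 F174078)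
def n199927 : Q := act 7 n111998
theorem D199927 : act 7 n111998 = n199927 := rfl
theorem F414183 : act 2 n199927 = n174885 := d4_1 D199927 (iv7 F414172) F414169
theorem F414184 : act 3 n199927 = n112000 := d8_1 D199927 (iv7 D112000) (iv3 F174078)
theorem F414185 : act 4 n199927 = n173408 := d11_1 D199927 F358673 F175084
theorem F414186 : act 6 n199927 = n174692 := d14_1 D199927 (iv7 F340640) (iv6 D109319) (iv7 F81555) D111998
def n199928 : Q := act 4 n111999
theorem D199928 : act 4 n111999 = n199928 := rfl
theorem F414187 : act 2 n199928 = n198443 := d1_1 D199928 (iv4 D198443) (iv2 F174079)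
def n199929 : Q := act 4 n112016
theorem D199929 : act 4 n112016 = n199929 := rfl
theorem F414188 : act 3 n199929 = n116197 := d5_1 D199929 (iv4 F396826) (iv3 D195366) F162075 D112016
theorem F414189 : act 7 n199929 = n141341 := d11_2 (iv7 F174118) D199929 (iv4 F347151)
theorem F414190 : act 1 n199929 = n116170 := d18_6 F406771 (iv4 D198094) (iv1 D108919) (iv4 F81753) (iv5 F174117) D199929 (iv4 F225346) (iv0 D142438) D142440
theorem F414191 : act 6 n199929 = n118231 := d21_5 F187726 F182658 F182657 (iv6 F319284) (iv1 F414190) (iv5 D118231) (iv1 F188319) D148996 F234191 (iv1 F187727)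
def n199930 : Q := act 6 n112016
theorem D199930 : act 6 n112016 = n199930 := rfl
theorem F414192 : act 2 n199930 = n178713 := d3_1 D199930 (iv6 F363698) (iv2 F361867)
theorem F414193 : act 3 n199930 = n112017 := d7_1 D199930 (iv6 D112017) D112016
theorem F414194 : act 4 n199930 = n118231 := d10_1 D199930 (iv6 F414191) (iv4 D199929)
theorem F414195 : act 5 n199930 = n190050 := d12_1 D199930 (iv6 F378647) F169515 (iv6 F81754) (iv5 F174117)
theorem F414196 : act 7 n199930 = n142359 := d14_2 (iv7 F174118) D199930 (iv6 D142359) F181712 (iv6 F347152)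
theorem F414197 : act 0 n112123 = n199930 := d21_4 (iv5 D112129) (iv1 D51708) D51709 (iv6 F174333) (iv6 D199930) F174117 D112231 (iv5 F361862) (iv6 F414129) F414131
theorem F414198 : act 1 n116512 = n199930 := d15_0 (iv0 F414197) F339842 (iv2 F322197)
def n199931 : Q := act 2 n112018
theorem D199931 : act 2 n112018 = n199931 := rfl
theorem F414199 : act 3 n199931 = n142361 := d0_2 D112018 D199931 (iv2 F347150) (iv3 D109342) F81575
theorem F414200 : act 4 n199931 = n115613 := d1_2 F174123 D199931 F179946
theorem F414201 : act 5 n199931 = n112236 := d2_2 (iv5 F174121) D199931 (iv2 D112236)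
theorem F414202 : act 6 n199931 = n115618 := d3_2 (iv6 F336227) D199931 F179957
theorem F414203 : act 7 n199931 = n115643 := d4_2 (iv7 F174122) D199931 F180009
theorem F414204 : act 1 n199931 = n198446 := d15_0 F408035 (iv7 F174122) D199931
theorem F414205 : act 1 n198448 = n199931 := d15_0 F414204 (iv7 F414164) F414162
def n199932 : Q := act 7 n112019
theorem D199932 : act 7 n112019 = n199932 := rfl
theorem F414206 : act 2 n199932 = n142357 := d4_1 D199932 (iv7 F364292) (iv2 F174124)
theorem F414207 : act 3 n199932 = n116962 := d8_1 D199932 F182819 (iv3 F336219)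
theorem F414208 : act 4 n199932 = n136312 := d11_1 D199932 F364293 F219382
theorem F414209 : act 6 n199932 = n193935 := d14_1 D199932 F391442 (iv6 D109345) (iv7 F81573) D112019
theorem F414210 : act 1 n194059 = n199932 := d15_1 (iv0 F391908) (iv7 D199932) F174124
theorem F414211 : act 1 n199932 = n195514 := d15_1 F414210 (iv7 F401731) F401728
def n199933 : Q := act 0 n112020
theorem D199933 : act 0 n112020 = n199933 := rfl
theorem F414212 : act 5 n199933 = n115431 := d17_3 (iv1 D115294) (iv5 F174125) D199933 (iv4 F336242) (iv5 D178670) D178669 (iv5 F408058) (iv0 F330604) (iv4 F330602)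
theorem F414213 : act 4 n199933 = n143482 := d20_2 F349489 D199933 (iv3 D143482) (iv1 D67207) F328847 D64595 F100529 F76890 (iv3 F99588) (iv1 F349488)
theorem F414214 : act 2 n195478 = n199933 := d15_3 (iv0 D199933) F349446 (iv7 F397114)
theorem F414215 : act 1 n195507 = n199933 := d15_0 (iv0 D199933) F174126 D195507
theorem F414216 : act 7 n199933 = n195476 := d15_2 F397186 F414215 F397106
theorem F414217 : act 6 n199933 = n193926 := d3_2 (iv6 F397116) F414214 (iv2 F391418)
def n199934 : Q := act 2 n112020
theorem D199934 : act 2 n112020 = n199934 := rfl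
theorem F414218 : act 3 n199934 = n195470 := d0_2 D112020 D199934 (iv2 F397075) (iv3 D105638) (iv2 F81576)
theorem F414219 : act 4 n199934 = n193966 := d1_2 F349489 D199934 (iv2 D193966)
theorem F414220 : act 5 n199934 = n115295 := d2_2 (iv5 F174125) D199934 (iv2 D115295)
theorem F414221 : act 7 n199934 = n195507 := d4_2 (iv7 F174126) D199934 (iv2 D195507)
theorem F414222 : act 1 n199934 = n195476 := d15_0 (iv0 F397109) (iv7 F174126) D199934
theorem F414223 : act 1 n195478 = n199934 := d15_0 F414222 (iv7 F414216) (iv2 F414214)
def n199935 : Q := act 6 n112020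
theorem D199935 : act 6 n112020 = n199935 := rfl
theorem F414224 : act 3 n199935 = n112021 := d7_1 D199935 (iv6 D112021) D112020
theorem F414225 : act 4 n199935 = n193967 := d10_1 D199935 (iv6 D193967) F349489
theorem F414226 : act 0 n145114 = n199935 := d20_4 F107060 (iv1 F105562) F104149 D145114 F414224 F174128 D112022 F358507 (iv3 D70593) D70591
def n199936 : Q := act 1 n112021
theorem D199936 : act 1 n112021 = n199936 := rfl
theorem F414227 : act 1 n199936 = n194325 := d15_1 D199936 (iv7 F392834) (iv2 F174127)
theorem F414228 : act 7 n199936 = n194321 := d15_2 (iv0 F358516) D199936 F392820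
theorem F414229 : act 4 n199936 = n192414 := d18_7 (iv1 F369968) F369964 (iv1 F286181) F340564 (iv5 D112024) (iv4 F174128) D199936 F386679 F349217
theorem F414230 : act 2 n192418 = n199936 := d1_3 F414229 F386676 D192418
def n199937 : Q := act 5 n112021
theorem D199937 : act 5 n112021 = n199937 := rfl
theorem F414231 : act 2 n199937 = n195506 := d2_1 D199937 (iv5 D195506) (iv2 F174127)
theorem F414232 : act 6 n199937 = n115297 := d12_2 D112021 D199937 (iv5 D115297) (iv6 D53191) (iv5 F81577)
def n199938 : Q := act 7 n112021
theorem D199938 : act 7 n112021 = n199938 := rfl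
theorem F414233 : act 2 n199938 = n194325 := d4_1 D199938 (iv7 F392834) (iv2 F174127)
theorem F414234 : act 4 n199938 = n112025 := d11_1 D199938 (iv7 D112025) (iv4 F174128)
theorem F414235 : act 6 n199938 = n195512 := d14_1 D199938 (iv7 D195512) (iv6 D105641) (iv7 F81578) D112021
theorem F414236 : act 1 n192418 = n199938 := d15_1 (iv0 F386693) (iv7 D199938) F174127
theorem F414237 : act 1 n199938 = n194321 := d15_1 F414236 (iv7 F414228) (iv2 F414230)
def n199939 : Q := act 6 n112023
theorem D199939 : act 6 n112023 = n199939 := rfl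
def n199940 : Q := act 4 n112028
theorem D199940 : act 4 n112028 = n199940 := rfl
theorem F414238 : act 2 n199940 = n186906 := d1_1 D199940 (iv4 F414005) (iv2 F414008)
theorem F414239 : act 5 n199940 = n185117 := d16_1 D199940 F363545 (iv5 D139653) F182857 (iv5 F203192) (iv4 F380385) F380384 (iv7 F414010) (iv2 F414008)
theorem F414240 : act 0 n199940 = n186485 := d17_0 (iv5 F289351) F385100 (iv5 D191985) F153221 (iv5 F329882) (iv0 F328682) F149599 (iv0 F358519) D199940
theorem F414241 : act 3 n199940 = n185119 := d20_3 (iv4 D112030) D112028 D199940 F356400 (iv3 F368177) F368178 (iv1 F145644) (iv4 F367762) F367761 (iv1 F340561)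
def n199941 : Q := act 4 n112029
theorem D199941 : act 4 n112029 = n199941 := rfl
theorem F414242 : act 3 n199941 = n172225 := d5_1 D199941 (iv4 F380923) F380922 (iv4 F380931) F380930
theorem F414243 : act 6 n199941 = n172223 := d10_2 (iv6 F358526) D199941 F270436
theorem F414244 : act 7 n199941 = n186906 := d11_2 F414010 D199941 (iv4 F414005)
def n199942 : Q := act 2 n112039
theorem D199942 : act 2 n112039 = n199942 := rfl
theorem F414245 : act 3 n199942 = n195328 := d0_2 D112039 D199942 F396725 (iv3 D109444) (iv2 F173327)
theorem F414246 : act 4 n199942 = n116681 := d1_2 (iv4 F174156) D199942 F182066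
theorem F414247 : act 6 n199942 = n166408 := d3_2 (iv6 F321851) D199942 F261979
theorem F414248 : act 7 n199942 = n148243 := d4_2 (iv7 F174157) D199942 F232086
theorem F414249 : act 1 n199942 = n194270 := d15_0 (iv0 F392594) (iv7 F174157) D199942
theorem F414250 : act 1 n198520 = n199942 := d15_0 F414249 (iv7 F414045) F414041
theorem F414251 : act 5 n115658 = n199942 := d17_7 (iv1 D110598) (iv5 F84783) (iv1 D53774) D53775 (iv4 F334015) D176893 F349844 F414249 F392593
def n199943 : Q := act 5 n112039
theorem D199943 : act 5 n112039 = n199943 := rfl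
theorem F414252 : act 2 n199943 = n115658 := d2_1 D199943 F414251 (iv2 D199942)
theorem F414253 : act 3 n199943 = n112040 := d6_1 D199943 (iv5 D112040) D112039
theorem F414254 : act 7 n199943 = n115659 := d13_2 (iv7 F174157) D199943 (iv5 F349841)
theorem F414255 : act 4 n199943 = n139673 := d16_2 (iv4 F174156) D199943 (iv5 D139673) (iv4 D65559) (iv5 F105788) D32270 D69494 (iv7 F182067) F182066
theorem F414256 : act 0 n199943 = n115663 := d17_2 F393439 D199943 (iv5 F349843) F340643 (iv5 F166908) F84775 D69199 F175071 (iv4 F393437)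
theorem F414257 : act 1 n199943 = n115651 := d17_6 (iv1 F254488) F330674 (iv1 D69478) D69480 (iv4 F174156) D199943 F180021 D147670 (iv4 F349826)
def n199944 : Q := act 3 n112047
theorem D199944 : act 3 n112047 = n199944 := rfl
theorem F414258 : act 2 n199944 = n199392 := d0_1 D199944 (iv3 D199392) F173368 F325712 F324583
theorem F414259 : act 4 n199944 = n112049 := d5_2 D112047 D199944 (iv3 D112049) (iv4 D51677) D51676
theorem F414260 : act 6 n199944 = n124431 := d7_2 (iv6 F324528) D199944 (iv3 D124431)
theorem F414261 : act 7 n199944 = n180431 := d8_2 F325626 D199944 (iv3 D180431)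
theorem F414262 : act 0 n199944 = n199583 := d20_4 F325619 F324521 D112047 D199944 (iv3 F412762) (iv4 D197856) (iv1 F345340) (iv4 F409167) (iv3 D198773) (iv1 F170322)
theorem F414263 : act 1 n199944 = n199508 := d15_1 (iv0 F414262) F412456 (iv2 F412763)
def n199945 : Q := act 6 n112049
theorem D199945 : act 6 n112049 = n199945 := rfl
theorem F414264 : act 3 n199945 = n112051 := d7_1 D199945 (iv6 D112051) D112049
theorem F414265 : act 4 n199945 = n124431 := d10_1 D199945 (iv6 F414260) F414259
theorem F414266 : act 7 n199945 = n173824 := d14_2 (iv7 F174182) D199945 F302235 (iv7 F271745) (iv6 F365999)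
theorem F414267 : act 0 n198410 = n199945 := d21_4 (iv5 D124479) (iv1 F129381) (iv5 F276221) (iv6 F407930) (iv6 D199945) F390184 (iv1 F413176) (iv5 D199702) (iv6 F358922) F272981
def n199946 : Q := act 3 n112088
theorem D199946 : act 3 n112088 = n199946 := rfl
theorem F414268 : act 5 n199946 = n195653 := d6_2 F346803 D199946 F397737
theorem F414269 : act 6 n199946 = n195081 := d7_2 F348788 D199946 (iv3 F395696)
theorem F414270 : act 7 n199946 = n198694 := d8_2 F378719 D199946 (iv3 D198694)
theorem F414271 : act 0 n199946 = n195026 := d19_4 F373311 D194544 F393668 D199946 F395480 (iv4 D114234) (iv3 D52724) (iv1 D25591) (iv5 F39978) (iv4 F82414) (iv3 F175889) (iv1 F365027) F365103 (iv4 F222799) (iv3 D139633) (iv1 F179603) (iv5 F179989) (iv4 F391499) F391501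
theorem F414272 : act 4 n199946 = n125849 := d20_6 (iv4 D51723) (iv1 F39483) (iv4 F80035) (iv3 F337331) F337328 D199946 (iv1 D125849) F169469 F174370 (iv1 D112148)
theorem F414273 : act 0 n195030 = n199946 := d20_4 (iv4 F174897) (iv1 F408945) (iv4 D198706) (iv3 F395491) (iv3 D199946) (iv4 F393668) (iv1 F393670) (iv4 D190322) (iv3 F379379) F379382
def n199947 : Q := act 3 n112093
theorem D199947 : act 3 n112093 = n199947 := rfl
theorem F414274 : act 2 n199947 = n174175 := d0_1 D199947 (iv3 F408740) F408739 (iv3 D112125) (iv2 F174269)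
theorem F414275 : act 4 n199947 = n126335 := d5_2 F174268 D199947 (iv3 D126335) (iv4 D59226) D59225
theorem F414276 : act 6 n199947 = n112259 := d7_2 (iv6 F174533) D199947 (iv3 D112259)
theorem F414277 : act 7 n199947 = n112128 := d8_2 (iv7 F174270) D199947 (iv3 D112128)
theorem F414278 : act 0 n199947 = n159276 := d20_10 (iv4 D159276) (iv1 F250701) (iv4 F394597) (iv3 F407249) (iv1 D198213) F169051 (iv4 F163185) F174271 F174268 D199947
theorem F414279 : act 5 n144082 = n199947 := d12_5 F414276 (iv5 F413846) (iv6 F413849) F365103 D144082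
theorem F414280 : act 0 n159281 = n199947 := d21_4 F169498 (iv1 F225889) F225888 (iv6 F381053) F414276 (iv5 F413846) (iv1 F413851) (iv5 D164131) (iv6 F351017) (iv1 F173626)
def n199948 : Q := act 5 n112093
theorem D199948 : act 5 n112093 = n199948 := rfl
theorem F414281 : act 2 n199948 = n112126 := d2_1 D199948 (iv5 D112126) (iv2 F174269)
theorem F414282 : act 3 n199948 = n144082 := d6_1 D199948 F414279 (iv3 D199947)
theorem F414283 : act 6 n199948 = n117046 := d12_2 (iv6 F174533) D199948 F413858 (iv6 D199864) F174532
theorem F414284 : act 7 n199948 = n112129 := d13_2 (iv7 F174270) D199948 (iv5 D112129)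
theorem F414285 : act 0 n199948 = n117073 := d17_2 D112093 D199948 F348127 (iv4 D66174) F161273 (iv0 F174283) (iv5 D112098) (iv0 D51694) (iv4 F81619)
theorem F414286 : act 1 n199948 = n117078 := d17_6 D140395 (iv5 F403090) F403089 (iv5 D126333) F174268 D199948 F359482 F173566 (iv4 F101587)
theorem F414287 : act 4 n199948 = n140714 := d18_5 (iv1 F166054) (iv4 F163185) F174271 F174268 D199948 F348056 F352803 F352805 (iv5 D112144)
def n199949 : Q := act 4 n112098
theorem D199949 : act 4 n112098 = n199949 := rfl
theorem F414288 : act 2 n199949 = n112140 := d1_1 D199949 (iv4 D112140) (iv2 F174280)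
theorem F414289 : act 5 n199949 = n141075 := d9_2 D112098 D199949 (iv4 D141075) (iv5 F318329) F352792 F352750 (iv4 D112099) (iv5 F111542) (iv4 F245612) (iv5 F346902) (iv4 D117083) (iv5 D53952) (iv4 F85061) (iv5 F346878) (iv4 D112097)
theorem F414290 : act 7 n199949 = n112146 := d11_2 (iv7 F174282) D199949 (iv4 D112146)
theorem F414291 : act 0 n199949 = n115519 := d18_2 F174284 D199949 (iv4 F410364) F410365 (iv4 F175062) F174046 F174043 F81549 D109294
def n199950 : Q := act 4 n112100
theorem D199950 : act 4 n112100 = n199950 := rfl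
theorem F414292 : act 2 n199950 = n198704 := d1_1 D199950 (iv4 D198704) (iv2 F230603)
theorem F414293 : act 3 n199950 = n160571 := d5_1 D199950 F253653 (iv3 F336508) (iv4 F318890) F318889
theorem F414294 : act 6 n199950 = n160569 := d10_2 F364247 D199950 (iv4 F262404)
theorem F414295 : act 7 n199950 = n198702 := d11_2 (iv7 F230601) D199950 (iv4 D198702)
theorem F414296 : act 1 n199455 = n199950 := d15_1 D199455 F414295 F408934
theorem F414297 : act 1 n199950 = n199436 := d15_1 F414296 F412189 (iv2 F412269)
theorem E103800 : n199454 = n199436 := ((c15_1 F414297 (iv0 D199454) (iv7 F408939) (iv2 F414292))).symm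
theorem F414298 : act 1 n199436 = n111335 := (sb E103800 (iv0 D199454))
def n199951 : Q := act 6 n112101
theorem D199951 : act 6 n112101 = n199951 := rfl
theorem F414299 : act 2 n199951 = n198703 := d3_1 D199951 (iv6 D198703) F230602
theorem F414300 : act 3 n199951 = n193939 := d7_1 D199951 F407206 (iv3 F407205)
theorem F414301 : act 4 n199951 = n199457 := d10_1 D199951 (iv6 D199457) F174289
theorem F414302 : act 5 n199951 = n193937 := d12_1 D199951 (iv6 D193937) (iv5 F368504) (iv6 F380538) F380534
theorem F414303 : act 0 n193937 = n198437 := d21_7 F347158 D155738 F361869 F174560 F174290 D199951 F414302 (iv5 D198437) (iv6 D109310) D109306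
theorem F414304 : act 0 n199951 = n112125 := d21_10 (iv5 F408520) (iv1 D198610) D198611 F408525 F169685 (iv6 F354553) (iv5 F354568) (iv1 F380536) F380534 D199951
def n199952 : Q := act 6 n112102
theorem D199952 : act 6 n112102 = n199952 := rfl
theorem F414305 : act 2 n199952 = n112103 := d3_1 D199952 (iv6 D112103) D112102
theorem F414306 : act 3 n199952 = n198708 := d7_1 D199952 (iv6 D198708) (iv3 F174291)
theorem F414307 : act 4 n199952 = n196471 := d10_1 D199952 F409250 F409246
theorem F414308 : act 7 n199952 = n198627 := d14_2 (iv7 F174292) D199952 (iv6 D198627) (iv7 F174561) F174560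
theorem F414309 : act 0 n199952 = n198629 := d21_4 F169494 D157641 F248412 D199952 (iv6 F408622) (iv5 D190684) F289638 (iv5 F354564) (iv6 D109536) D109532
theorem F414310 : act 1 n199952 = n198628 := d15_1 (iv0 F414309) (iv7 F408620) (iv2 F408623)
def n199953 : Q := act 1 n112103
theorem D199953 : act 1 n112103 = n199953 := rfl
theorem F414311 : act 1 n199953 = n198627 := d15_1 D199953 (iv7 F414308) F414305
theorem F414312 : act 7 n199953 = n198629 := d15_2 (iv0 F380598) D199953 F408623
theorem F414313 : act 4 n128808 = n199953 := d20_6 (iv4 D51530) (iv1 F39272) (iv4 F79529) (iv3 F330483) (iv1 F95194) (iv3 F207061) (iv1 D199953) (iv4 F412014) F412013 (iv1 F172680)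
theorem F414314 : act 0 n125507 = n128808 := d18_0 F414313 (iv1 D199953) (iv4 F412014) (iv5 F412017) (iv4 F400781) (iv0 D125469) F92813 D58755 D125507
theorem F414315 : act 1 n136372 = n152576 := d17_6 (iv1 F201852) D125507 F414314 (iv5 D128808) (iv4 F99799) D136372 F412018 F219576 F219573
theorem F414316 : act 2 n198628 = n199953 := d4_3 F414312 F408623 F408620
def n199954 : Q := act 0 n112104
theorem D199954 : act 0 n112104 = n199954 := rfl
theorem F414317 : act 5 n199954 = n198414 := d17_3 F166188 D112104 D199954 F407944 F169317 (iv0 D51542) F39286 F161309 D50869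
theorem F414318 : act 2 n198632 = n199954 := d15_3 (iv0 D199954) (iv0 F409401) F409400
theorem F414319 : act 1 n112238 = n199954 := d15_0 (iv0 D199954) F174298 (iv2 F174575)
theorem F414320 : act 7 n199954 = n198631 := d15_2 F409402 F414319 (iv2 F409398)
theorem F414321 : act 3 n195813 = n199954 := d19_19 (iv1 F414319) (iv5 D112238) (iv4 F81955) F81954 D51922 (iv5 F170740) (iv4 F409585) F409584 F330815 (iv5 F330818) F96249 (iv3 F96225) (iv1 F97954) F97951 F93546 F80522 F114392 (iv5 F178634) (iv4 F398293)
theorem F414322 : act 6 n199954 = n124997 := d7_2 F398294 F414321 F366282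
def n199955 : Q := act 6 n112105
theorem D199955 : act 6 n112105 = n199955 := rfl
theorem F414323 : act 2 n199955 = n159281 := d3_1 D199955 F381053 (iv2 F225653)
theorem F414324 : act 4 n199955 = n159205 := d10_1 D199955 (iv6 F409067) F409066
theorem F414325 : act 0 n199955 = n174175 := d21_4 F94442 D127697 F205299 D199955 F328758 D180630 (iv1 F373701) (iv5 D188495) F351022 (iv1 D109540)
theorem F414326 : act 1 n199955 = n112128 := d15_1 (iv0 F414325) (iv7 F414277) F414274
theorem F414327 : act 7 n159276 = n199955 := d11_0 F414324 F345830 D159276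
def n199956 : Q := act 3 n112106
theorem D199956 : act 3 n112106 = n199956 := rfl
theorem F414328 : act 2 n199956 = n189827 := d0_1 D199956 (iv3 F380247) (iv2 F395488) F395491 (iv2 F225651)
theorem F414329 : act 5 n199956 = n189823 := d6_2 (iv5 F205302) D199956 (iv3 F377882)
theorem F414330 : act 7 n199956 = n189828 := d8_2 F225654 D199956 F377903
theorem F414331 : act 0 n199956 = n113444 := d19_4 (iv1 F359112) (iv5 F409071) F409072 D199956 (iv5 F204811) (iv4 F397414) (iv3 D195576) F162418 D117350 (iv4 F231799) (iv3 F365706) (iv1 F218236) (iv5 F218312) F218310 F208209 F203467 F203466 F162108 D137313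
theorem F414332 : act 0 n112108 = n199956 := d20_4 F170045 (iv1 F323056) (iv4 F324464) D112108 (iv3 D199956) (iv4 F409072) (iv1 D198750) F170161 (iv3 D109930) D109928
theorem F414333 : act 4 n195695 = n199956 := d1_0 F414328 F377901 D195695
theorem F414334 : act 1 n126218 = n195695 := d18_6 (iv1 F390530) F259074 (iv1 F353127) (iv4 F393622) F393623 (iv4 F244963) F414333 (iv0 F414332) F204912
def n199957 : Q := act 6 n112106
theorem D199957 : act 6 n112106 = n199957 := rfl
theorem F414335 : act 2 n199957 = n198707 := d3_1 D199957 (iv6 D198707) (iv2 F225651)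
theorem F414336 : act 4 n199957 = n138142 := d10_1 D199957 F409073 F409072
theorem F414337 : act 0 n198729 = n199957 := d21_4 (iv5 F338791) (iv1 F353280) D198667 (iv6 F409007) (iv6 D199957) F205302 (iv1 D127698) (iv5 F94442) D109542 (iv1 F349881)
theorem F414338 : act 7 n198728 = n199957 := d11_0 F414336 (iv7 F359104) (iv4 F409004)
theorem F414339 : act 3 n160675 = n199957 := d20_5 (iv4 D36437) (iv1 F28601) D35196 D77065 D160675 F414336 F323886 (iv4 F248948) (iv3 D158019) F112863
theorem F414340 : act 0 n199957 = n198698 := d20_1 (iv4 F414336) F408923 (iv3 D126017) F168983 (iv3 F407047) F407048 F327462 F333845 F221331 D138142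
theorem F414341 : act 6 n199956 = n160675 := d7_0 F414339 (iv6 D199957) D199956
theorem F414342 : act 7 n166668 = n160675 := d8_0 F414339 (iv7 F414338) (iv3 F409005)
theorem F414343 : act 2 n160675 = n166669 := d15_3 F262306 F262301 F414342
theorem F414344 : act 2 n166668 = n160676 := d15_3 F262307 F262305 (iv7 F414342)
theorem F414345 : act 7 n160676 = n166669 := d4_2 (iv7 F414342) F414344 (iv2 F414343)
def n199958 : Q := act 1 n112108
theorem D199958 : act 1 n112108 = n199958 := rfl
theorem F414346 : act 1 n199958 = n113444 := d15_1 D199958 (iv7 F204915) F204913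
theorem F414347 : act 7 n199958 = n189827 := d15_2 (iv0 F414332) D199958 (iv2 F414328)
theorem F414348 : act 5 n199958 = n127780 := d18_9 (iv1 F259561) F146949 D149998 F347795 (iv5 D113455) (iv4 D52373) D52371 (iv4 F174309) D199958
theorem F414349 : act 4 n195684 = n199958 := d20_0 (iv1 D199958) F174309 D113447 (iv1 F176634) (iv3 F173417) (iv4 D111698) D111695 F173416 D126218 F397850
theorem F414350 : act 3 n195026 = n199958 := d20_3 (iv4 F76483) D105174 D195026 (iv1 D199958) (iv3 D112108) F324464 (iv1 D80002) (iv4 F122792) (iv3 F325233) (iv1 D74182)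
theorem F414351 : act 2 n199958 = n189828 := d0_1 F414350 F377903 (iv2 F225653) (iv3 F380249) (iv2 F395478)
def n199959 : Q := act 6 n112108
theorem D199959 : act 6 n112108 = n199959 := rfl
theorem F414352 : act 3 n199959 = n112109 := d7_1 D199959 (iv6 D112109) D112108
theorem F414353 : act 4 n199959 = n113449 := d10_1 D199959 (iv6 D113449) (iv4 F174309)
theorem F414354 : act 7 n199959 = n198635 := d14_2 (iv7 F174308) D199959 (iv6 D198635) (iv7 F174577) F358194
theorem F414355 : act 0 n128885 = n199959 := d18_2 (iv1 D128884) D128885 F414353 (iv5 F402693) F402692 F177005 F328472 D128586 (iv5 F362255)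
theorem F414356 : act 0 n199959 = n189836 := d20_4 F256893 D162655 (iv4 F362592) (iv3 F414352) F377932 (iv4 D155086) D155084 (iv4 F395053) F395054 (iv1 F344526)
def n199960 : Q := act 5 n112109
theorem D199960 : act 5 n112109 = n199960 := rfl
theorem F414357 : act 2 n199960 = n198712 := d2_1 D199960 (iv5 D198712) (iv2 F174314)
theorem F414358 : act 7 n199960 = n198636 := d13_2 (iv7 F362597) D199960 (iv5 D198636)
theorem F414359 : act 0 n199960 = n164121 := d17_2 F362594 D199960 (iv5 D164121) (iv4 D78843) D78844 F324516 F325609 F326913 (iv4 F170553)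
theorem F414360 : act 1 n199960 = n164126 := d17_6 D55901 (iv5 F358811) F373750 F373747 (iv4 F362592) D199960 (iv5 D164126) F298016 F88443
def n199961 : Q := act 0 n112114
theorem D199961 : act 0 n112114 = n199961 := rfl
def n199962 : Q := act 1 n112114
theorem D199962 : act 1 n112114 = n199962 := rfl
theorem F414361 : act 3 n170411 = n199962 := d20_3 F205194 (iv1 F341036) (iv4 F267881) (iv1 D199962) F174324 F323164 (iv1 F342273) (iv4 F382178) F382177 F334489
theorem F414362 : act 6 n199962 = n170409 := d7_2 D170411 F414361 (iv3 D170409)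
def n199963 : Q := act 5 n112114
theorem D199963 : act 5 n112114 = n199963 := rfl
theorem F414363 : act 3 n199963 = n112123 := d6_1 D199963 (iv5 D112123) (iv3 F174324)
theorem F414364 : act 6 n199963 = n112117 := d12_2 D112114 D199963 (iv5 D112117) (iv6 D51704) D51703
theorem F414365 : act 0 n199963 = n192841 := d21_7 (iv5 F380547) F380549 F378267 (iv6 F320054) F94382 D112114 D199963 (iv5 D192841) D192842 F387992
theorem F414366 : act 0 n192839 = n199963 := d21_1 D192839 (iv5 D199963) (iv6 D112114) (iv1 F320049) (iv6 D96353) (iv5 D44990) (iv1 F33780) D22599 D46996 D100793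
theorem F414367 : act 4 n199963 = n194027 := d20_8 (iv4 D80604) D80602 (iv4 F361414) F411238 (iv1 D199226) (iv3 F222479) F387987 F414366 F391808 (iv1 D167924)
def n199964 : Q := act 7 n112114
theorem D199964 : act 7 n112114 = n199964 := rfl
theorem F414368 : act 3 n199964 = n112124 := d8_1 D199964 (iv7 D112124) (iv3 F174324)
theorem F414369 : act 6 n199964 = n186923 := d14_1 D199964 F368520 (iv6 D109888) (iv7 F81641) D112114
def n199965 : Q := act 0 n112119
theorem D199965 : act 0 n112119 = n199965 := rfl
theorem F414370 : act 3 n199965 = n120434 := d20_5 F80449 F79911 D51705 D112119 D199965 F191881 D120435 (iv4 F353597) F202961 F161142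
theorem F414371 : act 4 n199965 = n120454 := d20_8 (iv4 F355551) (iv1 F197546) (iv4 F197535) F391533 (iv1 D193961) (iv3 F391513) F391515 D199965 F191901 D120455
theorem F414372 : act 5 n199965 = n112540 := d21_2 (iv5 F174329) D199965 (iv6 F330735) F330741 (iv6 F318809) (iv5 D80264) (iv1 F312401) D131424 F352276 (iv1 D126348)
theorem F414373 : act 6 n199965 = n120433 := d21_5 (iv5 D112771) (iv1 F326502) D121740 (iv6 F324025) D199965 F191878 (iv1 F123578) F123579 (iv6 F358629) F332157
theorem F414374 : act 2 n160648 = n199965 := d15_3 (iv0 D199965) F324023 F350705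
theorem F414375 : act 1 n180611 = n199965 := d15_0 (iv0 D199965) F174330 (iv2 F361329)
theorem F414376 : act 7 n199965 = n180609 := d15_2 F281117 F414375 (iv2 F355563)
def n199966 : Q := act 3 n112121
theorem D199966 : act 3 n112121 = n199966 := rfl
theorem F414377 : act 2 n199966 = n149179 := d0_1 D199966 (iv3 D149179) (iv2 F234408) F363702 F363712
theorem F414378 : act 4 n199966 = n175197 := d5_2 F413014 D199966 F274242 (iv4 F334606) F413015
theorem F414379 : act 0 n186919 = n199966 := d20_4 (iv4 D88891) (iv1 F74781) (iv4 F137067) D186919 (iv3 D199966) (iv4 F413014) F413016 F382175 (iv3 F382174) F156966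
theorem F414380 : act 5 n199966 = n193652 := d21_0 (iv1 F390570) F386268 (iv6 F378652) (iv1 F378653) (iv6 F397356) F397355 F174290 (iv5 F380534) F380538 F414379
theorem F414381 : act 2 n193652 = n192275 := d2_1 F414380 F386271 (iv2 F414377)
theorem F414382 : act 6 n198696 = n199966 := d21_5 F366579 (iv1 F278551) F363694 F174334 (iv1 F408908) F414380 (iv1 F390570) F386268 (iv6 F378652) (iv1 F378653)
theorem F414383 : act 7 n192274 = n193652 := d15_2 F386270 F386265 F414381
theorem F414384 : act 7 n193653 = n192275 := d15_2 (iv0 D193652) D193653 (iv2 F414381)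
theorem F414385 : act 2 n192274 = n193653 := d4_3 F414384 (iv2 F414381) (iv7 F414383)
theorem F414386 : act 6 n193653 = n112254 := d3_2 F386266 F414385 (iv2 F403771)
def n199967 : Q := act 5 n112121
theorem D199967 : act 5 n112121 = n199967 := rfl
theorem F414387 : act 2 n199967 = n119244 := d2_1 D199967 (iv5 F363701) F363712
theorem F414388 : act 3 n199967 = n193652 := d6_1 D199967 (iv5 F414380) (iv3 D199966)
theorem F414389 : act 7 n199967 = n119245 := d13_2 F363713 D199967 F348114
theorem F414390 : act 4 n199967 = n192096 := d16_4 (iv4 F193295) (iv5 F413013) F413014 D199967 F385523 (iv4 F278301) (iv5 F344885) F330726 F254396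
theorem F414391 : act 0 n199967 = n119248 := d17_2 D112121 D199967 (iv5 F378651) F378650 F318783 (iv0 F346928) (iv5 F342274) F342273 (iv4 F323164)
theorem F414392 : act 1 n199967 = n119158 := d17_8 (iv1 F187038) F187036 (iv1 F130235) F322200 D116512 (iv5 F339845) F363699 D199967 (iv4 D119158)
theorem F414393 : act 6 n144551 = n199967 := d10_0 F414390 F385525 F341153
def n199968 : Q := act 6 n112121
theorem D199968 : act 6 n112121 = n199968 := rfl
theorem F414394 : act 3 n199968 = n198696 := d7_1 D199968 F414382 (iv3 D199966)
theorem F414395 : act 0 n199968 = n189853 := d21_4 F378640 (iv1 F414392) (iv5 D199967) D199968 (iv6 D189853) F318883 (iv1 F174288) (iv5 F397355) F397356 F378641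
theorem F414396 : act 7 n198718 = n199968 := d8_0 F414394 (iv7 F408921) D198718
def n199969 : Q := act 5 n112122
theorem D199969 : act 5 n112122 = n199969 := rfl
theorem F414397 : act 2 n199969 = n119245 := d2_1 D199969 F348114 (iv2 F363709)
theorem F414398 : act 3 n199969 = n149199 := d6_1 D199969 (iv5 D149199) (iv3 F363710)
theorem F414399 : act 7 n199969 = n119244 := d13_2 (iv7 F363711) D199969 (iv5 F363701)
theorem F414400 : act 0 n199969 = n119158 := d17_2 (iv1 F363714) D199969 (iv5 F378640) F378639 F330730 F346937 F262048 F262047 (iv4 F262054)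
theorem F414401 : act 1 n199969 = n119248 := d17_8 (iv1 F86820) (iv5 F58347) (iv1 F130237) F322190 (iv4 F339841) (iv5 D112123) D112122 D199969 F187688
theorem F414402 : act 4 n199969 = n192095 := d18_5 (iv1 F382171) (iv4 F382175) (iv1 F413017) (iv4 F413018) D199969 (iv0 D192095) F153487 D99811 F346943
theorem F414403 : act 6 n199969 = n124994 := d21_3 (iv5 F339845) (iv1 F363714) D199969 (iv1 F200774) D178829 (iv5 F361857) (iv1 D112232) (iv5 F174117) D199930 (iv1 F414198)
theorem F414404 : act 6 n131917 = n149199 := d7_2 F414403 F355485 (iv3 F414398)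
def n199970 : Q := act 1 n112123
theorem D199970 : act 1 n112123 = n199970 := rfl
theorem F414405 : act 1 n199970 = n116512 := d15_1 D199970 F322199 (iv2 F339840)
theorem F414406 : act 7 n199970 = n178713 := d15_2 (iv0 F414197) D199970 (iv2 F414192)
theorem F414407 : act 5 n199970 = n190049 := d17_7 (iv1 F350675) F262036 (iv1 F350676) D79925 (iv4 F323164) D112123 D199970 (iv0 D190049) F350699
theorem F414408 : act 4 n199970 = n142002 := d17_9 F348369 (iv5 F322945) D175347 (iv5 F385523) (iv4 F414390) (iv5 D199967) (iv0 D112121) D112123 D199970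
theorem F414409 : act 6 n116455 = n199970 := d21_3 D67745 (iv1 F227351) F227353 (iv1 D199970) F174333 (iv5 D51709) D51707 D112126 F348113 (iv1 F103769)
theorem F414410 : act 2 n199970 = n142359 := d3_1 F414409 (iv6 D142359) (iv2 F181716)
theorem F414411 : act 3 n199970 = n128572 := d7_1 F414409 (iv6 D128572) (iv3 F181717)
def n199971 : Q := act 0 n112125
theorem D199971 : act 0 n112125 = n199971 := rfl
theorem F414412 : act 3 n199971 = n160901 := d20_5 F110928 D106193 (iv4 F173191) D112125 D199971 F254099 F368205 (iv4 F359595) (iv3 F352790) F174287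
theorem F414413 : act 6 n160899 = n199971 := d7_0 F414412 (iv6 D160901) D160899
theorem F414414 : act 7 n198703 = n199971 := d8_0 F414412 (iv7 F353259) (iv3 F408935)
def n199972 : Q := act 6 n112125
theorem D199972 : act 6 n112125 = n199972 := rfl
theorem F414415 : act 2 n199972 = n180629 := d3_1 D199972 F408744 F408739
theorem F414416 : act 3 n199972 = n112127 := d7_1 D199972 (iv6 D112127) D112125
theorem F414417 : act 4 n199972 = n197763 := d10_1 D199972 (iv6 F406507) (iv4 F406510)
theorem F414418 : act 7 n199972 = n112257 := d14_2 F408727 D199972 (iv6 F380592) F380589 (iv6 F408726)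
theorem F414419 : act 0 n199972 = n198623 := d21_4 F408763 (iv1 F408516) F408520 D199972 (iv6 D198623) F347153 D178880 F347159 D198433 (iv1 F408765)
def n199973 : Q := act 1 n112128
theorem D199973 : act 1 n112128 = n199973 := rfl
theorem F414420 : act 7 n199973 = n159281 := d15_2 F414326 D199973 (iv2 F414323)
theorem F414421 : act 2 n159276 = n199973 := d4_3 F414420 (iv2 F414323) (iv7 F414327)
theorem F414422 : act 4 n152173 = n199973 := d11_3 F414420 (iv4 D159281) (iv7 F330173)
theorem F414423 : act 6 n198728 = n199973 := d14_5 F414420 F381053 F225654 D199957 (iv7 F414338)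
theorem F414424 : act 1 n199973 = n174175 := d18_6 F384786 F195723 D122374 F318365 D152173 F414422 (iv4 D174175) D174174 F384787
def n199974 : Q := act 2 n112128
theorem D199974 : act 2 n112128 = n199974 := rfl
theorem F414425 : act 6 n199974 = n180259 := d3_2 F361712 D199974 (iv2 F348557)
theorem F414426 : act 7 n199974 = n174175 := d4_2 F414277 D199974 (iv2 F414274)
theorem F414427 : act 1 n199974 = n159276 := d15_0 (iv0 F414278) F414277 D199974
theorem F414428 : act 1 n159281 = n199974 := d15_0 F414427 F414327 F414323
theorem F414429 : act 4 n173245 = n199974 := d18_5 (iv1 F364579) (iv4 F389016) (iv1 F389018) F197085 D173245 F414427 (iv4 D159276) (iv0 D76201) D76204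
def n199975 : Q := act 4 n112128
theorem D199975 : act 4 n112128 = n199975 := rfl
theorem F414430 : act 2 n199975 = n173245 := d1_1 D199975 F414429 (iv2 D199974)
theorem F414431 : act 3 n199975 = n119398 := d5_1 D199975 F326688 F169336 F169335 D112128
theorem F414432 : act 6 n199975 = n180303 := d10_2 F361712 D199975 (iv4 F347483)
theorem F414433 : act 7 n199975 = n126335 := d11_2 F414277 D199975 (iv4 F414275)
theorem F414434 : act 1 n199975 = n174173 := d18_8 (iv1 F388782) F388778 (iv1 F195770) (iv4 F351956) (iv5 F345829) (iv4 F414324) F414326 D199975 F386452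
theorem F414435 : act 0 n199975 = n174174 := d20_7 F361143 F343704 (iv4 F272489) (iv3 F337351) (iv1 F174267) D112128 D199975 F359281 F379385 (iv1 F160657)
theorem F414436 : act 5 n119397 = n199975 := d18_9 F414435 F359281 (iv1 D158859) F113667 D76204 D159287 F342351 F270069 (iv0 F318964)
def n199976 : Q := act 5 n112128
theorem D199976 : act 5 n112128 = n199976 := rfl
theorem F414437 : act 3 n199976 = n112129 := d6_1 D199976 (iv5 D112129) D112128
theorem F414438 : act 7 n199976 = n144082 := d13_2 F414277 D199976 F414279
theorem F414439 : act 0 n199976 = n117033 := d17_2 (iv1 D199973) D199976 (iv5 F414173) F414174 F345819 F345823 F248237 (iv0 F345821) F414422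
theorem F414440 : act 4 n152830 = n199976 := d20_6 F40800 D25817 D53246 (iv3 F339850) (iv1 F351412) (iv3 F240046) F414439 F182967 (iv3 D115419) (iv1 D53243)
theorem F414441 : act 6 n199976 = n119262 := d10_2 D152830 F414440 F187729
def n199977 : Q := act 4 n112129
theorem D199977 : act 4 n112129 = n199977 := rfl
theorem F414442 : act 2 n199977 = n140875 := d1_1 D199977 F408714 (iv2 F408718)
theorem F414443 : act 3 n199977 = n152831 := d5_1 D199977 F240048 (iv3 F240046) F414440 F414437
theorem F414444 : act 5 n199977 = n152831 := d9_2 D112129 D199977 F240048 D152837 (iv4 F397840) (iv5 D195681) (iv4 F173191) D112126 F348112 F348062 (iv4 F339861) (iv5 F224073) (iv4 F397844) (iv5 D195682) F169335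
theorem F414445 : act 6 n199977 = n119263 := d10_2 (iv6 F348106) D199977 (iv4 D119263)
theorem F414446 : act 7 n199977 = n140714 := d11_2 F414284 D199977 (iv4 F414287)
theorem F414447 : act 0 n199977 = n138504 := d18_2 F414131 D199977 F330034 F346903 (iv4 F175095) (iv0 D112550) F81987 (iv0 F174051) D199915
theorem F414448 : act 1 n199977 = n140877 := d18_6 (iv1 F245006) (iv4 F397833) (iv1 F397836) F169335 D112129 D199977 (iv4 F348049) (iv0 D117013) (iv5 F346878)
def n199978 : Q := act 3 n112131
theorem D199978 : act 3 n112131 = n199978 := rfl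
theorem F414449 : act 5 n199978 = n199927 := d6_2 (iv5 F174336) D199978 F414184
theorem F414450 : act 7 n199978 = n199926 := d8_2 (iv7 F174335) D199978 F414182
def n199979 : Q := act 4 n112131
theorem D199979 : act 4 n112131 = n199979 := rfl
theorem F414451 : act 7 n199979 = n199928 := d11_2 (iv7 F174335) D199979 (iv4 D199928)
theorem F414452 : act 0 n199979 = n142134 := d17_0 (iv5 F351418) F351420 (iv5 F348062) (iv4 F348112) (iv5 D112126) (iv0 D51707) D51709 D112131 D199979
def n199980 : Q := act 6 n112131
theorem D199980 : act 6 n112131 = n199980 := rfl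
theorem F414453 : act 2 n199980 = n198470 := d3_1 D199980 F408613 F408027
theorem F414454 : act 0 n142587 = n199980 := d21_4 F169714 D111990 F347156 D142587 (iv6 D199980) F174336 (iv1 F174082) (iv5 F348127) F408596 F408594
def n199981 : Q := act 4 n112135
theorem D199981 : act 4 n112135 = n199981 := rfl
theorem F414455 : act 7 n199981 = n195525 := d11_2 F245605 D199981 F397220
theorem F414456 : act 5 n199981 = n145653 := d17_5 (iv1 F95718) F95716 (iv1 F168167) D112135 D199981 F396926 (iv5 D195410) (iv0 F162159) F104425
theorem F414457 : act 0 n199981 = n195457 := d17_0 F401215 (iv1 D196607) (iv5 D107131) F78244 D49495 D107134 D196609 F401221 D199981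
theorem F414458 : act 1 n199981 = n198855 := d18_6 (iv1 D58976) (iv4 F93178) (iv1 F325660) (iv4 F326490) D112135 D199981 (iv4 D198855) (iv0 F170735) F167256
theorem E103801 : n196603 = n195442 := ((c21_7 (iv5 F409593) (iv1 F414458) F414456 F404006 (iv1 D105592) D105595 D195442 (iv1 D196603) D196604 F401208 D196606)).symm
theorem F414459 : act 0 n195442 = n107130 := (sb E103801 (iv1 D196603))
theorem F414460 : act 1 n195442 = n195512 := (sb E103801 F401206)
def n199982 : Q := act 5 n112139
theorem D199982 : act 5 n112139 = n199982 := rfl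
theorem F414461 : act 2 n199982 = n112271 := d2_1 D199982 (iv5 D112271) (iv2 F174349)
theorem F414462 : act 3 n199982 = n189995 := d6_1 D199982 (iv5 F394700) F394698
theorem F414463 : act 6 n199982 = n117009 := d12_2 D112139 D199982 (iv5 D117009) (iv6 F346894) (iv5 D112138)
theorem F414464 : act 7 n199982 = n112268 := d13_2 F174351 D199982 (iv5 D112268)
theorem F414465 : act 0 n199982 = n137281 := d17_2 (iv1 F219335) D199982 (iv5 D137281) F100455 F76579 D61929 F174540 F202251 (iv4 F219334)
theorem F414466 : act 1 n199982 = n194220 := d17_6 F81328 (iv5 F48024) (iv1 F48408) (iv5 F81652) (iv4 F174350) D199982 F413675 (iv0 D199827) (iv4 D111795)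
theorem F414467 : act 0 n191252 = n194221 := d20_1 (iv4 F382760) (iv4 D194221) D194220 (iv1 F414466) F414462 F378497 (iv1 F379677) (iv4 F379678) F382762 (iv1 D191254)
def n199983 : Q := act 0 n112140
theorem D199983 : act 0 n112140 = n199983 := rfl
theorem F414468 : act 5 n199983 = n115422 := d17_1 D199983 (iv1 D115422) (iv5 D53244) F40800 (iv5 F39428) D51649 D111989 (iv0 F174059) D112140
theorem F414469 : act 4 n199983 = n198898 := d18_3 F111163 D112140 D199983 (iv5 D198898) F174038 F174037 F169308 (iv0 F161263) F161266
theorem F414470 : act 6 n115422 = n152715 := d21_3 (iv5 F359502) D199983 F414468 (iv1 F239921) D152739 F336244 (iv1 F179476) (iv5 F360856) F360857 (iv1 D152801)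
theorem F414471 : act 6 n199983 = n115245 := d21_5 D115334 F359529 F359504 F216429 D199983 (iv5 F245209) (iv1 F245212) F220808 (iv6 F111127) (iv1 F111128)
theorem F414472 : act 2 n115519 = n199983 := d15_3 (iv0 D199983) (iv0 F359505) F245334
theorem F414473 : act 1 n112146 = n199983 := d15_0 (iv0 D199983) (iv7 F245613) F245611
def n199984 : Q := act 3 n112140
theorem D199984 : act 3 n112140 = n199984 := rfl
theorem F414474 : act 5 n199984 = n152796 := d6_2 (iv5 F359502) D199984 F239995
def n199985 : Q := act 3 n112141
theorem D199985 : act 3 n112141 = n199985 := rfl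
theorem F414475 : act 2 n199985 = n177440 := d0_1 D199985 (iv3 D177440) (iv2 F341719) (iv3 D125738) (iv2 F174353)
theorem F414476 : act 4 n199985 = n112143 := d5_2 D112141 D199985 (iv3 D112143) (iv4 D51718) D51717
theorem F414477 : act 7 n199985 = n117028 := d8_2 (iv7 F174354) D199985 F346879
theorem F414478 : act 0 n199985 = n195028 := d20_4 (iv4 D107157) (iv1 F165554) D112141 D199985 F395485 (iv4 F397855) (iv1 F397857) F202896 (iv3 D125744) (iv1 F165136)
theorem F414479 : act 5 n195686 = n199985 := d17_1 F397856 F414478 F395487 F202021 F348397 (iv0 F202041) (iv5 F176626) (iv0 D113439) D113441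
def n199986 : Q := act 5 n112141
theorem D199986 : act 5 n112141 = n199986 := rfl
theorem F414480 : act 2 n199986 = n125739 := d2_1 D199986 (iv5 D125739) (iv2 F174353)
theorem F414481 : act 3 n199986 = n195686 := d6_1 D199986 F414479 (iv3 D199985)
theorem F414482 : act 7 n199986 = n125737 := d13_2 (iv7 F174354) D199986 (iv5 D125737)
theorem F414483 : act 0 n199986 = n196999 := d17_2 (iv1 F174356) D199986 (iv5 D196999) (iv4 D107520) D107521 (iv0 F165890) F104274 F92916 (iv4 F93100)
theorem F414484 : act 1 n199986 = n197002 := d17_6 (iv1 F82163) (iv5 F82164) F163707 (iv5 F165556) D112141 D199986 (iv5 D197002) F165893 F165160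
theorem F414485 : act 6 n195684 = n199986 := d7_0 F414481 (iv6 D195686) D195684
def n199987 : Q := act 6 n112141
theorem D199987 : act 6 n112141 = n199987 := rfl
theorem F414486 : act 2 n199987 = n125740 := d3_1 D199987 (iv6 D125740) (iv2 F174353)
theorem F414487 : act 4 n199987 = n112142 := d10_1 D199987 (iv6 D112142) D112141
theorem F414488 : act 7 n199987 = n195064 := d14_2 (iv7 F174354) D199987 (iv6 D195064) (iv7 F165506) F165566
theorem F414489 : act 5 n199987 = n127374 := d21_6 (iv5 F332789) (iv1 F164193) (iv5 F332765) F201961 (iv1 F174356) D199987 (iv1 F204690) F176855 (iv6 F161413) (iv1 F165649)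
theorem F414490 : act 0 n199987 = n128932 := d21_10 (iv5 D128932) (iv1 F352201) (iv5 D113327) D113328 F202046 F202043 D197002 (iv1 F414484) (iv5 D199986) D199987
theorem F414491 : act 1 n199987 = n125942 := d15_1 (iv0 F414490) (iv7 F403286) F403285
def n199988 : Q := act 5 n112145
theorem D199988 : act 5 n112145 = n199988 := rfl
theorem F414492 : act 2 n199988 = n187095 := d2_1 D199988 F369067 F346831
theorem F414493 : act 3 n199988 = n144271 := d6_1 D199988 (iv5 F394706) F394705
theorem F414494 : act 4 n199988 = n185479 := d9_1 D199988 (iv5 D185479) D185478 (iv5 F359521) (iv4 D115310) (iv5 F84035) (iv4 F346835) F160334 F137922 (iv5 F151997) D185481 (iv5 F359528) (iv4 D115309) F84032 (iv4 F174363)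
theorem F414495 : act 6 n199988 = n118964 := d12_2 D112145 D199988 (iv5 D118964) (iv6 F346900) (iv5 D112144)
theorem F414496 : act 7 n199988 = n187280 := d13_2 F222840 D199988 F369692
theorem F414497 : act 1 n199988 = n125664 := d17_6 F39405 (iv5 F40787) D53198 F84032 (iv4 F174363) D199988 (iv5 D125664) F319033 (iv4 F319039)
theorem F414498 : act 0 n199988 = n187232 := d21_7 D198381 (iv1 F409035) (iv5 D198739) F174348 (iv1 F174346) D112145 D199988 F369579 D194269 (iv1 F392590)
def n199989 : Q := act 3 n112146
theorem D199989 : act 3 n112146 = n199989 := rfl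
theorem F414499 : act 4 n199989 = n199259 := d5_2 D112146 D199989 F411354 F172327 F165552
theorem F414500 : act 6 n199989 = n115726 := d7_2 (iv6 F174364) D199989 (iv3 D115726)
def n199990 : Q := act 5 n112146
theorem D199990 : act 5 n112146 = n199990 := rfl
theorem F414501 : act 2 n199990 = n117083 := d2_1 D199990 F346902 F245611
theorem F414502 : act 4 n199990 = n115805 := d9_1 D199990 F318321 (iv4 F346893) (iv5 D112138) (iv4 D51713) D51714 D112140 F359502 F108557 F318324 (iv4 F346899) (iv5 D112144) (iv4 D51718) D51719 D112146
theorem F414503 : act 7 n199990 = n141075 := d13_2 F414290 D199990 (iv5 F414289)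
theorem F414504 : act 0 n199990 = n152801 := d17_2 (iv1 F414473) D199990 F351440 (iv4 F166051) F166052 (iv0 F202179) (iv5 F409434) (iv0 F409791) (iv4 F414469)
theorem F414505 : act 1 n199990 = n152800 := d17_6 D53167 F83957 (iv1 F81625) D51719 D112146 D199990 F351446 (iv0 D115235) F83956
theorem F414506 : act 6 n115804 = n199990 := d14_5 F414503 F318328 F108338 F322219 (iv7 F180193)
def n199991 : Q := act 6 n112150
theorem D199991 : act 6 n112150 = n199991 := rfl
theorem F414507 : act 2 n199991 = n134416 := d3_1 D199991 F365583 (iv2 F174378)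
theorem F414508 : act 3 n199991 = n143042 := d7_1 D199991 (iv6 D143042) (iv3 F174379)
theorem F414509 : act 4 n199991 = n134415 := d10_1 D199991 F333145 F174381
theorem F414510 : act 7 n199991 = n186581 := d14_2 F322927 D199991 (iv6 D186581) F136275 D89446
theorem F414511 : act 0 n199991 = n186974 := d21_4 F387923 (iv1 D112148) D112150 D199991 F368726 F245014 F173534 (iv5 F387858) F387859 (iv1 F387921)
theorem F414512 : act 0 n186973 = n199991 := d18_2 D89429 D186973 F414509 (iv5 F245954) F245953 F163839 D131830 (iv0 F352508) (iv5 D89431)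
def n199992 : Q := act 1 n112151
theorem D199992 : act 1 n112151 = n199992 := rfl
theorem F414513 : act 1 n199992 = n112282 := d15_1 D199992 (iv7 F344583) (iv2 F174383)
theorem F414514 : act 7 n199992 = n166250 := d15_2 (iv0 F325270) D199992 F300515
theorem F414515 : act 4 n199992 = n121155 := d18_7 (iv1 F256895) (iv4 F261752) F344582 F169768 F325609 (iv4 F174384) D199992 (iv0 F373749) F373747
theorem F414516 : act 6 n124640 = n199992 := d21_3 D83462 (iv1 F273507) F273509 (iv1 D199992) (iv6 D112151) D112150 (iv1 F390524) F390522 F323918 F299329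
theorem F414517 : act 2 n199992 = n162654 := d3_1 F414516 (iv6 D162654) F300458
theorem F414518 : act 3 n198529 = n199992 := d20_5 F348707 F348711 (iv4 F380652) (iv3 F413952) (iv1 F413956) F414515 (iv1 F323060) F174734 (iv3 F378064) (iv1 D189876)
theorem F414519 : act 3 n133398 = n196168 := d19_7 (iv1 F296279) D121155 (iv4 F414515) (iv3 F414518) (iv1 D198529) D198530 F413983 (iv1 D196168) (iv5 F398390) F398389 F352483 (iv1 F143804) (iv5 F352557) F332693 (iv3 D135818) D135816 F330404 F296837 F296167
theorem F414520 : act 2 n196168 = n196002 := d0_1 F414519 (iv3 D196002) F205546 (iv3 F364648) F214480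
def n199993 : Q := act 5 n112151
theorem D199993 : act 5 n112151 = n199993 := rfl
theorem F414521 : act 2 n199993 = n198744 := d2_1 D199993 (iv5 D198744) (iv2 F174383)
theorem F414522 : act 7 n199993 = n198688 := d13_2 (iv7 F344523) D199993 (iv5 D198688)
theorem F414523 : act 0 n199993 = n164107 := d17_2 (iv1 D199992) D199993 (iv5 D164107) F254712 (iv5 F298092) (iv0 F323965) (iv5 F323062) F323060 (iv4 F414515)
theorem F414524 : act 1 n199993 = n164110 := d17_6 (iv1 F119997) F326664 (iv1 F326932) F325609 (iv4 F174384) D199993 (iv5 D164110) F298084 F296970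
def n199994 : Q := act 2 n112199
theorem D199994 : act 2 n112199 = n199994 := rfl
theorem F414525 : act 3 n199994 = n161965 := d0_2 D112199 D199994 (iv2 D161965) (iv3 D77794) F324872
theorem F414526 : act 4 n199994 = n149939 := d1_2 (iv4 F325793) D199994 F314800
theorem F414527 : act 5 n199994 = n184286 := d2_2 F224068 D199994 (iv2 F358567)
theorem F414528 : act 6 n199994 = n161515 := d3_2 (iv6 F325794) D199994 (iv2 D161515)
theorem F414529 : act 7 n199994 = n152239 := d4_2 (iv7 F325795) D199994 F239300
theorem F414530 : act 1 n199994 = n126800 := d15_0 F331974 (iv7 F325795) D199994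
theorem F414531 : act 1 n155165 = n199994 := d15_0 F414530 F331975 D155165
def n199995 : Q := act 4 n112203
theorem D199995 : act 4 n112203 = n199995 := rfl
theorem F414532 : act 2 n199995 = n195520 := d1_1 D199995 F397205 (iv2 F174474)
theorem F414533 : act 7 n199995 = n198155 := d11_2 (iv7 F174475) D199995 (iv4 D198155)
theorem F414534 : act 1 n199995 = n195462 := d18_6 (iv1 D108633) F79478 F163908 D51747 D112203 D199995 (iv4 F412401) F412400 F402014
def n199996 : Q := act 6 n112203
theorem D199996 : act 6 n112203 = n199996 := rfl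
theorem F414535 : act 2 n199996 = n198154 := d3_1 D199996 (iv6 D198154) (iv2 F174474)
theorem F414536 : act 5 n199996 = n198745 := d12_1 D199996 (iv6 D198745) (iv5 D109991) (iv6 F81699) D112203
def n199997 : Q := act 0 n112219
theorem D199997 : act 0 n112219 = n199997 := rfl
theorem F414537 : act 5 n199997 = n116058 := d17_1 D199997 F348036 F205946 (iv4 F327594) (iv5 D99293) D99292 (iv5 F348381) (iv0 F342371) F342368
theorem F414538 : act 6 n199997 = n118333 := d21_5 (iv5 F322749) (iv1 F215165) F316243 (iv6 F174507) D199997 F348034 (iv1 F359175) (iv5 D139958) D139959 F359180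
theorem F414539 : act 2 n138695 = n199997 := d15_3 (iv0 D199997) (iv0 F342372) (iv7 F348045)
theorem F414540 : act 1 n198691 = n199997 := d15_0 (iv0 D199997) F174508 D198691
theorem F414541 : act 7 n199997 = n116332 := d15_2 (iv0 F408890) F414540 F319694
theorem F414542 : act 3 n140812 = n199997 := d8_3 F414541 F327727 (iv7 F330030)
def n199998 : Q := act 2 n112219
theorem D199998 : act 2 n112219 = n199998 := rfl
theorem F414543 : act 3 n199998 = n142053 := d0_2 D112219 D199998 F328206 F103294 (iv2 F81731)
theorem F414544 : act 4 n199998 = n192339 := d1_2 F342368 D199998 F386505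
theorem F414545 : act 6 n199998 = n116301 := d3_2 (iv6 F174507) D199998 F326016
theorem F414546 : act 7 n199998 = n198691 := d4_2 (iv7 F174508) D199998 (iv2 D198691)
theorem F414547 : act 1 n199998 = n116332 := d15_0 (iv0 F342378) (iv7 F174508) D199998
theorem F414548 : act 1 n138695 = n199998 := d15_0 F414547 (iv7 F414541) (iv2 F414539)
def n199999 : Q := act 3 n112221
theorem D199999 : act 3 n112221 = n199999 := rfl
theorem F414549 : act 2 n199999 = n195080 := d0_1 D199999 (iv3 F395692) F408503 (iv3 D198606) F358438
theorem F414550 : act 5 n199999 = n143977 := d6_2 F414000 D199999 F414001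
theorem F414551 : act 6 n199999 = n194992 := d7_2 F358432 D199999 (iv3 D194992)
theorem F414552 : act 7 n199999 = n195081 := d8_2 (iv7 F358436) D199999 (iv3 F395696)
theorem F414553 : act 4 n199999 = n199179 := d20_6 (iv4 D51790) (iv1 F39561) (iv4 F79980) (iv3 F169678) (iv1 F174515) D199999 (iv1 D199179) F341783 F325267 F323999
theorem F414554 : act 0 n199999 = n195084 := d20_10 F395707 F342896 (iv4 F99677) F99676 (iv1 F169202) (iv3 F379387) (iv4 D190322) (iv1 F335114) (iv4 F358431) D199999
theorem F414555 : act 0 n195076 = n199999 := d20_4 F324000 F345366 F351034 (iv3 F395678) (iv3 D199999) F358431 (iv1 F335115) (iv4 F358424) F276259 (iv1 F334027)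
def n200000 : Q := act 5 n112222
theorem D200000 : act 5 n112222 = n200000 := rfl
theorem F414556 : act 2 n200000 = n112223 := d2_1 D200000 (iv5 D112223) D112222
theorem F414557 : act 3 n200000 = n112243 := d6_1 D200000 (iv5 D112243) (iv3 F174511)
theorem F414558 : act 7 n200000 = n198607 := d13_2 (iv7 F174513) D200000 (iv5 D198607)
theorem F414559 : act 0 n200000 = n198608 := d17_2 (iv1 F174514) D200000 F408509 (iv4 F357988) F147544 F71673 D97197 (iv0 F359865) F231450
theorem F414560 : act 1 n200000 = n191069 := d17_6 (iv1 F340712) (iv5 D44601) D44599 D95470 F337332 D200000 (iv5 D191069) F340704 F81513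
def n200001 : Q := act 5 n112225
theorem D200001 : act 5 n112225 = n200001 := rfl
theorem F414561 : act 2 n200001 = n112255 := d2_1 D200001 (iv5 D112255) (iv2 F174521)
theorem F414562 : act 3 n200001 = n181905 := d6_1 D200001 (iv5 F410602) F410601
theorem F414563 : act 6 n200001 = n112228 := d12_2 D112225 D200001 (iv5 D112228) (iv6 D51764) D51763
theorem F414564 : act 0 n200001 = n186400 := d17_2 (iv1 F397080) D200001 (iv5 F367386) F175954 (iv5 D108092) D108090 (iv5 F396635) F396637 F280180
def n200002 : Q := act 7 n112225
theorem D200002 : act 7 n112225 = n200002 := rfl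
theorem F414565 : act 2 n200002 = n112256 := d4_1 D200002 (iv7 D112256) (iv2 F174521)
theorem F414566 : act 4 n200002 = n195474 := d11_1 D200002 (iv7 D195474) (iv4 F174522)
theorem F414567 : act 6 n200002 = n198612 := d14_1 D200002 (iv7 D198612) (iv6 D109695) (iv7 F81739) D112225
theorem F414568 : act 1 n112254 = n200002 := d15_1 D112254 (iv7 D200002) F174521
theorem F414569 : act 1 n200002 = n112253 := d15_1 F414568 (iv7 F390584) F403771
def n200003 : Q := act 3 n112231
theorem D200003 : act 3 n112231 = n200003 := rfl
theorem F414570 : act 6 n200003 = n160832 := d7_2 (iv6 F408271) D200003 F362533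
theorem F414571 : act 7 n200003 = n198621 := d8_2 (iv7 F361863) D200003 (iv3 D198621)
theorem F414572 : act 0 n200003 = n112241 := d20_4 (iv4 D198204) F405812 F405810 D200003 (iv3 D112241) (iv4 F81761) F105380 D50816 D110205 F407223
theorem F414573 : act 4 n200003 = n126001 := d20_6 (iv4 D27997) (iv1 F45094) F45095 D51767 D112231 D200003 (iv1 D126001) F93219 (iv3 D50412) (iv1 F45268)
theorem F414574 : act 0 n198638 = n200003 := d20_4 F93107 D58893 D125763 (iv3 F408650) (iv3 D200003) (iv4 F405810) (iv1 F405811) (iv4 D142506) (iv3 F162256) F344596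
theorem F414575 : act 2 n198637 = n200003 := d1_3 F414573 F355464 (iv4 F408648)
def n200004 : Q := act 3 n112232
theorem D200004 : act 3 n112232 = n200004 := rfl
theorem F414576 : act 4 n200004 = n199656 := d5_2 F405817 D200004 (iv3 F413028) F400735 (iv3 F405816)
theorem F414577 : act 7 n200004 = n198624 := d8_2 F361866 D200004 (iv3 D198624)
theorem F414578 : act 0 n200004 = n199434 := d20_10 (iv4 D199434) (iv1 F172769) D111612 (iv3 F219308) (iv1 F344597) F162256 D142506 (iv1 F405819) F405817 D200004
theorem F414579 : act 0 n198606 = n200004 := d20_4 F231436 D147701 F231450 D198606 (iv3 D200004) (iv4 F405817) (iv1 F405818) D198204 F407219 (iv1 F395318)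
theorem F414580 : act 2 n200004 = n199693 := d15_3 (iv0 D199693) (iv0 F408589) (iv7 F414577)
def n200005 : Q := act 6 n112232
theorem D200005 : act 6 n112232 = n200005 := rfl
theorem F414581 : act 2 n200005 = n198623 := d3_1 D200005 (iv6 D198623) F361864
theorem F414582 : act 0 n200005 = n112257 := d21_4 (iv5 F408683) (iv1 F408686) (iv5 F361857) D200005 (iv6 F380592) F381215 F381214 F361846 F344650 (iv1 F174064)
theorem F414583 : act 0 n180629 = n200005 := d21_4 F408742 (iv1 F408528) D198658 (iv6 F408744) (iv6 D200005) F361857 (iv1 F347171) (iv5 D109309) D109310 D198435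
def n200006 : Q := act 3 n112235
theorem D200006 : act 3 n112235 = n200006 := rfl
theorem F414584 : act 2 n200006 = n195082 := d0_1 D200006 (iv3 D195082) (iv2 F395676) F395678 (iv2 F351033)
theorem F414585 : act 5 n200006 = n131915 := d6_2 F408073 D200006 F408075
theorem F414586 : act 7 n200006 = n131914 := d8_2 (iv7 F330680) D200006 F332880
theorem F414587 : act 0 n200006 = n128566 := d20_10 F349583 (iv1 F201921) (iv4 F202253) (iv3 F219318) (iv1 F219326) (iv3 F349828) (iv4 F349826) (iv1 F254488) (iv4 F330679) D200006
theorem F414588 : act 0 n112239 = n200006 := d20_4 (iv4 D50816) D50813 F81760 D112239 (iv3 D200006) F330679 F330673 (iv4 F323582) (iv3 D109771) F80187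
def n200007 : Q := act 6 n112236
theorem D200007 : act 6 n112236 = n200007 := rfl
theorem F414589 : act 2 n200007 = n112237 := d3_1 D200007 (iv6 D112237) D112236
theorem F414590 : act 3 n200007 = n198627 := d7_1 D200007 (iv6 D198627) (iv3 F174567)
theorem F414591 : act 4 n200007 = n147669 := d10_1 D200007 (iv6 D147669) (iv4 F174568)
theorem F414592 : act 7 n200007 = n198708 := d14_2 (iv7 F174569) D200007 (iv6 D198708) (iv7 F174304) F174303
theorem F414593 : act 0 n180263 = n200007 := d21_4 (iv5 D194927) F160506 F348569 D180263 (iv6 D200007) (iv5 F414201) (iv1 F414205) (iv5 D198448) D198449 (iv1 F408052)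
theorem F414594 : act 1 n198709 = n200007 := d15_0 (iv0 F414593) F366125 F408954
theorem F414595 : act 0 n128808 = n125502 := d20_1 (iv4 F414313) F395083 (iv3 D194935) (iv1 D104782) (iv3 F160514) F340346 (iv1 F348545) (iv4 F414591) F414590 (iv1 F414311)
def n200008 : Q := act 5 n112237
theorem D200008 : act 5 n112237 = n200008 := rfl
theorem F414596 : act 3 n200008 = n112238 := d6_1 D200008 (iv5 D112238) (iv3 F174573)
theorem F414597 : act 6 n200008 = n128569 := d12_2 D112237 D200008 (iv5 D128569) (iv6 F336227) F174121
theorem F414598 : act 7 n200008 = n198710 := d13_2 (iv7 F174574) D200008 (iv5 D198710)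
theorem F414599 : act 4 n200008 = n144206 := d16_2 F175009 D200008 F340019 (iv4 F112015) F245868 F245839 (iv5 F409457) F409458 F231435
def n200009 : Q := act 0 n112241
theorem D200009 : act 0 n112241 = n200009 := rfl
theorem F414600 : act 5 n200009 = n133363 := d17_3 (iv1 F390509) F390506 D200009 F366161 (iv5 F355175) (iv0 F336555) (iv5 F397171) (iv0 F397175) (iv4 F361854)
theorem F414601 : act 4 n200009 = n126000 := d18_1 D200009 (iv1 F202687) F105266 (iv5 F322990) (iv4 F392751) (iv0 F392753) F361851 F390508 F390506
theorem F414602 : act 2 n198621 = n200009 := d15_3 (iv0 D200009) (iv0 F414572) F414571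
theorem F414603 : act 1 n198638 = n200009 := d15_0 (iv0 D200009) F174581 D198638
theorem F414604 : act 7 n200009 = n198637 := d15_2 (iv0 F414574) F414603 F414575
theorem F414605 : act 6 n158041 = n200009 := d14_5 F414604 F408649 F362537 (iv6 F358418) (iv7 F364277)
theorem F414606 : act 3 n200009 = n199693 := d0_2 D198621 F414602 (iv2 F414580) (iv3 D200004) (iv2 F361864)
def n200010 : Q := act 2 n112241
theorem D200010 : act 2 n112241 = n200010 := rfl
theorem F414607 : act 3 n200010 = n128566 := d0_2 D112241 D200010 (iv2 F344590) (iv3 D109710) (iv2 F105376)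
theorem F414608 : act 4 n200010 = n198746 := d1_2 (iv4 F174580) D200010 (iv2 D198746)
theorem F414609 : act 5 n200010 = n126934 := d2_2 F390506 D200010 (iv2 F390503)
theorem F414610 : act 6 n200010 = n189875 := d3_2 (iv6 F380610) D200010 F380607
theorem F414611 : act 7 n200010 = n198638 := d4_2 (iv7 F174581) D200010 (iv2 D198638)
theorem F414612 : act 1 n200010 = n198637 := d15_0 (iv0 D198637) (iv7 F174581) D200010
theorem F414613 : act 1 n198621 = n200010 := d15_0 F414612 (iv7 F414604) (iv2 F414602)
def n200011 : Q := act 5 n112242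
theorem D200011 : act 5 n112242 = n200011 := rfl
theorem F414614 : act 2 n200011 = n198636 := d2_1 D200011 (iv5 D198636) (iv2 F174582)
theorem F414615 : act 3 n200011 = n132111 := d6_1 D200011 F380612 (iv3 F380609)
theorem F414616 : act 7 n200011 = n198712 := d13_2 (iv7 F362596) D200011 (iv5 D198712)
theorem F414617 : act 0 n200011 = n164126 := d17_2 (iv1 F325237) D200011 (iv5 D164126) (iv4 D78846) F326664 (iv0 F327012) (iv5 F326183) F326427 (iv4 F129300)
theorem F414618 : act 1 n200011 = n164121 := d17_6 (iv1 F296279) D121155 (iv1 F323060) F323062 (iv4 F174583) D200011 (iv5 D164121) F258667 F112905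
def n200012 : Q := act 3 n112245
theorem D200012 : act 3 n112245 = n200012 := rfl
theorem F414619 : act 4 n200012 = n112251 := d5_2 D112245 D200012 (iv3 D112251) (iv4 D51775) (iv3 F81768)
theorem F414620 : act 5 n200012 = n155495 := d6_2 F324385 D200012 F353337
theorem F414621 : act 6 n200012 = n197249 := d7_2 F390580 D200012 F403728
theorem F414622 : act 7 n200012 = n195484 := d8_2 (iv7 F174590) D200012 F397121
theorem F414623 : act 0 n117538 = n200012 := d20_4 (iv4 F220365) (iv1 F328269) F177152 (iv3 F184136) (iv3 D200012) (iv4 D112245) (iv1 F321243) F156816 F319205 (iv1 F327691)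
def n200013 : Q := act 0 n112251
theorem D200013 : act 0 n112251 = n200013 := rfl
theorem F414624 : act 1 n195480 = n200013 := d15_0 (iv0 D200013) F174597 (iv2 F397118)
theorem F414625 : act 5 n200013 = n144416 := d17_7 D115231 F349432 F350024 F336244 F179472 D195480 F414624 (iv0 D144416) F103702
theorem F414626 : act 6 n144416 = n197415 := d21_3 (iv5 F174596) D200013 F414625 (iv1 D197415) (iv6 D108148) F78988 (iv1 F78937) D108050 F360860 (iv1 D115432)
theorem F414627 : act 6 n200013 = n193419 := d12_2 (iv6 F414626) (iv5 F414625) (iv5 D193419) (iv6 F270080) (iv5 F404190)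
def n200014 : Q := act 1 n112251
theorem D200014 : act 1 n112251 = n200014 := rfl
theorem F414628 : act 5 n200014 = n144417 := d17_7 (iv1 F179453) (iv5 F360639) (iv1 D115462) (iv5 D53261) (iv4 F84096) (iv5 F174596) D200014 F227211 F179560
def n200015 : Q := act 2 n112251
theorem D200015 : act 2 n112251 = n200015 := rfl
theorem F414629 : act 3 n200015 = n195465 := d0_2 D112251 D200015 F397070 F162219 (iv2 F81772)
theorem F414630 : act 5 n200015 = n115433 := d2_2 (iv5 F174596) D200015 (iv2 D115433)
theorem F414631 : act 7 n200015 = n195480 := d4_2 (iv7 F174597) D200015 F397118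
theorem F414632 : act 1 n200015 = n195482 := d15_0 (iv0 D195482) (iv7 F174597) D200015
theorem F414633 : act 1 n200014 = n195480 := d15_1 D200014 (iv7 F414631) (iv2 D200015)
theorem F414634 : act 1 n195483 = n200015 := d15_1 D195483 F414631 F397118
def n200016 : Q := act 6 n112251
theorem D200016 : act 6 n112251 = n200016 := rfl
theorem F414635 : act 3 n200016 = n112252 := d7_1 D200016 (iv6 D112252) D112251
theorem F414636 : act 4 n200016 = n197249 := d10_1 D200016 (iv6 F414621) F414619
theorem F414637 : act 5 n200016 = n195517 := d12_1 D200016 (iv6 D195517) F360864 (iv6 D115434) (iv5 F174596)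
theorem F414638 : act 5 n136583 = n197249 := d17_3 (iv1 D64204) D64206 D136583 (iv4 F414636) F414637 F404137 (iv5 D197397) (iv0 F366313) (iv4 D136578)
theorem F414639 : act 0 n179905 = n200016 := d21_1 (iv5 F403775) F414637 (iv6 D195517) (iv1 D105645) (iv6 D48840) (iv5 D23814) D23811 D48828 D105614 D195471
theorem F414640 : act 6 n155494 = n136583 := d12_0 F414638 (iv6 F414621) F414620 (iv6 D155495) D155494
def n200017 : Q := act 0 n112252
theorem D200017 : act 0 n112252 = n200017 := rfl
theorem F414641 : act 4 n200017 = n130542 := d18_1 D200017 (iv1 D130542) (iv4 F167060) (iv5 F167126) D197318 F403968 (iv4 F411888) (iv0 F411892) F352946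
theorem F414642 : act 2 n195471 = n200017 := d15_3 (iv0 D200017) (iv0 F404160) F404155
theorem F414643 : act 3 n200017 = n179911 := d0_2 (iv3 F403774) F414642 (iv2 F404147) (iv3 D197400) (iv2 F366618)
theorem F414644 : act 7 n200017 = n195472 := d4_2 F404155 F414642 (iv2 F404157)
theorem F414645 : act 1 n195474 = n200017 := d15_1 F404159 F414644 (iv2 F404157)
def n200018 : Q := act 7 n112252
theorem D200018 : act 7 n112252 = n200018 := rfl
theorem F414646 : act 2 n200018 = n195474 := d4_1 D200018 (iv7 D195474) (iv2 F174598)
theorem F414647 : act 4 n200018 = n112256 := d11_1 D200018 (iv7 D112256) (iv4 F174599)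
theorem F414648 : act 6 n200018 = n195492 := d14_1 D200018 (iv7 D195492) (iv6 D105622) (iv7 F81774) D112252
theorem F414649 : act 1 n195472 = n200018 := d15_1 D195472 (iv7 D200018) F174598
theorem F414650 : act 1 n200018 = n195471 := d15_1 F414649 (iv7 F404155) F404157
def n200019 : Q := act 5 n112253
theorem D200019 : act 5 n112253 = n200019 := rfl
theorem F414651 : act 3 n200019 = n179100 := d6_1 D200019 F279038 (iv3 F390583)
theorem F414652 : act 4 n200019 = n151701 := d16_2 F396964 D200019 F238578 (iv4 D136675) (iv5 F201751) F201750 (iv5 F396971) F396968 F396966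
theorem F414653 : act 1 n200019 = n142368 := d17_6 (iv1 F176191) (iv5 F403609) (iv1 F403611) (iv5 F396963) F396964 D200019 (iv5 F401179) (iv0 F401182) F175954
def n200020 : Q := act 6 n112253
theorem D200020 : act 6 n112253 = n200020 := rfl
def n200021 : Q := act 5 n112254
theorem D200021 : act 5 n112254 = n200021 := rfl
theorem F414654 : act 3 n200021 = n112991 := d6_1 D200021 F245134 (iv3 F403770)
theorem F414655 : act 4 n151702 = n200021 := d16_0 (iv5 D200021) F403769 F396971 (iv4 F201750) F201751 D136675 (iv5 F238578) F362774 (iv2 F355204)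
def n200022 : Q := act 0 n112255
theorem D200022 : act 0 n112255 = n200022 := rfl
def n200023 : Q := act 1 n112255
theorem D200023 : act 1 n112255 = n200023 := rfl
theorem F414656 : act 6 n190642 = n200023 := d21_3 (iv5 D96297) D96294 D190642 (iv1 D200023) F174600 (iv5 D51779) D51777 (iv5 F174554) (iv6 F365991) (iv1 F366984)
theorem F414657 : act 4 n200023 = n186403 := d10_1 F414656 (iv6 F377677) (iv4 F380430)
theorem F414658 : act 7 n200023 = n186400 := d14_2 (iv7 F380428) F414656 (iv6 D186400) (iv7 F291651) F363174
theorem F414659 : act 2 n186400 = n200022 := d15_3 (iv0 D200022) D200023 F414658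
theorem F414660 : act 4 n200022 = n186385 := d1_2 (iv4 F289176) F414659 F289171
theorem F414661 : act 6 n200022 = n186384 := d3_2 D186400 F414659 F289170
def n200024 : Q := act 4 n112255
theorem D200024 : act 4 n112255 = n200024 := rfl
theorem F414662 : act 3 n200024 = n189353 := d5_1 D200024 F392300 F158205 (iv4 F129358) (iv3 F326849)
theorem F414663 : act 6 n200024 = n112262 := d10_2 (iv6 F174600) D200024 (iv4 D112262)
def n200025 : Q := act 7 n112255
theorem D200025 : act 7 n112255 = n200025 := rfl
theorem F414664 : act 3 n200025 = n131138 := d8_1 D200025 F352932 (iv3 F326849)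
theorem F414665 : act 5 n200025 = n112256 := d13_1 D200025 (iv7 D112256) D112255
def n200026 : Q := act 0 n112257
theorem D200026 : act 0 n112257 = n200026 := rfl
theorem F414666 : act 6 n200026 = n198663 := d21_5 F380638 (iv1 F381216) (iv5 F381215) F380592 D200026 F408766 F173569 F169730 (iv6 F378029) (iv1 F380640)
theorem F414667 : act 1 n180629 = n200026 := d15_0 (iv0 D200026) (iv7 F414418) F414415
theorem F414668 : act 7 n200026 = n198623 := d15_2 (iv0 F414583) F414667 (iv2 F414581)
theorem F414669 : act 3 n158042 = n200026 := d8_3 F414668 F408586 F364278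
def n200027 : Q := act 2 n112257
theorem D200027 : act 2 n112257 = n200027 := rfl
theorem F414670 : act 3 n200027 = n159304 := d0_2 D112257 D200027 F256564 (iv3 F326794) F174547
theorem F414671 : act 4 n200027 = n180805 := d1_2 (iv4 F174602) D200027 F365753
theorem F414672 : act 6 n200027 = n189864 := d3_2 F380592 D200027 F380590
theorem F414673 : act 7 n200027 = n180629 := d4_2 F414418 D200027 (iv2 F414415)
theorem F414674 : act 1 n200027 = n198623 := d15_0 (iv0 F414419) F414418 D200027
def n200028 : Q := act 3 n112260
theorem D200028 : act 3 n112260 = n200028 := rfl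
theorem F414675 : act 5 n200028 = n158107 := d6_2 (iv5 F327527) D200028 (iv3 D158107)
theorem F414676 : act 7 n200028 = n199856 := d8_2 (iv7 F174608) D200028 F413834
def n200029 : Q := act 4 n112260
theorem D200029 : act 4 n112260 = n200029 := rfl
theorem F414677 : act 2 n200029 = n199860 := d1_1 D200029 (iv4 D199860) F174606
theorem F414678 : act 7 n200029 = n199857 := d11_2 (iv7 F174608) D200029 (iv4 D199857)
theorem F414679 : act 3 n200029 = n190011 := d19_3 D75305 (iv5 F327527) D200029 (iv1 D190011) (iv5 F147656) (iv4 F294889) (iv3 D91871) (iv1 F119745) F119746 (iv4 F56469) F32166 (iv1 F27993) (iv5 D13088) F9707 F9706 F7231 D7817 D16730 D34480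
theorem F414680 : act 6 n196008 = n200029 := d7_0 F414679 F395354 D196008
def n200030 : Q := act 6 n112260
theorem D200030 : act 6 n112260 = n200030 := rfl
theorem F414681 : act 2 n200030 = n198964 := d3_1 D200030 F410088 F174606
theorem F414682 : act 4 n200030 = n196008 := d10_1 D200030 F414680 (iv4 D200029)
theorem F414683 : act 0 n200030 = n191218 := d21_4 (iv5 D75308) D75305 (iv5 F327527) D200030 (iv6 D191218) (iv5 D97411) D97408 D191215 F382608 (iv1 D158118)
theorem F414684 : act 1 n200030 = n198955 := d15_1 (iv0 F414683) F410050 (iv2 F382623)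
theorem F414685 : act 7 n198965 = n200030 := d15_2 (iv0 D198964) D198965 F414681
def n200031 : Q := act 3 n112261
theorem D200031 : act 3 n112261 = n200031 := rfl
theorem F414686 : act 5 n200031 = n158112 := d6_2 (iv5 F327528) D200031 (iv3 D158112)
theorem F414687 : act 7 n200031 = n180639 := d8_2 F174605 D200031 (iv3 F327414)
theorem F414688 : act 4 n191149 = n200031 := d20_2 (iv4 F356904) F382412 (iv3 D200031) (iv1 D112261) (iv3 F326180) F59896 (iv1 F292610) F292611 (iv3 F120004) (iv1 F254241)
theorem F414689 : act 6 n200031 = n191148 := d10_2 D191149 F414688 (iv4 D191148)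
theorem F414690 : act 1 n200031 = n159324 := d18_8 (iv1 F326844) F326846 (iv1 D160971) F116019 D84324 D176889 (iv0 F382411) F414688 (iv5 D159324)
theorem F414691 : act 1 n159307 = n200031 := d15_0 F414690 (iv7 F254480) (iv2 F254481)
theorem F414692 : act 2 n200031 = n180638 := d15_3 (iv0 D180638) D180639 (iv7 F414687)
def n200032 : Q := act 4 n112261
theorem D200032 : act 4 n112261 = n200032 := rfl
theorem F414693 : act 2 n200032 = n199857 := d1_1 D200032 (iv4 D199857) F174604
theorem F414694 : act 7 n200032 = n199860 := d11_2 F174605 D200032 (iv4 D199860)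
theorem F414695 : act 6 n133220 = n200032 := d3_0 F414693 F413838 (iv2 F217468)
def n200033 : Q := act 6 n112261
theorem D200033 : act 6 n112261 = n200033 := rfl
theorem F414696 : act 2 n200033 = n199858 := d3_1 D200033 (iv6 D199858) F174604
theorem F414697 : act 3 n200033 = n191148 := d7_1 D200033 (iv6 F414689) (iv3 D200031)
theorem F414698 : act 4 n200033 = n133220 := d10_1 D200033 F414695 (iv4 D200032)
theorem F414699 : act 5 n200033 = n198734 := d12_1 D200033 F409019 F169916 F327529 (iv5 F327528)
theorem F414700 : act 0 n200033 = n144507 := d21_4 (iv5 D111793) F327193 (iv5 F327528) D200033 (iv6 D144507) (iv5 D67725) D67722 (iv5 F225287) F365720 (iv1 F327735)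
def n200034 : Q := act 5 n112262
theorem D200034 : act 5 n112262 = n200034 := rfl
theorem F414701 : act 2 n200034 = n190417 := d2_1 D200034 F379767 (iv2 F379768)
theorem F414702 : act 3 n200034 = n194184 := d6_1 D200034 (iv5 D194184) (iv3 F326848)
theorem F414703 : act 7 n200034 = n190416 := d13_2 F377394 D200034 F379723
theorem F414704 : act 4 n200034 = n119103 := d16_2 D112262 D200034 (iv5 F327027) F179249 F83843 (iv4 F174529) (iv5 F377408) F377409 F174526
theorem F414705 : act 0 n200034 = n190418 := d17_2 F378509 D200034 F379731 F379666 (iv5 D112268) (iv0 F172747) D136269 (iv0 F413693) F413692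
theorem F414706 : act 1 n200034 = n190004 := d17_8 (iv1 D130621) (iv5 F103895) (iv1 F328437) (iv5 F328843) (iv4 F333578) (iv5 F379769) F379770 D200034 F378536
theorem F414707 : act 6 n200034 = n119102 := d21_3 (iv5 F378507) F378509 D200034 F187373 F356876 F97657 (iv1 D29668) D29670 D62730 D133644
def n200035 : Q := act 5 n112266
theorem D200035 : act 5 n112266 = n200035 := rfl
theorem F414708 : act 2 n200035 = n199868 := d2_1 D200035 F413876 F219333
theorem F414709 : act 7 n200035 = n125757 := d13_2 (iv7 F174623) D200035 (iv5 D125757)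
theorem F414710 : act 0 n200035 = n199828 := d17_2 D112266 D200035 (iv5 D199828) (iv4 D111795) F81327 F83845 F83843 F81752 D51783
theorem F414711 : act 1 n200035 = n199830 := d17_6 (iv1 F395820) (iv5 F169870) (iv1 F202277) F202274 (iv4 F174621) D200035 (iv5 D199830) F413672 F413670
def n200036 : Q := act 5 n112282
theorem D200036 : act 5 n112282 = n200036 := rfl
theorem F414712 : act 2 n200036 = n198688 := d2_1 D200036 (iv5 D198688) (iv2 F174644)
theorem F414713 : act 3 n200036 = n189699 := d6_1 D200036 (iv5 F413198) F413197
theorem F414714 : act 6 n200036 = n194058 := d12_2 D112282 D200036 F391903 (iv6 F362578) (iv5 D112281)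
theorem F414715 : act 7 n200036 = n198744 := d13_2 F344583 D200036 (iv5 D198744)
theorem F414716 : act 0 n200036 = n164110 := d17_2 (iv1 F344522) D200036 (iv5 D164110) F298086 (iv5 F122553) F256895 (iv5 F373747) (iv0 F373750) F358810
theorem F414717 : act 1 n200036 = n164107 := d17_6 D35891 D78844 F326182 (iv5 F326183) (iv4 F174645) D200036 (iv5 D164107) (iv0 D78838) F56553
def n200037 : Q := act 5 n112396
theorem D200037 : act 5 n112396 = n200037 := rfl
theorem F414718 : act 3 n200037 = n112397 := d6_1 D200037 (iv5 D112397) D112396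
theorem F414719 : act 6 n200037 = n141028 := d12_2 F360217 D200037 F325014 (iv6 F300966) (iv5 F303678)
theorem F414720 : act 7 n200037 = n124965 := d13_2 (iv7 F174857) D200037 (iv5 F323946)
theorem F414721 : act 4 n200037 = n154137 := d19_2 F174858 D200037 (iv3 F395972) (iv1 D195146) (iv5 D105331) (iv4 D48697) F36981 D23750 F36984 (iv4 D11204) F10210 (iv1 F10012) F10014 (iv4 F10009) (iv3 F18526) D24158 F38409 D25372 D52231
theorem F414722 : act 0 n200037 = n147783 := d21_1 D200037 F341865 F341861 (iv1 F130051) D178286 (iv5 F334038) (iv1 F206093) F330139 (iv6 F330144) F174858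
theorem F414723 : act 0 n113147 = n200037 := d21_10 (iv5 D200037) (iv1 F360215) (iv5 F338382) (iv6 D126640) D126636 (iv6 F336322) (iv5 D147712) F334032 D160993 F336627
def n200038 : Q := act 2 n112413
theorem D200038 : act 2 n112413 = n200038 := rfl
theorem F414724 : act 3 n200038 = n137316 := d0_2 D112413 D200038 (iv2 F325256) (iv3 F169003) (iv2 F170041)
theorem F414725 : act 4 n200038 = n195564 := d1_2 (iv4 F174897) D200038 (iv2 F397361)
theorem F414726 : act 5 n200038 = n195498 := d2_2 (iv5 F324003) D200038 F397152
theorem F414727 : act 6 n200038 = n155085 := d3_2 F323212 D200038 F345372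
theorem F414728 : act 7 n200038 = n198170 := d4_2 (iv7 F174898) D200038 F407085
theorem F414729 : act 1 n200038 = n198749 := d15_0 (iv0 D198749) (iv7 F174898) D200038
theorem F414730 : act 1 n198750 = n200038 := d15_0 F414729 (iv7 F409069) (iv2 F409074)
def n200039 : Q := act 5 n112442
theorem D200039 : act 5 n112442 = n200039 := rfl
theorem F414731 : act 3 n200039 = n112443 := d6_1 D200039 (iv5 D112443) D112442
theorem F414732 : act 7 n200039 = n125865 := d13_2 (iv7 F174931) D200039 (iv5 D125865)
theorem F414733 : act 4 n200039 = n125723 := d16_6 D197831 (iv5 F407255) F407254 F341351 (iv4 F174930) D200039 F360431 (iv7 F406721) F406720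
theorem F414734 : act 6 n125722 = n200039 := d10_0 F414733 (iv6 D125723) D125722
def n200040 : Q := act 5 n112451
theorem D200040 : act 5 n112451 = n200040 := rfl
theorem F414735 : act 2 n200040 = n188900 := d2_1 D200040 (iv5 F412800) F412024
theorem F414736 : act 3 n200040 = n112452 := d6_1 D200040 (iv5 D112452) D112451
theorem F414737 : act 7 n200040 = n188899 := d13_2 F408878 D200040 F412280
theorem F414738 : act 1 n200040 = n188902 := d17_6 (iv1 D195328) (iv5 F219360) F413194 (iv5 D199706) (iv4 F174940) D200040 F412457 (iv0 F412458) F396724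
theorem F414739 : act 4 n200040 = n199779 := d18_5 (iv1 D51475) D51477 D111615 (iv4 F174940) D200040 (iv0 D199779) (iv4 D111725) (iv0 F395002) (iv5 D111610)
theorem F414740 : act 0 n200040 = n188646 := d18_0 F374302 D188647 F412183 (iv5 D199435) D199434 (iv0 F414578) F414576 F413026 D200040
def n200041 : Q := act 6 n112451
theorem D200041 : act 6 n112451 = n200041 := rfl
theorem F414741 : act 2 n200041 = n195885 := d3_1 D200041 F412035 F412024
theorem F414742 : act 3 n200041 = n112453 := d7_1 D200041 (iv6 D112453) D112451
theorem F414743 : act 4 n200041 = n199707 := d10_1 D200041 (iv6 D199707) (iv4 F174940)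
theorem F414744 : act 7 n200041 = n195890 := d14_2 F408878 D200041 F398626 (iv7 F407083) (iv6 F408877)
theorem F414745 : act 0 n200041 = n196451 := d21_10 F400724 D197449 F404378 (iv6 F398625) (iv1 F280713) (iv6 F412455) (iv5 F412457) (iv1 F414738) (iv5 D200040) D200041
theorem F414746 : act 5 n195882 = n200041 := d17_1 (iv1 F398611) F414745 F400724 F167295 F331957 (iv0 F336051) (iv5 F279063) (iv0 F319234) F176258
def n200042 : Q := act 6 n112452
theorem D200042 : act 6 n112452 = n200042 := rfl
def n200043 : Q := act 5 n112453
theorem D200043 : act 5 n112453 = n200043 := rfl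
theorem F414747 : act 3 n200043 = n195882 := d6_1 D200043 F414746 F414742
theorem F414748 : act 7 n200043 = n195888 := d13_2 (iv7 F366012) D200043 F398628
theorem F414749 : act 0 n200043 = n197364 := d17_2 F362595 D200043 F404059 (iv4 F256104) F328279 F80214 (iv5 F80200) F80215 D110300
theorem F414750 : act 1 n200043 = n196459 := d17_6 D55948 D121281 F297668 (iv5 F323981) (iv4 F174941) D200043 (iv5 F400746) (iv0 D121275) F88534
def n200044 : Q := act 5 n112456
theorem D200044 : act 5 n112456 = n200044 := rfl
theorem F414751 : act 2 n200044 = n197729 := d2_1 D200044 F405547 F204654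
theorem F414752 : act 4 n200044 = n197726 := d9_1 D200044 (iv5 D197726) (iv4 F202149) (iv5 F356041) (iv4 F413328) (iv5 D199740) (iv4 F173218) F173037 (iv4 D108770) (iv5 D50219) (iv4 F79534) D108697 D197835 F405959 F174942
theorem F414753 : act 7 n200044 = n197906 := d13_2 F204642 D200044 F406168
theorem F414754 : act 1 n200044 = n147931 := d17_6 (iv1 D125531) D125533 (iv1 F405961) F405959 F174942 D200044 F409174 F409187 F201904
theorem F414755 : act 1 n197915 = n200044 := d15_1 D197915 F414753 F406167
def n200045 : Q := act 6 n112468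
theorem D200045 : act 6 n112468 = n200045 := rfl
theorem F414756 : act 3 n200045 = n112470 := d7_1 D200045 (iv6 D112470) D112468
theorem F414757 : act 4 n200045 = n177463 := d10_1 D200045 (iv6 F409795) F409793
theorem F414758 : act 5 n200045 = n134837 := d12_1 D200045 (iv6 D134837) (iv5 F167720) D197590 F404940
theorem F414759 : act 7 n200045 = n163952 := d14_2 F406106 D200045 (iv6 D163952) (iv7 F193371) (iv6 F406105)
def n200046 : Q := act 1 n112487
theorem D200046 : act 1 n112487 = n200046 := rfl
theorem F414760 : act 1 n200046 = n155967 := d15_1 D200046 (iv7 F382025) F382023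
theorem F414761 : act 5 n157698 = n200046 := d17_5 (iv1 F347961) F182682 D145781 F347965 D157698 F414760 (iv5 F382005) F381994 F316665
def n200047 : Q := act 6 n112488
theorem D200047 : act 6 n112488 = n200047 := rfl
theorem F414762 : act 2 n200047 = n186927 := d3_1 D200047 F368533 (iv2 F325573)
theorem F414763 : act 4 n200047 = n186553 := d10_1 D200047 F289484 F319201
theorem F414764 : act 5 n200047 = n160869 := d12_1 D200047 (iv6 D160869) (iv5 D77200) F325574 D112488
theorem F414765 : act 7 n200047 = n186929 := d14_2 F382031 D200047 (iv6 F391889) F391888 (iv6 F382036)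
theorem F414766 : act 0 n200047 = n187084 := d21_4 (iv5 D112150) F81933 D112488 D200047 (iv6 F411435) F411434 (iv1 D176926) D176927 F276278 (iv1 F353335)
theorem F414767 : act 0 n186588 = n200047 := d21_4 F63942 (iv1 F73618) (iv5 F136317) D186588 (iv6 D200047) (iv5 D112488) (iv1 F170024) (iv5 F324380) F157441 F74754
def n200048 : Q := act 4 n112496
theorem D200048 : act 4 n112496 = n200048 := rfl
theorem F414768 : act 3 n200048 = n140054 := d5_1 D200048 (iv4 F384459) F384458 (iv4 D112498) (iv3 F174971)
theorem F414769 : act 6 n200048 = n189104 := d10_2 F413049 D200048 (iv4 F413048)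
theorem F414770 : act 5 n140053 = n200048 := d12_5 F414769 F375767 F372831 (iv5 F368195) F368196
def n200049 : Q := act 5 n112524
theorem D200049 : act 5 n112524 = n200049 := rfl
theorem F414771 : act 2 n200049 = n176660 := d2_1 D200049 (iv5 D176660) (iv2 F326934)
theorem F414772 : act 3 n200049 = n112525 := d6_1 D200049 (iv5 D112525) D112524
theorem F414773 : act 6 n200049 = n181928 := d12_2 (iv6 F326935) D200049 F356262 F356260 F325910
theorem F414774 : act 7 n200049 = n198813 := d13_2 (iv7 F174981) D200049 (iv5 D198813)
theorem F414775 : act 0 n200049 = n158098 := d17_2 (iv1 F362598) D200049 (iv5 D158098) F112905 F66448 (iv0 F296280) (iv5 F358811) F358808 F174734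
theorem F414776 : act 1 n200049 = n121148 := d17_6 (iv1 F119998) F119995 (iv1 F119997) F326664 (iv4 F174980) D200049 (iv5 D121148) (iv0 F298017) (iv4 D78843)
def n200050 : Q := act 0 n112525
theorem D200050 : act 0 n112525 = n200050 := rfl
theorem F414777 : act 5 n200050 = n158110 := d21_2 D112525 D200050 (iv6 D158110) (iv1 F327194) (iv6 D51545) (iv5 F80482) F80484 F79917 D50674 (iv1 F166165)
theorem F414778 : act 2 n198815 = n200050 := d15_3 (iv0 D200050) (iv0 F408157) (iv7 F409372)
theorem F414779 : act 1 n198367 = n200050 := d15_0 (iv0 D200050) F174982 (iv2 F407776)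
theorem F414780 : act 7 n200050 = n198814 := d15_2 (iv0 F408158) F414779 (iv2 F409370)
theorem F414781 : act 4 n198515 = n189975 := d18_5 (iv1 F407947) F407944 F169316 (iv4 F169371) D198515 (iv0 F378390) (iv4 F407780) F414779 F414777
theorem F414782 : act 6 n189974 = n198515 := d10_0 F414781 (iv6 D189975) (iv4 F378385)
theorem F414783 : act 5 n198514 = n189974 := d12_5 F414782 (iv5 D198515) (iv6 D109370) D109369 D198514
theorem F414784 : act 5 n176831 = n164083 := d21_0 (iv1 F258600) (iv5 F276269) (iv6 F380959) (iv1 F380954) F414782 (iv5 D198515) F220399 F354547 (iv6 D176834) D176831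
theorem F414785 : act 6 n164083 = n160842 := d21_3 D84302 D176831 F414784 (iv1 F254003) (iv6 F331244) (iv5 F160325) (iv1 F370024) F370021 F362558 (iv1 D84300)
theorem F414786 : act 7 n189973 = n198514 := d13_0 F414783 (iv7 D189974) D189973
theorem F414787 : act 4 n190765 = n198514 := d16_0 F414783 F378385 F147138 F70143 (iv5 F147138) (iv4 F378385) (iv5 F414783) (iv7 F414786) (iv2 F380960)
theorem F414788 : act 6 n198513 = n190765 := d10_0 F414787 (iv6 D198514) D198513
theorem F414789 : act 6 n189973 = n198735 := d3_2 F414788 F380960 (iv2 F409022)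
def n200051 : Q := act 4 n112525
theorem D200051 : act 4 n112525 = n200051 := rfl
theorem F414790 : act 7 n200051 = n198816 := d11_2 (iv7 F174982) D200051 (iv4 D198816)
theorem F414791 : act 1 n200051 = n189975 := d18_6 (iv1 F169206) F79900 F161251 D51912 D112525 D200051 (iv4 F414781) F408187 (iv5 D198361)
def n200052 : Q := act 5 n112532
theorem D200052 : act 5 n112532 = n200052 := rfl
theorem F414792 : act 2 n200052 = n125944 := d2_1 D200052 (iv5 D125944) (iv2 F174996)
theorem F414793 : act 3 n200052 = n198339 := d6_1 D200052 (iv5 D198339) F174995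
theorem F414794 : act 6 n200052 = n140395 := d12_2 F392584 D200052 (iv5 F403090) (iv6 D197110) (iv5 F392583)
theorem F414795 : act 7 n200052 = n198824 := d13_2 (iv7 F174994) D200052 (iv5 D198824)
theorem F414796 : act 0 n200052 = n198494 := d17_2 (iv1 F174993) D200052 F408154 F395823 (iv5 F409373) F409371 F379924 (iv0 F173500) (iv4 F81959)
theorem F414797 : act 4 n200052 = n199872 := d17_4 F172682 F81960 (iv1 F174993) D200052 F413898 F407772 (iv5 D109518) F169206 F169205
def n200053 : Q := act 1 n112535
theorem D200053 : act 1 n112535 = n200053 := rfl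
theorem F414798 : act 1 n200053 = n175202 := d15_1 D200053 F363841 (iv2 F175011)
theorem F414799 : act 7 n200053 = n119469 := d15_2 (iv0 F361280) D200053 F188258
theorem F414800 : act 5 n200053 = n119470 := d17_7 F267243 (iv5 F308556) F360580 F360581 (iv4 F274050) (iv5 F361281) D200053 F188263 (iv4 F267240)
theorem F414801 : act 4 n200053 = n155963 := d18_7 (iv1 F219371) F397012 (iv1 F407840) F407839 (iv5 F173702) (iv4 F175012) D200053 (iv0 F319846) F319848
theorem F414802 : act 3 n174311 = n200053 := d20_3 F348697 (iv1 F308372) (iv4 F342715) (iv1 D200053) (iv3 F361272) (iv4 F234427) F234428 (iv4 F334115) F334114 D128197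
theorem F414803 : act 6 n186851 = n200053 := d21_3 F413013 (iv1 F330729) (iv5 F368267) (iv1 D200053) (iv6 D112535) (iv5 D51920) F39650 D51450 D111552 D199652
theorem F414804 : act 2 n200053 = n145267 := d3_1 F414803 (iv6 F393602) F393599
def n200054 : Q := act 7 n112535
theorem D200054 : act 7 n112535 = n200054 := rfl
theorem F414805 : act 2 n200054 = n175202 := d4_1 D200054 F363841 (iv2 F175011)
theorem F414806 : act 3 n200054 = n149208 := d8_1 D200054 F234584 F361272
theorem F414807 : act 4 n200054 = n149213 := d11_1 D200054 F361277 (iv4 F175012)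
theorem F414808 : act 6 n200054 = n197093 := d14_1 D200054 F403015 (iv6 D108015) (iv7 F81965) D112535
theorem F414809 : act 1 n145267 = n200054 := d15_1 (iv0 F361283) (iv7 D200054) F175011
theorem F414810 : act 1 n200054 = n119469 := d15_1 F414809 (iv7 F414799) F414804
def n200055 : Q := act 3 n112536
theorem D200055 : act 3 n112536 = n200055 := rfl
theorem F414811 : act 2 n200055 = n163670 := d0_1 D200055 F341921 (iv2 F271921) F345385 (iv2 F175016)
theorem F414812 : act 4 n200055 = n113568 := d5_2 F175015 D200055 (iv3 D113568) (iv4 D52417) (iv3 F161329)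
theorem F414813 : act 5 n200055 = n163535 := d6_2 (iv5 F333428) D200055 (iv3 F333447)
theorem F414814 : act 7 n200055 = n176441 := d8_2 (iv7 F175014) D200055 F359781
theorem F414815 : act 0 n200055 = n161314 := d20_4 F82609 D52248 F175015 D200055 F255135 (iv4 F321956) (iv1 F88470) D78594 (iv3 F324769) (iv1 F161318)
theorem F414816 : act 6 n163662 = n200055 := d21_9 (iv5 D161314) D161311 (iv5 F342743) (iv6 D162951) (iv1 F193010) (iv6 F264645) F354002 F340791 (iv5 F334242) F414815
def n200056 : Q := act 6 n112536
theorem D200056 : act 6 n112536 = n200056 := rfl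
theorem F414817 : act 2 n200056 = n198832 := d3_1 D200056 (iv6 D198832) (iv2 F175016)
theorem F414818 : act 3 n200056 = n163662 := d7_1 D200056 F414816 (iv3 D200055)
theorem F414819 : act 4 n200056 = n113198 := d10_1 D200056 (iv6 D113198) F175015
theorem F414820 : act 5 n200056 = n190804 := d12_1 D200056 (iv6 D190804) (iv5 F303981) F236402 (iv5 F333428)
theorem F414821 : act 7 n200056 = n163672 := d14_2 (iv7 F175014) D200056 (iv6 F341659) F409474 (iv6 D198833)
theorem F414822 : act 0 n200056 = n144358 := d21_4 (iv5 F337605) F337601 (iv5 F333428) D200056 (iv6 F326689) (iv5 D119398) F190063 D54968 (iv6 F188223) (iv1 F337613)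
theorem F414823 : act 0 n144362 = n200056 := d21_4 F326781 (iv1 D157819) (iv5 F248724) (iv6 F327429) (iv6 D200056) F333428 F232866 (iv5 F409522) (iv6 D198842) F170638
def n200057 : Q := act 4 n112540
theorem D200057 : act 4 n112540 = n200057 := rfl
theorem F414824 : act 2 n200057 = n198905 := d1_1 D200057 (iv4 D198905) F350701
theorem F414825 : act 3 n200057 = n125373 := d5_1 D200057 F366129 (iv3 D113301) D113302 (iv3 F176511)
theorem F414826 : act 7 n200057 = n198904 := d11_2 F350688 D200057 (iv4 D198904)
theorem F414827 : act 1 n200057 = n198843 := d18_6 (iv1 D147050) (iv4 F183877) (iv1 F355613) (iv4 F414371) F414372 D200057 F409527 (iv0 F354863) (iv5 F354868)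
def n200058 : Q := act 4 n112545
theorem D200058 : act 4 n112545 = n200058 := rfl
theorem F414828 : act 2 n200058 = n112604 := d1_1 D200058 (iv4 D112604) (iv2 F175042)
theorem F414829 : act 3 n200058 = n132184 := d5_1 D200058 F361168 F207394 D129166 F334321
theorem F414830 : act 5 n200058 = n132181 := d9_2 D112545 D200058 F211744 F345890 F97071 F47237 F325952 (iv5 F323390) (iv4 F95532) D129839 (iv4 F345894) (iv5 D126571) F93689 F45627 (iv4 F81975)
theorem F414831 : act 7 n200058 = n129832 := d11_2 (iv7 F326078) D200058 F208186
theorem F414832 : act 0 n200058 = n129838 := d18_2 (iv1 F326075) D200058 (iv4 F351693) (iv5 F351677) F202597 (iv0 D59012) (iv4 F93213) F323878 F359736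
theorem F414833 : act 1 n200058 = n129837 := d18_6 (iv1 F351654) (iv4 D112548) (iv1 D51927) (iv4 F81975) D112545 D200058 F351694 (iv0 D132991) D132993
def n200059 : Q := act 5 n112548
theorem D200059 : act 5 n112548 = n200059 := rfl
theorem F414834 : act 2 n200059 = n112614 := d2_1 D200059 (iv5 D112614) (iv2 F175052)
theorem F414835 : act 7 n200059 = n112609 := d13_2 (iv7 F175053) D200059 (iv5 D112609)
theorem F414836 : act 0 n200059 = n158491 := d17_2 (iv1 F351654) D200059 (iv5 F351661) F168982 (iv5 F168997) F169000 F172580 F172578 (iv4 F351651)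
theorem F414837 : act 1 n200059 = n197065 := d17_6 (iv1 D28049) (iv5 F23274) D29379 F81979 D112548 D200059 (iv5 D197065) F172748 (iv4 D59029)
def n200060 : Q := act 3 n112564
theorem D200060 : act 3 n112564 = n200060 := rfl
theorem F414838 : act 2 n200060 = n164070 := d0_1 D200060 F258562 F119977 (iv3 F320723) F175243
theorem F414839 : act 5 n200060 = n173650 := d6_2 F403576 D200060 (iv3 F403578)
theorem F414840 : act 6 n200060 = n164068 := d7_2 F336087 D200060 (iv3 F336084)
theorem F414841 : act 7 n200060 = n173649 := d8_2 (iv7 F175244) D200060 (iv3 F334725)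
theorem F414842 : act 1 n152466 = n200060 := d15_1 (iv0 F347779) F414841 F272128
theorem F414843 : act 1 n200060 = n124653 := d15_1 F414842 (iv7 F347455) F343341
def n200061 : Q := act 4 n112564
theorem D200061 : act 4 n112564 = n200061 := rfl
theorem F414844 : act 2 n200061 = n124246 := d1_1 D200061 (iv4 F320724) F175243
theorem F414845 : act 6 n200061 = n124244 := d10_2 F336087 D200061 (iv4 F336085)
theorem F414846 : act 7 n200061 = n198914 := d11_2 (iv7 F175244) D200061 (iv4 D198914)
theorem F414847 : act 0 n200061 = n174140 := d17_0 F407438 (iv1 D198275) (iv5 D109113) F319460 (iv5 F352162) F352160 F182080 F175124 D200061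
theorem F414848 : act 1 n200061 = n178147 := d18_8 (iv1 F407355) F387652 D192778 F406067 (iv5 D197870) (iv4 F171193) F175124 D200061 (iv5 F407351)
theorem F414849 : act 5 n198300 = n200061 := d16_1 (iv4 F407536) (iv4 D200061) (iv5 F403576) F403577 F229440 F225420 F371663 F371661 F371656
def n200062 : Q := act 4 n112567
theorem D200062 : act 4 n112567 = n200062 := rfl
theorem F414850 : act 2 n200062 = n145763 := d1_1 D200062 (iv4 F228898) (iv2 F175132)
theorem F414851 : act 3 n200062 = n112569 := d5_1 D200062 (iv4 F354555) (iv3 D109893) (iv4 F82006) (iv3 F175133)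
theorem F414852 : act 7 n200062 = n122498 := d11_2 (iv7 F325857) D200062 F295809
theorem F414853 : act 5 n200062 = n146157 := d16_7 (iv4 F275224) (iv5 F387733) F387736 F168946 F101578 D112567 D200062 F334748 (iv2 F327360)
theorem F414854 : act 0 n200062 = n145764 := d17_0 F346435 F346437 D114464 (iv4 F403574) (iv5 D197214) (iv0 F321440) (iv5 F352174) F352171 D200062
theorem F414855 : act 1 n200062 = n116914 := d18_6 (iv1 F353650) (iv4 F230741) (iv1 D140393) F101578 D112567 D200062 F347977 (iv0 D77120) D77122
theorem F414856 : act 6 n112567 = n200062 := d21_3 (iv5 F403584) (iv1 D112565) D112567 F414854 F346432 (iv5 F309540) (iv1 D174862) F128819 (iv6 F334609) (iv1 F403582)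
def n200063 : Q := act 5 n112569
theorem D200063 : act 5 n112569 = n200063 := rfl
theorem F414857 : act 2 n200063 = n198910 := d2_1 D200063 (iv5 D198910) (iv2 F175137)
theorem F414858 : act 3 n200063 = n146157 := d6_1 D200063 (iv5 F414853) F414851
theorem F414859 : act 6 n200063 = n112570 := d12_2 D112569 D200063 (iv5 D112570) (iv6 D51938) D51937
theorem F414860 : act 7 n200063 = n159884 := d13_2 F408276 D200063 (iv5 F408277)
theorem F414861 : act 4 n200063 = n148794 := d18_5 (iv1 F248416) (iv4 F377990) (iv1 F377993) F354555 D200063 F233626 (iv4 F233673) (iv0 D148815) D148819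
theorem F414862 : act 0 n142511 = n200063 := d19_0 (iv5 D200063) (iv4 F354555) (iv3 D109893) (iv1 F81616) (iv5 D51692) (iv4 D25108) F19675 (iv1 F19631) (iv5 D11914) (iv4 F10120) F7585 F4921 D2481 D5884 D12364 D26080 (iv5 F181596) D66813 D142511
def n200064 : Q := act 0 n112570
theorem D200064 : act 0 n112570 = n200064 := rfl
theorem F414863 : act 5 n200064 = n166171 := d17_3 (iv1 F168817) D112570 D200064 (iv4 F411740) (iv5 D199331) (iv0 D111201) (iv5 F81145) F81147 (iv4 F168816)
theorem F414864 : act 4 n200064 = n123817 := d18_1 D200064 F357302 (iv4 F356460) (iv5 D121736) (iv4 F327260) F81589 (iv4 F168777) (iv0 F168778) D112570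
theorem F414865 : act 2 n119367 = n200064 := d15_3 (iv0 D200064) F353501 (iv7 F334571)
theorem F414866 : act 1 n112777 = n200064 := d15_0 (iv0 D200064) (iv7 F353497) (iv2 F353494)
theorem F414867 : act 7 n200064 = n198912 := d15_2 (iv0 F353499) F414866 F409863
theorem F414868 : act 6 n123816 = n200064 := d21_3 F343328 (iv1 F305811) F305815 (iv1 F414866) (iv6 F353496) (iv5 F311310) F311308 (iv5 D83751) D83752 (iv1 F343324)
theorem F414869 : act 3 n200064 = n166173 := d7_1 F414868 F337730 F267385
theorem F414870 : act 0 n154321 = n123817 := d20_1 F356988 (iv4 F414864) F414869 F337726 F130056 F317181 (iv1 F85284) (iv4 F317443) (iv3 F261628) F332147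
def n200065 : Q := act 4 n112570
theorem D200065 : act 4 n112570 = n200065 := rfl
theorem F414871 : act 2 n200065 = n198913 := d1_1 D200065 (iv4 D198913) (iv2 F175139)
theorem F414872 : act 3 n200065 = n122675 := d5_1 D200065 F357118 (iv3 F190362) F353307 (iv3 F327746)
theorem F414873 : act 6 n200065 = n148794 := d10_2 F414859 D200065 (iv4 F414861)
theorem F414874 : act 0 n187062 = n200065 := d20_4 (iv4 F357198) (iv1 F369001) F368997 (iv3 F368989) F414872 F357118 (iv1 F343522) (iv4 F186799) (iv3 F357188) (iv1 F289456)
def n200066 : Q := act 4 n112572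
theorem D200066 : act 4 n112572 = n200066 := rfl
theorem F414875 : act 2 n200066 = n176525 := d1_1 D200066 (iv4 D176525) (iv2 F330301)
theorem F414876 : act 6 n200066 = n167772 := d10_2 (iv6 F330302) D200066 (iv4 D167772)
theorem F414877 : act 7 n200066 = n198916 := d11_2 F355841 D200066 (iv4 D198916)
def n200067 : Q := act 3 n112573
theorem D200067 : act 3 n112573 = n200067 := rfl
theorem F414878 : act 5 n200067 = n147269 := d6_2 (iv5 F330314) D200067 (iv3 D147269)
theorem F414879 : act 7 n200067 = n176495 := d8_2 (iv7 F330315) D200067 F275808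
theorem F414880 : act 0 n200067 = n150245 := d21_7 (iv5 D28633) (iv1 F46054) F46051 D33680 D73120 (iv6 F346106) (iv5 F414878) (iv5 D150245) (iv6 D70725) F51906
theorem F414881 : act 1 n200067 = n195040 := d15_1 (iv0 F414880) F395534 F353636
def n200068 : Q := act 4 n112573
theorem D200068 : act 4 n112573 = n200068 := rfl
theorem F414882 : act 2 n200068 = n198916 := d1_1 D200068 (iv4 D198916) (iv2 F355842)
theorem F414883 : act 7 n200068 = n176525 := d11_2 (iv7 F330315) D200068 (iv4 D176525)
theorem F414884 : act 3 n200068 = n197824 := d20_3 F202057 (iv1 F175146) D200068 (iv1 F405909) F202017 F170853 F323899 (iv4 F131975) (iv3 F323363) (iv1 F342089)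
def n200069 : Q := act 6 n112573
theorem D200069 : act 6 n112573 = n200069 := rfl
theorem F414885 : act 2 n200069 = n185902 := d3_1 D200069 F362992 (iv2 F355842)
theorem F414886 : act 5 n200069 = n185861 := d12_1 D200069 (iv6 D185861) F135553 F330312 (iv5 F330314)
theorem F414887 : act 7 n200069 = n167770 := d14_2 (iv7 F330315) D200069 (iv6 D167770) (iv7 F301510) (iv6 F129199)
theorem F414888 : act 0 n200069 = n112597 := d21_4 (iv5 D69040) D69037 (iv5 F330314) D200069 F175189 F325693 (iv1 F258033) (iv5 D86304) D86305 F351029
theorem F414889 : act 0 n191814 = n200069 := d21_4 F127193 F155167 D98965 D191814 (iv6 D200069) F330314 (iv1 F175180) F175177 D125963 F327355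
def n200070 : Q := act 1 n112574
theorem D200070 : act 1 n112574 = n200070 := rfl
theorem F414890 : act 1 n200070 = n125606 := d15_1 D200070 (iv7 F231343) F231341
theorem F414891 : act 7 n200070 = n125605 := d15_2 (iv0 F342088) D200070 F343346
theorem F414892 : act 4 n200070 = n200060 := d17_9 (iv1 F414842) (iv5 D152466) (iv1 F347778) (iv5 F316337) (iv4 F318605) D113220 (iv0 F364296) F202226 D200070
theorem F414893 : act 2 n125604 = n200070 := d1_3 F414892 F414838 F356082
theorem F414894 : act 6 n163441 = n200070 := d10_0 F414892 F414840 F334377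
theorem F414895 : act 3 n200070 = n197885 := d19_3 (iv1 F272134) (iv5 F414839) (iv4 F414892) (iv1 D197885) D197887 F406120 F399528 F399521 (iv5 F349557) (iv4 F201879) (iv3 D112001) (iv1 F81557) (iv5 F344552) (iv4 D102503) D102502 F362568 D137891 (iv4 F354815) F354814
def n200071 : Q := act 6 n112574
theorem D200071 : act 6 n112574 = n200071 := rfl
theorem F414896 : act 2 n200071 = n174847 := d3_1 D200071 F355848 F231341
theorem F414897 : act 3 n200071 = n125521 := d7_1 D200071 (iv6 D125521) (iv3 F175147)
theorem F414898 : act 4 n200071 = n112575 := d10_1 D200071 (iv6 D112575) D112574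
theorem F414899 : act 7 n200071 = n174846 := d14_2 (iv7 F175148) D200071 F358034 F202061 (iv6 D125608)
theorem F414900 : act 0 n174850 = n200071 := d18_2 F318838 (iv4 F273710) F414898 (iv5 F355873) F240568 F356075 D160322 F342110 F347444
theorem F414901 : act 1 n160490 = n200071 := d18_6 F351747 (iv4 F321040) (iv1 F322814) F74202 (iv5 F316549) (iv4 F253518) F414898 (iv0 F389862) (iv5 D193446)
def n200072 : Q := act 1 n112579
theorem D200072 : act 1 n112579 = n200072 := rfl
theorem F414902 : act 1 n200072 = n112771 := d15_1 D200072 F175573 (iv2 F175159)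
theorem F414903 : act 7 n200072 = n198920 := d15_2 F358631 D200072 (iv2 F409893)
theorem F414904 : act 5 n200072 = n166144 := d17_7 F245300 (iv5 D156110) (iv1 D74257) F79631 (iv4 F82031) D112579 D200072 F332162 F202703
theorem F414905 : act 6 n187061 = n200072 := d21_3 (iv5 D161651) (iv1 F303161) (iv5 F368984) (iv1 D200072) F347911 F347909 (iv1 F347961) F182682 D145784 F346296
theorem F414906 : act 2 n200072 = n166145 := d3_1 F414905 (iv6 F358630) (iv2 F368983)
theorem F414907 : act 4 n200072 = n187062 := d10_1 F414905 (iv6 D187062) D187061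
def n200073 : Q := act 4 n112579
theorem D200073 : act 4 n112579 = n200073 := rfl
theorem F414908 : act 2 n200073 = n154321 := d1_1 D200073 (iv4 F356988) (iv2 F175159)
theorem F414909 : act 3 n200073 = n120418 := d5_1 D200073 F336777 (iv3 D89249) D89250 F321395
theorem F414910 : act 6 n200073 = n148823 := d10_2 (iv6 F347911) D200073 (iv4 D148823)
theorem F414911 : act 7 n200073 = n123783 := d11_2 (iv7 F348460) D200073 (iv4 F356460)
theorem F414912 : act 0 n200073 = n123099 := d20_4 (iv4 F90882) (iv1 F336773) (iv4 F336777) (iv3 F414909) F197295 (iv4 D119331) D119329 (iv4 F337210) F246015 F340881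
def n200074 : Q := act 6 n112593
theorem D200074 : act 6 n112593 = n200074 := rfl
theorem F414913 : act 2 n200074 = n153903 := d3_1 D200074 F348929 (iv2 F348924)
theorem F414914 : act 3 n200074 = n154672 := d7_1 D200074 F352363 (iv3 F348911)
theorem F414915 : act 4 n200074 = n190216 := d10_1 D200074 (iv6 F381735) F381734
theorem F414916 : act 7 n200074 = n154611 := d14_2 (iv7 F348910) D200074 (iv6 F347848) (iv7 F149806) (iv6 F149809)
theorem F414917 : act 1 n154610 = n200074 := d15_1 D154610 F414916 (iv2 D154611)
theorem F414918 : act 1 n200074 = n146166 := d15_1 F414917 F229437 (iv2 F359973)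
def n200075 : Q := act 2 n112597
theorem D200075 : act 2 n112597 = n200075 := rfl
theorem F414919 : act 4 n200075 = n163439 := d1_2 (iv4 F334368) D200075 F334345
theorem F414920 : act 6 n200075 = n188493 := d3_2 (iv6 F175189) D200075 (iv2 F373685)
theorem F414921 : act 7 n200075 = n191814 := d4_2 (iv7 F357790) D200075 F384524
theorem F414922 : act 1 n200075 = n185902 := d15_0 (iv0 F362994) (iv7 F357790) D200075
theorem F414923 : act 1 n167770 = n200075 := d15_0 F414922 (iv7 F362993) F321672
def n200076 : Q := act 2 n112599
theorem D200076 : act 2 n112599 = n200076 := rfl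
theorem F414924 : act 3 n200076 = n191814 := d0_2 D112599 D200076 F384524 (iv3 D164977) (iv2 F327264)
theorem F414925 : act 4 n200076 = n194160 := d1_2 F413695 D200076 (iv2 F413694)
theorem F414926 : act 6 n200076 = n191811 := d3_2 F364884 D200076 F384511
theorem F414927 : act 0 n200076 = n147163 := d21_4 (iv5 F348708) F337630 D191811 (iv6 F414926) (iv6 D147163) (iv5 D68995) (iv1 D32095) D32097 D69000 D147176
def n200077 : Q := act 4 n112602
theorem D200077 : act 4 n112602 = n200077 := rfl
theorem F414928 : act 2 n200077 = n129912 := d1_1 D200077 (iv4 D129912) (iv2 F359739)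
theorem F414929 : act 6 n200077 = n129725 := d10_2 (iv6 F364571) D200077 (iv4 D129725)
theorem F414930 : act 7 n200077 = n129907 := d11_2 (iv7 F359740) D200077 (iv4 D129907)
theorem F414931 : act 0 n200077 = n132988 := d18_2 D112602 D200077 F213634 D132993 F351651 (iv0 F172577) (iv4 F172575) (iv0 D51953) D51955
def n200078 : Q := act 3 n112603
theorem D200078 : act 3 n112603 = n200078 := rfl
theorem F414932 : act 5 n200078 = n126011 := d6_2 F175192 D200078 (iv3 D126011)
theorem F414933 : act 7 n200078 = n129911 := d8_2 (iv7 F359738) D200078 (iv3 D129911)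
def n200079 : Q := act 4 n112603
theorem D200079 : act 4 n112603 = n200079 := rfl
theorem F414934 : act 2 n200079 = n129907 := d1_1 D200079 (iv4 D129907) (iv2 F359737)
theorem F414935 : act 7 n200079 = n129912 := d11_2 (iv7 F359738) D200079 (iv4 D129912)
theorem F414936 : act 1 n200079 = n132988 := d18_6 (iv1 F363225) F363222 (iv1 F168973) F168169 F175192 D200079 F213634 D132992 (iv5 F351677)
def n200080 : Q := act 6 n112603
theorem D200080 : act 6 n112603 = n200080 := rfl
theorem F414937 : act 2 n200080 = n129909 := d3_1 D200080 (iv6 D129909) (iv2 F359737)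
theorem F414938 : act 5 n200080 = n129578 := d12_1 D200080 F342313 (iv5 D78431) (iv6 F326491) F175192
theorem F414939 : act 7 n200080 = n129732 := d14_2 (iv7 F359738) D200080 (iv6 D129732) (iv7 F364573) F361186
theorem F414940 : act 0 n200080 = n127094 := d21_4 (iv5 F320258) (iv1 F323880) F175192 D200080 F204340 (iv5 F307534) D161849 (iv5 F350906) F350907 F324943
def n200081 : Q := act 0 n112604
theorem D200081 : act 0 n112604 = n200081 := rfl
theorem F414941 : act 4 n200081 = n126018 := d18_3 (iv1 D112603) D112604 D200081 (iv5 D126018) (iv4 D59024) (iv0 D28048) (iv4 F45320) D59019 F175192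
theorem F414942 : act 1 n129832 = n200081 := d15_0 (iv0 D200081) F326081 (iv2 F208185)
theorem F414943 : act 2 n129838 = n200081 := d1_3 F414941 (iv2 F351680) F351693
theorem F414944 : act 7 n129837 = n200081 := d11_0 F414941 F351684 (iv4 F351694)
def n200082 : Q := act 1 n112604
theorem D200082 : act 1 n112604 = n200082 := rfl
theorem F414945 : act 1 n200082 = n129832 := d15_1 D200082 (iv7 F414831) F414828
theorem F414946 : act 7 n200082 = n129838 := d15_2 (iv0 D200081) D200082 F414943
theorem F414947 : act 4 n200082 = n126021 := d18_7 (iv1 F175203) (iv4 D51963) (iv1 D25209) (iv4 F39695) D51955 D112604 D200082 F351657 F351655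
theorem F414948 : act 2 n129837 = n200082 := d1_3 F414947 F351683 (iv4 F351694)
def n200083 : Q := act 5 n112604
theorem D200083 : act 5 n112604 = n200083 := rfl
theorem F414949 : act 2 n200083 = n132181 := d2_1 D200083 (iv5 F414830) F414828
theorem F414950 : act 3 n200083 = n129855 := d6_1 D200083 F208206 (iv3 F326079)
theorem F414951 : act 7 n200083 = n129839 := d13_2 (iv7 F326081) D200083 (iv5 D129839)
theorem F414952 : act 6 n132179 = n200083 := d7_0 F414950 F345871 (iv3 F211735)
def n200084 : Q := act 5 n112608
theorem D200084 : act 5 n112608 = n200084 := rfl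
theorem F414953 : act 3 n200084 = n112609 := d6_1 D200084 (iv5 D112609) D112608
theorem F414954 : act 6 n200084 = n137583 := d12_2 (iv6 F175206) D200084 F348609 F342070 (iv5 F327247)
theorem F414955 : act 4 n200084 = n137585 := d17_4 (iv1 F362716) F359627 F357776 D200084 F338484 D193030 (iv5 F388556) F363980 (iv4 F219892)
def n200085 : Q := act 1 n112609
theorem D200085 : act 1 n112609 = n200085 := rfl
theorem F414956 : act 1 n200085 = n112614 := d15_1 D200085 F351676 (iv2 F359613)
theorem F414957 : act 7 n200085 = n197065 := d15_2 (iv0 F175207) D200085 F402888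
theorem F414958 : act 5 n200085 = n165728 := d17_7 (iv1 F93216) (iv5 F47062) (iv1 F82062) (iv5 D51960) D51959 D112609 D200085 F363225 F202597
theorem F414959 : act 3 n132282 = n200085 := d19_19 (iv1 D200085) (iv5 D112609) (iv4 D51959) D51958 D112606 (iv5 F175199) (iv4 F327976) F349139 (iv1 F161558) (iv5 F164398) (iv4 F343619) F164647 D106850 D196267 (iv4 F400116) (iv3 D190660) (iv1 F260957) (iv5 F378167) F378166
theorem F414960 : act 6 n132280 = n200085 := d21_3 F313036 F310801 (iv5 F211990) (iv1 D200085) (iv6 F359612) (iv5 D163807) D163804 (iv5 F334305) (iv6 D130288) (iv1 F208439)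
theorem F414961 : act 2 n200085 = n158491 := d3_1 F414960 (iv6 D158491) F313037
def n200086 : Q := act 3 n112610
theorem D200086 : act 3 n112610 = n200086 := rfl
theorem F414962 : act 4 n200086 = n133221 := d5_2 D112610 D200086 (iv3 D133221) (iv4 F170691) (iv3 F170690)
theorem F414963 : act 7 n200086 = n132259 := d8_2 (iv7 F175209) D200086 (iv3 D132259)
theorem F414964 : act 6 n195660 = n200086 := d10_0 F414962 (iv6 F363882) D195660
def n200087 : Q := act 5 n112610
theorem D200087 : act 5 n112610 = n200087 := rfl
theorem F414965 : act 2 n200087 = n132263 := d2_1 D200087 (iv5 D132263) (iv2 F175208)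
theorem F414966 : act 7 n200087 = n132260 := d13_2 (iv7 F175209) D200087 (iv5 D132260)
theorem F414967 : act 1 n200087 = n126512 := d17_6 (iv1 D29462) F23358 D25208 D51960 D112610 D200087 (iv5 D126512) F168006 (iv4 D62267)
def n200088 : Q := act 6 n112610
theorem D200088 : act 6 n112610 = n200088 := rfl
theorem F414968 : act 2 n200088 = n132264 := d3_1 D200088 (iv6 D132264) (iv2 F175208)
theorem F414969 : act 3 n200088 = n195660 := d7_1 D200088 F414964 (iv3 D200086)
theorem F414970 : act 4 n200088 = n112611 := d10_1 D200088 (iv6 D112611) D112610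
theorem F414971 : act 7 n200088 = n198887 := d14_2 (iv7 F175209) D200088 (iv6 D198887) F170833 (iv6 F96693)
def n200089 : Q := act 6 n112614
theorem D200089 : act 6 n112614 = n200089 := rfl
theorem F414972 : act 3 n200089 = n158517 := d7_1 D200089 (iv6 F342171) F351675
def n200090 : Q := act 3 n112616
theorem D200090 : act 3 n112616 = n200090 := rfl
theorem F414973 : act 4 n200090 = n134920 := d5_2 D112616 D200090 (iv3 D134920) F167993 F167998
theorem F414974 : act 6 n200090 = n198888 := d7_2 (iv6 F175223) D200090 (iv3 D198888)
theorem F414975 : act 7 n200090 = n132262 := d8_2 (iv7 F175224) D200090 (iv3 D132262)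
def n200091 : Q := act 5 n112616
theorem D200091 : act 5 n112616 = n200091 := rfl
theorem F414976 : act 2 n200091 = n132260 := d2_1 D200091 (iv5 D132260) (iv2 F175222)
theorem F414977 : act 7 n200091 = n132263 := d13_2 (iv7 F175224) D200091 (iv5 D132263)
theorem F414978 : act 0 n200091 = n126512 := d17_2 (iv1 F175225) D200091 (iv5 D126512) F93631 (iv5 F76496) D105183 (iv5 F165661) (iv0 F165662) D108983
def n200092 : Q := act 0 n112617
theorem D200092 : act 0 n112617 = n200092 := rfl
theorem F414979 : act 4 n200092 = n125814 := d20_8 F45274 D58870 F93089 (iv3 F202048) F413739 F395482 F202023 D200092 (iv3 D125814) (iv1 F93135)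
theorem F414980 : act 3 n198890 = n200092 := d5_5 F414979 (iv3 D125814) F93133 (iv3 F170868) D198890
def n200093 : Q := act 1 n112617
theorem D200093 : act 1 n112617 = n200093 := rfl
def n200094 : Q := act 5 n112617
theorem D200094 : act 5 n112617 = n200094 := rfl
theorem F414981 : act 2 n200094 = n113551 := d2_1 D200094 (iv5 F366365) F202324
theorem F414982 : act 6 n200094 = n112618 := d12_2 D112617 D200094 (iv5 D112618) (iv6 D51968) D51967
theorem F414983 : act 1 n200094 = n195739 := d15_0 (iv0 F398003) (iv7 F395768) (iv2 F414981)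
def n200095 : Q := act 7 n112617
theorem D200095 : act 7 n112617 = n200095 := rfl
theorem F414984 : act 4 n200095 = n195698 := d11_1 D200095 F397889 F202023
theorem F414985 : act 6 n200095 = n198894 := d14_1 D200095 (iv7 D198894) (iv6 D110466) (iv7 F82075) D112617
def n200096 : Q := act 0 n112618
theorem D200096 : act 0 n112618 = n200096 := rfl
theorem F414986 : act 5 n200096 = n196440 := d17_3 (iv1 F161136) D112618 D200096 (iv4 D196440) (iv5 D106984) (iv0 D49425) F40187 F76519 (iv4 F161134)
theorem F414987 : act 1 n113320 = n200096 := d15_0 (iv0 D200096) F175228 (iv2 F176520)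
theorem F414988 : act 3 n196082 = n200096 := d6_3 F414986 F400677 F399347
theorem F414989 : act 7 n198929 = n200096 := d13_0 F414986 F400678 (iv5 F409949)
theorem F414990 : act 2 n200096 = n198930 := d15_3 F409951 F409950 F414989
theorem F414991 : act 6 n200096 = n196080 := d7_2 D196082 F414988 (iv3 D196080)
def n200097 : Q := act 1 n112618
theorem D200097 : act 1 n112618 = n200097 := rfl
theorem F414992 : act 1 n200097 = n113320 := d15_1 D200097 (iv7 F176860) F176859
theorem F414993 : act 7 n200097 = n198930 := d15_2 (iv0 D200096) D200097 (iv2 F414990)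
theorem F414994 : act 5 n200097 = n126308 := d17_7 F104297 F93418 (iv1 D49776) (iv5 F39719) (iv4 F82077) D112618 D200097 (iv0 F203087) F176595
theorem F414995 : act 2 n198929 = n200097 := d2_3 F414994 F203085 (iv5 F409949)
def n200098 : Q := act 4 n112618
theorem D200098 : act 4 n112618 = n200098 := rfl
theorem F414996 : act 3 n200098 = n132605 := d5_1 D200098 (iv4 D132605) D132604 (iv4 F354299) F354374
theorem F414997 : act 7 n200098 = n198931 := d11_2 (iv7 F175228) D200098 (iv4 D198931)
def n200099 : Q := act 5 n112661
theorem D200099 : act 5 n112661 = n200099 := rfl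
theorem F414998 : act 2 n200099 = n125643 := d2_1 D200099 F202089 (iv2 F175319)
theorem F414999 : act 3 n200099 = n187417 := d6_1 D200099 F373472 F373468
theorem F415000 : act 4 n200099 = n189678 := d9_1 D200099 F377369 F342966 F327325 (iv4 D58835) (iv5 D27972) (iv4 F45223) D58824 D125642 (iv5 F342958) (iv4 F332853) (iv5 F332858) F95227 (iv5 F164059) D112661
theorem F415001 : act 7 n200099 = n125529 := d13_2 (iv7 F175321) D200099 (iv5 D125529)
theorem F415002 : act 0 n200099 = n125641 := d17_2 F175323 D200099 F202087 (iv4 D105226) F99166 F164609 F164607 F92965 (iv4 F165632)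
theorem F415003 : act 1 n200099 = n125640 := d17_6 D49077 (iv5 F93008) F93009 (iv5 F164059) D112661 D200099 F202083 F165570 F76549
theorem F415004 : act 6 n200099 = n189677 := d21_3 F332805 F175323 D200099 F377365 F376286 D196267 F400115 (iv5 F380440) (iv6 F380441) (iv1 D131991)
def n200100 : Q := act 6 n112667
theorem D200100 : act 6 n112667 = n200100 := rfl
theorem F415005 : act 2 n200100 = n145476 := d3_1 D200100 (iv6 D145476) F182548
theorem F415006 : act 3 n200100 = n112670 := d7_1 D200100 (iv6 D112670) D112667
theorem F415007 : act 4 n200100 = n144008 := d10_1 D200100 (iv6 D144008) (iv4 F175340)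
def n200101 : Q := act 0 n112668
theorem D200101 : act 0 n112668 = n200101 := rfl
theorem F415008 : act 4 n200101 = n145348 := d18_3 D52000 D112668 D200101 F228395 D195929 (iv0 F398755) F225640 (iv0 F102876) F77650
theorem F415009 : act 1 n112673 = n200101 := d15_0 (iv0 D200101) (iv7 F182543) (iv2 F182544)
theorem F415010 : act 3 n140490 = n200101 := d20_9 (iv4 D112673) (iv1 D52001) (iv4 F40799) (iv3 D25814) (iv1 F40792) D53207 F84051 D65942 D140490 (iv1 F415009)
theorem F415011 : act 2 n196562 = n200101 := d1_3 F415008 F402271 (iv4 F402269)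
theorem F415012 : act 7 n196561 = n200101 := d11_0 F415008 (iv7 F401053) (iv4 F401088)
def n200102 : Q := act 1 n112668
theorem D200102 : act 1 n112668 = n200102 := rfl
theorem F415013 : act 1 n200102 = n112673 := d15_1 D200102 F182533 (iv2 F182534)
theorem F415014 : act 7 n200102 = n196562 := d15_2 (iv0 D200101) D200102 F415011
theorem F415015 : act 4 n200102 = n145359 := d18_7 (iv1 F402416) F402421 (iv1 D196611) (iv4 D107137) F180733 D112668 D200102 F400931 (iv5 F401866)
theorem F415016 : act 2 n196561 = n200102 := d1_3 F415015 (iv2 F401051) (iv4 F401088)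
theorem F415017 : act 3 n196508 = n200102 := d5_5 F415015 (iv3 F228403) (iv4 D136845) D136844 (iv4 F400892)
theorem F415018 : act 7 n115300 = n196508 := d8_0 F415017 F415014 (iv3 F402270)
theorem F415019 : act 2 n196508 = n115299 := d15_3 (iv0 D115299) D115300 F415018
theorem F415020 : act 2 n115300 = n196507 := d15_3 (iv0 D196507) D196508 (iv7 F415018)
theorem F415021 : act 7 n196507 = n115299 := d4_2 (iv7 F415018) F415020 (iv2 F415019)
def n200103 : Q := act 3 n112668
theorem D200103 : act 3 n112668 = n200103 := rfl
theorem F415022 : act 4 n200103 = n144006 := d5_2 D112668 D200103 (iv3 D144006) (iv4 F175340) (iv3 D112667)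
theorem F415023 : act 7 n200103 = n196563 := d8_2 F182543 D200103 (iv3 D196563)
def n200104 : Q := act 5 n112668
theorem D200104 : act 5 n112668 = n200104 := rfl
theorem F415024 : act 2 n200104 = n196570 := d2_1 D200104 (iv5 D196570) (iv2 F182534)
theorem F415025 : act 7 n200104 = n196564 := d13_2 F182543 D200104 (iv5 D196564)
theorem F415026 : act 0 n200104 = n196808 := d17_2 (iv1 D200102) D200104 (iv5 D196808) (iv4 D107348) D107349 F397065 (iv5 F166891) D145359 (iv4 F415015)
def n200105 : Q := act 6 n112668
theorem D200105 : act 6 n112668 = n200105 := rfl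
theorem F415027 : act 2 n200105 = n196571 := d3_1 D200105 (iv6 D196571) (iv2 F182534)
theorem F415028 : act 4 n200105 = n112670 := d10_1 D200105 (iv6 D112670) D112668
def n200106 : Q := act 0 n112670
theorem D200106 : act 0 n112670 = n200106 := rfl
theorem F415029 : act 6 n200106 = n156074 := d21_5 F37885 D49497 F180733 D112670 D200106 F337401 F223779 (iv5 F330473) F351319 (iv1 D49523)
theorem F415030 : act 2 n145302 = n200106 := d15_3 (iv0 D200106) F402251 F402249
theorem F415031 : act 3 n200106 = n196417 := d0_2 D145302 F415030 F400634 F164872 F104281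
theorem F415032 : act 4 n200106 = n156085 := d1_2 (iv4 F228332) F415030 F245250
theorem F415033 : act 7 n196572 = n200106 := d15_2 (iv0 F362963) D196572 (iv2 F415030)
theorem F415034 : act 2 n196909 = n196572 := d4_3 F415033 (iv2 F415030) (iv7 F402249)
theorem F415035 : act 1 n174522 = n200106 := d15_1 (iv0 F402250) (iv7 F415033) (iv2 F415034)
theorem F415036 : act 5 n197963 = n200106 := d6_0 F415031 F400635 (iv3 F406296)
def n200107 : Q := act 5 n112670
theorem D200107 : act 5 n112670 = n200107 := rfl
theorem F415037 : act 2 n200107 = n196573 := d2_1 D200107 (iv5 D196573) (iv2 F182535)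
theorem F415038 : act 6 n200107 = n196614 := d12_2 D112670 D200107 (iv5 D196614) (iv6 D107139) F180733
def n200108 : Q := act 7 n112670
theorem D200108 : act 7 n112670 = n200108 := rfl
theorem F415039 : act 2 n200108 = n174522 := d4_1 D200108 F362962 (iv2 F182535)
theorem F415040 : act 6 n200108 = n196568 := d14_1 D200108 (iv7 D196568) (iv6 D107081) (iv7 F182515) D112670
theorem F415041 : act 1 n196572 = n200108 := d15_1 D196572 (iv7 D200108) F182535
theorem F415042 : act 1 n200108 = n145302 := d15_1 F415041 (iv7 F402249) F415034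
def n200109 : Q := act 4 n112672
theorem D200109 : act 4 n112672 = n200109 := rfl
theorem F415043 : act 2 n200109 = n174552 := d1_1 D200109 (iv4 F411110) F411113
theorem F415044 : act 3 n200109 = n132481 := d5_1 D200109 F357044 F203868 (iv4 D112673) D112672
theorem F415045 : act 7 n200109 = n173301 := d11_2 (iv7 F182532) D200109 (iv4 F343453)
theorem F415046 : act 5 n200109 = n132479 := d17_5 F225614 (iv5 F228312) (iv1 F228316) (iv5 F180740) D200109 F401941 (iv5 D196829) D196827 F401928
theorem F415047 : act 0 n200109 = n145333 := d17_0 (iv5 F336103) F362738 F355499 (iv4 F401424) F401425 (iv0 F181498) D196337 F400384 D200109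
theorem F415048 : act 1 n200109 = n145329 := d18_6 D107071 D196548 F401043 F223697 (iv5 F180740) D200109 (iv4 D145329) (iv0 D68139) (iv5 F78212)
theorem F415049 : act 6 n200109 = n174527 := d21_5 (iv5 F388845) F388847 (iv5 F375903) (iv6 F375910) (iv1 F415048) (iv5 F366952) (iv1 F256747) D162582 F353017 (iv1 F376059)
theorem F415050 : act 6 n195884 = n162577 := d21_5 (iv5 F336103) F362738 F355499 (iv6 F355497) (iv1 F398596) (iv5 D162577) (iv1 F256748) F366952 (iv6 F415049) F415047
theorem F415051 : act 4 n162577 = n195886 := d10_1 F415050 (iv6 D195886) D195884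
theorem F415052 : act 0 n199108 = n195886 := d20_7 (iv4 F375960) (iv1 D189176) F336314 (iv3 F402934) (iv1 F402938) F361996 (iv4 F410704) (iv4 F415051) (iv3 F363178) F242693
def n200110 : Q := act 6 n112672
theorem D200110 : act 6 n112672 = n200110 := rfl
theorem F415053 : act 3 n200110 = n112675 := d7_1 D200110 (iv6 D112675) D112672
theorem F415054 : act 4 n200110 = n174527 := d10_1 D200110 (iv6 F415049) (iv4 D200109)
theorem F415055 : act 7 n200110 = n174524 := d14_2 (iv7 F182532) D200110 (iv6 D174524) (iv7 F271705) F343460
theorem F415056 : act 1 n177183 = n200110 := d15_1 (iv0 F346563) F415055 F366932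
theorem F415057 : act 5 n199808 = n200110 := d6_0 F415053 (iv5 F363569) D199808
def n200111 : Q := act 5 n112673
theorem D200111 : act 5 n112673 = n200111 := rfl
theorem F415058 : act 2 n200111 = n196564 := d2_1 D200111 (iv5 D196564) (iv2 F182544)
theorem F415059 : act 3 n200111 = n115560 := d6_1 D200111 F357047 F203868
theorem F415060 : act 7 n200111 = n196570 := d13_2 (iv7 F182533) D200111 (iv5 D196570)
theorem F415061 : act 1 n200111 = n196808 := d17_6 (iv1 F163676) F163674 (iv1 F93291) F180739 D112673 D200111 (iv5 D196808) (iv0 F165407) (iv4 D107189)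
def n200112 : Q := act 6 n112673
theorem D200112 : act 6 n112673 = n200112 := rfl
theorem F415062 : act 2 n200112 = n196565 := d3_1 D200112 (iv6 D196565) (iv2 F182544)
theorem F415063 : act 3 n200112 = n115676 := d7_1 D200112 F357048 F203868
theorem F415064 : act 4 n200112 = n112675 := d10_1 D200112 (iv6 D112675) D112673
def n200113 : Q := act 1 n112675
theorem D200113 : act 1 n112675 = n200113 := rfl
theorem F415065 : act 1 n200113 = n196568 := d15_1 D200113 (iv7 D196568) F182552
theorem F415066 : act 7 n200113 = n196566 := d15_2 (iv0 F402193) D200113 (iv2 F402190)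
theorem F415067 : act 5 n200113 = n123890 := d17_7 D57722 D123883 (iv1 F363292) F362805 F401100 F363569 D200113 (iv0 D123890) (iv4 D57724)
theorem F415068 : act 6 n116108 = n200113 := d21_3 (iv5 D53513) D53511 D116108 (iv1 D200113) (iv6 D112675) (iv5 F180739) (iv1 D49498) (iv5 F37885) D49525 (iv1 F331816)
theorem F415069 : act 2 n200113 = n145320 := d3_1 F415068 F400247 F400243
theorem F415070 : act 3 n196619 = n200113 := d0_0 F415069 (iv3 D145320) F165720 D196896 (iv2 F402202)
def n200114 : Q := act 7 n112675
theorem D200114 : act 7 n112675 = n200114 := rfl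
theorem F415071 : act 2 n200114 = n196568 := d4_1 D200114 (iv7 D196568) F182552
theorem F415072 : act 3 n200114 = n174524 := d8_1 D200114 (iv7 F415055) F415053
theorem F415073 : act 5 n200114 = n199074 := d13_1 D200114 F410545 F363569
theorem F415074 : act 6 n200114 = n174522 := d14_1 D200114 F362962 (iv6 D107086) F182519 D112675
theorem F415075 : act 1 n145320 = n200114 := d15_1 (iv0 F400248) (iv7 D200114) (iv2 F182552)
theorem F415076 : act 1 n200114 = n196566 := d15_1 F415075 (iv7 F415066) F415069
def n200115 : Q := act 0 n112676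
theorem D200115 : act 0 n112676 = n200115 := rfl
theorem F415077 : act 6 n200115 = n115282 := d21_5 (iv5 F172110) (iv1 F163630) F163628 D112676 D200115 (iv5 F331023) (iv1 F331791) (iv5 D107200) (iv6 D49525) D49522
theorem F415078 : act 3 n174474 = n200115 := d7_3 F415077 (iv3 F409696) F409697
theorem F415079 : act 4 n115283 = n200115 := d10_3 F415077 (iv4 D115282) D115283
theorem F415080 : act 7 n112678 = n200115 := d14_0 F415077 F407687 (iv6 D198342) (iv7 F332219) F363570
theorem F415081 : act 0 n200115 = n112680 := d21_4 F180902 (iv1 F222784) F331023 (iv6 F415077) F175346 (iv5 F351293) (iv1 D116103) D116104 F180895 D116112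
theorem F415082 : act 2 n200115 = n112677 := d15_3 (iv0 D112677) D112678 F415080
theorem F415083 : act 7 n198346 = n112677 := d4_2 (iv7 F415080) (iv2 F407697) (iv2 F415082)
def n200116 : Q := act 7 n112676
theorem D200116 : act 7 n112676 = n200116 := rfl
theorem F415084 : act 2 n200116 = n112680 := d4_1 D200116 (iv7 D112680) (iv2 F175342)
theorem F415085 : act 3 n200116 = n138456 := d8_1 D200116 F221652 (iv3 F331809)
theorem F415086 : act 5 n200116 = n138454 := d13_1 D200116 (iv7 F221649) (iv5 F331810)
theorem F415087 : act 6 n200116 = n153763 := d14_1 D200116 (iv7 F365889) (iv6 D107087) (iv7 F82134) D112676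
theorem F415088 : act 1 n112678 = n200116 := d15_1 D112678 (iv7 D200116) F175342
theorem F415089 : act 1 n200116 = n112677 := d15_1 F415088 (iv7 F415083) F407697
def n200117 : Q := act 3 n112677
theorem D200117 : act 3 n112677 = n200117 := rfl
theorem F415090 : act 2 n200117 = n194589 := d0_1 D200117 F393769 F386496 F415078 F415082
theorem F415091 : act 7 n200117 = n194588 := d8_2 F415083 D200117 (iv3 F407698)
theorem F415092 : act 4 n200117 = n194467 := d20_6 (iv4 F50038) (iv1 D25243) (iv4 F39778) (iv3 F82138) D112677 D200117 (iv1 D194467) (iv4 F359499) F165850 (iv1 F78444)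
theorem F415093 : act 1 n194468 = n200117 := d18_6 (iv1 F359602) F254495 (iv1 F336339) (iv4 F119584) D162985 (iv4 F393338) F415092 F393333 F359493
theorem F415094 : act 1 n200117 = n194591 := d15_1 F415093 (iv7 D194591) (iv2 F393336)
def n200118 : Q := act 4 n112677
theorem D200118 : act 4 n112677 = n200118 := rfl
theorem F415095 : act 2 n200118 = n115283 := d1_1 D200118 F415079 F415082
theorem F415096 : act 3 n115652 = n200118 := d0_0 F415095 F179544 F84011 (iv3 F84180) (iv2 F180022)
theorem F415097 : act 6 n115279 = n200118 := d3_0 F415095 (iv6 D115283) (iv2 F179542)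
theorem F415098 : act 0 n115652 = n152830 := d20_4 F84089 D112677 D200118 (iv3 F415096) F240046 (iv4 F240048) F274394 (iv4 F351414) F351415 (iv1 D115409)
def n200119 : Q := act 5 n112677
theorem D200119 : act 5 n112677 = n200119 := rfl
theorem F415099 : act 0 n200119 = n178163 := d21_1 D200119 F360028 F351096 (iv1 F351092) F345397 F172122 (iv1 D106413) F77650 D52003 D112677
theorem F415100 : act 6 n141868 = n200119 := d21_5 F364771 F345276 D140615 F223726 D141868 (iv5 D200119) (iv1 F415089) F415086 (iv6 D138454) D138450
theorem F415101 : act 3 n200119 = n193197 := d7_1 F415100 (iv6 D193197) F351883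
theorem F415102 : act 5 n193197 = n200117 := d6_2 D200119 F415101 (iv3 D200117)
def n200120 : Q := act 6 n112677
theorem D200120 : act 6 n112677 = n200120 := rfl
theorem F415103 : act 2 n200120 = n115282 := d3_1 D200120 (iv6 F415077) F415082
theorem F415104 : act 4 n200120 = n115279 := d10_1 D200120 F415097 (iv4 D200118)
theorem F415105 : act 5 n200120 = n131038 := d12_1 D200120 F209742 (iv5 F224910) F415100 (iv5 D200119)
theorem F415106 : act 7 n200120 = n196398 := d14_2 F415083 D200120 (iv6 D196398) F332223 D198346
theorem F415107 : act 0 n116110 = n200120 := d21_4 (iv5 D160373) (iv1 F253286) F303293 F344459 (iv6 D200120) D200119 F415099 F360028 F351096 (iv1 F351092)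
theorem F415108 : act 1 n116108 = n200120 := d15_0 (iv0 F415107) (iv7 F400245) F400243
def n200121 : Q := act 4 n112678
theorem D200121 : act 4 n112678 = n200121 := rfl
theorem F415109 : act 3 n200121 = n115291 := d5_1 D200121 F357023 (iv3 F357020) D192361 F386567
theorem F415110 : act 6 n200121 = n196400 := d10_2 F363570 D200121 (iv4 D196400)
theorem F415111 : act 7 n200121 = n115283 := d11_2 (iv7 F415080) D200121 F415079
def n200122 : Q := act 5 n112678
theorem D200122 : act 5 n112678 = n200122 := rfl
theorem F415112 : act 6 n200122 = n198049 := d12_2 F363570 D200122 F406592 (iv6 D111763) (iv5 F332218)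
theorem F415113 : act 0 n178163 = n200122 := d21_7 D106946 D196402 F400593 (iv6 F345413) F344462 (iv6 F351096) (iv5 F360028) (iv5 D200122) (iv6 F363570) (iv1 D106944)
def n200123 : Q := act 0 n112679
theorem D200123 : act 0 n112679 = n200123 := rfl
def n200124 : Q := act 1 n112679
theorem D200124 : act 1 n112679 = n200124 := rfl
theorem F415114 : act 1 n200124 = n138454 := d15_1 D200124 (iv7 F221649) (iv2 F364957)
theorem F415115 : act 6 n115748 = n200124 := d21_9 (iv5 D112679) D112677 D200119 (iv6 F415100) (iv1 F345291) (iv6 D116083) F345288 D135184 F349747 (iv1 D200124)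
theorem F415116 : act 2 n200124 = n140497 := d3_1 F415115 (iv6 D140497) (iv2 F349743)
def n200125 : Q := act 4 n112679
theorem D200125 : act 4 n112679 = n200125 := rfl
theorem F415117 : act 2 n200125 = n115416 := d1_1 D200125 F179714 (iv2 F364957)
theorem F415118 : act 6 n200125 = n196520 := d10_2 F398655 D200125 (iv4 F400953)
theorem F415119 : act 5 n156080 = n200125 := d19_1 (iv1 F400955) (iv4 D200125) F175344 D112681 (iv5 F402629) (iv4 D197000) (iv3 F402614) (iv1 F408784) (iv5 D198665) (iv4 D109736) D109735 D198663 F408766 (iv4 D111806) F161371 (iv1 F81549) F81545 (iv4 F84090) (iv3 F179711)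
def n200126 : Q := act 7 n112679
theorem D200126 : act 7 n112679 = n200126 := rfl
theorem F415120 : act 2 n200126 = n138454 := d4_1 D200126 (iv7 F221649) (iv2 F364957)
theorem F415121 : act 3 n200126 = n112684 := d8_1 D200126 (iv7 D112684) (iv3 F175344)
theorem F415122 : act 5 n200126 = n112680 := d13_1 D200126 (iv7 D112680) D112679
theorem F415123 : act 1 n138454 = n200123 := d15_0 (iv0 D200123) D200126 F415120
theorem F415124 : act 1 n140632 = n200126 := d15_1 D140632 (iv7 D200126) F364957
theorem F415125 : act 7 n200123 = n140497 := d15_2 F415114 F415123 (iv2 F415116)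
theorem F415126 : act 6 n138452 = n200126 := d12_0 F415122 F175346 (iv5 F351293) (iv6 F357952) F357951
theorem E103802 : n140632 = n140497 := (c21_5 F130011 D157937 F357951 F415126 (iv1 F415124) (iv6 D140497) D140496 F345321 F101671 (iv6 F98570) F345265)
theorem F415127 : act 0 n140497 = n65987 := (sb E103802 (iv1 D140632))
theorem F415128 : act 1 n140497 = n200126 := (sb E103802 F415124)
theorem F415129 : act 2 n200123 = n140631 := d15_3 (iv0 D140631) (iv0 F415127) (iv7 F415125)
theorem F415130 : act 7 n140631 = n200124 := d4_2 (iv7 F415125) F415129 F415116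
theorem F415131 : act 1 n200126 = n140631 := d15_1 F415128 F415130 F415116
def n200127 : Q := act 3 n112681
theorem D200127 : act 3 n112681 = n200127 := rfl
theorem F415132 : act 7 n200127 = n196627 := d8_2 (iv7 F228469) D200127 (iv3 D196627)
theorem F415133 : act 0 n140587 = n200127 := d20_4 (iv4 D145549) F320487 F342412 D140587 (iv3 D200127) (iv4 F402526) (iv1 F402529) F228444 (iv3 F331034) (iv1 F353389)
def n200128 : Q := act 6 n112681
theorem D200128 : act 6 n112681 = n200128 := rfl
theorem F415134 : act 2 n200128 = n194251 := d3_1 D200128 F392502 F228468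
theorem F415135 : act 4 n200128 = n193735 := d10_1 D200128 (iv6 F402530) F402526
theorem F415136 : act 7 n200128 = n140523 := d14_2 (iv7 F228469) D200128 (iv6 D140523) (iv7 F340479) F340481
theorem F415137 : act 1 n115788 = n200128 := d15_1 (iv0 F359401) F415136 (iv2 F367025)
theorem F415138 : act 0 n190583 = n200128 := d18_2 F379906 D190583 F415135 F390819 F376050 F372404 F251143 (iv0 F367233) D190494
theorem F415139 : act 3 n154699 = n200128 := d20_5 F94709 F54093 D33747 D73363 D154699 F415135 (iv1 F390821) (iv4 F365237) (iv3 F365238) F185876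
theorem F415140 : act 6 n200127 = n154699 := d7_0 F415139 (iv6 D200128) D200127
def n200129 : Q := act 3 n112682
theorem D200129 : act 3 n112682 = n200129 := rfl
theorem F415141 : act 5 n200129 = n196737 := d6_2 F175348 D200129 F401640
theorem F415142 : act 6 n200129 = n140515 := d7_2 (iv6 F339988) D200129 (iv3 D140515)
theorem F415143 : act 7 n200129 = n196626 := d8_2 F228466 D200129 (iv3 D196626)
theorem F415144 : act 0 n200129 = n192384 := d19_4 F394806 (iv5 F402538) F402534 D200129 F402175 F402172 F236191 (iv1 F153182) (iv5 F136880) F306920 (iv3 F331970) F331968 (iv5 F331938) (iv4 D117092) (iv3 F168793) (iv1 F168796) F85071 (iv4 F110928) (iv3 F244972)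
def n200130 : Q := act 3 n112683
theorem D200130 : act 3 n112683 = n200130 := rfl
theorem F415145 : act 2 n200130 = n137096 := d0_1 D200130 (iv3 D137096) (iv2 F100365) (iv3 F331785) (iv2 F175349)
theorem F415146 : act 6 n200130 = n198634 := d7_2 F398668 D200130 F408638
theorem F415147 : act 0 n200130 = n199976 := d20_4 F402534 (iv1 D112682) D112683 D200130 F414437 D199977 F414447 F330034 (iv3 F348052) (iv1 F402532)
theorem F415148 : act 0 n152830 = n115666 := d20_1 (iv4 F414440) (iv4 F392979) (iv3 D194376) (iv1 F392519) (iv3 F402537) F402534 (iv1 D112682) D112683 D200130 F415147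
theorem F415149 : act 5 n199925 = n200130 := d17_1 (iv1 F414179) F415147 (iv5 D199976) D199975 (iv5 F414436) (iv0 F321092) (iv5 F271878) F340653 D174885
theorem F415150 : act 0 n198656 = n200130 := d21_1 (iv5 F408735) (iv5 F415149) (iv6 F414180) (iv1 F349880) (iv6 D109542) F94442 D127697 F205299 D199955 F414325
def n200131 : Q := act 5 n112683
theorem D200131 : act 5 n112683 = n200131 := rfl
theorem F415151 : act 2 n200131 = n196629 := d2_1 D200131 (iv5 D196629) (iv2 F175349)
theorem F415152 : act 3 n200131 = n199925 := d6_1 D200131 F415149 (iv3 D200130)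
theorem F415153 : act 4 n200131 = n125741 := d16_2 D112683 D200131 F202237 F165160 F78265 (iv4 F78251) F331800 F331788 (iv2 F82140)
theorem F415154 : act 0 n200131 = n198086 := d17_2 F332884 D200131 F406733 (iv4 D145398) (iv5 D68167) (iv0 D31733) D31735 D68172 (iv4 F332886)
theorem F415155 : act 1 n200131 = n162711 := d15_1 (iv0 F415154) F356157 (iv2 F406732)
theorem F415156 : act 7 n196644 = n200131 := d11_0 F415153 F202236 D196644
def n200132 : Q := act 7 n112683
theorem D200132 : act 7 n112683 = n200132 := rfl
theorem F415157 : act 2 n200132 = n126179 := d4_1 D200132 (iv7 F331786) (iv2 F175349)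
theorem F415158 : act 4 n200132 = n112684 := d11_1 D200132 (iv7 D112684) D112683
theorem F415159 : act 5 n200132 = n196644 := d13_1 D200132 F415156 (iv5 D200131)
theorem F415160 : act 6 n200132 = n133354 := d14_1 D200132 F214408 (iv6 F395725) F398669 F398668
theorem F415161 : act 1 n196628 = n200132 := d15_1 D196628 (iv7 D200132) F175349
theorem F415162 : act 1 n200132 = n192860 := d15_1 F415161 F388046 (iv2 F401243)
theorem F415163 : act 5 n130549 = n113042 := d21_0 (iv1 D113042) F82492 (iv6 F331499) D143996 (iv6 F401267) F401265 (iv1 F401310) (iv5 F415159) F415160 (iv1 F214411)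
theorem F415164 : act 6 n130549 = n195655 := d21_3 D112889 (iv1 F176109) (iv5 F415163) (iv1 D195655) F331285 (iv5 F331283) (iv1 F205441) D103863 (iv6 F357653) F357650
theorem F415165 : act 2 n133352 = n130549 := d3_3 F415164 F397748 (iv6 F397742)
theorem F415166 : act 2 n113042 = n112890 := d2_3 F351307 F415165 F415163
theorem F415167 : act 7 n130548 = n133352 := d15_2 F214411 F214409 F415165
theorem F415168 : act 7 n133353 = n130549 := d15_2 (iv0 D133352) D133353 (iv2 F415165)
theorem F415169 : act 2 n130548 = n133353 := d4_3 F415168 (iv2 F415165) (iv7 F415167)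
theorem F415170 : act 7 n113042 = n112891 := d13_2 F415168 F415163 (iv5 F364954)
theorem F415171 : act 7 n128580 = n128558 := d11_2 F415170 F365012 (iv4 F365011)
theorem F415172 : act 2 n112891 = n113041 := d15_3 (iv0 D113041) D113042 F415170
theorem F415173 : act 7 n112890 = n113041 := d4_2 (iv7 F415170) F415166 (iv2 F415172)
theorem F415174 : act 7 n128557 = n128581 := d11_2 F415173 F340022 (iv4 F340029)
theorem F415175 : act 2 n128581 = n128558 := d15_3 F206814 F206815 F415174
theorem F415176 : act 2 n128557 = n128580 := d4_1 (iv7 F415174) F415171 (iv2 F415175)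
def n200133 : Q := act 1 n112688
theorem D200133 : act 1 n112688 = n200133 := rfl
theorem F415177 : act 7 n200133 = n170246 := d15_2 F348394 D200133 (iv2 F343933)
theorem F415178 : act 5 n200133 = n113441 := d17_7 (iv1 D126214) (iv5 D59170) (iv1 F163192) (iv5 F327965) F95268 (iv5 F329196) D200133 F397877 F397876
theorem F415179 : act 3 n170252 = n200133 := d20_3 F341676 (iv1 F303670) (iv4 F341701) (iv1 D200133) (iv3 D112688) (iv4 D52013) D52011 (iv4 F165144) D145442 F357897
theorem F415180 : act 4 n137097 = n200133 := d19_2 D64444 D137097 (iv3 F415179) F341706 F341703 (iv4 D121027) F325828 (iv1 F325819) (iv5 D77783) (iv4 F91361) D57977 D124359 (iv5 F388242) F388241 F155585 (iv1 F346637) (iv5 D64484) (iv4 F100364) F100363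
def n200134 : Q := act 2 n112688
theorem D200134 : act 2 n112688 = n200134 := rfl
theorem F415181 : act 3 n200134 = n196643 := d0_2 D112688 D200134 (iv2 D196643) (iv3 D107165) (iv2 F82165)
theorem F415182 : act 4 n200134 = n199910 := d1_2 (iv4 F175369) D200134 F414103
theorem F415183 : act 5 n200134 = n128595 := d2_2 (iv5 F329196) D200134 F206838
theorem F415184 : act 6 n200134 = n112693 := d3_2 (iv6 F175370) D200134 (iv2 D112693)
theorem F415185 : act 0 n200134 = n170246 := d21_4 F342866 F96433 (iv5 F329195) (iv6 F415184) (iv6 F362769) F207286 (iv1 F400025) (iv5 D195096) (iv6 D105262) (iv1 F342897)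
def n200135 : Q := act 7 n112688
theorem D200135 : act 7 n112688 = n200135 := rfl
theorem F415186 : act 3 n200135 = n112690 := d8_1 D200135 (iv7 D112690) D112688
theorem F415187 : act 4 n200135 = n199911 := d11_1 D200135 (iv7 D199911) (iv4 F175369)
theorem F415188 : act 5 n200135 = n128789 := d13_1 D200135 (iv7 D128789) (iv5 F329196)
theorem F415189 : act 0 n170246 = n200135 := d17_0 F415188 (iv1 F348405) (iv5 F395487) F395486 (iv5 F220261) (iv0 F395607) F395609 F395610 (iv4 F332911)
def n200136 : Q := act 4 n112689
theorem D200136 : act 4 n112689 = n200136 := rfl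
theorem F415190 : act 2 n200136 = n196644 := d1_1 D200136 (iv4 D196644) (iv2 F175371)
theorem F415191 : act 3 n200136 = n126180 := d5_1 D200136 F343932 F207288 F95268 (iv3 F364835)
theorem F415192 : act 5 n200136 = n126179 := d9_2 D112689 D200136 F202910 (iv5 F331800) F78251 (iv5 F78265) (iv4 F165160) (iv5 F202237) (iv4 F415153) (iv5 D200131) (iv4 D112683) (iv5 D52006) F39778 D25244 D52013
theorem F415193 : act 6 n200136 = n128780 := d10_2 (iv6 F364836) D200136 (iv4 D128780)
theorem F415194 : act 0 n200136 = n162711 := d18_2 (iv1 F175372) D200136 (iv4 F330151) F202330 F93138 F82160 (iv4 F165565) (iv0 D58873) D58875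
theorem F415195 : act 1 n200136 = n198086 := d18_6 (iv1 F165899) F104342 (iv1 D52012) D52013 D112689 D200136 (iv4 D198086) F402664 F402663
theorem F415196 : act 7 n200136 = n196629 := d15_2 F415155 (iv0 F415194) (iv2 F415151)
def n200137 : Q := act 7 n112689
theorem D200137 : act 7 n112689 = n200137 := rfl
theorem F415197 : act 2 n200137 = n125741 := d4_1 D200137 F202236 (iv2 F175371)
theorem F415198 : act 3 n200137 = n128789 := d8_1 D200137 (iv7 D128789) (iv3 F364835)
theorem F415199 : act 4 n200137 = n196629 := d11_1 D200137 (iv7 F415196) (iv4 D200136)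
theorem F415200 : act 5 n200137 = n112690 := d13_1 D200137 (iv7 D112690) D112689
theorem F415201 : act 1 n125545 = n200137 := d15_1 (iv0 F201944) (iv7 D200137) F175371
theorem F415202 : act 1 n200137 = n125743 := d15_1 F415201 (iv7 D125743) (iv2 F201943)
def n200138 : Q := act 3 n112691
theorem D200138 : act 3 n112691 = n200138 := rfl
theorem F415203 : act 5 n200138 = n113933 := d6_2 (iv5 F329450) D200138 (iv3 D113933)
theorem F415204 : act 4 n200138 = n197825 := d20_6 (iv4 D12074) (iv1 F19803) D25247 D52015 D112691 D200138 (iv1 D197825) F168629 (iv3 D52272) (iv1 D25392)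
theorem F415205 : act 0 n199535 = n200138 := d20_10 F415204 (iv1 D197825) F168629 (iv3 D52272) (iv1 D25392) D25393 F40166 D51374 D111392 D199535
def n200139 : Q := act 3 n112692
theorem D200139 : act 3 n112692 = n200139 := rfl
theorem F415206 : act 5 n200139 = n113938 := d6_2 (iv5 F362276) D200139 (iv3 D113938)
def n200140 : Q := act 6 n112692
theorem D200140 : act 6 n112692 = n200140 := rfl
theorem F415207 : act 5 n200140 = n144779 := d12_1 D200140 (iv6 F332870) (iv5 F342920) (iv6 D113941) (iv5 F362276)
theorem F415208 : act 0 n200140 = n113281 := d21_4 D105257 (iv1 F161208) (iv5 F362276) D200140 (iv6 F202080) F364796 F349624 (iv5 F395717) (iv6 D195088) F342896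
theorem F415209 : act 0 n180350 = n200140 := d21_4 (iv5 D60632) D60628 D128912 (iv6 F362190) (iv6 D200140) F362276 (iv1 D52599) (iv5 F76554) D105262 F362943
theorem F415210 : act 3 n200140 = n180344 := d20_5 (iv4 D164137) (iv1 F258235) (iv4 F258237) D180350 F415209 (iv4 F280653) F373728 (iv4 F358973) F358972 (iv1 F258685)
theorem F415211 : act 6 n180344 = n200139 := d7_2 D200140 F415210 (iv3 D200139)
theorem F415212 : act 0 n200139 = n198927 := d21_4 (iv5 F378167) (iv1 F380501) F380503 F415211 F409938 F341703 (iv1 F299678) F330164 (iv6 F341945) (iv1 F260957)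
theorem F415213 : act 1 n200139 = n113652 := d15_1 (iv0 F415212) (iv7 F395826) (iv2 F409936)
def n200141 : Q := act 0 n112697
theorem D200141 : act 0 n112697 = n200141 := rfl
theorem F415214 : act 6 n200141 = n195216 := d21_5 (iv5 D76391) (iv1 F55235) D52017 D112697 D200141 (iv5 D195216) (iv1 D105426) (iv5 F161513) (iv6 D105322) (iv1 F114516)
theorem F415215 : act 2 n195233 = n200141 := d3_3 F415214 F396309 D195233
theorem F415216 : act 0 n200141 = n197080 := d21_4 F161526 (iv1 F161817) D195216 (iv6 F415214) (iv6 D197080) (iv5 F329170) (iv1 F114511) (iv5 F332647) (iv6 F395929) (iv1 F395931)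
def n200142 : Q := act 1 n112697
theorem D200142 : act 1 n112697 = n200142 := rfl
theorem F415217 : act 1 n200142 = n197080 := d15_1 D200142 F402962 F251547
theorem F415218 : act 7 n200142 = n195233 := d15_2 (iv0 D200141) D200142 F415215
def n200143 : Q := act 7 n112697
theorem D200143 : act 7 n112697 = n200143 := rfl
theorem F415219 : act 2 n200143 = n197080 := d4_1 D200143 F402962 F251547
theorem F415220 : act 3 n200143 = n112701 := d8_1 D200143 (iv7 D112701) (iv3 F175386)
theorem F415221 : act 6 n200143 = n144869 := d14_1 D200143 (iv7 D144869) (iv6 D67904) (iv7 F82180) D112697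
theorem F415222 : act 0 n195233 = n200143 := d21_4 (iv5 F355708) (iv1 F161821) D105447 D195233 F415221 F227812 (iv1 F336797) (iv5 F327306) F336802 (iv1 F355710)
def n200144 : Q := act 5 n112699
theorem D200144 : act 5 n112699 = n200144 := rfl
theorem F415223 : act 2 n200144 = n144780 := d2_1 D200144 (iv5 D144780) (iv2 F175389)
theorem F415224 : act 3 n200144 = n125376 := d6_1 D200144 (iv5 F383935) F383931
theorem F415225 : act 6 n200144 = n113242 := d12_2 D112699 D200144 (iv5 D113242) (iv6 D52271) (iv5 F82184)
theorem F415226 : act 7 n200144 = n157792 := d16_8 F202299 D198742 F409039 (iv5 D133376) F97612 F82382 (iv4 F175390) D200144 F358383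
theorem F415227 : act 4 n160642 = n200144 := d16_0 (iv5 D200144) F175390 (iv5 F82382) (iv4 F97612) D133376 (iv4 F409039) (iv5 D198742) F358148 (iv2 F262327)
def n200145 : Q := act 7 n112699
theorem D200145 : act 7 n112699 = n200145 := rfl
theorem F415228 : act 2 n200145 = n125792 := d4_1 D200145 F364799 (iv2 F175389)
theorem F415229 : act 3 n200145 = n128720 := d8_1 D200145 (iv7 F383933) F383931
theorem F415230 : act 4 n200145 = n112701 := d11_1 D200145 (iv7 D112701) (iv4 F175390)
theorem F415231 : act 5 n200145 = n157792 := d13_1 D200145 (iv7 F415226) (iv5 D200144)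
theorem F415232 : act 6 n200145 = n128587 := d14_1 D200145 F206822 F328853 (iv7 F82185) D112699
theorem F415233 : act 1 n144779 = n200145 := d15_1 D144779 (iv7 D200145) F175389
theorem F415234 : act 1 n200145 = n144778 := d15_1 F415233 (iv7 F402723) F402721
def n200146 : Q := act 3 n112700
theorem D200146 : act 3 n112700 = n200146 := rfl
theorem F415235 : act 7 n200146 = n144782 := d8_2 (iv7 F175392) D200146 (iv3 D144782)
def n200147 : Q := act 4 n112700
theorem D200147 : act 4 n112700 = n200147 := rfl
theorem F415236 : act 2 n200147 = n144786 := d1_1 D200147 (iv4 D144786) F175393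
theorem F415237 : act 6 n200147 = n128905 := d10_2 F179057 D200147 (iv4 F347543)
theorem F415238 : act 7 n200147 = n144783 := d11_2 (iv7 F175392) D200147 (iv4 D144783)
theorem F415239 : act 0 n200147 = n113248 := d17_0 (iv5 F364823) (iv1 D169911) D169913 (iv4 F364701) (iv5 F364696) (iv0 F157670) F82382 D112700 D200147
theorem F415240 : act 1 n200147 = n197022 := d18_8 (iv1 F377834) F377832 (iv1 F262334) F415227 (iv5 D200144) F175390 D112700 D200147 F402718
theorem F415241 : act 5 n189805 = n200147 := d21_6 (iv5 F362940) (iv1 D169898) D169900 (iv6 F360822) (iv1 F407955) F407952 F415239 (iv5 F364823) (iv6 F364824) F362283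
def n200148 : Q := act 6 n112702
theorem D200148 : act 6 n112702 = n200148 := rfl
theorem F415242 : act 2 n200148 = n127069 := d3_1 D200148 (iv6 D127069) F175400
theorem F415243 : act 3 n200148 = n131930 := d7_1 D200148 F211411 (iv3 F175398)
theorem F415244 : act 4 n200148 = n115713 := d10_1 D200148 (iv6 D115713) (iv4 F175399)
theorem F415245 : act 5 n200148 = n131929 := d21_6 (iv5 D13475) F19816 D25250 D52020 D112702 D200148 (iv1 F211409) F167619 (iv6 D59436) (iv1 D28223)
theorem F415246 : act 0 n200148 = n126820 := d21_10 (iv5 F399108) (iv1 F399112) F326746 (iv6 F166219) (iv1 F167016) (iv6 F226982) (iv5 D144286) D144284 F226974 D200148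
theorem F415247 : act 0 n199148 = n200148 := d21_4 (iv5 F92812) D125466 (iv5 F201765) D199148 (iv6 D200148) (iv5 F226974) F402958 F402955 (iv6 D126689) (iv1 D59440)
theorem F415248 : act 0 n115713 = n185172 := d18_2 F415247 F415244 F359547 F165208 (iv4 F326336) F326335 (iv4 F163794) F211948 (iv5 F410888)
theorem F415249 : act 1 n115713 = n156163 := d15_1 (iv0 F415248) F245429 (iv2 F359540)
def n200149 : Q := act 5 n112704
theorem D200149 : act 5 n112704 = n200149 := rfl
theorem F415250 : act 2 n200149 = n112705 := d2_1 D200149 (iv5 D112705) D112704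
theorem F415251 : act 3 n200149 = n198829 := d6_1 D200149 (iv5 D198829) (iv3 F175408)
theorem F415252 : act 6 n200149 = n175698 := d12_2 (iv6 F334614) D200149 (iv5 F304813) F304814 (iv5 F311757)
theorem F415253 : act 7 n200149 = n177674 := d13_2 (iv7 F175410) D200149 F346469
theorem F415254 : act 0 n200149 = n177675 := d21_1 D200149 F277110 (iv6 D84872) F328596 (iv6 F334701) F127840 (iv1 F298138) (iv5 F300624) (iv6 F334616) (iv1 F175411)
theorem F415255 : act 0 n177656 = n200149 := d21_10 (iv5 D200149) (iv1 F175412) (iv5 F346482) (iv6 D127158) F204075 (iv6 F344778) F277086 F334654 D84606 D177656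
def n200150 : Q := act 0 n112705
theorem D200150 : act 0 n112705 = n200150 := rfl
theorem F415256 : act 5 n200150 = n112727 := d21_2 D112705 D200150 F324549 (iv1 F130067) (iv6 F334700) F300635 (iv1 F115865) (iv5 F316542) (iv6 F325226) F173252
theorem F415257 : act 6 n200150 = n176087 := d21_5 (iv5 D80218) D80216 (iv5 F304825) (iv6 F345513) D200150 (iv5 D176087) (iv1 F272046) F272043 (iv6 D101682) F304828
theorem F415258 : act 2 n177675 = n200150 := d15_3 (iv0 D200150) F360712 D177675
theorem F415259 : act 1 n177674 = n200150 := d15_0 (iv0 D200150) F175414 F346470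
theorem F415260 : act 7 n200150 = n177656 := d15_2 D177674 F415259 F277102
def n200151 : Q := act 4 n112705
theorem D200151 : act 4 n112705 = n200151 := rfl
theorem F415261 : act 3 n200151 = n199324 := d5_1 D200151 F411708 (iv3 D115358) (iv4 F84062) (iv3 F175413)
theorem F415262 : act 6 n200151 = n193422 := d10_2 (iv6 F345513) D200151 (iv4 D193422)
theorem F415263 : act 7 n200151 = n193648 := d11_2 (iv7 F175414) D200151 F390556
theorem F415264 : act 5 n200151 = n137387 := d17_5 F349928 F345512 F173252 D112705 D200151 (iv0 F356506) (iv5 D101992) (iv0 F329376) D137378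
theorem F415265 : act 0 n200151 = n117585 := d17_0 (iv5 D117585) (iv1 F349956) (iv5 F349949) F349936 F344937 (iv0 F324547) (iv5 F415256) (iv0 D200150) D200151
theorem F415266 : act 0 n192121 = n200151 := d21_10 F415264 (iv1 D137387) (iv5 D64578) (iv6 D30392) D30388 D64564 D137351 F354483 (iv5 F153530) D192121
def n200152 : Q := act 7 n112707
theorem D200152 : act 7 n112707 = n200152 := rfl
theorem F415267 : act 2 n200152 = n197094 := d4_1 D200152 F403018 (iv2 F175418)
theorem F415268 : act 3 n200152 = n175699 := d8_1 D200152 F275107 F362016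
theorem F415269 : act 5 n200152 = n197509 := d13_1 D200152 F404630 (iv5 F362017)
theorem F415270 : act 6 n200152 = n197073 := d14_1 D200152 (iv7 D197073) (iv6 D107595) (iv7 F82195) D112707
theorem F415271 : act 1 n115704 = n200152 := d15_1 (iv0 F357032) (iv7 D200152) F175418
theorem F415272 : act 1 n200152 = n115699 := d15_1 F415271 (iv7 F350930) (iv2 F357033)
def n200153 : Q := act 4 n112712
theorem D200153 : act 4 n112712 = n200153 := rfl
theorem F415273 : act 3 n200153 = n196521 := d5_1 D200153 (iv4 D196521) F164996 (iv4 F82202) (iv3 F175428)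
theorem F415274 : act 7 n200153 = n198838 := d11_2 (iv7 F175429) D200153 (iv4 D198838)
def n200154 : Q := act 6 n112712
theorem D200154 : act 6 n112712 = n200154 := rfl
theorem F415275 : act 3 n200154 = n112714 := d7_1 D200154 (iv6 D112714) (iv3 F175428)
theorem F415276 : act 5 n200154 = n198717 := d12_1 D200154 F408984 (iv5 D166457) F326496 D112712
theorem F415277 : act 7 n200154 = n198716 := d14_2 (iv7 F175429) D200154 F408976 F325663 (iv6 F325677)
def n200155 : Q := act 0 n112714
theorem D200155 : act 0 n112714 = n200155 := rfl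
theorem F415278 : act 6 n200155 = n136753 := d21_5 (iv5 D50909) (iv1 F39816) D52025 D112714 D200155 (iv5 F350864) (iv1 F350856) (iv5 F324974) (iv6 D59017) (iv1 F80319)
theorem F415279 : act 2 n112766 = n200155 := d15_3 (iv0 D200155) F350640 (iv7 F359755)
theorem F415280 : act 3 n200155 = n136756 := d0_2 F359756 F415279 (iv2 F347136) (iv3 F256824) (iv2 F366949)
theorem F415281 : act 7 n200155 = n112767 := d4_2 (iv7 F359755) F415279 F360257
theorem F415282 : act 1 n112769 = n200155 := d15_1 (iv0 F350639) F415281 F360257
def n200156 : Q := act 5 n112714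
theorem D200156 : act 5 n112714 = n200156 := rfl
theorem F415283 : act 2 n200156 = n112768 := d2_1 D200156 (iv5 D112768) (iv2 F175432)
theorem F415284 : act 3 n200156 = n198717 := d6_1 D200156 (iv5 F415276) F415275
theorem F415285 : act 6 n200156 = n112715 := d12_2 D112714 D200156 (iv5 D112715) (iv6 D52026) D52025
theorem F415286 : act 0 n178621 = n200156 := d21_1 (iv5 F347856) (iv5 D200156) (iv6 D112714) F82204 D110428 (iv5 F175186) F339811 F87855 D85558 D179317
theorem F415287 : act 7 n198714 = n200156 := d14_0 F415285 (iv7 F332149) (iv6 F324025) F174330 D198714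
def n200157 : Q := act 7 n112714
theorem D200157 : act 7 n112714 = n200157 := rfl
theorem F415288 : act 2 n200157 = n112769 := d4_1 D200157 (iv7 D112769) (iv2 F175432)
theorem F415289 : act 3 n200157 = n198716 := d8_1 D200157 (iv7 F415277) F415275
theorem F415290 : act 4 n200157 = n196532 := d11_1 D200157 (iv7 D196532) (iv4 F175433)
theorem F415291 : act 5 n200157 = n198714 := d13_1 D200157 F415287 (iv5 D200156)
theorem F415292 : act 6 n200157 = n198841 := d14_1 D200157 (iv7 D198841) (iv6 D110357) (iv7 F82203) D112714
theorem F415293 : act 1 n112767 = n200157 := d15_1 D112767 (iv7 D200157) F175432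
theorem F415294 : act 1 n200157 = n112766 := d15_1 F415293 F359755 (iv2 F360257)
theorem F415295 : act 4 n112767 = n115677 := d20_0 (iv1 D115677) (iv4 F168812) F362473 F203928 (iv3 F203931) F203932 D140469 (iv4 F408977) (iv3 F415289) (iv1 F415293)
theorem F415296 : act 0 n144346 = n123713 := d20_4 F93858 D64246 (iv4 F176376) D144346 (iv3 F360258) F415295 (iv1 D115677) (iv4 F168812) F362473 F203928
theorem F415297 : act 1 n144346 = n128219 := d15_1 (iv0 F415296) (iv7 D128219) (iv2 F198197)
def n200158 : Q := act 4 n112715
theorem D200158 : act 4 n112715 = n200158 := rfl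
theorem F415298 : act 2 n200158 = n112774 := d1_1 D200158 (iv4 D112774) (iv2 F175434)
def n200159 : Q := act 3 n112718
theorem D200159 : act 3 n112718 = n200159 := rfl
theorem F415299 : act 4 n200159 = n147139 := d5_2 (iv4 F224605) D200159 F230701 F105195 (iv3 F224602)
theorem F415300 : act 7 n200159 = n198843 := d8_2 F224606 D200159 (iv3 D198843)
theorem F415301 : act 0 n200159 = n198904 := d20_4 (iv4 F325302) (iv1 F224604) (iv4 F224605) D200159 F409821 F395530 F395532 F384094 (iv3 F360146) F338779
theorem F415302 : act 1 n200159 = n198905 := d15_1 (iv0 F415301) F409825 (iv2 F409820)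
def n200160 : Q := act 6 n112718
theorem D200160 : act 6 n112718 = n200160 := rfl
theorem F415303 : act 2 n200160 = n178245 := d3_1 D200160 F353481 (iv2 F224607)
theorem F415304 : act 4 n200160 = n166411 := d10_1 D200160 (iv6 F364238) (iv4 F224605)
theorem F415305 : act 7 n200160 = n178333 := d14_2 F224606 D200160 F353484 (iv7 F258617) F353241
theorem F415306 : act 0 n200160 = n112776 := d21_4 D198829 F409451 (iv5 F402901) D200160 (iv6 F358672) (iv5 F388779) (iv1 F388781) (iv5 F384787) (iv6 F353245) (iv1 F170596)
theorem F415307 : act 0 n147654 = n200160 := d21_4 (iv5 D32185) D32182 D69199 D147654 (iv6 D200160) F402901 (iv1 D197068) (iv5 D107587) (iv6 F78876) F78877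
def n200161 : Q := act 5 n112719
theorem D200161 : act 5 n112719 = n200161 := rfl
theorem F415308 : act 2 n200161 = n112720 := d2_1 D200161 (iv5 D112720) D112719
theorem F415309 : act 3 n200161 = n176168 := d6_1 D200161 F344937 (iv3 F324599)
theorem F415310 : act 4 n200161 = n139802 := d9_1 D200161 (iv5 D139802) (iv4 D65626) F94441 D59954 (iv5 F94442) (iv4 F80297) D110372 (iv4 F223002) (iv5 D139807) (iv4 D65630) F101363 D59958 (iv5 F173628) (iv4 F175442)
theorem F415311 : act 6 n200161 = n175104 := d12_2 F362443 D200161 (iv5 F364914) (iv6 D172372) D172371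
theorem F415312 : act 7 n200161 = n195502 := d13_2 (iv7 F175443) D200161 F397165
theorem F415313 : act 0 n200161 = n195500 := d17_2 (iv1 F175444) D200161 F397157 (iv4 F165983) (iv5 D59922) D59920 (iv5 F182588) (iv0 F379398) F379394
theorem F415314 : act 1 n200161 = n141356 := d17_6 D112105 (iv5 F205299) (iv1 F205298) (iv5 F173628) (iv4 F175442) D200161 F224406 (iv0 D107584) (iv4 F81630)
def n200162 : Q := act 6 n112720
theorem D200162 : act 6 n112720 = n200162 := rfl
theorem F415315 : act 2 n200162 = n175104 := d3_1 D200162 (iv6 F415311) F415308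
theorem F415316 : act 3 n200162 = n112722 := d7_1 D200162 (iv6 D112722) (iv3 F175447)
theorem F415317 : act 4 n200162 = n196722 := d10_1 D200162 F401602 F227275
theorem F415318 : act 7 n200162 = n175103 := d14_2 (iv7 F175448) D200162 F358429 (iv7 F219980) (iv6 F349878)
theorem F415319 : act 0 n200162 = n152602 := d21_4 (iv5 F402901) (iv1 D112718) D112720 D200162 F239796 (iv5 D71984) D71982 D152605 (iv6 F409453) F409451
theorem F415320 : act 1 n200162 = n175106 := d15_1 (iv0 F415319) (iv7 D175106) (iv2 F239795)
theorem F415321 : act 0 n115325 = n178481 := d20_7 D178513 F278187 F274105 (iv3 F274073) (iv1 F415320) F415316 (iv4 F179617) (iv4 D178481) F130187 D84953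
def n200163 : Q := act 0 n112722
theorem D200163 : act 0 n112722 = n200163 := rfl
theorem F415322 : act 4 n200163 = n139645 := d20_0 (iv1 F350656) (iv4 D174556) (iv3 D83419) (iv1 F127813) (iv3 F271674) (iv4 F344890) D196722 (iv4 F415317) F415316 D200163
theorem F415323 : act 5 n200163 = n172006 := d21_2 (iv5 F351642) D200163 (iv6 D172006) F126890 (iv6 F311856) D120128 (iv1 F210721) (iv5 D131455) D131456 F337065
theorem F415324 : act 6 n200163 = n119490 := d21_5 F165992 F79611 D52029 D112722 D200163 (iv5 F286771) F333425 (iv5 F362017) (iv6 D112707) (iv1 F165990)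
theorem F415325 : act 3 n129680 = n200163 := d7_3 F415324 (iv3 F332520) (iv6 F207859)
theorem F415326 : act 7 n198859 = n200163 := d14_0 F415324 (iv7 F404634) F404633 F403251 (iv6 F409610)
theorem F415327 : act 2 n200163 = n198858 := d15_3 (iv0 D198858) D198859 F415326
def n200164 : Q := act 1 n112722
theorem D200164 : act 1 n112722 = n200164 := rfl
theorem F415328 : act 1 n200164 = n198861 := d15_1 D200164 (iv7 D198861) (iv2 F175452)
theorem F415329 : act 7 n200164 = n198858 := d15_2 (iv0 D200163) D200164 (iv2 F415327)
theorem F415330 : act 3 n189191 = n200164 := d20_3 F144144 D93444 D189191 (iv1 D200164) (iv3 F415316) F415317 (iv1 F401600) F397144 F243910 (iv1 F358737)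
theorem F415331 : act 2 n200164 = n198859 := d0_1 F415330 (iv3 F409609) (iv2 F207867) F354056 (iv2 F376016)
theorem F415332 : act 4 n200164 = n139646 := d20_6 D128242 (iv1 F364593) (iv4 F392851) F392850 F376020 F415330 (iv1 D139646) (iv4 F170771) F344627 (iv1 F206362)
theorem F415333 : act 1 n198861 = n200163 := d15_1 F415328 (iv7 F415326) (iv2 F415331)
def n200165 : Q := act 7 n112722
theorem D200165 : act 7 n112722 = n200165 := rfl
theorem F415334 : act 2 n200165 = n198861 := d4_1 D200165 (iv7 D198861) (iv2 F175452)
theorem F415335 : act 3 n200165 = n175103 := d8_1 D200165 (iv7 F415318) F415316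
theorem F415336 : act 5 n200165 = n133322 := d13_1 D200165 F214305 (iv5 F351642)
theorem F415337 : act 6 n200165 = n198846 := d14_1 D200165 (iv7 D198846) (iv6 D110374) (iv7 F82217) D112722
theorem F415338 : act 1 n198859 = n200165 := d15_1 D198859 (iv7 D200165) F175452
theorem F415339 : act 1 n200165 = n198858 := d15_1 F415338 (iv7 F415329) F415331
def n200166 : Q := act 5 n112725
theorem D200166 : act 5 n112725 = n200166 := rfl
theorem F415340 : act 2 n200166 = n134842 := d2_1 D200166 F217016 F175470
theorem F415341 : act 3 n200166 = n197110 := d6_1 D200166 F403090 F223533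
theorem F415342 : act 6 n200166 = n134750 := d12_2 F407666 D200166 (iv5 F407672) (iv6 D198340) D198339
theorem F415343 : act 7 n200166 = n141955 := d13_2 (iv7 F175472) D200166 F225000
theorem F415344 : act 4 n200166 = n140650 := d16_6 D140653 F401620 F401619 F331101 (iv4 F175460) D200166 (iv5 D140650) F223747 F223748
theorem F415345 : act 0 n200166 = n198231 := d17_2 D112725 D200166 (iv5 D198231) F169057 D197748 (iv0 F412402) (iv5 D199497) F172840 (iv4 F82225)
theorem F415346 : act 1 n200166 = n125985 := d17_6 (iv1 F168585) D108966 (iv1 F331100) F331101 (iv4 F175460) D200166 (iv5 D125985) (iv0 F167070) (iv4 F168583)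
def n200167 : Q := act 4 n112727
theorem D200167 : act 4 n112727 = n200167 := rfl
theorem F415347 : act 2 n200167 = n140703 := d1_1 D200167 F324531 (iv2 F324548)
theorem F415348 : act 6 n200167 = n178142 := d10_2 (iv6 F324549) D200167 F277702
theorem F415349 : act 7 n200167 = n180408 := d11_2 (iv7 F324550) D200167 F280783
theorem F415350 : act 5 n200167 = n114278 := d16_1 D200167 (iv4 D114278) (iv5 D52743) (iv4 F83339) D114268 F339097 F129778 (iv7 F130078) (iv2 F324548)
theorem F415351 : act 0 n200167 = n180414 := d17_0 (iv5 F386929) F409282 (iv5 D198795) F170501 (iv5 F346482) F349933 F344937 (iv0 F324547) D200167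
theorem F415352 : act 0 n180413 = n200167 := d21_10 F415350 F413371 (iv5 D199758) F409271 (iv1 D109110) D109114 F351546 (iv1 D177284) D177286 (iv6 F351542)
def n200168 : Q := act 5 n112731
theorem D200168 : act 5 n112731 = n200168 := rfl
theorem F415353 : act 2 n200168 = n124495 := d2_1 D200168 F346531 (iv2 F360738)
theorem F415354 : act 3 n200168 = n112735 := d6_1 D200168 (iv5 D112735) (iv3 F175486)
theorem F415355 : act 6 n200168 = n155617 := d12_2 D112731 D200168 (iv5 F349919) (iv6 F346463) (iv5 D112730)
theorem F415356 : act 7 n200168 = n124494 := d13_2 (iv7 F360737) D200168 F360733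
theorem F415357 : act 0 n200168 = n124493 := d17_2 (iv1 F349924) D200168 (iv5 D124493) (iv4 F199040) (iv5 F351540) (iv0 D177283) D177286 (iv0 F351539) F250664
theorem F415358 : act 0 n124498 = n200168 := d21_1 (iv5 F199129) (iv5 D200168) (iv6 D112731) D112727 F324549 (iv5 F334705) F334702 (iv5 F336002) (iv6 F362195) F362193
def n200169 : Q := act 1 n112732
theorem D200169 : act 1 n112732 = n200169 := rfl
theorem F415359 : act 1 n200169 = n198846 := d15_1 D200169 (iv7 D198846) (iv2 F175488)
theorem F415360 : act 7 n200169 = n156198 := d15_2 F393003 D200169 (iv2 F359966)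

end Cfsg.Agent.Helper17.ONTC
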