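import Cfsg.Agent.Helper17.ONTC.Facts4

set_option autoImplicit false
set_option linter.all false

noncomputable section

namespace Cfsg.Agent.Helper17.ONTC

def n18396 : Q := act 4 n8661
theorem D18396 : act 4 n8661 = n18396 := rfl
def n18397 : Q := act 5 n8661
theorem D18397 : act 5 n8661 = n18397 := rfl
def n18398 : Q := act 6 n8661
theorem D18398 : act 6 n8661 = n18398 := rfl
def n18399 : Q := act 0 n8662
theorem D18399 : act 0 n8662 = n18399 := rfl
def n18400 : Q := act 1 n8662
theorem D18400 : act 1 n8662 = n18400 := rfl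
def n18401 : Q := act 4 n8662
theorem D18401 : act 4 n8662 = n18401 := rfl
def n18402 : Q := act 7 n8662
theorem D18402 : act 7 n8662 = n18402 := rfl
theorem F29567 : act 5 n18402 = n8663 := d13_1 D18402 (iv7 D8663) D8662
def n18403 : Q := act 6 n8663
theorem D18403 : act 6 n8663 = n18403 := rfl
theorem F29568 : act 4 n18403 = n8675 := d10_1 D18403 (iv6 D8675) (iv4 F13576)
theorem F29569 : act 7 n18403 = n8664 := d14_2 D8663 D18403 (iv6 D8664) (iv7 D3885) D3884
def n18404 : Q := act 0 n8664
theorem D18404 : act 0 n8664 = n18404 := rfl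
def n18405 : Q := act 1 n8664
theorem D18405 : act 1 n8664 = n18405 := rfl
def n18406 : Q := act 5 n8664
theorem D18406 : act 5 n8664 = n18406 := rfl
def n18408 : Q := act 1 n8665
theorem D18408 : act 1 n8665 = n18408 := rfl
theorem F29571 : act 1 n18408 = n8670 := d15_1 D18408 (iv7 D8670) D8665
def n18409 : Q := act 3 n8665
theorem D18409 : act 3 n8665 = n18409 := rfl
theorem F29572 : act 7 n18409 = n8671 := d8_2 F13578 D18409 (iv3 D8671)
def n18410 : Q := act 4 n8665
theorem D18410 : act 4 n8665 = n18410 := rfl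
theorem F29573 : act 2 n18410 = n8667 := d1_1 D18410 (iv4 D8667) D8665
theorem F29574 : act 7 n18410 = n8672 := d11_2 F13578 D18410 (iv4 D8672)
def n18411 : Q := act 5 n8665
theorem D18411 : act 5 n8665 = n18411 := rfl
theorem F29575 : act 2 n18411 = n8668 := d2_1 D18411 (iv5 D8668) D8665
theorem F29576 : act 7 n18411 = n8673 := d13_2 F13578 D18411 (iv5 D8673)
def n18412 : Q := act 6 n8665
theorem D18412 : act 6 n8665 = n18412 := rfl
theorem F29577 : act 2 n18412 = n8669 := d3_1 D18412 (iv6 D8669) D8665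
theorem F29578 : act 5 n18266 = n18412 := d2_0 F29577 F13579 (iv2 F29462)
theorem F29579 : act 7 n18412 = n18265 := d13_2 D18266 F29578 (iv5 D18265)
def n18413 : Q := act 0 n8666
theorem D18413 : act 0 n8666 = n18413 := rfl
def n18414 : Q := act 1 n8666
theorem D18414 : act 1 n8666 = n18414 := rfl
def n18415 : Q := act 2 n8666
theorem D18415 : act 2 n8666 = n18415 := rfl
def n18416 : Q := act 4 n8666
theorem D18416 : act 4 n8666 = n18416 := rfl
def n18417 : Q := act 5 n8666
theorem D18417 : act 5 n8666 = n18417 := rfl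
theorem F29580 : act 3 n18417 = n8668 := d6_1 D18417 (iv5 D8668) D8666
def n18418 : Q := act 6 n8666
theorem D18418 : act 6 n8666 = n18418 := rfl
theorem F29581 : act 3 n18418 = n8669 := d7_1 D18418 (iv6 D8669) D8666
theorem F29582 : act 5 n18267 = n18418 := d6_0 F29581 F13579 D18267
def n18419 : Q := act 7 n8666
theorem D18419 : act 7 n8666 = n18419 := rfl
theorem F29583 : act 3 n18419 = n8670 := d8_1 D18419 (iv7 D8670) D8666
def n18420 : Q := act 0 n8667
theorem D18420 : act 0 n8667 = n18420 := rfl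
def n18421 : Q := act 1 n8667
theorem D18421 : act 1 n8667 = n18421 := rfl
theorem F29584 : act 1 n18421 = n8672 := d15_1 D18421 (iv7 F29574) F29573
def n18422 : Q := act 3 n8667
theorem D18422 : act 3 n8667 = n18422 := rfl
def n18423 : Q := act 5 n8667
theorem D18423 : act 5 n8667 = n18423 := rfl
def n18424 : Q := act 6 n8667
theorem D18424 : act 6 n8667 = n18424 := rfl
theorem F29585 : act 4 n18424 = n8669 := d10_1 D18424 (iv6 D8669) D8667
def n18425 : Q := act 7 n8667
theorem D18425 : act 7 n8667 = n18425 := rfl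
theorem F29586 : act 2 n18425 = n8672 := d4_1 D18425 (iv7 F29574) F29573
theorem F29587 : act 4 n18425 = n8670 := d11_1 D18425 (iv7 D8670) D8667
theorem F29588 : act 1 n8672 = n18420 := d15_0 (iv0 D18420) D18425 F29586
def n18426 : Q := act 0 n8668
theorem D18426 : act 0 n8668 = n18426 := rfl
theorem F29589 : act 5 n18426 = n18219 := d21_2 D8668 D18426 (iv6 D18219) (iv1 D8590) (iv6 D3852) (iv5 D1676) (iv1 D890) D892 D1684 D3886
def n18427 : Q := act 1 n8668
theorem D18427 : act 1 n8668 = n18427 := rfl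
theorem F29590 : act 1 n18427 = n8673 := d15_1 D18427 (iv7 F29576) F29575
def n18428 : Q := act 4 n8668
theorem D18428 : act 4 n8668 = n18428 := rfl
def n18429 : Q := act 6 n8668
theorem D18429 : act 6 n8668 = n18429 := rfl
theorem F29591 : act 5 n18429 = n18269 := d12_1 D18429 (iv6 D18269) (iv5 F13579) (iv6 D8669) D8668
theorem F29592 : act 0 n18429 = n18299 := d21_10 F29501 (iv1 D16754) F12374 (iv6 D7825) (iv1 D3552) D3554 F5575 D3886 D8668 D18429
def n18430 : Q := act 7 n8668
theorem D18430 : act 7 n8668 = n18430 := rfl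
theorem F29593 : act 2 n18430 = n8673 := d4_1 D18430 (iv7 F29576) F29575
theorem F29594 : act 5 n18430 = n8670 := d13_1 D18430 (iv7 D8670) D8668
theorem F29595 : act 1 n8673 = n18426 := d15_0 (iv0 D18426) D18430 F29593
theorem F29596 : act 6 n18262 = n18430 := d3_0 F29593 (iv6 F13581) D18262
theorem F29597 : act 7 n18429 = n18269 := d14_4 F29461 F29596 (iv7 D18430) D18429 (iv6 D18269)
def n18431 : Q := act 0 n8669
theorem D18431 : act 0 n8669 = n18431 := rfl
def n18432 : Q := act 1 n8669
theorem D18432 : act 1 n8669 = n18432 := rfl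
theorem F29598 : act 1 n18432 = n18265 := d15_1 D18432 (iv7 F29579) F29577
def n18433 : Q := act 7 n8669
theorem D18433 : act 7 n8669 = n18433 := rfl
theorem F29599 : act 2 n18433 = n18265 := d4_1 D18433 (iv7 F29579) F29577
theorem F29601 : act 1 n18265 = n18431 := d15_0 (iv0 D18431) D18433 F29599
def n18434 : Q := act 6 n8670
theorem D18434 : act 6 n8670 = n18434 := rfl
theorem F29602 : act 2 n18434 = n8674 := d3_1 D18434 (iv6 D8674) (iv2 F13580)
def n18435 : Q := act 0 n8671
theorem D18435 : act 0 n8671 = n18435 := rfl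
def n18436 : Q := act 1 n8671
theorem D18436 : act 1 n8671 = n18436 := rfl
def n18437 : Q := act 2 n8671
theorem D18437 : act 2 n8671 = n18437 := rfl
def n18438 : Q := act 4 n8671
theorem D18438 : act 4 n8671 = n18438 := rfl
def n18439 : Q := act 5 n8671
theorem D18439 : act 5 n8671 = n18439 := rfl
theorem F29603 : act 3 n18439 = n8673 := d6_1 D18439 (iv5 D8673) D8671
theorem F29604 : act 6 n18263 = n18439 := d7_0 F29603 (iv6 F13581) D18263
def n18440 : Q := act 6 n8671
theorem D18440 : act 6 n8671 = n18440 := rfl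
theorem F29605 : act 3 n18440 = n8674 := d7_1 D18440 (iv6 D8674) D8671
def n18441 : Q := act 3 n8672
theorem D18441 : act 3 n8672 = n18441 := rfl
def n18442 : Q := act 5 n8672
theorem D18442 : act 5 n8672 = n18442 := rfl
def n18443 : Q := act 6 n8672
theorem D18443 : act 6 n8672 = n18443 := rfl
theorem F29606 : act 4 n18443 = n8674 := d10_1 D18443 (iv6 D8674) D8672
def n18444 : Q := act 4 n8673
theorem D18444 : act 4 n8673 = n18444 := rfl
theorem F29607 : act 6 n18444 = n18264 := d10_2 F13581 D18444 (iv4 D18264)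
def n18445 : Q := act 0 n8674
theorem D18445 : act 0 n8674 = n18445 := rfl
theorem F29608 : act 5 n18445 = n16753 := d21_0 (iv1 F27513) F13408 (iv6 F27489) (iv1 F27491) D18219 (iv5 F29589) (iv1 F29595) (iv5 D8673) D8674 D18445
theorem F29609 : act 0 n18445 = n18429 := d21_1 (iv5 F29608) F29591 (iv6 D18269) (iv1 D8615) (iv6 D3869) (iv5 D1680) F6429 F7170 D7825 D16753
def n18446 : Q := act 1 n8674
theorem D18446 : act 1 n8674 = n18446 := rfl
def n18447 : Q := act 5 n8674
theorem D18447 : act 5 n8674 = n18447 := rfl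
theorem F29610 : act 6 n18447 = n18265 := d12_2 D8674 D18447 (iv5 D18265) F13581 (iv5 D8673)
theorem F29611 : act 0 n18171 = n18447 := d21_1 D18171 (iv5 D18447) (iv6 D8674) (iv1 D3887) (iv6 D1684) (iv5 D892) D889 D1671 D3837 D8567
theorem F29612 : act 7 n8674 = n18447 := d14_0 F29610 (iv7 F29579) (iv6 D18412) (iv7 F13578) D8674
theorem F29613 : act 0 n18447 = n18176 := d21_10 (iv5 D18176) (iv1 D8568) F7215 (iv6 D3837) (iv1 F6941) D7819 F12363 D8614 D18265 (iv6 F29610)
theorem F29614 : act 1 n18434 = n18176 := d15_0 (iv0 F29613) (iv7 F29612) (iv2 F29602)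
theorem F29615 : act 2 n18447 = n18429 := d15_3 (iv0 F29609) (iv0 D18445) F29612
theorem E4093 : n18434 = n18269 := (c4_2 (iv7 F29612) (iv2 F29602) (iv7 F29597) (iv2 F29615))
theorem F29616 : act 1 n18269 = n18176 := (sb E4093 F29614)
theorem F29617 : act 2 n18269 = n8674 := (sb E4093 F29602)
theorem E4094 : n8670 = n8615 := ((((iv6 D18269)).symm.trans (sb E4093 (iv6 D18434)))).symm
theorem E4095 : n18408 = n3869 := ((((iv1 D8615)).symm.trans (sb E4094 (iv1 F29571)))).symm
theorem E4097 : n18266 = n3887 := (((iv2 F29462)).symm.trans (sb E4094 F13580))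
theorem E4098 : n18419 = n18267 := (((D18267).symm.trans (sb E4094 (iv3 F29583)))).symm
theorem E4099 : n18425 = n18268 := (((D18268).symm.trans (sb E4094 (iv4 F29587)))).symm
theorem E4100 : n18430 = n8669 := ((((iv5 F13579)).symm.trans (sb E4094 (iv5 F29594)))).symm
theorem E4101 : n18262 = n3886 := ((F29461).symm.trans (sb E4094 (iv7 D8670)))
theorem E4102 : n8665 = n8614 := (((D8614).symm.trans (sb E4095 (iv1 D18408)))).symm
theorem F29618 : act 2 n3887 = n8615 := (sb E4097 F29462)
theorem F29619 : act 7 n18267 = n8666 := (sb E4098 (iv7 D18419))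
theorem F29620 : act 2 n18268 = n8672 := (sb E4099 F29586)
theorem F29621 : act 7 n18268 = n8667 := (sb E4099 (iv7 D18425))
theorem E4104 : n18433 = n8668 := ((D18433).symm.trans (sb E4100 (iv7 D18430)))
theorem F29622 : act 7 n3886 = n8615 := (sb E4101 (iv7 F29461))
theorem F29623 : act 2 n8614 = n3886 := (sb E4102 (iv2 D8665))
theorem E4105 : n18409 = n18263 := (((D18263).symm.trans (sb E4102 D18409))).symm
theorem E4106 : n18410 = n18264 := (((D18264).symm.trans (sb E4102 D18410))).symm
theorem E4107 : n18411 = n18265 := (((D18265).symm.trans (sb E4102 D18411))).symm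
theorem F29624 : act 7 n8614 = n3887 := (sb E4102 (iv7 F13578))
theorem F29626 : act 7 n8668 = n8669 := (sb E4104 (iv7 D18433))
theorem F29627 : act 7 n18263 = n8671 := (sb E4105 F29572)
theorem F29628 : act 2 n18264 = n8667 := (sb E4106 F29573)
theorem F29629 : act 7 n18264 = n8672 := (sb E4106 F29574)
theorem F29630 : act 2 n18265 = n8668 := (sb E4107 F29575)
theorem F29631 : act 7 n18265 = n8673 := (sb E4107 F29576)
theorem F29632 : act 2 n18424 = n18444 := d3_3 F29607 F29628 D18424
theorem F29633 : act 7 n18418 = n18417 := d8_2 F29626 (iv3 F29581) F29580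
theorem F29634 : act 7 n18424 = n18428 := d11_2 F29626 (iv4 F29585) (iv4 D18428)
theorem E4108 : n18446 = n18299 := (c15_1 D18446 (iv0 F29592) F29597 F29617)
theorem F29635 : act 0 n18299 = n8674 := (sb E4108 (iv1 D18446))
theorem F29636 : act 1 n18171 = n18269 := d15_1 (iv0 F29611) (iv7 F29597) (iv2 F29615)
def n18448 : Q := act 5 n8675
theorem D18448 : act 5 n8675 = n18448 := rfl
theorem F29637 : act 3 n18448 = n8816 := d6_1 D18448 (iv5 D8816) (iv3 F13582)
theorem F29638 : act 7 n18448 = n8678 := d13_2 (iv7 F13583) D18448 (iv5 D8678)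
def n18449 : Q := act 2 n8676
theorem D18449 : act 2 n8676 = n18449 := rfl
theorem F29639 : act 7 n8677 = n18449 := d15_2 (iv0 D8676) D8677 (iv2 D18449)
def n18450 : Q := act 3 n8676
theorem D18450 : act 3 n8676 = n18450 := rfl
def n18451 : Q := act 4 n8676
theorem D18451 : act 4 n8676 = n18451 := rfl
def n18452 : Q := act 5 n8676
theorem D18452 : act 5 n8676 = n18452 := rfl
def n18453 : Q := act 6 n8676
theorem D18453 : act 6 n8676 = n18453 := rfl
def n18454 : Q := act 7 n8676
theorem D18454 : act 7 n8676 = n18454 := rfl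
theorem F29640 : act 2 n18454 = n8677 := d4_1 D18454 F29639 (iv2 D18449)
def n18455 : Q := act 3 n8677
theorem D18455 : act 3 n8677 = n18455 := rfl
def n18456 : Q := act 4 n8677
theorem D18456 : act 4 n8677 = n18456 := rfl
def n18457 : Q := act 5 n8677
theorem D18457 : act 5 n8677 = n18457 := rfl
def n18458 : Q := act 6 n8677
theorem D18458 : act 6 n8677 = n18458 := rfl
def n18459 : Q := act 0 n8678
theorem D18459 : act 0 n8678 = n18459 := rfl
def n18460 : Q := act 1 n8678
theorem D18460 : act 1 n8678 = n18460 := rfl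
def n18461 : Q := act 4 n8678
theorem D18461 : act 4 n8678 = n18461 := rfl
theorem F29641 : act 6 n18461 = n8687 := d10_2 (iv6 F13585) D18461 (iv4 D8687)
def n18462 : Q := act 5 n8679
theorem D18462 : act 5 n8679 = n18462 := rfl
theorem F29642 : act 3 n18462 = n8681 := d6_1 D18462 (iv5 D8681) D8679
def n18463 : Q := act 5 n8680
theorem D18463 : act 5 n8680 = n18463 := rfl
theorem F29643 : act 2 n18463 = n16729 := d2_1 D18463 (iv5 D16729) (iv2 F13591)
theorem F29644 : act 1 n18463 = n9775 := d17_6 F17488 D9616 (iv1 F17609) (iv5 D8681) D8680 D18463 (iv5 F16856) (iv0 F27370) F13884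
def n18464 : Q := act 4 n8681
theorem D18464 : act 4 n8681 = n18464 := rfl
theorem F29645 : act 2 n18464 = n16730 := d1_1 D18464 (iv4 D16730) (iv2 F13593)
def n18465 : Q := act 5 n8682
theorem D18465 : act 5 n8682 = n18465 := rfl
theorem F29646 : act 3 n18465 = n8684 := d6_1 D18465 (iv5 D8684) D8682
theorem F29647 : act 7 n18465 = n16728 := d13_2 (iv7 F13594) D18465 (iv5 D16728)
def n18466 : Q := act 5 n8683
theorem D18466 : act 5 n8683 = n18466 := rfl
theorem F29648 : act 3 n18466 = n9335 := d6_1 D18466 (iv5 D9335) F13596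
theorem F29649 : act 7 n18466 = n16729 := d13_2 (iv7 F13595) D18466 (iv5 D16729)
theorem F29650 : act 0 n18466 = n9775 := d21_1 D18466 (iv5 F16856) F16857 F17437 (iv6 D8561) (iv5 F13397) (iv1 F13995) F13997 D9695 F15128
def n18467 : Q := act 4 n8684
theorem D18467 : act 4 n8684 = n18467 := rfl
theorem F29651 : act 7 n18467 = n16730 := d11_2 (iv7 F13597) D18467 (iv4 D16730)
def n18468 : Q := act 6 n8684
theorem D18468 : act 6 n8684 = n18468 := rfl
def n18469 : Q := act 3 n8686
theorem D18469 : act 3 n8686 = n18469 := rfl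
theorem F29652 : act 5 n18469 = n17374 := d6_2 F17497 D18469 (iv3 D17374)
theorem F29653 : act 0 n17442 = n18469 := d21_1 D17442 F29652 F28325 F21598 (iv6 D12988) D12987 (iv1 F21593) F13542 D16726 F27448
def n18470 : Q := act 4 n8686
theorem D18470 : act 4 n8686 = n18470 := rfl
def n18471 : Q := act 6 n8686
theorem D18471 : act 6 n8686 = n18471 := rfl
theorem F29654 : act 5 n18471 = n18468 := d12_1 D18471 (iv6 D18468) (iv5 D8684) (iv6 F17498) F17497
def n18472 : Q := act 0 n8687
theorem D18472 : act 0 n8687 = n18472 := rfl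
theorem F29655 : act 4 n18472 = n9170 := d18_3 (iv1 D8686) D8687 D18472 (iv5 D9170) F6044 F17458 (iv4 F5689) D8138 F17497
def n18473 : Q := act 1 n8687
theorem D18473 : act 1 n8687 = n18473 := rfl
def n18474 : Q := act 3 n8687
theorem D18474 : act 3 n8687 = n18474 := rfl
theorem F29656 : act 4 n18474 = n8843 := d5_2 D8687 D18474 (iv3 D8843) (iv4 D3938) (iv3 F5851)
def n18475 : Q := act 5 n8687
theorem D18475 : act 5 n8687 = n18475 := rfl
def n18476 : Q := act 3 n8688
theorem D18476 : act 3 n8688 = n18476 := rfl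
def n18477 : Q := act 6 n8688
theorem D18477 : act 6 n8688 = n18477 := rfl
theorem F29657 : act 2 n18477 = n8693 := d3_1 D18477 (iv6 D8693) (iv2 F13610)
theorem F29658 : act 4 n18477 = n8689 := d10_1 D18477 (iv6 D8689) D8688
def n18478 : Q := act 0 n8689
theorem D18478 : act 0 n8689 = n18478 := rfl
theorem F29659 : act 6 n18478 = n17947 := d21_5 (iv5 F6929) (iv1 F5900) (iv5 F5852) D8689 D18478 (iv5 D17947) (iv1 D8464) F5788 (iv6 D3788) D3785
def n18479 : Q := act 1 n8689
theorem D18479 : act 1 n8689 = n18479 := rfl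
theorem F29660 : act 1 n18479 = n8697 := d15_1 D18479 (iv7 D8697) (iv2 F13611)
def n18480 : Q := act 5 n8689
theorem D18480 : act 5 n8689 = n18480 := rfl
theorem F29661 : act 2 n18480 = n8696 := d2_1 D18480 (iv5 D8696) (iv2 F13611)
theorem F29662 : act 6 n18480 = n16691 := d12_2 D8689 D18480 (iv5 D16691) (iv6 D7777) (iv5 F5852)
def n18481 : Q := act 7 n8689
theorem D18481 : act 7 n8689 = n18481 := rfl
theorem F29663 : act 2 n18481 = n8697 := d4_1 D18481 (iv7 D8697) (iv2 F13611)
theorem F29664 : act 1 n8697 = n18478 := d15_0 (iv0 D18478) D18481 F29663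
theorem F29665 : act 1 n8695 = n18481 := d15_1 D8695 (iv7 D18481) F13611
theorem F29666 : act 1 n18481 = n8694 := d15_0 (iv0 D8694) D8697 (iv2 F29663)
def n18482 : Q := act 3 n8690
theorem D18482 : act 3 n8690 = n18482 := rfl
def n18483 : Q := act 6 n8690
theorem D18483 : act 6 n8690 = n18483 := rfl
theorem F29667 : act 4 n18483 = n10085 := d10_1 D18483 (iv6 D10085) (iv4 F13612)
def n18484 : Q := act 3 n8691
theorem D18484 : act 3 n8691 = n18484 := rfl
theorem F29668 : act 4 n18484 = n17461 := d5_2 F13613 D18484 (iv3 D17461) (iv4 D8214) (iv3 F13333)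
def n18485 : Q := act 6 n8691
theorem D18485 : act 6 n8691 = n18485 := rfl
theorem F29669 : act 4 n18485 = n10118 := d10_1 D18485 (iv6 D10118) F13613
def n18486 : Q := act 0 n8692
theorem D18486 : act 0 n8692 = n18486 := rfl
theorem F29670 : act 5 n18486 = n10306 := d17_1 D18486 (iv1 F16389) (iv5 F16474) (iv4 D10348) (iv5 D4690) D4689 D10344 (iv0 F17707) F17706
theorem F29671 : act 4 n18486 = n10334 := d18_3 (iv1 F17708) F17706 D18486 (iv5 D10334) (iv4 D4685) F3247 D4608 F6784 D10341
theorem F29672 : act 1 n10858 = n18486 := d15_0 (iv0 D18486) (iv7 F22033) F22031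
theorem F29673 : act 2 n17930 = n18486 := d1_3 F29671 F16441 (iv4 F29098)
theorem F29674 : act 7 n17927 = n18486 := d11_0 F29671 F16442 (iv4 F29094)
def n18487 : Q := act 1 n8692
theorem D18487 : act 1 n8692 = n18487 := rfl
theorem F29675 : act 1 n18487 = n10858 := d15_1 D18487 (iv7 F17729) F17728
theorem F29676 : act 7 n18487 = n17930 := d15_2 (iv0 D18486) D18487 F29673
theorem F29677 : act 5 n18487 = n10307 := d17_7 (iv1 F6773) (iv5 F7302) (iv1 D3527) (iv5 F2867) D3896 D8692 D18487 F16392 (iv4 D8451)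
theorem F29678 : act 2 n17927 = n18487 := d2_3 F29677 (iv2 F16395) D17927
theorem F29679 : act 4 n10326 = n18487 := d9_15 F29677 F16394 (iv5 D8184) F5705 (iv5 F7300) D4685 D10334 (iv4 F29671) F29670 F16388 (iv5 D8954) (iv4 D3993) (iv5 F7292) D4680 D10326
def n18488 : Q := act 6 n8692
theorem D18488 : act 6 n8692 = n18488 := rfl
def n18489 : Q := act 0 n8693
theorem D18489 : act 0 n8693 = n18489 := rfl
def n18490 : Q := act 1 n8693
theorem D18490 : act 1 n8693 = n18490 := rfl
def n18491 : Q := act 5 n8693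
theorem D18491 : act 5 n8693 = n18491 := rfl
def n18492 : Q := act 7 n8693
theorem D18492 : act 7 n8693 = n18492 := rfl
theorem F29680 : act 4 n18492 = n8697 := d11_1 D18492 (iv7 D8697) (iv4 F13614)
def n18493 : Q := act 2 n8694
theorem D18493 : act 2 n8694 = n18493 := rfl
theorem F29681 : act 7 n8695 = n18493 := d15_2 (iv0 D8694) D8695 (iv2 D18493)
def n18494 : Q := act 3 n8694
theorem D18494 : act 3 n8694 = n18494 := rfl
def n18495 : Q := act 4 n8694
theorem D18495 : act 4 n8694 = n18495 := rfl
def n18496 : Q := act 5 n8694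
theorem D18496 : act 5 n8694 = n18496 := rfl
def n18497 : Q := act 6 n8694
theorem D18497 : act 6 n8694 = n18497 := rfl
theorem F29682 : act 5 n18497 = n17906 := d21_6 (iv5 F7302) (iv1 D3527) (iv5 F2867) D3897 D8694 D18497 (iv1 D17906) F13255 (iv6 D8452) (iv1 F6773)
def n18498 : Q := act 7 n8694
theorem D18498 : act 7 n8694 = n18498 := rfl
theorem F29683 : act 2 n18498 = n8695 := d4_1 D18498 F29681 (iv2 D18493)
def n18499 : Q := act 3 n8695
theorem D18499 : act 3 n8695 = n18499 := rfl
def n18500 : Q := act 4 n8695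
theorem D18500 : act 4 n8695 = n18500 := rfl
def n18501 : Q := act 5 n8695
theorem D18501 : act 5 n8695 = n18501 := rfl
def n18502 : Q := act 6 n8695
theorem D18502 : act 6 n8695 = n18502 := rfl
def n18503 : Q := act 0 n8696
theorem D18503 : act 0 n8696 = n18503 := rfl
def n18504 : Q := act 1 n8696
theorem D18504 : act 1 n8696 = n18504 := rfl
def n18505 : Q := act 4 n8696
theorem D18505 : act 4 n8696 = n18505 := rfl
theorem F29684 : act 6 n18505 = n16697 := d10_2 (iv6 F13616) D18505 (iv4 D16697)
def n18506 : Q := act 7 n8696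
theorem D18506 : act 7 n8696 = n18506 := rfl
theorem F29685 : act 3 n18506 = n8711 := d8_1 D18506 (iv7 D8711) (iv3 F13615)
theorem F29686 : act 5 n18506 = n8697 := d13_1 D18506 (iv7 D8697) D8696
def n18509 : Q := act 3 n8698
theorem D18509 : act 3 n8698 = n18509 := rfl
theorem F29689 : act 7 n18509 = n8704 := d8_2 F13618 D18509 (iv3 D8704)
def n18510 : Q := act 4 n8698
theorem D18510 : act 4 n8698 = n18510 := rfl
theorem F29690 : act 2 n18510 = n8700 := d1_1 D18510 (iv4 D8700) D8698
theorem F29691 : act 7 n18510 = n8705 := d11_2 F13618 D18510 (iv4 D8705)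
def n18511 : Q := act 5 n8698
theorem D18511 : act 5 n8698 = n18511 := rfl
theorem F29692 : act 2 n18511 = n8701 := d2_1 D18511 (iv5 D8701) D8698
theorem F29693 : act 7 n18511 = n8706 := d13_2 F13618 D18511 (iv5 D8706)
def n18512 : Q := act 6 n8698
theorem D18512 : act 6 n8698 = n18512 := rfl
theorem F29694 : act 2 n18512 = n8702 := d3_1 D18512 (iv6 D8702) D8698
theorem F29695 : act 5 n13067 = n18512 := d2_0 F29694 F13619 (iv2 F21790)
theorem F29696 : act 7 n8813 = n18512 := d15_2 (iv0 F13672) (iv0 F13689) F29694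
def n18513 : Q := act 0 n8699
theorem D18513 : act 0 n8699 = n18513 := rfl
def n18514 : Q := act 1 n8699
theorem D18514 : act 1 n8699 = n18514 := rfl
def n18515 : Q := act 2 n8699
theorem D18515 : act 2 n8699 = n18515 := rfl
def n18516 : Q := act 4 n8699
theorem D18516 : act 4 n8699 = n18516 := rfl
def n18517 : Q := act 5 n8699
theorem D18517 : act 5 n8699 = n18517 := rfl
theorem F29697 : act 3 n18517 = n8701 := d6_1 D18517 (iv5 D8701) D8699
def n18518 : Q := act 6 n8699
theorem D18518 : act 6 n8699 = n18518 := rfl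
theorem F29698 : act 3 n18518 = n8702 := d7_1 D18518 (iv6 D8702) D8699
theorem F29699 : act 5 n13068 = n18518 := d6_0 F29698 F13619 D13068
def n18519 : Q := act 7 n8699
theorem D18519 : act 7 n8699 = n18519 := rfl
theorem F29700 : act 3 n18519 = n8703 := d8_1 D18519 (iv7 D8703) D8699
def n18520 : Q := act 0 n8700
theorem D18520 : act 0 n8700 = n18520 := rfl
def n18524 : Q := act 6 n8700
theorem D18524 : act 6 n8700 = n18524 := rfl
theorem F29702 : act 4 n18524 = n8702 := d10_1 D18524 (iv6 D8702) D8700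
def n18525 : Q := act 7 n8700
theorem D18525 : act 7 n8700 = n18525 := rfl
theorem F29703 : act 2 n18525 = n8705 := d4_1 D18525 (iv7 F29691) F29690
theorem F29704 : act 4 n18525 = n8703 := d11_1 D18525 (iv7 D8703) D8700
theorem F29705 : act 1 n8705 = n18520 := d15_0 (iv0 D18520) D18525 F29703
def n18526 : Q := act 1 n8701
theorem D18526 : act 1 n8701 = n18526 := rfl
theorem F29706 : act 1 n18526 = n8706 := d15_1 D18526 (iv7 F29693) F29692
def n18527 : Q := act 4 n8701
theorem D18527 : act 4 n8701 = n18527 := rfl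
def n18528 : Q := act 6 n8701
theorem D18528 : act 6 n8701 = n18528 := rfl
theorem F29707 : act 5 n18528 = n13070 := d12_1 D18528 (iv6 D13070) (iv5 F13619) (iv6 D8702) D8701
theorem F29708 : act 0 n18528 = n8825 := d21_10 (iv5 D8825) (iv1 D3931) D3932 F5865 (iv1 F5556) (iv6 F5854) (iv5 D3900) D3898 D8701 D18528
theorem E4109 : n16833 = n13070 := (c21_2 (iv5 F22107) D16833 (iv5 F29707) (iv6 D18528) F27593 (iv6 F28000) (iv5 D17064) F12753 D16851 F27594 (iv1 F22106))
theorem F29709 : act 1 n13070 = n7850 := (sb E4109 (iv0 D16833))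
theorem E4110 : n16829 = n13080 := ((c21_1 (iv5 F21794) (iv1 D16829) (iv5 D7849) D7850 (iv1 F29709) (iv6 D13070) (iv5 F13619) F13715 D8815 F13690 (iv1 F13678))).symm
theorem F29710 : act 0 n13080 = n7849 := (sb E4110 (iv1 D16829))
theorem F29711 : act 1 n13080 = n7854 := (sb E4110 F27583)
theorem F29712 : act 0 n8826 = n18109 := d21_4 (iv5 F29707) F29708 (iv5 D8825) D8826 F29277 (iv5 F21794) F29710 (iv5 D7849) D7850 (iv1 F29709)
theorem F29713 : act 0 n8820 = n18528 := d21_1 D8820 F29707 (iv6 D13070) (iv1 D6218) (iv6 D2612) (iv5 D1222) (iv1 F1401) (iv5 F1662) D1696 D3930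
def n18529 : Q := act 7 n8701
theorem D18529 : act 7 n8701 = n18529 := rfl
theorem F29714 : act 2 n18529 = n8706 := d4_1 D18529 (iv7 F29693) F29692
theorem F29715 : act 5 n18529 = n8703 := d13_1 D18529 (iv7 D8703) D8701
def n18530 : Q := act 7 n8702
theorem D18530 : act 7 n8702 = n18530 := rfl
def n18531 : Q := act 6 n8703
theorem D18531 : act 6 n8703 = n18531 := rfl
theorem F29718 : act 2 n18531 = n8707 := d3_1 D18531 (iv6 D8707) (iv2 F13620)
def n18532 : Q := act 0 n8704
theorem D18532 : act 0 n8704 = n18532 := rfl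
def n18533 : Q := act 1 n8704
theorem D18533 : act 1 n8704 = n18533 := rfl
def n18534 : Q := act 2 n8704
theorem D18534 : act 2 n8704 = n18534 := rfl
def n18535 : Q := act 4 n8704
theorem D18535 : act 4 n8704 = n18535 := rfl
def n18536 : Q := act 5 n8704
theorem D18536 : act 5 n8704 = n18536 := rfl
theorem F29719 : act 3 n18536 = n8706 := d6_1 D18536 (iv5 D8706) D8704
def n18537 : Q := act 6 n8704
theorem D18537 : act 6 n8704 = n18537 := rfl
theorem F29720 : act 3 n18537 = n8707 := d7_1 D18537 (iv6 D8707) D8704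
def n18540 : Q := act 6 n8705
theorem D18540 : act 6 n8705 = n18540 := rfl
theorem F29721 : act 4 n18540 = n8707 := d10_1 D18540 (iv6 D8707) D8705
def n18541 : Q := act 4 n8706
theorem D18541 : act 4 n8706 = n18541 := rfl
def n18542 : Q := act 6 n8706
theorem D18542 : act 6 n8706 = n18542 := rfl
theorem F29722 : act 0 n8838 = n18542 := d21_4 (iv5 D3615) (iv1 F2886) D3936 D8838 (iv6 D18542) (iv5 D8706) (iv1 D3899) D3900 F5854 (iv1 F5652)
def n18543 : Q := act 0 n8707
theorem D18543 : act 0 n8707 = n18543 := rfl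
theorem F29723 : act 5 n18543 = n16861 := d21_0 (iv1 F28013) F28009 F12759 (iv1 F9428) D7855 D16849 F28001 (iv5 D8706) D8707 D18543
def n18544 : Q := act 1 n8707
theorem D18544 : act 1 n8707 = n18544 := rfl
def n18545 : Q := act 5 n8707
theorem D18545 : act 5 n8707 = n18545 := rfl
theorem F29724 : act 0 n17064 = n18545 := d21_1 D17064 (iv5 D18545) (iv6 D8707) (iv1 D3899) (iv6 D1688) F1660 (iv1 F1621) D1589 D3614 D7983
def n18546 : Q := act 7 n8707
theorem D18546 : act 7 n8707 = n18546 := rfl
theorem F29725 : act 6 n18546 = n8813 := d14_1 D18546 F29696 (iv6 D18512) (iv7 F13618) D8707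
theorem F29726 : act 0 n18546 = n8821 := d21_4 F4205 D6217 (iv5 F13688) (iv6 F29725) (iv6 D8821) D8820 F29713 F29707 (iv6 D13070) (iv1 D6218)
theorem F29727 : act 1 n18531 = n8821 := d15_0 (iv0 F29726) (iv7 D18546) (iv2 F29718)
def n18547 : Q := act 2 n8708
theorem D18547 : act 2 n8708 = n18547 := rfl
theorem F29728 : act 7 n8709 = n18547 := d15_2 (iv0 D8708) D8709 (iv2 D18547)
theorem F29729 : act 5 n18547 = n18092 := d13_1 F29728 (iv7 D18092) F13621
def n18548 : Q := act 3 n8708
theorem D18548 : act 3 n8708 = n18548 := rfl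
def n18549 : Q := act 4 n8708
theorem D18549 : act 4 n8708 = n18549 := rfl
def n18550 : Q := act 5 n8708
theorem D18550 : act 5 n8708 = n18550 := rfl
theorem F29730 : act 2 n18550 = n18092 := d2_1 D18550 (iv5 F29729) (iv2 D18547)
theorem F29731 : act 6 n18550 = n16828 := d12_2 (iv6 F13638) D18550 F27582 (iv6 D8741) D8740
theorem F29732 : act 7 n18071 = n18550 := d4_0 F29730 (iv7 D18092) (iv2 F29256)
theorem F29733 : act 1 n18550 = n18090 := d15_0 (iv0 D18090) D18092 (iv2 F29730)
theorem E4111 : n18105 = n16828 := ((c14_2 F29732 F29731 (iv7 D18105) (iv6 D8537) F13291 D18071)).symm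
theorem F29734 : act 7 n16828 = n8537 := (sb E4111 (iv7 D18105))
theorem F29735 : act 1 n18091 = n18550 := d15_1 D18091 (iv7 F29732) F29256
theorem F29736 : act 7 n8794 = n8741 := d13_2 F29734 (iv5 F13669) (iv5 F27582)
theorem E4112 : n18093 = n13080 := (c15_4 F29711 F27587 F29734 (iv2 F29272))
theorem F29737 : act 2 n13080 = n8537 := (sb E4112 F29272)
theorem E4113 : n8533 = n6221 := ((((iv6 D13080)).symm.trans (sb E4112 (iv6 D18093)))).symm
theorem E4114 : n18067 = n2613 := ((((iv1 D6221)).symm.trans (sb E4113 (iv1 F29250)))).symm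
theorem E4116 : n13076 = n3810 := (((iv2 F21792)).symm.trans (sb E4113 F13292))
theorem E4117 : n18078 = n13077 := (((D13077).symm.trans (sb E4113 (iv3 F29259)))).symm
theorem E4118 : n18084 = n13078 := (((D13078).symm.trans (sb E4113 (iv4 F29263)))).symm
theorem E4119 : n18089 = n13079 := (((D13079).symm.trans (sb E4113 (iv5 F29268)))).symm
theorem E4120 : n13071 = n3809 := ((F21791).symm.trans (sb E4113 (iv7 D8533)))
theorem E4121 : n8528 = n6220 := (((D6220).symm.trans (sb E4114 (iv1 D18067)))).symm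
theorem F29738 : act 2 n3810 = n6221 := (sb E4116 F21792)
theorem F29739 : act 7 n13077 = n8529 := (sb E4117 (iv7 D18078))
theorem F29741 : act 7 n13078 = n8530 := (sb E4118 (iv7 D18084))
theorem F29742 : act 2 n13079 = n8536 := (sb E4119 F29267)
theorem F29743 : act 7 n13079 = n8531 := (sb E4119 (iv7 D18089))
theorem F29744 : act 7 n3809 = n6221 := (sb E4120 (iv7 F21791))
theorem F29745 : act 2 n6220 = n3809 := (sb E4121 (iv2 D8528))
theorem E4122 : n18068 = n13072 := (((D13072).symm.trans (sb E4121 D18068))).symm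
theorem E4123 : n18069 = n13073 := (((D13073).symm.trans (sb E4121 D18069))).symm
theorem E4124 : n18070 = n13074 := (((D13074).symm.trans (sb E4121 D18070))).symm
theorem E4125 : n18071 = n13075 := (((D13075).symm.trans (sb E4121 D18071))).symm
theorem F29746 : act 7 n6220 = n3810 := (sb E4121 (iv7 F13291))
theorem F29747 : act 7 n13072 = n8534 := (sb E4122 F29251)
theorem F29748 : act 2 n13073 = n8530 := (sb E4123 F29252)
theorem F29750 : act 2 n13074 = n8531 := (sb E4124 F29254)
theorem F29751 : act 7 n13074 = n8536 := (sb E4124 F29255)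
theorem F29752 : act 2 n13075 = n8532 := (sb E4125 F29256)
theorem F29753 : act 7 n13075 = n18550 := (sb E4125 F29732)
theorem F29754 : act 7 n8708 = n13223 := d13_2 F29753 (iv5 D18550) (iv5 F22016)
theorem F29755 : act 2 n13223 = n8709 := d4_1 F29754 F29728 (iv2 D18547)
theorem E4126 : n18547 = n13222 := (c15_4 (iv0 D13222) D13223 (iv7 F29754) D18547)
theorem F29756 : act 2 n13222 = n8708 := (sb E4126 (iv2 D18547))
theorem E4127 : n18092 = n16847 := ((((iv5 F27592)).symm.trans (sb E4126 F29729))).symm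
theorem F29757 : act 7 n13222 = n8709 := (sb E4126 (iv7 F29728))
theorem F29758 : act 2 n16847 = n18550 := (sb E4127 (iv2 F29730))
theorem F29759 : act 7 n16847 = n8532 := (sb E4127 (iv7 D18092))
theorem E4128 : n16848 = n13075 := (c15_2 (iv0 D16847) D16848 F29753 (iv2 F29758))
theorem F29760 : act 0 n13075 = n7855 := (sb E4128 (iv1 D16848))
theorem F29761 : act 2 n8740 = n13242 := d3_3 (iv6 F22042) F29756 F13638
theorem E4129 : n13239 = n3908 := (c2_4 D8740 F29761 (iv5 D13242) (iv2 F22041))
theorem E4130 : n8737 = n6289 := (((iv2 F13637)).symm.trans (sb E4129 F22041))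
theorem E4131 : n8732 = n6288 := ((F13636).symm.trans (sb E4129 (iv7 D13239)))
theorem F29762 : act 2 n6289 = n3908 := (sb E4130 F13637)
theorem E4132 : n13234 = n3907 := ((F22039).symm.trans (sb E4130 (iv7 D8737)))
theorem F29763 : act 7 n6288 = n3908 := (sb E4131 (iv7 F13636))
theorem F29764 : act 2 n3907 = n6288 := (sb E4132 (iv2 D13234))
theorem F29765 : act 7 n3907 = n6289 := (sb E4132 (iv7 F22039))
theorem F29766 : act 7 n13240 = n8733 := d8_2 F29765 D13240 (iv3 D8733)
theorem F29767 : act 7 n13241 = n8734 := d11_2 F29765 D13241 (iv4 D8734)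
theorem F29768 : act 7 n13242 = n8735 := d13_2 F29765 D13242 (iv5 D8735)
theorem F29769 : act 2 n13236 = n8734 := d1_3 (iv4 D8734) F29764 D13236
theorem F29770 : act 2 n13237 = n8735 := d2_3 (iv5 D8735) F29764 D13237
theorem F29771 : act 2 n13238 = n8736 := d3_3 (iv6 D8736) F29764 D13238
theorem E4133 : n18110 = n13082 := ((c2_3 (iv5 F22040) F29771 F21797 F29278)).symm
theorem F29772 : act 2 n13082 = n8539 := (sb E4133 F29278)
theorem F29773 : act 7 n13082 = n8538 := (sb E4133 (iv7 D18110))
theorem F29774 : act 7 n18109 = n8736 := d13_2 F29773 D18109 F21797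
theorem E4134 : n18106 = n13081 := (c15_4 (iv0 D13081) D13082 F29773 D18106)
theorem F29775 : act 2 n13081 = n8538 := (sb E4134 (iv2 D18106))
theorem F29776 : act 7 n13081 = n8539 := (sb E4134 (iv7 F29276))
theorem F29777 : act 7 n13243 = n8800 := d14_4 F29774 (iv6 D8736) F29765 D13243 (iv6 F29277)
theorem F29778 : act 2 n13243 = n8799 := d15_3 (iv0 D8799) D8800 (iv7 F29777)
theorem E4135 : n8799 = n8741 := (c3_2 D13243 F29778 (iv6 D8741) (iv2 F29762))
theorem F29779 : act 0 n8741 = n6303 := (sb E4135 (iv1 F13681))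
theorem F29780 : act 1 n8741 = n3923 := (sb E4135 (iv0 D8799))
theorem F29781 : act 2 n8741 = n13243 := (sb E4135 (iv2 F29778))
theorem F29782 : act 2 n8794 = n8800 := d4_3 (iv7 F29777) (iv2 F29781) (iv7 F29736)
theorem E4136 : n13243 = n8795 := (c15_4 F13670 F13675 F29736 F29781)
theorem F29783 : act 2 n8795 = n8741 := (sb E4136 (iv2 F29781))
theorem F29784 : act 6 n8795 = n6289 := (sb E4136 (iv6 D13243))
theorem F29785 : act 7 n8795 = n8800 := (sb E4136 F29777)
theorem F29786 : act 7 n8740 = n13237 := d4_0 F29770 (iv7 F29768) (iv2 F29761)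
theorem F29787 : act 7 n8738 = n13235 := d8_2 F29763 D8738 (iv3 D13235)
theorem F29788 : act 7 n8739 = n13236 := d11_2 F29763 D8739 (iv4 D13236)
theorem F29789 : act 2 n13241 = n8739 := d4_3 F29788 F29769 (iv7 F29767)
def n18551 : Q := act 3 n8709
theorem D18551 : act 3 n8709 = n18551 := rfl
theorem F29790 : act 5 n18551 = n18077 := d6_2 F13621 D18551 F29258
def n18552 : Q := act 4 n8709
theorem D18552 : act 4 n8709 = n18552 := rfl
def n18553 : Q := act 6 n8709
theorem D18553 : act 6 n8709 = n18553 := rfl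
theorem F29791 : act 5 n18553 = n18088 := d12_1 D18553 (iv6 D18088) (iv5 D8531) D8532 F13621
def n18554 : Q := act 0 n8710
theorem D18554 : act 0 n8710 = n18554 := rfl
def n18555 : Q := act 1 n8710
theorem D18555 : act 1 n8710 = n18555 := rfl
def n18556 : Q := act 3 n8710
theorem D18556 : act 3 n8710 = n18556 := rfl
theorem F29792 : act 6 n18556 = n16698 := d7_2 (iv6 F13622) D18556 (iv3 D16698)
def n18557 : Q := act 5 n8710
theorem D18557 : act 5 n8710 = n18557 := rfl
def n18558 : Q := act 7 n8710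
theorem D18558 : act 7 n8710 = n18558 := rfl
theorem F29793 : act 4 n18558 = n8711 := d11_1 D18558 (iv7 D8711) D8710
def n18559 : Q := act 6 n8711
theorem D18559 : act 6 n8711 = n18559 := rfl
theorem F29794 : act 7 n18559 = n13313 := d14_2 D8711 D18559 (iv6 D13313) F9828 (iv6 F5854)
def n18560 : Q := act 3 n8722
theorem D18560 : act 3 n8722 = n18560 := rfl
def n18561 : Q := act 5 n8722
theorem D18561 : act 5 n8722 = n18561 := rfl
theorem F29795 : act 2 n18561 = n8726 := d2_1 D18561 (iv5 D8726) (iv2 F13626)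
theorem F29796 : act 7 n18561 = n10653 := d13_2 F21987 D18561 (iv5 F21988)
theorem F29797 : act 4 n18561 = n13207 := d16_2 D8722 D18561 (iv5 D13207) (iv4 D6279) F4227 F2911 (iv5 F4227) F4228 D3904
theorem F29798 : act 1 n18561 = n10654 := d17_6 D3802 (iv5 F13465) (iv1 F5887) (iv5 F5855) D8722 D18561 (iv5 F17204) (iv0 D8507) (iv4 D3804)
theorem F29799 : act 1 n10610 = n18561 := d17_8 (iv1 F22007) (iv5 F17204) (iv1 F21758) F21756 F16696 (iv5 D8509) D8508 F17132 F29797
def n18562 : Q := act 6 n8722
theorem D18562 : act 6 n8722 = n18562 := rfl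
theorem F29800 : act 2 n18562 = n8727 := d3_1 D18562 (iv6 D8727) (iv2 F13626)
theorem F29801 : act 4 n18562 = n8723 := d10_1 D18562 (iv6 D8723) D8722
def n18563 : Q := act 0 n8723
theorem D18563 : act 0 n8723 = n18563 := rfl
def n18564 : Q := act 1 n8723
theorem D18564 : act 1 n8723 = n18564 := rfl
theorem F29802 : act 1 n18564 = n8731 := d15_1 D18564 (iv7 D8731) (iv2 F13627)
def n18565 : Q := act 5 n8723
theorem D18565 : act 5 n8723 = n18565 := rfl
theorem F29803 : act 2 n18565 = n8730 := d2_1 D18565 (iv5 D8730) (iv2 F13627)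
theorem F29804 : act 6 n18565 = n16702 := d12_2 D8723 D18565 (iv5 D16702) (iv6 D7791) (iv5 F5855)
def n18566 : Q := act 7 n8723
theorem D18566 : act 7 n8723 = n18566 := rfl
theorem F29805 : act 2 n18566 = n8731 := d4_1 D18566 (iv7 D8731) (iv2 F13627)
theorem F29806 : act 1 n8731 = n18563 := d15_0 (iv0 D18563) D18566 F29805
theorem F29807 : act 1 n8729 = n18566 := d15_1 D8729 (iv7 D18566) F13627
theorem F29808 : act 1 n18566 = n8728 := d15_0 (iv0 D8728) D8731 (iv2 F29805)
def n18567 : Q := act 3 n8724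
theorem D18567 : act 3 n8724 = n18567 := rfl
theorem F29809 : act 2 n18567 = n10552 := d0_1 D18567 F17032 (iv2 F14369) F22002 F22001
theorem F29810 : act 5 n18567 = n10551 := d6_2 F29199 D18567 (iv3 F29204)
def n18568 : Q := act 6 n8724
theorem D18568 : act 6 n8724 = n18568 := rfl
theorem F29811 : act 4 n18568 = n17985 := d10_1 D18568 (iv6 D17985) F14296
def n18569 : Q := act 6 n8725
theorem D18569 : act 6 n8725 = n18569 := rfl
theorem F29812 : act 3 n18569 = n10493 := d7_1 D18569 (iv6 D10493) (iv3 F13629)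
theorem F29813 : act 4 n18569 = n17174 := d10_1 D18569 (iv6 D17174) F13628
def n18570 : Q := act 0 n8726
theorem D18570 : act 0 n8726 = n18570 := rfl
theorem F29814 : act 5 n18570 = n13057 := d17_1 D18570 (iv1 F21779) D18006 F29168 (iv5 D13058) (iv0 F17203) (iv5 D10655) D10653 (iv4 F17197)
theorem F29815 : act 2 n10610 = n18570 := d15_3 (iv0 D18570) (iv0 F13631) (iv7 F17131)
theorem F29816 : act 1 n10653 = n18570 := d15_0 (iv0 D18570) (iv7 F22005) F22004
theorem F29817 : act 7 n18570 = n10654 := d15_2 D10653 F29816 (iv2 D10654)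
theorem F29818 : act 3 n18570 = n10688 := d0_2 D10610 F29815 (iv2 D10688) (iv3 D4892) F7095
def n18571 : Q := act 6 n8726
theorem D18571 : act 6 n8726 = n18571 := rfl
def n18572 : Q := act 0 n8727
theorem D18572 : act 0 n8727 = n18572 := rfl
def n18573 : Q := act 1 n8727
theorem D18573 : act 1 n8727 = n18573 := rfl
def n18574 : Q := act 5 n8727
theorem D18574 : act 5 n8727 = n18574 := rfl
def n18575 : Q := act 7 n8727
theorem D18575 : act 7 n8727 = n18575 := rfl
theorem F29819 : act 4 n18575 = n8731 := d11_1 D18575 (iv7 D8731) (iv4 F13632)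
def n18576 : Q := act 2 n8728
theorem D18576 : act 2 n8728 = n18576 := rfl
theorem F29820 : act 7 n8729 = n18576 := d15_2 (iv0 D8728) D8729 (iv2 D18576)
def n18577 : Q := act 3 n8728
theorem D18577 : act 3 n8728 = n18577 := rfl
def n18578 : Q := act 4 n8728
theorem D18578 : act 4 n8728 = n18578 := rfl
def n18579 : Q := act 5 n8728
theorem D18579 : act 5 n8728 = n18579 := rfl
def n18580 : Q := act 6 n8728
theorem D18580 : act 6 n8728 = n18580 := rfl
def n18581 : Q := act 7 n8728
theorem D18581 : act 7 n8728 = n18581 := rfl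
theorem F29821 : act 2 n18581 = n8729 := d4_1 D18581 F29820 (iv2 D18576)
def n18582 : Q := act 3 n8729
theorem D18582 : act 3 n8729 = n18582 := rfl
def n18583 : Q := act 4 n8729
theorem D18583 : act 4 n8729 = n18583 := rfl
def n18584 : Q := act 5 n8729
theorem D18584 : act 5 n8729 = n18584 := rfl
def n18585 : Q := act 6 n8729
theorem D18585 : act 6 n8729 = n18585 := rfl
def n18586 : Q := act 0 n8730
theorem D18586 : act 0 n8730 = n18586 := rfl
def n18587 : Q := act 1 n8730
theorem D18587 : act 1 n8730 = n18587 := rfl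
def n18588 : Q := act 4 n8730
theorem D18588 : act 4 n8730 = n18588 := rfl
theorem F29822 : act 6 n18588 = n16707 := d10_2 (iv6 F13634) D18588 (iv4 D16707)
def n18589 : Q := act 7 n8730
theorem D18589 : act 7 n8730 = n18589 := rfl
theorem F29823 : act 3 n18589 = n8745 := d8_1 D18589 (iv7 D8745) (iv3 F13633)
theorem F29824 : act 5 n18589 = n8731 := d13_1 D18589 (iv7 D8731) D8730
def n18590 : Q := act 0 n8733
theorem D18590 : act 0 n8733 = n18590 := rfl
def n18592 : Q := act 2 n8733
theorem D18592 : act 2 n8733 = n18592 := rfl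
def n18593 : Q := act 4 n8733
theorem D18593 : act 4 n8733 = n18593 := rfl
def n18594 : Q := act 5 n8733
theorem D18594 : act 5 n8733 = n18594 := rfl
theorem F29825 : act 3 n18594 = n8735 := d6_1 D18594 (iv5 D8735) D8733
def n18595 : Q := act 6 n8733
theorem D18595 : act 6 n8733 = n18595 := rfl
theorem F29826 : act 3 n18595 = n8736 := d7_1 D18595 (iv6 D8736) D8733
def n18596 : Q := act 0 n8734
theorem D18596 : act 0 n8734 = n18596 := rfl
theorem F29827 : act 1 n8739 = n18596 := d15_0 (iv0 D18596) (iv7 F29767) F29789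
def n18600 : Q := act 6 n8734
theorem D18600 : act 6 n8734 = n18600 := rfl
theorem F29829 : act 4 n18600 = n8736 := d10_1 D18600 (iv6 D8736) D8734
def n18601 : Q := act 0 n8735
theorem D18601 : act 0 n8735 = n18601 := rfl
theorem F29830 : act 5 n18601 = n17069 := d21_2 D8735 D18601 (iv6 D17069) (iv1 D7984) (iv6 D3614) (iv5 D1589) (iv1 F1619) (iv5 F1661) D1690 D3907
theorem F29831 : act 1 n8740 = n18601 := d15_0 (iv0 D18601) (iv7 F29768) (iv2 F29761)
theorem F29832 : act 0 n13066 = n17069 := d21_10 (iv5 F29830) (iv1 F29831) (iv5 D8740) D8741 F29779 (iv6 F13690) (iv5 D8815) D8813 F13688 D13066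
def n18602 : Q := act 1 n8735
theorem D18602 : act 1 n8735 = n18602 := rfl
theorem F29833 : act 1 n18602 = n8740 := d15_1 D18602 F29786 F29770
def n18603 : Q := act 4 n8735
theorem D18603 : act 4 n8735 = n18603 := rfl
def n18604 : Q := act 6 n8735
theorem D18604 : act 6 n8735 = n18604 := rfl
def n18605 : Q := act 0 n8736
theorem D18605 : act 0 n8736 = n18605 := rfl
def n18606 : Q := act 1 n8736
theorem D18606 : act 1 n8736 = n18606 := rfl
def n18607 : Q := act 0 n8738
theorem D18607 : act 0 n8738 = n18607 := rfl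
def n18608 : Q := act 1 n8738
theorem D18608 : act 1 n8738 = n18608 := rfl
def n18609 : Q := act 2 n8738
theorem D18609 : act 2 n8738 = n18609 := rfl
def n18610 : Q := act 4 n8738
theorem D18610 : act 4 n8738 = n18610 := rfl
def n18611 : Q := act 5 n8738
theorem D18611 : act 5 n8738 = n18611 := rfl
theorem F29835 : act 3 n18611 = n8740 := d6_1 D18611 (iv5 D8740) D8738
theorem F29836 : act 6 n18548 = n18611 := d7_0 F29835 (iv6 F13638) D18548
def n18612 : Q := act 6 n8738
theorem D18612 : act 6 n8738 = n18612 := rfl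
theorem F29837 : act 3 n18612 = n8741 := d7_1 D18612 (iv6 D8741) D8738
def n18615 : Q := act 6 n8739
theorem D18615 : act 6 n8739 = n18615 := rfl
theorem F29838 : act 4 n18615 = n8741 := d10_1 D18615 (iv6 D8741) D8739
def n18616 : Q := act 4 n8740
theorem D18616 : act 4 n8740 = n18616 := rfl
theorem F29839 : act 6 n18616 = n18549 := d10_2 F13638 D18616 (iv4 D18549)
def n18617 : Q := act 2 n8742
theorem D18617 : act 2 n8742 = n18617 := rfl
theorem F29840 : act 7 n8743 = n18617 := d15_2 (iv0 D8742) D8743 (iv2 D18617)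
theorem F29841 : act 5 n18617 = n17972 := d13_1 F29840 (iv7 D17972) F13639
def n18618 : Q := act 3 n8742
theorem D18618 : act 3 n8742 = n18618 := rfl
def n18619 : Q := act 4 n8742
theorem D18619 : act 4 n8742 = n18619 := rfl
def n18620 : Q := act 5 n8742
theorem D18620 : act 5 n8742 = n18620 := rfl
theorem F29842 : act 2 n18620 = n17972 := d2_1 D18620 (iv5 F29841) (iv2 D18617)
theorem F29843 : act 6 n18620 = n16834 := d21_3 D3909 D8742 D18620 (iv1 D16834) (iv6 D7850) D7849 D16828 F27582 (iv6 D8741) (iv1 D3908)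
theorem F29844 : act 7 n17954 = n18620 := d4_0 F29842 (iv7 D17972) (iv2 F29118)
theorem F29845 : act 1 n18620 = n17971 := d15_0 (iv0 D17971) D17972 (iv2 F29842)
theorem E4137 : n17984 = n16834 := ((c14_2 F29844 F29843 (iv7 D17984) (iv6 D8475) F13263 D17954)).symm
theorem F29846 : act 7 n16834 = n8475 := (sb E4137 (iv7 D17984))
theorem F29847 : act 1 n16831 = n18620 := d15_1 (iv0 F27584) (iv7 F29844) F29118
theorem E4138 : n17973 = n13070 := (c15_4 F29709 D16834 F29846 (iv2 F29143))
theorem F29848 : act 2 n13070 = n8475 := (sb E4138 F29143)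
theorem E4139 : n8471 = n6218 := ((((iv6 D13070)).symm.trans (sb E4138 (iv6 D17973)))).symm
theorem E4140 : n17950 = n2612 := ((((iv1 D6218)).symm.trans (sb E4139 (iv1 F29112)))).symm
theorem E4142 : n13067 = n3790 := (((iv2 F21790)).symm.trans (sb E4139 F13264))
theorem E4143 : n17961 = n13068 := (((D13068).symm.trans (sb E4139 (iv3 F29121)))).symm
theorem E4144 : n16087 = n13069 := (((D13069).symm.trans (sb E4139 (iv4 F29134)))).symm
theorem E4145 : n17970 = n8702 := ((((iv5 F13619)).symm.trans (sb E4139 (iv5 F29138)))).symm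
theorem E4146 : n13063 = n3789 := ((F21789).symm.trans (sb E4139 (iv7 D8471)))
theorem E4147 : n8466 = n6217 := (((D6217).symm.trans (sb E4140 (iv1 D17950)))).symm
theorem F29849 : act 2 n3790 = n6218 := (sb E4142 F21790)
theorem E4148 : n18512 = n8474 := (((D8474).symm.trans (sb E4142 F29695))).symm
theorem F29850 : act 7 n13068 = n8467 := (sb E4143 (iv7 D17961))
theorem F29851 : act 2 n13069 = n7512 := (sb E4144 F25599)
theorem F29852 : act 7 n13069 = n7511 := (sb E4144 (iv7 D16087))
theorem E4149 : n13213 = n3898 := ((((iv6 D8702)).symm.trans (sb E4145 (iv6 F29139)))).symm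
theorem E4150 : n18530 = n8469 := ((D18530).symm.trans (sb E4145 (iv7 D17970)))
theorem F29853 : act 7 n3789 = n6218 := (sb E4146 (iv7 F21789))
theorem F29854 : act 2 n6217 = n3789 := (sb E4147 (iv2 D8466))
theorem E4151 : n17951 = n13064 := (((D13064).symm.trans (sb E4147 D17951))).symm
theorem E4152 : n16082 = n13065 := (((D13065).symm.trans (sb E4147 (iv4 F29131)))).symm
theorem E4153 : n17953 = n8813 := ((((iv5 F13688)).symm.trans (sb E4147 D17953))).symm
theorem E4154 : n17954 = n13066 := (((D13066).symm.trans (sb E4147 D17954))).symm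
theorem F29855 : act 7 n6217 = n3790 := (sb E4147 (iv7 F13263))
theorem F29856 : act 2 n8474 = n8702 := (sb E4148 F29694)
theorem E4155 : n8698 = n6281 := ((((iv6 F13265)).symm.trans (sb E4148 (iv6 D18512)))).symm
theorem E4156 : n8703 = n6282 := ((D8703).symm.trans (sb E4149 (iv7 F22013)))
theorem F29857 : act 7 n8469 = n8702 := (sb E4150 (iv7 D18530))
theorem F29858 : act 7 n13064 = n8472 := (sb E4151 F29113)
theorem F29859 : act 2 n13065 = n7511 := (sb E4152 (iv2 D16082))
theorem F29860 : act 7 n13065 = n7512 := (sb E4152 (iv7 F25598))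
theorem F29861 : act 2 n8813 = n8469 := (sb E4153 F29116)
theorem F29862 : act 7 n8813 = n8474 := (sb E4153 F29117)
theorem F29863 : act 2 n13066 = n8470 := (sb E4154 F29118)
theorem F29864 : act 7 n13066 = n18620 := (sb E4154 F29844)
theorem F29865 : act 2 n6281 = n3898 := (sb E4155 (iv2 D8698))
theorem E4159 : n18509 = n13214 := (((D13214).symm.trans (sb E4155 D18509))).symm
theorem E4160 : n18510 = n13215 := (((D13215).symm.trans (sb E4155 D18510))).symm
theorem E4161 : n18511 = n13216 := (((D13216).symm.trans (sb E4155 D18511))).symm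
theorem E4162 : n13217 = n3899 := ((D13217).symm.trans (sb E4155 (iv7 F13618)))
theorem E4163 : n18519 = n13218 := (((D13218).symm.trans (sb E4156 (iv3 F29700)))).symm
theorem E4164 : n18525 = n13219 := (((D13219).symm.trans (sb E4156 (iv4 F29704)))).symm
theorem E4165 : n18529 = n13220 := (((D13220).symm.trans (sb E4156 (iv5 F29715)))).symm
theorem E4166 : n18531 = n13221 := (((D13221).symm.trans (sb E4156 D18531))).symm
theorem F29866 : act 7 n6282 = n3898 := (sb E4156 (iv7 D8703))
theorem F29867 : act 7 n13214 = n8704 := (sb E4159 F29689)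
theorem F29868 : act 2 n13215 = n8700 := (sb E4160 F29690)
theorem F29869 : act 7 n13215 = n8705 := (sb E4160 F29691)
theorem F29870 : act 2 n13216 = n8701 := (sb E4161 F29692)
theorem F29871 : act 7 n13216 = n8706 := (sb E4161 F29693)
theorem F29872 : act 2 n3899 = n6282 := (sb E4162 F22014)
theorem F29873 : act 7 n3899 = n6281 := (sb E4162 (iv7 D13217))
theorem F29874 : act 7 n13218 = n8699 := (sb E4163 (iv7 D18519))
theorem F29875 : act 2 n13219 = n8705 := (sb E4164 F29703)
theorem F29876 : act 7 n13219 = n8700 := (sb E4164 (iv7 D18525))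
theorem F29877 : act 2 n13220 = n8706 := (sb E4165 F29714)
theorem F29878 : act 7 n13220 = n8701 := (sb E4165 (iv7 D18529))
theorem F29879 : act 1 n13221 = n8821 := (sb E4166 F29727)
theorem F29880 : act 2 n13221 = n8707 := (sb E4166 F29718)
theorem F29881 : act 2 n18546 = n17969 := d4_3 F29140 F29880 D18546
theorem E4167 : n18544 = n13300 := (c15_1 D18544 (iv0 F29127) F29140 F29880)
theorem F29882 : act 0 n13300 = n8707 := (sb E4167 (iv1 D18544))
theorem F29883 : act 1 n17969 = n18543 := d15_0 (iv0 D18543) D18546 F29881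
theorem F29884 : act 2 n18528 = n17983 := d3_3 F29149 F29870 D18528
theorem F29885 : act 2 n18524 = n17980 := d3_3 F29147 F29868 D18524
theorem F29886 : act 7 n8742 = n13245 := d13_2 F29864 (iv5 D18620) (iv5 F22044)
theorem F29887 : act 1 n17972 = n17069 := d15_0 (iv0 F29832) F29864 F29842
theorem F29888 : act 2 n13245 = n8743 := d4_1 F29886 F29840 (iv2 D18617)
theorem E4168 : n18617 = n13244 := (c15_4 (iv0 D13244) D13245 (iv7 F29886) D18617)
theorem F29889 : act 2 n13244 = n8742 := (sb E4168 (iv2 D18617))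
theorem F29890 : act 5 n13244 = n17972 := (sb E4168 F29841)
theorem F29891 : act 7 n13244 = n8743 := (sb E4168 (iv7 F29840))
theorem F29892 : act 0 n18545 = n17068 := d21_7 (iv5 F29890) (iv1 F22049) F13641 (iv6 F9776) (iv1 F9778) D8707 D18545 (iv5 D17068) D17069 (iv1 F29887)
theorem F29893 : act 7 n18518 = n17959 := d8_2 F29857 (iv3 F29698) F29119
theorem F29894 : act 7 n18524 = n17968 := d11_2 F29857 (iv4 F29702) (iv4 D17968)
def n18621 : Q := act 6 n8742
theorem D18621 : act 6 n8742 = n18621 := rfl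
def n18622 : Q := act 3 n8743
theorem D18622 : act 3 n8743 = n18622 := rfl
theorem F29895 : act 5 n18622 = n17960 := d6_2 F13639 D18622 F29120
def n18623 : Q := act 4 n8743
theorem D18623 : act 4 n8743 = n18623 := rfl
def n18624 : Q := act 6 n8743
theorem D18624 : act 6 n8743 = n18624 := rfl
theorem F29896 : act 5 n18624 = n17969 := d12_1 D18624 (iv6 D17969) (iv5 D8469) D8470 F13639
theorem F29897 : act 0 n17068 = n18624 := d21_1 D17068 F29896 (iv6 D17969) F13691 F13690 (iv5 D6303) (iv1 F4239) (iv5 F5583) D7856 (iv1 F12754)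
theorem F29898 : act 0 n18624 = n17064 := d21_7 F21794 (iv1 D8800) F5861 D6307 (iv1 F13716) D17969 (iv5 F29896) (iv5 D17064) F12752 (iv1 F29711)
def n18625 : Q := act 0 n8744
theorem D18625 : act 0 n8744 = n18625 := rfl
def n18626 : Q := act 1 n8744
theorem D18626 : act 1 n8744 = n18626 := rfl
def n18627 : Q := act 3 n8744
theorem D18627 : act 3 n8744 = n18627 := rfl
theorem F29899 : act 6 n18627 = n16708 := d7_2 (iv6 F13640) D18627 (iv3 D16708)
def n18628 : Q := act 5 n8744
theorem D18628 : act 5 n8744 = n18628 := rfl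
def n18629 : Q := act 7 n8744
theorem D18629 : act 7 n8744 = n18629 := rfl
theorem F29900 : act 4 n18629 = n8745 := d11_1 D18629 (iv7 D8745) D8744
def n18630 : Q := act 6 n8745
theorem D18630 : act 6 n8745 = n18630 := rfl
theorem F29901 : act 7 n18630 = n8838 := d14_2 D8745 D18630 (iv6 D8838) F5871 (iv6 F5857)
def n18631 : Q := act 0 n8747
theorem D18631 : act 0 n8747 = n18631 := rfl
def n18632 : Q := act 1 n8747
theorem D18632 : act 1 n8747 = n18632 := rfl
theorem F29902 : act 5 n15655 = n18632 := d21_6 D7937 F27840 (iv5 D5993) D5994 D12627 (iv6 F27211) (iv1 D18632) (iv5 F26652) (iv6 D12935) (iv1 F9537)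
theorem F29903 : act 3 n18632 = n15656 := d6_1 F29902 (iv5 D15656) D15655
theorem F29904 : act 0 n16997 = n16625 := d21_7 F29902 (iv1 D18632) (iv5 F26652) (iv6 D12935) (iv1 F9537) D7938 D16997 F27117 F26668 F26664
def n18633 : Q := act 4 n8747
theorem D18633 : act 4 n8747 = n18633 := rfl
theorem F29905 : act 3 n18633 = n17749 := d5_1 D18633 F28870 (iv3 F28157) (iv4 D8748) D8747
theorem F29906 : act 0 n18633 = n11196 := d18_2 (iv1 D18632) D18633 (iv4 D11196) (iv5 D5124) (iv4 F7576) D11134 (iv4 F26647) F26646 F29902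
theorem F29907 : act 5 n17748 = n18633 := d6_0 F29905 (iv5 D17749) D17748
def n18634 : Q := act 6 n8747
theorem D18634 : act 6 n8747 = n18634 := rfl
theorem F29908 : act 3 n18634 = n8750 := d7_1 D18634 (iv6 D8750) D8747
def n18635 : Q := act 0 n8748
theorem D18635 : act 0 n8748 = n18635 := rfl
theorem F29909 : act 4 n18635 = n15374 := d18_3 D3911 D8748 D18635 F24951 D15666 (iv0 F26648) F21072 F26641 F4032
theorem F29910 : act 1 n8753 = n18635 := d15_0 (iv0 D18635) F27030 (iv2 F27031)
def n18636 : Q := act 1 n8748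
theorem D18636 : act 1 n8748 = n18636 := rfl
theorem F29911 : act 1 n18636 = n8753 := d15_1 D18636 (iv7 F27033) (iv2 F27034)
def n18637 : Q := act 5 n8748
theorem D18637 : act 5 n8748 = n18637 := rfl
theorem F29912 : act 3 n18637 = n13014 := d6_1 D18637 (iv5 F28156) (iv3 F28157)
theorem F29913 : act 7 n18637 = n17643 := d13_2 (iv7 F27030) D18637 F28721
theorem F29914 : act 4 n17911 = n18637 := d5_0 F29912 (iv4 F21658) (iv3 D8453) D8454 D17911
def n18638 : Q := act 6 n8748
theorem D18638 : act 6 n8748 = n18638 := rfl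
theorem F29915 : act 4 n18638 = n8750 := d10_1 D18638 (iv6 D8750) D8748
def n18639 : Q := act 0 n8750
theorem D18639 : act 0 n8750 = n18639 := rfl
def n18640 : Q := act 1 n8750
theorem D18640 : act 1 n8750 = n18640 := rfl
def n18641 : Q := act 7 n8750
theorem D18641 : act 7 n8750 = n18641 := rfl
def n18642 : Q := act 3 n8753
theorem D18642 : act 3 n8753 = n18642 := rfl
def n18643 : Q := act 5 n8753
theorem D18643 : act 5 n8753 = n18643 := rfl
theorem F29916 : act 2 n18643 = n17643 := d2_1 D18643 F28721 (iv2 F27031)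
def n18644 : Q := act 6 n8753
theorem D18644 : act 6 n8753 = n18644 := rfl
theorem F29917 : act 4 n18644 = n8755 := d10_1 D18644 (iv6 D8755) D8753
def n18645 : Q := act 0 n8755
theorem D18645 : act 0 n8755 = n18645 := rfl
def n18646 : Q := act 1 n8755
theorem D18646 : act 1 n8755 = n18646 := rfl
def n18647 : Q := act 5 n8755
theorem D18647 : act 5 n8755 = n18647 := rfl
def n18648 : Q := act 7 n8755
theorem D18648 : act 7 n8755 = n18648 := rfl
def n18649 : Q := act 0 n8756
theorem D18649 : act 0 n8756 = n18649 := rfl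
def n18650 : Q := act 1 n8756
theorem D18650 : act 1 n8756 = n18650 := rfl
theorem F29918 : act 1 n18650 = n8760 := d15_1 D18650 (iv7 D8760) (iv2 F13644)
def n18651 : Q := act 5 n8756
theorem D18651 : act 5 n8756 = n18651 := rfl
theorem F29919 : act 2 n18651 = n8759 := d2_1 D18651 (iv5 D8759) (iv2 F13644)
def n18652 : Q := act 7 n8756
theorem D18652 : act 7 n8756 = n18652 := rfl
theorem F29920 : act 2 n18652 = n8760 := d4_1 D18652 (iv7 D8760) (iv2 F13644)
theorem F29921 : act 1 n8760 = n18649 := d15_0 (iv0 D18649) D18652 F29920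
theorem F29922 : act 1 n8758 = n18652 := d15_1 D8758 (iv7 D18652) F13644
theorem F29923 : act 1 n18652 = n8757 := d15_0 (iv0 D8757) D8760 (iv2 F29920)
def n18653 : Q := act 2 n8757
theorem D18653 : act 2 n8757 = n18653 := rfl
theorem F29924 : act 7 n8758 = n18653 := d15_2 (iv0 D8757) D8758 (iv2 D18653)
def n18654 : Q := act 3 n8757
theorem D18654 : act 3 n8757 = n18654 := rfl
def n18655 : Q := act 4 n8757
theorem D18655 : act 4 n8757 = n18655 := rfl
def n18656 : Q := act 5 n8757
theorem D18656 : act 5 n8757 = n18656 := rfl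
def n18657 : Q := act 6 n8757
theorem D18657 : act 6 n8757 = n18657 := rfl
def n18658 : Q := act 7 n8757
theorem D18658 : act 7 n8757 = n18658 := rfl
theorem F29925 : act 2 n18658 = n8758 := d4_1 D18658 F29924 (iv2 D18653)
def n18659 : Q := act 3 n8758
theorem D18659 : act 3 n8758 = n18659 := rfl
def n18660 : Q := act 4 n8758
theorem D18660 : act 4 n8758 = n18660 := rfl
def n18661 : Q := act 5 n8758
theorem D18661 : act 5 n8758 = n18661 := rfl
def n18662 : Q := act 6 n8758
theorem D18662 : act 6 n8758 = n18662 := rfl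
def n18663 : Q := act 0 n8759
theorem D18663 : act 0 n8759 = n18663 := rfl
def n18664 : Q := act 1 n8759
theorem D18664 : act 1 n8759 = n18664 := rfl
def n18665 : Q := act 4 n8759
theorem D18665 : act 4 n8759 = n18665 := rfl
def n18666 : Q := act 7 n8759
theorem D18666 : act 7 n8759 = n18666 := rfl
theorem F29926 : act 3 n18666 = n8774 := d8_1 D18666 (iv7 D8774) (iv3 F13645)
theorem F29927 : act 5 n18666 = n8760 := d13_1 D18666 (iv7 D8760) D8759
def n18669 : Q := act 3 n8761
theorem D18669 : act 3 n8761 = n18669 := rfl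
theorem F29930 : act 7 n18669 = n8767 := d8_2 F13647 D18669 (iv3 D8767)
def n18670 : Q := act 5 n8761
theorem D18670 : act 5 n8761 = n18670 := rfl
theorem F29931 : act 2 n18670 = n8764 := d2_1 D18670 (iv5 D8764) D8761
theorem F29932 : act 7 n18670 = n8769 := d13_2 F13647 D18670 (iv5 D8769)
def n18671 : Q := act 6 n8761
theorem D18671 : act 6 n8761 = n18671 := rfl
theorem F29933 : act 2 n18671 = n8765 := d3_1 D18671 (iv6 D8765) D8761
def n18672 : Q := act 0 n8762
theorem D18672 : act 0 n8762 = n18672 := rfl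
def n18673 : Q := act 1 n8762
theorem D18673 : act 1 n8762 = n18673 := rfl
def n18674 : Q := act 2 n8762
theorem D18674 : act 2 n8762 = n18674 := rfl
def n18675 : Q := act 4 n8762
theorem D18675 : act 4 n8762 = n18675 := rfl
def n18676 : Q := act 5 n8762
theorem D18676 : act 5 n8762 = n18676 := rfl
theorem F29934 : act 3 n18676 = n8764 := d6_1 D18676 (iv5 D8764) D8762
def n18677 : Q := act 6 n8762
theorem D18677 : act 6 n8762 = n18677 := rfl
theorem F29935 : act 3 n18677 = n8765 := d7_1 D18677 (iv6 D8765) D8762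
def n18678 : Q := act 7 n8762
theorem D18678 : act 7 n8762 = n18678 := rfl
theorem F29936 : act 3 n18678 = n8766 := d8_1 D18678 (iv7 D8766) D8762
def n18679 : Q := act 0 n8764
theorem D18679 : act 0 n8764 = n18679 := rfl
theorem F29937 : act 5 n18679 = n18102 := d17_3 D3915 D8764 D18679 F29275 (iv5 F13669) (iv0 D8794) (iv5 D3922) (iv0 D1693) (iv4 F2869)
theorem E4169 : n18080 = n3417 := (c21_5 D8764 D18679 F29937 (iv6 D18102) (iv1 F29260) (iv6 D3417) (iv5 D1504) (iv1 F2162) F2160 D1692 D3915)
theorem E4170 : n8530 = n7480 := (((D7480).symm.trans (sb E4169 (iv1 D18080)))).symm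
theorem E4171 : n8535 = n7481 := (((D7481).symm.trans (sb E4169 F29260))).symm
theorem E4173 : n15983 = n13073 := ((D15983).symm.trans (sb E4170 (iv2 F29748)))
theorem E4175 : n15985 = n3809 := ((D15985).symm.trans (sb E4170 (iv4 D8530)))
theorem E4177 : n18083 = n15987 := (((D15987).symm.trans (sb E4170 D18083))).symm
theorem E4178 : n15988 = n13078 := ((D15988).symm.trans (sb E4170 (iv7 F29741)))
theorem E4180 : n15990 = n3810 := ((D15990).symm.trans (sb E4171 (iv4 D8535)))
theorem E4182 : n18102 = n15992 := (((D15992).symm.trans (sb E4171 D18102))).symm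
theorem F29938 : act 2 n13073 = n7480 := (sb E4173 (iv2 D15983))
theorem F29939 : act 7 n13073 = n7481 := (sb E4173 (iv7 F25491))
theorem F29940 : act 4 n3809 = n7480 := (sb E4175 (iv4 D15985))
theorem F29941 : act 4 n15987 = n8532 := (sb E4177 F29261)
theorem F29942 : act 2 n13078 = n7481 := (sb E4178 F25492)
theorem F29943 : act 7 n13078 = n7480 := (sb E4178 (iv7 D15988))
theorem F29944 : act 4 n3810 = n7481 := (sb E4180 (iv4 D15990))
theorem F29945 : act 4 n15992 = n8537 := (sb E4182 F29275)
theorem F29946 : act 5 n15992 = n18679 := (sb E4182 (iv5 F29937))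
theorem E4183 : n18112 = n17844 := ((c18_7 (iv1 F9695) F29944 (iv1 D7481) F5408 D3765 D8408 D17844 (iv4 D18112) F21804 F21801)).symm
theorem F29947 : act 4 n17844 = n8539 := (sb E4183 (iv4 D18112))
def n18680 : Q := act 1 n8764
theorem D18680 : act 1 n8764 = n18680 := rfl
theorem F29948 : act 1 n18680 = n8769 := d15_1 D18680 (iv7 F29932) F29931
def n18681 : Q := act 4 n8764
theorem D18681 : act 4 n8764 = n18681 := rfl
def n18682 : Q := act 6 n8764
theorem D18682 : act 6 n8764 = n18682 := rfl
def n18683 : Q := act 7 n8764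
theorem D18683 : act 7 n8764 = n18683 := rfl
theorem F29949 : act 2 n18683 = n8769 := d4_1 D18683 (iv7 F29932) F29931
theorem F29950 : act 5 n18683 = n8766 := d13_1 D18683 (iv7 D8766) D8764
theorem F29951 : act 1 n8769 = n18679 := d15_0 (iv0 D18679) D18683 F29949
def n18684 : Q := act 0 n8765
theorem D18684 : act 0 n8765 = n18684 := rfl
def n18685 : Q := act 1 n8765
theorem D18685 : act 1 n8765 = n18685 := rfl
def n18686 : Q := act 5 n8765
theorem D18686 : act 5 n8765 = n18686 := rfl
theorem F29952 : act 0 n18686 = n12824 := d21_7 (iv5 D1504) (iv1 F2162) F2160 D1692 D3915 D8765 D18686 (iv5 D12824) (iv6 D6064) F4072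
theorem F29953 : act 4 n18685 = n8800 := d17_9 (iv1 D8800) F5861 (iv1 D2642) (iv5 F4075) (iv4 F9423) D12824 (iv0 F29952) (iv5 D18686) D18685
theorem F29954 : act 0 n16808 = n18686 := d21_7 (iv5 F22066) (iv1 F22068) (iv5 F27296) (iv6 D16671) (iv1 F21235) F21232 (iv5 F27565) (iv5 D18686) (iv6 D8765) (iv1 F9811)
theorem E4184 : n17672 = n12822 := (c17_10 (iv1 F21286) (iv5 F27565) F29954 (iv5 D18686) (iv4 F28969) F13873 F13776 (iv5 F12789) F13136 D17672)
theorem F29955 : act 4 n12822 = n8323 := (sb E4184 (iv4 D17672))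
theorem E4185 : n13265 = n8850 := ((c18_1 D8850 (iv4 D13265) (iv1 F9809) F5859 (iv5 F5583) (iv4 F12398) F21286 F29955 (iv0 D8323) (iv5 F5886))).symm
theorem F29956 : act 4 n8850 = n6296 := (sb E4185 (iv4 D13265))
theorem F29957 : act 4 n13267 = n8913 := d10_3 (iv6 F13875) F29956 D13267
theorem E4186 : n13270 = n8851 := (c18_4 (iv1 F4239) (iv4 F5859) (iv1 F9803) D13270 (iv5 F13873) F28969 D18685 F29953 F13678 (iv5 D6303))
theorem F29958 : act 4 n8851 = n6297 := (sb E4186 (iv4 D13270))
theorem E4187 : n17677 = n12823 := ((c18_7 (iv1 F13776) F29958 (iv1 D6297) F4236 (iv5 F4075) (iv4 F9423) D12823 (iv4 D17677) F13133 F12789)).symm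
theorem F29959 : act 4 n12823 = n8324 := (sb E4187 (iv4 D17677))
def n18687 : Q := act 7 n8765
theorem D18687 : act 7 n8765 = n18687 := rfl
def n18688 : Q := act 6 n8766
theorem D18688 : act 6 n8766 = n18688 := rfl
theorem F29960 : act 2 n18688 = n8770 := d3_1 D18688 (iv6 D8770) (iv2 F13648)
def n18689 : Q := act 0 n8767
theorem D18689 : act 0 n8767 = n18689 := rfl
def n18690 : Q := act 1 n8767
theorem D18690 : act 1 n8767 = n18690 := rfl
def n18691 : Q := act 2 n8767
theorem D18691 : act 2 n8767 = n18691 := rfl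
def n18692 : Q := act 4 n8767
theorem D18692 : act 4 n8767 = n18692 := rfl
def n18693 : Q := act 5 n8767
theorem D18693 : act 5 n8767 = n18693 := rfl
theorem F29961 : act 3 n18693 = n8769 := d6_1 D18693 (iv5 D8769) D8767
def n18694 : Q := act 6 n8767
theorem D18694 : act 6 n8767 = n18694 := rfl
theorem F29962 : act 3 n18694 = n8770 := d7_1 D18694 (iv6 D8770) D8767
def n18695 : Q := act 4 n8769
theorem D18695 : act 4 n8769 = n18695 := rfl
def n18696 : Q := act 6 n8769
theorem D18696 : act 6 n8769 = n18696 := rfl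
def n18697 : Q := act 0 n8770
theorem D18697 : act 0 n8770 = n18697 := rfl
def n18698 : Q := act 1 n8770
theorem D18698 : act 1 n8770 = n18698 := rfl
def n18699 : Q := act 5 n8770
theorem D18699 : act 5 n8770 = n18699 := rfl
theorem F29963 : act 1 n18699 = n16085 := d17_6 D3742 D8335 D17715 F28778 F28978 D18699 (iv5 D16085) (iv0 D7511) F5415
def n18700 : Q := act 7 n8770
theorem D18700 : act 7 n8770 = n18700 := rfl
def n18701 : Q := act 2 n8771
theorem D18701 : act 2 n8771 = n18701 := rfl
theorem F29964 : act 7 n8772 = n18701 := d15_2 (iv0 D8771) D8772 (iv2 D18701)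
def n18702 : Q := act 3 n8771
theorem D18702 : act 3 n8771 = n18702 := rfl
def n18703 : Q := act 4 n8771
theorem D18703 : act 4 n8771 = n18703 := rfl
def n18704 : Q := act 5 n8771
theorem D18704 : act 5 n8771 = n18704 := rfl
theorem F29965 : act 4 n18704 = n17132 := d17_4 (iv1 D3916) D3917 D8771 D18704 (iv5 D17132) (iv0 D8014) F5662 D3971 (iv4 F28977)
def n18705 : Q := act 6 n8771
theorem D18705 : act 6 n8771 = n18705 := rfl
def n18706 : Q := act 7 n8771
theorem D18706 : act 7 n8771 = n18706 := rfl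
theorem F29966 : act 2 n18706 = n8772 := d4_1 D18706 F29964 (iv2 D18701)
def n18707 : Q := act 3 n8772
theorem D18707 : act 3 n8772 = n18707 := rfl
def n18708 : Q := act 4 n8772
theorem D18708 : act 4 n8772 = n18708 := rfl
def n18709 : Q := act 6 n8772
theorem D18709 : act 6 n8772 = n18709 := rfl
def n18710 : Q := act 0 n8773
theorem D18710 : act 0 n8773 = n18710 := rfl
def n18711 : Q := act 1 n8773
theorem D18711 : act 1 n8773 = n18711 := rfl
def n18712 : Q := act 3 n8773
theorem D18712 : act 3 n8773 = n18712 := rfl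
def n18713 : Q := act 5 n8773
theorem D18713 : act 5 n8773 = n18713 := rfl
def n18714 : Q := act 7 n8773
theorem D18714 : act 7 n8773 = n18714 := rfl
theorem F29967 : act 4 n18714 = n8774 := d11_1 D18714 (iv7 D8774) D8773
def n18715 : Q := act 6 n8774
theorem D18715 : act 6 n8774 = n18715 := rfl
def n18716 : Q := act 2 n8781
theorem D18716 : act 2 n8781 = n18716 := rfl
theorem F29968 : act 7 n8782 = n18716 := d15_2 (iv0 D8781) D8782 (iv2 D18716)
def n18717 : Q := act 3 n8781
theorem D18717 : act 3 n8781 = n18717 := rfl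
def n18718 : Q := act 4 n8781
theorem D18718 : act 4 n8781 = n18718 := rfl
def n18719 : Q := act 5 n8781
theorem D18719 : act 5 n8781 = n18719 := rfl
def n18720 : Q := act 6 n8781
theorem D18720 : act 6 n8781 = n18720 := rfl
def n18721 : Q := act 7 n8781
theorem D18721 : act 7 n8781 = n18721 := rfl
theorem F29969 : act 2 n18721 = n8782 := d4_1 D18721 F29968 (iv2 D18716)
def n18722 : Q := act 3 n8782
theorem D18722 : act 3 n8782 = n18722 := rfl
def n18723 : Q := act 4 n8782
theorem D18723 : act 4 n8782 = n18723 := rfl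
def n18724 : Q := act 5 n8782
theorem D18724 : act 5 n8782 = n18724 := rfl
def n18726 : Q := act 4 n8783
theorem D18726 : act 4 n8783 = n18726 := rfl
theorem F29970 : act 2 n18726 = n8784 := d1_1 D18726 (iv4 D8784) D8783
def n18727 : Q := act 5 n8783
theorem D18727 : act 5 n8783 = n18727 := rfl
theorem F29971 : act 2 n18727 = n8785 := d2_1 D18727 (iv5 D8785) D8783
def n18728 : Q := act 6 n8783
theorem D18728 : act 6 n8783 = n18728 := rfl
theorem F29972 : act 2 n18728 = n8786 := d3_1 D18728 (iv6 D8786) D8783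
theorem F29973 : act 5 n13289 = n18728 := d2_0 F29972 (iv5 F13662) D13289
theorem F29974 : act 7 n18727 = n18728 := d4_0 F29972 F13713 (iv2 F29971)
def n18729 : Q := act 0 n8784
theorem D18729 : act 0 n8784 = n18729 := rfl
def n18730 : Q := act 1 n8784
theorem D18730 : act 1 n8784 = n18730 := rfl
def n18731 : Q := act 3 n8784
theorem D18731 : act 3 n8784 = n18731 := rfl
theorem F29975 : act 4 n18731 = n8790 := d5_2 D8784 D18731 (iv3 D8790) (iv4 D3921) D3920
def n18732 : Q := act 5 n8784
theorem D18732 : act 5 n8784 = n18732 := rfl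
def n18733 : Q := act 6 n8784
theorem D18733 : act 6 n8784 = n18733 := rfl
theorem F29976 : act 4 n18733 = n8786 := d10_1 D18733 (iv6 D8786) D8784
def n18734 : Q := act 0 n8785
theorem D18734 : act 0 n8785 = n18734 := rfl
theorem F29977 : act 1 n18728 = n18734 := d15_0 (iv0 D18734) (iv7 F13713) (iv2 F29972)
def n18735 : Q := act 1 n8785
theorem D18735 : act 1 n8785 = n18735 := rfl
theorem F29978 : act 1 n18735 = n18728 := d15_1 D18735 (iv7 F29974) F29971
def n18736 : Q := act 4 n8785
theorem D18736 : act 4 n8785 = n18736 := rfl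
theorem F29979 : act 7 n18736 = n18733 := d11_2 F13713 D18736 F29976
def n18737 : Q := act 6 n8785
theorem D18737 : act 6 n8785 = n18737 := rfl
theorem F29980 : act 3 n18737 = n8797 := d7_1 D18737 (iv6 D8797) (iv3 F13660)
theorem F29981 : act 5 n18737 = n13291 := d12_1 D18737 (iv6 D13291) F13662 (iv6 D8786) D8785
theorem F29982 : act 7 n18737 = n13291 := d14_2 F13713 D18737 (iv6 D13291) F13699 D8786
def n18738 : Q := act 0 n8786
theorem D18738 : act 0 n8786 = n18738 := rfl
theorem F29983 : act 1 n18727 = n18738 := d15_0 (iv0 D18738) F13713 (iv2 F29971)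
def n18739 : Q := act 1 n8786
theorem D18739 : act 1 n8786 = n18739 := rfl
theorem F29984 : act 1 n18739 = n18727 := d15_1 D18739 F29974 F29972
def n18741 : Q := act 3 n8788
theorem D18741 : act 3 n8788 = n18741 := rfl
def n18742 : Q := act 4 n8788
theorem D18742 : act 4 n8788 = n18742 := rfl
def n18743 : Q := act 5 n8788
theorem D18743 : act 5 n8788 = n18743 := rfl
def n18744 : Q := act 6 n8788
theorem D18744 : act 6 n8788 = n18744 := rfl
def n18749 : Q := act 6 n8789
theorem D18749 : act 6 n8789 = n18749 := rfl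
def n18750 : Q := act 0 n8790
theorem D18750 : act 0 n8790 = n18750 := rfl
def n18751 : Q := act 1 n8790
theorem D18751 : act 1 n8790 = n18751 := rfl
def n18752 : Q := act 2 n8790
theorem D18752 : act 2 n8790 = n18752 := rfl
def n18753 : Q := act 5 n8790
theorem D18753 : act 5 n8790 = n18753 := rfl
theorem F29987 : act 3 n18753 = n8791 := d6_1 D18753 (iv5 D8791) D8790
def n18754 : Q := act 6 n8790
theorem D18754 : act 6 n8790 = n18754 := rfl
theorem F29988 : act 3 n18754 = n8792 := d7_1 D18754 (iv6 D8792) D8790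
def n18755 : Q := act 0 n8791
theorem D18755 : act 0 n8791 = n18755 := rfl
theorem F29989 : act 1 n8810 = n18755 := d15_0 (iv0 D18755) (iv7 F22096) F22095
def n18756 : Q := act 1 n8791
theorem D18756 : act 1 n8791 = n18756 := rfl
theorem F29990 : act 1 n18756 = n8810 := d15_1 D18756 (iv7 F22083) F22082
def n18757 : Q := act 4 n8791
theorem D18757 : act 4 n8791 = n18757 := rfl
def n18758 : Q := act 6 n8791
theorem D18758 : act 6 n8791 = n18758 := rfl
def n18759 : Q := act 0 n8792
theorem D18759 : act 0 n8792 = n18759 := rfl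
theorem F29991 : act 1 n13286 = n18759 := d15_0 (iv0 D18759) F13714 (iv2 F22084)
def n18760 : Q := act 1 n8792
theorem D18760 : act 1 n8792 = n18760 := rfl
theorem F29992 : act 1 n18760 = n13286 := d15_1 D18760 F22085 (iv2 F13712)
def n18761 : Q := act 5 n8792
theorem D18761 : act 5 n8792 = n18761 := rfl
def n18762 : Q := act 3 n8794
theorem D18762 : act 3 n8794 = n18762 := rfl
theorem F29993 : act 5 n18762 = n18099 := d6_2 (iv5 F13669) D18762 F29274
theorem F29994 : act 7 n18762 = n18612 := d8_2 (iv7 F29736) D18762 F29837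
def n18763 : Q := act 4 n8794
theorem D18763 : act 4 n8794 = n18763 := rfl
theorem F29995 : act 2 n18763 = n18685 := d1_1 D18763 F29953 (iv2 F29782)
theorem F29996 : act 7 n18763 = n18615 := d11_2 (iv7 F29736) D18763 F29838
theorem F29997 : act 0 n18763 = n13267 := d17_0 F27563 (iv1 D16806) (iv5 D7844) F5582 F2724 D1694 D3927 F13675 D18763
def n18764 : Q := act 6 n8794
theorem D18764 : act 6 n8794 = n18764 := rfl
theorem F29998 : act 2 n18764 = n18109 := d3_1 D18764 F29277 (iv2 F29782)
theorem F29999 : act 5 n18764 = n13081 := d12_1 D18764 F21795 (iv5 D8536) D8537 (iv5 F13669)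
theorem F30000 : act 7 n18764 = n13238 := d14_2 (iv7 F29736) D18764 (iv6 D13238) F29763 D8741
theorem F30001 : act 0 n13305 = n18764 := d21_4 D17983 F29151 (iv5 D13304) D13305 (iv6 D18764) F13669 F29270 (iv5 D12829) D12830 F29271
theorem E4188 : n18605 = n13305 := ((c15_1 (iv0 F30001) (iv0 D18605) (iv7 F29774) (iv2 F29998))).symm
theorem F30002 : act 1 n13305 = n8736 := (sb E4188 (iv0 D18605))
theorem F30003 : act 1 n18606 = n18764 := d15_1 D18606 F30000 F29771
theorem F30004 : act 1 n8826 = n13238 := d15_1 (iv0 F29712) (iv7 F30000) F29998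
def n18765 : Q := act 3 n8795
theorem D18765 : act 3 n8795 = n18765 := rfl
theorem F30005 : act 6 n18765 = n13240 := d7_2 (iv6 F29784) D18765 (iv3 D13240)
def n18766 : Q := act 4 n8795
theorem D18766 : act 4 n8795 = n18766 := rfl
theorem F30006 : act 2 n18766 = n18615 := d1_1 D18766 F29838 (iv2 F29783)
theorem F30007 : act 6 n18766 = n13241 := d10_2 (iv6 F29784) D18766 (iv4 D13241)
theorem F30008 : act 7 n18766 = n18685 := d11_2 (iv7 F29785) D18766 F29953
theorem E4189 : n18684 = n18615 := ((c15_4 (iv0 D18684) D18685 (iv7 F30008) F30006)).symm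
theorem F30009 : act 1 n18615 = n8765 := (sb E4189 (iv0 D18684))
theorem F30010 : act 1 n18766 = n13267 := d15_0 (iv0 F29997) F29996 (iv2 F30006)
def n18767 : Q := act 5 n8795
theorem D18767 : act 5 n8795 = n18767 := rfl
theorem F30011 : act 2 n18767 = n16828 := d2_1 D18767 F27582 (iv2 F29783)
theorem F30012 : act 6 n18767 = n16847 := d12_2 (iv6 F29784) D18767 F27592 F22042 (iv5 D13242)
theorem F30013 : act 7 n18767 = n13080 := d13_2 (iv7 F29785) D18767 F21794
theorem F30014 : act 0 n12829 = n18767 := d21_1 D12829 (iv5 D18767) F29784 (iv1 D6289) (iv6 D2638) F2305 F1702 D1194 D2560 D6065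
theorem F30015 : act 1 n18104 = n18767 := d15_1 D18104 F30013 F29737
theorem E4190 : n18104 = n12834 := (c21_11 (iv5 D12834) (iv1 D6066) F4075 (iv6 D1233) D1230 D2636 D6283 D13222 (iv5 F27592) (iv6 F30012) (iv1 F30015))
theorem F30016 : act 0 n12834 = n8537 := (sb E4190 (iv1 D18104))
theorem F30017 : act 1 n12834 = n18767 := (sb E4190 F30015)
theorem E4191 : n18090 = n12835 := ((c21_4 D18767 (iv1 F30017) (iv5 D12834) D12835 (iv1 F29733) F29731 F27582 F29779 (iv5 D6303) F5863 (iv1 F13670))).symm
theorem F30018 : act 0 n12835 = n18550 := (sb E4191 (iv1 F29733))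
theorem F30019 : act 1 n12835 = n8532 := (sb E4191 (iv0 D18090))
theorem F30020 : act 5 n18606 = n18086 := d21_0 (iv1 D18086) (iv5 D8531) D8532 (iv1 F30019) (iv6 D12835) D12834 F30016 (iv5 F13669) D18764 (iv1 F30003)
theorem F30021 : act 6 n18086 = n17875 := d21_3 (iv5 F29999) (iv1 F30003) F30020 (iv1 D17875) (iv6 D8429) (iv5 D3773) F3091 D2614 (iv6 F9691) D13081
def n18768 : Q := act 0 n8796
theorem D18768 : act 0 n8796 = n18768 := rfl
theorem F30022 : act 1 n8812 = n18768 := d15_0 (iv0 D18768) (iv7 F13714) F13712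
def n18769 : Q := act 1 n8796
theorem D18769 : act 1 n8796 = n18769 := rfl
theorem F30023 : act 1 n18769 = n8812 := d15_1 D18769 (iv7 F22085) F22084
def n18770 : Q := act 3 n8796
theorem D18770 : act 3 n8796 = n18770 := rfl
theorem F30024 : act 7 n18770 = n18754 := d8_2 F13714 D18770 F29988
def n18771 : Q := act 5 n8796
theorem D18771 : act 5 n8796 = n18771 := rfl
theorem F30025 : act 7 n18771 = n18761 := d13_2 F13714 D18771 (iv5 D18761)
def n18772 : Q := act 6 n8796
theorem D18772 : act 6 n8796 = n18772 := rfl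
theorem F30026 : act 4 n18772 = n8797 := d10_1 D18772 (iv6 D8797) D8796
theorem F30027 : act 7 n18772 = n13294 := d14_2 F13714 D18772 (iv6 D13294) F13701 D8792
def n18773 : Q := act 3 n8800
theorem D18773 : act 3 n8800 = n18773 := rfl
theorem F30028 : act 7 n18773 = n18765 := d8_2 F29785 D18773 (iv3 D18765)
def n18774 : Q := act 2 n8803
theorem D18774 : act 2 n8803 = n18774 := rfl
theorem F30029 : act 7 n8804 = n18774 := d15_2 (iv0 D8803) D8804 (iv2 D18774)
def n18775 : Q := act 3 n8803
theorem D18775 : act 3 n8803 = n18775 := rfl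
def n18776 : Q := act 4 n8803
theorem D18776 : act 4 n8803 = n18776 := rfl
def n18777 : Q := act 5 n8803
theorem D18777 : act 5 n8803 = n18777 := rfl
def n18779 : Q := act 7 n8803
theorem D18779 : act 7 n8803 = n18779 := rfl
theorem F30030 : act 2 n18779 = n8804 := d4_1 D18779 F30029 (iv2 D18774)
def n18780 : Q := act 3 n8804
theorem D18780 : act 3 n8804 = n18780 := rfl
def n18781 : Q := act 4 n8804
theorem D18781 : act 4 n8804 = n18781 := rfl
def n18782 : Q := act 5 n8804
theorem D18782 : act 5 n8804 = n18782 := rfl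
def n18783 : Q := act 6 n8804
theorem D18783 : act 6 n8804 = n18783 := rfl
def n18784 : Q := act 4 n8805
theorem D18784 : act 4 n8805 = n18784 := rfl
theorem F30031 : act 2 n18784 = n8806 := d1_1 D18784 (iv4 D8806) D8805
def n18785 : Q := act 5 n8805
theorem D18785 : act 5 n8805 = n18785 := rfl
theorem F30032 : act 2 n18785 = n8807 := d2_1 D18785 (iv5 D8807) D8805
theorem F30033 : act 3 n18785 = n18728 := d6_1 D18785 (iv5 F29973) F22087
theorem F30034 : act 6 n13279 = n18785 := d7_0 F30033 (iv6 D18728) (iv3 F22071)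
def n18786 : Q := act 6 n8805
theorem D18786 : act 6 n8805 = n18786 := rfl
theorem F30035 : act 2 n18786 = n8808 := d3_1 D18786 (iv6 D8808) D8805
def n18787 : Q := act 0 n8806
theorem D18787 : act 0 n8806 = n18787 := rfl
def n18788 : Q := act 1 n8806
theorem D18788 : act 1 n8806 = n18788 := rfl
def n18789 : Q := act 3 n8806
theorem D18789 : act 3 n8806 = n18789 := rfl
theorem F30036 : act 4 n18789 = n8809 := d5_2 D8806 D18789 (iv3 D8809) (iv4 D3926) D3925
def n18790 : Q := act 5 n8806
theorem D18790 : act 5 n8806 = n18790 := rfl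
def n18791 : Q := act 6 n8806
theorem D18791 : act 6 n8806 = n18791 := rfl
theorem F30037 : act 4 n18791 = n8808 := d10_1 D18791 (iv6 D8808) D8806
def n18792 : Q := act 0 n8807
theorem D18792 : act 0 n8807 = n18792 := rfl
def n18793 : Q := act 1 n8807
theorem D18793 : act 1 n8807 = n18793 := rfl
def n18794 : Q := act 4 n8807
theorem D18794 : act 4 n8807 = n18794 := rfl
theorem F30038 : act 6 n18794 = n13280 := d10_2 F13684 D18794 (iv4 D13280)
def n18795 : Q := act 0 n8808
theorem D18795 : act 0 n8808 = n18795 := rfl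
def n18796 : Q := act 1 n8808
theorem D18796 : act 1 n8808 = n18796 := rfl
def n18797 : Q := act 5 n8808
theorem D18797 : act 5 n8808 = n18797 := rfl
theorem F30039 : act 3 n18797 = n8815 := d6_1 D18797 (iv5 D8815) (iv3 F13685)
theorem F30040 : act 6 n18797 = n13281 := d12_2 D8808 D18797 (iv5 D13281) F13684 (iv5 D8807)
theorem F30041 : act 7 n8808 = n18797 := d14_0 F30040 F22078 (iv6 F13684) F13707 D8808
def n18798 : Q := act 0 n8809
theorem D18798 : act 0 n8809 = n18798 := rfl
def n18799 : Q := act 1 n8809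
theorem D18799 : act 1 n8809 = n18799 := rfl
def n18800 : Q := act 2 n8809
theorem D18800 : act 2 n8809 = n18800 := rfl
def n18801 : Q := act 5 n8809
theorem D18801 : act 5 n8809 = n18801 := rfl
theorem F30042 : act 3 n18801 = n8810 := d6_1 D18801 (iv5 D8810) D8809
def n18802 : Q := act 6 n8809
theorem D18802 : act 6 n8809 = n18802 := rfl
theorem F30043 : act 3 n18802 = n8811 := d7_1 D18802 (iv6 D8811) D8809
def n18803 : Q := act 4 n8810
theorem D18803 : act 4 n8810 = n18803 := rfl
def n18804 : Q := act 6 n8810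
theorem D18804 : act 6 n8810 = n18804 := rfl
def n18805 : Q := act 0 n8811
theorem D18805 : act 0 n8811 = n18805 := rfl
def n18806 : Q := act 1 n8811
theorem D18806 : act 1 n8811 = n18806 := rfl
theorem F30044 : act 1 n18806 = n18772 := d15_1 D18806 F30027 F22097
def n18807 : Q := act 5 n8811
theorem D18807 : act 5 n8811 = n18807 := rfl
theorem F30045 : act 1 n18807 = n15837 := d17_6 D3789 D8469 F13691 (iv5 D8815) (iv4 F13686) D18807 (iv5 D15837) (iv0 D7426) F5400
theorem E4192 : n18749 = n2890 := (c21_6 D15837 (iv1 F30045) (iv5 D18807) (iv6 D8811) (iv1 F13664) D18749 F4488 (iv1 F2427) D1498 D3399 D7426)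
theorem E4193 : n8789 = n6497 := (((D6497).symm.trans (sb E4192 (iv6 D18749)))).symm
theorem E4194 : n13676 = n3921 := ((D13676).symm.trans (sb E4193 (iv1 D8789)))
theorem E4195 : n13677 = n3926 := ((D13677).symm.trans (sb E4193 F13664))
theorem E4201 : n8904 = n8788 := (((D8788).symm.trans (sb E4194 (iv1 F22824)))).symm
theorem F30046 : act 1 n3921 = n6497 := (sb E4194 (iv0 D13676))
theorem F30047 : act 0 n3926 = n6497 := (sb E4195 (iv1 D13677))
theorem F30048 : act 2 n8788 = n13675 := (sb E4201 (iv2 F22819))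
theorem E4202 : n18742 = n3972 := ((D18742).symm.trans (sb E4201 F13871))
theorem E4203 : n18744 = n11200 := ((D18744).symm.trans (sb E4201 (iv6 F18168)))
theorem F30049 : act 7 n8788 = n3969 := (sb E4201 (iv7 D8904))
theorem F30050 : act 4 n3972 = n8788 := (sb E4202 (iv4 D18742))
theorem F30051 : act 6 n11200 = n8788 := (sb E4203 (iv6 D18744))
theorem E4204 : n16822 = n15709 := (c18_3 D3559 D7848 D16822 F25204 F12789 F30050 (iv0 D8788) (iv4 D3921) (iv0 D1693) (iv5 F2724))
theorem E4205 : n15298 = n7853 := (((iv1 F25207)).symm.trans (sb E4204 (iv1 F27581)))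
theorem E4206 : n15297 = n7848 := ((F25208).symm.trans (sb E4204 (iv0 D16822)))
theorem E4207 : n16823 = n7241 := (((iv1 F27577)).symm.trans (sb E4205 (iv1 D15298)))
theorem F30052 : act 1 n7853 = n15709 := (sb E4205 F25207)
theorem F30053 : act 0 n7848 = n15709 := (sb E4206 (iv1 F25208))
theorem F30054 : act 0 n7241 = n7848 := (sb E4207 (iv1 D16823))
theorem F30055 : act 1 n7241 = n7853 := (sb E4207 F27577)
theorem F30056 : act 1 n18771 = n15299 := d17_6 (iv1 D3560) F2724 D1693 D3922 D8796 D18771 (iv5 D15299) F30055 (iv4 D7853)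
theorem F30057 : act 7 n8900 = n18741 := d8_2 F30049 (iv3 F13869) (iv3 D18741)
theorem F30058 : act 7 n8903 = n18743 := d13_2 F30049 D8903 (iv5 D18743)
theorem F30059 : act 0 n18761 = n15708 := d21_7 (iv5 D1494) (iv1 F2428) (iv5 F4488) D6497 (iv1 F30046) D8792 D18761 (iv5 D15708) (iv6 D7382) (iv1 D3386)
theorem F30060 : act 5 n18755 = n15719 := d21_2 D8791 D18755 (iv6 D15719) (iv1 D7384) (iv6 D3387) (iv5 D1494) (iv1 F2428) (iv5 F4488) D6497 (iv1 F30046)
def n18808 : Q := act 7 n8811
theorem D18808 : act 7 n8811 = n18808 := rfl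
theorem F30061 : act 2 n18808 = n18772 := d4_1 D18808 F30027 F22097
theorem F30062 : act 4 n18808 = n8815 := d11_1 D18808 (iv7 F13692) (iv4 F13686)
theorem F30063 : act 6 n18808 = n13286 := d14_1 D18808 F22085 F13687 F13709 D8811
theorem F30064 : act 1 n18772 = n18805 := d15_0 (iv0 D18805) D18808 F30061
def n18809 : Q := act 3 n8812
theorem D18809 : act 3 n8812 = n18809 := rfl
theorem F30065 : act 6 n18809 = n13284 := d7_2 (iv6 F13687) D18809 (iv3 D13284)
def n18810 : Q := act 5 n8812
theorem D18810 : act 5 n8812 = n18810 := rfl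
theorem F30066 : act 2 n18810 = n18761 := d2_1 D18810 (iv5 D18761) F13712
def n18811 : Q := act 3 n8813
theorem D18811 : act 3 n8813 = n18811 := rfl
theorem F30067 : act 5 n18811 = n13064 := d6_2 (iv5 F13688) D18811 (iv3 D13064)
theorem F30068 : act 7 n18811 = n17978 := d8_2 (iv7 F29862) D18811 F29144
def n18812 : Q := act 4 n8813
theorem D18812 : act 4 n8813 = n18812 := rfl
theorem F30069 : act 2 n18812 = n17968 := d1_1 D18812 (iv4 D17968) (iv2 F29861)
theorem F30070 : act 7 n18812 = n17980 := d11_2 (iv7 F29862) D18812 (iv4 D17980)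
def n18813 : Q := act 4 n8816
theorem D18813 : act 4 n8816 = n18813 := rfl
theorem F30071 : act 7 n18813 = n8829 := d11_2 (iv7 F13717) D18813 (iv4 D8829)
def n18815 : Q := act 1 n8817
theorem D18815 : act 1 n8817 = n18815 := rfl
theorem F30073 : act 1 n18815 = n8822 := d15_1 D18815 (iv7 D8822) D8817
def n18816 : Q := act 3 n8817
theorem D18816 : act 3 n8817 = n18816 := rfl
theorem F30074 : act 7 n18816 = n8823 := d8_2 F13718 D18816 (iv3 D8823)
def n18817 : Q := act 4 n8817
theorem D18817 : act 4 n8817 = n18817 := rfl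
theorem F30075 : act 2 n18817 = n8819 := d1_1 D18817 (iv4 D8819) D8817
theorem F30076 : act 7 n18817 = n8824 := d11_2 F13718 D18817 (iv4 D8824)
def n18818 : Q := act 5 n8817
theorem D18818 : act 5 n8817 = n18818 := rfl
theorem F30077 : act 2 n18818 = n8820 := d2_1 D18818 (iv5 D8820) D8817
theorem F30078 : act 7 n18818 = n8825 := d13_2 F13718 D18818 (iv5 D8825)
def n18819 : Q := act 6 n8817
theorem D18819 : act 6 n8817 = n18819 := rfl
theorem F30079 : act 2 n18819 = n8821 := d3_1 D18819 (iv6 D8821) D8817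
def n18820 : Q := act 0 n8818
theorem D18820 : act 0 n8818 = n18820 := rfl
def n18822 : Q := act 2 n8818
theorem D18822 : act 2 n8818 = n18822 := rfl
def n18823 : Q := act 4 n8818
theorem D18823 : act 4 n8818 = n18823 := rfl
def n18824 : Q := act 5 n8818
theorem D18824 : act 5 n8818 = n18824 := rfl
theorem F30080 : act 3 n18824 = n8820 := d6_1 D18824 (iv5 D8820) D8818
def n18825 : Q := act 6 n8818
theorem D18825 : act 6 n8818 = n18825 := rfl
theorem F30081 : act 3 n18825 = n8821 := d7_1 D18825 (iv6 D8821) D8818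
def n18826 : Q := act 7 n8818
theorem D18826 : act 7 n8818 = n18826 := rfl
theorem F30082 : act 3 n18826 = n8822 := d8_1 D18826 (iv7 D8822) D8818
def n18827 : Q := act 0 n8819
theorem D18827 : act 0 n8819 = n18827 := rfl
def n18831 : Q := act 6 n8819
theorem D18831 : act 6 n8819 = n18831 := rfl
theorem F30084 : act 4 n18831 = n8821 := d10_1 D18831 (iv6 D8821) D8819
def n18832 : Q := act 7 n8819
theorem D18832 : act 7 n8819 = n18832 := rfl
theorem F30085 : act 2 n18832 = n8824 := d4_1 D18832 (iv7 F30076) F30075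
theorem F30086 : act 4 n18832 = n8822 := d11_1 D18832 (iv7 D8822) D8819
theorem F30087 : act 1 n8824 = n18827 := d15_0 (iv0 D18827) D18832 F30085
def n18833 : Q := act 1 n8820
theorem D18833 : act 1 n8820 = n18833 := rfl
theorem F30088 : act 1 n18833 = n8825 := d15_1 D18833 (iv7 F30078) F30077
theorem F30089 : act 7 n18833 = n17983 := d15_2 (iv0 F29713) D18833 (iv2 F29884)
theorem F30090 : act 5 n16834 = n18833 := d13_3 F30089 (iv5 D17983) (iv7 F29846)
def n18834 : Q := act 4 n8820
theorem D18834 : act 4 n8820 = n18834 := rfl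
def n18835 : Q := act 6 n8820
theorem D18835 : act 6 n8820 = n18835 := rfl
def n18836 : Q := act 7 n8820
theorem D18836 : act 7 n8820 = n18836 := rfl
theorem F30091 : act 2 n18836 = n8825 := d4_1 D18836 (iv7 F30078) F30077
theorem F30092 : act 5 n18836 = n8822 := d13_1 D18836 (iv7 D8822) D8820
def n18837 : Q := act 7 n8821
theorem D18837 : act 7 n8821 = n18837 := rfl
def n18838 : Q := act 6 n8822
theorem D18838 : act 6 n8822 = n18838 := rfl
theorem F30093 : act 2 n18838 = n8826 := d3_1 D18838 (iv6 D8826) (iv2 F13719)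
def n18839 : Q := act 0 n8823
theorem D18839 : act 0 n8823 = n18839 := rfl
def n18840 : Q := act 1 n8823
theorem D18840 : act 1 n8823 = n18840 := rfl
def n18841 : Q := act 2 n8823
theorem D18841 : act 2 n8823 = n18841 := rfl
def n18842 : Q := act 4 n8823
theorem D18842 : act 4 n8823 = n18842 := rfl
def n18843 : Q := act 5 n8823
theorem D18843 : act 5 n8823 = n18843 := rfl
theorem F30094 : act 3 n18843 = n8825 := d6_1 D18843 (iv5 D8825) D8823
def n18844 : Q := act 6 n8823
theorem D18844 : act 6 n8823 = n18844 := rfl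
theorem F30095 : act 3 n18844 = n8826 := d7_1 D18844 (iv6 D8826) D8823
def n18847 : Q := act 6 n8824
theorem D18847 : act 6 n8824 = n18847 := rfl
theorem F30096 : act 4 n18847 = n8826 := d10_1 D18847 (iv6 D8826) D8824
def n18848 : Q := act 4 n8825
theorem D18848 : act 4 n8825 = n18848 := rfl
def n18849 : Q := act 5 n8826
theorem D18849 : act 5 n8826 = n18849 := rfl
theorem F30097 : act 0 n18849 = n13079 := d21_7 (iv5 D7849) (iv1 F9429) F9426 D6308 (iv1 F9817) D8826 D18849 (iv5 D13079) D13080 F29710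
theorem F30098 : act 0 n13074 = n18849 := d21_1 D13074 (iv5 D18849) (iv6 D8826) (iv1 D3931) (iv6 D1696) F1662 (iv1 F1403) D1223 D2613 D6220
def n18850 : Q := act 7 n8826
theorem D18850 : act 7 n8826 = n18850 := rfl
def n18851 : Q := act 2 n8827
theorem D18851 : act 2 n8827 = n18851 := rfl
theorem F30099 : act 7 n8828 = n18851 := d15_2 (iv0 D8827) D8828 (iv2 D18851)
def n18852 : Q := act 3 n8827
theorem D18852 : act 3 n8827 = n18852 := rfl
def n18853 : Q := act 4 n8827
theorem D18853 : act 4 n8827 = n18853 := rfl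
def n18854 : Q := act 6 n8827
theorem D18854 : act 6 n8827 = n18854 := rfl
def n18855 : Q := act 7 n8827
theorem D18855 : act 7 n8827 = n18855 := rfl
theorem F30100 : act 2 n18855 = n8828 := d4_1 D18855 F30099 (iv2 D18851)
def n18856 : Q := act 3 n8828
theorem D18856 : act 3 n8828 = n18856 := rfl
def n18857 : Q := act 4 n8828
theorem D18857 : act 4 n8828 = n18857 := rfl
def n18858 : Q := act 6 n8828
theorem D18858 : act 6 n8828 = n18858 := rfl
def n18859 : Q := act 0 n8829
theorem D18859 : act 0 n8829 = n18859 := rfl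
def n18860 : Q := act 1 n8829
theorem D18860 : act 1 n8829 = n18860 := rfl
def n18861 : Q := act 3 n8829
theorem D18861 : act 3 n8829 = n18861 := rfl
theorem F30101 : act 6 n18861 = n8843 := d7_2 (iv6 F13720) D18861 (iv3 D8843)
def n18862 : Q := act 5 n8829
theorem D18862 : act 5 n8829 = n18862 := rfl
def n18863 : Q := act 0 n8832
theorem D18863 : act 0 n8832 = n18863 := rfl
theorem F30102 : act 5 n18863 = n16690 := d21_2 D8832 D18863 F27349 (iv1 D16690) (iv6 D7777) (iv5 F5852) (iv1 F7272) (iv5 D4669) D4670 F16846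
theorem F30103 : act 2 n16696 = n18863 := d2_3 F30102 (iv2 F27350) D16696
theorem F30104 : act 7 n16694 = n18863 := d13_0 F30102 F27347 D16694
def n18864 : Q := act 1 n8832
theorem D18864 : act 1 n8832 = n18864 := rfl
theorem F30105 : act 7 n18864 = n16696 := d15_2 (iv0 D18863) D18864 F30103
theorem F30106 : act 5 n18864 = n9471 := d17_7 F16883 F13986 (iv1 D8995) (iv5 D4018) (iv4 F5866) D8832 D18864 (iv0 F14687) F12249
theorem F30107 : act 2 n16694 = n18864 := d2_3 F30106 F14734 D16694
def n18865 : Q := act 4 n8832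
theorem D18865 : act 4 n8832 = n18865 := rfl
def n18866 : Q := act 3 n8833
theorem D18866 : act 3 n8833 = n18866 := rfl
def n18867 : Q := act 1 n8836
theorem D18867 : act 1 n8836 = n18867 := rfl
theorem F30108 : act 1 n18867 = n16702 := d15_1 D18867 (iv7 F29160) F29159
theorem F30109 : act 7 n18867 = n16706 := d15_2 (iv0 F29224) D18867 (iv2 F29221)
theorem F30110 : act 5 n8858 = n18867 := d21_0 (iv1 D18867) (iv5 D8836) (iv6 F12899) F28186 F28183 (iv5 F28188) (iv1 F29162) (iv5 D18002) (iv6 F28300) (iv1 F28303)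
theorem F30111 : act 2 n18867 = n16705 := d2_1 F30110 F28188 (iv2 F28187)
def n18868 : Q := act 4 n8836
theorem D18868 : act 4 n8836 = n18868 := rfl
theorem F30112 : act 7 n18868 = n16707 := d11_2 (iv7 F13735) D18868 (iv4 D16707)
def n18869 : Q := act 6 n8836
theorem D18869 : act 6 n8836 = n18869 := rfl
theorem F30113 : act 3 n18869 = n8838 := d7_1 D18869 (iv6 D8838) (iv3 F13734)
def n18870 : Q := act 3 n8837
theorem D18870 : act 3 n8837 = n18870 := rfl
theorem F30114 : act 5 n18870 = n16698 := d6_2 (iv5 F13737) D18870 (iv3 D16698)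
theorem F30115 : act 7 n18870 = n16708 := d8_2 (iv7 F13736) D18870 (iv3 D16708)
def n18871 : Q := act 6 n8837
theorem D18871 : act 6 n8837 = n18871 := rfl
theorem F30116 : act 4 n18871 = n8838 := d10_1 D18871 (iv6 D8838) D8837
def n18872 : Q := act 1 n8838
theorem D18872 : act 1 n8838 = n18872 := rfl
def n18873 : Q := act 4 n8839
theorem D18873 : act 4 n8839 = n18873 := rfl
def n18874 : Q := act 6 n8839
theorem D18874 : act 6 n8839 = n18874 := rfl
theorem F30117 : act 3 n18874 = n8841 := d7_1 D18874 (iv6 D8841) D8839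
theorem F30118 : act 5 n18874 = n18869 := d12_1 D18874 (iv6 D18869) (iv5 D8836) (iv6 F12899) (iv5 F13740)
def n18875 : Q := act 3 n8840
theorem D18875 : act 3 n8840 = n18875 := rfl
theorem F30119 : act 5 n18875 = n18866 := d6_2 (iv5 F13741) D18875 (iv3 D18866)
def n18876 : Q := act 6 n8840
theorem D18876 : act 6 n8840 = n18876 := rfl
theorem F30120 : act 4 n18876 = n8841 := d10_1 D18876 (iv6 D8841) D8840
def n18877 : Q := act 0 n8841
theorem D18877 : act 0 n8841 = n18877 := rfl
def n18878 : Q := act 1 n8841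
theorem D18878 : act 1 n8841 = n18878 := rfl
theorem F30121 : act 1 n18878 = n18559 := d15_1 D18878 F29794 F22124
def n18879 : Q := act 7 n8841
theorem D18879 : act 7 n8841 = n18879 := rfl
theorem F30122 : act 2 n18879 = n18559 := d4_1 D18879 F29794 F22124
theorem F30123 : act 5 n18879 = n18630 := d13_1 D18879 F29901 (iv5 F13744)
theorem F30124 : act 6 n18879 = n13225 := d14_1 D18879 (iv7 D13225) F9774 F5897 D8841
theorem F30125 : act 1 n18559 = n18877 := d15_0 (iv0 D18877) D18879 F30122
def n18880 : Q := act 3 n8842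
theorem D18880 : act 3 n8842 = n18880 := rfl
theorem F30126 : act 5 n18880 = n12985 := d6_2 (iv5 F13748) D18880 (iv3 D12985)
theorem F30127 : act 7 n18880 = n12906 := d8_2 (iv7 F13746) D18880 (iv3 D12906)
def n18881 : Q := act 6 n8842
theorem D18881 : act 6 n8842 = n18881 := rfl
theorem F30128 : act 2 n18881 = n17361 := d3_1 D18881 (iv6 D17361) F13749
theorem F30129 : act 4 n18881 = n12908 := d10_1 D18881 (iv6 D12908) (iv4 F13747)
def n18882 : Q := act 0 n8843
theorem D18882 : act 0 n8843 = n18882 := rfl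
def n18883 : Q := act 1 n8843
theorem D18883 : act 1 n8843 = n18883 := rfl
def n18884 : Q := act 2 n8843
theorem D18884 : act 2 n8843 = n18884 := rfl
def n18885 : Q := act 6 n8845
theorem D18885 : act 6 n8845 = n18885 := rfl
theorem F30130 : act 2 n18885 = n8849 := d3_1 D18885 (iv6 D8849) (iv2 F13753)
theorem F30131 : act 3 n18885 = n8878 := d7_1 D18885 (iv6 D8878) (iv3 F13754)
theorem F30132 : act 5 n18885 = n17663 := d12_1 D18885 (iv6 D17663) F13126 F9464 D8845
def n18886 : Q := act 4 n8846
theorem D18886 : act 4 n8846 = n18886 := rfl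
theorem F30133 : act 2 n18886 = n17081 := d1_1 D18886 (iv4 D17081) (iv2 F13765)
theorem F30134 : act 7 n18886 = n17077 := d11_2 (iv7 F13766) D18886 (iv4 D17077)
theorem F30135 : act 0 n18886 = n17992 := d18_2 D8846 D18886 (iv4 D17992) (iv5 D8486) (iv4 F13098) F13101 (iv4 F6451) (iv0 D3939) D3942
theorem F30136 : act 1 n18886 = n18129 := d18_6 (iv1 F12769) (iv4 F13786) (iv1 F13789) (iv4 F12344) F13764 D18886 (iv4 D18129) (iv0 F28019) (iv5 D17075)
def n18887 : Q := act 6 n8846
theorem D18887 : act 6 n8846 = n18887 := rfl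
theorem F30137 : act 2 n18887 = n17082 := d3_1 D18887 (iv6 D17082) (iv2 F13765)
def n18888 : Q := act 4 n8847
theorem D18888 : act 4 n8847 = n18888 := rfl
theorem F30138 : act 2 n18888 = n17077 := d1_1 D18888 (iv4 D17077) F13762
theorem F30139 : act 7 n18888 = n17081 := d11_2 F13763 D18888 (iv4 D17081)
theorem F30140 : act 0 n18888 = n18129 := d18_2 (iv1 F13760) D18888 (iv4 D18129) (iv5 D8546) (iv4 F9669) (iv0 F9671) F6434 F5881 (iv5 F12872)
theorem F30141 : act 1 n18888 = n17992 := d18_6 (iv1 F12814) (iv4 F12811) F12812 (iv4 F12340) (iv5 F13761) D18888 (iv4 D17992) F28021 (iv5 F7230)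
def n18889 : Q := act 6 n8847
theorem D18889 : act 6 n8847 = n18889 := rfl
theorem F30142 : act 2 n18889 = n17078 := d3_1 D18889 (iv6 D17078) F13762
def n18890 : Q := act 5 n8848
theorem D18890 : act 5 n8848 = n18890 := rfl
theorem F30143 : act 7 n18890 = n17248 := d13_2 (iv7 F13773) D18890 (iv5 D17248)
def n18891 : Q := act 6 n8848
theorem D18891 : act 6 n8848 = n18891 := rfl
theorem F30144 : act 4 n18891 = n8849 := d10_1 D18891 (iv6 D8849) D8848
def n18892 : Q := act 0 n8849
theorem D18892 : act 0 n8849 = n18892 := rfl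
def n18893 : Q := act 1 n8849
theorem D18893 : act 1 n8849 = n18893 := rfl
def n18894 : Q := act 7 n8849
theorem D18894 : act 7 n8849 = n18894 := rfl
theorem F30145 : act 3 n18894 = n8852 := d8_1 D18894 (iv7 D8852) (iv3 F13774)
theorem F30146 : act 5 n18894 = n17669 := d13_1 D18894 (iv7 D17669) (iv5 F13775)
theorem F30147 : act 6 n18894 = n17253 := d14_1 D18894 (iv7 D17253) (iv6 D8092) (iv7 F5884) D8849
def n18895 : Q := act 2 n8850
theorem D18895 : act 2 n8850 = n18895 := rfl
theorem F30149 : act 7 n8851 = n18895 := d15_2 (iv0 D8850) D8851 (iv2 D18895)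
def n18896 : Q := act 3 n8850
theorem D18896 : act 3 n8850 = n18896 := rfl
def n18897 : Q := act 7 n8850
theorem D18897 : act 7 n8850 = n18897 := rfl
theorem F30150 : act 2 n18897 = n8851 := d4_1 D18897 F30149 (iv2 D18895)
theorem F30151 : act 4 n18897 = n13268 := d11_1 D18897 (iv7 D13268) (iv4 F29956)
def n18898 : Q := act 3 n8851
theorem D18898 : act 3 n8851 = n18898 := rfl
def n18899 : Q := act 6 n8851
theorem D18899 : act 6 n8851 = n18899 := rfl
theorem F30153 : act 5 n18899 = n17293 := d12_1 D18899 (iv6 F28239) (iv5 D8908) D8909 F13873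
def n18900 : Q := act 5 n8856
theorem D18900 : act 5 n8856 = n18900 := rfl
theorem F30154 : act 2 n18900 = n8859 := d2_1 D18900 (iv5 D8859) (iv2 F13792)
theorem F30155 : act 3 n18900 = n16691 := d6_1 D18900 (iv5 D16691) (iv3 F13793)
theorem F30156 : act 7 n18900 = n18003 := d13_2 F28301 D18900 (iv5 F29164)
theorem F30157 : act 0 n18900 = n16701 := d21_1 D18900 (iv5 D16701) (iv6 D7790) (iv1 D3533) D3535 D7794 D16705 F28188 F28183 F28185
theorem F30158 : act 0 n13046 = n18900 := d21_1 D13046 (iv5 D18900) (iv6 D8856) F5893 D7790 D16701 F27381 F13740 F12899 (iv1 F16996)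
def n18901 : Q := act 3 n8858
theorem D18901 : act 3 n8858 = n18901 := rfl
theorem F30159 : act 2 n18901 = n16717 := d0_1 D18901 (iv3 F28131) F28128 D17232 (iv2 F28187)
theorem F30160 : act 4 n18901 = n16717 := d5_2 F28127 D18901 (iv3 F28131) (iv4 D17172) D17171
theorem F30161 : act 6 n18901 = n18901 := d7_2 F21698 D18901 (iv3 D18901)
theorem F30162 : act 7 n18901 = n16716 := d8_2 (iv7 F21697) D18901 (iv3 F28176)
theorem F30163 : act 1 n16715 = n18901 := d15_1 (iv0 F28177) F30162 F28178
theorem F30164 : act 1 n18901 = n16719 := d15_1 F30163 (iv7 D16719) (iv2 F27414)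
def n18902 : Q := act 4 n8859
theorem D18902 : act 4 n8859 = n18902 := rfl
theorem F30165 : act 7 n18902 = n18873 := d11_2 (iv7 F13796) D18902 (iv4 D18873)
def n18903 : Q := act 3 n8860
theorem D18903 : act 3 n8860 = n18903 := rfl
theorem F30166 : act 7 n18903 = n18875 := d8_2 (iv7 F13800) D18903 (iv3 D18875)
def n18904 : Q := act 6 n8862
theorem D18904 : act 6 n8862 = n18904 := rfl
theorem F30167 : act 2 n18904 = n17504 := d3_1 D18904 F28492 (iv2 F13886)
theorem F30168 : act 3 n18904 = n8863 := d7_1 D18904 (iv6 D8863) D8862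
theorem F30169 : act 4 n18904 = n9347 := d10_1 D18904 (iv6 D9347) (iv4 F13804)
theorem F30170 : act 7 n18904 = n10294 := d14_2 (iv7 F13806) D18904 (iv6 D10294) F6763 (iv6 F16792)
theorem F30171 : act 0 n8929 = n18904 := d21_4 D9003 F14003 (iv5 D8928) D8929 (iv6 D18904) F13805 F13809 (iv5 D4036) F7178 D4033
theorem F30172 : act 1 n9334 = n18904 := d15_0 (iv0 F30171) (iv7 F14169) (iv2 F14531)
def n18905 : Q := act 5 n8863
theorem D18905 : act 5 n8863 = n18905 := rfl
theorem F30173 : act 2 n18905 = n16689 := d2_1 D18905 (iv5 D16689) (iv2 F13811)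
theorem F30174 : act 6 n18905 = n17924 := d12_2 D8863 D18905 (iv5 D17924) (iv6 D8458) (iv5 F6932)
theorem F30175 : act 7 n18905 = n10299 := d13_2 F16847 D18905 (iv5 D10299)
theorem F30176 : act 0 n18905 = n13311 := d17_2 (iv1 F16816) D18905 F22116 F12252 (iv5 F7521) (iv0 F16807) (iv5 D8989) (iv0 F7085) (iv4 F16811)
theorem F30177 : act 0 n16691 = n18905 := d21_1 D16691 (iv5 D18905) (iv6 D8863) (iv1 D3950) (iv6 F5867) D8832 D18863 F30102 F27349 (iv1 D16690)
def n18906 : Q := act 4 n8864
theorem D18906 : act 4 n8864 = n18906 := rfl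
theorem F30178 : act 2 n18906 = n8890 := d1_1 D18906 F13857 (iv2 F13816)
theorem F30179 : act 5 n18906 = n9088 := d9_2 D8864 D18906 (iv4 D9088) (iv5 D4085) (iv4 D1761) (iv5 D931) (iv4 F1708) D1717 D3964 D8888 (iv4 F17265) (iv5 D10738) F7331 F3351 (iv4 F5909)
theorem F30180 : act 7 n18906 = n8877 := d11_2 (iv7 F13818) D18906 (iv4 D8877)
theorem F30181 : act 0 n18906 = n8886 := d18_2 (iv1 F13819) D18906 (iv4 F14004) (iv5 D8928) (iv4 D3981) F3060 D4217 (iv0 F6117) (iv5 F7337)
theorem F30182 : act 1 n18906 = n8885 := d18_6 F6471 (iv4 D1748) D1745 (iv4 F5909) D8864 D18906 (iv4 F13896) F13895 (iv5 D8443)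
def n18907 : Q := act 6 n8864
theorem D18907 : act 6 n8864 = n18907 := rfl
theorem F30183 : act 2 n18907 = n8894 := d3_1 D18907 (iv6 D8894) (iv2 F13816)
theorem F30184 : act 3 n18907 = n17246 := d7_1 D18907 (iv6 D17246) (iv3 F13817)
def n18908 : Q := act 0 n8866
theorem D18908 : act 0 n8866 = n18908 := rfl
theorem F30185 : act 4 n18908 = n10303 := d18_3 (iv1 F7184) D8866 D18908 F16381 F12242 F13976 F13973 (iv0 F6055) (iv5 F5742)
theorem F30186 : act 1 n8870 = n18908 := d15_0 (iv0 D18908) (iv7 F16726) F16725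
theorem F30187 : act 7 n17917 = n18908 := d11_0 F30185 F16382 D17917
def n18909 : Q := act 1 n8866
theorem D18909 : act 1 n8866 = n18909 := rfl
theorem F30188 : act 1 n18909 = n8870 := d15_1 D18909 (iv7 F16631) F16630
theorem F30189 : act 4 n18909 = n13090 := d18_7 F6667 (iv4 D4597) (iv1 F6528) F6530 D3955 D8866 D18909 F21821 F14061
theorem F30190 : act 2 n17917 = n18909 := d1_3 F30189 (iv2 F21824) D17917
def n18910 : Q := act 6 n8866
theorem D18910 : act 6 n8866 = n18910 := rfl
theorem F30191 : act 4 n18910 = n8867 := d10_1 D18910 (iv6 D8867) D8866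
def n18911 : Q := act 0 n8867
theorem D18911 : act 0 n8867 = n18911 := rfl
def n18912 : Q := act 1 n8867
theorem D18912 : act 1 n8867 = n18912 := rfl
def n18913 : Q := act 7 n8867
theorem D18913 : act 7 n8867 = n18913 := rfl
theorem F30192 : act 5 n18913 = n18913 := d13_1 D18913 (iv7 D18913) F13827
def n18914 : Q := act 4 n8868
theorem D18914 : act 4 n8868 = n18914 := rfl
theorem F30193 : act 2 n18914 = n18015 := d1_1 D18914 F29189 F16670
theorem F30194 : act 7 n18914 = n18014 := d11_2 F16629 D18914 F29184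
theorem F30195 : act 0 n18914 = n13055 := d18_2 (iv1 F16667) D18914 (iv4 D13055) F14051 (iv4 F5664) (iv0 F6043) (iv4 F14267) (iv0 F14270) F13459
theorem F30196 : act 1 n18914 = n13052 := d18_6 D2608 D6205 F9666 F6871 D8868 D18914 (iv4 D13052) (iv0 D6213) (iv5 D2611)
def n18915 : Q := act 6 n8868
theorem D18915 : act 6 n8868 = n18915 := rfl
theorem F30197 : act 3 n18915 = n8871 := d7_1 D18915 (iv6 D8871) (iv3 F13828)
def n18916 : Q := act 5 n8869
theorem D18916 : act 5 n8869 = n18916 := rfl
theorem F30198 : act 3 n18916 = n8874 := d6_1 D18916 (iv5 D8874) (iv3 F13829)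
theorem F30199 : act 7 n18916 = n18916 := d13_2 F13830 D18916 (iv5 D18916)
theorem F30200 : act 0 n18916 = n18053 := d17_2 F17623 D18916 (iv5 D18053) (iv4 D8517) D8518 F17000 (iv5 D3808) D3807 D8522
theorem F30201 : act 0 n18059 = n18916 := d21_1 D18059 (iv5 D18916) (iv6 D8869) F6765 (iv6 F16984) D16699 F27375 F16672 D10470 (iv1 F17625)
def n18917 : Q := act 3 n8870
theorem D18917 : act 3 n8870 = n18917 := rfl
def n18918 : Q := act 5 n8870
theorem D18918 : act 5 n8870 = n18918 := rfl
theorem F30202 : act 4 n18918 = n9086 := d9_1 D18918 F14417 F14413 (iv5 D4740) F6530 D3955 D8866 F28471 F28470 F14358 (iv4 D9198) F7137 F6535 D3959 D8870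
def n18919 : Q := act 6 n8870
theorem D18919 : act 6 n8870 = n18919 := rfl
theorem F30203 : act 4 n18919 = n8871 := d10_1 D18919 (iv6 D8871) D8870
def n18920 : Q := act 0 n8871
theorem D18920 : act 0 n8871 = n18920 := rfl
def n18921 : Q := act 1 n8871
theorem D18921 : act 1 n8871 = n18921 := rfl
def n18922 : Q := act 5 n8871
theorem D18922 : act 5 n8871 = n18922 := rfl
theorem F30204 : act 6 n18922 = n8874 := d12_2 D8871 D18922 (iv5 D8874) (iv6 D3960) D3959
def n18923 : Q := act 7 n8871
theorem D18923 : act 7 n8871 = n18923 := rfl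
def n18924 : Q := act 4 n8874
theorem D18924 : act 4 n8874 = n18924 := rfl
def n18925 : Q := act 3 n8875
theorem D18925 : act 3 n8875 = n18925 := rfl
theorem F30206 : act 2 n18925 = n9163 := d0_1 D18925 F14289 (iv2 F13850) (iv3 D8879) F13836
theorem F30207 : act 5 n18925 = n9154 := d6_2 (iv5 F13834) D18925 (iv3 D9154)
theorem F30208 : act 7 n18925 = n8882 := d8_2 F13837 D18925 (iv3 D8882)
theorem F30209 : act 4 n18925 = n17986 := d20_6 (iv4 F28199) (iv1 F29468) F29470 F13754 D8875 D18925 (iv1 F29152) (iv4 D8488) (iv3 F13269) (iv1 F28020)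
theorem F30210 : act 0 n12951 = n18925 := d18_0 F30209 (iv1 F29152) (iv4 D8488) (iv5 D3798) (iv4 F5732) (iv0 F5733) (iv4 F6850) (iv0 F9629) (iv5 F21534)
theorem F30211 : act 1 n13042 = n18925 := d15_0 (iv0 F30210) F21535 (iv2 F21734)
def n18926 : Q := act 4 n8875
theorem D18926 : act 4 n8875 = n18926 := rfl
theorem F30212 : act 2 n18926 = n8880 := d1_1 D18926 (iv4 D8880) F13836
theorem F30213 : act 7 n18926 = n8883 := d11_2 F13837 D18926 (iv4 D8883)
theorem F30214 : act 1 n18926 = n17895 := d18_6 F12243 F12242 (iv1 D4112) D4114 (iv5 F13834) D18926 (iv4 D17895) F14039 (iv5 D8928)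
def n18927 : Q := act 6 n8875
theorem D18927 : act 6 n8875 = n18927 := rfl
theorem F30215 : act 2 n18927 = n8881 := d3_1 D18927 (iv6 D8881) F13836
def n18928 : Q := act 4 n8876
theorem D18928 : act 4 n8876 = n18928 := rfl
theorem F30216 : act 2 n18928 = n8883 := d1_1 D18928 (iv4 D8883) F13841
theorem F30217 : act 3 n18928 = n17765 := d5_1 D18928 F28902 (iv3 D8647) (iv4 F7224) F13842
theorem F30218 : act 7 n18928 = n8880 := d11_2 (iv7 F13839) D18928 (iv4 D8880)
theorem F30219 : act 5 n18928 = n17764 := d16_1 D18928 F28900 (iv5 D10643) (iv4 D4876) (iv5 F7102) D4114 (iv5 F13834) (iv7 F13837) F13841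
theorem F30220 : act 0 n18928 = n17895 := d18_2 (iv1 F13838) D18928 (iv4 D17895) (iv5 D8443) F5785 F6717 F6715 (iv0 F3302) (iv5 F5918)
def n18929 : Q := act 6 n8876
theorem D18929 : act 6 n8876 = n18929 := rfl
theorem F30221 : act 2 n18929 = n8884 := d3_1 D18929 (iv6 D8884) F13841
theorem F30222 : act 3 n18929 = n9186 := d7_1 D18929 (iv6 D9186) F13842
def n18930 : Q := act 1 n8877
theorem D18930 : act 1 n8877 = n18930 := rfl
theorem F30223 : act 1 n18930 = n8890 := d15_1 D18930 (iv7 D8890) (iv2 F13843)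
theorem F30224 : act 7 n18930 = n8885 := d15_2 F21920 D18930 (iv2 F21917)
theorem F30225 : act 4 n18930 = n9328 := d18_7 F6764 F5977 F6416 (iv4 F2927) D3961 D8877 D18930 (iv0 F16316) (iv5 D10293)
theorem F30226 : act 2 n8886 = n18930 := d1_3 F30225 F14515 F14004
def n18931 : Q := act 3 n8877
theorem D18931 : act 3 n8877 = n18931 := rfl
def n18932 : Q := act 6 n8877
theorem D18932 : act 6 n8877 = n18932 := rfl
theorem F30227 : act 2 n18932 = n8889 := d3_1 D18932 (iv6 D8889) (iv2 F13843)
theorem F30228 : act 4 n18932 = n8878 := d10_1 D18932 (iv6 D8878) D8877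
def n18933 : Q := act 0 n8878
theorem D18933 : act 0 n8878 = n18933 := rfl
def n18934 : Q := act 1 n8878
theorem D18934 : act 1 n8878 = n18934 := rfl
theorem F30229 : act 1 n18934 = n8893 := d15_1 D18934 (iv7 D8893) (iv2 F13844)
theorem F30230 : act 3 n18934 = n18396 := d20_5 D3921 D8788 (iv4 F30050) (iv3 F13858) (iv1 F30229) (iv4 D18396) (iv1 D8661) F5847 F2862 D1693
def n18935 : Q := act 7 n8878
theorem D18935 : act 7 n8878 = n18935 := rfl
theorem F30231 : act 2 n18935 = n8893 := d4_1 D18935 (iv7 D8893) (iv2 F13844)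
theorem F30232 : act 1 n8893 = n18933 := d15_0 (iv0 D18933) D18935 F30231
theorem F30233 : act 1 n8892 = n18935 := d15_1 D8892 (iv7 D18935) F13844
theorem F30234 : act 1 n18935 = n8891 := d15_0 (iv0 D8891) D8893 (iv2 F30231)
def n18936 : Q := act 6 n8879
theorem D18936 : act 6 n8879 = n18936 := rfl
theorem F30235 : act 2 n18936 = n9166 := d3_1 D18936 (iv6 D9166) (iv2 F13850)
theorem F30236 : act 3 n18936 = n8881 := d7_1 D18936 (iv6 D8881) D8879
theorem F30237 : act 4 n18936 = n18248 := d10_1 D18936 (iv6 D18248) (iv4 F13847)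
def n18937 : Q := act 0 n8880
theorem D18937 : act 0 n8880 = n18937 := rfl
theorem F30238 : act 4 n18937 = n10293 := d18_3 D3962 D8880 D18937 (iv5 D10293) F6762 (iv0 F6527) F6530 (iv0 D1714) D1717
theorem F30239 : act 1 n8883 = n18937 := d15_0 (iv0 D18937) (iv7 F30218) F30216
theorem F30240 : act 7 n17895 = n18937 := d11_0 F30238 F16315 D17895
def n18938 : Q := act 1 n8880
theorem D18938 : act 1 n8880 = n18938 := rfl
theorem F30241 : act 1 n18938 = n8883 := d15_1 D18938 (iv7 F30213) F30212
theorem F30242 : act 4 n18938 = n10110 := d18_7 F12972 F12970 (iv1 F12147) (iv4 F6281) (iv5 F7337) D8880 D18938 F15961 (iv5 D9328)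
theorem F30243 : act 2 n17895 = n18938 := d1_3 F30242 F15957 D17895
def n18939 : Q := act 5 n8880
theorem D18939 : act 5 n8880 = n18939 := rfl
theorem F30244 : act 3 n18939 = n12993 := d6_1 D18939 (iv5 F28476) (iv3 F28477)
theorem F30246 : act 4 n18939 = n9084 := d16_2 D8880 D18939 (iv5 D9084) (iv4 F6980) F6991 F6296 F7027 F13837 (iv2 F13836)
def n18940 : Q := act 6 n8880
theorem D18940 : act 6 n8880 = n18940 := rfl
theorem F30247 : act 4 n18940 = n8881 := d10_1 D18940 (iv6 D8881) D8880
def n18941 : Q := act 0 n8881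
theorem D18941 : act 0 n8881 = n18941 := rfl
def n18942 : Q := act 1 n8881
theorem D18942 : act 1 n8881 = n18942 := rfl
def n18943 : Q := act 5 n8881
theorem D18943 : act 5 n8881 = n18943 := rfl
theorem F30248 : act 6 n18943 = n17118 := d12_2 D8881 D18943 (iv5 D17118) (iv6 D8008) (iv5 F7337)
def n18944 : Q := act 7 n8881
theorem D18944 : act 7 n8881 = n18944 := rfl
def n18945 : Q := act 2 n8882
theorem D18945 : act 2 n8882 = n18945 := rfl
theorem F30249 : act 3 n18945 = n9167 := d0_2 D8882 D18945 F14309 F13842 (iv2 F13841)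
theorem F30250 : act 5 n18945 = n9165 := d2_2 (iv5 F13854) D18945 F14303
theorem F30251 : act 7 n18945 = n9163 := d4_2 F30208 D18945 (iv2 F30206)
theorem F30252 : act 1 n18945 = n13042 := d15_0 F30211 F30208 D18945
theorem F30253 : act 1 n12951 = n18945 := d15_0 F30252 F21735 F21536
theorem F30254 : act 4 n17987 = n18945 := d18_7 F9666 F6871 F6765 (iv4 D3793) D3794 D8480 D17987 F30252 (iv5 D13042)
def n18946 : Q := act 4 n8882
theorem D18946 : act 4 n8882 = n18946 := rfl
theorem F30255 : act 2 n18946 = n17987 := d1_1 D18946 F30254 (iv2 D18945)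
theorem F30256 : act 7 n18946 = n17986 := d11_2 F30208 D18946 (iv4 F30209)
theorem F30257 : act 0 n18946 = n13048 := d18_2 (iv1 F21537) D18946 (iv4 D13048) (iv5 D6210) (iv4 F9627) (iv0 F9628) F6871 F6872 (iv5 F13442)
theorem F30258 : act 1 n18946 = n13044 := d18_6 D3944 F12831 (iv1 F14307) F14305 (iv5 F13854) D18946 (iv4 D13044) F14054 F4227
def n18947 : Q := act 6 n8882
theorem D18947 : act 6 n8882 = n18947 := rfl
theorem F30259 : act 3 n18947 = n8884 := d7_1 D18947 (iv6 D8884) D8882
def n18948 : Q := act 3 n8883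
theorem D18948 : act 3 n8883 = n18948 := rfl
def n18949 : Q := act 5 n8883
theorem D18949 : act 5 n8883 = n18949 := rfl
theorem F30260 : act 2 n18949 = n17764 := d2_1 D18949 (iv5 F30219) F30216
theorem F30261 : act 4 n18949 = n9081 := d9_1 D18949 (iv5 D9081) F7234 F7235 (iv4 F6281) (iv5 F7337) D8880 D18939 F30246 (iv5 D9084) (iv4 F6980) F6991 F6296 F7027 D8883
def n18950 : Q := act 6 n8883
theorem D18950 : act 6 n8883 = n18950 := rfl
theorem F30262 : act 4 n18950 = n8884 := d10_1 D18950 (iv6 D8884) D8883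
def n18951 : Q := act 0 n8884
theorem D18951 : act 0 n8884 = n18951 := rfl
def n18952 : Q := act 1 n8884
theorem D18952 : act 1 n8884 = n18952 := rfl
def n18953 : Q := act 5 n8884
theorem D18953 : act 5 n8884 = n18953 := rfl
theorem F30263 : act 6 n18953 = n17120 := d12_2 D8884 D18953 (iv5 D17120) (iv6 D8010) F7027
def n18954 : Q := act 7 n8884
theorem D18954 : act 7 n8884 = n18954 := rfl
def n18955 : Q := act 3 n8885
theorem D18955 : act 3 n8885 = n18955 := rfl
def n18956 : Q := act 5 n8885
theorem D18956 : act 5 n8885 = n18956 := rfl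
theorem F30264 : act 4 n18956 = n9074 := d16_2 F13896 D18956 (iv5 D9074) (iv4 D4080) F7023 D3981 D8928 (iv7 F14036) F14038
theorem F30265 : act 1 n18956 = n17124 := d17_6 F16383 F16381 F12246 D8921 F13896 D18956 (iv5 D17124) (iv0 F21828) (iv4 D13091)
def n18957 : Q := act 6 n8885
theorem D18957 : act 6 n8885 = n18957 := rfl
def n18958 : Q := act 3 n8886
theorem D18958 : act 3 n8886 = n18958 := rfl
def n18959 : Q := act 5 n8886
theorem D18959 : act 5 n8886 = n18959 := rfl
theorem F30266 : act 4 n18959 = n9064 := d9_1 D18959 (iv5 D9064) (iv4 D4075) F7008 D3976 D8921 F13896 D18956 F30264 (iv5 D9074) (iv4 D4080) F7023 D3981 D8928 F14004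
theorem F30267 : act 0 n18959 = n17124 := d17_2 F30181 D18959 (iv5 D17124) (iv4 D8012) (iv5 D3626) D3624 F7027 (iv0 F13820) D18906
theorem F30268 : act 3 n16982 = n18959 := d19_19 F30267 (iv5 D17124) (iv4 D8012) F5661 F2776 (iv5 D1219) (iv4 D726) F1067 (iv1 D281) (iv5 D73) (iv4 F57) (iv3 F383) (iv1 F1000) D525 D856 D1583 D3591 D7932 D16982
theorem F30269 : act 5 n18958 = n16982 := d6_0 F30268 (iv5 D18959) D18958
def n18960 : Q := act 6 n8886
theorem D18960 : act 6 n8886 = n18960 := rfl
def n18961 : Q := act 0 n8887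
theorem D18961 : act 0 n8887 = n18961 := rfl
def n18962 : Q := act 1 n8887
theorem D18962 : act 1 n8887 = n18962 := rfl
theorem F30270 : act 3 n17435 = n18962 := d20_3 (iv4 F28109) (iv1 F28719) F28716 (iv1 D18962) (iv3 D8887) (iv4 D3964) D3962 D8880 F28477 (iv1 D17482)
theorem F30271 : act 4 n12697 = n18962 := d20_6 F3976 (iv1 F2302) (iv4 F2156) (iv3 F4029) D6014 D12697 (iv1 D18962) F13855 (iv3 D3968) (iv1 F3979)
theorem F30272 : act 7 n18962 = n18633 := d11_2 F27029 F30271 (iv4 D18633)
theorem F30273 : act 5 n17434 = n18962 := d13_3 F30272 (iv5 F29907) F28867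
theorem F30274 : act 2 n18633 = n18961 := d15_3 (iv0 D18961) D18962 F30272
theorem F30275 : act 4 n18961 = n12938 := d1_2 D18633 F30274 (iv2 F26658)
theorem E4208 : n16967 = n8898 := (c18_10 (iv1 D8898) (iv4 F13855) D18961 F30275 (iv5 D12938) (iv4 F21476) F26704 F12499 D7921 D16967)
theorem F30276 : act 5 n8898 = n7921 := (sb E4208 (iv5 D16967))
def n18963 : Q := act 2 n8887
theorem D18963 : act 2 n8887 = n18963 := rfl
theorem F30277 : act 4 n18963 = n8899 := d1_2 (iv4 F13855) D18963 (iv2 D8899)
theorem F30278 : act 0 n18963 = n18633 := d20_7 D12694 (iv1 F21092) (iv4 F22808) (iv3 D13644) (iv1 F22770) F22767 (iv4 F30277) (iv4 D18633) (iv3 D8747) (iv1 F9341)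
theorem E4209 : n15306 = n11194 := (c18_10 (iv1 F18160) (iv4 F30277) F30278 (iv4 D18633) (iv5 F26652) F26651 F27733 F27730 F12539 D15306)
theorem F30279 : act 5 n11194 = n7246 := (sb E4209 (iv5 D15306))
def n18964 : Q := act 5 n8887
theorem D18964 : act 5 n8887 = n18964 := rfl
theorem F30280 : act 3 n18964 = n8888 := d6_1 D18964 (iv5 D8888) D8887
theorem F30281 : act 0 n17461 = n18964 := d19_0 (iv5 D18964) F13855 (iv3 D3968) (iv1 F3979) (iv5 D2510) (iv4 D1170) F1324 (iv1 F1360) (iv5 D714) F693 F364 D409 F1057 D560 D878 D1639 F13334 D8214 D17461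
def n18965 : Q := act 6 n8887
theorem D18965 : act 6 n8887 = n18965 := rfl
theorem F30282 : act 3 n18965 = n8889 := d7_1 D18965 (iv6 D8889) D8887
theorem F30283 : act 4 n18965 = n8900 := d10_1 D18965 (iv6 D8900) (iv4 F13855)
def n18966 : Q := act 0 n8888
theorem D18966 : act 0 n8888 = n18966 := rfl
theorem F30284 : act 5 n18966 = n9007 := d17_3 (iv1 D8886) D8888 D18966 (iv4 D9007) (iv5 D4036) (iv0 F6471) D8443 F14039 F14004
theorem F30285 : act 4 n18966 = n9038 := d18_3 (iv1 F17267) F17265 D18966 (iv5 D9038) (iv4 D4057) F7182 D8931 F14415 (iv5 F14417)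
theorem F30286 : act 1 n9088 = n18966 := d17_6 (iv1 F7184) (iv5 D3955) D3952 D8864 D18906 F30179 F30284 F14057 (iv4 D8327)
def n18967 : Q := act 1 n8888
theorem D18967 : act 1 n8888 = n18967 := rfl
theorem F30287 : act 1 n18967 = n9088 := d15_1 D18967 (iv7 F17275) F17274
theorem F30288 : act 5 n18967 = n9032 := d17_7 (iv1 F12786) (iv5 D3959) (iv1 D1715) D1717 D3964 D8888 D18967 (iv0 F28065) (iv4 D17121)
theorem F30289 : act 3 n15906 = n18967 := d19_19 (iv1 D18967) (iv5 D8888) (iv4 D3964) F2928 F1709 (iv5 D863) (iv4 D530) (iv3 F1086) (iv1 F1100) F822 (iv4 F813) F1552 (iv1 D826) (iv5 F1468) (iv4 F1528) D1503 D3411 D7458 D15906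
theorem E4210 : n16311 = n15906 := (c20_9 (iv4 F17265) F17266 (iv4 F28470) (iv3 D17478) (iv1 D8223) (iv3 F11827) (iv4 D7589) D7586 D16311 F30289 (iv1 D18967))
theorem E4211 : n7586 = n7458 := ((((iv4 D15906)).symm.trans (sb E4210 (iv4 D16311)))).symm
theorem E4212 : n15904 = n12727 := ((D15904).symm.trans (sb E4211 (iv1 F21131)))
theorem E4213 : n15905 = n3450 := ((D15905).symm.trans (sb E4211 (iv0 D7586)))
theorem E4219 : n7587 = n7463 := (((iv1 F21133)).symm.trans (sb E4212 (iv1 F25383)))
theorem F30290 : act 1 n12727 = n7458 := (sb E4212 (iv0 D15904))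
theorem F30291 : act 0 n3450 = n7458 := (sb E4213 (iv1 D15905))
theorem F30292 : act 0 n7463 = n3450 := (sb E4219 (iv1 D7587))
theorem F30293 : act 1 n7463 = n12727 := (sb E4219 F21133)
theorem E4224 : n16932 = n15941 := (c17_7 (iv1 F9312) D7463 F30292 F5429 (iv4 F5616) D7900 D16932 (iv5 D15941) (iv0 F21003) (iv4 D12616))
theorem F30294 : act 0 n15941 = n7900 := (sb E4224 (iv1 D16932))
theorem F30295 : act 5 n16990 = n15980 := d21_6 D7458 (iv1 F30290) F21129 D12935 (iv1 F27244) D16990 (iv1 D15980) (iv5 D7478) (iv6 D3416) D3411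
theorem F30296 : act 3 n15980 = n16997 := d6_1 F30295 (iv5 D16997) (iv3 F27860)
theorem F30297 : act 4 n9014 = n18967 := d9_15 F30288 (iv4 D9032) (iv5 D4055) (iv4 D1753) D1754 D4057 D9038 (iv4 F30285) F30284 (iv4 D9007) (iv5 D4036) (iv4 D1748) D1749 D4041 D9014
def n18968 : Q := act 6 n8888
theorem D18968 : act 6 n8888 = n18968 := rfl
def n18969 : Q := act 7 n8888
theorem D18969 : act 7 n8888 = n18969 := rfl
theorem F30298 : act 2 n18969 = n9088 := d4_1 D18969 (iv7 F17275) F17274
theorem F30299 : act 4 n18969 = n9055 := d11_1 D18969 (iv7 F17264) F17265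
theorem F30300 : act 5 n18969 = n8890 := d13_1 D18969 (iv7 D8890) D8888
def n18970 : Q := act 0 n8889
theorem D18970 : act 0 n8889 = n18970 := rfl
def n18971 : Q := act 1 n8889
theorem D18971 : act 1 n8889 = n18971 := rfl
def n18972 : Q := act 5 n8889
theorem D18972 : act 5 n8889 = n18972 := rfl
def n18973 : Q := act 7 n8889
theorem D18973 : act 7 n8889 = n18973 := rfl
theorem F30301 : act 4 n18973 = n8893 := d11_1 D18973 (iv7 D8893) (iv4 F13856)
def n18974 : Q := act 6 n8890
theorem D18974 : act 6 n8890 = n18974 := rfl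
theorem F30302 : act 4 n18974 = n8894 := d10_1 D18974 (iv6 D8894) (iv4 F13857)
def n18975 : Q := act 2 n8891
theorem D18975 : act 2 n8891 = n18975 := rfl
theorem F30303 : act 7 n8892 = n18975 := d15_2 (iv0 D8891) D8892 (iv2 D18975)
def n18976 : Q := act 3 n8891
theorem D18976 : act 3 n8891 = n18976 := rfl
def n18977 : Q := act 4 n8891
theorem D18977 : act 4 n8891 = n18977 := rfl
def n18978 : Q := act 5 n8891
theorem D18978 : act 5 n8891 = n18978 := rfl
def n18979 : Q := act 6 n8891
theorem D18979 : act 6 n8891 = n18979 := rfl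
theorem F30304 : act 5 n18979 = n18934 := d21_6 (iv5 D3959) (iv1 D1715) D1717 D3965 D8891 D18979 (iv1 D18934) (iv5 F28068) (iv6 D17122) (iv1 F12786)
def n18980 : Q := act 7 n8891
theorem D18980 : act 7 n8891 = n18980 := rfl
theorem F30305 : act 2 n18980 = n8892 := d4_1 D18980 F30303 (iv2 D18975)
def n18981 : Q := act 3 n8892
theorem D18981 : act 3 n8892 = n18981 := rfl
def n18982 : Q := act 4 n8892
theorem D18982 : act 4 n8892 = n18982 := rfl
def n18983 : Q := act 5 n8892
theorem D18983 : act 5 n8892 = n18983 := rfl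
theorem F30306 : act 6 n18933 = n18983 := d21_5 (iv5 D4821) (iv1 F3303) D3961 D8878 D18933 (iv5 D18983) (iv1 D8892) (iv5 F12788) (iv6 D8013) (iv1 F7022)
def n18984 : Q := act 6 n8892
theorem D18984 : act 6 n8892 = n18984 := rfl
def n18985 : Q := act 6 n8893
theorem D18985 : act 6 n8893 = n18985 := rfl
theorem F30307 : act 3 n18985 = n8915 := d7_1 D18985 (iv6 D8915) (iv3 F13858)
theorem F30308 : act 7 n18985 = n8894 := d14_2 D8893 D18985 (iv6 D8894) (iv7 D3966) D3965
def n18986 : Q := act 0 n8894
theorem D18986 : act 0 n8894 = n18986 := rfl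
def n18987 : Q := act 1 n8894
theorem D18987 : act 1 n8894 = n18987 := rfl
def n18988 : Q := act 5 n8895
theorem D18988 : act 5 n8895 = n18988 := rfl
theorem F30309 : act 2 n18988 = n17120 := d2_1 D18988 (iv5 D17120) F13863
theorem F30310 : act 3 n18988 = n9188 := d6_1 D18988 (iv5 D9188) (iv3 F13860)
theorem F30311 : act 7 n18988 = n17582 := d13_2 F13864 D18988 (iv5 D17582)
theorem F30312 : act 0 n18988 = n17338 := d17_2 D8895 D18988 (iv5 D17338) F12884 D9594 (iv0 F17552) (iv5 D9105) (iv0 D4090) (iv4 F5920)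
theorem F30313 : act 0 n9574 = n18988 := d21_1 D9574 (iv5 D18988) F13861 (iv1 F6056) F5660 D3961 D8875 F13834 D9155 F17517
def n18989 : Q := act 5 n8896
theorem D18989 : act 5 n8896 = n18989 := rfl
theorem F30314 : act 2 n18989 = n17582 := d2_1 D18989 (iv5 D17582) F13867
theorem F30315 : act 7 n18989 = n17120 := d13_2 (iv7 F13866) D18989 (iv5 D17120)
theorem F30316 : act 0 n18989 = n9574 := d17_2 (iv1 F13865) D18989 (iv5 D9574) (iv4 D4318) D4319 (iv0 F17550) (iv5 D9108) F6122 (iv4 F13028)
theorem E4225 : n17582 = n17339 := (c15_4 (iv0 D17339) (iv0 F28063) (iv7 F30315) F30314)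
theorem F30317 : act 2 n17339 = n18989 := (sb E4225 (iv2 F30314))
theorem F30318 : act 3 n17339 = n10837 := (sb E4225 F28565)
theorem F30319 : act 5 n17339 = n8256 := (sb E4225 (iv5 D17582))
theorem F30320 : act 7 n17339 = n18988 := (sb E4225 (iv7 F30311))
theorem F30321 : act 1 n18989 = n17338 := d15_0 (iv0 F30312) (iv7 F30320) F30317
def n18990 : Q := act 2 n8897
theorem D18990 : act 2 n8897 = n18990 := rfl
theorem F30323 : act 7 n8898 = n18990 := d15_2 (iv0 D8897) D8898 (iv2 D18990)
def n18991 : Q := act 4 n8897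
theorem D18991 : act 4 n8897 = n18991 := rfl
def n18992 : Q := act 6 n8897
theorem D18992 : act 6 n8897 = n18992 := rfl
def n18993 : Q := act 7 n8897
theorem D18993 : act 7 n8897 = n18993 := rfl
theorem F30325 : act 5 n18993 = n16964 := d13_1 D18993 (iv7 D16964) F25996
def n18994 : Q := act 3 n8898
theorem D18994 : act 3 n8898 = n18994 := rfl
theorem F30326 : act 5 n18994 = n16965 := d6_2 (iv5 F30276) D18994 (iv3 D16965)
def n18995 : Q := act 4 n8898
theorem D18995 : act 4 n8898 = n18995 := rfl
def n18996 : Q := act 6 n8898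
theorem D18996 : act 6 n8898 = n18996 := rfl
def n18997 : Q := act 6 n8899
theorem D18997 : act 6 n8899 = n18997 := rfl
theorem F30327 : act 2 n18997 = n8900 := d3_1 D18997 (iv6 D8900) D8899
def n18998 : Q := act 0 n8900
theorem D18998 : act 0 n8900 = n18998 := rfl
def n18999 : Q := act 1 n8900
theorem D18999 : act 1 n8900 = n18999 := rfl
def n19000 : Q := act 5 n8900
theorem D19000 : act 5 n8900 = n19000 := rfl
theorem F30328 : act 3 n19000 = n8903 := d6_1 D19000 (iv5 D8903) (iv3 F13869)
theorem F30329 : act 6 n19000 = n16885 := d12_2 D8900 D19000 (iv5 D16885) (iv6 D7868) (iv5 F5922)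
def n19011 : Q := act 0 n8903
theorem D19011 : act 0 n8903 = n19011 := rfl
def n19012 : Q := act 1 n8903
theorem D19012 : act 1 n8903 = n19012 := rfl
def n19013 : Q := act 4 n8903
theorem D19013 : act 4 n8903 = n19013 := rfl
theorem F30332 : act 6 n19013 = n16887 := d10_2 (iv6 F13870) D19013 (iv4 D16887)
theorem F30333 : act 1 n19013 = n18708 := d18_6 (iv1 F9810) F28977 (iv1 D3971) (iv4 F5923) D8903 D19013 (iv4 D18708) F22068 F22066
def n19016 : Q := act 3 n8905
theorem D19016 : act 3 n8905 = n19016 := rfl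
theorem F30336 : act 7 n19016 = n8911 := d8_2 F13872 D19016 (iv3 D8911)
def n19017 : Q := act 5 n8905
theorem D19017 : act 5 n8905 = n19017 := rfl
theorem F30337 : act 2 n19017 = n8908 := d2_1 D19017 (iv5 D8908) D8905
theorem F30338 : act 7 n19017 = n8913 := d13_2 F13872 D19017 (iv5 D8913)
def n19018 : Q := act 6 n8905
theorem D19018 : act 6 n8905 = n19018 := rfl
theorem F30339 : act 2 n19018 = n8909 := d3_1 D19018 (iv6 D8909) D8905
theorem F30340 : act 4 n19018 = n18671 := d10_1 D19018 (iv6 D18671) (iv4 F28968)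
theorem F30341 : act 5 n18897 = n19018 := d2_0 F30339 F13873 (iv2 F30150)
theorem F30342 : act 7 n19018 = n17562 := d13_2 D18897 F30341 F28551
theorem F30343 : act 7 n17715 = n8914 := d14_2 F30342 F28779 (iv6 D8914) F13872 D19018
theorem F30344 : act 4 n18700 = n17715 := d11_3 F30343 F28978 D18700
theorem F30345 : act 2 n8914 = n17716 := d15_3 F28781 (iv0 F28780) F30343
theorem F30346 : act 4 n17716 = n18688 := d1_2 (iv4 F28978) F30345 F29960
theorem F30347 : act 6 n17716 = n8910 := d3_2 D8914 F30345 F13874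
theorem F30348 : act 0 n18688 = n17968 := d18_2 (iv1 F28781) F30346 (iv4 D17968) (iv5 D8469) F29132 (iv0 D7511) F5415 D3743 D8340
theorem F30349 : act 1 n18688 = n17980 := d15_1 (iv0 F30348) (iv7 F30070) F30069
theorem F30350 : act 1 n17980 = n18700 := d15_1 F30349 (iv7 D18700) (iv2 F29960)
theorem F30351 : act 1 n18700 = n17968 := d15_1 F30350 (iv7 F29894) F29885
theorem F30352 : act 5 n16093 = n17980 := d17_7 F28780 (iv5 D8340) (iv1 D3743) F2820 (iv4 F5415) D7513 D16093 F30350 F30344
theorem E4226 : n13215 = n12730 := ((c21_5 F4070 (iv1 F2694) (iv5 F4040) D6022 D12730 (iv6 F29147) (iv5 F30352) (iv1 D16093) (iv5 D7513) (iv6 D3426) (iv1 F4073))).symm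
theorem F30353 : act 2 n12730 = n8700 := (sb E4226 F29868)
theorem F30354 : act 4 n12730 = n6281 := (sb E4226 (iv4 D13215))
theorem F30355 : act 6 n12730 = n17980 := (sb E4226 (iv6 F29147))
theorem F30356 : act 7 n12730 = n8705 := (sb E4226 F29869)
theorem E4227 : n13219 = n12731 := (c15_4 F21137 F21143 F30356 (iv2 F29875))
theorem F30357 : act 2 n12731 = n8705 := (sb E4227 F29875)
theorem F30358 : act 4 n12731 = n6282 := (sb E4227 (iv4 D13219))
theorem F30359 : act 7 n12731 = n8700 := (sb E4227 F29876)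
theorem E4228 : n18698 = n18524 := ((c18_2 F13672 (iv4 F29702) (iv1 D18698) (iv4 F28978) (iv5 F28778) (iv4 F30344) F30351 (iv4 D17968) F13716 (iv5 F13671))).symm
theorem F30360 : act 0 n18524 = n8770 := (sb E4228 (iv1 D18698))
theorem F30361 : act 0 n18699 = n16090 := d17_2 F30360 D18699 (iv5 D16090) (iv4 F29135) D8474 (iv0 F13693) (iv5 D8815) (iv0 F13715) (iv4 F29702)
theorem E4229 : n18812 = n18697 := (c15_4 (iv0 D18697) (iv0 F30360) F29894 (iv2 F30069))
theorem F30362 : act 2 n18697 = n17968 := (sb E4229 F30069)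
theorem F30363 : act 4 n18697 = n8813 := (sb E4229 (iv4 D18812))
theorem F30364 : act 7 n18697 = n17980 := (sb E4229 F30070)
def n19019 : Q := act 0 n8906
theorem D19019 : act 0 n8906 = n19019 := rfl
def n19020 : Q := act 1 n8906
theorem D19020 : act 1 n8906 = n19020 := rfl
def n19021 : Q := act 2 n8906
theorem D19021 : act 2 n8906 = n19021 := rfl
def n19022 : Q := act 4 n8906
theorem D19022 : act 4 n8906 = n19022 := rfl
theorem F30365 : act 3 n19022 = n18675 := d5_1 D19022 (iv4 D18675) (iv3 D8762) F28967 D8906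
def n19023 : Q := act 5 n8906
theorem D19023 : act 5 n8906 = n19023 := rfl
theorem F30366 : act 3 n19023 = n8908 := d6_1 D19023 (iv5 D8908) D8906
def n19024 : Q := act 6 n8906
theorem D19024 : act 6 n8906 = n19024 := rfl
theorem F30367 : act 3 n19024 = n8909 := d7_1 D19024 (iv6 D8909) D8906
theorem F30368 : act 5 n18898 = n19024 := d6_0 F30367 F13873 D18898
def n19025 : Q := act 7 n8906
theorem D19025 : act 7 n8906 = n19025 := rfl
theorem F30369 : act 3 n19025 = n8910 := d8_1 D19025 (iv7 D8910) D8906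
def n19026 : Q := act 1 n8908
theorem D19026 : act 1 n8908 = n19026 := rfl
theorem F30370 : act 1 n19026 = n8913 := d15_1 D19026 (iv7 F30338) F30337
def n19027 : Q := act 4 n8908
theorem D19027 : act 4 n8908 = n19027 := rfl
theorem F30371 : act 5 n19027 = n16805 := d17_5 (iv1 D8015) F5662 D3970 D8908 D19027 (iv0 D16805) (iv5 D7844) D7843 (iv4 F28979)
theorem F30372 : act 1 n19027 = n18766 := d18_6 (iv1 D1694) (iv4 F2869) D3915 F28967 D8908 D19027 (iv4 D18766) F13670 (iv5 D3927)
theorem F30373 : act 1 n18763 = n19027 := d15_0 F30372 F30008 (iv2 F29995)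
def n19028 : Q := act 7 n8908
theorem D19028 : act 7 n8908 = n19028 := rfl
theorem F30374 : act 2 n19028 = n8913 := d4_1 D19028 (iv7 F30338) F30337
theorem F30375 : act 5 n19028 = n8910 := d13_1 D19028 (iv7 D8910) D8908
theorem F30376 : act 1 n8913 = n17565 := d15_0 (iv0 F28942) D19028 F30374
theorem E4230 : n19026 = n17551 := ((c15_4 F30370 F30376 (iv7 D17565) (iv2 F28545))).symm
theorem F30377 : act 0 n17551 = n8908 := (sb E4230 (iv1 D19026))
theorem F30378 : act 1 n17551 = n8913 := (sb E4230 F30370)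
theorem F30379 : act 4 n17565 = n18760 := d17_9 (iv1 D18760) D18761 F30059 (iv5 D15708) F11681 F5662 D3971 D8913 F30376
theorem E4231 : n17292 = n8914 := ((c21_10 (iv5 D13002) (iv1 F9623) F5745 (iv6 F9658) (iv1 F9660) D8405 F28941 (iv1 F30376) (iv5 D8913) D8914 (iv1 F28242))).symm
theorem F30380 : act 0 n8914 = n13002 := (sb E4231 (iv1 F28242))
theorem F30381 : act 1 n8914 = n8101 := (sb E4231 (iv0 D17292))
theorem F30382 : act 7 n17293 = n17716 := d15_2 F30381 D17293 (iv2 F30345)
theorem E4232 : n13065 = n12631 := ((c18_3 (iv1 D6178) (iv4 F9319) D12631 (iv4 D13065) (iv5 F13688) (iv4 F30363) (iv0 D18697) (iv4 F28978) F30381 F12878)).symm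
theorem F30383 : act 2 n12631 = n7511 := (sb E4232 F29859)
theorem F30384 : act 4 n12631 = n6217 := (sb E4232 (iv4 D13065))
theorem F30385 : act 7 n12631 = n7512 := (sb E4232 F29860)
theorem E4233 : n13069 = n12632 := (c15_4 F21028 F21034 F30385 (iv2 F29851))
theorem F30386 : act 2 n12632 = n7512 := (sb E4233 F29851)
theorem F30387 : act 4 n12632 = n6218 := (sb E4233 (iv4 D13069))
theorem F30388 : act 7 n12632 = n7511 := (sb E4233 F29852)
theorem F30389 : act 2 n17715 = n17293 := d4_3 F30382 (iv2 F30345) (iv7 F30343)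
theorem E4234 : n19028 = n8909 := ((c14_4 F30382 F30347 (iv7 D8910) D8909 (iv7 D19028) F28239)).symm
theorem E4235 : n19018 = n8913 := (((iv2 F30339)).symm.trans (sb E4234 F30374))
theorem E4236 : n8910 = n8851 := (((F13873).symm.trans (sb E4234 F30375))).symm
theorem F30390 : act 7 n8909 = n8908 := (sb E4234 (iv7 D19028))
theorem F30391 : act 2 n8913 = n8909 := (sb E4235 F30339)
theorem E4237 : n18671 = n13267 := ((((iv4 F29957)).symm.trans (sb E4235 F30340))).symm
theorem E4238 : n18897 = n3971 := ((((iv5 D8913)).symm.trans (sb E4235 (iv5 F30341)))).symm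
theorem E4239 : n8905 = n8850 := ((((iv6 F13875)).symm.trans (sb E4235 (iv6 D19018)))).symm
theorem E4240 : n19017 = n17562 := (((iv7 F30338)).symm.trans (sb E4235 F30342))
theorem E4243 : n19025 = n18898 := (((D18898).symm.trans (sb E4236 (iv3 F30369)))).symm
theorem E4244 : n8766 = n6297 := (((F29958).symm.trans (sb E4236 F28970))).symm
theorem E4245 : n18899 = n17716 := ((D18899).symm.trans (sb E4236 (iv6 F30347)))
theorem E4246 : n18895 = n3970 := ((F30149).symm.trans (sb E4236 (iv7 D8910)))
theorem F30392 : act 2 n13267 = n8765 := (sb E4237 F29933)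
theorem E4247 : n8761 = n6296 := ((((iv6 D13267)).symm.trans (sb E4237 (iv6 D18671)))).symm
theorem F30393 : act 2 n3971 = n8851 := (sb E4238 F30150)
theorem E4248 : n13268 = n3916 := ((((iv4 F28977)).symm.trans (sb E4238 F30151))).symm
theorem E4249 : n19016 = n18896 := (((D18896).symm.trans (sb E4239 D19016))).symm
theorem F30394 : act 7 n8850 = n3971 := (sb E4239 (iv7 F13872))
theorem F30395 : act 2 n17562 = n8908 := (sb E4240 F30337)
theorem F30396 : act 7 n17562 = n8913 := (sb E4240 F30338)
theorem F30397 : act 7 n18898 = n8906 := (sb E4243 (iv7 D19025))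
theorem E4252 : n18678 = n13269 := (((D13269).symm.trans (sb E4244 (iv3 F29936)))).symm
theorem E4253 : n18683 = n13271 := (((D13271).symm.trans (sb E4244 (iv5 F29950)))).symm
theorem E4254 : n18688 = n13272 := (((D13272).symm.trans (sb E4244 D18688))).symm
theorem E4255 : n13263 = n3915 := ((F22060).symm.trans (sb E4244 (iv7 D8766)))
theorem F30398 : act 5 n17716 = n17293 := (sb E4245 F30153)
theorem F30399 : act 6 n17716 = n8851 := (sb E4245 (iv6 D18899))
theorem F30400 : act 2 n3970 = n8850 := (sb E4246 (iv2 D18895))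
theorem F30401 : act 7 n3970 = n8851 := (sb E4246 (iv7 F30149))
theorem E4256 : n18669 = n13264 := (((D13264).symm.trans (sb E4247 D18669))).symm
theorem E4257 : n18670 = n13266 := (((D13266).symm.trans (sb E4247 D18670))).symm
theorem F30402 : act 2 n3916 = n6297 := (sb E4248 F22061)
theorem F30403 : act 7 n3916 = n6296 := (sb E4248 (iv7 D13268))
theorem F30404 : act 7 n18896 = n8911 := (sb E4249 F30336)
theorem F30405 : act 7 n13269 = n8762 := (sb E4252 (iv7 D18678))
theorem F30406 : act 2 n13271 = n8769 := (sb E4253 F29949)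
theorem F30407 : act 7 n13271 = n8764 := (sb E4253 (iv7 D18683))
theorem F30408 : act 0 n13272 = n17968 := (sb E4254 F30348)
theorem F30409 : act 1 n13272 = n17980 := (sb E4254 F30349)
theorem F30410 : act 2 n13272 = n8770 := (sb E4254 F29960)
theorem F30411 : act 4 n13272 = n17716 := (sb E4254 (iv4 F30346))
theorem F30412 : act 2 n3915 = n6296 := (sb E4255 (iv2 D13263))
theorem F30413 : act 7 n3915 = n6297 := (sb E4255 (iv7 F22060))
theorem F30414 : act 7 n13264 = n8767 := (sb E4256 F29930)
theorem F30415 : act 2 n13266 = n8764 := (sb E4257 F29931)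
theorem F30416 : act 7 n13266 = n8769 := (sb E4257 F29932)
theorem E4258 : n17733 = n17674 := ((c21_4 (iv5 F28941) F28987 (iv5 D17673) D17674 (iv1 D17733) (iv6 D8341) D8340 (iv1 F28781) F30398 (iv6 F28239) F28942)).symm
theorem F30417 : act 0 n17674 = n8341 := (sb E4258 (iv1 D17733))
theorem F30418 : act 7 n19023 = n19024 := d13_2 F30397 D19023 (iv5 F30368)
theorem E4259 : n17563 = n8909 := (c15_2 (iv0 D17562) D17563 F30390 (iv2 F30395))
theorem F30419 : act 0 n8909 = n8251 := (sb E4259 (iv1 D17563))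
theorem E4260 : n18769 = n17560 := ((c18_2 F30419 (iv4 F28549) (iv1 D18769) (iv4 D8796) (iv5 D3922) D3921 F30046 F10564 D8851 (iv5 F13873))).symm
theorem F30420 : act 0 n17560 = n8796 := (sb E4260 (iv1 D18769))
theorem F30421 : act 1 n17560 = n8812 := (sb E4260 F30023)
theorem F30422 : act 2 n18686 = n16806 := d2_3 (iv5 F27563) F30392 D18686
theorem E4261 : n19027 = n18687 := (c15_2 (iv0 F29997) F30373 (iv7 D18687) (iv2 F30392))
theorem F30423 : act 0 n18687 = n18763 := (sb E4261 (iv1 F30373))
theorem F30424 : act 1 n18687 = n18766 := (sb E4261 F30372)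
theorem F30425 : act 4 n18687 = n8908 := (sb E4261 (iv4 D19027))
theorem F30426 : act 5 n18687 = n16805 := (sb E4261 F30371)
theorem F30427 : act 7 n16805 = n18686 := d13_2 D18687 F30426 (iv5 D18686)
theorem F30428 : act 0 n13003 = n17112 := d21_4 F28778 F30380 (iv5 D13002) D13003 (iv6 D17112) D17111 F28784 (iv5 F28782) (iv6 D17718) D17715
theorem F30429 : act 1 n17721 = n17112 := d15_0 (iv0 F30428) F28796 (iv2 F28829)
theorem F30430 : act 0 n17309 = n17111 := d21_7 F28830 (iv1 F21582) F13025 (iv6 F9492) (iv1 F9494) D8106 D17309 (iv5 D17111) D17112 (iv1 F30429)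
theorem F30431 : act 7 n18760 = n17560 := d11_2 D17565 F30379 F28549
theorem E4262 : n13675 = n13282 := ((c18_7 F28942 F30379 (iv1 D18760) F13665 F5861 D6306 F22079 F22820 F13782 D8908)).symm
theorem E4263 : n8902 = n6306 := ((((iv1 F22079)).symm.trans (sb E4262 (iv1 F22822)))).symm
theorem F30432 : act 2 n13282 = n8788 := (sb E4262 (iv2 F30048))
theorem F30433 : act 4 n13282 = n8852 := (sb E4262 F22820)
theorem F30434 : act 6 n13282 = n6496 := (sb E4262 (iv6 D13675))
theorem F30435 : act 7 n13282 = n6497 := (sb E4262 F22821)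
theorem E4265 : n13283 = n3969 := (((iv1 F22080)).symm.trans (sb E4263 (iv1 D8902)))
theorem F30436 : act 0 n3969 = n6302 := (sb E4265 (iv1 D13283))
theorem F30437 : act 1 n3969 = n6306 := (sb E4265 F22080)
theorem F30438 : act 0 n16846 = n17832 := d18_2 (iv1 F27587) D16846 F28996 F28941 F30379 F29992 (iv4 D13286) (iv0 F29779) (iv5 F27582)
theorem E4276 : n15707 = n12833 := ((c18_2 (iv1 F9424) D12833 (iv1 D15707) F11681 F5662 (iv4 F5923) F30437 (iv4 D6306) F4237 (iv5 F5583))).symm
theorem F30439 : act 0 n12833 = n7382 := (sb E4276 (iv1 D15707))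
theorem F30440 : act 1 n12833 = n15300 := (sb E4276 F25200)
theorem F30441 : act 4 n18976 = n18258 := d20_6 D6306 (iv1 F30437) F5923 (iv3 F5916) D8891 D18976 (iv1 F29458) F13576 F5849 (iv1 F4237)
theorem F30442 : act 4 n18759 = n17551 := d18_7 (iv1 D3971) (iv4 F5923) F30436 (iv4 D6302) D6303 D13286 F29991 F30378 (iv5 D8913)
theorem F30443 : act 0 n18810 = n15299 := d21_7 (iv5 D2517) (iv1 F2740) (iv5 F2931) D3969 F30436 (iv6 F13687) D18810 (iv5 D15299) (iv6 D7241) F5321
theorem F30444 : act 2 n17560 = n18759 := d1_3 F30442 F28545 (iv4 F28549)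
theorem F30445 : act 6 n17542 = n18759 := d10_0 F30442 (iv6 D17551) (iv4 F28536)
theorem F30446 : act 7 n18768 = n18759 := d15_2 F30421 F30022 (iv2 F30444)
theorem F30447 : act 2 n18760 = n18768 := d4_3 F30446 (iv2 F30444) (iv7 F30431)
theorem E4277 : n15706 = n12828 := (c18_7 D2641 D6302 D13282 F30433 F13778 (iv4 F24882) F25206 (iv4 D12828) (iv0 D6065) F4075)
theorem F30448 : act 0 n12828 = n15300 := (sb E4277 (iv1 F25206))
theorem F30449 : act 1 n12828 = n7382 := (sb E4277 (iv0 D15706))
def n19029 : Q := act 1 n8909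
theorem D19029 : act 1 n8909 = n19029 := rfl
theorem F30450 : act 1 n19029 = n17562 := d15_1 D19029 F30396 F30391
theorem F30451 : act 7 n19029 = n17551 := d15_2 (iv0 F30419) D19029 F28545
theorem F30452 : act 4 n19029 = n18768 := d17_9 (iv1 F30022) D18810 F30443 (iv5 D15299) F11560 (iv5 F5886) D8851 (iv5 F13873) D19029
theorem F30453 : act 6 n17838 = n19029 := d21_3 D3765 D8406 D17838 (iv1 D19029) (iv6 D8909) D8908 F28942 (iv5 F28941) (iv6 D8405) (iv1 D3764)
theorem F30454 : act 5 n13036 = n19029 := d21_6 (iv5 D8335) (iv1 F9625) F9621 F9622 (iv1 F9654) D13036 (iv1 D19029) F13873 (iv6 F30399) (iv1 D17716)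
theorem F30455 : act 4 n15719 = n13036 := d17_4 (iv1 F30046) D8791 D18755 F30060 F30454 F30450 F28551 (iv0 D8850) (iv4 F10564)
theorem F30456 : act 0 n13036 = n17132 := d21_1 (iv5 F30454) (iv5 D17132) D17133 F28593 (iv6 D13007) (iv5 F12878) (iv1 F30381) (iv5 F28778) (iv6 F28779) (iv1 F30450)
theorem E4278 : n13034 = n7384 := (c10_4 D15719 F30455 (iv6 D13036) D13034)
theorem E4279 : n15717 = n6200 := ((D15717).symm.trans (sb E4278 (iv4 D13034)))
theorem F30457 : act 4 n6200 = n7384 := (sb E4279 (iv4 D15717))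
theorem F30458 : act 4 n15715 = n13032 := d1_2 F30457 (iv2 F25211) F21719
theorem F30459 : act 4 n15710 = n13027 := d11_3 (iv7 F21717) F30457 F25209
theorem F30460 : act 4 n18115 = n13038 := d18_7 (iv1 F9654) F30457 (iv1 D7384) F5387 D3811 D8540 D18115 F21722 F13193
theorem E4280 : n13029 = n7383 := (c1_3 F30459 (iv2 D13027) D13029 D15710)
theorem E4281 : n15712 = n6199 := ((D15712).symm.trans (sb E4280 (iv4 D13029)))
theorem F30461 : act 4 n6199 = n7383 := (sb E4281 (iv4 D15712))
theorem F30462 : act 4 n15714 = n13031 := d10_3 (iv6 D13031) F30461 D15714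
theorem F30463 : act 5 n13920 = n17541 := d17_3 (iv1 F20902) (iv5 F23626) (iv1 F23628) F28534 F21723 F21722 F13193 F9659 F30461
theorem E4282 : n12479 = n8244 := (c21_5 F5377 F2667 D2504 D5930 D12479 D17541 (iv5 F30463) (iv1 D13920) F10710 (iv6 D3387) D3385)
theorem E4283 : n17537 = n7275 := ((D17537).symm.trans (sb E4282 (iv1 F20782)))
theorem E4284 : n17538 = n5930 := ((D17538).symm.trans (sb E4282 (iv0 D12479)))
theorem E4285 : n12480 = n8249 := (((iv1 F20776)).symm.trans (sb E4283 (iv1 F28537)))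
theorem F30464 : act 1 n7275 = n8244 := (sb E4283 (iv0 D17537))
theorem F30465 : act 0 n5930 = n8244 := (sb E4284 (iv1 D17538))
theorem F30466 : act 0 n8249 = n5930 := (sb E4285 (iv1 D12480))
theorem F30467 : act 1 n8249 = n7275 := (sb E4285 F20776)
theorem F30468 : act 1 n13246 = n17573 := d18_6 (iv1 F9587) D8249 F30466 F9204 D6290 D13246 (iv4 D17573) F21583 F21581
theorem F30469 : act 1 n17573 = n18629 := d15_1 F30468 (iv7 D18629) (iv2 F22045)
theorem F30470 : act 0 n17568 = n18629 := d18_2 D8252 D17568 F29900 F13641 (iv4 F11579) F30464 (iv4 D8244) (iv0 D3710) D3712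
theorem E4286 : n17838 = n17550 := ((c14_1 D17550 F30453 F30451 (iv6 D17551) (iv7 D8247) D8246)).symm
theorem F30471 : act 5 n17550 = n8406 := (sb E4286 (iv5 D17838))
theorem F30472 : act 6 n17550 = n19029 := (sb E4286 F30453)
theorem E4287 : n17839 = n13038 := (c13_3 D17550 F30471 D17839 (iv5 F21723))
theorem F30473 : act 2 n13038 = n8407 := (sb E4287 F28998)
theorem F30474 : act 7 n13038 = n8406 := (sb E4287 (iv7 D17839))
theorem F30475 : act 7 n17837 = n18115 := d11_2 F30474 D17837 F30460
theorem E4288 : n17835 = n13037 := (c15_4 (iv0 D13037) D13038 F30474 D17835)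
theorem F30476 : act 2 n13037 = n8406 := (sb E4288 (iv2 D17835))
theorem F30477 : act 7 n13037 = n8407 := (sb E4288 (iv7 F28997))
theorem E4289 : n17819 = n13035 := ((c3_3 (iv6 F21721) F30476 F21720 F28984)).symm
theorem F30478 : act 2 n13035 = n8404 := (sb E4289 F28984)
theorem E4290 : n8401 = n6200 := ((((iv5 D13035)).symm.trans (sb E4289 F28985))).symm
theorem F30479 : act 7 n13035 = n8399 := (sb E4289 (iv7 D17819))
theorem E4291 : n17797 = n2606 := ((((iv1 D6200)).symm.trans (sb E4290 (iv1 F28931)))).symm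
theorem E4293 : n13032 = n3764 := (((iv2 F21719)).symm.trans (sb E4290 F13191))
theorem E4294 : n17808 = n13033 := (((D13033).symm.trans (sb E4290 (iv3 F28946)))).symm
theorem E4295 : n17814 = n7384 := (((F30457).symm.trans (sb E4290 (iv4 F28950)))).symm
theorem E4296 : n17823 = n13036 := (((D13036).symm.trans (sb E4290 D17823))).symm
theorem E4298 : n8396 = n6199 := (((D6199).symm.trans (sb E4291 (iv1 D17797)))).symm
theorem F30480 : act 2 n3764 = n6200 := (sb E4293 F21719)
theorem E4299 : n15715 = n8403 := (((D8403).symm.trans (sb E4293 (iv4 F30458)))).symm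
theorem F30481 : act 7 n13033 = n8397 := (sb E4294 (iv7 D17808))
theorem E4300 : n15710 = n8398 := ((F25209).symm.trans (sb E4295 (iv7 D17814)))
theorem F30482 : act 1 n13036 = n17107 := (sb E4296 F28993)
theorem F30485 : act 2 n6199 = n3763 := (sb E4298 (iv2 D8396))
theorem E4301 : n17798 = n13028 := (((D13028).symm.trans (sb E4298 D17798))).symm
theorem E4302 : n17799 = n7383 := (((F30461).symm.trans (sb E4298 D17799))).symm
theorem E4303 : n17800 = n13030 := (((D13030).symm.trans (sb E4298 D17800))).symm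
theorem E4304 : n17801 = n13031 := (((D13031).symm.trans (sb E4298 D17801))).symm
theorem F30487 : act 2 n8403 = n7384 := (sb E4299 F25211)
theorem F30488 : act 7 n8398 = n7384 := (sb E4300 (iv7 F25209))
theorem F30489 : act 7 n13028 = n8402 := (sb E4301 F28932)
theorem F30490 : act 2 n7383 = n8398 := (sb E4302 F28933)
theorem F30491 : act 7 n7383 = n8403 := (sb E4302 F28934)
theorem F30492 : act 2 n13030 = n8399 := (sb E4303 F28935)
theorem F30493 : act 7 n13030 = n8404 := (sb E4303 F28936)
theorem F30494 : act 2 n13031 = n8400 := (sb E4304 F28937)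
theorem E4305 : n17315 = n12895 := (((F21718).symm.trans (sb E4304 (iv5 F28938)))).symm
theorem F30495 : act 7 n13031 = n17314 := (sb E4304 F28939)
theorem F30496 : act 2 n12895 = n8108 := (sb E4305 F28251)
theorem F30497 : act 7 n12895 = n8107 := (sb E4305 (iv7 D17315))
theorem E4306 : n17311 = n12894 := (c15_4 (iv0 D12894) D12895 F30497 D17311)
theorem F30498 : act 2 n12894 = n8107 := (sb E4306 (iv2 D17311))
theorem F30499 : act 5 n12894 = n17822 := (sb E4306 (iv5 F28990))
theorem E4307 : n17547 = n12979 := (((F21576).symm.trans (sb E4306 F28543))).symm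
theorem F30500 : act 7 n12894 = n8108 := (sb E4306 (iv7 F28250))
theorem F30501 : act 2 n12979 = n8250 := (sb E4307 F28540)
theorem E4308 : n8247 = n6162 := ((((iv5 D12979)).symm.trans (sb E4307 F28541))).symm
theorem F30502 : act 7 n12979 = n8245 := (sb E4307 (iv7 D17547))
theorem E4309 : n17525 = n2593 := ((((iv1 D6162)).symm.trans (sb E4308 (iv1 F28523)))).symm
theorem E4311 : n12976 = n3711 := (((iv2 F21575)).symm.trans (sb E4308 F13022))
theorem E4312 : n17536 = n12977 := (((D12977).symm.trans (sb E4308 (iv3 F28532)))).symm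
theorem E4313 : n17542 = n12978 := (((D12978).symm.trans (sb E4308 (iv4 F28536)))).symm
theorem E4314 : n17551 = n12980 := (((D12980).symm.trans (sb E4308 D17551))).symm
theorem E4315 : n12971 = n3710 := ((F21573).symm.trans (sb E4308 (iv7 D8247)))
theorem E4316 : n8242 = n6161 := (((D6161).symm.trans (sb E4309 (iv1 D17525)))).symm
theorem F30503 : act 2 n3711 = n6162 := (sb E4311 F21575)
theorem F30504 : act 7 n12977 = n8243 := (sb E4312 (iv7 D17536))
theorem F30505 : act 2 n12978 = n8249 := (sb E4313 F28535)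
theorem F30506 : act 6 n12978 = n18759 := (sb E4313 F30445)
theorem F30507 : act 7 n12978 = n8244 := (sb E4313 (iv7 D17542))
theorem F30508 : act 0 n12980 = n8908 := (sb E4314 F30377)
theorem F30509 : act 1 n12980 = n8913 := (sb E4314 F30378)
theorem F30510 : act 2 n12980 = n8251 := (sb E4314 F28545)
theorem F30511 : act 4 n12980 = n18759 := (sb E4314 (iv4 F30442))
theorem F30512 : act 7 n12980 = n19029 := (sb E4314 (iv7 F30451))
theorem F30513 : act 7 n3710 = n6162 := (sb E4315 (iv7 F21573))
theorem F30514 : act 2 n6161 = n3710 := (sb E4316 (iv2 D8242))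
theorem E4317 : n17526 = n12972 := (((D12972).symm.trans (sb E4316 D17526))).symm
theorem E4318 : n17527 = n12973 := (((D12973).symm.trans (sb E4316 D17527))).symm
theorem E4319 : n17528 = n12974 := (((D12974).symm.trans (sb E4316 D17528))).symm
theorem E4320 : n17529 = n12975 := (((D12975).symm.trans (sb E4316 D17529))).symm
theorem F30515 : act 7 n6161 = n3711 := (sb E4316 (iv7 F13021))
theorem F30516 : act 7 n12972 = n8248 := (sb E4317 F28524)
theorem F30517 : act 2 n12973 = n8244 := (sb E4318 F28525)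
theorem F30518 : act 7 n12973 = n8249 := (sb E4318 F28526)
theorem F30519 : act 2 n12974 = n8245 := (sb E4319 F28527)
theorem F30520 : act 7 n12974 = n8250 := (sb E4319 F28528)
theorem F30521 : act 2 n12975 = n8246 := (sb E4320 F28529)
theorem F30523 : act 0 n17137 = n17822 := d21_10 (iv5 F30499) (iv1 F21402) F12881 (iv6 F9585) (iv1 F9587) D8251 D17564 F28554 F28051 D17137
theorem F30524 : act 1 n17137 = n13031 := d15_1 (iv0 F30523) F30495 (iv2 F28989)
theorem F30525 : act 2 n17813 = n15714 := d1_3 F30462 F30494 (iv4 F28948)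
theorem F30526 : act 7 n17830 = n15711 := d8_2 F30491 D17830 (iv3 D15711)
theorem F30527 : act 7 n17831 = n15713 := d13_2 F30491 D17831 (iv5 D15713)
theorem F30528 : act 2 n17812 = n15713 := d2_3 (iv5 D15713) F30490 D17812
theorem F30529 : act 7 n15716 = n17811 := d8_2 F30488 D15716 (iv3 D17811)
theorem F30530 : act 7 n15718 = n17812 := d13_2 F30488 D15718 (iv5 D17812)
theorem F30531 : act 2 n17831 = n15718 := d4_3 F30530 F30528 (iv7 F30527)
theorem F30532 : act 2 n15719 = n17832 := d3_3 (iv6 D17832) F30487 D15719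
theorem F30533 : act 0 n17574 = n17106 := d21_7 F30454 (iv1 D19029) F13873 (iv6 F30399) (iv1 D17716) D17718 F28782 (iv5 D17106) D17107 (iv1 F30482)
theorem F30534 : act 2 n17837 = n18114 := d15_3 (iv0 D18114) D18115 (iv7 F30475)
theorem F30535 : act 4 n18114 = n13037 := d1_2 D17837 F30534 F30476
theorem F30536 : act 6 n17833 = n18114 := d10_0 F30535 F21721 D17833
theorem F30537 : act 7 n17841 = n18114 := d11_0 F30535 F30477 D17841
theorem F30538 : act 2 n18115 = n17841 := d4_3 F30537 (iv2 F30534) F30475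
def n19030 : Q := act 0 n8911
theorem D19030 : act 0 n8911 = n19030 := rfl
def n19031 : Q := act 1 n8911
theorem D19031 : act 1 n8911 = n19031 := rfl
def n19032 : Q := act 2 n8911
theorem D19032 : act 2 n8911 = n19032 := rfl
def n19033 : Q := act 4 n8911
theorem D19033 : act 4 n8911 = n19033 := rfl
theorem F30539 : act 3 n19033 = n18692 := d5_1 D19033 (iv4 D18692) (iv3 D8767) F28977 D8911
def n19034 : Q := act 5 n8911
theorem D19034 : act 5 n8911 = n19034 := rfl
theorem F30540 : act 3 n19034 = n8913 := d6_1 D19034 (iv5 D8913) D8911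
theorem F30541 : act 6 n18896 = n19034 := d7_0 F30540 (iv6 F13875) D18896
def n19035 : Q := act 6 n8911
theorem D19035 : act 6 n8911 = n19035 := rfl
theorem F30542 : act 3 n19035 = n8914 := d7_1 D19035 (iv6 D8914) D8911
def n19036 : Q := act 2 n8916
theorem D19036 : act 2 n8916 = n19036 := rfl
theorem F30543 : act 7 n8917 = n19036 := d15_2 (iv0 D8916) D8917 (iv2 D19036)
def n19037 : Q := act 3 n8916
theorem D19037 : act 3 n8916 = n19037 := rfl
def n19038 : Q := act 4 n8916
theorem D19038 : act 4 n8916 = n19038 := rfl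
def n19039 : Q := act 5 n8916
theorem D19039 : act 5 n8916 = n19039 := rfl
theorem F30544 : act 0 n19039 = n17290 := d21_1 D19039 F28235 (iv6 D13007) (iv1 D6178) (iv6 D2600) (iv5 D1217) (iv1 F1714) (iv5 F2933) D3973 D8916
def n19040 : Q := act 6 n8916
theorem D19040 : act 6 n8916 = n19040 := rfl
theorem F30545 : act 5 n19040 = n17114 := d21_6 (iv5 D1217) (iv1 F1714) (iv5 F2933) D3973 D8916 D19040 (iv1 D17114) (iv5 D8005) (iv6 D3621) F2772
theorem F30546 : act 0 n17310 = n19040 := d21_4 F4178 D6177 D13002 (iv6 F28249) (iv6 D19040) D19039 F30544 F28235 (iv6 D13007) (iv1 D6178)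
theorem F30547 : act 1 n12893 = n19040 := d15_0 (iv0 F30546) (iv7 D17310) (iv2 F28819)
def n19041 : Q := act 7 n8916
theorem D19041 : act 7 n8916 = n19041 := rfl
theorem F30548 : act 2 n19041 = n8917 := d4_1 D19041 F30543 (iv2 D19036)
def n19042 : Q := act 3 n8917
theorem D19042 : act 3 n8917 = n19042 := rfl
def n19043 : Q := act 4 n8917
theorem D19043 : act 4 n8917 = n19043 := rfl
def n19044 : Q := act 5 n8917
theorem D19044 : act 5 n8917 = n19044 := rfl
theorem F30549 : act 0 n17290 = n19044 := d21_10 (iv5 D19044) (iv1 D8917) (iv5 F12891) (iv6 D8125) (iv1 D3658) (iv6 F5674) (iv5 D3652) D3650 D8100 D17290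
theorem F30550 : act 6 n17333 = n19044 := d21_5 (iv5 D1605) D1603 D3655 D8116 D17333 (iv5 D19044) (iv1 D8917) (iv5 F12891) (iv6 D8125) (iv1 D3658)
def n19045 : Q := act 6 n8917
theorem D19045 : act 6 n8917 = n19045 := rfl
theorem F30551 : act 0 n19045 = n17550 := d21_4 (iv5 F28235) F30549 (iv5 D19044) D19045 F30472 (iv5 F30454) F30456 (iv5 D17132) D17133 F28593
def n19046 : Q := act 5 n8918
theorem D19046 : act 5 n8918 = n19046 := rfl
theorem F30552 : act 2 n19046 = n16721 := d2_1 D19046 (iv5 D16721) (iv2 F13882)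
theorem F30553 : act 3 n19046 = n8925 := d6_1 D19046 (iv5 D8925) (iv3 F13883)
theorem F30554 : act 1 n19046 = n18142 := d17_6 (iv1 F12390) D8545 F27407 (iv5 D16713) (iv4 F13884) D19046 (iv5 D18142) F16787 F15130
theorem F30555 : act 0 n19046 = n9698 := d21_7 D9694 F15121 (iv5 D8999) F16743 (iv1 F12194) D8918 D19046 (iv5 D9698) (iv6 D4376) D4372
def n19047 : Q := act 5 n8920
theorem D19047 : act 5 n8920 = n19047 := rfl
theorem F30556 : act 2 n19047 = n13125 := d2_1 D19047 F21895 (iv2 F13890)
theorem F30557 : act 3 n19047 = n8921 := d6_1 D19047 (iv5 D8921) D8920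
theorem F30558 : act 7 n19047 = n13149 := d13_2 (iv7 F13892) D19047 F21928
theorem F30559 : act 0 n19047 = n13009 := d17_2 F13894 D19047 (iv5 D13009) (iv4 D6187) (iv5 F13342) F9574 (iv5 D3638) F4148 D6143
theorem F30560 : act 1 n19047 = n13008 := d17_6 F6758 D10285 (iv1 F21592) F13510 (iv4 F13891) D19047 (iv5 D13008) (iv0 F9632) F6465
def n19048 : Q := act 6 n8920
theorem D19048 : act 6 n8920 = n19048 := rfl
theorem F30561 : act 2 n19048 = n17044 := d3_1 D19048 (iv6 D17044) (iv2 F13890)
theorem F30562 : act 3 n19048 = n8922 := d7_1 D19048 (iv6 D8922) D8920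
theorem F30563 : act 4 n19048 = n16712 := d10_1 D19048 (iv6 D16712) (iv4 F13891)
theorem F30564 : act 7 n19048 = n17221 := d14_2 (iv7 F13892) D19048 F28171 F28091 (iv6 D16727)
theorem F30565 : act 0 n19048 = n17170 := d21_4 D13008 (iv1 F30560) (iv5 D19047) D19048 F28122 D18052 F29215 (iv5 D13111) (iv6 D6241) F9632
theorem F30566 : act 0 n17169 = n17365 := d20_10 (iv4 D17365) (iv1 F21445) F21442 F21441 (iv1 F17489) (iv3 F27403) (iv4 F30563) F30565 (iv4 D17170) D17169
theorem F30567 : act 1 n19048 = n17172 := d15_1 (iv0 F30565) F28130 (iv2 F28121)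
theorem F30568 : act 1 n17169 = n17046 := d15_1 (iv0 F30566) (iv7 F28315) F28311
theorem E4321 : n17230 = n17229 := ((c15_4 (iv0 F28307) (iv0 F30566) F28120 D17229)).symm
theorem F30569 : act 0 n17229 = n17046 := (sb E4321 (iv1 F28308))
theorem F30570 : act 1 n17229 = n17365 := (sb E4321 (iv0 F28307))
theorem F30571 : act 4 n17229 = n8080 := (sb E4321 (iv4 D17230))
def n19049 : Q := act 6 n8921
theorem D19049 : act 6 n8921 = n19049 := rfl
theorem F30572 : act 2 n19049 = n13139 := d3_1 D19049 (iv6 D13139) F14038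
theorem F30573 : act 4 n19049 = n18957 := d10_1 D19049 (iv6 D18957) (iv4 F13896)
def n19050 : Q := act 0 n8922
theorem D19050 : act 0 n8922 = n19050 := rfl
theorem F30574 : act 4 n19050 = n9156 := d20_2 (iv4 F13897) D19050 F17583 (iv1 F16882) F5942 F2969 (iv1 F1734) (iv4 F1785) D1827 F17521
theorem F30575 : act 3 n19050 = n12879 := d20_5 D12881 (iv1 F27431) (iv4 F30563) F30562 D19050 (iv4 D12879) (iv1 F21362) F21359 (iv3 F21358) (iv1 F21361)
theorem F30576 : act 1 n9591 = n19050 := d15_0 (iv0 D19050) F17539 F17537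
theorem F30577 : act 6 n9035 = n19050 := d7_0 F30575 F21382 (iv3 F17418)
def n19051 : Q := act 5 n8922
theorem D19051 : act 5 n8922 = n19051 := rfl
def n19052 : Q := act 4 n8925
theorem D19052 : act 4 n8925 = n19052 := rfl
def n19053 : Q := act 5 n8927
theorem D19053 : act 5 n8927 = n19053 := rfl
theorem F30578 : act 3 n19053 = n8930 := d6_1 D19053 (iv5 D8930) (iv3 F13900)
theorem F30579 : act 0 n9472 = n19053 := d21_1 D9472 (iv5 D19053) (iv6 D8927) F12244 (iv6 F16751) D9020 (iv1 F14546) (iv5 D9339) D9340 F17524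
def n19054 : Q := act 6 n8928
theorem D19054 : act 6 n8928 = n19054 := rfl
theorem F30580 : act 3 n19054 = n13129 := d7_1 D19054 (iv6 D13129) F14006
theorem F30581 : act 4 n19054 = n18960 := d10_1 D19054 (iv6 D18960) (iv4 F14004)
def n19055 : Q := act 5 n8929
theorem D19055 : act 5 n8929 = n19055 := rfl
theorem F30582 : act 3 n19055 = n13197 := d6_1 D19055 (iv5 D13197) F13905
def n19056 : Q := act 4 n8930
theorem D19056 : act 4 n8930 = n19056 := rfl
def n19057 : Q := act 3 n8931
theorem D19057 : act 3 n8931 = n19057 := rfl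
theorem F30583 : act 4 n19057 = n19057 := d5_2 D8931 D19057 (iv3 D19057) (iv4 D8931) F5930
def n19058 : Q := act 5 n8931
theorem D19058 : act 5 n8931 = n19058 := rfl
theorem F30584 : act 2 n19058 = n8939 := d2_1 D19058 (iv5 D8939) (iv2 F13908)
theorem F30585 : act 4 n19058 = n17682 := d16_2 D8931 D19058 (iv5 D17682) (iv4 D8327) F5742 (iv4 D1798) (iv5 F3042) F3043 (iv2 F5929)
theorem F30586 : act 0 n19058 = n10643 := d17_2 (iv1 F14415) D19058 (iv5 D10643) (iv4 D4876) (iv5 F7102) D4112 D9151 F14261 (iv4 F14413)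
theorem F30587 : act 1 n19058 = n10736 := d17_6 D2053 F7323 (iv1 F3055) D3984 D8931 D19058 (iv5 D10736) (iv0 D4909) F3316
def n19059 : Q := act 6 n8931
theorem D19059 : act 6 n8931 = n19059 := rfl
theorem F30588 : act 2 n19059 = n8940 := d3_1 D19059 (iv6 D8940) (iv2 F13908)
theorem F30589 : act 4 n19059 = n8932 := d10_1 D19059 (iv6 D8932) D8931
def n19060 : Q := act 0 n8932
theorem D19060 : act 0 n8932 = n19060 := rfl
def n19061 : Q := act 1 n8932
theorem D19061 : act 1 n8932 = n19061 := rfl
theorem F30590 : act 1 n19061 = n8943 := d15_1 D19061 (iv7 D8943) (iv2 F13909)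
def n19062 : Q := act 7 n8932
theorem D19062 : act 7 n8932 = n19062 := rfl
theorem F30591 : act 2 n19062 = n8943 := d4_1 D19062 (iv7 D8943) (iv2 F13909)
theorem F30592 : act 3 n19062 = n19062 := d8_1 D19062 (iv7 D19062) F13910
theorem F30593 : act 5 n19062 = n9059 := d13_1 D19062 (iv7 D9059) (iv5 F13911)
theorem F30594 : act 1 n8943 = n19060 := d15_0 (iv0 D19060) D19062 F30591
theorem F30595 : act 1 n8942 = n19062 := d15_1 D8942 (iv7 D19062) F13909
theorem F30596 : act 1 n19062 = n8941 := d15_0 (iv0 D8941) D8943 (iv2 F30591)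
def n19063 : Q := act 1 n8933
theorem D19063 : act 1 n8933 = n19063 := rfl
theorem F30597 : act 1 n19063 = n8936 := d15_1 D19063 F13920 (iv2 F13912)
theorem F30598 : act 7 n19063 = n9012 := d15_2 F16003 D19063 (iv2 F16000)
theorem F30599 : act 4 n19063 = n9151 := d18_7 F6527 (iv4 F6762) F6764 F5977 (iv5 F7019) D8933 D19063 F14261 (iv5 D4740)
theorem F30600 : act 2 n9011 = n19063 := d1_3 F30599 F14257 (iv4 F14070)
def n19064 : Q := act 3 n8933
theorem D19064 : act 3 n8933 = n19064 := rfl
theorem F30601 : act 4 n19064 = n18192 := d5_2 D8933 D19064 (iv3 D18192) (iv4 D8581) (iv3 F7018)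
theorem F30602 : act 7 n19064 = n9013 := d8_2 (iv7 F13913) D19064 (iv3 D9013)
theorem F30603 : act 0 n19064 = n15688 := d19_4 (iv1 F6417) (iv5 F7019) D8933 D19064 (iv5 D15688) (iv4 D7377) F5376 D3385 F5377 (iv4 D1527) F1572 F1108 (iv5 D460) F981 (iv3 D308) (iv1 F301) (iv5 F557) (iv4 F1121) (iv3 F1749)
theorem F30604 : act 5 n15378 = n19064 := d16_1 (iv4 F27273) F30601 F29360 (iv4 F17283) F17284 D7366 D15656 (iv7 F25712) F25711
def n19065 : Q := act 5 n8933
theorem D19065 : act 5 n8933 = n19065 := rfl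
theorem F30605 : act 2 n19065 = n9038 := d2_1 D19065 (iv5 D9038) (iv2 F13912)
theorem F30606 : act 3 n19065 = n15378 := d6_1 D19065 F30604 (iv3 D19064)
theorem F30607 : act 7 n19065 = n9014 := d13_2 (iv7 F13913) D19065 (iv5 D9014)
def n19066 : Q := act 6 n8933
theorem D19066 : act 6 n8933 = n19066 := rfl
theorem F30608 : act 2 n19066 = n9039 := d3_1 D19066 (iv6 D9039) (iv2 F13912)
theorem F30609 : act 4 n19066 = n8934 := d10_1 D19066 (iv6 D8934) D8933
def n19067 : Q := act 0 n8934
theorem D19067 : act 0 n8934 = n19067 := rfl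
def n19068 : Q := act 1 n8934
theorem D19068 : act 1 n8934 = n19068 := rfl
theorem F30610 : act 1 n19068 = n9043 := d15_1 D19068 (iv7 D9043) (iv2 F13914)
def n19069 : Q := act 5 n8934
theorem D19069 : act 5 n8934 = n19069 := rfl
theorem F30611 : act 2 n19069 = n9042 := d2_1 D19069 (iv5 D9042) (iv2 F13914)
theorem F30612 : act 3 n19069 = n18196 := d6_1 D19069 (iv5 D18196) (iv3 F13915)
theorem F30613 : act 6 n19069 = n9019 := d12_2 D8934 D19069 (iv5 D9019) (iv6 D4048) (iv5 F7019)
def n19070 : Q := act 7 n8934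
theorem D19070 : act 7 n8934 = n19070 := rfl
theorem F30614 : act 2 n19070 = n9043 := d4_1 D19070 (iv7 D9043) (iv2 F13914)
theorem F30615 : act 3 n19070 = n18197 := d8_1 D19070 (iv7 D18197) (iv3 F13915)
theorem F30616 : act 6 n19070 = n9018 := d14_1 D19070 (iv7 D9018) (iv6 D4042) (iv7 F7020) D8934
theorem F30617 : act 1 n9043 = n19067 := d15_0 (iv0 D19067) D19070 F30614
theorem F30618 : act 1 n9041 = n19070 := d15_1 D9041 (iv7 D19070) F13914
theorem F30619 : act 1 n19070 = n9040 := d15_0 (iv0 D9040) D9043 (iv2 F30614)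
def n19071 : Q := act 6 n8935
theorem D19071 : act 6 n8935 = n19071 := rfl
theorem F30620 : act 2 n19071 = n18143 := d3_1 D19071 (iv6 D18143) (iv2 F13916)
theorem F30621 : act 3 n19071 = n8937 := d7_1 D19071 (iv6 D8937) D8935
theorem F30622 : act 5 n19071 = n19071 := d12_1 D19071 (iv6 D19071) F13917 F7202 (iv5 F13917)
def n19072 : Q := act 3 n8936
theorem D19072 : act 3 n8936 = n19072 := rfl
theorem F30623 : act 7 n19072 = n9037 := d8_2 (iv7 F13920) D19072 (iv3 D9037)
def n19073 : Q := act 5 n8936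
theorem D19073 : act 5 n8936 = n19073 := rfl
theorem F30624 : act 2 n19073 = n9014 := d2_1 D19073 (iv5 D9014) (iv2 F13919)
theorem F30625 : act 7 n19073 = n9038 := d13_2 (iv7 F13920) D19073 (iv5 D9038)
def n19074 : Q := act 6 n8936
theorem D19074 : act 6 n8936 = n19074 := rfl
theorem F30626 : act 2 n19074 = n9015 := d3_1 D19074 (iv6 D9015) (iv2 F13919)
theorem F30627 : act 4 n19074 = n8937 := d10_1 D19074 (iv6 D8937) D8936
def n19075 : Q := act 0 n8937
theorem D19075 : act 0 n8937 = n19075 := rfl
def n19076 : Q := act 1 n8937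
theorem D19076 : act 1 n8937 = n19076 := rfl
theorem F30628 : act 1 n19076 = n9018 := d15_1 D19076 (iv7 D9018) (iv2 F13921)
def n19077 : Q := act 7 n8937
theorem D19077 : act 7 n8937 = n19077 := rfl
theorem F30629 : act 2 n19077 = n9018 := d4_1 D19077 (iv7 D9018) (iv2 F13921)
theorem F30630 : act 5 n19077 = n19077 := d13_1 D19077 (iv7 D19077) F13922
theorem F30631 : act 6 n19077 = n9043 := d14_1 D19077 (iv7 D9043) (iv6 D4058) (iv7 F7016) D8937
theorem F30632 : act 1 n9018 = n19075 := d15_0 (iv0 D19075) D19077 F30629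
theorem F30633 : act 1 n9017 = n19077 := d15_1 D9017 (iv7 D19077) F13921
theorem F30634 : act 1 n19077 = n9016 := d15_0 (iv0 D9016) D9018 (iv2 F30629)
def n19078 : Q := act 3 n8938
theorem D19078 : act 3 n8938 = n19078 := rfl
def n19079 : Q := act 6 n8938
theorem D19079 : act 6 n8938 = n19079 := rfl
def n19080 : Q := act 4 n8939
theorem D19080 : act 4 n8939 = n19080 := rfl
theorem F30635 : act 2 n19080 = n17682 := d1_1 D19080 (iv4 F30585) F30584
theorem F30636 : act 5 n19080 = n17680 := d16_3 D3987 D8939 D19080 (iv4 D17680) F13140 (iv4 D4217) (iv5 F6084) F6085 F5929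
theorem F30637 : act 0 n19080 = n18959 := d17_0 (iv5 D18959) (iv1 D8886) D8888 (iv4 F17265) (iv5 D10738) F7333 D9081 F14156 D19080
theorem F30638 : act 1 n19080 = n18956 := d18_8 (iv1 F30182) (iv4 D18906) F13820 D8883 D18949 F30261 F14156 D19080 (iv5 D18956)
def n19081 : Q := act 6 n8939
theorem D19081 : act 6 n8939 = n19081 := rfl
def n19082 : Q := act 0 n8940
theorem D19082 : act 0 n8940 = n19082 := rfl
def n19083 : Q := act 1 n8940
theorem D19083 : act 1 n8940 = n19083 := rfl
def n19084 : Q := act 5 n8940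
theorem D19084 : act 5 n8940 = n19084 := rfl
def n19085 : Q := act 7 n8940
theorem D19085 : act 7 n8940 = n19085 := rfl
theorem F30639 : act 4 n19085 = n8943 := d11_1 D19085 (iv7 D8943) (iv4 F13923)
def n19086 : Q := act 2 n8941
theorem D19086 : act 2 n8941 = n19086 := rfl
theorem F30640 : act 7 n8942 = n19086 := d15_2 (iv0 D8941) D8942 (iv2 D19086)
def n19087 : Q := act 3 n8941
theorem D19087 : act 3 n8941 = n19087 := rfl
def n19088 : Q := act 4 n8941
theorem D19088 : act 4 n8941 = n19088 := rfl
def n19089 : Q := act 5 n8941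
theorem D19089 : act 5 n8941 = n19089 := rfl
def n19090 : Q := act 6 n8941
theorem D19090 : act 6 n8941 = n19090 := rfl
def n19091 : Q := act 7 n8941
theorem D19091 : act 7 n8941 = n19091 := rfl
theorem F30641 : act 2 n19091 = n8942 := d4_1 D19091 F30640 (iv2 D19086)
def n19092 : Q := act 3 n8942
theorem D19092 : act 3 n8942 = n19092 := rfl
def n19093 : Q := act 4 n8942
theorem D19093 : act 4 n8942 = n19093 := rfl
def n19094 : Q := act 5 n8942
theorem D19094 : act 5 n8942 = n19094 := rfl
def n19095 : Q := act 6 n8942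
theorem D19095 : act 6 n8942 = n19095 := rfl
def n19098 : Q := act 3 n8944
theorem D19098 : act 3 n8944 = n19098 := rfl
theorem F30644 : act 7 n19098 = n8950 := d8_2 F13926 D19098 (iv3 D8950)
def n19099 : Q := act 5 n8944
theorem D19099 : act 5 n8944 = n19099 := rfl
theorem F30645 : act 2 n19099 = n8947 := d2_1 D19099 (iv5 D8947) D8944
theorem F30646 : act 7 n19099 = n8952 := d13_2 F13926 D19099 (iv5 D8952)
def n19100 : Q := act 6 n8944
theorem D19100 : act 6 n8944 = n19100 := rfl
theorem F30647 : act 2 n19100 = n8948 := d3_1 D19100 (iv6 D8948) D8944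
theorem F30648 : act 5 n11011 = n19100 := d2_0 F30647 F13927 (iv2 F17874)
theorem F30649 : act 7 n9906 = n19100 := d15_2 F15566 F15565 F30647
theorem F30650 : act 7 n8953 = n10023 := d14_4 F30649 (iv6 D19100) (iv7 F13926) D8953 (iv6 F15839)
theorem F30651 : act 7 n9900 = n9267 := d11_2 F30650 F15838 (iv4 F15265)
theorem F30652 : act 7 n9528 = n9527 := d13_2 F30650 F15840 F14781
theorem F30653 : act 2 n10023 = n10023 := d15_3 F15837 (iv0 F15394) F30650
theorem F30654 : act 2 n8953 = n8953 := d4_1 (iv7 F30650) F30650 F30653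
theorem F30656 : act 2 n9527 = n9527 := d2_3 F14781 F30654 (iv5 F14781)
theorem E4322 : n8949 = n3990 := (c3_4 D8953 F30654 (iv6 D8953) (iv2 F13928))
theorem F30657 : act 2 n3990 = n3990 := (sb E4322 F13928)
theorem E4325 : n9263 = n4190 := ((((iv4 F15266)).symm.trans (sb E4322 F15267))).symm
theorem E4326 : n8944 = n3989 := ((F13926).symm.trans (sb E4322 (iv7 D8949)))
theorem F30658 : act 2 n4190 = n4190 := (sb E4325 F14459)
theorem E4327 : n9259 = n4189 := ((F14458).symm.trans (sb E4325 (iv7 D9263)))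
theorem F30659 : act 2 n3989 = n3989 := (sb E4326 (iv2 D8944))
theorem E4328 : n19098 = n8945 := (((D8945).symm.trans (sb E4326 D19098))).symm
theorem E4329 : n19099 = n8947 := (((D8947).symm.trans (sb E4326 D19099))).symm
theorem E4330 : n19100 = n8948 := (((D8948).symm.trans (sb E4326 D19100))).symm
theorem F30660 : act 7 n3989 = n3990 := (sb E4326 (iv7 F13926))
theorem F30661 : act 2 n4189 = n4189 := (sb E4327 (iv2 D9259))
theorem F30662 : act 7 n4189 = n4190 := (sb E4327 (iv7 F14458))
theorem F30663 : act 7 n8945 = n8950 := (sb E4328 F30644)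
theorem F30664 : act 2 n8947 = n8947 := (sb E4329 F30645)
theorem F30665 : act 7 n8947 = n8952 := (sb E4329 F30646)
theorem F30666 : act 2 n8948 = n8948 := (sb E4330 F30647)
theorem E4331 : n11011 = n5016 := (((F13927).symm.trans (sb E4330 (iv5 F30648)))).symm
theorem F30667 : act 7 n8948 = n9906 := (sb E4330 (iv7 F30649))
theorem F30668 : act 2 n5016 = n5016 := (sb E4331 F17874)
theorem E4332 : n11007 = n5015 := ((F17871).symm.trans (sb E4331 (iv7 D11011)))
theorem F30669 : act 2 n5015 = n5015 := (sb E4332 (iv2 D11007))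
theorem F30670 : act 7 n5015 = n5016 := (sb E4332 (iv7 F17871))
theorem F30671 : act 7 n11012 = n11008 := d8_2 F30670 D11012 (iv3 D11008)
theorem F30672 : act 7 n11013 = n11009 := d11_2 F30670 D11013 (iv4 D11009)
theorem F30673 : act 2 n11009 = n11009 := d15_3 F17872 (iv0 F17875) F30672
theorem F30675 : act 2 n9906 = n9906 := d2_3 F15560 F30669 (iv5 F15560)
theorem F30676 : act 2 n11010 = n11010 := d3_3 (iv6 D11010) F30669 D11010
theorem F30677 : act 2 n9602 = n9602 := d2_3 (iv5 F17873) F30676 F17873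
theorem F30679 : act 7 n9601 = n9602 := d15_2 F14965 F14964 F30677
theorem F30680 : act 2 n9601 = n9601 := d4_3 F30679 F30677 (iv7 F30679)
theorem F30681 : act 2 n9266 = n9266 := d3_3 (iv6 F14960) F30680 F14960
theorem F30682 : act 7 n9262 = n9266 := d15_2 (iv0 F15395) F14825 F30681
theorem F30683 : act 2 n9262 = n9262 := d4_3 F30682 F30681 (iv7 F30682)
theorem F30684 : act 2 n9797 = n9797 := d3_3 F15397 F30668 (iv6 F15397)
theorem F30686 : act 7 n9796 = n9797 := d15_2 F15295 F15298 F30684
theorem F30688 : act 2 n8952 = n8952 := d1_3 F15293 F30666 (iv4 F15293)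
theorem F30689 : act 7 n9264 = n9260 := d8_2 F30662 D9264 (iv3 D9260)
def n19101 : Q := act 0 n8945
theorem D19101 : act 0 n8945 = n19101 := rfl
def n19102 : Q := act 1 n8945
theorem D19102 : act 1 n8945 = n19102 := rfl
def n19103 : Q := act 2 n8945
theorem D19103 : act 2 n8945 = n19103 := rfl
theorem F30690 : act 3 n19103 = n19103 := d0_2 D8945 D19103 (iv2 D19103) (iv3 D8945) F30659
def n19104 : Q := act 4 n8945
theorem D19104 : act 4 n8945 = n19104 := rfl
def n19105 : Q := act 5 n8945
theorem D19105 : act 5 n8945 = n19105 := rfl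
theorem F30691 : act 3 n19105 = n8947 := d6_1 D19105 (iv5 D8947) D8945
def n19106 : Q := act 6 n8945
theorem D19106 : act 6 n8945 = n19106 := rfl
theorem F30692 : act 3 n19106 = n8948 := d7_1 D19106 (iv6 D8948) D8945
theorem F30693 : act 5 n11012 = n19106 := d6_0 F30692 F13927 D11012
def n19107 : Q := act 0 n8950
theorem D19107 : act 0 n8950 = n19107 := rfl
theorem F30694 : act 1 n19103 = n19107 := d15_0 (iv0 D19107) (iv7 F30663) D19103
def n19108 : Q := act 1 n8950
theorem D19108 : act 1 n8950 = n19108 := rfl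
def n19109 : Q := act 2 n8950
theorem D19109 : act 2 n8950 = n19109 := rfl
theorem F30695 : act 3 n19109 = n19109 := d0_2 D8950 D19109 (iv2 D19109) (iv3 D8950) F30657
theorem F30696 : act 7 n19109 = n19103 := d4_2 F30663 D19109 (iv2 D19103)
theorem F30697 : act 1 n19109 = n19101 := d15_0 (iv0 D19101) F30663 D19109
def n19110 : Q := act 4 n8950
theorem D19110 : act 4 n8950 = n19110 := rfl
theorem F30700 : act 7 n19110 = n19104 := d11_2 F30663 D19110 (iv4 D19104)
def n19111 : Q := act 5 n8950
theorem D19111 : act 5 n8950 = n19111 := rfl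
theorem F30701 : act 3 n19111 = n8952 := d6_1 D19111 (iv5 D8952) D8950
theorem F30702 : act 7 n19111 = n19105 := d13_2 F30663 D19111 (iv5 D19105)
theorem F30703 : act 6 n9260 = n19111 := d7_0 F30701 F13929 D9260
def n19112 : Q := act 6 n8950
theorem D19112 : act 6 n8950 = n19112 := rfl
theorem F30704 : act 3 n19112 = n8953 := d7_1 D19112 (iv6 D8953) D8950
def n19113 : Q := act 6 n8954
theorem D19113 : act 6 n8954 = n19113 := rfl
theorem F30705 : act 2 n19113 = n17745 := d3_1 D19113 (iv6 D17745) (iv2 F13930)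
def n19114 : Q := act 5 n8955
theorem D19114 : act 5 n8955 = n19114 := rfl
theorem F30706 : act 2 n19114 = n17502 := d2_1 D19114 (iv5 D17502) (iv2 F13931)
theorem F30707 : act 7 n19114 = n10088 := d13_2 (iv7 F16748) D19114 (iv5 D10088)
def n19115 : Q := act 4 n8956
theorem D19115 : act 4 n8956 = n19115 := rfl
theorem F30708 : act 7 n19115 = n10108 := d11_2 (iv7 F16777) D19115 (iv4 D10108)
def n19116 : Q := act 4 n8963
theorem D19116 : act 4 n8963 = n19116 := rfl
theorem F30709 : act 2 n19116 = n8973 := d1_1 D19116 (iv4 D8973) (iv2 F14736)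
theorem F30710 : act 3 n19116 = n9491 := d5_1 D19116 (iv4 D9491) (iv3 D4293) D4294 (iv3 F13936)
theorem F30711 : act 6 n19116 = n19116 := d10_2 F14740 D19116 (iv4 D19116)
theorem F30712 : act 7 n19116 = n8968 := d11_2 (iv7 F14737) D19116 (iv4 D8968)
def n19117 : Q := act 4 n8964
theorem D19117 : act 4 n8964 = n19117 := rfl
theorem F30713 : act 2 n19117 = n8977 := d1_1 D19117 (iv4 D8977) (iv2 F13937)
def n19118 : Q := act 5 n8967
theorem D19118 : act 5 n8967 = n19118 := rfl
theorem F30714 : act 2 n19118 = n9478 := d2_1 D19118 (iv5 D9478) (iv2 F14721)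
theorem F30715 : act 3 n19118 = n8969 := d6_1 D19118 (iv5 D8969) D8967
theorem F30716 : act 7 n19118 = n9493 := d13_2 (iv7 F14722) D19118 (iv5 D9493)
theorem F30717 : act 0 n19118 = n9185 := d21_1 D19118 (iv5 D9185) (iv6 D4138) F6041 (iv6 F16767) D4505 (iv1 F15055) (iv5 D9666) D9667 (iv1 F17391)
theorem F30718 : act 1 n10836 = n9493 := d15_1 (iv0 F17384) (iv7 F30716) F30714
theorem F30719 : act 4 n19118 = n9779 := d20_6 D4326 (iv1 F7519) (iv4 D5069) (iv3 F7513) (iv1 F16843) (iv3 F30715) (iv1 D9779) (iv4 D4421) F3141 (iv1 F3107)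
def n19119 : Q := act 0 n8968
theorem D19119 : act 0 n8968 = n19119 := rfl
theorem F30720 : act 4 n19119 = n9468 := d20_2 D8968 D19119 F27366 (iv1 D4323) (iv3 D1827) F1785 (iv1 D922) (iv4 F1729) (iv3 F2965) D4001
theorem F30721 : act 3 n19119 = n17365 := d20_5 (iv4 F13884) F27370 (iv4 F17568) (iv3 F17567) D19119 (iv4 D17365) (iv1 F21445) F21442 F21441 (iv1 F17489)
theorem F30722 : act 1 n8973 = n19119 := d15_0 (iv0 D19119) (iv7 F30712) F30709
theorem F30723 : act 6 n10251 = n19119 := d7_0 F30721 F28305 F27984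
def n19120 : Q := act 5 n8968
theorem D19120 : act 5 n8968 = n19120 := rfl
def n19121 : Q := act 4 n8969
theorem D19121 : act 4 n8969 = n19121 := rfl
def n19122 : Q := act 6 n8969
theorem D19122 : act 6 n8969 = n19122 := rfl
theorem F30724 : act 5 n19122 = n10375 := d12_1 D19122 (iv6 D10375) (iv5 D4698) F16880 D8969
def n19123 : Q := act 4 n8972
theorem D19123 : act 4 n8972 = n19123 := rfl
theorem F30725 : act 2 n19123 = n16695 := d1_1 D19123 F27363 F17579
theorem F30726 : act 6 n19123 = n19123 := d10_2 F14746 D19123 (iv4 D19123)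
theorem F30727 : act 7 n19123 = n19050 := d11_2 F17585 D19123 F30574
theorem F30728 : act 0 n9562 = n19123 := d20_1 D9562 (iv4 D19123) (iv3 D8972) (iv1 D4002) F2965 F1729 D921 (iv4 F1792) D1825 D4315
theorem F30729 : act 0 n16693 = n17374 := d20_7 (iv4 D19123) (iv1 F17587) F14265 (iv3 F14250) F17024 F17595 (iv4 F27360) F28324 (iv3 F28170) F30728
theorem F30730 : act 1 n9330 = n19123 := d15_0 (iv0 F30728) (iv7 F17539) (iv2 F14518)
theorem F30731 : act 0 n9329 = n9470 := d20_4 D19123 (iv1 F30730) F14520 (iv3 F14517) (iv3 F27426) F27424 (iv1 F17566) F14313 (iv3 F14274) (iv1 F17586)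
theorem F30732 : act 1 n9329 = n9409 := d15_1 (iv0 F30731) F14728 D9470
def n19124 : Q := act 5 n8972
theorem D19124 : act 5 n8972 = n19124 := rfl
theorem F30733 : act 3 n19124 = n8974 := d6_1 D19124 (iv5 D8974) D8972
theorem F30734 : act 0 n10831 = n19124 := d21_1 D10831 (iv5 D19124) F14746 (iv1 F17587) (iv6 D9153) (iv5 F7235) F15466 (iv5 D9834) D9835 (iv1 F16938)
def n19125 : Q := act 4 n8974
theorem D19125 : act 4 n8974 = n19125 := rfl
def n19126 : Q := act 6 n8974
theorem D19126 : act 6 n8974 = n19126 := rfl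
theorem F30735 : act 5 n19126 = n19126 := d12_1 D19126 (iv6 D19126) (iv5 D8974) F14741 D8974
def n19127 : Q := act 0 n8977
theorem D19127 : act 0 n8977 = n19127 := rfl
def n19128 : Q := act 1 n8977
theorem D19128 : act 1 n8977 = n19128 := rfl
theorem F30736 : act 4 n9832 = n19128 := d20_6 D4207 (iv1 F6229) F6227 (iv3 F6188) F7277 (iv3 F15457) (iv1 D19128) (iv4 D8977) F5941 (iv1 F3054)
def n19129 : Q := act 3 n8977
theorem D19129 : act 3 n8977 = n19129 := rfl
theorem F30737 : act 4 n19129 = n8978 := d5_2 D8977 D19129 (iv3 D8978) (iv4 D4005) (iv3 F5941)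
def n19130 : Q := act 5 n8977
theorem D19130 : act 5 n8977 = n19130 := rfl
def n19131 : Q := act 0 n8978
theorem D19131 : act 0 n8978 = n19131 := rfl
def n19132 : Q := act 1 n8978
theorem D19132 : act 1 n8978 = n19132 := rfl
def n19133 : Q := act 2 n8978
theorem D19133 : act 2 n8978 = n19133 := rfl
theorem F30738 : act 3 n19133 = n19133 := d0_2 D8978 D19133 (iv2 D19133) (iv3 D8978) F5944
def n19134 : Q := act 6 n8979
theorem D19134 : act 6 n8979 = n19134 := rfl
theorem F30739 : act 2 n19134 = n17080 := d3_1 D19134 (iv6 D17080) F13953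
theorem F30740 : act 3 n19134 = n12797 := d7_1 D19134 (iv6 D12797) (iv3 F13951)
theorem F30741 : act 4 n19134 = n9329 := d10_1 D19134 (iv6 D9329) (iv4 F13950)
theorem F30742 : act 7 n19134 = n19119 := d14_2 F13954 D19134 (iv6 F30723) F16949 (iv6 F16951)
theorem F30743 : act 0 n19116 = n19134 := d20_10 F30741 F30731 (iv4 F14735) D16693 F30729 (iv3 D17374) (iv4 F17543) (iv1 D9489) D9491 (iv3 F30710)
theorem F30744 : act 1 n10385 = n19134 := d15_0 (iv0 F30743) F30712 F16878
def n19135 : Q := act 6 n8981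
theorem D19135 : act 6 n8981 = n19135 := rfl
theorem F30745 : act 2 n19135 = n17429 := d3_1 D19135 (iv6 D17429) (iv2 F13960)
theorem F30746 : act 3 n19135 = n10472 := d7_1 D19135 (iv6 D10472) (iv3 F13961)
theorem F30747 : act 4 n19135 = n17928 := d10_1 D19135 (iv6 D17928) (iv4 F13963)
theorem F30748 : act 5 n19135 = n10213 := d12_1 D19135 (iv6 D10213) (iv5 D4639) F16739 D8981
def n19136 : Q := act 5 n8988
theorem D19136 : act 5 n8988 = n19136 := rfl
theorem F30749 : act 3 n19136 = n8989 := d6_1 D19136 (iv5 D8989) (iv3 F13978)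
theorem F30750 : act 7 n19136 = n10246 := d13_2 F16817 D19136 (iv5 D10246)
theorem F30751 : act 0 n9158 = n19136 := d21_7 (iv5 F16196) (iv1 F16200) (iv5 D4738) F16814 (iv1 D4112) D4116 D9158 (iv5 D19136) (iv6 D8988) D8987
def n19137 : Q := act 4 n8989
theorem D19137 : act 4 n8989 = n19137 := rfl
theorem F30752 : act 2 n19137 = n19115 := d1_1 D19137 (iv4 D19115) (iv2 F13979)
theorem F30753 : act 7 n19137 = n10272 := d11_2 F16818 D19137 (iv4 D10272)
def n19138 : Q := act 4 n8990
theorem D19138 : act 4 n8990 = n19138 := rfl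
theorem F30754 : act 2 n19138 = n8996 := d1_1 D19138 (iv4 D8996) (iv2 F13980)
def n19139 : Q := act 4 n8994
theorem D19139 : act 4 n8994 = n19139 := rfl
theorem F30755 : act 2 n19139 = n19125 := d1_1 D19139 (iv4 D19125) F16899
theorem F30756 : act 7 n19139 = n19121 := d11_2 (iv7 F16901) D19139 (iv4 D19121)
def n19140 : Q := act 6 n8994
theorem D19140 : act 6 n8994 = n19140 := rfl
theorem F30757 : act 2 n19140 = n19126 := d3_1 D19140 (iv6 D19126) F16899
theorem F30758 : act 5 n19140 = n19140 := d12_1 D19140 (iv6 D19140) F16900 F14740 (iv5 F16900)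
def n19141 : Q := act 3 n8995
theorem D19141 : act 3 n8995 = n19141 := rfl
theorem F30759 : act 5 n19141 = n9156 := d6_2 F13986 D19141 F17583
theorem F30760 : act 7 n19141 = n19124 := d8_2 F16898 D19141 F30733
def n19142 : Q := act 4 n8995
theorem D19142 : act 4 n8995 = n19142 := rfl
theorem F30761 : act 2 n19142 = n19121 := d1_1 D19142 (iv4 D19121) F16844
theorem F30762 : act 7 n19142 = n19125 := d11_2 F16898 D19142 (iv4 D19125)
def n19143 : Q := act 6 n8995
theorem D19143 : act 6 n8995 = n19143 := rfl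
theorem F30763 : act 2 n19143 = n19122 := d3_1 D19143 (iv6 D19122) F16844
theorem F30764 : act 5 n19143 = n10387 := d12_1 D19143 (iv6 D10387) (iv5 D4703) D4704 F13986
def n19144 : Q := act 0 n8996
theorem D19144 : act 0 n8996 = n19144 := rfl
def n19145 : Q := act 1 n8996
theorem D19145 : act 1 n8996 = n19145 := rfl
theorem F30765 : act 4 n9472 = n19145 := d20_6 D4344 F6259 F6224 (iv3 F6347) F16839 (iv3 F14688) (iv1 D19145) (iv4 D8996) F5950 (iv1 F3124)
def n19146 : Q := act 3 n8996
theorem D19146 : act 3 n8996 = n19146 := rfl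
theorem F30766 : act 4 n19146 = n8997 := d5_2 D8996 D19146 (iv3 D8997) (iv4 D4019) (iv3 F5950)
def n19147 : Q := act 5 n8996
theorem D19147 : act 5 n8996 = n19147 := rfl
def n19148 : Q := act 0 n8997
theorem D19148 : act 0 n8997 = n19148 := rfl
def n19149 : Q := act 1 n8997
theorem D19149 : act 1 n8997 = n19149 := rfl
def n19150 : Q := act 2 n8997
theorem D19150 : act 2 n8997 = n19150 := rfl
def n19151 : Q := act 4 n8998
theorem D19151 : act 4 n8998 = n19151 := rfl
theorem F30768 : act 2 n19151 = n9111 := d1_1 D19151 (iv4 D9111) (iv2 F13987)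
def n19152 : Q := act 6 n8999
theorem D19152 : act 6 n8999 = n19152 := rfl
theorem F30769 : act 2 n19152 = n9426 := d3_1 D19152 (iv6 D9426) (iv2 F13989)
theorem F30770 : act 4 n19152 = n10652 := d10_1 D19152 (iv6 D10652) (iv4 F13992)
theorem F30771 : act 5 n19152 = n18144 := d12_1 D19152 (iv6 D18144) F13388 (iv6 F16743) D8999
def n19153 : Q := act 6 n9001
theorem D19153 : act 6 n9001 = n19153 := rfl
theorem F30772 : act 2 n19153 = n9696 := d3_1 D19153 (iv6 D9696) F13998
theorem F30773 : act 4 n19153 = n10487 := d10_1 D19153 (iv6 D10487) F13999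
def n19154 : Q := act 0 n9002
theorem D19154 : act 0 n9002 = n19154 := rfl
def n19155 : Q := act 1 n9002
theorem D19155 : act 1 n9002 = n19155 := rfl
theorem F30774 : act 1 n19155 = n18149 := d15_1 D19155 (iv7 D18149) (iv2 F14000)
def n19156 : Q := act 7 n9002
theorem D19156 : act 7 n9002 = n19156 := rfl
theorem F30775 : act 2 n19156 = n18149 := d4_1 D19156 (iv7 D18149) (iv2 F14000)
theorem F30776 : act 3 n19156 = n9018 := d8_1 D19156 (iv7 D9018) (iv3 F14001)
theorem F30777 : act 5 n19156 = n19156 := d13_1 D19156 (iv7 D19156) F14002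
theorem F30778 : act 6 n19156 = n18197 := d14_1 D19156 (iv7 D18197) (iv6 D8582) F6460 D9002
theorem F30779 : act 1 n18149 = n19154 := d15_0 (iv0 D19154) D19156 F30775
theorem F30780 : act 1 n18148 = n19156 := d15_1 D18148 (iv7 D19156) F14000
theorem F30781 : act 1 n19156 = n18147 := d15_0 (iv0 D18147) D18149 (iv2 F30775)
def n19157 : Q := act 4 n9003
theorem D19157 : act 4 n9003 = n19157 := rfl
theorem F30782 : act 2 n19157 = n18937 := d1_1 D19157 F30238 F16313
theorem F30783 : act 7 n19157 = n18938 := d11_2 F15959 D19157 F30242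
theorem F30784 : act 0 n19157 = n18928 := d18_2 F14143 D19157 (iv4 D18928) F13840 (iv4 F13973) (iv0 D8987) (iv4 F13885) (iv0 D8919) D8921
theorem F30785 : act 1 n19157 = n18926 := d18_6 F3281 (iv4 D1964) (iv1 F6438) (iv4 F5972) D9003 D19157 (iv4 D18926) (iv0 D8875) (iv5 D3961)
def n19158 : Q := act 6 n9003
theorem D19158 : act 6 n9003 = n19158 := rfl
def n19159 : Q := act 5 n9004
theorem D19159 : act 5 n9004 = n19159 := rfl
def n19160 : Q := act 6 n9005
theorem D19160 : act 6 n9005 = n19160 := rfl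
theorem F30786 : act 3 n19160 = n9008 := d7_1 D19160 (iv6 D9008) (iv3 F14041)
theorem F30787 : act 5 n19160 = n19160 := d12_1 D19160 (iv6 D19160) (iv5 D9005) F7187 D9005
def n19161 : Q := act 4 n9006
theorem D19161 : act 4 n9006 = n19161 := rfl
theorem F30788 : act 2 n19161 = n18908 := d1_1 D19161 F30185 F16380
theorem F30789 : act 7 n19161 = n18909 := d11_2 F21822 D19161 F30189
theorem F30790 : act 0 n19161 = n10531 := d18_2 D9006 D19161 (iv4 D10531) (iv5 D4821) (iv4 F6715) (iv0 D4649) (iv4 F5972) (iv0 D4033) D4036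
theorem F30791 : act 1 n19161 = n10442 := d18_6 F6116 (iv4 F6296) (iv1 F12148) (iv4 F12970) (iv5 F14063) D19161 (iv4 D10442) F13143 F13140
def n19162 : Q := act 6 n9006
theorem D19162 : act 6 n9006 = n19162 := rfl
theorem F30792 : act 3 n19162 = n17432 := d7_1 D19162 (iv6 D17432) F14064
def n19163 : Q := act 3 n9007
theorem D19163 : act 3 n9007 = n19163 := rfl
def n19164 : Q := act 6 n9007
theorem D19164 : act 6 n9007 = n19164 := rfl
theorem F30793 : act 4 n19164 = n9008 := d10_1 D19164 (iv6 D9008) D9007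
def n19165 : Q := act 0 n9008
theorem D19165 : act 0 n9008 = n19165 := rfl
def n19166 : Q := act 1 n9008
theorem D19166 : act 1 n9008 = n19166 := rfl
def n19167 : Q := act 7 n9008
theorem D19167 : act 7 n9008 = n19167 := rfl
theorem F30794 : act 5 n19167 = n19167 := d13_1 D19167 (iv7 D19167) F14058
def n19168 : Q := act 6 n9009
theorem D19168 : act 6 n9009 = n19168 := rfl
theorem F30795 : act 2 n19168 = n9033 := d3_1 D19168 (iv6 D9033) (iv2 F14059)
def n19169 : Q := act 5 n9010
theorem D19169 : act 5 n9010 = n19169 := rfl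
theorem F30797 : act 2 n19169 = n9036 := d2_1 D19169 (iv5 D9036) (iv2 F14066)
theorem F30798 : act 3 n19169 = n18182 := d6_1 D19169 (iv5 D18182) (iv3 F14067)
theorem F30799 : act 7 n19169 = n19169 := d13_2 F14069 D19169 (iv5 D19169)
def n19170 : Q := act 3 n9011
theorem D19170 : act 3 n9011 = n19170 := rfl
theorem F30800 : act 4 n19170 = n10333 := d5_2 (iv4 F14070) D19170 (iv3 D10333) (iv4 D4685) D4684
def n19171 : Q := act 5 n9011
theorem D19171 : act 5 n9011 = n19171 := rfl
theorem F30801 : act 0 n19171 = n10967 := d17_2 D9011 D19171 (iv5 D10967) (iv4 D4998) F7326 F3059 D3984 F7179 D4041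
theorem F30802 : act 1 n19171 = n10959 := d17_6 F15464 F6991 (iv1 F12148) F7301 (iv4 F14070) D19171 (iv5 D10959) D10958 F17803
def n19172 : Q := act 6 n9011
theorem D19172 : act 6 n9011 = n19172 := rfl
theorem F30803 : act 4 n19172 = n10332 := d10_1 D19172 (iv6 D10332) (iv4 F14070)
def n19173 : Q := act 5 n9012
theorem D19173 : act 5 n9012 = n19173 := rfl
theorem F30804 : act 0 n19173 = n10959 := d17_2 (iv1 F14072) D19173 (iv5 D10959) (iv4 D4994) F7323 (iv0 D1795) (iv5 F3042) (iv0 F7181) D4057
theorem F30805 : act 1 n19173 = n10967 := d17_6 (iv1 F7335) F7235 F6301 F6913 F14073 D19173 (iv5 D10967) (iv0 F15967) (iv4 D10112)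
def n19174 : Q := act 6 n9012
theorem D19174 : act 6 n9012 = n19174 := rfl
theorem F30806 : act 4 n19174 = n10444 := d10_1 D19174 (iv6 D10444) F14073
def n19175 : Q := act 0 n9013
theorem D19175 : act 0 n9013 = n19175 := rfl
theorem F30807 : act 5 n19175 = n12559 := d19_1 D19175 (iv4 D12559) F9274 (iv1 F5322) (iv5 D3332) F2585 (iv3 F2204) (iv1 F1583) (iv5 D704) F1105 F1006 (iv1 D87) D88 D318 D613 D928 D1749 D4041 D9013
theorem F30808 : act 3 n13058 = n19175 := d6_3 F30807 F20916 D13058
theorem F30809 : act 7 n15688 = n19175 := d13_0 F30807 F20917 D15688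
def n19176 : Q := act 1 n9013
theorem D19176 : act 1 n9013 = n19176 := rfl
theorem F30810 : act 4 n19175 = n19176 := d20_0 (iv1 D19176) (iv4 F14407) (iv3 D9221) (iv1 D4173) D4174 F6070 F7180 D4041 D9013 D19175
theorem F30811 : act 5 n19176 = n15674 := d16_3 D12559 (iv5 F30807) F30810 (iv4 D15674) (iv5 D7374) F5375 D7374 (iv7 F20908) F20906
theorem F30812 : act 2 n15688 = n19176 := d16_9 (iv4 F30810) F30807 (iv4 D12559) (iv5 D5968) F3997 D5968 D12559 (iv5 F30807) (iv7 F30809)
def n19177 : Q := act 2 n9013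
theorem D19177 : act 2 n9013 = n19177 := rfl
theorem F30813 : act 1 n19177 = n15688 := d15_0 (iv0 F30603) F30602 D19177
theorem F30814 : act 5 n15377 = n19177 := d17_5 F27834 (iv5 D16107) (iv1 F11812) D15656 F25153 F30813 (iv5 D15688) D15687 F27836
def n19178 : Q := act 5 n9013
theorem D19178 : act 5 n9013 = n19178 := rfl
theorem F30815 : act 2 n19178 = n15377 := d2_1 D19178 F30814 (iv2 D19177)
theorem F30816 : act 3 n19178 = n9014 := d6_1 D19178 (iv5 D9014) D9013
theorem F30817 : act 7 n19178 = n15378 := d13_2 F30602 D19178 F30604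
theorem F30818 : act 1 n19178 = n15364 := d17_8 (iv1 F20833) F27197 (iv1 D5966) D5968 D12559 (iv5 F30807) (iv0 D19175) D19178 (iv4 D15364)
theorem F30819 : act 4 n15897 = n19178 := d18_5 (iv1 F9267) F5375 (iv1 F9272) (iv4 F11718) D15897 F30818 (iv4 D15364) F20832 F27194
theorem F30820 : act 0 n19178 = n12507 := d20_7 (iv4 F2781) (iv1 F2782) (iv4 F2626) D3450 F30291 (iv3 F25368) F30819 (iv4 D12507) F9228 F3978
def n19179 : Q := act 6 n9013
theorem D19179 : act 6 n9013 = n19179 := rfl
theorem F30821 : act 3 n19179 = n9015 := d7_1 D19179 (iv6 D9015) D9013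
def n19180 : Q := act 0 n9014
theorem D19180 : act 0 n9014 = n19180 := rfl
theorem F30822 : act 5 n19180 = n9061 := d17_1 D19180 (iv1 F14141) D9074 (iv4 F30264) (iv5 D18956) (iv0 D8885) D8888 D18967 (iv4 F30297)
theorem F30823 : act 1 n9038 = n19180 := d15_0 (iv0 D19180) (iv7 F30607) F30605
def n19181 : Q := act 1 n9014
theorem D19181 : act 1 n9014 = n19181 := rfl
theorem F30824 : act 1 n19181 = n9038 := d15_1 D19181 (iv7 F30625) F30624
theorem F30825 : act 5 n19181 = n9062 := d17_7 (iv1 D1760) (iv5 D931) D928 D1749 D4041 D9014 D19181 F14144 (iv4 D4080)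
def n19182 : Q := act 6 n9014
theorem D19182 : act 6 n9014 = n19182 := rfl
def n19183 : Q := act 0 n9015
theorem D19183 : act 0 n9015 = n19183 := rfl
def n19184 : Q := act 1 n9015
theorem D19184 : act 1 n9015 = n19184 := rfl
def n19185 : Q := act 5 n9015
theorem D19185 : act 5 n9015 = n19185 := rfl
def n19186 : Q := act 7 n9015
theorem D19186 : act 7 n9015 = n19186 := rfl
theorem F30826 : act 4 n19186 = n9018 := d11_1 D19186 (iv7 D9018) (iv4 F14074)
def n19187 : Q := act 2 n9016
theorem D19187 : act 2 n9016 = n19187 := rfl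
theorem F30827 : act 7 n9017 = n19187 := d15_2 (iv0 D9016) D9017 (iv2 D19187)
def n19188 : Q := act 3 n9016
theorem D19188 : act 3 n9016 = n19188 := rfl
def n19189 : Q := act 4 n9016
theorem D19189 : act 4 n9016 = n19189 := rfl
def n19190 : Q := act 5 n9016
theorem D19190 : act 5 n9016 = n19190 := rfl
def n19191 : Q := act 6 n9016
theorem D19191 : act 6 n9016 = n19191 := rfl
def n19192 : Q := act 7 n9016
theorem D19192 : act 7 n9016 = n19192 := rfl
theorem F30828 : act 2 n19192 = n9017 := d4_1 D19192 F30827 (iv2 D19187)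
def n19194 : Q := act 4 n9017
theorem D19194 : act 4 n9017 = n19194 := rfl
def n19195 : Q := act 5 n9017
theorem D19195 : act 5 n9017 = n19195 := rfl
theorem F30829 : act 6 n10969 = n19195 := d21_5 (iv5 D3984) (iv1 F3059) (iv5 F7326) D4999 D10969 (iv5 D19195) (iv1 D9017) F7214 (iv6 D4042) (iv1 F7179)
def n19196 : Q := act 6 n9017
theorem D19196 : act 6 n9017 = n19196 := rfl
def n19197 : Q := act 4 n9019
theorem D19197 : act 4 n9019 = n19197 := rfl
def n19198 : Q := act 6 n9020
theorem D19198 : act 6 n9020 = n19198 := rfl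
theorem F30832 : act 2 n19198 = n9720 := d3_1 D19198 (iv6 D9720) (iv2 F14079)
theorem F30833 : act 3 n19198 = n19152 := d7_1 D19198 (iv6 D19152) (iv3 F14080)
theorem F30834 : act 4 n19198 = n10909 := d10_1 D19198 (iv6 D10909) (iv4 F14083)
def n19199 : Q := act 6 n9022
theorem D19199 : act 6 n9022 = n19199 := rfl
theorem F30835 : act 2 n19199 = n9028 := d3_1 D19199 (iv6 D9028) (iv2 F14088)
theorem F30836 : act 3 n19199 = n18150 := d7_1 D19199 (iv6 D18150) (iv3 F14089)
def n19200 : Q := act 5 n9023
theorem D19200 : act 5 n9023 = n19200 := rfl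
theorem F30840 : act 0 n19200 = n9976 := d17_2 (iv1 F14109) D19200 (iv5 D9976) F6778 D10318 F16891 (iv5 D10276) F6776 (iv4 F17423)
def n19201 : Q := act 4 n9024
theorem D19201 : act 4 n9024 = n19201 := rfl
theorem F30841 : act 2 n19201 = n17909 := d1_1 D19201 F29083 F16128
theorem F30842 : act 7 n19201 = n17910 := d11_2 F16125 D19201 F29086
theorem F30843 : act 0 n19201 = n10301 := d18_2 (iv1 F14098) D19201 (iv4 D10301) (iv5 F7298) (iv4 F12128) (iv0 F12306) (iv4 F13950) (iv0 D8979) D8981
theorem F30844 : act 1 n19201 = n10304 := d18_6 (iv1 F3239) (iv4 F3240) (iv1 F6457) D4052 D9024 D19201 (iv4 D10304) F6773 (iv5 D3784)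
def n19202 : Q := act 6 n9024
theorem D19202 : act 6 n9024 = n19202 := rfl
def n19203 : Q := act 5 n9025
theorem D19203 : act 5 n9025 = n19203 := rfl
theorem F30846 : act 0 n19203 = n10384 := d17_2 (iv1 F17427) D19203 (iv5 D10384) (iv4 D4702) D4703 (iv0 F16884) (iv5 D4664) F3251 D4697
theorem F30847 : act 1 n19203 = n10370 := d17_6 F17409 D9976 F17556 (iv5 D9031) (iv4 F14099) D19203 (iv5 D10370) (iv0 F17428) F16135
def n19204 : Q := act 6 n9026
theorem D19204 : act 6 n9026 = n19204 := rfl
theorem F30848 : act 2 n19204 = n9342 := d3_1 D19204 (iv6 D9342) F14104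
theorem F30849 : act 3 n19204 = n19153 := d7_1 D19204 (iv6 D19153) (iv3 F14103)
theorem F30850 : act 4 n19204 = n10342 := d10_1 D19204 (iv6 D10342) (iv4 F14102)
def n19205 : Q := act 3 n9027
theorem D19205 : act 3 n9027 = n19205 := rfl
theorem F30851 : act 4 n19205 = n9037 := d5_2 D9027 D19205 (iv3 D9037) (iv4 D4057) (iv3 F5989)
def n19206 : Q := act 5 n9027
theorem D19206 : act 5 n9027 = n19206 := rfl
theorem F30852 : act 0 n19206 = n10124 := d17_2 (iv1 F14107) D19206 (iv5 D10124) (iv4 D4602) (iv5 D1915) F1869 D1935 F3234 D4612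
theorem F30853 : act 1 n19206 = n10092 := d17_6 F14545 F7255 (iv1 F6457) D4053 D9027 D19206 (iv5 D10092) D10090 F15949
def n19207 : Q := act 6 n9027
theorem D19207 : act 6 n9027 = n19207 := rfl
theorem F30854 : act 4 n19207 = n9028 := d10_1 D19207 (iv6 D9028) D9027
def n19208 : Q := act 0 n9028
theorem D19208 : act 0 n9028 = n19208 := rfl
def n19209 : Q := act 1 n9028
theorem D19209 : act 1 n9028 = n19209 := rfl
def n19210 : Q := act 5 n9028
theorem D19210 : act 5 n9028 = n19210 := rfl
theorem F30855 : act 3 n19210 = n9042 := d6_1 D19210 (iv5 D9042) (iv3 F14108)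
theorem F30856 : act 6 n19210 = n9031 := d12_2 D9028 D19210 (iv5 D9031) (iv6 D4054) D4053
def n19211 : Q := act 7 n9028
theorem D19211 : act 7 n9028 = n19211 := rfl
theorem F30857 : act 3 n19211 = n9043 := d8_1 D19211 (iv7 D9043) (iv3 F14108)
def n19212 : Q := act 5 n9029
theorem D19212 : act 5 n9029 = n19212 := rfl
theorem F30858 : act 2 n19212 = n9976 := d2_1 D19212 (iv5 D9976) (iv2 F17421)
theorem F30859 : act 3 n19212 = n18198 := d6_1 D19212 (iv5 D18198) F17472
theorem F30861 : act 1 n19212 = n9031 := d17_6 (iv1 D4676) D4677 (iv1 F16893) (iv5 D10315) (iv4 F17423) D19212 (iv5 D9031) F17408 F6778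
theorem F30862 : act 4 n19212 = n10398 := d18_5 (iv1 D1946) (iv4 F3244) D4675 (iv4 F17423) D19212 (iv0 D10398) (iv4 D4707) F16887 (iv5 D4703)
theorem F30863 : act 0 n19212 = n19200 := d21_1 D19212 (iv5 D19200) (iv6 D9023) F5987 F16762 D4355 (iv1 F14093) (iv5 D4053) D4054 D9029
def n19214 : Q := act 3 n9032
theorem D19214 : act 3 n9032 = n19214 := rfl
theorem F30867 : act 5 n19214 = n15906 := d6_2 F30288 D19214 F30289
def n19215 : Q := act 6 n9032
theorem D19215 : act 6 n9032 = n19215 := rfl
theorem F30868 : act 4 n19215 = n9033 := d10_1 D19215 (iv6 D9033) D9032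
def n19216 : Q := act 0 n9033
theorem D19216 : act 0 n9033 = n19216 := rfl
def n19217 : Q := act 1 n9033
theorem D19217 : act 1 n9033 = n19217 := rfl
def n19218 : Q := act 5 n9033
theorem D19218 : act 5 n9033 = n19218 := rfl
theorem F30869 : act 6 n19218 = n9036 := d12_2 D9033 D19218 (iv5 D9036) (iv6 D4056) D4055
def n19219 : Q := act 7 n9033
theorem D19219 : act 7 n9033 = n19219 := rfl
def n19220 : Q := act 5 n9034
theorem D19220 : act 5 n9034 = n19220 := rfl
theorem F30870 : act 3 n19220 = n10318 := d6_1 D19220 (iv5 D10318) (iv3 F17397)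
theorem F30871 : act 7 n19220 = n19220 := d13_2 F17399 D19220 (iv5 D19220)
theorem F30872 : act 0 n19220 = n19169 := d17_2 D9034 D19220 (iv5 D19169) F14068 D9019 F17512 (iv5 D4576) F17465 (iv4 F5991)
theorem F30873 : act 1 n19220 = n9036 := d15_1 (iv0 F30872) F14116 (iv2 F30797)
def n19221 : Q := act 6 n9034
theorem D19221 : act 6 n9034 = n19221 := rfl
theorem F30874 : act 2 n19221 = n19050 := d3_1 D19221 (iv6 F30577) F17417
theorem F30875 : act 3 n19221 = n9471 := d7_1 D19221 F16865 (iv3 F17397)
theorem F30876 : act 4 n19221 = n9477 := d10_1 D19221 (iv6 F16917) (iv4 F17398)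
theorem F30877 : act 0 n9330 = n19221 := d21_4 D10110 F15960 (iv5 F14037) D9330 (iv6 D19221) D19220 F30872 (iv5 D19169) (iv6 D9010) F6667
theorem F30878 : act 1 n9562 = n19221 := d15_0 (iv0 F30877) F17532 (iv2 F17537)
theorem F30879 : act 7 n19221 = n16695 := d15_2 (iv0 F30728) F30878 (iv2 F30725)
def n19222 : Q := act 5 n9035
theorem D19222 : act 5 n9035 = n19222 := rfl
theorem F30880 : act 2 n19222 = n19220 := d2_1 D19222 (iv5 D19220) (iv2 F17417)
theorem F30881 : act 3 n19222 = n17786 := d6_1 D19222 (iv5 D17786) (iv3 F17418)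
theorem F30883 : act 0 n19222 = n9036 := d17_2 (iv1 F14115) D19222 (iv5 D9036) F5991 D4061 (iv0 F14125) (iv5 D9052) F7197 (iv4 F14068)
theorem F30884 : act 1 n19222 = n19169 := d15_1 (iv0 F30883) F30799 F30797
theorem F30885 : act 0 n10453 = n10382 := d17_2 (iv1 F17403) D10453 (iv5 D10382) (iv4 F17419) D19222 F30884 (iv5 D19169) F14114 F17398
def n19223 : Q := act 4 n9036
theorem D19223 : act 4 n9036 = n19223 := rfl
theorem F30886 : act 7 n19223 = n19223 := d11_2 F14116 D19223 (iv4 D19223)
theorem F30887 : act 0 n19223 = n17849 := d18_2 F30883 D19223 (iv4 D17849) (iv5 D8413) F5758 F17465 (iv4 F5991) D9035 D19222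
def n19224 : Q := act 0 n9037
theorem D19224 : act 0 n9037 = n19224 := rfl
def n19225 : Q := act 2 n9037
theorem D19225 : act 2 n9037 = n19225 := rfl
def n19226 : Q := act 5 n9037
theorem D19226 : act 5 n9037 = n19226 := rfl
theorem F30888 : act 3 n19226 = n9038 := d6_1 D19226 (iv5 D9038) D9037
def n19227 : Q := act 6 n9037
theorem D19227 : act 6 n9037 = n19227 := rfl
theorem F30889 : act 3 n19227 = n9039 := d7_1 D19227 (iv6 D9039) D9037
def n19228 : Q := act 6 n9038
theorem D19228 : act 6 n9038 = n19228 := rfl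
def n19229 : Q := act 0 n9039
theorem D19229 : act 0 n9039 = n19229 := rfl
def n19230 : Q := act 1 n9039
theorem D19230 : act 1 n9039 = n19230 := rfl
def n19231 : Q := act 5 n9039
theorem D19231 : act 5 n9039 = n19231 := rfl
def n19232 : Q := act 7 n9039
theorem D19232 : act 7 n9039 = n19232 := rfl
theorem F30890 : act 4 n19232 = n9043 := d11_1 D19232 (iv7 D9043) (iv4 F14117)
def n19233 : Q := act 2 n9040
theorem D19233 : act 2 n9040 = n19233 := rfl
theorem F30891 : act 7 n9041 = n19233 := d15_2 (iv0 D9040) D9041 (iv2 D19233)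
def n19235 : Q := act 4 n9040
theorem D19235 : act 4 n9040 = n19235 := rfl
def n19236 : Q := act 5 n9040
theorem D19236 : act 5 n9040 = n19236 := rfl
def n19237 : Q := act 6 n9040
theorem D19237 : act 6 n9040 = n19237 := rfl
def n19238 : Q := act 7 n9040
theorem D19238 : act 7 n9040 = n19238 := rfl
theorem F30892 : act 2 n19238 = n9041 := d4_1 D19238 F30891 (iv2 D19233)
def n19239 : Q := act 3 n9041
theorem D19239 : act 3 n9041 = n19239 := rfl
def n19240 : Q := act 4 n9041
theorem D19240 : act 4 n9041 = n19240 := rfl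
def n19241 : Q := act 5 n9041
theorem D19241 : act 5 n9041 = n19241 := rfl
def n19242 : Q := act 6 n9041
theorem D19242 : act 6 n9041 = n19242 := rfl
def n19243 : Q := act 0 n9042
theorem D19243 : act 0 n9042 = n19243 := rfl
def n19244 : Q := act 1 n9042
theorem D19244 : act 1 n9042 = n19244 := rfl
def n19245 : Q := act 4 n9042
theorem D19245 : act 4 n9042 = n19245 := rfl
def n19246 : Q := act 7 n9042
theorem D19246 : act 7 n9042 = n19246 := rfl
theorem F30894 : act 5 n19246 = n9043 := d13_1 D19246 (iv7 D9043) D9042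
theorem F30895 : act 6 n19246 = n19246 := d14_1 D19246 (iv7 D19246) F14118 F7200 (iv6 F14118)
def n19247 : Q := act 4 n9052
theorem D19247 : act 4 n9052 = n19247 := rfl
theorem F30896 : act 2 n19247 = n10052 := d1_1 D19247 (iv4 D10052) (iv2 F17481)
theorem F30897 : act 7 n19247 = n19247 := d11_2 F17483 D19247 (iv4 D19247)
def n19248 : Q := act 6 n9052
theorem D19248 : act 6 n9052 = n19248 := rfl
theorem F30898 : act 2 n19248 = n10053 := d3_1 D19248 (iv6 D10053) (iv2 F17481)
def n19249 : Q := act 0 n9053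
theorem D19249 : act 0 n9053 = n19249 := rfl
def n19250 : Q := act 1 n9053
theorem D19250 : act 1 n9053 = n19250 := rfl
theorem F30902 : act 4 n19250 = n10382 := d18_7 F17402 (iv4 F17419) (iv1 D9035) F5991 D4061 D9053 D19250 (iv0 F30885) (iv5 D10453)
def n19253 : Q := act 5 n9054
theorem D19253 : act 5 n9054 = n19253 := rfl
theorem F30908 : act 2 n19253 = n18382 := d2_1 D19253 F29558 F16596
theorem F30909 : act 3 n19253 = n9055 := d6_1 D19253 (iv5 D9055) D9054
def n19254 : Q := act 6 n9054
theorem D19254 : act 6 n9054 = n19254 := rfl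
theorem F30910 : act 3 n19254 = n9056 := d7_1 D19254 (iv6 D9056) D9054
theorem F30911 : act 4 n19254 = n19254 := d10_1 D19254 (iv6 D19254) F14129
def n19255 : Q := act 6 n9055
theorem D19255 : act 6 n9055 = n19255 := rfl
theorem F30912 : act 2 n19255 = n9089 := d3_1 D19255 (iv6 D9089) (iv2 F14130)
def n19256 : Q := act 1 n9056
theorem D19256 : act 1 n9056 = n19256 := rfl
theorem F30913 : act 1 n19256 = n9093 := d15_1 D19256 (iv7 D9093) (iv2 F14131)
theorem F30914 : act 7 n19256 = n9090 := d15_2 (iv0 F17307) D19256 (iv2 F17364)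
theorem F30915 : act 2 n9091 = n19256 := d4_3 F30914 (iv2 F17364) F17363
def n19257 : Q := act 5 n9056
theorem D19257 : act 5 n9056 = n19257 := rfl
theorem F30916 : act 2 n19257 = n9092 := d2_1 D19257 (iv5 D9092) (iv2 F14131)
def n19258 : Q := act 7 n9056
theorem D19258 : act 7 n9056 = n19258 := rfl
theorem F30917 : act 2 n19258 = n9093 := d4_1 D19258 (iv7 D9093) (iv2 F14131)
theorem F30918 : act 4 n19258 = n9059 := d11_1 D19258 (iv7 D9059) (iv4 F14132)
theorem F30919 : act 1 n9091 = n19258 := d15_1 D9091 (iv7 D19258) F14131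
theorem F30920 : act 1 n19258 = n9090 := d15_1 F30919 (iv7 F30914) (iv2 F30915)
def n19259 : Q := act 2 n9057
theorem D19259 : act 2 n9057 = n19259 := rfl
theorem F30921 : act 7 n9058 = n19259 := d15_2 (iv0 D9057) D9058 (iv2 D19259)
def n19260 : Q := act 3 n9057
theorem D19260 : act 3 n9057 = n19260 := rfl
def n19261 : Q := act 4 n9057
theorem D19261 : act 4 n9057 = n19261 := rfl
def n19262 : Q := act 5 n9057
theorem D19262 : act 5 n9057 = n19262 := rfl
def n19263 : Q := act 7 n9057
theorem D19263 : act 7 n9057 = n19263 := rfl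
theorem F30922 : act 2 n19263 = n9058 := d4_1 D19263 F30921 (iv2 D19259)
def n19264 : Q := act 4 n9058
theorem D19264 : act 4 n9058 = n19264 := rfl
def n19265 : Q := act 6 n9058
theorem D19265 : act 6 n9058 = n19265 := rfl
def n19266 : Q := act 0 n9060
theorem D19266 : act 0 n9060 = n19266 := rfl
def n19267 : Q := act 1 n9060
theorem D19267 : act 1 n9060 = n19267 := rfl
def n19268 : Q := act 5 n9060
theorem D19268 : act 5 n9060 = n19268 := rfl
theorem F30923 : act 3 n19268 = n9068 := d6_1 D19268 (iv5 D9068) (iv3 F14139)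
theorem F30924 : act 6 n19268 = n19046 := d12_2 D9060 D19268 (iv5 D19046) (iv6 D8918) F7007
def n19269 : Q := act 7 n9060
theorem D19269 : act 7 n9060 = n19269 := rfl
theorem F30925 : act 3 n19269 = n9069 := d8_1 D19269 (iv7 D9069) (iv3 F14139)
def n19270 : Q := act 3 n9061
theorem D19270 : act 3 n9061 = n19270 := rfl
theorem F30926 : act 4 n19270 = n10254 := d5_2 (iv4 F14140) D19270 (iv3 D10254) (iv4 D4654) (iv3 F6719)
def n19271 : Q := act 6 n9061
theorem D19271 : act 6 n9061 = n19271 := rfl
theorem F30927 : act 4 n19271 = n10243 := d10_1 D19271 (iv6 D10243) (iv4 F14140)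
def n19272 : Q := act 6 n9062
theorem D19272 : act 6 n9062 = n19272 := rfl
theorem F30928 : act 4 n19272 = n10435 := d10_1 D19272 (iv6 D10435) F14145
def n19273 : Q := act 0 n9063
theorem D19273 : act 0 n9063 = n19273 := rfl
theorem F30929 : act 5 n19273 = n12507 := d19_1 D19273 (iv4 D12507) F9228 F3978 (iv5 D1312) (iv4 D759) F738 D467 F797 (iv4 F906) F905 F541 D305 D595 D915 D1723 (iv5 F7008) D4075 D9063
theorem F30930 : act 3 n19273 = n13207 := d20_5 (iv4 D1761) D1759 D4075 D9063 D19273 (iv4 F29797) (iv1 F29799) F17130 (iv3 D9083) (iv1 D4084)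
theorem F30931 : act 7 n15379 = n19273 := d8_0 F30930 F22005 (iv3 F24952)
def n19274 : Q := act 1 n9063
theorem D19274 : act 1 n9063 = n19274 := rfl
theorem F30932 : act 4 n19274 = n19273 := d18_7 (iv1 D15687) (iv4 D7377) D7375 D15678 (iv5 F27217) F17148 D19274 (iv0 D19273) F27837
theorem F30933 : act 2 n15379 = n19274 := d16_9 F30932 F30929 (iv4 D12507) (iv5 D5947) F3973 D5947 D12507 (iv5 F30929) (iv7 F30931)
theorem F30934 : act 5 n15364 = n19274 := d16_1 D15364 F30932 F30929 (iv4 D12507) (iv5 D5947) F3973 D5947 F9229 (iv2 F11570)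
def n19275 : Q := act 2 n9063
theorem D19275 : act 2 n9063 = n19275 := rfl
theorem F30935 : act 1 n19275 = n15379 := d15_0 (iv0 F24953) F17252 D19275
def n19276 : Q := act 6 n9063
theorem D19276 : act 6 n9063 = n19276 := rfl
theorem F30936 : act 3 n19276 = n9065 := d7_1 D19276 (iv6 D9065) D9063
def n19277 : Q := act 0 n9064
theorem D19277 : act 0 n9064 = n19277 := rfl
theorem F30937 : act 5 n19277 = n10158 := d17_3 (iv1 D9062) D9064 D19277 (iv4 D10158) (iv5 F6931) F12149 F7102 (iv0 F7048) F14145
theorem F30938 : act 1 n9074 = n19277 := d15_0 (iv0 D19277) (iv7 F17806) F17805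
theorem F30939 : act 2 n19173 = n19277 := d2_3 F30937 F16000 D19173
theorem F30940 : act 7 n19171 = n19277 := d13_0 F30937 F16001 D19171
def n19278 : Q := act 1 n9064
theorem D19278 : act 1 n9064 = n19278 := rfl
theorem F30941 : act 1 n19278 = n9074 := d15_1 D19278 (iv7 F17820) F17819
theorem F30942 : act 7 n19278 = n19173 := d15_2 (iv0 D19277) D19278 F30939
theorem F30943 : act 5 n19278 = n19063 := d17_7 (iv1 D3986) (iv5 D1726) D1723 (iv5 F7008) D4075 D9064 D19278 F30597 (iv4 D8936)
theorem F30944 : act 2 n19171 = n19278 := d2_3 F30943 (iv2 F30600) D19171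
def n19279 : Q := act 6 n9064
theorem D19279 : act 6 n9064 = n19279 := rfl
def n19280 : Q := act 0 n9065
theorem D19280 : act 0 n9065 = n19280 := rfl
def n19281 : Q := act 1 n9065
theorem D19281 : act 1 n9065 = n19281 := rfl
def n19282 : Q := act 5 n9065
theorem D19282 : act 5 n9065 = n19282 := rfl
def n19283 : Q := act 7 n9065
theorem D19283 : act 7 n9065 = n19283 := rfl
theorem F30945 : act 4 n19283 = n9069 := d11_1 D19283 (iv7 D9069) (iv4 F14146)
def n19284 : Q := act 2 n9066
theorem D19284 : act 2 n9066 = n19284 := rfl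
theorem F30946 : act 7 n9067 = n19284 := d15_2 (iv0 D9066) D9067 (iv2 D19284)
def n19285 : Q := act 3 n9066
theorem D19285 : act 3 n9066 = n19285 := rfl
def n19286 : Q := act 4 n9066
theorem D19286 : act 4 n9066 = n19286 := rfl
def n19287 : Q := act 5 n9066
theorem D19287 : act 5 n9066 = n19287 := rfl
def n19288 : Q := act 6 n9066
theorem D19288 : act 6 n9066 = n19288 := rfl
theorem F30947 : act 5 n19288 = n19076 := d21_6 (iv5 D1726) D1723 (iv5 F7008) D4077 D9066 D19288 (iv1 D19076) F13922 (iv6 D8937) (iv1 D3986)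
def n19289 : Q := act 7 n9066
theorem D19289 : act 7 n9066 = n19289 := rfl
theorem F30948 : act 2 n19289 = n9067 := d4_1 D19289 F30946 (iv2 D19284)
def n19291 : Q := act 4 n9067
theorem D19291 : act 4 n9067 = n19291 := rfl
def n19292 : Q := act 5 n9067
theorem D19292 : act 5 n9067 = n19292 := rfl
def n19293 : Q := act 6 n9067
theorem D19293 : act 6 n9067 = n19293 := rfl
def n19294 : Q := act 0 n9068
theorem D19294 : act 0 n9068 = n19294 := rfl
def n19295 : Q := act 1 n9068
theorem D19295 : act 1 n9068 = n19295 := rfl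
theorem F30949 : act 5 n19237 = n19295 := d21_6 F3351 (iv1 F3010) D1754 D4058 D9040 D19237 (iv1 D19295) (iv5 D9068) (iv6 D4077) (iv1 F3353)
def n19296 : Q := act 4 n9068
theorem D19296 : act 4 n9068 = n19296 := rfl
theorem F30950 : act 6 n19296 = n19052 := d10_2 (iv6 F14147) D19296 (iv4 D19052)
def n19297 : Q := act 7 n9068
theorem D19297 : act 7 n9068 = n19297 := rfl
theorem F30951 : act 5 n19297 = n9069 := d13_1 D19297 (iv7 D9069) D9068
def n19298 : Q := act 6 n9070
theorem D19298 : act 6 n9070 = n19298 := rfl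
theorem F30952 : act 2 n19298 = n9072 := d3_1 D19298 (iv6 D9072) D9070
def n19299 : Q := act 3 n9071
theorem D19299 : act 3 n9071 = n19299 := rfl
theorem F30953 : act 4 n19299 = n9073 := d5_2 D9071 D19299 (iv3 D9073) (iv4 D4080) D4079
def n19300 : Q := act 5 n9071
theorem D19300 : act 5 n9071 = n19300 := rfl
theorem F30954 : act 0 n19300 = n10334 := d17_2 (iv1 F14152) D19300 (iv5 D10334) (iv4 D4685) F7300 F3001 (iv5 F3334) F7079 D4591
theorem F30955 : act 1 n19300 = n10326 := d17_6 F14091 (iv5 D4232) (iv1 F12245) F7026 D9071 D19300 (iv5 D10326) D10324 F16423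
def n19301 : Q := act 6 n9071
theorem D19301 : act 6 n9071 = n19301 := rfl
theorem F30956 : act 4 n19301 = n9072 := d10_1 D19301 (iv6 D9072) D9071
def n19302 : Q := act 0 n9072
theorem D19302 : act 0 n9072 = n19302 := rfl
def n19303 : Q := act 1 n9072
theorem D19303 : act 1 n9072 = n19303 := rfl
def n19304 : Q := act 5 n9072
theorem D19304 : act 5 n9072 = n19304 := rfl
theorem F30957 : act 3 n19304 = n9078 := d6_1 D19304 (iv5 D9078) (iv3 F14153)
theorem F30958 : act 6 n19304 = n19053 := d12_2 D9072 D19304 (iv5 D19053) (iv6 D8927) F7026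
def n19305 : Q := act 7 n9072
theorem D19305 : act 7 n9072 = n19305 := rfl
theorem F30959 : act 3 n19305 = n9079 := d8_1 D19305 (iv7 D9079) (iv3 F14153)
def n19306 : Q := act 0 n9073
theorem D19306 : act 0 n9073 = n19306 := rfl
def n19307 : Q := act 2 n9073
theorem D19307 : act 2 n9073 = n19307 := rfl
def n19308 : Q := act 5 n9073
theorem D19308 : act 5 n9073 = n19308 := rfl
theorem F30960 : act 3 n19308 = n9074 := d6_1 D19308 (iv5 D9074) D9073
def n19309 : Q := act 6 n9073
theorem D19309 : act 6 n9073 = n19309 := rfl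
theorem F30961 : act 3 n19309 = n9075 := d7_1 D19309 (iv6 D9075) D9073
def n19310 : Q := act 6 n9074
theorem D19310 : act 6 n9074 = n19310 := rfl
def n19311 : Q := act 0 n9075
theorem D19311 : act 0 n9075 = n19311 := rfl
def n19312 : Q := act 1 n9075
theorem D19312 : act 1 n9075 = n19312 := rfl
def n19313 : Q := act 5 n9075
theorem D19313 : act 5 n9075 = n19313 := rfl
def n19314 : Q := act 7 n9075
theorem D19314 : act 7 n9075 = n19314 := rfl
theorem F30962 : act 4 n19314 = n9079 := d11_1 D19314 (iv7 D9079) (iv4 F14154)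
def n19315 : Q := act 2 n9076
theorem D19315 : act 2 n9076 = n19315 := rfl
theorem F30963 : act 7 n9077 = n19315 := d15_2 (iv0 D9076) D9077 (iv2 D19315)
def n19317 : Q := act 4 n9076
theorem D19317 : act 4 n9076 = n19317 := rfl
def n19318 : Q := act 5 n9076
theorem D19318 : act 5 n9076 = n19318 := rfl
def n19319 : Q := act 6 n9076
theorem D19319 : act 6 n9076 = n19319 := rfl
def n19320 : Q := act 7 n9076
theorem D19320 : act 7 n9076 = n19320 := rfl
theorem F30964 : act 2 n19320 = n9077 := d4_1 D19320 F30963 (iv2 D19315)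
def n19321 : Q := act 3 n9077
theorem D19321 : act 3 n9077 = n19321 := rfl
def n19322 : Q := act 4 n9077
theorem D19322 : act 4 n9077 = n19322 := rfl
def n19323 : Q := act 5 n9077
theorem D19323 : act 5 n9077 = n19323 := rfl
theorem F30965 : act 6 n19294 = n19323 := d21_5 (iv5 D4325) F17521 D8925 (iv6 F14147) D19294 (iv5 D19323) (iv1 D9077) D9078 F14155 F17548
def n19324 : Q := act 6 n9077
theorem D19324 : act 6 n9077 = n19324 := rfl
def n19325 : Q := act 0 n9078
theorem D19325 : act 0 n9078 = n19325 := rfl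
def n19326 : Q := act 1 n9078
theorem D19326 : act 1 n9078 = n19326 := rfl
theorem F30966 : act 5 n19191 = n19326 := d21_6 (iv5 D931) D928 D1749 D4042 D9016 D19191 (iv1 D19326) (iv5 D9078) (iv6 D4082) (iv1 D1760)
def n19327 : Q := act 4 n9078
theorem D19327 : act 4 n9078 = n19327 := rfl
theorem F30967 : act 6 n19327 = n19056 := d10_2 (iv6 F14155) D19327 (iv4 D19056)
def n19328 : Q := act 7 n9078
theorem D19328 : act 7 n9078 = n19328 := rfl
theorem F30968 : act 5 n19328 = n9079 := d13_1 D19328 (iv7 D9079) D9078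
def n19329 : Q := act 0 n9080
theorem D19329 : act 0 n9080 = n19329 := rfl
def n19330 : Q := act 1 n9080
theorem D19330 : act 1 n9080 = n19330 := rfl
def n19331 : Q := act 2 n9080
theorem D19331 : act 2 n9080 = n19331 := rfl
theorem F30969 : act 3 n19331 = n18024 := d0_2 D9080 D19331 F29195 (iv3 D10642) F7233
theorem F30970 : act 5 n18023 = n19331 := d6_0 F30969 (iv5 D18024) D18023
def n19332 : Q := act 4 n9080
theorem D19332 : act 4 n9080 = n19332 := rfl
theorem F30971 : act 3 n19332 = n9417 := d5_1 D19332 (iv4 F15056) F15052 (iv4 F7234) D9080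
theorem F30972 : act 0 n19332 = n9427 := d20_4 F7049 (iv1 F15055) F15056 (iv3 F30971) (iv3 D9427) (iv4 D4276) (iv1 D1814) D1815 (iv3 F3138) D4401
def n19333 : Q := act 5 n9080
theorem D19333 : act 5 n9080 = n19333 := rfl
theorem F30973 : act 2 n19333 = n18023 := d2_1 D19333 F30970 (iv2 D19331)
theorem F30974 : act 3 n19333 = n9081 := d6_1 D19333 (iv5 D9081) D9080
def n19334 : Q := act 6 n9080
theorem D19334 : act 6 n9080 = n19334 := rfl
theorem F30975 : act 3 n19334 = n9082 := d7_1 D19334 (iv6 D9082) D9080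
def n19335 : Q := act 0 n9081
theorem D19335 : act 0 n9081 = n19335 := rfl
theorem F30976 : act 5 n19335 = n9225 := d17_3 D4083 D9081 D19335 F14418 F6084 F3058 (iv5 F7008) (iv0 D1759) D1761
theorem F30977 : act 4 n19335 = n17124 := d18_1 D19335 (iv1 F30265) F30264 (iv5 D9074) (iv4 D4080) F3355 (iv4 F7331) F7333 D9081
theorem F30978 : act 2 n9226 = n19335 := d15_3 (iv0 D19335) F14156 (iv7 F14423)
theorem F30979 : act 1 n9084 = n19335 := d15_0 (iv0 D19335) (iv7 F17260) F17259
theorem F30980 : act 7 n19335 = n19058 := d15_2 (iv0 F14157) F30979 F30584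
def n19336 : Q := act 6 n9081
theorem D19336 : act 6 n9081 = n19336 := rfl
def n19337 : Q := act 0 n9082
theorem D19337 : act 0 n9082 = n19337 := rfl
def n19338 : Q := act 1 n9082
theorem D19338 : act 1 n9082 = n19338 := rfl
def n19339 : Q := act 5 n9082
theorem D19339 : act 5 n9082 = n19339 := rfl
def n19340 : Q := act 7 n9082
theorem D19340 : act 7 n9082 = n19340 := rfl
def n19341 : Q := act 0 n9083
theorem D19341 : act 0 n9083 = n19341 := rfl
theorem F30981 : act 5 n19341 = n18946 := d17_3 (iv1 D18015) (iv5 F14159) D19341 (iv4 D18946) F13854 F12974 D8025 F16673 (iv4 F29189)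
theorem F30982 : act 1 n18024 = n19341 := d15_0 (iv0 D19341) (iv7 F17185) (iv2 F29195)
def n19342 : Q := act 1 n9083
theorem D19342 : act 1 n9083 = n19342 := rfl
def n19343 : Q := act 2 n9083
theorem D19343 : act 2 n9083 = n19343 := rfl
theorem F30983 : act 4 n19343 = n18570 := d1_2 F17130 D19343 (iv2 F29815)
theorem F30984 : act 5 n19343 = n13055 := d2_2 (iv5 F14159) D19343 F21774
theorem F30985 : act 7 n19343 = n18024 := d4_2 F17185 D19343 F29195
theorem F30986 : act 1 n19342 = n18024 := d15_1 D19342 (iv7 F30985) (iv2 D19343)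
def n19344 : Q := act 6 n9083
theorem D19344 : act 6 n9083 = n19344 := rfl
theorem F30987 : act 3 n19344 = n9085 := d7_1 D19344 (iv6 D9085) D9083
def n19345 : Q := act 6 n9084
theorem D19345 : act 6 n9084 = n19345 := rfl
theorem F30988 : act 3 n19345 = n18016 := d7_1 D19345 (iv6 D18016) F14158
def n19346 : Q := act 0 n9085
theorem D19346 : act 0 n9085 = n19346 := rfl
def n19347 : Q := act 1 n9085
theorem D19347 : act 1 n9085 = n19347 := rfl
def n19348 : Q := act 5 n9085
theorem D19348 : act 5 n9085 = n19348 := rfl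
def n19349 : Q := act 7 n9085
theorem D19349 : act 7 n9085 = n19349 := rfl
def n19350 : Q := act 3 n9086
theorem D19350 : act 3 n9086 = n19350 := rfl
def n19351 : Q := act 6 n9086
theorem D19351 : act 6 n9086 = n19351 := rfl
def n19352 : Q := act 6 n9087
theorem D19352 : act 6 n9087 = n19352 := rfl
def n19353 : Q := act 3 n9088
theorem D19353 : act 3 n9088 = n19353 := rfl
theorem F30989 : act 4 n19353 = n18255 := d5_2 D9088 D19353 F29449 F13524 F7342
def n19354 : Q := act 6 n9088
theorem D19354 : act 6 n9088 = n19354 := rfl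
theorem F30990 : act 4 n19354 = n9089 := d10_1 D19354 (iv6 D9089) D9088
def n19355 : Q := act 0 n9089
theorem D19355 : act 0 n9089 = n19355 := rfl
def n19356 : Q := act 1 n9089
theorem D19356 : act 1 n9089 = n19356 := rfl
def n19357 : Q := act 5 n9089
theorem D19357 : act 5 n9089 = n19357 := rfl
theorem F30991 : act 6 n19357 = n9092 := d12_2 D9089 D19357 (iv5 D9092) (iv6 D4086) D4085
def n19358 : Q := act 7 n9089
theorem D19358 : act 7 n9089 = n19358 := rfl
def n19359 : Q := act 3 n9090
theorem D19359 : act 3 n9090 = n19359 := rfl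
def n19360 : Q := act 5 n9090
theorem D19360 : act 5 n9090 = n19360 := rfl
def n19361 : Q := act 6 n9090
theorem D19361 : act 6 n9090 = n19361 := rfl
def n19362 : Q := act 3 n9091
theorem D19362 : act 3 n9091 = n19362 := rfl
def n19363 : Q := act 5 n9091
theorem D19363 : act 5 n9091 = n19363 := rfl
def n19364 : Q := act 6 n9091
theorem D19364 : act 6 n9091 = n19364 := rfl
def n19365 : Q := act 0 n9092
theorem D19365 : act 0 n9092 = n19365 := rfl
def n19366 : Q := act 1 n9092
theorem D19366 : act 1 n9092 = n19366 := rfl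
def n19367 : Q := act 4 n9092
theorem D19367 : act 4 n9092 = n19367 := rfl
def n19368 : Q := act 7 n9092
theorem D19368 : act 7 n9092 = n19368 := rfl
theorem F30992 : act 5 n19368 = n9093 := d13_1 D19368 (iv7 D9093) D9092
def n19370 : Q := act 1 n9094
theorem D19370 : act 1 n9094 = n19370 := rfl
theorem F30994 : act 1 n19370 = n9099 := d15_1 D19370 (iv7 D9099) D9094
def n19371 : Q := act 3 n9094
theorem D19371 : act 3 n9094 = n19371 := rfl
theorem F30995 : act 7 n19371 = n9100 := d8_2 F14161 D19371 (iv3 D9100)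
def n19372 : Q := act 4 n9094
theorem D19372 : act 4 n9094 = n19372 := rfl
theorem F30996 : act 2 n19372 = n9096 := d1_1 D19372 (iv4 D9096) D9094
theorem F30997 : act 7 n19372 = n9101 := d11_2 F14161 D19372 (iv4 D9101)
def n19373 : Q := act 5 n9094
theorem D19373 : act 5 n9094 = n19373 := rfl
theorem F30998 : act 2 n19373 = n9097 := d2_1 D19373 (iv5 D9097) D9094
theorem F30999 : act 7 n19373 = n9102 := d13_2 F14161 D19373 (iv5 D9102)
def n19374 : Q := act 6 n9094
theorem D19374 : act 6 n9094 = n19374 := rfl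
theorem F31000 : act 2 n19374 = n9098 := d3_1 D19374 (iv6 D9098) D9094
theorem F31001 : act 5 n19263 = n19374 := d2_0 F31000 F14162 (iv2 F30922)
theorem F31002 : act 7 n19374 = n19262 := d13_2 D19263 F31001 (iv5 D19262)
def n19375 : Q := act 0 n9095
theorem D19375 : act 0 n9095 = n19375 := rfl
def n19376 : Q := act 1 n9095
theorem D19376 : act 1 n9095 = n19376 := rfl
def n19377 : Q := act 2 n9095
theorem D19377 : act 2 n9095 = n19377 := rfl
def n19378 : Q := act 5 n9095
theorem D19378 : act 5 n9095 = n19378 := rfl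
theorem F31003 : act 3 n19378 = n9097 := d6_1 D19378 (iv5 D9097) D9095
def n19379 : Q := act 6 n9095
theorem D19379 : act 6 n9095 = n19379 := rfl
theorem F31004 : act 3 n19379 = n9098 := d7_1 D19379 (iv6 D9098) D9095
theorem F31005 : act 5 n10765 = n19379 := d6_0 F31004 F14162 F17290
def n19380 : Q := act 7 n9095
theorem D19380 : act 7 n9095 = n19380 := rfl
theorem F31006 : act 3 n19380 = n9099 := d8_1 D19380 (iv7 D9099) D9095
def n19381 : Q := act 0 n9096
theorem D19381 : act 0 n9096 = n19381 := rfl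
theorem F31007 : act 4 n19381 = n11059 := d20_2 D9096 D19381 (iv3 D11059) (iv1 D5043) (iv3 D2067) D2068 (iv1 F16088) F1909 (iv3 F3019) D4087
def n19382 : Q := act 1 n9096
theorem D19382 : act 1 n9096 = n19382 := rfl
theorem F31008 : act 1 n19382 = n9101 := d15_1 D19382 (iv7 F30997) F30996
def n19383 : Q := act 3 n9096
theorem D19383 : act 3 n9096 = n19383 := rfl
def n19384 : Q := act 5 n9096
theorem D19384 : act 5 n9096 = n19384 := rfl
def n19385 : Q := act 6 n9096
theorem D19385 : act 6 n9096 = n19385 := rfl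
theorem F31009 : act 4 n19385 = n9098 := d10_1 D19385 (iv6 D9098) D9096
def n19386 : Q := act 7 n9096
theorem D19386 : act 7 n9096 = n19386 := rfl
theorem F31010 : act 2 n19386 = n9101 := d4_1 D19386 (iv7 F30997) F30996
theorem F31011 : act 4 n19386 = n9099 := d11_1 D19386 (iv7 D9099) D9096
theorem F31012 : act 1 n9101 = n19381 := d15_0 (iv0 D19381) D19386 F31010
def n19387 : Q := act 0 n9097
theorem D19387 : act 0 n9097 = n19387 := rfl
theorem F31013 : act 5 n19387 = n19242 := d21_2 D9097 D19387 (iv6 D19242) (iv1 D9041) (iv6 D4058) (iv5 D1754) (iv1 D929) D931 D1762 D4087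
def n19388 : Q := act 1 n9097
theorem D19388 : act 1 n9097 = n19388 := rfl
theorem F31014 : act 1 n19388 = n9102 := d15_1 D19388 (iv7 F30999) F30998
def n19389 : Q := act 4 n9097
theorem D19389 : act 4 n9097 = n19389 := rfl
def n19390 : Q := act 6 n9097
theorem D19390 : act 6 n9097 = n19390 := rfl
theorem F31015 : act 5 n19390 = n19265 := d12_1 D19390 (iv6 D19265) (iv5 F14162) (iv6 D9098) D9097
theorem F31016 : act 0 n19390 = n19288 := d21_10 F30947 (iv1 D19076) F13922 (iv6 D8937) (iv1 D3986) D3988 F5932 D4087 D9097 D19390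
def n19391 : Q := act 7 n9097
theorem D19391 : act 7 n9097 = n19391 := rfl
theorem F31017 : act 2 n19391 = n9102 := d4_1 D19391 (iv7 F30999) F30998
theorem F31018 : act 5 n19391 = n9099 := d13_1 D19391 (iv7 D9099) D9097
theorem F31019 : act 1 n9102 = n19387 := d15_0 (iv0 D19387) D19391 F31017
theorem F31020 : act 6 n19259 = n19391 := d3_0 F31017 (iv6 F14164) D19259
theorem F31021 : act 7 n19390 = n19265 := d14_4 F30921 F31020 (iv7 D19391) D19390 (iv6 D19265)
def n19392 : Q := act 0 n9098
theorem D19392 : act 0 n9098 = n19392 := rfl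
def n19393 : Q := act 1 n9098
theorem D19393 : act 1 n9098 = n19393 := rfl
theorem F31022 : act 1 n19393 = n19262 := d15_1 D19393 (iv7 F31002) F31000
def n19394 : Q := act 7 n9098
theorem D19394 : act 7 n9098 = n19394 := rfl
theorem F31023 : act 2 n19394 = n19262 := d4_1 D19394 (iv7 F31002) F31000
theorem F31025 : act 1 n19262 = n19392 := d15_0 (iv0 D19392) D19394 F31023
def n19395 : Q := act 6 n9099
theorem D19395 : act 6 n9099 = n19395 := rfl
theorem F31026 : act 2 n19395 = n9103 := d3_1 D19395 (iv6 D9103) (iv2 F14163)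
def n19396 : Q := act 0 n9100
theorem D19396 : act 0 n9100 = n19396 := rfl
theorem F31027 : act 4 n19396 = n11065 := d20_0 (iv1 F17931) (iv4 D11029) F7480 (iv1 F7486) D11059 (iv4 F31007) (iv1 F31012) (iv4 D9101) D9100 D19396
theorem F31028 : act 3 n19396 = n19376 := d20_3 D5045 D11065 (iv4 F31027) (iv1 D19376) (iv3 D9095) D9096 D19381 F31007 (iv3 D11059) (iv1 D5043)
def n19397 : Q := act 1 n9100
theorem D19397 : act 1 n9100 = n19397 := rfl
def n19398 : Q := act 2 n9100
theorem D19398 : act 2 n9100 = n19398 := rfl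
def n19399 : Q := act 4 n9100
theorem D19399 : act 4 n9100 = n19399 := rfl
theorem F31029 : act 0 n11021 = n19399 := d20_1 D11021 (iv4 D19399) (iv3 D9100) (iv1 D4088) F3019 (iv4 F1909) (iv1 F16092) (iv4 D2063) D2062 D5025
def n19400 : Q := act 5 n9100
theorem D19400 : act 5 n9100 = n19400 := rfl
theorem F31030 : act 3 n19400 = n9102 := d6_1 D19400 (iv5 D9102) D9100
theorem F31031 : act 6 n19260 = n19400 := d7_0 F31030 (iv6 F14164) D19260
def n19401 : Q := act 6 n9100
theorem D19401 : act 6 n9100 = n19401 := rfl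
theorem F31032 : act 3 n19401 = n9103 := d7_1 D19401 (iv6 D9103) D9100
def n19402 : Q := act 3 n9101
theorem D19402 : act 3 n9101 = n19402 := rfl
def n19403 : Q := act 5 n9101
theorem D19403 : act 5 n9101 = n19403 := rfl
def n19404 : Q := act 6 n9101
theorem D19404 : act 6 n9101 = n19404 := rfl
theorem F31033 : act 4 n19404 = n9103 := d10_1 D19404 (iv6 D9103) D9101
def n19405 : Q := act 4 n9102
theorem D19405 : act 4 n9102 = n19405 := rfl
theorem F31034 : act 6 n19405 = n19261 := d10_2 F14164 D19405 (iv4 D19261)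
def n19406 : Q := act 0 n9103
theorem D19406 : act 0 n9103 = n19406 := rfl
theorem F31035 : act 5 n19406 = n19075 := d21_0 (iv1 F30632) F14075 (iv6 F30616) (iv1 F30618) D19242 (iv5 F31013) (iv1 F31019) (iv5 D9102) D9103 D19406
theorem F31036 : act 0 n19406 = n19390 := d21_1 (iv5 F31035) F31015 (iv6 D19265) (iv1 D9058) (iv6 D4072) (iv5 D1758) F6412 (iv5 F7015) D8937 D19075
def n19407 : Q := act 1 n9103
theorem D19407 : act 1 n9103 = n19407 := rfl
def n19408 : Q := act 5 n9103
theorem D19408 : act 5 n9103 = n19408 := rfl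
theorem F31037 : act 6 n19408 = n19262 := d12_2 D9103 D19408 (iv5 D19262) F14164 (iv5 D9102)
theorem F31038 : act 0 n19190 = n19408 := d21_1 D19190 (iv5 D19408) (iv6 D9103) (iv1 D4088) (iv6 D1762) (iv5 D931) D928 D1749 D4042 D9016
theorem F31039 : act 7 n9103 = n19408 := d14_0 F31037 (iv7 F31002) (iv6 D19374) (iv7 F14161) D9103
theorem F31040 : act 0 n19408 = n19195 := d21_10 (iv5 D19195) (iv1 D9017) F7214 (iv6 D4042) (iv1 F7179) D8932 F13911 D9057 D19262 (iv6 F31037)
theorem F31041 : act 1 n19395 = n19195 := d15_0 (iv0 F31040) (iv7 F31039) (iv2 F31026)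
theorem F31042 : act 2 n19408 = n19390 := d15_3 (iv0 F31036) (iv0 D19406) F31039
theorem E4333 : n19395 = n19265 := (c4_2 (iv7 F31039) (iv2 F31026) (iv7 F31021) (iv2 F31042))
theorem F31043 : act 1 n19265 = n19195 := (sb E4333 F31041)
theorem F31044 : act 2 n19265 = n9103 := (sb E4333 F31026)
theorem E4334 : n9099 = n9058 := ((((iv6 D19265)).symm.trans (sb E4333 (iv6 D19395)))).symm
theorem E4335 : n19370 = n4072 := ((((iv1 D9058)).symm.trans (sb E4334 (iv1 F30994)))).symm
theorem E4337 : n19263 = n4088 := (((iv2 F30922)).symm.trans (sb E4334 F14163))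
theorem E4338 : n19380 = n10765 := (((F17290).symm.trans (sb E4334 (iv3 F31006)))).symm
theorem E4339 : n19386 = n19264 := (((D19264).symm.trans (sb E4334 (iv4 F31011)))).symm
theorem E4340 : n19391 = n9098 := ((((iv5 F14162)).symm.trans (sb E4334 (iv5 F31018)))).symm
theorem E4341 : n19259 = n4087 := ((F30921).symm.trans (sb E4334 (iv7 D9099)))
theorem E4342 : n9094 = n9057 := (((D9057).symm.trans (sb E4335 (iv1 D19370)))).symm
theorem F31045 : act 2 n4088 = n9058 := (sb E4337 F30922)
theorem E4343 : n19374 = n9102 := (((D9102).symm.trans (sb E4337 F31001))).symm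
theorem F31046 : act 7 n10765 = n9095 := (sb E4338 (iv7 D19380))
theorem F31047 : act 2 n19264 = n9101 := (sb E4339 F31010)
theorem F31048 : act 7 n19264 = n9096 := (sb E4339 (iv7 D19386))
theorem E4344 : n19394 = n9097 := ((D19394).symm.trans (sb E4340 (iv7 D19391)))
theorem F31049 : act 7 n4087 = n9058 := (sb E4341 (iv7 F30921))
theorem F31050 : act 2 n9057 = n4087 := (sb E4342 (iv2 D9094))
theorem E4345 : n19371 = n19260 := (((D19260).symm.trans (sb E4342 D19371))).symm
theorem E4346 : n19372 = n19261 := (((D19261).symm.trans (sb E4342 D19372))).symm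
theorem E4347 : n19373 = n19262 := (((D19262).symm.trans (sb E4342 D19373))).symm
theorem F31051 : act 7 n9057 = n4088 := (sb E4342 (iv7 F14161))
theorem F31052 : act 2 n9102 = n9098 := (sb E4343 F31000)
theorem F31053 : act 7 n9097 = n9098 := (sb E4344 (iv7 D19394))
theorem F31054 : act 7 n19260 = n9100 := (sb E4345 F30995)
theorem F31055 : act 2 n19261 = n9096 := (sb E4346 F30996)
theorem F31056 : act 7 n19261 = n9101 := (sb E4346 F30997)
theorem F31057 : act 2 n19262 = n9097 := (sb E4347 F30998)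
theorem F31058 : act 7 n19262 = n9102 := (sb E4347 F30999)
theorem F31059 : act 2 n19385 = n19405 := d3_3 F31034 F31055 D19385
theorem F31060 : act 7 n19379 = n19378 := d8_2 F31053 (iv3 F31004) F31003
theorem F31061 : act 7 n19385 = n19389 := d11_2 F31053 (iv4 F31009) (iv4 D19389)
theorem E4348 : n10758 = n10629 := ((c11_2 F31046 F17177 (iv7 F17288) D10765)).symm
theorem F31062 : act 2 n10629 = n4918 := (sb E4348 (iv2 D10758))
theorem F31063 : act 7 n10629 = n4919 := (sb E4348 (iv7 F17288))
theorem E4349 : n10763 = n10630 := (c15_4 F17171 F17175 F31063 (iv2 F17289))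
theorem F31064 : act 2 n10630 = n4919 := (sb E4349 F17289)
theorem F31065 : act 7 n10630 = n4918 := (sb E4349 (iv7 D10763))
theorem E4350 : n19377 = n10760 := ((c1_3 F17177 F31062 D10760 (iv2 D19377))).symm
theorem F31066 : act 2 n10760 = n9095 := (sb E4350 (iv2 D19377))
theorem E4351 : n19407 = n19288 := (c15_1 D19407 (iv0 F31016) F31021 F31044)
theorem F31067 : act 0 n19288 = n9103 := (sb E4351 (iv1 D19407))
theorem F31068 : act 1 n19190 = n19265 := d15_1 (iv0 F31038) (iv7 F31021) (iv2 F31042)
def n19409 : Q := act 5 n9104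
theorem D19409 : act 5 n9104 = n19409 := rfl
theorem F31069 : act 2 n19409 = n19055 := d2_1 D19409 (iv5 D19055) (iv2 F14165)
def n19410 : Q := act 4 n9105
theorem D19410 : act 4 n9105 = n19410 := rfl
theorem F31070 : act 2 n19410 = n19056 := d1_1 D19410 (iv4 D19056) (iv2 F14167)
def n19411 : Q := act 5 n9106
theorem D19411 : act 5 n9106 = n19411 := rfl
theorem F31071 : act 3 n19411 = n9108 := d6_1 D19411 (iv5 D9108) D9106
theorem F31072 : act 7 n19411 = n19053 := d13_2 (iv7 F14168) D19411 (iv5 D19053)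
def n19412 : Q := act 5 n9107
theorem D19412 : act 5 n9107 = n19412 := rfl
theorem F31073 : act 3 n19412 = n17058 := d6_1 D19412 (iv5 D17058) (iv3 F14170)
theorem F31074 : act 7 n19412 = n19055 := d13_2 (iv7 F14169) D19412 (iv5 D19055)
def n19413 : Q := act 4 n9108
theorem D19413 : act 4 n9108 = n19413 := rfl
theorem F31075 : act 7 n19413 = n19056 := d11_2 (iv7 F14171) D19413 (iv4 D19056)
def n19414 : Q := act 6 n9108
theorem D19414 : act 6 n9108 = n19414 := rfl
def n19415 : Q := act 3 n9110
theorem D19415 : act 3 n9110 = n19415 := rfl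
theorem F31076 : act 5 n19415 = n9468 := d6_2 (iv5 F17522) D19415 F27366
theorem F31077 : act 1 n17883 = n19415 := d17_6 F14686 (iv5 F22116) F22118 (iv5 D8441) (iv4 F13249) D17883 F31076 (iv0 D9468) D9471
theorem F31078 : act 0 n9345 = n19415 := d21_1 D9345 F31076 F27367 (iv1 F16924) (iv6 D8436) D8435 (iv1 F14149) F14148 F14554 (iv1 D9344)
def n19416 : Q := act 4 n9110
theorem D19416 : act 4 n9110 = n19416 := rfl
def n19417 : Q := act 6 n9110
theorem D19417 : act 6 n9110 = n19417 := rfl
theorem F31079 : act 5 n19417 = n19414 := d12_1 D19417 (iv6 D19414) (iv5 D9108) F17523 (iv5 F17522)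
def n19418 : Q := act 0 n9111
theorem D19418 : act 0 n9111 = n19418 := rfl
def n19419 : Q := act 1 n9111
theorem D19419 : act 1 n9111 = n19419 := rfl
def n19420 : Q := act 3 n9111
theorem D19420 : act 3 n9111 = n19420 := rfl
theorem F31080 : act 4 n19420 = n9143 := d5_2 D9111 D19420 (iv3 D9143) (iv4 D4102) (iv3 F6008)
def n19421 : Q := act 5 n9111
theorem D19421 : act 5 n9111 = n19421 := rfl
def n19422 : Q := act 2 n9118
theorem D19422 : act 2 n9118 = n19422 := rfl
def n19423 : Q := act 3 n9118
theorem D19423 : act 3 n9118 = n19423 := rfl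
theorem F31082 : act 4 n19423 = n11066 := d20_6 (iv4 F1904) D2057 (iv4 F15274) D4094 D9118 D19423 (iv1 D11066) (iv4 D5045) (iv3 D2067) (iv1 D1026)
def n19424 : Q := act 4 n9118
theorem D19424 : act 4 n9118 = n19424 := rfl
theorem F31083 : act 0 n19424 = n10807 := d20_1 D19424 (iv4 D10807) (iv3 D4929) (iv1 D2029) F1891 (iv4 F1904) D2057 (iv4 F15274) D4094 D9118
def n19425 : Q := act 5 n9118
theorem D19425 : act 5 n9118 = n19425 := rfl
def n19426 : Q := act 6 n9118
theorem D19426 : act 6 n9118 = n19426 := rfl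
def n19427 : Q := act 7 n9118
theorem D19427 : act 7 n9118 = n19427 := rfl
def n19428 : Q := act 3 n9119
theorem D19428 : act 3 n9119 = n19428 := rfl
def n19432 : Q := act 4 n9120
theorem D19432 : act 4 n9120 = n19432 := rfl
theorem F31085 : act 2 n19432 = n9121 := d1_1 D19432 (iv4 D9121) D9120
def n19433 : Q := act 5 n9120
theorem D19433 : act 5 n9120 = n19433 := rfl
theorem F31086 : act 2 n19433 = n9122 := d2_1 D19433 (iv5 D9122) D9120
theorem F31087 : act 3 n19433 = n19433 := d6_1 D19433 (iv5 D19433) F14222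
def n19434 : Q := act 6 n9120
theorem D19434 : act 6 n9120 = n19434 := rfl
theorem F31088 : act 2 n19434 = n9123 := d3_1 D19434 (iv6 D9123) D9120
theorem F31089 : act 3 n19434 = n19434 := d7_1 D19434 (iv6 D19434) F14222
theorem F31090 : act 5 n9137 = n19434 := d2_0 F31088 (iv5 F14190) D9137
theorem F31091 : act 7 n19433 = n19434 := d4_0 F31088 (iv7 F14217) (iv2 F31086)
def n19435 : Q := act 0 n9121
theorem D19435 : act 0 n9121 = n19435 := rfl
def n19436 : Q := act 1 n9121
theorem D19436 : act 1 n9121 = n19436 := rfl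
theorem F31092 : act 4 n11054 = n19436 := d20_6 (iv4 F3368) F16089 (iv4 D2068) D2067 D5042 D11054 (iv1 D19436) (iv4 D9121) (iv3 D4094) (iv1 F3022)
def n19437 : Q := act 5 n9121
theorem D19437 : act 5 n9121 = n19437 := rfl
def n19438 : Q := act 6 n9121
theorem D19438 : act 6 n9121 = n19438 := rfl
theorem F31093 : act 4 n19438 = n9123 := d10_1 D19438 (iv6 D9123) D9121
def n19439 : Q := act 0 n9122
theorem D19439 : act 0 n9122 = n19439 := rfl
theorem F31094 : act 1 n19434 = n19439 := d15_0 (iv0 D19439) F14217 (iv2 F31088)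
def n19440 : Q := act 1 n9122
theorem D19440 : act 1 n9122 = n19440 := rfl
theorem F31095 : act 1 n19440 = n19434 := d15_1 D19440 (iv7 F31091) F31086
def n19441 : Q := act 4 n9122
theorem D19441 : act 4 n9122 = n19441 := rfl
theorem F31096 : act 7 n19441 = n19438 := d11_2 (iv7 F14217) D19441 F31093
def n19442 : Q := act 6 n9122
theorem D19442 : act 6 n9122 = n19442 := rfl
theorem F31097 : act 3 n19442 = n9134 := d7_1 D19442 (iv6 D9134) (iv3 F14188)
theorem F31098 : act 5 n19442 = n9139 := d12_1 D19442 (iv6 D9139) F14190 (iv6 D9123) D9122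
def n19443 : Q := act 0 n9123
theorem D19443 : act 0 n9123 = n19443 := rfl
theorem F31100 : act 1 n19433 = n19443 := d15_0 (iv0 D19443) (iv7 F14217) (iv2 F31086)
def n19444 : Q := act 1 n9123
theorem D19444 : act 1 n9123 = n19444 := rfl
theorem F31101 : act 1 n19444 = n19433 := d15_1 D19444 F31091 F31088
def n19445 : Q := act 3 n9131
theorem D19445 : act 3 n9131 = n19445 := rfl
theorem F31102 : act 5 n19445 = n10029 := d6_2 (iv5 F14197) D19445 F15851
theorem F31103 : act 7 n19445 = n9810 := d8_2 F15328 D19445 F15386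
def n19446 : Q := act 3 n9133
theorem D19446 : act 3 n9133 = n19446 := rfl
theorem F31104 : act 7 n19446 = n10996 := d8_2 F15279 D19446 F17849
def n19447 : Q := act 2 n9135
theorem D19447 : act 2 n9135 = n19447 := rfl
theorem F31105 : act 7 n9136 = n19447 := d15_2 (iv0 D9135) D9136 (iv2 D19447)
def n19448 : Q := act 3 n9135
theorem D19448 : act 3 n9135 = n19448 := rfl
theorem F31106 : act 4 n19448 = n11033 := d20_6 (iv4 F3360) (iv1 F3363) (iv4 F15282) D4099 D9135 D19448 (iv1 D11033) (iv4 D5028) (iv3 D2062) (iv1 F1906)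
def n19452 : Q := act 7 n9135
theorem D19452 : act 7 n9135 = n19452 := rfl
theorem F31107 : act 2 n19452 = n9136 := d4_1 D19452 F31105 (iv2 D19447)
def n19453 : Q := act 3 n9136
theorem D19453 : act 3 n9136 = n19453 := rfl
theorem F31108 : act 4 n10789 = n19453 := d20_2 D4925 D10789 (iv3 D19453) (iv1 D9136) (iv3 D4099) F15282 (iv1 D2058) F1904 (iv3 F1891) D2028
def n19454 : Q := act 4 n9136
theorem D19454 : act 4 n9136 = n19454 := rfl
def n19455 : Q := act 5 n9136
theorem D19455 : act 5 n9136 = n19455 := rfl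
def n19456 : Q := act 6 n9136
theorem D19456 : act 6 n9136 = n19456 := rfl
def n19457 : Q := act 4 n9137
theorem D19457 : act 4 n9137 = n19457 := rfl
theorem F31109 : act 2 n19457 = n9138 := d1_1 D19457 (iv4 D9138) D9137
theorem F31110 : act 7 n19457 = n19432 := d11_2 (iv7 F14226) D19457 (iv4 D19432)
theorem F31111 : act 0 n19457 = n19436 := d20_1 D19457 (iv4 F31092) (iv3 D11054) (iv1 F7482) F7480 D11029 (iv1 F17932) (iv4 F31082) (iv3 D19423) (iv1 F14227)
theorem F31112 : act 1 n19457 = n19435 := d15_0 (iv0 D19435) (iv7 F14230) (iv2 F31109)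
def n19458 : Q := act 6 n9137
theorem D19458 : act 6 n9137 = n19458 := rfl
theorem F31113 : act 2 n19458 = n9139 := d3_1 D19458 (iv6 D9139) D9137
theorem F31114 : act 3 n19458 = n19458 := d7_1 D19458 (iv6 D19458) F14225
def n19459 : Q := act 0 n9138
theorem D19459 : act 0 n9138 = n19459 := rfl
theorem F31115 : act 1 n19432 = n19459 := d15_0 (iv0 D19459) F14230 (iv2 F31085)
theorem F31116 : act 4 n10804 = n19459 := d20_0 (iv1 F31115) (iv4 D19432) F14222 (iv1 F14228) D19453 (iv4 F31108) (iv1 F17316) (iv4 D4930) D4929 D10804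
theorem F31117 : act 3 n10804 = n10783 := d20_3 D9138 D19459 (iv4 F31116) (iv1 D10783) (iv3 D4924) D4925 D10789 F31108 (iv3 D19453) (iv1 D9136)
def n19460 : Q := act 1 n9138
theorem D19460 : act 1 n9138 = n19460 := rfl
theorem F31118 : act 1 n19460 = n19432 := d15_1 D19460 (iv7 F31110) F31109
theorem F31119 : act 4 n11020 = n19460 := d20_6 (iv4 F1909) (iv1 F16092) (iv4 D2063) D2062 D5025 D11020 (iv1 D19460) (iv4 D9138) (iv3 D4099) (iv1 D1765)
def n19461 : Q := act 5 n9138
theorem D19461 : act 5 n9138 = n19461 := rfl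
theorem F31120 : act 7 n19461 = n19437 := d13_2 (iv7 F14230) D19461 (iv5 D19437)
def n19462 : Q := act 6 n9138
theorem D19462 : act 6 n9138 = n19462 := rfl
theorem F31121 : act 4 n19462 = n9139 := d10_1 D19462 (iv6 D9139) D9138
def n19463 : Q := act 0 n9139
theorem D19463 : act 0 n9139 = n19463 := rfl
def n19464 : Q := act 1 n9139
theorem D19464 : act 1 n9139 = n19464 := rfl
def n19465 : Q := act 0 n9143
theorem D19465 : act 0 n9143 = n19465 := rfl
def n19466 : Q := act 1 n9143
theorem D19466 : act 1 n9143 = n19466 := rfl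
def n19467 : Q := act 2 n9143
theorem D19467 : act 2 n9143 = n19467 := rfl
theorem F31122 : act 3 n19467 = n19467 := d0_2 D9143 D19467 (iv2 D19467) (iv3 D9143) F6012
def n19468 : Q := act 3 n9144
theorem D19468 : act 3 n9144 = n19468 := rfl
theorem F31123 : act 2 n19468 = n19057 := d0_1 D19468 (iv3 D19057) F13908 (iv3 F6073) (iv2 F14237)
theorem F31124 : act 4 n19468 = n19468 := d5_2 D9144 D19468 (iv3 D19468) (iv4 D9144) F6015
theorem F31125 : act 7 n19468 = n9191 := d8_2 (iv7 F14238) D19468 (iv3 D9191)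
def n19469 : Q := act 6 n9144
theorem D19469 : act 6 n9144 = n19469 := rfl
theorem F31126 : act 2 n19469 = n9235 := d3_1 D19469 (iv6 D9235) (iv2 F14237)
theorem F31127 : act 4 n19469 = n9145 := d10_1 D19469 (iv6 D9145) D9144
def n19470 : Q := act 0 n9145
theorem D19470 : act 0 n9145 = n19470 := rfl
theorem F31128 : act 6 n19470 = n9244 := d21_5 (iv5 F7097) D1768 D4103 D9145 D19470 (iv5 D9244) (iv1 D4179) F3037 (iv6 D1016) D1013
theorem F31129 : act 0 n19470 = n9246 := d21_4 (iv5 F14344) (iv1 F14346) D9244 (iv6 F31128) (iv6 D9246) F6076 (iv1 F7033) (iv5 F7348) (iv6 D4927) (iv1 F7038)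
def n19471 : Q := act 1 n9145
theorem D19471 : act 1 n9145 = n19471 := rfl
theorem F31130 : act 1 n19471 = n9246 := d15_1 D19471 F14436 (iv2 F14241)
def n19472 : Q := act 5 n9145
theorem D19472 : act 5 n9145 = n19472 := rfl
theorem F31131 : act 2 n19472 = n9249 := d2_1 D19472 (iv5 D9249) (iv2 F14241)
theorem F31132 : act 3 n19472 = n19472 := d6_1 D19472 (iv5 D19472) F14242
theorem F31133 : act 6 n19472 = n9146 := d12_2 D9145 D19472 (iv5 D9146) (iv6 D4104) D4103
def n19473 : Q := act 7 n9145
theorem D19473 : act 7 n9145 = n19473 := rfl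
theorem F31134 : act 2 n19473 = n9246 := d4_1 D19473 F14436 (iv2 F14241)
theorem F31135 : act 3 n19473 = n19473 := d8_1 D19473 (iv7 D19473) F14242
theorem F31136 : act 6 n19473 = n9196 := d14_1 D19473 (iv7 D9196) (iv6 D4161) (iv7 F6016) D9145
theorem F31137 : act 1 n9248 = n19473 := d15_1 D9248 (iv7 D19473) F14241
theorem F31138 : act 1 n19473 = n9247 := d15_0 (iv0 D9247) (iv7 F14436) (iv2 F31134)
def n19474 : Q := act 4 n9146
theorem D19474 : act 4 n9146 = n19474 := rfl
theorem F31139 : act 2 n19474 = n9253 := d1_1 D19474 (iv4 D9253) (iv2 F14243)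
theorem F31140 : act 7 n19474 = n10433 := d11_2 (iv7 F14245) D19474 (iv4 D10433)
theorem F31141 : act 1 n19474 = n10843 := d18_6 F14568 (iv4 D8680) F12266 F12264 D9146 D19474 (iv4 F27434) F27433 F16790
theorem F31142 : act 1 n10844 = n19474 := d15_1 D10844 F31140 F16611
def n19475 : Q := act 5 n9147
theorem D19475 : act 5 n9147 = n19475 := rfl
theorem F31143 : act 3 n19475 = n9150 := d6_1 D19475 (iv5 D9150) (iv3 F14248)
theorem F31144 : act 7 n19475 = n10840 := d13_2 (iv7 F17575) D19475 F17632
theorem F31145 : act 0 n19475 = n9350 := d17_2 (iv1 F17401) D19475 (iv5 D9350) F6148 D4247 F16823 (iv5 D1819) D1818 D4294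
theorem F31146 : act 0 n9766 = n19475 := d21_7 D4237 (iv1 F14384) F14382 F7156 (iv1 F6525) (iv6 F16820) D9766 (iv5 D19475) (iv6 D9147) F6290
def n19476 : Q := act 5 n9148
theorem D19476 : act 5 n9148 = n19476 := rfl
theorem F31147 : act 2 n19476 = n9170 := d2_1 D19476 (iv5 D9170) (iv2 F14249)
theorem F31148 : act 3 n19476 = n17118 := d6_1 D19476 (iv5 D17118) (iv3 F14250)
theorem F31149 : act 1 n19476 = n10458 := d17_6 (iv1 F6078) D4725 F14256 (iv5 D9150) (iv4 F14251) D19476 (iv5 D10458) (iv0 F16822) (iv4 D9251)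
theorem F31150 : act 0 n19476 = n17440 := d21_7 (iv5 F14311) (iv1 F15483) (iv5 D9848) F16737 (iv1 F6286) D9148 D19476 (iv5 D17440) (iv6 D8198) (iv1 F12104)
def n19477 : Q := act 4 n9150
theorem D19477 : act 4 n9150 = n19477 := rfl
theorem F31151 : act 2 n19477 = n9180 := d1_1 D19477 (iv4 D9180) (iv2 F14253)
theorem F31152 : act 7 n19477 = n10841 := d11_2 (iv7 F14254) D19477 (iv4 D10841)
def n19478 : Q := act 6 n9151
theorem D19478 : act 6 n9151 = n19478 := rfl
theorem F31153 : act 2 n19478 = n10332 := d3_1 D19478 (iv6 D10332) (iv2 F14257)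
theorem F31154 : act 3 n19478 = n9668 := d7_1 D19478 (iv6 D9668) (iv3 F14258)
theorem F31155 : act 5 n19478 = n10435 := d12_1 D19478 (iv6 D10435) (iv5 D4738) F16814 D9151
def n19479 : Q := act 5 n9153
theorem D19479 : act 5 n9153 = n19479 := rfl
theorem F31156 : act 2 n19479 = n9158 := d2_1 D19479 (iv5 D9158) (iv2 F14264)
theorem F31157 : act 1 n19479 = n10246 := d17_6 (iv1 D8896) (iv5 F12888) F28055 (iv5 D17118) (iv4 F14265) D19479 (iv5 D10246) (iv0 F16934) F14441
theorem F31158 : act 4 n19479 = n19418 := d18_5 (iv1 D4323) (iv4 F5677) (iv1 F17515) (iv4 F14265) D19479 (iv0 D19418) (iv4 D9111) D9110 F17522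
def n19480 : Q := act 7 n9153
theorem D19480 : act 7 n9153 = n19480 := rfl
theorem F31159 : act 2 n19480 = n9159 := d4_1 D19480 (iv7 D9159) (iv2 F14264)
theorem F31160 : act 3 n19480 = n9475 := d8_1 D19480 F17577 F15058
theorem F31161 : act 4 n19480 = n9572 := d11_1 D19480 F17557 (iv4 F14265)
theorem F31162 : act 6 n19480 = n17581 := d14_1 D19480 F28562 (iv6 F16932) F13977 D9153
theorem F31163 : act 1 n9157 = n19480 := d15_1 D9157 (iv7 D19480) F14264
theorem F31164 : act 1 n19480 = n9156 := d15_1 F31163 F17585 (iv2 F17579)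
def n19481 : Q := act 6 n9154
theorem D19481 : act 6 n9154 = n19481 := rfl
theorem F31165 : act 2 n19481 = n9164 := d3_1 D19481 (iv6 D9164) (iv2 F14266)
theorem F31166 : act 3 n19481 = n9155 := d7_1 D19481 (iv6 D9155) D9154
theorem F31167 : act 4 n19481 = n9164 := d10_1 D19481 (iv6 D9164) (iv4 F14267)
theorem F31168 : act 7 n19481 = n17336 := d14_2 (iv7 F14268) D19481 F28272 F28080 (iv6 D17119)
theorem F31169 : act 0 n17171 = n19481 := d20_1 (iv4 F28127) F31167 F14302 D9168 (iv3 F17567) (iv4 D8968) (iv1 F13945) (iv4 F27354) (iv3 F28298) (iv1 F28303)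
theorem F31170 : act 1 n17219 = n19481 := d15_0 (iv0 F31169) F28126 D17219
def n19482 : Q := act 5 n9157
theorem D19482 : act 5 n9157 = n19482 := rfl
theorem F31171 : act 2 n19482 = n19124 := d2_1 D19482 (iv5 D19124) (iv2 F17579)
def n19483 : Q := act 1 n9158
theorem D19483 : act 1 n9158 = n19483 := rfl
theorem F31172 : act 5 n19483 = n9835 := d17_7 F13826 (iv5 F28280) (iv1 F28575) F28577 F14272 D9158 D19483 (iv0 F28563) (iv4 D17581)
theorem F31173 : act 2 n10246 = n19483 := d2_3 F31172 F15467 D10246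
theorem F31174 : act 3 n9839 = n19483 := d6_3 F31172 F15468 D9839
def n19484 : Q := act 4 n9158
theorem D19484 : act 4 n9158 = n19484 := rfl
theorem F31175 : act 2 n19484 = n19418 := d1_1 D19484 (iv4 F31158) F31156
theorem F31176 : act 0 n19484 = n9337 := d18_2 (iv1 D19483) D19484 (iv4 D9337) (iv5 D4221) (iv4 F5714) (iv0 F12783) F12782 F16938 (iv5 F31172)
theorem F31177 : act 1 n19484 = n19151 := d18_6 (iv1 F6212) (iv4 F12884) (iv1 F17518) F14272 D9158 D19484 (iv4 D19151) F14537 F17526
theorem F31178 : act 7 n19419 = n19484 := d15_2 (iv0 D19418) D19419 F31175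
def n19485 : Q := act 7 n9158
theorem D19485 : act 7 n9158 = n19485 := rfl
theorem F31179 : act 3 n19485 = n9181 := d8_1 D19485 (iv7 D9181) (iv3 F14273)
theorem F31180 : act 4 n19485 = n19419 := d11_1 D19485 F31178 (iv4 D19484)
theorem F31181 : act 5 n19485 = n9159 := d13_1 D19485 (iv7 D9159) D9158
theorem F31182 : act 1 n10246 = n19485 := d15_1 F31157 (iv7 D19485) (iv2 F31156)
def n19486 : Q := act 6 n9160
theorem D19486 : act 6 n9160 = n19486 := rfl
theorem F31183 : act 2 n19486 = n10474 := d3_1 D19486 (iv6 D10474) (iv2 F14275)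
theorem F31184 : act 3 n19486 = n19113 := d7_1 D19486 (iv6 D19113) (iv3 F14276)
theorem F31185 : act 4 n19486 = n18157 := d10_1 D19486 (iv6 D18157) (iv4 F14280)
def n19487 : Q := act 5 n9161
theorem D19487 : act 5 n9161 = n19487 := rfl
theorem F31186 : act 2 n19487 = n17440 := d2_1 D19487 (iv5 D17440) (iv2 F14281)
theorem F31187 : act 3 n19487 = n19114 := d6_1 D19487 (iv5 D19114) (iv3 F14282)
theorem F31188 : act 7 n19487 = n10458 := d13_2 F16779 D19487 (iv5 D10458)
theorem F31189 : act 1 n19487 = n9170 := d17_6 (iv1 F27429) D19046 F30555 (iv5 D9698) (iv4 F14283) D19487 (iv5 D9170) D9169 F17591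
def n19488 : Q := act 4 n9163
theorem D19488 : act 4 n9163 = n19488 := rfl
theorem F31190 : act 2 n19488 = n17986 := d1_1 D19488 (iv4 F30209) F30206
theorem F31191 : act 3 n19488 = n18345 := d5_1 D19488 (iv4 D18345) (iv3 D8643) (iv4 F7228) (iv3 F14289)
theorem F31192 : act 7 n19488 = n17987 := d11_2 F30251 D19488 F30254
theorem F31193 : act 5 n19488 = n19342 := d17_5 (iv1 F27376) (iv5 D16699) (iv1 F12802) D9163 D19488 F30986 (iv5 D18024) F29185 F29184
theorem F31194 : act 0 n19488 = n13044 := d18_2 (iv1 F21736) D19488 (iv4 D13044) (iv5 D6206) D6205 (iv0 F9667) F6850 (iv0 F6852) D8476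
theorem F31195 : act 1 n19488 = n13048 := d18_6 (iv1 F5892) (iv4 F9562) F14270 F14267 D9163 D19488 (iv4 D13048) F14056 F5855
def n19489 : Q := act 6 n9163
theorem D19489 : act 6 n9163 = n19489 := rfl
theorem F31196 : act 3 n19489 = n9166 := d7_1 D19489 (iv6 D9166) (iv3 F14289)
def n19490 : Q := act 1 n9164
theorem D19490 : act 1 n9164 = n19490 := rfl
theorem F31197 : act 1 n19490 = n17336 := d15_1 D19490 (iv7 F31168) F31165
theorem F31198 : act 7 n19490 = n17219 := d15_2 (iv0 F21533) D19490 (iv2 D17219)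
theorem F31199 : act 4 n17232 = n19490 := d20_0 (iv1 D19490) (iv4 F31167) F31166 F17517 F6200 F4104 (iv1 F2959) (iv4 F5682) D8130 F28186
theorem F31200 : act 3 n17229 = n19490 := d20_3 (iv4 F28313) (iv1 D17228) (iv4 F30571) (iv1 D19490) F14302 F6044 D4129 F13604 F17455 (iv1 F21440)
theorem F31201 : act 2 n19490 = n17171 := d0_1 F31200 (iv3 D17171) F21676 D8080 D17229
theorem F31202 : act 6 n19490 = n19490 := d7_2 F28180 F31200 (iv3 F31200)
theorem E4352 : n17336 = n17218 := (c15_1 F31197 (iv0 D17218) (iv7 F28126) (iv2 F31201))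
theorem F31203 : act 0 n17218 = n19490 := (sb E4352 (iv1 F31197))
theorem F31204 : act 3 n17218 = n8118 := (sb E4352 (iv3 D17336))
theorem F31205 : act 6 n17218 = n17139 := (sb E4352 F28272)
theorem F31206 : act 7 n17218 = n19481 := (sb E4352 (iv7 F31168))
def n19491 : Q := act 5 n9164
theorem D19491 : act 5 n9164 = n19491 := rfl
theorem F31207 : act 3 n19491 = n9170 := d6_1 D19491 (iv5 D9170) (iv3 F14302)
theorem F31208 : act 0 n19491 = n17140 := d17_2 (iv1 D19490) D19491 (iv5 D17140) F12805 D16701 (iv0 F30157) (iv5 D18900) (iv0 F28185) F31199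
def n19492 : Q := act 7 n9164
theorem D19492 : act 7 n9164 = n19492 := rfl
theorem F31209 : act 2 n19492 = n17218 := d4_1 D19492 F31206 F31165
theorem F31210 : act 3 n19492 = n9171 := d8_1 D19492 (iv7 D9171) (iv3 F14302)
theorem F31211 : act 4 n19492 = n17218 := d11_1 D19492 F31206 F31167
theorem F31212 : act 6 n19492 = n17608 := d14_1 D19492 F28628 F17374 (iv7 D9165) D9164
theorem F31213 : act 1 n17171 = n19492 := d15_1 (iv0 F31169) (iv7 D19492) (iv2 F31165)
theorem F31214 : act 1 n19492 = n17219 := d15_1 F31213 (iv7 F31198) F31201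
def n19493 : Q := act 0 n9166
theorem D19493 : act 0 n9166 = n19493 := rfl
def n19494 : Q := act 1 n9166
theorem D19494 : act 1 n9166 = n19494 := rfl
def n19495 : Q := act 5 n9166
theorem D19495 : act 5 n9166 = n19495 := rfl
theorem F31215 : act 6 n19495 = n9170 := d12_2 D9166 D19495 (iv5 D9170) (iv6 D4122) D4121
def n19496 : Q := act 7 n9166
theorem D19496 : act 7 n9166 = n19496 := rfl
theorem F31216 : act 4 n19496 = n18352 := d11_1 D19496 (iv7 D18352) (iv4 F14308)
def n19497 : Q := act 6 n9167
theorem D19497 : act 6 n9167 = n19497 := rfl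
theorem F31217 : act 2 n19497 = n9186 := d3_1 D19497 (iv6 D9186) (iv2 F14309)
theorem F31218 : act 4 n19497 = n18251 := d10_1 D19497 (iv6 D18251) (iv4 F14310)
def n19498 : Q := act 5 n9168
theorem D19498 : act 5 n9168 = n19498 := rfl
theorem F31219 : act 2 n19498 = n17515 := d2_1 D19498 F28516 (iv2 F17594)
theorem F31220 : act 3 n19498 = n19120 := d6_1 D19498 (iv5 D19120) F17567
theorem F31221 : act 0 n19498 = n9188 := d17_2 D9168 D19498 (iv5 D9188) F6057 D4146 (iv0 F14317) (iv5 D9174) (iv0 D4129) (iv4 F6044)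
def n19499 : Q := act 5 n9169
theorem D19499 : act 5 n9169 = n19499 := rfl
theorem F31222 : act 3 n19499 = n12882 := d6_1 D19499 (iv5 D12882) F17597
theorem F31223 : act 7 n19499 = n17515 := d13_2 F17593 D19499 F28516
theorem F31224 : act 0 n9188 = n19499 := d21_1 D9188 (iv5 D19499) F17592 (iv1 D9169) (iv6 D4122) D4121 F12197 (iv5 D4755) D4756 (iv1 F16821)
def n19500 : Q := act 7 n9170
theorem D19500 : act 7 n9170 = n19500 := rfl
theorem F31225 : act 5 n19500 = n9171 := d13_1 D19500 (iv7 D9171) D9170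
theorem F31226 : act 1 n10458 = n19500 := d15_1 F31149 (iv7 D19500) (iv2 F31147)
theorem F31227 : act 1 n19500 = n17440 := d15_1 F31226 (iv7 F28508) F28506
def n19501 : Q := act 4 n9174
theorem D19501 : act 4 n9174 = n19501 := rfl
theorem F31228 : act 2 n19501 = n9632 := d1_1 D19501 (iv4 D9632) (iv2 F17459)
def n19502 : Q := act 6 n9174
theorem D19502 : act 6 n9174 = n19502 := rfl
theorem F31229 : act 2 n19502 = n9633 := d3_1 D19502 (iv6 D9633) (iv2 F17459)
theorem F31230 : act 3 n19502 = n19502 := d7_1 D19502 (iv6 D19502) F17460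
theorem F31231 : act 5 n19502 = n10595 := d12_1 D19502 (iv6 D10595) (iv5 D4844) (iv6 F7237) D9174
def n19503 : Q := act 0 n9180
theorem D19503 : act 0 n9180 = n19503 := rfl
theorem F31232 : act 4 n19503 = n9698 := d18_3 F6956 D9180 D19503 (iv5 D9698) (iv4 F14283) (iv0 F14284) (iv4 D4938) (iv0 D2032) D2034
theorem F31233 : act 1 n10841 = n19503 := d18_6 F27370 (iv4 F17568) (iv1 F17565) (iv4 D9646) (iv5 F17502) D10841 F31232 (iv0 F30555) (iv5 D19046)
def n19504 : Q := act 1 n9180
theorem D19504 : act 1 n9180 = n19504 := rfl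
theorem F31234 : act 1 n19504 = n10841 := d15_1 D19504 (iv7 F31152) F31151
theorem F31235 : act 4 n18142 = n19504 := d18_5 (iv1 F6022) D4941 (iv1 F14286) F16801 D18142 F31234 (iv4 D10841) (iv0 F14246) (iv5 D9146)
def n19505 : Q := act 3 n9180
theorem D19505 : act 3 n9180 = n19505 := rfl
def n19506 : Q := act 5 n9180
theorem D19506 : act 5 n9180 = n19506 := rfl
def n19507 : Q := act 7 n9180
theorem D19507 : act 7 n9180 = n19507 := rfl
theorem F31236 : act 2 n19507 = n10841 := d4_1 D19507 (iv7 F31152) F31151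
theorem F31237 : act 4 n19507 = n9181 := d11_1 D19507 (iv7 D9181) D9180
def n19508 : Q := act 6 n9181
theorem D19508 : act 6 n9181 = n19508 := rfl
theorem F31238 : act 2 n19508 = n10842 := d3_1 D19508 (iv6 D10842) (iv2 F14322)
def n19509 : Q := act 5 n9182
theorem D19509 : act 5 n9182 = n19509 := rfl
theorem F31239 : act 2 n19509 = n9185 := d2_1 D19509 (iv5 D9185) (iv2 F14326)
theorem F31240 : act 0 n19509 = n9493 := d17_2 F16832 D19509 (iv5 D9493) (iv4 D4294) D4295 F16827 (iv5 D4389) (iv0 F16780) (iv4 F6375)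
theorem F31241 : act 1 n19509 = n9478 := d17_6 (iv1 F17391) D19118 F30717 (iv5 D9185) (iv4 F14327) D19509 (iv5 D9478) (iv0 F17400) (iv4 F15059)
def n19510 : Q := act 0 n9185
theorem D19510 : act 0 n9185 = n19510 := rfl
theorem F31242 : act 5 n19510 = n9410 := d17_3 F14335 D9185 D19510 (iv4 D9410) (iv5 F16863) (iv0 D4419) (iv5 D1854) D1853 D4416
theorem F31243 : act 2 n9493 = n19510 := d15_3 (iv0 D19510) (iv0 F30717) F30716
theorem F31244 : act 3 n19510 = n19482 := d0_2 (iv3 F16903) F31243 F31171 F30733 F16899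
theorem F31245 : act 7 n19510 = n9478 := d4_2 F30716 F31243 (iv2 F30714)
theorem F31246 : act 4 n9778 = n19510 := d18_3 (iv1 D4420) D4421 D9778 F31242 (iv4 D9410) F6171 F3079 F6177 (iv5 F16860)
def n19511 : Q := act 4 n9185
theorem D19511 : act 4 n9185 = n19511 := rfl
theorem F31247 : act 0 n19511 = n9494 := d18_2 F30717 D19511 (iv4 D9494) (iv5 D4295) D4294 F14695 F15014 F17572 D19118
theorem F31248 : act 1 n19511 = n9483 := d18_6 F16785 (iv4 F6375) F16832 F14327 D9185 D19511 (iv4 D9483) (iv0 F16839) F6348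
def n19512 : Q := act 0 n9186
theorem D19512 : act 0 n9186 = n19512 := rfl
def n19513 : Q := act 1 n9186
theorem D19513 : act 1 n9186 = n19513 := rfl
def n19514 : Q := act 5 n9186
theorem D19514 : act 5 n9186 = n19514 := rfl
theorem F31249 : act 6 n19514 = n9188 := d12_2 D9186 D19514 (iv5 D9188) (iv6 D4141) D4140
def n19515 : Q := act 7 n9186
theorem D19515 : act 7 n9186 = n19515 := rfl
theorem F31250 : act 4 n19515 = n18359 := d11_1 D19515 (iv7 D18359) (iv4 F14330)
def n19516 : Q := act 4 n9188
theorem D19516 : act 4 n9188 = n19516 := rfl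
theorem F31251 : act 0 n19516 = n17376 := d18_2 F31221 D19516 (iv4 D17376) (iv5 D8140) F5689 D4341 D9646 F17565 D19498
def n19517 : Q := act 0 n9190
theorem D19517 : act 0 n9190 = n19517 := rfl
def n19518 : Q := act 1 n9190
theorem D19518 : act 1 n9190 = n19518 := rfl
theorem F31252 : act 4 n19518 = n9775 := d18_7 (iv1 F14569) (iv4 F16778) (iv1 F16821) F6057 D4146 D9190 D19518 (iv0 F29650) (iv5 D18466)
def n19519 : Q := act 3 n9190
theorem D19519 : act 3 n9190 = n19519 := rfl
def n19520 : Q := act 5 n9190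
theorem D19520 : act 5 n9190 = n19520 := rfl
def n19521 : Q := act 0 n9191
theorem D19521 : act 0 n9191 = n19521 := rfl
theorem F31253 : act 1 n19057 = n19521 := d15_0 (iv0 D19521) (iv7 F31125) F31123
def n19522 : Q := act 1 n9191
theorem D19522 : act 1 n9191 = n19522 := rfl
def n19523 : Q := act 2 n9191
theorem D19523 : act 2 n9191 = n19523 := rfl
theorem F31254 : act 3 n19523 = n9225 := d0_2 D9191 D19523 (iv2 D9225) (iv3 D4174) (iv2 F6064)
theorem F31255 : act 4 n19523 = n19523 := d1_2 F14337 D19523 (iv2 D19523)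
theorem F31256 : act 7 n19523 = n19057 := d4_2 F31125 D19523 (iv2 F31123)
theorem F31257 : act 1 n19522 = n19057 := d15_1 D19522 (iv7 F31256) (iv2 D19523)
def n19524 : Q := act 5 n9191
theorem D19524 : act 5 n9191 = n19524 := rfl
theorem F31258 : act 3 n19524 = n9192 := d6_1 D19524 (iv5 D9192) D9191
def n19525 : Q := act 6 n9191
theorem D19525 : act 6 n9191 = n19525 := rfl
theorem F31259 : act 3 n19525 = n9193 := d7_1 D19525 (iv6 D9193) D9191
theorem F31260 : act 4 n19525 = n19525 := d10_1 D19525 (iv6 D19525) F14337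
def n19526 : Q := act 6 n9192
theorem D19526 : act 6 n9192 = n19526 := rfl
theorem F31261 : act 2 n19526 = n9229 := d3_1 D19526 (iv6 D9229) (iv2 F14338)
def n19527 : Q := act 0 n9193
theorem D19527 : act 0 n9193 = n19527 := rfl
def n19528 : Q := act 1 n9193
theorem D19528 : act 1 n9193 = n19528 := rfl
theorem F31262 : act 1 n19528 = n9234 := d15_1 D19528 (iv7 D9234) (iv2 F14339)
def n19529 : Q := act 5 n9193
theorem D19529 : act 5 n9193 = n19529 := rfl
theorem F31263 : act 2 n19529 = n9233 := d2_1 D19529 (iv5 D9233) (iv2 F14339)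
def n19530 : Q := act 7 n9193
theorem D19530 : act 7 n9193 = n19530 := rfl
theorem F31264 : act 2 n19530 = n9234 := d4_1 D19530 (iv7 D9234) (iv2 F14339)
theorem F31265 : act 4 n19530 = n9196 := d11_1 D19530 (iv7 D9196) (iv4 F14340)
theorem F31266 : act 1 n9234 = n19527 := d15_0 (iv0 D19527) D19530 F31264
theorem F31267 : act 1 n9232 = n19530 := d15_1 D9232 (iv7 D19530) F14339
theorem F31268 : act 4 n19087 = n19527 := d20_6 D4200 (iv1 F16060) F3051 (iv3 F5931) D8941 D19087 (iv1 F31266) F14430 F6075 (iv1 F3049)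
theorem F31269 : act 1 n19530 = n9231 := d15_0 (iv0 D9231) D9234 (iv2 F31264)
def n19531 : Q := act 2 n9194
theorem D19531 : act 2 n9194 = n19531 := rfl
theorem F31270 : act 7 n9195 = n19531 := d15_2 (iv0 D9194) D9195 (iv2 D19531)
def n19532 : Q := act 3 n9194
theorem D19532 : act 3 n9194 = n19532 := rfl
def n19533 : Q := act 4 n9194
theorem D19533 : act 4 n9194 = n19533 := rfl
def n19534 : Q := act 5 n9194
theorem D19534 : act 5 n9194 = n19534 := rfl
def n19535 : Q := act 6 n9194
theorem D19535 : act 6 n9194 = n19535 := rfl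
theorem F31271 : act 5 n19535 = n10829 := d21_6 (iv5 F6987) F6293 D1781 D4161 D9194 D19535 (iv1 D10829) (iv5 D4936) (iv6 D2031) (iv1 F3310)
def n19536 : Q := act 7 n9194
theorem D19536 : act 7 n9194 = n19536 := rfl
theorem F31272 : act 2 n19536 = n9195 := d4_1 D19536 F31270 (iv2 D19531)
def n19537 : Q := act 3 n9195
theorem D19537 : act 3 n9195 = n19537 := rfl
theorem F31273 : act 4 n19537 = n19083 := d20_6 F15292 (iv1 F6095) F6093 (iv3 F6075) (iv1 F14341) D19537 (iv1 D19083) F13923 F5931 D3989
def n19538 : Q := act 4 n9195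
theorem D19538 : act 4 n9195 = n19538 := rfl
def n19539 : Q := act 5 n9195
theorem D19539 : act 5 n9195 = n19539 := rfl
theorem F31274 : act 6 n19539 = n9247 := d21_3 (iv5 F6076) (iv1 F14341) D19539 (iv1 F31138) F31136 F14344 (iv1 F7037) D4931 (iv6 F7350) (iv1 F7036)
def n19540 : Q := act 6 n9195
theorem D19540 : act 6 n9195 = n19540 := rfl
def n19541 : Q := act 6 n9197
theorem D19541 : act 6 n9197 = n19541 := rfl
theorem F31275 : act 2 n19541 = n9199 := d3_1 D19541 (iv6 D9199) D9197
theorem F31276 : act 3 n19541 = n10509 := d7_1 D19541 (iv6 D10509) (iv3 F14348)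
theorem F31277 : act 4 n19541 = n19079 := d10_1 D19541 (iv6 D19079) F14353
def n19542 : Q := act 3 n9198
theorem D19542 : act 3 n9198 = n19542 := rfl
theorem F31278 : act 4 n19542 = n9202 := d5_2 D9198 D19542 (iv3 D9202) (iv4 D4164) D4163
theorem F31279 : act 5 n19542 = n13044 := d6_2 F14358 D19542 F21741
theorem F31280 : act 7 n19542 = n10445 := d8_2 (iv7 F14355) D19542 (iv3 D10445)
theorem F31281 : act 2 n19542 = n17996 := d16_9 F29202 F29199 (iv4 F14296) (iv5 D8476) (iv4 D3793) D3794 D8480 F16637 (iv7 F31280)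
def n19543 : Q := act 6 n9198
theorem D19543 : act 6 n9198 = n19543 := rfl
theorem F31282 : act 2 n19543 = n19079 := d3_1 D19543 (iv6 D19079) (iv2 F14354)
theorem F31283 : act 4 n19543 = n9199 := d10_1 D19543 (iv6 D9199) D9198
def n19544 : Q := act 0 n9199
theorem D19544 : act 0 n9199 = n19544 := rfl
def n19545 : Q := act 1 n9199
theorem D19545 : act 1 n9199 = n19545 := rfl
def n19546 : Q := act 5 n9199
theorem D19546 : act 5 n9199 = n19546 := rfl
theorem F31284 : act 3 n19546 = n9207 := d6_1 D19546 (iv5 D9207) (iv3 F14359)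
theorem F31285 : act 6 n19546 = n10453 := d12_2 D9199 D19546 (iv5 D10453) (iv6 D4754) (iv5 F7137)
def n19547 : Q := act 7 n9199
theorem D19547 : act 7 n9199 = n19547 := rfl
theorem F31286 : act 3 n19547 = n9208 := d8_1 D19547 (iv7 D9208) (iv3 F14359)
theorem F31287 : act 6 n19547 = n10450 := d14_1 D19547 (iv7 D10450) (iv6 D4748) (iv7 F7138) D9199
def n19548 : Q := act 3 n9200
theorem D19548 : act 3 n9200 = n19548 := rfl
theorem F31288 : act 4 n19548 = n9701 := d5_2 (iv4 F14360) D19548 (iv3 D9701) (iv4 D4379) (iv3 F6312)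
theorem F31289 : act 7 n19548 = n10482 := d8_2 F14363 D19548 (iv3 D10482)
def n19549 : Q := act 6 n9200
theorem D19549 : act 6 n9200 = n19549 := rfl
theorem F31290 : act 2 n19549 = n10487 := d3_1 D19549 (iv6 D10487) F14362
theorem F31291 : act 4 n19549 = n9696 := d10_1 D19549 (iv6 D9696) (iv4 F14360)
def n19550 : Q := act 3 n9201
theorem D19550 : act 3 n9201 = n19550 := rfl
theorem F31292 : act 4 n19550 = n10167 := d5_2 (iv4 F14366) D19550 (iv3 D10167) (iv4 F15042) F15039
theorem F31293 : act 7 n19550 = n10485 := d8_2 (iv7 F14365) D19550 (iv3 D10485)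
theorem F31294 : act 0 n19550 = n19072 := d20_4 (iv4 D8558) D8557 (iv4 F14366) D19550 (iv3 D19072) (iv4 D8936) (iv1 D3986) D3987 (iv3 F6073) (iv1 F13394)
theorem F31295 : act 2 n19550 = n19224 := d15_3 (iv0 D19224) (iv0 F16695) (iv7 F31293)
def n19551 : Q := act 6 n9201
theorem D19551 : act 6 n9201 = n19551 := rfl
theorem F31296 : act 2 n19551 = n10484 := d3_1 D19551 (iv6 D10484) F14367
theorem F31297 : act 4 n19551 = n18144 := d10_1 D19551 (iv6 D18144) (iv4 F14366)
def n19552 : Q := act 6 n9202
theorem D19552 : act 6 n9202 = n19552 := rfl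
theorem F31298 : act 3 n19552 = n9204 := d7_1 D19552 (iv6 D9204) D9202
def n19553 : Q := act 0 n9203
theorem D19553 : act 0 n9203 = n19553 := rfl
theorem F31299 : act 5 n19553 = n9425 := d17_1 D19553 F14654 D10603 (iv4 F29443) (iv5 D18250) F13521 (iv5 F13575) (iv0 F27530) F27528
theorem F31300 : act 4 n19553 = n18161 := d18_1 D19553 (iv1 F29333) F13498 (iv5 F13392) (iv4 D8558) (iv0 F12195) (iv4 F14360) (iv0 D9200) D9203
theorem F31301 : act 1 n9213 = n19553 := d15_0 (iv0 D19553) F14370 (iv2 F14392)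
theorem F31302 : act 2 n10492 = n19553 := d2_3 F31299 F14652 (iv5 F16701)
theorem F31303 : act 7 n10491 = n19553 := d13_0 F31299 F14653 (iv5 F16698)
def n19554 : Q := act 1 n9203
theorem D19554 : act 1 n9203 = n19554 := rfl
theorem F31304 : act 1 n19554 = n9213 := d15_1 D19554 F14393 (iv2 F14369)
theorem F31305 : act 7 n19554 = n10492 := d15_2 (iv0 D19553) D19554 F31302
theorem F31306 : act 5 n19554 = n10601 := d17_7 (iv1 F3309) F1893 F6537 (iv5 F7120) D4164 D9203 D19554 (iv0 D10601) (iv4 D4851)
theorem F31307 : act 4 n19554 = n18162 := d17_9 (iv1 D18162) (iv5 D8565) D8562 D18153 F29328 F17206 (iv0 D9200) D9203 D19554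
theorem F31308 : act 2 n10491 = n19554 := d16_9 F31307 F29335 (iv4 F15484) (iv5 D9848) (iv4 D4463) (iv5 F7247) D9425 (iv5 F31299) (iv7 F31303)
def n19555 : Q := act 6 n9203
theorem D19555 : act 6 n9203 = n19555 := rfl
theorem F31309 : act 2 n19555 = n10554 := d3_1 D19555 (iv6 D10554) (iv2 F14369)
def n19556 : Q := act 0 n9204
theorem D19556 : act 0 n9204 = n19556 := rfl
def n19557 : Q := act 1 n9204
theorem D19557 : act 1 n9204 = n19557 := rfl
theorem F31310 : act 1 n19557 = n10558 := d15_1 D19557 (iv7 D10558) (iv2 F14371)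
def n19558 : Q := act 5 n9204
theorem D19558 : act 5 n9204 = n19558 := rfl
theorem F31311 : act 2 n19558 = n10557 := d2_1 D19558 (iv5 D10557) (iv2 F14371)
def n19559 : Q := act 7 n9204
theorem D19559 : act 7 n9204 = n19559 := rfl
theorem F31312 : act 2 n19559 = n10558 := d4_1 D19559 (iv7 D10558) (iv2 F14371)
theorem F31313 : act 4 n19559 = n9208 := d11_1 D19559 (iv7 D9208) (iv4 F14372)
theorem F31314 : act 6 n19559 = n10497 := d14_1 D19559 (iv7 D10497) (iv6 D4786) (iv7 F7140) D9204
theorem F31315 : act 1 n10558 = n19556 := d15_0 (iv0 D19556) D19559 F31312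
theorem F31316 : act 1 n10556 = n19559 := d15_1 D10556 (iv7 D19559) F14371
theorem F31317 : act 1 n19559 = n10555 := d15_0 (iv0 D10555) D10558 (iv2 F31312)
def n19560 : Q := act 2 n9205
theorem D19560 : act 2 n9205 = n19560 := rfl
theorem F31318 : act 7 n9206 = n19560 := d15_2 (iv0 D9205) D9206 (iv2 D19560)
def n19561 : Q := act 3 n9205
theorem D19561 : act 3 n9205 = n19561 := rfl
def n19562 : Q := act 4 n9205
theorem D19562 : act 4 n9205 = n19562 := rfl
def n19563 : Q := act 5 n9205
theorem D19563 : act 5 n9205 = n19563 := rfl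
def n19564 : Q := act 6 n9205
theorem D19564 : act 6 n9205 = n19564 := rfl
def n19565 : Q := act 7 n9205
theorem D19565 : act 7 n9205 = n19565 := rfl
theorem F31319 : act 2 n19565 = n9206 := d4_1 D19565 F31318 (iv2 D19560)
def n19567 : Q := act 4 n9206
theorem D19567 : act 4 n9206 = n19567 := rfl
def n19568 : Q := act 5 n9206
theorem D19568 : act 5 n9206 = n19568 := rfl
theorem F31320 : act 6 n10569 = n19568 := d21_5 (iv5 D4844) (iv1 D1995) D1996 (iv6 F6971) D10569 (iv5 D19568) (iv1 D9206) D9207 F14375 (iv1 F7162)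
def n19569 : Q := act 6 n9206
theorem D19569 : act 6 n9206 = n19569 := rfl
theorem F31321 : act 5 n19569 = n10801 := d21_6 (iv5 D10501) (iv1 F14402) F14398 F14399 (iv1 F14373) D19569 (iv1 D10801) F7348 D10640 (iv1 F17367)
def n19570 : Q := act 0 n9207
theorem D19570 : act 0 n9207 = n19570 := rfl
theorem F31322 : act 6 n19570 = n10567 := d21_5 (iv5 D4584) (iv1 F17410) D4810 (iv6 F14375) D19570 (iv5 D10567) (iv1 D4833) D4834 F6971 F17445
def n19571 : Q := act 1 n9207
theorem D19571 : act 1 n9207 = n19571 := rfl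
theorem F31323 : act 1 n19571 = n10572 := d15_1 D19571 (iv7 D10572) (iv2 F14374)
def n19572 : Q := act 4 n9207
theorem D19572 : act 4 n9207 = n19572 := rfl
theorem F31325 : act 2 n19572 = n10571 := d1_1 D19572 (iv4 D10571) (iv2 F14374)
def n19573 : Q := act 7 n9207
theorem D19573 : act 7 n9207 = n19573 := rfl
theorem F31327 : act 2 n19573 = n10572 := d4_1 D19573 (iv7 D10572) (iv2 F14374)
theorem F31328 : act 5 n19573 = n9208 := d13_1 D19573 (iv7 D9208) D9207
theorem F31330 : act 1 n10572 = n19570 := d15_0 (iv0 D19570) D19573 F31327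
theorem F31332 : act 0 n10569 = n19573 := d21_10 F31328 (iv1 F14379) D10567 (iv6 F31322) (iv1 F31330) F17039 F17038 (iv1 F14373) D19568 (iv6 F31320)
def n19574 : Q := act 6 n9209
theorem D19574 : act 6 n9209 = n19574 := rfl
theorem F31333 : act 2 n19574 = n9211 := d3_1 D19574 (iv6 D9211) D9209
theorem F31334 : act 3 n19574 = n10440 := d7_1 D19574 (iv6 D10440) (iv3 F14381)
theorem F31335 : act 5 n19574 = n19574 := d12_1 D19574 (iv6 D19574) F14382 F7156 (iv5 F14382)
def n19575 : Q := act 3 n9210
theorem D19575 : act 3 n9210 = n19575 := rfl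
theorem F31336 : act 4 n19575 = n9212 := d5_2 D9210 D19575 (iv3 D9212) (iv4 D4169) D4168
theorem F31337 : act 7 n19575 = n10511 := d8_2 (iv7 F14386) D19575 (iv3 D10511)
def n19576 : Q := act 5 n9210
theorem D19576 : act 5 n9210 = n19576 := rfl
theorem F31338 : act 7 n19576 = n10512 := d13_2 (iv7 F14386) D19576 (iv5 D10512)
theorem F31339 : act 4 n19576 = n10512 := d16_2 D9210 D19576 (iv5 D10512) (iv4 D4815) (iv5 D1987) (iv4 F6552) D4811 (iv7 F14383) (iv2 D9209)
theorem F31340 : act 0 n19576 = n9732 := d17_2 (iv1 F14388) D19576 (iv5 D9732) (iv4 D4398) (iv5 F7064) F1841 D1872 (iv0 F6921) D4242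
theorem F31341 : act 1 n19576 = n9724 := d17_6 (iv1 F7244) (iv5 D4466) (iv1 F6543) (iv5 F7142) D9210 D19576 (iv5 D9724) D9722 F15180
def n19577 : Q := act 6 n9210
theorem D19577 : act 6 n9210 = n19577 := rfl
theorem F31342 : act 4 n19577 = n9211 := d10_1 D19577 (iv6 D9211) D9210
def n19578 : Q := act 0 n9211
theorem D19578 : act 0 n9211 = n19578 := rfl
def n19579 : Q := act 1 n9211
theorem D19579 : act 1 n9211 = n19579 := rfl
def n19580 : Q := act 7 n9211
theorem D19580 : act 7 n9211 = n19580 := rfl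
theorem F31343 : act 3 n19580 = n9217 := d8_1 D19580 (iv7 D9217) (iv3 F14389)
theorem F31344 : act 5 n19580 = n19580 := d13_1 D19580 (iv7 D19580) F14390
theorem F31345 : act 6 n19580 = n10517 := d14_1 D19580 (iv7 D10517) (iv6 D4816) (iv7 F7143) D9211
def n19581 : Q := act 0 n9212
theorem D19581 : act 0 n9212 = n19581 := rfl
theorem F31346 : act 1 n10551 = n19581 := d15_0 (iv0 D19581) F14391 D10551
def n19582 : Q := act 1 n9212
theorem D19582 : act 1 n9212 = n19582 := rfl
theorem F31347 : act 3 n19063 = n19582 := d20_3 F14413 (iv1 F14261) (iv4 F30599) (iv1 D19582) (iv3 D9212) (iv4 D4169) (iv1 D1783) D1784 D4174 D9224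
theorem F31348 : act 4 n9873 = n19582 := d20_6 (iv4 D4257) (iv1 F6917) D1894 F3183 D4486 D9873 (iv1 D19582) (iv4 F31336) (iv3 D19575) F14387
theorem F31349 : act 7 n19582 = n10550 := d11_2 F15682 F31348 (iv4 F17031)
theorem F31350 : act 2 n10550 = n19581 := d15_3 (iv0 D19581) D19582 F31349
theorem F31351 : act 2 n19582 = n10549 := d15_3 (iv0 D10549) D10550 (iv7 F31349)
theorem F31352 : act 4 n10549 = n16937 := d1_2 F31348 F31351 F27774
theorem F31353 : act 7 n10549 = n19581 := d4_2 (iv7 F31349) F31351 (iv2 F31350)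
theorem F31354 : act 1 n19582 = n10551 := d15_0 F31346 (iv7 F31353) (iv2 F31351)
def n19583 : Q := act 2 n9212
theorem D19583 : act 2 n9212 = n19583 := rfl
theorem F31355 : act 3 n19583 = n10489 := d0_2 D9212 D19583 (iv2 D10489) (iv3 D4784) (iv2 F7144)
theorem F31356 : act 7 n19583 = n10551 := d4_2 (iv7 F14391) D19583 (iv2 D10551)
theorem F31357 : act 1 n19583 = n10549 := d15_0 (iv0 D10549) (iv7 F14391) D19583
theorem F31358 : act 1 n10550 = n19583 := d15_0 F31357 F31353 (iv2 F31350)
def n19584 : Q := act 5 n9212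
theorem D19584 : act 5 n9212 = n19584 := rfl
theorem F31359 : act 3 n19584 = n9213 := d6_1 D19584 (iv5 D9213) D9212
theorem F31360 : act 7 n19584 = n10552 := d13_2 (iv7 F14391) D19584 (iv5 D10552)
def n19585 : Q := act 6 n9212
theorem D19585 : act 6 n9212 = n19585 := rfl
theorem F31361 : act 3 n19585 = n9214 := d7_1 D19585 (iv6 D9214) D9212
def n19586 : Q := act 6 n9213
theorem D19586 : act 6 n9213 = n19586 := rfl
theorem F31362 : act 2 n19586 = n10493 := d3_1 D19586 (iv6 D10493) (iv2 F14392)
def n19587 : Q := act 0 n9214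
theorem D19587 : act 0 n9214 = n19587 := rfl
def n19588 : Q := act 1 n9214
theorem D19588 : act 1 n9214 = n19588 := rfl
theorem F31363 : act 1 n19588 = n10497 := d15_1 D19588 (iv7 D10497) (iv2 F14394)
def n19589 : Q := act 5 n9214
theorem D19589 : act 5 n9214 = n19589 := rfl
theorem F31364 : act 2 n19589 = n10496 := d2_1 D19589 (iv5 D10496) (iv2 F14394)
def n19590 : Q := act 7 n9214
theorem D19590 : act 7 n9214 = n19590 := rfl
theorem F31365 : act 2 n19590 = n10497 := d4_1 D19590 (iv7 D10497) (iv2 F14394)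
theorem F31366 : act 4 n19590 = n9217 := d11_1 D19590 (iv7 D9217) (iv4 F14395)
theorem F31367 : act 6 n19590 = n10558 := d14_1 D19590 (iv7 D10558) (iv6 D4831) (iv7 F7145) D9214
theorem F31368 : act 1 n10497 = n19587 := d15_0 (iv0 D19587) D19590 F31365
theorem F31369 : act 1 n10495 = n19590 := d15_1 D10495 (iv7 D19590) F14394
theorem F31370 : act 1 n19590 = n10494 := d15_0 (iv0 D10494) D10497 (iv2 F31365)
def n19591 : Q := act 2 n9215
theorem D19591 : act 2 n9215 = n19591 := rfl
theorem F31371 : act 7 n9216 = n19591 := d15_2 (iv0 D9215) D9216 (iv2 D19591)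
def n19593 : Q := act 4 n9215
theorem D19593 : act 4 n9215 = n19593 := rfl
def n19594 : Q := act 6 n9215
theorem D19594 : act 6 n9215 = n19594 := rfl
def n19595 : Q := act 7 n9215
theorem D19595 : act 7 n9215 = n19595 := rfl
theorem F31372 : act 2 n19595 = n9216 := d4_1 D19595 F31371 (iv2 D19591)
def n19596 : Q := act 3 n9216
theorem D19596 : act 3 n9216 = n19596 := rfl
def n19597 : Q := act 4 n9216
theorem D19597 : act 4 n9216 = n19597 := rfl
def n19598 : Q := act 6 n9216
theorem D19598 : act 6 n9216 = n19598 := rfl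
def n19599 : Q := act 0 n9218
theorem D19599 : act 0 n9218 = n19599 := rfl
def n19600 : Q := act 1 n9218
theorem D19600 : act 1 n9218 = n19600 := rfl
def n19601 : Q := act 2 n9218
theorem D19601 : act 2 n9218 = n19601 := rfl
def n19602 : Q := act 4 n9218
theorem D19602 : act 4 n9218 = n19602 := rfl
theorem F31373 : act 3 n19602 = n10324 := d5_1 D19602 F16423 F14089 (iv4 F13399) D9218
theorem F31374 : act 0 n19602 = n10333 := d20_7 (iv4 D4057) F7181 (iv4 F6070) (iv3 D4174) D4172 D9218 D19602 (iv4 F30800) (iv3 D19170) (iv1 F14071)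
def n19603 : Q := act 5 n9218
theorem D19603 : act 5 n9218 = n19603 := rfl
theorem F31375 : act 3 n19603 = n9219 := d6_1 D19603 (iv5 D9219) D9218
theorem F31376 : act 7 n19603 = n10747 := d13_2 F29318 D19603 (iv5 F29317)
def n19604 : Q := act 6 n9218
theorem D19604 : act 6 n9218 = n19604 := rfl
theorem F31377 : act 3 n19604 = n9220 := d7_1 D19604 (iv6 D9220) D9218
def n19605 : Q := act 6 n9219
theorem D19605 : act 6 n9219 = n19605 := rfl
theorem F31378 : act 2 n19605 = n10750 := d3_1 D19605 (iv6 D10750) (iv2 F14403)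
def n19606 : Q := act 0 n9220
theorem D19606 : act 0 n9220 = n19606 := rfl
def n19607 : Q := act 1 n9220
theorem D19607 : act 1 n9220 = n19607 := rfl
def n19608 : Q := act 5 n9220
theorem D19608 : act 5 n9220 = n19608 := rfl
def n19609 : Q := act 7 n9220
theorem D19609 : act 7 n9220 = n19609 := rfl
def n19610 : Q := act 0 n9221
theorem D19610 : act 0 n9221 = n19610 := rfl
def n19611 : Q := act 1 n9221
theorem D19611 : act 1 n9221 = n19611 := rfl
def n19612 : Q := act 2 n9221
theorem D19612 : act 2 n9221 = n19612 := rfl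
theorem F31379 : act 4 n19612 = n19177 := d1_2 (iv4 F14407) D19612 (iv2 D19177)
theorem F31380 : act 5 n15375 = n19612 := d9_0 F31379 (iv5 F30814) (iv4 F25153) (iv5 D15656) (iv4 D7366) (iv5 F17284) F17283 (iv5 F29360) (iv4 F30601) (iv5 F30604) F27273 (iv5 D15668) (iv4 D7371) (iv5 F24947) D15375
def n19613 : Q := act 5 n9221
theorem D19613 : act 5 n9221 = n19613 := rfl
theorem F31381 : act 2 n19613 = n15375 := d2_1 D19613 F31380 (iv2 D19612)
theorem F31382 : act 3 n19613 = n9222 := d6_1 D19613 (iv5 D9222) D9221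
theorem F31383 : act 7 n19613 = n10749 := d13_2 F29361 D19613 (iv5 F29360)
theorem F31384 : act 4 n19613 = n12505 := d16_4 F30819 (iv5 D19178) (iv4 F14407) D19613 F27194 (iv4 F11782) D16184 F25712 (iv2 F25574)
def n19614 : Q := act 6 n9221
theorem D19614 : act 6 n9221 = n19614 := rfl
theorem F31385 : act 3 n19614 = n9223 := d7_1 D19614 (iv6 D9223) D9221
theorem F31386 : act 4 n19614 = n19179 := d10_1 D19614 (iv6 D19179) (iv4 F14407)
def n19615 : Q := act 6 n9222
theorem D19615 : act 6 n9222 = n19615 := rfl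
theorem F31387 : act 2 n19615 = n10748 := d3_1 D19615 (iv6 D10748) (iv2 F14408)
def n19616 : Q := act 0 n9223
theorem D19616 : act 0 n9223 = n19616 := rfl
def n19617 : Q := act 1 n9223
theorem D19617 : act 1 n9223 = n19617 := rfl
def n19618 : Q := act 5 n9223
theorem D19618 : act 5 n9223 = n19618 := rfl
def n19619 : Q := act 7 n9223
theorem D19619 : act 7 n9223 = n19619 := rfl
theorem F31388 : act 4 n19619 = n19156 := d11_1 D19619 (iv7 D19156) (iv4 F14412)
def n19620 : Q := act 3 n9224
theorem D19620 : act 3 n9224 = n19620 := rfl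
theorem F31389 : act 5 n19620 = n19350 := d6_2 F14417 D19620 (iv3 D19350)
theorem F31390 : act 7 n19620 = n19078 := d8_2 (iv7 F14416) D19620 (iv3 D19078)
def n19621 : Q := act 6 n9224
theorem D19621 : act 6 n9224 = n19621 := rfl
theorem F31391 : act 2 n19621 = n10447 := d3_1 D19621 (iv6 D10447) F14414
theorem F31392 : act 4 n19621 = n10440 := d10_1 D19621 (iv6 D10440) (iv4 F14413)
def n19622 : Q := act 6 n9225
theorem D19622 : act 6 n9225 = n19622 := rfl
theorem F31393 : act 2 n19622 = n9227 := d3_1 D19622 (iv6 D9227) D9225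
theorem F31394 : act 4 n19622 = n9254 := d10_1 D19622 (iv6 D9254) (iv4 F14418)
def n19623 : Q := act 4 n9226
theorem D19623 : act 4 n9226 = n19623 := rfl
theorem F31395 : act 2 n19623 = n17124 := d1_1 D19623 (iv4 F30977) (iv2 F30978)
theorem F31396 : act 5 n19623 = n17121 := d9_2 D9226 D19623 (iv4 D17121) (iv5 D8011) F5659 D3984 D8931 D19058 F30585 (iv5 D17682) (iv4 D8327) F5742 (iv4 D1798) (iv5 F3042) (iv4 F6070)
theorem F31397 : act 7 n19623 = n19080 := d11_2 (iv7 F14423) D19623 (iv4 D19080)
def n19624 : Q := act 6 n9226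
theorem D19624 : act 6 n9226 = n19624 := rfl
theorem F31398 : act 3 n19624 = n9229 := d7_1 D19624 (iv6 D9229) (iv3 F14422)
def n19625 : Q := act 0 n9227
theorem D19625 : act 0 n9227 = n19625 := rfl
def n19626 : Q := act 1 n9227
theorem D19626 : act 1 n9227 = n19626 := rfl
def n19627 : Q := act 5 n9227
theorem D19627 : act 5 n9227 = n19627 := rfl
theorem F31399 : act 3 n19627 = n9233 := d6_1 D19627 (iv5 D9233) (iv3 F14424)
def n19628 : Q := act 7 n9227
theorem D19628 : act 7 n9227 = n19628 := rfl
theorem F31400 : act 3 n19628 = n9234 := d8_1 D19628 (iv7 D9234) (iv3 F14424)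
theorem F31401 : act 4 n19628 = n9258 := d11_1 D19628 (iv7 D9258) (iv4 F14425)
theorem F31402 : act 6 n19628 = n19085 := d14_1 D19628 (iv7 D19085) (iv6 D8940) F6071 D9227
def n19629 : Q := act 3 n9228
theorem D19629 : act 3 n9228 = n19629 := rfl
def n19630 : Q := act 6 n9228
theorem D19630 : act 6 n9228 = n19630 := rfl
theorem F31403 : act 4 n19630 = n9229 := d10_1 D19630 (iv6 D9229) D9228
def n19631 : Q := act 0 n9229
theorem D19631 : act 0 n9229 = n19631 := rfl
def n19632 : Q := act 1 n9229
theorem D19632 : act 1 n9229 = n19632 := rfl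
def n19633 : Q := act 5 n9229
theorem D19633 : act 5 n9229 = n19633 := rfl
theorem F31404 : act 6 n19633 = n9233 := d12_2 D9229 D19633 (iv5 D9233) (iv6 D4176) D4175
def n19634 : Q := act 7 n9229
theorem D19634 : act 7 n9229 = n19634 := rfl
def n19635 : Q := act 6 n9230
theorem D19635 : act 6 n9230 = n19635 := rfl
theorem F31405 : act 3 n19635 = n19081 := d7_1 D19635 (iv6 D19081) (iv3 F14428)
def n19636 : Q := act 2 n9231
theorem D19636 : act 2 n9231 = n19636 := rfl
theorem F31406 : act 7 n9232 = n19636 := d15_2 (iv0 D9231) D9232 (iv2 D19636)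
def n19637 : Q := act 3 n9231
theorem D19637 : act 3 n9231 = n19637 := rfl
def n19638 : Q := act 4 n9231
theorem D19638 : act 4 n9231 = n19638 := rfl
def n19639 : Q := act 5 n9231
theorem D19639 : act 5 n9231 = n19639 := rfl
def n19640 : Q := act 6 n9231
theorem D19640 : act 6 n9231 = n19640 := rfl
def n19641 : Q := act 7 n9231
theorem D19641 : act 7 n9231 = n19641 := rfl
theorem F31407 : act 2 n19641 = n9232 := d4_1 D19641 F31406 (iv2 D19636)
def n19642 : Q := act 3 n9232
theorem D19642 : act 3 n9232 = n19642 := rfl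
def n19643 : Q := act 4 n9232
theorem D19643 : act 4 n9232 = n19643 := rfl
theorem F31408 : act 3 n19061 = n19643 := d20_5 D4195 F16064 F6100 (iv3 F13924) (iv1 F30590) (iv4 D19643) (iv1 D9232) F6072 F3036 D1790
def n19644 : Q := act 5 n9232
theorem D19644 : act 5 n9232 = n19644 := rfl
def n19645 : Q := act 6 n9232
theorem D19645 : act 6 n9232 = n19645 := rfl
def n19646 : Q := act 0 n9233
theorem D19646 : act 0 n9233 = n19646 := rfl
def n19647 : Q := act 1 n9233
theorem D19647 : act 1 n9233 = n19647 := rfl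
def n19648 : Q := act 4 n9233
theorem D19648 : act 4 n9233 = n19648 := rfl
def n19649 : Q := act 7 n9233
theorem D19649 : act 7 n9233 = n19649 := rfl
theorem F31409 : act 5 n19649 = n9234 := d13_1 D19649 (iv7 D9234) D9233
def n19650 : Q := act 6 n9234
theorem D19650 : act 6 n9234 = n19650 := rfl
theorem F31410 : act 3 n19650 = n19085 := d7_1 D19650 (iv6 F31402) F31400
theorem F31411 : act 4 n19650 = n9246 := d10_1 D19650 (iv6 D9246) (iv4 F14430)
theorem F31412 : act 7 n19650 = n9235 := d14_2 D9234 D19650 (iv6 D9235) (iv7 D4177) D4176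
def n19651 : Q := act 0 n9235
theorem D19651 : act 0 n9235 = n19651 := rfl
def n19652 : Q := act 1 n9235
theorem D19652 : act 1 n9235 = n19652 := rfl
def n19653 : Q := act 5 n9235
theorem D19653 : act 5 n9235 = n19653 := rfl
theorem F31413 : act 3 n19653 = n19084 := d6_1 D19653 (iv5 D19084) (iv3 F14431)
def n19655 : Q := act 1 n9236
theorem D19655 : act 1 n9236 = n19655 := rfl
theorem F31415 : act 1 n19655 = n9241 := d15_1 D19655 (iv7 D9241) D9236
def n19656 : Q := act 3 n9236
theorem D19656 : act 3 n9236 = n19656 := rfl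
theorem F31416 : act 7 n19656 = n9242 := d8_2 F14433 D19656 (iv3 D9242)
def n19657 : Q := act 4 n9236
theorem D19657 : act 4 n9236 = n19657 := rfl
theorem F31417 : act 2 n19657 = n9238 := d1_1 D19657 (iv4 D9238) D9236
theorem F31418 : act 7 n19657 = n9243 := d11_2 F14433 D19657 (iv4 D9243)
def n19658 : Q := act 5 n9236
theorem D19658 : act 5 n9236 = n19658 := rfl
theorem F31419 : act 2 n19658 = n9239 := d2_1 D19658 (iv5 D9239) D9236
theorem F31420 : act 7 n19658 = n9244 := d13_2 F14433 D19658 (iv5 D9244)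
def n19659 : Q := act 6 n9236
theorem D19659 : act 6 n9236 = n19659 := rfl
theorem F31421 : act 2 n19659 = n9240 := d3_1 D19659 (iv6 D9240) D9236
def n19660 : Q := act 0 n9237
theorem D19660 : act 0 n9237 = n19660 := rfl
def n19661 : Q := act 1 n9237
theorem D19661 : act 1 n9237 = n19661 := rfl
def n19662 : Q := act 2 n9237
theorem D19662 : act 2 n9237 = n19662 := rfl
def n19663 : Q := act 4 n9237
theorem D19663 : act 4 n9237 = n19663 := rfl
theorem F31422 : act 0 n19663 = n19085 := d20_7 (iv4 F15266) (iv1 D4190) F3045 (iv3 F3036) D4178 D9237 D19663 F30639 F13924 (iv1 F5936)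
theorem F31423 : act 5 n19661 = n10783 := d18_9 (iv1 D10783) D10785 F17306 F14160 (iv5 F13925) (iv4 F30639) (iv0 F31422) (iv4 D19663) D19661
theorem F31424 : act 0 n19059 = n19663 := d20_1 (iv4 F30589) (iv4 D19663) (iv3 D9237) (iv1 F14347) F14343 (iv4 F31265) (iv1 F31267) D19643 (iv3 F31408) (iv1 D19061)
def n19664 : Q := act 5 n9237
theorem D19664 : act 5 n9237 = n19664 := rfl
theorem F31425 : act 3 n19664 = n9239 := d6_1 D19664 (iv5 D9239) D9237
def n19665 : Q := act 6 n9237
theorem D19665 : act 6 n9237 = n19665 := rfl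
theorem F31426 : act 3 n19665 = n9240 := d7_1 D19665 (iv6 D9240) D9237
def n19666 : Q := act 7 n9237
theorem D19666 : act 7 n9237 = n19666 := rfl
theorem F31427 : act 3 n19666 = n9241 := d8_1 D19666 (iv7 D9241) D9237
def n19667 : Q := act 0 n9238
theorem D19667 : act 0 n9238 = n19667 := rfl
def n19668 : Q := act 1 n9238
theorem D19668 : act 1 n9238 = n19668 := rfl
theorem F31428 : act 1 n19668 = n9243 := d15_1 D19668 (iv7 F31418) F31417
def n19669 : Q := act 3 n9238
theorem D19669 : act 3 n9238 = n19669 := rfl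
def n19670 : Q := act 5 n9238
theorem D19670 : act 5 n9238 = n19670 := rfl
def n19671 : Q := act 6 n9238
theorem D19671 : act 6 n9238 = n19671 := rfl
theorem F31429 : act 4 n19671 = n9240 := d10_1 D19671 (iv6 D9240) D9238
def n19672 : Q := act 7 n9238
theorem D19672 : act 7 n9238 = n19672 := rfl
theorem F31430 : act 2 n19672 = n9243 := d4_1 D19672 (iv7 F31418) F31417
theorem F31431 : act 4 n19672 = n9241 := d11_1 D19672 (iv7 D9241) D9238
theorem F31432 : act 1 n9243 = n19667 := d15_0 (iv0 D19667) D19672 F31430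
def n19673 : Q := act 0 n9239
theorem D19673 : act 0 n9239 = n19673 := rfl
theorem F31433 : act 5 n19673 = n10705 := d21_2 D9239 D19673 (iv6 D10705) (iv1 D4896) (iv6 D2021) (iv5 F7108) (iv1 D936) D938 D1785 D4178
def n19674 : Q := act 1 n9239
theorem D19674 : act 1 n9239 = n19674 := rfl
theorem F31434 : act 1 n19674 = n9244 := d15_1 D19674 (iv7 F31420) F31419
def n19675 : Q := act 4 n9239
theorem D19675 : act 4 n9239 = n19675 := rfl
def n19676 : Q := act 6 n9239
theorem D19676 : act 6 n9239 = n19676 := rfl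
theorem F31435 : act 0 n19676 = n10502 := d21_4 (iv5 F3037) D4178 D9239 D19676 (iv6 D10502) D10501 F17339 (iv5 D10816) (iv6 D4932) (iv1 D2029)
def n19677 : Q := act 7 n9239
theorem D19677 : act 7 n9239 = n19677 := rfl
theorem F31436 : act 2 n19677 = n9244 := d4_1 D19677 (iv7 F31420) F31419
theorem F31437 : act 5 n19677 = n9241 := d13_1 D19677 (iv7 D9241) D9239
theorem F31438 : act 1 n9244 = n19673 := d15_0 (iv0 D19673) D19677 F31436
def n19678 : Q := act 0 n9240
theorem D19678 : act 0 n9240 = n19678 := rfl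
def n19679 : Q := act 1 n9240
theorem D19679 : act 1 n9240 = n19679 := rfl
def n19680 : Q := act 5 n9240
theorem D19680 : act 5 n9240 = n19680 := rfl
theorem F31439 : act 0 n19680 = n10431 := d21_7 (iv5 F7108) (iv1 D936) D938 D1785 D4178 D9240 D19680 (iv5 D10431) (iv6 D4724) (iv1 F3268)
theorem F31440 : act 0 n10817 = n19680 := d21_7 F14344 (iv1 F7037) D4931 (iv6 F7350) (iv1 F7036) D4933 D10817 (iv5 D19680) (iv6 D9240) (iv1 F14347)
def n19681 : Q := act 7 n9240
theorem D19681 : act 7 n9240 = n19681 := rfl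
def n19682 : Q := act 6 n9241
theorem D19682 : act 6 n9241 = n19682 := rfl
theorem F31441 : act 2 n19682 = n9245 := d3_1 D19682 (iv6 D9245) (iv2 F14434)
def n19683 : Q := act 0 n9242
theorem D19683 : act 0 n9242 = n19683 := rfl
def n19684 : Q := act 1 n9242
theorem D19684 : act 1 n9242 = n19684 := rfl
def n19685 : Q := act 2 n9242
theorem D19685 : act 2 n9242 = n19685 := rfl
def n19686 : Q := act 4 n9242
theorem D19686 : act 4 n9242 = n19686 := rfl
def n19687 : Q := act 5 n9242
theorem D19687 : act 5 n9242 = n19687 := rfl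
theorem F31442 : act 3 n19687 = n9244 := d6_1 D19687 (iv5 D9244) D9242
def n19688 : Q := act 6 n9242
theorem D19688 : act 6 n9242 = n19688 := rfl
theorem F31443 : act 3 n19688 = n9245 := d7_1 D19688 (iv6 D9245) D9242
def n19689 : Q := act 3 n9243
theorem D19689 : act 3 n9243 = n19689 := rfl
def n19690 : Q := act 5 n9243
theorem D19690 : act 5 n9243 = n19690 := rfl
def n19691 : Q := act 6 n9243
theorem D19691 : act 6 n9243 = n19691 := rfl
theorem F31444 : act 4 n19691 = n9245 := d10_1 D19691 (iv6 D9245) D9243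
def n19692 : Q := act 4 n9244
theorem D19692 : act 4 n9244 = n19692 := rfl
def n19693 : Q := act 0 n9245
theorem D19693 : act 0 n9245 = n19693 := rfl
def n19694 : Q := act 1 n9245
theorem D19694 : act 1 n9245 = n19694 := rfl
def n19695 : Q := act 5 n9245
theorem D19695 : act 5 n9245 = n19695 := rfl
theorem F31445 : act 0 n10667 = n19695 := d21_1 D10667 (iv5 D19695) (iv6 D9245) (iv1 D4179) (iv6 D1785) (iv5 D938) D935 F7097 D2016 D4885
def n19696 : Q := act 7 n9245
theorem D19696 : act 7 n9245 = n19696 := rfl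
def n19697 : Q := act 5 n9246
theorem D19697 : act 5 n9246 = n19697 := rfl
theorem F31446 : act 3 n19697 = n9314 := d6_1 D19697 (iv5 D9314) (iv3 F14435)
theorem F31447 : act 6 n19697 = n10817 := d12_2 D9246 D19697 (iv5 D10817) (iv6 D4933) (iv5 F6076)
theorem F31448 : act 7 n19697 = n9249 := d13_2 (iv7 F14436) D19697 (iv5 D9249)
def n19698 : Q := act 2 n9247
theorem D19698 : act 2 n9247 = n19698 := rfl
theorem F31449 : act 7 n9248 = n19698 := d15_2 (iv0 D9247) D9248 (iv2 D19698)
def n19699 : Q := act 3 n9247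
theorem D19699 : act 3 n9247 = n19699 := rfl
def n19700 : Q := act 4 n9247
theorem D19700 : act 4 n9247 = n19700 := rfl
def n19701 : Q := act 5 n9247
theorem D19701 : act 5 n9247 = n19701 := rfl
def n19702 : Q := act 7 n9247
theorem D19702 : act 7 n9247 = n19702 := rfl
theorem F31450 : act 2 n19702 = n9248 := d4_1 D19702 F31449 (iv2 D19698)
def n19703 : Q := act 3 n9248
theorem D19703 : act 3 n9248 = n19703 := rfl
def n19704 : Q := act 4 n9248
theorem D19704 : act 4 n9248 = n19704 := rfl
def n19705 : Q := act 5 n9248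
theorem D19705 : act 5 n9248 = n19705 := rfl
def n19706 : Q := act 6 n9248
theorem D19706 : act 6 n9248 = n19706 := rfl
def n19707 : Q := act 0 n9249
theorem D19707 : act 0 n9249 = n19707 := rfl
def n19708 : Q := act 1 n9249
theorem D19708 : act 1 n9249 = n19708 := rfl
def n19709 : Q := act 4 n9249
theorem D19709 : act 4 n9249 = n19709 := rfl
theorem F31451 : act 6 n19709 = n9253 := d10_2 (iv6 F14438) D19709 (iv4 D9253)
def n19710 : Q := act 5 n9250
theorem D19710 : act 5 n9250 = n19710 := rfl
theorem F31452 : act 3 n19710 = n9252 := d6_1 D19710 (iv5 D9252) D9250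
theorem F31453 : act 7 n19710 = n10831 := d13_2 (iv7 F14440) D19710 (iv5 D10831)
theorem F31454 : act 1 n19710 = n19482 := d17_6 (iv1 F14931) D17338 (iv1 F30321) (iv5 D18989) (iv4 F14441) D19710 (iv5 D19482) F31163 F31161
theorem F31455 : act 0 n19710 = n19141 := d21_1 D19710 F30759 F17584 F17395 (iv6 D10241) (iv5 F14349) (iv1 F14352) (iv5 F6913) D9347 F14562
def n19711 : Q := act 5 n9251
theorem D19711 : act 5 n9251 = n19711 := rfl
theorem F31456 : act 2 n19711 = n10837 := d2_1 D19711 (iv5 D10837) (iv2 F14442)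
theorem F31457 : act 7 n19711 = n10833 := d13_2 (iv7 F14444) D19711 (iv5 D10833)
theorem F31458 : act 0 n19711 = n19498 := d17_2 (iv1 F14446) D19711 (iv5 D19498) F17568 F16856 (iv0 F29650) (iv5 D18466) (iv0 F15128) F15126
theorem F31459 : act 1 n19711 = n19499 := d17_6 (iv1 D4341) D4343 (iv1 F17506) (iv5 D9252) D9251 D19711 (iv5 D19499) F17589 (iv4 D9646)
def n19712 : Q := act 4 n9252
theorem D19712 : act 4 n9252 = n19712 := rfl
theorem F31460 : act 2 n19712 = n10838 := d1_1 D19712 (iv4 D10838) (iv2 F14447)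
theorem F31461 : act 7 n19712 = n10835 := d11_2 (iv7 F14448) D19712 (iv4 D10835)
theorem F31462 : act 0 n19712 = n19518 := d18_2 (iv1 F17506) D19712 F31252 (iv5 F16856) (iv4 F17568) (iv0 D9168) F6044 F17458 D4343
theorem F31463 : act 1 n19712 = n19517 := d15_0 (iv0 D19517) (iv7 F17631) (iv2 F31460)
def n19713 : Q := act 6 n9252
theorem D19713 : act 6 n9252 = n19713 := rfl
theorem F31464 : act 2 n19713 = n10839 := d3_1 D19713 (iv6 D10839) (iv2 F14447)
theorem F31465 : act 5 n19713 = n19508 := d12_1 D19713 (iv6 D19508) F14323 F7223 D9252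
def n19714 : Q := act 0 n9253
theorem D19714 : act 0 n9253 = n19714 := rfl
theorem F31466 : act 1 n10433 = n19714 := d15_0 (iv0 D19714) F14451 (iv2 F16611)
def n19715 : Q := act 1 n9253
theorem D19715 : act 1 n9253 = n19715 := rfl
theorem F31467 : act 1 n19715 = n10433 := d15_1 D19715 (iv7 F31140) F31139
theorem F31468 : act 4 n19715 = n19046 := d18_7 F16786 F12358 F7216 F5579 D4184 D9253 D19715 F30554 (iv5 D18142)
theorem F31469 : act 2 n10843 = n19715 := d1_3 F31468 F30552 F27434
theorem F31470 : act 7 n19714 = n10843 := d15_2 F31467 F31466 F31469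
theorem F31471 : act 7 n10844 = n19715 := d15_2 (iv0 D10843) D10844 (iv2 F31469)
theorem F31472 : act 2 n19714 = n10844 := d4_3 F31471 (iv2 F31469) (iv7 F31470)
def n19716 : Q := act 3 n9253
theorem D19716 : act 3 n9253 = n19716 := rfl
theorem F31473 : act 4 n19716 = n9327 := d5_2 D9253 D19716 (iv3 D9327) (iv4 D4207) (iv3 F6080)
theorem F31474 : act 7 n19716 = n10845 := d8_2 (iv7 F14451) D19716 (iv3 D10845)
def n19717 : Q := act 5 n9253
theorem D19717 : act 5 n9253 = n19717 := rfl
theorem F31475 : act 7 n19717 = n10846 := d13_2 (iv7 F14451) D19717 (iv5 D10846)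
def n19718 : Q := act 0 n9254
theorem D19718 : act 0 n9254 = n19718 := rfl
theorem F31476 : act 6 n19718 = n19094 := d21_5 F7008 (iv1 F3058) (iv5 F6084) D9254 D19718 (iv5 D19094) (iv1 D8942) F5932 (iv6 D1762) D1759
theorem F31477 : act 0 n19718 = n9258 := d21_4 (iv5 F30593) (iv1 F30595) D19094 (iv6 F31476) F14457 F13925 (iv1 F14133) (iv5 F14162) (iv6 D9098) (iv1 F14138)
def n19719 : Q := act 1 n9254
theorem D19719 : act 1 n9254 = n19719 := rfl
theorem F31478 : act 1 n19719 = n9258 := d15_1 D19719 (iv7 D9258) (iv2 F14452)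
def n19720 : Q := act 5 n9254
theorem D19720 : act 5 n9254 = n19720 := rfl
theorem F31479 : act 2 n19720 = n9257 := d2_1 D19720 (iv5 D9257) (iv2 F14452)
theorem F31481 : act 6 n19720 = n9333 := d12_2 D9254 D19720 (iv5 D9333) (iv6 D4218) (iv5 F6084)
def n19721 : Q := act 7 n9254
theorem D19721 : act 7 n9254 = n19721 := rfl
theorem F31482 : act 2 n19721 = n9258 := d4_1 D19721 (iv7 D9258) (iv2 F14452)
theorem F31483 : act 3 n19721 = n19721 := d8_1 D19721 (iv7 D19721) F14453
theorem F31484 : act 6 n19721 = n19062 := d14_1 D19721 (iv7 D19062) (iv6 D8932) (iv7 F6085) D9254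
theorem F31485 : act 1 n9256 = n19721 := d15_1 D9256 (iv7 D19721) F14452
theorem F31486 : act 1 n19721 = n9255 := d15_0 (iv0 D9255) D9258 (iv2 F31482)
def n19722 : Q := act 2 n9255
theorem D19722 : act 2 n9255 = n19722 := rfl
theorem F31487 : act 7 n9256 = n19722 := d15_2 (iv0 D9255) D9256 (iv2 D19722)
def n19723 : Q := act 3 n9255
theorem D19723 : act 3 n9255 = n19723 := rfl
def n19724 : Q := act 4 n9255
theorem D19724 : act 4 n9255 = n19724 := rfl
def n19725 : Q := act 5 n9255
theorem D19725 : act 5 n9255 = n19725 := rfl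
def n19726 : Q := act 6 n9255
theorem D19726 : act 6 n9255 = n19726 := rfl
theorem F31488 : act 5 n19726 = n19061 := d21_6 F7326 (iv1 D1796) (iv5 F3042) D4188 D9255 D19726 (iv1 D19061) F13911 (iv6 D4072) (iv1 F3354)
def n19727 : Q := act 7 n9255
theorem D19727 : act 7 n9255 = n19727 := rfl
theorem F31489 : act 2 n19727 = n9256 := d4_1 D19727 F31487 (iv2 D19722)
def n19728 : Q := act 3 n9256
theorem D19728 : act 3 n9256 = n19728 := rfl
def n19729 : Q := act 4 n9256
theorem D19729 : act 4 n9256 = n19729 := rfl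
def n19730 : Q := act 5 n9256
theorem D19730 : act 5 n9256 = n19730 := rfl
def n19731 : Q := act 6 n9256
theorem D19731 : act 6 n9256 = n19731 := rfl
def n19732 : Q := act 0 n9257
theorem D19732 : act 0 n9257 = n19732 := rfl
def n19733 : Q := act 1 n9257
theorem D19733 : act 1 n9257 = n19733 := rfl
def n19734 : Q := act 4 n9257
theorem D19734 : act 4 n9257 = n19734 := rfl
theorem F31490 : act 6 n19734 = n9337 := d10_2 (iv6 F14455) D19734 (iv4 D9337)
def n19735 : Q := act 7 n9257
theorem D19735 : act 7 n9257 = n19735 := rfl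
theorem F31491 : act 3 n19735 = n9271 := d8_1 D19735 (iv7 D9271) (iv3 F14454)
theorem F31492 : act 5 n19735 = n9258 := d13_1 D19735 (iv7 D9258) D9257
theorem F31493 : act 6 n19735 = n10990 := d14_1 D19735 (iv7 D10990) F7425 (iv7 F6127) (iv6 F14455)
def n19736 : Q := act 0 n9260
theorem D19736 : act 0 n9260 = n19736 := rfl
def n19737 : Q := act 1 n9260
theorem D19737 : act 1 n9260 = n19737 := rfl
def n19738 : Q := act 2 n9260
theorem D19738 : act 2 n9260 = n19738 := rfl
def n19739 : Q := act 4 n9260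
theorem D19739 : act 4 n9260 = n19739 := rfl
theorem F31495 : act 3 n19739 = n19104 := d5_1 D19739 (iv4 D19104) (iv3 D8945) F15292 D9260
def n19740 : Q := act 5 n9260
theorem D19740 : act 5 n9260 = n19740 := rfl
theorem F31496 : act 3 n19740 = n9262 := d6_1 D19740 (iv5 D9262) D9260
def n19741 : Q := act 4 n9262
theorem D19741 : act 4 n9262 = n19741 := rfl
theorem F31498 : act 5 n19741 = n11013 := d16_1 D19741 (iv4 D11013) (iv5 F13927) (iv4 F15293) (iv5 D8952) (iv4 F15266) D9266 (iv7 F30682) F30683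
def n19742 : Q := act 0 n9264
theorem D19742 : act 0 n9264 = n19742 := rfl
theorem F31499 : act 1 n19738 = n19742 := d15_0 (iv0 D19742) F30689 D19738
def n19743 : Q := act 1 n9264
theorem D19743 : act 1 n9264 = n19743 := rfl
def n19744 : Q := act 2 n9264
theorem D19744 : act 2 n9264 = n19744 := rfl
theorem F31500 : act 3 n19744 = n19744 := d0_2 D9264 D19744 (iv2 D19744) (iv3 D9264) F30658
theorem F31501 : act 7 n19744 = n19738 := d4_2 (iv7 F30689) D19744 (iv2 D19738)
theorem F31502 : act 1 n19744 = n19736 := d15_0 (iv0 D19736) (iv7 F30689) D19744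
theorem F31503 : act 1 n19743 = n19738 := d15_1 D19743 (iv7 F31501) (iv2 D19744)
def n19745 : Q := act 4 n9264
theorem D19745 : act 4 n9264 = n19745 := rfl
theorem F31505 : act 3 n19745 = n19110 := d5_1 D19745 (iv4 D19110) (iv3 D8950) (iv4 F15266) D9264
theorem F31506 : act 7 n19745 = n19739 := d11_2 (iv7 F30689) D19745 (iv4 D19739)
def n19746 : Q := act 5 n9264
theorem D19746 : act 5 n9264 = n19746 := rfl
theorem F31507 : act 3 n19746 = n9266 := d6_1 D19746 (iv5 D9266) D9264
theorem F31508 : act 7 n19746 = n19740 := d13_2 (iv7 F30689) D19746 (iv5 D19740)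
def n19747 : Q := act 6 n9264
theorem D19747 : act 6 n9264 = n19747 := rfl
theorem F31509 : act 3 n19747 = n9267 := d7_1 D19747 (iv6 D9267) D9264
def n19748 : Q := act 4 n9266
theorem D19748 : act 4 n9266 = n19748 := rfl
theorem F31511 : act 5 n19748 = n11009 := d9_2 D9266 D19748 (iv4 D11009) (iv5 F15560) F15561 (iv5 D8947) F15292 D9262 D19741 F31498 (iv4 D11013) (iv5 F13927) (iv4 F15293) (iv5 D8952) (iv4 F15266)
def n19749 : Q := act 3 n9268
theorem D19749 : act 3 n9268 = n19749 := rfl
theorem F31513 : act 5 n19749 = n19446 := d6_2 F15271 D19749 (iv3 D19446)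
def n19750 : Q := act 4 n9268
theorem D19750 : act 4 n9268 = n19750 := rfl
theorem F31515 : act 5 n19750 = n11006 := d16_1 D19750 (iv4 D11006) (iv5 D5013) (iv4 F15282) (iv5 F6010) (iv4 F15278) F14460 (iv7 F15289) F15291
theorem F31516 : act 0 n19750 = n11083 := d17_0 (iv5 D11083) (iv1 F17872) (iv5 F31511) (iv4 D19748) (iv5 D9266) F6096 (iv5 F14464) F14466 D19750
theorem F31517 : act 1 n19750 = n9326 := d18_6 F16093 F14811 F15300 D9133 F15271 D19750 (iv4 D9326) D9325 (iv5 F16095)
def n19751 : Q := act 6 n9268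
theorem D19751 : act 6 n9268 = n19751 := rfl
theorem F31519 : act 5 n19751 = n10057 := d12_1 D19751 (iv6 F15895) F15832 (iv6 F15305) F15271
theorem F31520 : act 0 n19751 = n9553 := d21_4 (iv5 D9544) (iv1 F15270) F15271 D19751 (iv6 D9553) (iv5 F6616) (iv1 F15398) (iv5 F14781) (iv6 F14782) (iv1 F14825)
def n19752 : Q := act 3 n9269
theorem D19752 : act 3 n9269 = n19752 := rfl
theorem F31522 : act 5 n19752 = n10996 := d6_2 F14460 D19752 F17849
theorem F31523 : act 7 n19752 = n19749 := d8_2 F15289 D19752 (iv3 D19749)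
def n19753 : Q := act 4 n9269
theorem D19753 : act 4 n9269 = n19753 := rfl
theorem F31525 : act 5 n19753 = n10998 := d9_2 F14460 D19753 (iv4 D10998) (iv5 D5008) (iv4 F15274) D4096 D9133 F15271 D19750 F31515 (iv4 D11006) (iv5 D5013) (iv4 F15282) (iv5 F6010) (iv4 F15278)
theorem F31527 : act 0 n19753 = n9326 := d17_0 (iv5 F17950) F17951 (iv5 F31498) (iv4 D19741) (iv5 D9262) (iv0 D4189) D4191 D9269 D19753
theorem F31528 : act 1 n19753 = n11083 := d18_6 (iv1 F16101) F16021 (iv1 F14198) (iv4 F15278) F14460 D19753 F17959 F14508 (iv5 F16099)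
def n19754 : Q := act 6 n9269
theorem D19754 : act 6 n9269 = n19754 := rfl
theorem F31530 : act 5 n19754 = n10999 := d12_1 D19754 (iv6 D10999) (iv5 D5008) D5009 F14460
def n19755 : Q := act 0 n9270
theorem D19755 : act 0 n9270 = n19755 := rfl
theorem F31531 : act 5 n19755 = n11077 := d17_3 (iv1 F17889) F17887 D19755 (iv4 D11077) (iv5 D5048) (iv0 F16089) D5050 F7499 (iv4 F17876)
theorem F31532 : act 4 n19755 = n9324 := d18_1 D19755 (iv1 F14508) (iv4 F17959) (iv5 D11083) (iv4 D5063) D5062 (iv4 F17879) F17890 F17887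
theorem F31533 : act 1 n11017 = n19755 := d15_0 (iv0 D19755) (iv7 F17884) F17882
def n19756 : Q := act 1 n9270
theorem D19756 : act 1 n9270 = n19756 := rfl
theorem F31535 : act 1 n19756 = n11017 := d15_1 D19756 F17884 F14461
theorem F31537 : act 4 n19756 = n9325 := d18_7 F16061 (iv4 D4200) (iv1 D1791) (iv4 F3045) D4191 D9270 D19756 F14509 (iv5 D9314)
def n19757 : Q := act 3 n9270
theorem D19757 : act 3 n9270 = n19757 := rfl
theorem F31540 : act 6 n19757 = n9338 := d7_2 (iv6 F14462) D19757 (iv3 D9338)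
def n19758 : Q := act 2 n9278
theorem D19758 : act 2 n9278 = n19758 := rfl
theorem F31541 : act 7 n9279 = n19758 := d15_2 (iv0 D9278) D9279 (iv2 D19758)
def n19759 : Q := act 3 n9278
theorem D19759 : act 3 n9278 = n19759 := rfl
def n19760 : Q := act 4 n9278
theorem D19760 : act 4 n9278 = n19760 := rfl
def n19761 : Q := act 5 n9278
theorem D19761 : act 5 n9278 = n19761 := rfl
def n19762 : Q := act 6 n9278
theorem D19762 : act 6 n9278 = n19762 := rfl
def n19763 : Q := act 7 n9278
theorem D19763 : act 7 n9278 = n19763 := rfl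
def n19764 : Q := act 3 n9279
theorem D19764 : act 3 n9279 = n19764 := rfl
def n19765 : Q := act 4 n9279
theorem D19765 : act 4 n9279 = n19765 := rfl
def n19766 : Q := act 5 n9279
theorem D19766 : act 5 n9279 = n19766 := rfl
def n19768 : Q := act 4 n9280
theorem D19768 : act 4 n9280 = n19768 := rfl
theorem F31543 : act 2 n19768 = n9281 := d1_1 D19768 (iv4 D9281) D9280
def n19769 : Q := act 5 n9280
theorem D19769 : act 5 n9280 = n19769 := rfl
theorem F31544 : act 2 n19769 = n9282 := d2_1 D19769 (iv5 D9282) D9280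
theorem F31545 : act 3 n19769 = n19769 := d6_1 D19769 (iv5 D19769) F16117
def n19770 : Q := act 6 n9280
theorem D19770 : act 6 n9280 = n19770 := rfl
theorem F31546 : act 2 n19770 = n9283 := d3_1 D19770 (iv6 D9283) D9280
theorem F31547 : act 3 n19770 = n19770 := d7_1 D19770 (iv6 D19770) F16117
def n19771 : Q := act 0 n9281
theorem D19771 : act 0 n9281 = n19771 := rfl
def n19772 : Q := act 1 n9281
theorem D19772 : act 1 n9281 = n19772 := rfl
def n19773 : Q := act 3 n9281
theorem D19773 : act 3 n9281 = n19773 := rfl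
theorem F31548 : act 4 n19773 = n9287 := d5_2 D9281 D19773 (iv3 D9287) (iv4 D4195) D4194
def n19774 : Q := act 5 n9281
theorem D19774 : act 5 n9281 = n19774 := rfl
def n19775 : Q := act 6 n9281
theorem D19775 : act 6 n9281 = n19775 := rfl
theorem F31549 : act 4 n19775 = n9283 := d10_1 D19775 (iv6 D9283) D9281
def n19776 : Q := act 0 n9282
theorem D19776 : act 0 n9282 = n19776 := rfl
def n19777 : Q := act 1 n9282
theorem D19777 : act 1 n9282 = n19777 := rfl
def n19778 : Q := act 4 n9282
theorem D19778 : act 4 n9282 = n19778 := rfl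
def n19779 : Q := act 6 n9282
theorem D19779 : act 6 n9282 = n19779 := rfl
theorem F31550 : act 3 n19779 = n9294 := d7_1 D19779 (iv6 D9294) (iv3 F14476)
def n19780 : Q := act 0 n9283
theorem D19780 : act 0 n9283 = n19780 := rfl
def n19781 : Q := act 1 n9283
theorem D19781 : act 1 n9283 = n19781 := rfl
def n19782 : Q := act 7 n9283
theorem D19782 : act 7 n9283 = n19782 := rfl
theorem F31551 : act 3 n19782 = n9293 := d8_1 D19782 F15425 (iv3 F14477)
theorem F31552 : act 5 n19782 = n11079 := d13_1 D19782 (iv7 F17956) F17955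
def n19783 : Q := act 0 n9287
theorem D19783 : act 0 n9287 = n19783 := rfl
def n19785 : Q := act 2 n9287
theorem D19785 : act 2 n9287 = n19785 := rfl
theorem F31553 : act 3 n19785 = n19785 := d0_2 D9287 D19785 (iv2 D19785) (iv3 D9287) F16066
def n19786 : Q := act 5 n9287
theorem D19786 : act 5 n9287 = n19786 := rfl
theorem F31554 : act 3 n19786 = n9288 := d6_1 D19786 (iv5 D9288) D9287
def n19787 : Q := act 4 n9288
theorem D19787 : act 4 n9288 = n19787 := rfl
theorem F31556 : act 5 n19787 = n11015 := d16_1 D19787 F17879 (iv5 F7501) F16071 (iv5 D4201) D4200 D9307 (iv7 F16078) F16076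
def n19788 : Q := act 3 n9291
theorem D19788 : act 3 n9291 = n19788 := rfl
theorem F31557 : act 5 n19788 = n10948 := d6_2 (iv5 F14484) D19788 F17779
theorem F31558 : act 7 n19788 = n10417 := d8_2 F14831 D19788 F16575
def n19789 : Q := act 3 n9297
theorem D19789 : act 3 n9297 = n19789 := rfl
theorem F31559 : act 7 n19789 = n10204 := d8_2 (iv7 F15356) D19789 F16042
def n19790 : Q := act 2 n9300
theorem D19790 : act 2 n9300 = n19790 := rfl
theorem F31560 : act 7 n9301 = n19790 := d15_2 (iv0 D9300) D9301 (iv2 D19790)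
def n19791 : Q := act 3 n9300
theorem D19791 : act 3 n9300 = n19791 := rfl
def n19792 : Q := act 4 n9300
theorem D19792 : act 4 n9300 = n19792 := rfl
def n19793 : Q := act 5 n9300
theorem D19793 : act 5 n9300 = n19793 := rfl
def n19795 : Q := act 7 n9300
theorem D19795 : act 7 n9300 = n19795 := rfl
def n19796 : Q := act 3 n9301
theorem D19796 : act 3 n9301 = n19796 := rfl
def n19797 : Q := act 4 n9301
theorem D19797 : act 4 n9301 = n19797 := rfl
def n19798 : Q := act 5 n9301
theorem D19798 : act 5 n9301 = n19798 := rfl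
def n19799 : Q := act 6 n9301
theorem D19799 : act 6 n9301 = n19799 := rfl
def n19800 : Q := act 4 n9302
theorem D19800 : act 4 n9302 = n19800 := rfl
theorem F31562 : act 2 n19800 = n9303 := d1_1 D19800 (iv4 D9303) D9302
theorem F31563 : act 7 n19800 = n19768 := d11_2 (iv7 F16108) D19800 (iv4 D19768)
theorem F31565 : act 1 n19800 = n19771 := d15_0 (iv0 D19771) (iv7 F16109) (iv2 F31562)
def n19801 : Q := act 5 n9302
theorem D19801 : act 5 n9302 = n19801 := rfl
theorem F31566 : act 2 n19801 = n9304 := d2_1 D19801 (iv5 D9304) D9302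
theorem F31567 : act 3 n19801 = n19801 := d6_1 D19801 (iv5 D19801) F16118
theorem F31568 : act 7 n19801 = n19769 := d13_2 (iv7 F16108) D19801 (iv5 D19769)
theorem F31569 : act 1 n19777 = n19801 := d15_1 D19777 F31568 F31544
theorem F31570 : act 6 n19785 = n19801 := d3_0 F31566 (iv6 F16074) D19785
theorem F31571 : act 1 n19801 = n19776 := d15_0 (iv0 D19776) (iv7 F16107) (iv2 F31566)
def n19802 : Q := act 6 n9302
theorem D19802 : act 6 n9302 = n19802 := rfl
theorem F31572 : act 2 n19802 = n9305 := d3_1 D19802 (iv6 D9305) D9302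
theorem F31573 : act 3 n19802 = n19802 := d7_1 D19802 (iv6 D19802) F16118
def n19803 : Q := act 0 n9303
theorem D19803 : act 0 n9303 = n19803 := rfl
theorem F31574 : act 1 n19768 = n19803 := d15_0 (iv0 D19803) F16109 (iv2 F31543)
def n19804 : Q := act 1 n9303
theorem D19804 : act 1 n9303 = n19804 := rfl
theorem F31575 : act 1 n19804 = n19768 := d15_1 D19804 (iv7 F31563) F31562
def n19805 : Q := act 3 n9303
theorem D19805 : act 3 n9303 = n19805 := rfl
theorem F31576 : act 4 n19805 = n9306 := d5_2 D9303 D19805 (iv3 D9306) (iv4 D4200) D4199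
theorem F31577 : act 7 n19805 = n19773 := d8_2 (iv7 F16109) D19805 (iv3 D19773)
def n19806 : Q := act 5 n9303
theorem D19806 : act 5 n9303 = n19806 := rfl
theorem F31578 : act 7 n19806 = n19774 := d13_2 (iv7 F16109) D19806 (iv5 D19774)
def n19807 : Q := act 6 n9303
theorem D19807 : act 6 n9303 = n19807 := rfl
theorem F31579 : act 4 n19807 = n9305 := d10_1 D19807 (iv6 D9305) D9303
def n19808 : Q := act 0 n9304
theorem D19808 : act 0 n9304 = n19808 := rfl
theorem F31580 : act 1 n19769 = n19808 := d15_0 (iv0 D19808) F16107 (iv2 F31544)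
def n19809 : Q := act 1 n9304
theorem D19809 : act 1 n9304 = n19809 := rfl
theorem F31581 : act 1 n19809 = n19769 := d15_1 D19809 (iv7 F31568) F31566
def n19810 : Q := act 4 n9304
theorem D19810 : act 4 n9304 = n19810 := rfl
theorem F31582 : act 3 n19810 = n19775 := d5_1 D19810 F31549 F14477 F16071 (iv3 F14491)
theorem F31583 : act 6 n19810 = n19773 := d10_2 F16074 D19810 F31548
theorem F31584 : act 7 n19810 = n19778 := d11_2 (iv7 F16107) D19810 (iv4 D19778)
def n19811 : Q := act 0 n9305
theorem D19811 : act 0 n9305 = n19811 := rfl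
def n19812 : Q := act 1 n9305
theorem D19812 : act 1 n9305 = n19812 := rfl
def n19813 : Q := act 5 n9305
theorem D19813 : act 5 n9305 = n19813 := rfl
theorem F31585 : act 3 n19813 = n9312 := d6_1 D19813 (iv5 D9312) (iv3 F14492)
theorem F31586 : act 6 n19813 = n19786 := d12_2 D9305 D19813 (iv5 D19786) F16074 (iv5 D9304)
def n19814 : Q := act 7 n9305
theorem D19814 : act 7 n9305 = n19814 := rfl
theorem F31587 : act 3 n19814 = n9313 := d8_1 D19814 (iv7 D9313) (iv3 F14492)
theorem F31588 : act 6 n19814 = n19782 := d14_1 D19814 (iv7 D19782) (iv6 D9283) F16069 D9305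
def n19815 : Q := act 0 n9306
theorem D19815 : act 0 n9306 = n19815 := rfl
theorem F31589 : act 1 n19785 = n19815 := d15_0 (iv0 D19815) (iv7 F16075) D19785
def n19816 : Q := act 1 n9306
theorem D19816 : act 1 n9306 = n19816 := rfl
def n19817 : Q := act 2 n9306
theorem D19817 : act 2 n9306 = n19817 := rfl
theorem F31590 : act 3 n19817 = n19817 := d0_2 D9306 D19817 (iv2 D19817) (iv3 D9306) F16056
theorem F31591 : act 7 n19817 = n19785 := d4_2 F16075 D19817 (iv2 D19785)
theorem F31592 : act 1 n19817 = n19783 := d15_0 (iv0 D19783) F16075 D19817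
theorem F31593 : act 1 n19816 = n19785 := d15_1 D19816 (iv7 F31591) (iv2 D19817)
def n19818 : Q := act 5 n9306
theorem D19818 : act 5 n9306 = n19818 := rfl
theorem F31595 : act 3 n19818 = n9307 := d6_1 D19818 (iv5 D9307) D9306
theorem F31596 : act 7 n19818 = n19786 := d13_2 F16075 D19818 (iv5 D19786)
def n19819 : Q := act 6 n9306
theorem D19819 : act 6 n9306 = n19819 := rfl
theorem F31597 : act 3 n19819 = n9308 := d7_1 D19819 (iv6 D9308) D9306
theorem F31598 : act 7 n19819 = n19779 := d14_2 F16075 D19819 (iv6 D19779) (iv7 F16107) (iv6 F16074)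
def n19820 : Q := act 4 n9307
theorem D19820 : act 4 n9307 = n19820 := rfl
theorem F31599 : act 2 n19820 = n19820 := d1_1 D19820 (iv4 D19820) F16062
theorem F31600 : act 5 n19820 = n11014 := d9_2 D9307 D19820 F17876 (iv5 F16082) (iv4 D9293) (iv5 D4196) D4195 D9288 D19787 F31556 F17879 (iv5 F7501) F16071 (iv5 D4201) D4200
def n19821 : Q := act 3 n9310
theorem D19821 : act 3 n9310 = n19821 := rfl
theorem F31604 : act 7 n19821 = n10407 := d8_2 F14868 D19821 F16555
def n19822 : Q := act 4 n9312
theorem D19822 : act 4 n9312 = n19822 := rfl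
theorem F31606 : act 6 n19822 = n19787 := d10_2 F16077 D19822 (iv4 D19787)
theorem F31607 : act 0 n19822 = n9540 := d18_2 F14496 D19822 (iv4 D9540) (iv5 D4309) F14800 F3348 F3345 F3330 D4959
def n19823 : Q := act 3 n9324
theorem D19823 : act 3 n9324 = n19823 := rfl
theorem F31609 : act 5 n19823 = n11052 := d6_2 F16099 D19823 (iv3 D11052)
def n19824 : Q := act 6 n9324
theorem D19824 : act 6 n9324 = n19824 := rfl
theorem F31612 : act 0 n19824 = n10896 := d21_4 (iv5 D10893) F16100 F16099 D19824 (iv6 D10896) (iv5 F7378) F14866 D9312 (iv6 F16077) (iv1 F17688)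
def n19825 : Q := act 3 n9325
theorem D19825 : act 3 n9325 = n19825 := rfl
theorem F31614 : act 5 n19825 = n11047 := d6_2 F16095 D19825 F17912
theorem F31615 : act 7 n19825 = n19823 := d8_2 F16097 D19825 (iv3 D19823)
def n19828 : Q := act 0 n9327
theorem D19828 : act 0 n9327 = n19828 := rfl
theorem F31619 : act 1 n11098 = n19828 := d15_0 (iv0 D19828) F14514 D11098
def n19829 : Q := act 1 n9327
theorem D19829 : act 1 n9327 = n19829 := rfl
def n19830 : Q := act 2 n9327
theorem D19830 : act 2 n9327 = n19830 := rfl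
theorem F31620 : act 3 n19830 = n19830 := d0_2 D9327 D19830 (iv2 D19830) (iv3 D9327) F6107
theorem F31621 : act 5 n19830 = n11098 := d2_2 (iv5 F14513) D19830 (iv2 D11098)
theorem F31622 : act 7 n19830 = n11098 := d4_2 (iv7 F14514) D19830 (iv2 D11098)
theorem F31623 : act 1 n19830 = n11096 := d15_0 (iv0 D11096) (iv7 F14514) D19830
theorem F31624 : act 1 n19829 = n11098 := d15_1 D19829 (iv7 F31622) (iv2 D19830)
theorem F31625 : act 1 n11097 = n19830 := d15_1 D11097 F31622 (iv2 D11098)
def n19831 : Q := act 6 n9328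
theorem D19831 : act 6 n9328 = n19831 := rfl
theorem F31626 : act 2 n19831 = n19054 := d3_1 D19831 (iv6 D19054) (iv2 F14515)
def n19832 : Q := act 5 n9329
theorem D19832 : act 5 n9329 = n19832 := rfl
theorem F31627 : act 3 n19832 = n9332 := d6_1 D19832 (iv5 D9332) (iv3 F14517)
theorem F31628 : act 7 n19832 = n19415 := d13_2 F27368 D19832 F31076
theorem F31629 : act 0 n9832 = n19832 := d21_7 (iv5 F14101) (iv1 F14105) (iv5 D8556) F7203 F5825 D4448 D9832 (iv5 D19832) (iv6 D9329) F12306
def n19833 : Q := act 5 n9330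
theorem D19833 : act 5 n9330 = n19833 := rfl
theorem F31630 : act 2 n19833 = n19051 := d2_1 D19833 (iv5 D19051) (iv2 F14518)
theorem F31631 : act 3 n19833 = n12798 := d6_1 D19833 (iv5 D12798) (iv3 F14519)
theorem F31632 : act 1 n19833 = n19159 := d17_6 (iv1 F6124) D8998 F14525 (iv5 D9332) (iv4 F14520) D19833 (iv5 D19159) F16939 (iv4 D9334)
def n19834 : Q := act 4 n9332
theorem D19834 : act 4 n9332 = n19834 := rfl
theorem F31633 : act 2 n19834 = n19052 := d1_1 D19834 (iv4 D19052) (iv2 F14522)
theorem F31634 : act 7 n19834 = n19416 := d11_2 (iv7 F14523) D19834 (iv4 D19416)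
def n19835 : Q := act 4 n9333
theorem D19835 : act 4 n9333 = n19835 := rfl
theorem F31635 : act 2 n19835 = n9337 := d1_1 D19835 (iv4 D9337) (iv2 F14526)
theorem F31636 : act 7 n19835 = n19151 := d11_2 (iv7 F14528) D19835 (iv4 D19151)
theorem F31637 : act 0 n19835 = n19419 := d18_2 F14530 D19835 (iv4 F31180) F31181 F17491 F14926 (iv4 D9570) (iv0 F17513) D8925
theorem F31638 : act 1 n19835 = n19418 := d18_6 D10244 F16930 (iv1 F13862) F13028 D9333 D19835 (iv4 F31158) F31157 (iv5 D10246)
def n19836 : Q := act 5 n9334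
theorem D19836 : act 5 n9334 = n19836 := rfl
theorem F31639 : act 2 n19836 = n19412 := d2_1 D19836 (iv5 D19412) (iv2 F14531)
theorem F31640 : act 7 n19836 = n19409 := d13_2 (iv7 F14532) D19836 (iv5 D19409)
def n19837 : Q := act 4 n9335
theorem D19837 : act 4 n9335 = n19837 := rfl
theorem F31641 : act 2 n19837 = n19413 := d1_1 D19837 (iv4 D19413) (iv2 F14533)
theorem F31642 : act 7 n19837 = n19410 := d11_2 (iv7 F14534) D19837 (iv4 D19410)
def n19838 : Q := act 6 n9335
theorem D19838 : act 6 n9335 = n19838 := rfl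
theorem F31643 : act 2 n19838 = n19414 := d3_1 D19838 (iv6 D19414) (iv2 F14533)
def n19839 : Q := act 3 n9336
theorem D19839 : act 3 n9336 = n19839 := rfl
theorem F31644 : act 5 n19839 = n9489 := d6_2 (iv5 F17526) D19839 F17542
theorem F31645 : act 7 n19839 = n19046 := d8_2 (iv7 F14538) D19839 F30553
theorem F31646 : act 4 n19839 = n10844 := d20_6 D4005 (iv1 F6131) (iv4 D4222) (iv3 F6126) D9336 D19839 (iv1 D10844) (iv4 D4945) F3323 (iv1 F2967)
theorem F31647 : act 1 n9499 = n19839 := d15_1 F27433 F31645 F30552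
def n19840 : Q := act 4 n9336
theorem D19840 : act 4 n9336 = n19840 := rfl
theorem F31648 : act 2 n19840 = n19416 := d1_1 D19840 (iv4 D19416) F14536
theorem F31649 : act 7 n19840 = n19052 := d11_2 (iv7 F14538) D19840 (iv4 D19052)
def n19841 : Q := act 6 n9336
theorem D19841 : act 6 n9336 = n19841 := rfl
theorem F31650 : act 2 n19841 = n19417 := d3_1 D19841 (iv6 D19417) F14536
theorem F31651 : act 5 n19841 = n19838 := d12_1 D19841 (iv6 D19838) (iv5 D9335) F17527 (iv5 F17526)
def n19842 : Q := act 0 n9337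
theorem D19842 : act 0 n9337 = n19842 := rfl
theorem F31652 : act 2 n19419 = n19842 := d15_3 (iv0 D19842) (iv0 F31176) (iv7 F31178)
theorem F31653 : act 1 n19151 = n19842 := d15_0 (iv0 D19842) F14539 (iv2 F30768)
theorem F31654 : act 7 n19842 = n19418 := d15_2 F31177 F31653 (iv2 F31175)
def n19843 : Q := act 3 n9337
theorem D19843 : act 3 n9337 = n19843 := rfl
theorem F31655 : act 4 n19843 = n9338 := d5_2 D9337 D19843 (iv3 D9338) (iv4 D4222) (iv3 F6126)
theorem F31656 : act 7 n19843 = n19420 := d8_2 (iv7 F14539) D19843 (iv3 D19420)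
def n19844 : Q := act 5 n9337
theorem D19844 : act 5 n9337 = n19844 := rfl
theorem F31657 : act 7 n19844 = n19421 := d13_2 (iv7 F14539) D19844 (iv5 D19421)
def n19845 : Q := act 0 n9338
theorem D19845 : act 0 n9338 = n19845 := rfl
theorem F31658 : act 1 n19467 = n19845 := d15_0 (iv0 D19845) F14541 D19467
def n19846 : Q := act 1 n9338
theorem D19846 : act 1 n9338 = n19846 := rfl
def n19847 : Q := act 2 n9338
theorem D19847 : act 2 n9338 = n19847 := rfl
theorem F31659 : act 3 n19847 = n19847 := d0_2 D9338 D19847 (iv2 D19847) (iv3 D9338) F6128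
theorem F31660 : act 5 n19847 = n19467 := d2_2 (iv5 F14540) D19847 (iv2 D19467)
theorem F31661 : act 7 n19847 = n19467 := d4_2 (iv7 F14541) D19847 (iv2 D19467)
theorem F31662 : act 1 n19847 = n19465 := d15_0 (iv0 D19465) (iv7 F14541) D19847
theorem F31663 : act 1 n19846 = n19467 := d15_1 D19846 (iv7 F31661) (iv2 D19847)
theorem F31664 : act 1 n19466 = n19847 := d15_1 D19466 F31661 (iv2 D19467)
def n19848 : Q := act 6 n9339
theorem D19848 : act 6 n9339 = n19848 := rfl
theorem F31665 : act 2 n19848 = n10965 := d3_1 D19848 (iv6 D10965) (iv2 F14542)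
theorem F31666 : act 3 n19848 = n10716 := d7_1 D19848 (iv6 D10716) (iv3 F14543)
def n19849 : Q := act 1 n9340
theorem D19849 : act 1 n9340 = n19849 := rfl
theorem F31667 : act 1 n19849 = n9468 := d15_1 D19849 F27368 (iv2 F14547)
theorem F31668 : act 7 n19849 = n9470 := d15_2 (iv0 F17524) D19849 (iv2 D9470)
theorem F31669 : act 4 n16690 = n19849 := d20_0 (iv1 D19849) (iv4 F28029) F28028 F17607 (iv3 D3654) F2995 F2962 (iv4 F5557) (iv3 F12251) (iv1 F27346)
theorem F31670 : act 3 n9490 = n19849 := d20_3 D9646 (iv1 F17589) F17591 (iv1 D19849) F14548 F12346 D7809 (iv4 F13604) F17451 (iv1 F17457)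
theorem F31671 : act 2 n19849 = n9409 := d0_1 F31670 (iv3 D9409) F14726 D4293 D9490
theorem F31672 : act 6 n19849 = n19849 := d7_2 F14752 F31670 (iv3 F31670)
def n19850 : Q := act 5 n9340
theorem D19850 : act 5 n9340 = n19850 := rfl
theorem F31673 : act 2 n19850 = n19832 := d2_1 D19850 (iv5 D19832) (iv2 F14547)
theorem F31674 : act 3 n19850 = n16721 := d6_1 D19850 (iv5 D16721) (iv3 F14548)
theorem F31675 : act 0 n19850 = n9345 := d17_2 (iv1 D19849) D19850 (iv5 D9345) (iv4 F13812) D18905 (iv0 F30177) (iv5 D16691) D16690 F31669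
theorem F31676 : act 0 n17883 = n19850 := d21_1 D17883 (iv5 D19850) (iv6 D9340) (iv1 D4230) D4233 D9345 F31078 F31076 F27367 (iv1 F16924)
def n19851 : Q := act 7 n9340
theorem D19851 : act 7 n9340 = n19851 := rfl
theorem F31677 : act 2 n19851 = n9468 := d4_1 D19851 F27368 (iv2 F14547)
theorem F31678 : act 3 n19851 = n16722 := d8_1 D19851 (iv7 D16722) (iv3 F14548)
theorem F31679 : act 6 n19851 = n9831 := d14_1 D19851 F16920 (iv6 F14554) (iv7 F12304) D9340
theorem F31680 : act 1 n9409 = n19851 := d15_1 F30732 (iv7 D19851) F14547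
theorem F31681 : act 1 n19851 = n9470 := d15_1 F31680 (iv7 F31668) F31671
def n19852 : Q := act 5 n9341
theorem D19852 : act 5 n9341 = n19852 := rfl
theorem F31682 : act 2 n19852 = n9345 := d2_1 D19852 (iv5 D9345) (iv2 F14549)
theorem F31683 : act 7 n19852 = n17883 := d13_2 F16942 D19852 (iv5 D17883)
theorem F31684 : act 1 n19852 = n19832 := d17_6 (iv1 D7779) D7780 F27345 (iv5 D16689) (iv4 F14550) D19852 (iv5 D19832) F30732 F14630
theorem F31685 : act 4 n19852 = n19127 := d18_5 F16765 (iv4 F5866) F12241 (iv4 F14550) D19852 (iv0 D19127) (iv4 D8977) (iv0 F7299) (iv5 D4658)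
def n19853 : Q := act 0 n9342
theorem D19853 : act 0 n9342 = n19853 := rfl
def n19854 : Q := act 1 n9342
theorem D19854 : act 1 n9342 = n19854 := rfl
def n19855 : Q := act 5 n9342
theorem D19855 : act 5 n9342 = n19855 := rfl
theorem F31686 : act 3 n19855 = n9358 := d6_1 D19855 (iv5 D9358) (iv3 F14552)
theorem F31687 : act 6 n19855 = n9345 := d12_2 D9342 D19855 (iv5 D9345) (iv6 D4233) D4232
def n19856 : Q := act 7 n9342
theorem D19856 : act 7 n9342 = n19856 := rfl
theorem F31688 : act 3 n19856 = n9359 := d8_1 D19856 (iv7 D9359) (iv3 F14552)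
def n19857 : Q := act 5 n9344
theorem D19857 : act 5 n9344 = n19857 := rfl
theorem F31689 : act 2 n19857 = n19053 := d2_1 D19857 (iv5 D19053) (iv2 F14555)
theorem F31690 : act 3 n19857 = n18463 := d6_1 D19857 (iv5 D18463) F14553
theorem F31691 : act 0 n19857 = n9770 := d17_2 (iv1 F16927) D19857 F16955 F14630 D16696 (iv0 F29069) (iv5 D17893) (iv0 D8439) (iv4 F13249)
def n19858 : Q := act 4 n9345
theorem D19858 : act 4 n9345 = n19858 := rfl
theorem F31692 : act 2 n19858 = n19127 := d1_1 D19858 (iv4 F31685) F31682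
theorem F31693 : act 7 n19858 = n19128 := d11_2 (iv7 F16841) D19858 (iv4 F30736)
theorem F31694 : act 0 n19858 = n11090 := d18_2 F31675 D19858 (iv4 D11090) F7521 (iv4 F12252) (iv0 F14686) (iv4 D9471) (iv0 F17524) D19850
theorem F31695 : act 1 n19858 = n19117 := d18_6 F16769 (iv4 F16811) (iv1 F16816) F13812 D9345 D19858 (iv4 D19117) (iv0 F13939) (iv5 D4595)
def n19859 : Q := act 5 n9347
theorem D19859 : act 5 n9347 = n19859 := rfl
theorem F31696 : act 2 n19859 = n19136 := d2_1 D19859 (iv5 D19136) (iv2 F14560)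
theorem F31697 : act 3 n19859 = n9350 := d6_1 D19859 (iv5 D9350) (iv3 F14561)
theorem F31698 : act 7 n19859 = n19483 := d13_2 (iv7 F16937) D19859 F31172
theorem F31699 : act 0 n19859 = n19485 := d17_2 F16933 D19859 F31181 F17491 D17337 (iv0 F28570) (iv5 D17583) F13862 (iv4 F16930)
theorem F31700 : act 0 n19479 = n19859 := d21_1 D19479 (iv5 D19859) (iv6 D9347) (iv1 F6295) (iv6 F7355) D10831 F30734 (iv5 D19124) F14746 (iv1 F17587)
def n19860 : Q := act 0 n9348
theorem D19860 : act 0 n9348 = n19860 := rfl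
def n19861 : Q := act 1 n9348
theorem D19861 : act 1 n9348 = n19861 := rfl
def n19862 : Q := act 5 n9348
theorem D19862 : act 5 n9348 = n19862 := rfl
theorem F31701 : act 6 n19862 = n9350 := d12_2 D9348 D19862 (iv5 D9350) (iv6 D4238) D4237
def n19863 : Q := act 7 n9348
theorem D19863 : act 7 n9348 = n19863 := rfl
def n19864 : Q := act 5 n9349
theorem D19864 : act 5 n9349 = n19864 := rfl
theorem F31702 : act 2 n19864 = n10836 := d2_1 D19864 (iv5 D10836) F14564
theorem F31703 : act 7 n19864 = n19509 := d13_2 (iv7 F14565) D19864 (iv5 D19509)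
theorem F31704 : act 0 n19864 = n19118 := d17_2 D9349 D19864 (iv5 D19118) F13947 (iv5 F16860) (iv0 F14582) (iv5 D9360) (iv0 D4245) (iv4 F6148)
theorem F31705 : act 1 n19864 = n19510 := d17_6 (iv1 F14695) D9493 (iv1 F30718) (iv5 D10836) (iv4 F14563) D19864 F31242 (iv0 F17571) (iv4 F15014)
def n19865 : Q := act 0 n9350
theorem D19865 : act 0 n9350 = n19865 := rfl
theorem F31706 : act 5 n19865 = n9475 := d17_3 (iv1 F14334) D9350 D19865 F15014 (iv5 F17632) (iv0 F17634) (iv5 D9700) (iv0 F14328) F14327
theorem F31707 : act 2 n10840 = n19865 := d15_3 (iv0 D19865) (iv0 F31145) F31144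
theorem F31708 : act 1 n9766 = n19865 := d15_0 (iv0 D19865) (iv7 F16961) (iv2 F16848)
def n19866 : Q := act 3 n9352
theorem D19866 : act 3 n9352 = n19866 := rfl
theorem F31709 : act 4 n19866 = n19078 := d5_2 (iv4 F14575) D19866 (iv3 D19078) F14353 F14348
theorem F31710 : act 0 n19866 = n9377 := d20_4 F7304 (iv1 F7306) (iv4 F14575) D19866 (iv3 D9377) (iv4 D4257) (iv1 F6917) D1894 F3183 D4486
def n19867 : Q := act 5 n9352
theorem D19867 : act 5 n9352 = n19867 := rfl
theorem F31711 : act 2 n19867 = n10512 := d2_1 D19867 (iv5 D10512) F14576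
theorem F31712 : act 0 n19867 = n9724 := d17_2 (iv1 F14574) D19867 (iv5 D9724) (iv4 D4393) (iv5 F7056) (iv0 D975) D978 F6917 D4257
theorem F31713 : act 1 n19867 = n9732 := d17_6 (iv1 F7243) (iv5 D4452) (iv1 F6551) D4811 (iv4 F14575) D19867 (iv5 D9732) F15175 F15174
def n19868 : Q := act 6 n9352
theorem D19868 : act 6 n9352 = n19868 := rfl
theorem F31714 : act 2 n19868 = n10513 := d3_1 D19868 (iv6 D10513) F14576
theorem F31715 : act 4 n19868 = n10509 := d10_1 D19868 (iv6 D10509) (iv4 F14575)
def n19869 : Q := act 0 n9353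
theorem D19869 : act 0 n9353 = n19869 := rfl
def n19870 : Q := act 1 n9353
theorem D19870 : act 1 n9353 = n19870 := rfl
def n19871 : Q := act 6 n9353
theorem D19871 : act 6 n9353 = n19871 := rfl
theorem F31716 : act 3 n19871 = n9355 := d7_1 D19871 (iv6 D9355) D9353
def n19872 : Q := act 1 n9354
theorem D19872 : act 1 n9354 = n19872 := rfl
theorem F31717 : act 1 n19872 = n9378 := d15_1 D19872 (iv7 F15140) F15139
theorem F31718 : act 5 n19872 = n9417 := d17_7 (iv1 D1814) (iv5 D949) D946 D1804 D4242 D9354 D19872 F14649 (iv4 D4276)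
def n19873 : Q := act 0 n9355
theorem D19873 : act 0 n9355 = n19873 := rfl
def n19874 : Q := act 1 n9355
theorem D19874 : act 1 n9355 = n19874 := rfl
def n19875 : Q := act 5 n9355
theorem D19875 : act 5 n9355 = n19875 := rfl
def n19876 : Q := act 7 n9355
theorem D19876 : act 7 n9355 = n19876 := rfl
theorem F31719 : act 4 n19876 = n9359 := d11_1 D19876 (iv7 D9359) (iv4 F14577)
def n19877 : Q := act 2 n9356
theorem D19877 : act 2 n9356 = n19877 := rfl
theorem F31720 : act 7 n9357 = n19877 := d15_2 (iv0 D9356) D9357 (iv2 D19877)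
def n19878 : Q := act 3 n9356
theorem D19878 : act 3 n9356 = n19878 := rfl
def n19879 : Q := act 4 n9356
theorem D19879 : act 4 n9356 = n19879 := rfl
def n19880 : Q := act 5 n9356
theorem D19880 : act 5 n9356 = n19880 := rfl
def n19881 : Q := act 6 n9356
theorem D19881 : act 6 n9356 = n19881 := rfl
theorem F31721 : act 5 n19881 = n9381 := d21_6 (iv5 D949) D946 D1804 D4243 D9356 D19881 (iv1 D9381) (iv5 F16782) (iv6 D4278) (iv1 D1814)
def n19882 : Q := act 7 n9356
theorem D19882 : act 7 n9356 = n19882 := rfl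
def n19885 : Q := act 5 n9357
theorem D19885 : act 5 n9357 = n19885 := rfl
def n19887 : Q := act 0 n9358
theorem D19887 : act 0 n9358 = n19887 := rfl
def n19888 : Q := act 1 n9358
theorem D19888 : act 1 n9358 = n19888 := rfl
def n19889 : Q := act 4 n9358
theorem D19889 : act 4 n9358 = n19889 := rfl
theorem F31723 : act 6 n19889 = n9363 := d10_2 (iv6 F14578) D19889 (iv4 D9363)
def n19890 : Q := act 7 n9358
theorem D19890 : act 7 n9358 = n19890 := rfl
theorem F31724 : act 5 n19890 = n9359 := d13_1 D19890 (iv7 D9359) D9358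
def n19891 : Q := act 4 n9360
theorem D19891 : act 4 n9360 = n19891 := rfl
theorem F31725 : act 2 n19891 = n9782 := d1_1 D19891 F15252 (iv2 F14579)
theorem F31726 : act 7 n19891 = n9719 := d11_2 (iv7 F14581) D19891 (iv4 D9719)
theorem F31727 : act 0 n19891 = n9779 := d18_2 (iv1 F14583) D19891 (iv4 F30719) (iv5 D19118) F13947 (iv0 D4265) F3075 D4266 (iv5 F16863)
theorem F31728 : act 1 n19891 = n9778 := d18_6 (iv1 F14334) F6148 D4245 F7071 D9360 D19891 F31246 (iv0 D19510) (iv5 D9185)
def n19892 : Q := act 6 n9360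
theorem D19892 : act 6 n9360 = n19892 := rfl
theorem F31729 : act 2 n19892 = n9783 := d3_1 D19892 (iv6 D9783) (iv2 F14579)
theorem F31730 : act 3 n19892 = n19892 := d7_1 D19892 (iv6 D19892) F14580
def n19893 : Q := act 4 n9361
theorem D19893 : act 4 n9361 = n19893 := rfl
theorem F31731 : act 2 n19893 = n9506 := d1_1 D19893 F14760 (iv2 F16852)
theorem F31732 : act 7 n19893 = n9414 := d11_2 (iv7 F16854) D19893 (iv4 D9414)
theorem F31733 : act 0 n19893 = n9503 := d18_2 D9361 D19893 (iv4 F16850) (iv5 D9766) (iv4 D4416) (iv0 F7068) F7071 (iv0 D4245) D4247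
theorem F31734 : act 1 n19893 = n9502 := d18_6 F17400 (iv4 D4289) (iv1 F6179) F6176 (iv5 F16853) D19893 (iv4 F16968) (iv0 F31145) (iv5 D19475)
def n19894 : Q := act 6 n9361
theorem D19894 : act 6 n9361 = n19894 := rfl
theorem F31735 : act 2 n19894 = n9507 := d3_1 D19894 (iv6 D9507) (iv2 F16852)
theorem F31736 : act 3 n19894 = n19894 := d7_1 D19894 (iv6 D19894) F16350
theorem F31737 : act 5 n19894 = n19892 := d12_1 D19894 (iv6 D19892) (iv5 D9360) F7072 (iv5 F16853)
def n19895 : Q := act 0 n9363
theorem D19895 : act 0 n9363 = n19895 := rfl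
theorem F31738 : act 4 n19895 = n10840 := d18_3 (iv1 F16823) D9363 D19895 F17632 (iv4 F15014) (iv0 D9475) (iv4 D4289) (iv0 D1817) D1819
theorem F31739 : act 1 n9500 = n19895 := d15_0 (iv0 D19895) F16855 F15477
def n19896 : Q := act 1 n9363
theorem D19896 : act 1 n9363 = n19896 := rfl
theorem F31740 : act 1 n19896 = n9500 := d15_1 D19896 F16869 F15153
def n19897 : Q := act 3 n9363
theorem D19897 : act 3 n9363 = n19897 := rfl
def n19898 : Q := act 5 n9363
theorem D19898 : act 5 n9363 = n19898 := rfl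
def n19899 : Q := act 0 n9367
theorem D19899 : act 0 n9367 = n19899 := rfl
def n19900 : Q := act 1 n9367
theorem D19900 : act 1 n9367 = n19900 := rfl
def n19901 : Q := act 7 n9367
theorem D19901 : act 7 n9367 = n19901 := rfl
theorem F31741 : act 3 n19901 = n9383 := d8_1 D19901 (iv7 D9383) (iv3 F14593)
def n19902 : Q := act 0 n9372
theorem D19902 : act 0 n9372 = n19902 := rfl
def n19903 : Q := act 1 n9372
theorem D19903 : act 1 n9372 = n19903 := rfl
def n19904 : Q := act 7 n9372
theorem D19904 : act 7 n9372 = n19904 := rfl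
def n19905 : Q := act 0 n9377
theorem D19905 : act 0 n9377 = n19905 := rfl
def n19906 : Q := act 2 n9377
theorem D19906 : act 2 n9377 = n19906 := rfl
def n19907 : Q := act 5 n9377
theorem D19907 : act 5 n9377 = n19907 := rfl
theorem F31743 : act 3 n19907 = n9378 := d6_1 D19907 (iv5 D9378) D9377
def n19908 : Q := act 6 n9377
theorem D19908 : act 6 n9377 = n19908 := rfl
theorem F31744 : act 3 n19908 = n9379 := d7_1 D19908 (iv6 D9379) D9377
def n19909 : Q := act 6 n9378
theorem D19909 : act 6 n9378 = n19909 := rfl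
def n19910 : Q := act 0 n9379
theorem D19910 : act 0 n9379 = n19910 := rfl
def n19911 : Q := act 1 n9379
theorem D19911 : act 1 n9379 = n19911 := rfl
def n19912 : Q := act 5 n9379
theorem D19912 : act 5 n9379 = n19912 := rfl
def n19913 : Q := act 7 n9379
theorem D19913 : act 7 n9379 = n19913 := rfl
theorem F31745 : act 4 n19913 = n9383 := d11_1 D19913 (iv7 D9383) (iv4 F14602)
def n19917 : Q := act 5 n9380
theorem D19917 : act 5 n9380 = n19917 := rfl
def n19918 : Q := act 6 n9380
theorem D19918 : act 6 n9380 = n19918 := rfl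
def n19920 : Q := act 3 n9381
theorem D19920 : act 3 n9381 = n19920 := rfl
def n19921 : Q := act 4 n9381
theorem D19921 : act 4 n9381 = n19921 := rfl
def n19922 : Q := act 6 n9381
theorem D19922 : act 6 n9381 = n19922 := rfl
def n19923 : Q := act 0 n9397
theorem D19923 : act 0 n9397 = n19923 := rfl
theorem F31748 : act 1 n9397 = n19923 := d15_0 (iv0 D19923) (iv7 F15156) F15154
def n19924 : Q := act 5 n9397
theorem D19924 : act 5 n9397 = n19924 := rfl
theorem F31749 : act 3 n19924 = n9398 := d6_1 D19924 (iv5 D9398) D9397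
def n19925 : Q := act 6 n9397
theorem D19925 : act 6 n9397 = n19925 := rfl
theorem F31750 : act 3 n19925 = n9399 := d7_1 D19925 (iv6 D9399) D9397
theorem F31751 : act 4 n19925 = n19925 := d10_1 D19925 (iv6 D19925) F14613
def n19926 : Q := act 6 n9398
theorem D19926 : act 6 n9398 = n19926 := rfl
theorem F31752 : act 2 n19926 = n9443 := d3_1 D19926 (iv6 D9443) (iv2 F14614)
theorem F31753 : act 4 n19926 = n9745 := d10_1 D19926 (iv6 D9745) (iv4 F14615)
def n19927 : Q := act 0 n9399
theorem D19927 : act 0 n9399 = n19927 := rfl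
def n19928 : Q := act 1 n9399
theorem D19928 : act 1 n9399 = n19928 := rfl
theorem F31754 : act 1 n19928 = n9447 := d15_1 D19928 (iv7 D9447) (iv2 F14616)
def n19929 : Q := act 5 n9399
theorem D19929 : act 5 n9399 = n19929 := rfl
theorem F31755 : act 2 n19929 = n9446 := d2_1 D19929 (iv5 D9446) (iv2 F14616)
def n19930 : Q := act 7 n9399
theorem D19930 : act 7 n9399 = n19930 := rfl
theorem F31756 : act 2 n19930 = n9447 := d4_1 D19930 (iv7 D9447) (iv2 F14616)
theorem F31757 : act 4 n19930 = n9403 := d11_1 D19930 (iv7 D9403) (iv4 F14617)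
theorem F31758 : act 1 n9447 = n19927 := d15_0 (iv0 D19927) D19930 F31756
theorem F31759 : act 1 n9445 = n19930 := d15_1 D9445 (iv7 D19930) F14616
theorem F31760 : act 4 n10865 = n19927 := d20_6 F14800 (iv1 D2050) F1900 (iv3 F3326) D4952 D10865 (iv1 F31758) F14672 F6185 (iv1 F3084)
theorem F31761 : act 1 n19930 = n9444 := d15_0 (iv0 D9444) D9447 (iv2 F31756)
def n19931 : Q := act 2 n9400
theorem D19931 : act 2 n9400 = n19931 := rfl
theorem F31762 : act 7 n9401 = n19931 := d15_2 (iv0 D9400) D9401 (iv2 D19931)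
def n19932 : Q := act 3 n9400
theorem D19932 : act 3 n9400 = n19932 := rfl
def n19933 : Q := act 4 n9400
theorem D19933 : act 4 n9400 = n19933 := rfl
def n19934 : Q := act 5 n9400
theorem D19934 : act 5 n9400 = n19934 := rfl
def n19935 : Q := act 7 n9400
theorem D19935 : act 7 n9400 = n19935 := rfl
def n19936 : Q := act 3 n9401
theorem D19936 : act 3 n9401 = n19936 := rfl
theorem F31764 : act 4 n19936 = n10861 := d20_6 (iv4 F14807) (iv1 F3150) F3148 (iv3 F6185) (iv1 F14618) D19936 (iv1 D10861) F7372 F3326 D2040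
def n19937 : Q := act 4 n9401
theorem D19937 : act 4 n9401 = n19937 := rfl
def n19938 : Q := act 5 n9401
theorem D19938 : act 5 n9401 = n19938 := rfl
def n19939 : Q := act 6 n9401
theorem D19939 : act 6 n9401 = n19939 := rfl
def n19940 : Q := act 0 n9402
theorem D19940 : act 0 n9402 = n19940 := rfl
theorem F31765 : act 6 n19940 = n9758 := d21_5 F16863 (iv1 D4266) D4267 (iv6 F14621) D19940 (iv5 D9758) (iv1 D4406) D4407 F6342 D4419
def n19941 : Q := act 1 n9402
theorem D19941 : act 1 n9402 = n19941 := rfl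
theorem F31766 : act 1 n19941 = n9461 := d15_1 D19941 (iv7 D9461) (iv2 F14619)
theorem F31767 : act 5 n9957 = n19941 := d21_6 (iv5 F7064) (iv1 D976) D978 D1895 D4542 D9957 (iv1 D19941) (iv5 D9402) (iv6 D4264) (iv1 F3137)
def n19942 : Q := act 4 n9402
theorem D19942 : act 4 n9402 = n19942 := rfl
theorem F31768 : act 2 n19942 = n9460 := d1_1 D19942 (iv4 D9460) (iv2 F14619)
theorem F31769 : act 6 n19942 = n9414 := d10_2 (iv6 F14621) D19942 (iv4 D9414)
def n19943 : Q := act 7 n9402
theorem D19943 : act 7 n9402 = n19943 := rfl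
theorem F31770 : act 2 n19943 = n9461 := d4_1 D19943 (iv7 D9461) (iv2 F14619)
theorem F31772 : act 5 n19943 = n9403 := d13_1 D19943 (iv7 D9403) D9402
theorem F31773 : act 1 n9461 = n19940 := d15_0 (iv0 D19940) D19943 F31770
theorem F31774 : act 1 n9459 = n19943 := d15_1 D9459 (iv7 D19943) F14619
theorem F31775 : act 1 n19943 = n9458 := d15_0 (iv0 D9458) D9461 (iv2 F31770)
def n19944 : Q := act 0 n9414
theorem D19944 : act 0 n9414 = n19944 := rfl
theorem F31776 : act 4 n19944 = n9700 := d18_3 (iv1 F7278) D9414 D19944 (iv5 D9700) F6316 (iv0 F7287) F3135 (iv0 F16780) D4461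
theorem F31777 : act 1 n9506 = n19944 := d15_0 (iv0 D19944) (iv7 F31732) F31731
theorem F31778 : act 2 n9502 = n19944 := d1_3 F31776 F15136 F16968
theorem F31779 : act 7 n9503 = n19944 := d11_0 F31776 (iv7 F15247) F16850
def n19945 : Q := act 1 n9414
theorem D19945 : act 1 n9414 = n19945 := rfl
theorem F31780 : act 1 n19945 = n9506 := d15_1 D19945 (iv7 D9506) (iv2 F14631)
theorem F31781 : act 7 n19945 = n9502 := d15_2 (iv0 D19944) D19945 F31778
theorem F31782 : act 4 n19945 = n9839 := d18_7 F17571 (iv4 D9410) (iv1 D4266) F3075 D4267 D9414 D19945 F17633 F17632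
theorem F31783 : act 2 n9503 = n19945 := d1_3 F31782 (iv2 F16848) F16850
def n19946 : Q := act 3 n9414
theorem D19946 : act 3 n9414 = n19946 := rfl
theorem F31784 : act 4 n19946 = n19946 := d5_2 D9414 D19946 (iv3 D19946) (iv4 D9414) F6173
def n19947 : Q := act 5 n9414
theorem D19947 : act 5 n9414 = n19947 := rfl
theorem F31785 : act 2 n19947 = n9505 := d2_1 D19947 (iv5 D9505) (iv2 F14631)
def n19948 : Q := act 0 n9416
theorem D19948 : act 0 n9416 = n19948 := rfl
def n19949 : Q := act 1 n9416
theorem D19949 : act 1 n9416 = n19949 := rfl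
def n19950 : Q := act 5 n9416
theorem D19950 : act 5 n9416 = n19950 := rfl
theorem F31786 : act 3 n19950 = n9423 := d6_1 D19950 (iv5 D9423) (iv3 F14648)
theorem F31787 : act 6 n19950 = n9832 := d12_2 D9416 D19950 (iv5 D9832) (iv6 D4448) (iv5 F7255)
def n19951 : Q := act 7 n9416
theorem D19951 : act 7 n9416 = n19951 := rfl
theorem F31788 : act 3 n19951 = n9424 := d8_1 D19951 (iv7 D9424) (iv3 F14648)
def n19952 : Q := act 6 n9417
theorem D19952 : act 6 n9417 = n19952 := rfl
def n19953 : Q := act 1 n9418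
theorem D19953 : act 1 n9418 = n19953 := rfl
def n19954 : Q := act 2 n9418
theorem D19954 : act 2 n9418 = n19954 := rfl
def n19955 : Q := act 5 n9418
theorem D19955 : act 5 n9418 = n19955 := rfl
theorem F31789 : act 3 n19955 = n9419 := d6_1 D19955 (iv5 D9419) D9418
theorem F31790 : act 7 n19955 = n12118 := d13_2 F15182 D19955 F27050
theorem F31791 : act 4 n12120 = n19955 := d11_3 F31790 F20045 D12120
theorem E4353 : n19953 = n16955 := (c17_7 F10682 D12858 (iv1 F21332) F20228 F31791 (iv5 D19955) D19953 (iv5 D16955) F20119 F20096)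
theorem F31792 : act 0 n16955 = n9418 := (sb E4353 (iv1 D19953))
def n19956 : Q := act 6 n9418
theorem D19956 : act 6 n9418 = n19956 := rfl
theorem F31793 : act 3 n19956 = n9420 := d7_1 D19956 (iv6 D9420) D9418
def n19957 : Q := act 1 n9419
theorem D19957 : act 1 n9419 = n19957 := rfl
theorem F31794 : act 1 n19957 = n9428 := d15_1 D19957 (iv7 F15198) F15197
theorem F31795 : act 7 n19957 = n19867 := d15_2 F16712 D19957 F31711
theorem F31796 : act 5 n19957 = n9673 := d17_7 F7281 (iv5 D973) D970 F7259 D4271 D9419 D19957 F15069 (iv4 D4379)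
theorem F31797 : act 4 n19957 = n19867 := d18_7 (iv1 F15178) F15180 (iv1 F7244) (iv4 F7261) D9438 F14661 D19957 F31713 (iv5 D9732)
theorem F31798 : act 2 n19576 = n19957 := d1_3 F31797 F31711 (iv4 F31339)
def n19958 : Q := act 6 n9419
theorem D19958 : act 6 n9419 = n19958 := rfl
def n19959 : Q := act 0 n9420
theorem D19959 : act 0 n9420 = n19959 := rfl
def n19960 : Q := act 1 n9420
theorem D19960 : act 1 n9420 = n19960 := rfl
def n19961 : Q := act 5 n9420
theorem D19961 : act 5 n9420 = n19961 := rfl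
def n19962 : Q := act 7 n9420
theorem D19962 : act 7 n9420 = n19962 := rfl
theorem F31799 : act 4 n19962 = n9424 := d11_1 D19962 (iv7 D9424) (iv4 F14650)
def n19963 : Q := act 2 n9421
theorem D19963 : act 2 n9421 = n19963 := rfl
theorem F31800 : act 7 n9422 = n19963 := d15_2 (iv0 D9421) D9422 (iv2 D19963)
def n19964 : Q := act 3 n9421
theorem D19964 : act 3 n9421 = n19964 := rfl
def n19965 : Q := act 4 n9421
theorem D19965 : act 4 n9421 = n19965 := rfl
def n19966 : Q := act 5 n9421
theorem D19966 : act 5 n9421 = n19966 := rfl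
def n19967 : Q := act 6 n9421
theorem D19967 : act 6 n9421 = n19967 := rfl
def n19968 : Q := act 7 n9421
theorem D19968 : act 7 n9421 = n19968 := rfl
theorem F31801 : act 2 n19968 = n9422 := d4_1 D19968 F31800 (iv2 D19963)
def n19971 : Q := act 5 n9422
theorem D19971 : act 5 n9422 = n19971 := rfl
def n19972 : Q := act 6 n9422
theorem D19972 : act 6 n9422 = n19972 := rfl
def n19973 : Q := act 0 n9423
theorem D19973 : act 0 n9423 = n19973 := rfl
def n19974 : Q := act 1 n9423
theorem D19974 : act 1 n9423 = n19974 := rfl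
theorem F31802 : act 5 n19918 = n19974 := d21_6 (iv5 D1846) (iv1 F1817) D1809 D4258 D9380 D19918 (iv1 D19974) (iv5 D9423) (iv6 D4273) (iv1 F3132)
def n19975 : Q := act 4 n9423
theorem D19975 : act 4 n9423 = n19975 := rfl
theorem F31803 : act 6 n19975 = n9847 := d10_2 (iv6 F14651) D19975 (iv4 D9847)
def n19976 : Q := act 7 n9423
theorem D19976 : act 7 n9423 = n19976 := rfl
theorem F31804 : act 5 n19976 = n9424 := d13_1 D19976 (iv7 D9424) D9423
theorem F31805 : act 6 n19976 = n19890 := d14_1 D19976 (iv7 D19890) F14578 (iv7 F16836) (iv6 F14651)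
def n19977 : Q := act 3 n9425
theorem D19977 : act 3 n9425 = n19977 := rfl
theorem F31806 : act 4 n19977 = n9427 := d5_2 D9425 D19977 (iv3 D9427) (iv4 D4276) D4275
theorem F31807 : act 7 n19977 = n10649 := d8_2 (iv7 F14653) D19977 (iv3 D10649)
def n19978 : Q := act 6 n9425
theorem D19978 : act 6 n9425 = n19978 := rfl
theorem F31808 : act 2 n19978 = n10652 := d3_1 D19978 (iv6 D10652) (iv2 F14652)
theorem F31809 : act 4 n19978 = n9426 := d10_1 D19978 (iv6 D9426) D9425
def n19979 : Q := act 0 n9426
theorem D19979 : act 0 n9426 = n19979 := rfl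
def n19980 : Q := act 1 n9426
theorem D19980 : act 1 n9426 = n19980 := rfl
def n19981 : Q := act 7 n9426
theorem D19981 : act 7 n9426 = n19981 := rfl
theorem F31810 : act 3 n19981 = n9433 := d8_1 D19981 (iv7 D9433) (iv3 F14656)
theorem F31811 : act 5 n19981 = n19901 := d13_1 D19981 (iv7 D19901) F17013
def n19982 : Q := act 0 n9427
theorem D19982 : act 0 n9427 = n19982 := rfl
def n19983 : Q := act 2 n9427
theorem D19983 : act 2 n9427 = n19983 := rfl
def n19984 : Q := act 5 n9427
theorem D19984 : act 5 n9427 = n19984 := rfl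
theorem F31812 : act 3 n19984 = n9428 := d6_1 D19984 (iv5 D9428) D9427
theorem F31813 : act 2 n15111 = n19984 := d0_5 F31812 (iv2 F15183) F27046 (iv2 F22715) (iv3 F24725)
theorem F31814 : act 4 n19984 = n15107 := d1_2 (iv4 F24726) F31813 F24722
theorem F31815 : act 5 n19983 = n15111 := d2_0 F31813 (iv5 D19984) D19983
theorem F31816 : act 6 n19984 = n15105 := d3_2 D15111 F31813 F24720
def n19985 : Q := act 6 n9427
theorem D19985 : act 6 n9427 = n19985 := rfl
theorem F31817 : act 3 n19985 = n9429 := d7_1 D19985 (iv6 D9429) D9427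
def n19986 : Q := act 6 n9428
theorem D19986 : act 6 n9428 = n19986 := rfl
theorem F31818 : act 2 n19986 = n12116 := d3_1 D19986 F27049 F15183
theorem F31819 : act 3 n19986 = n15105 := d7_1 D19986 (iv6 F31816) F31812
def n19987 : Q := act 0 n9429
theorem D19987 : act 0 n9429 = n19987 := rfl
def n19988 : Q := act 1 n9429
theorem D19988 : act 1 n9429 = n19988 := rfl
def n19989 : Q := act 5 n9429
theorem D19989 : act 5 n9429 = n19989 := rfl
def n19990 : Q := act 7 n9429
theorem D19990 : act 7 n9429 = n19990 := rfl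
theorem F31820 : act 4 n19990 = n9433 := d11_1 D19990 (iv7 D9433) (iv4 F14657)
def n19994 : Q := act 5 n9430
theorem D19994 : act 5 n9430 = n19994 := rfl
def n19995 : Q := act 6 n9430
theorem D19995 : act 6 n9430 = n19995 := rfl
theorem F31822 : act 5 n19995 = n9727 := d21_6 (iv5 D1890) (iv1 F1842) (iv5 F7245) D4278 D9430 D19995 (iv1 D9727) F16837 (iv6 D4365) (iv1 F7283)
def n19999 : Q := act 5 n9431
theorem D19999 : act 5 n9431 = n19999 := rfl
theorem F31824 : act 6 n9726 = n19999 := d21_5 (iv5 D978) D975 F7056 D4395 D9726 (iv5 D19999) (iv1 D9431) F16782 (iv6 D4258) (iv1 F6917)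
def n20000 : Q := act 6 n9431
theorem D20000 : act 6 n9431 = n20000 := rfl
def n20001 : Q := act 0 n9434
theorem D20001 : act 0 n9434 = n20001 := rfl
theorem F31825 : act 5 n20001 = n16936 := d19_1 D20001 (iv4 F27770) (iv3 D7957) F10685 (iv5 F11590) (iv4 F24986) F26496 D18486 F29670 F16388 (iv3 F14276) F14278 (iv5 D4728) (iv4 D1958) D1957 F6542 D4452 (iv4 F7274) D9434
theorem F31826 : act 3 n16943 = n20001 := d6_3 F31825 (iv3 F27769) D16943
def n20002 : Q := act 1 n9434
theorem D20002 : act 1 n9434 = n20002 := rfl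
def n20003 : Q := act 2 n9434
theorem D20003 : act 2 n9434 = n20003 := rfl
def n20004 : Q := act 4 n9434
theorem D20004 : act 4 n9434 = n20004 := rfl
theorem F31827 : act 3 n20004 = n10958 := d5_1 D20004 F17803 F15462 (iv4 F7274) D9434
theorem F31828 : act 7 n20004 = n10687 := d11_2 F15207 D20004 (iv4 F17230)
theorem F31829 : act 2 n20004 = n10686 := d15_3 (iv0 D10686) D10687 (iv7 F31828)
theorem F31830 : act 4 n10686 = n20003 := d1_2 D20004 F31829 (iv2 D20003)
theorem F31831 : act 0 n20004 = n10602 := d20_4 F7234 F15466 (iv4 F17803) (iv3 F31827) (iv3 D10602) (iv4 D4851) (iv1 F3309) (iv4 F3320) F3319 D4083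
def n20005 : Q := act 5 n9434
theorem D20005 : act 5 n9434 = n20005 := rfl
theorem F31832 : act 3 n20005 = n9435 := d6_1 D20005 (iv5 D9435) D9434
def n20006 : Q := act 6 n9434
theorem D20006 : act 6 n9434 = n20006 := rfl
theorem F31833 : act 3 n20006 = n9436 := d7_1 D20006 (iv6 D9436) D9434
def n20007 : Q := act 6 n9435
theorem D20007 : act 6 n9435 = n20007 := rfl
theorem F31834 : act 2 n20007 = n12123 := d3_1 D20007 (iv6 F27048) F15214
theorem F31835 : act 4 n20007 = n19986 := d10_1 D20007 (iv6 D19986) (iv4 F14659)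
def n20008 : Q := act 0 n9436
theorem D20008 : act 0 n9436 = n20008 := rfl
def n20009 : Q := act 1 n9436
theorem D20009 : act 1 n9436 = n20009 := rfl
def n20010 : Q := act 5 n9436
theorem D20010 : act 5 n9436 = n20010 := rfl
def n20011 : Q := act 7 n9436
theorem D20011 : act 7 n9436 = n20011 := rfl
def n20012 : Q := act 1 n9437
theorem D20012 : act 1 n9437 = n20012 := rfl
theorem F31836 : act 7 n20012 = n16943 := d15_2 (iv0 F27051) D20012 F27781
theorem F31837 : act 2 n16946 = n20012 := d4_3 F31836 F27781 (iv7 F27788)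
theorem F31838 : act 5 n12857 = n20012 := d13_3 F31836 (iv5 D16943) (iv7 F21324)
def n20013 : Q := act 2 n9437
theorem D20013 : act 2 n9437 = n20013 := rfl
theorem F31839 : act 1 n20013 = n16946 := d15_0 (iv0 F27789) F15213 D20013
theorem F31840 : act 1 n16943 = n20013 := d15_0 F31839 F27788 (iv2 F27781)
def n20014 : Q := act 5 n9437
theorem D20014 : act 5 n9437 = n20014 := rfl
theorem F31841 : act 3 n20014 = n9438 := d6_1 D20014 (iv5 D9438) D9437
theorem F31842 : act 7 n20014 = n12125 := d13_2 F15213 D20014 (iv5 F27047)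
theorem F31843 : act 1 n20014 = n17406 := d17_8 (iv1 F20052) (iv5 F20228) F20229 (iv5 D7291) D7290 D15442 (iv0 F27051) D20014 (iv4 D17406)
theorem F31844 : act 1 n13862 = n20014 := d15_0 F31843 (iv7 F28417) F28415
def n20015 : Q := act 6 n9437
theorem D20015 : act 6 n9437 = n20015 := rfl
theorem F31845 : act 3 n20015 = n9439 := d7_1 D20015 (iv6 D9439) D9437
def n20016 : Q := act 6 n9438
theorem D20016 : act 6 n9438 = n20016 := rfl
theorem F31846 : act 4 n20016 = n19958 := d10_1 D20016 (iv6 D19958) (iv4 F14661)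
def n20017 : Q := act 0 n9439
theorem D20017 : act 0 n9439 = n20017 := rfl
def n20018 : Q := act 1 n9439
theorem D20018 : act 1 n9439 = n20018 := rfl
def n20019 : Q := act 5 n9439
theorem D20019 : act 5 n9439 = n20019 := rfl
def n20020 : Q := act 7 n9439
theorem D20020 : act 7 n9439 = n20020 := rfl
def n20021 : Q := act 3 n9440
theorem D20021 : act 3 n9440 = n20021 := rfl
theorem F31847 : act 2 n20021 = n16938 := d0_1 D20021 F27776 (iv2 F27689) F27690 F15228
theorem F31848 : act 5 n20021 = n9944 := d6_2 (iv5 F14663) D20021 (iv3 D9944)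
theorem F31849 : act 7 n20021 = n16930 := d8_2 F15223 D20021 F27764
theorem F31850 : act 4 n17002 = n20021 := d11_3 F31849 F27765 D17002
theorem F31851 : act 6 n16917 = n20021 := d14_5 F31849 (iv6 D16930) (iv7 F21470) (iv6 F26660) (iv7 F27725)
theorem F31852 : act 1 n16936 = n20021 := d15_1 D16936 F31849 F27763
theorem F31853 : act 4 n19907 = n12781 := d5_4 F31850 (iv3 D20021) (iv4 F14664) (iv3 F31743) (iv3 F27866)
theorem F31854 : act 6 n12779 = n19907 := d10_0 F31853 (iv6 D12781) D12779
theorem F31855 : act 3 n19909 = n12779 := d7_3 F31854 F31743 D19909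
theorem F31856 : act 1 n20021 = n16935 := d15_0 (iv0 D16935) D16938 (iv2 F31847)
def n20022 : Q := act 6 n9440
theorem D20022 : act 6 n9440 = n20022 := rfl
theorem F31857 : act 3 n20022 = n16917 := d7_1 D20022 F31851 (iv3 D20021)
theorem F31858 : act 4 n20022 = n19909 := d10_1 D20022 (iv6 D19909) F14664
def n20023 : Q := act 3 n9442
theorem D20023 : act 3 n9442 = n20023 := rfl
theorem F31859 : act 2 n20023 = n19924 := d0_1 D20023 F31749 F14614 (iv3 F6337) (iv2 F14667)
theorem F31860 : act 4 n20023 = n19924 := d5_2 D9442 D20023 F31749 F14615 F6337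
theorem F31861 : act 5 n20023 = n9711 := d6_2 (iv5 F14669) D20023 (iv3 D9711)
theorem F31862 : act 7 n20023 = n19924 := d8_2 (iv7 F14668) D20023 F31749
def n20024 : Q := act 6 n9442
theorem D20024 : act 6 n9442 = n20024 := rfl
theorem F31863 : act 2 n20024 = n9745 := d3_1 D20024 (iv6 D9745) (iv2 F14667)
theorem F31864 : act 4 n20024 = n9443 := d10_1 D20024 (iv6 D9443) D9442
def n20025 : Q := act 0 n9443
theorem D20025 : act 0 n9443 = n20025 := rfl
def n20026 : Q := act 1 n9443
theorem D20026 : act 1 n9443 = n20026 := rfl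
def n20027 : Q := act 5 n9443
theorem D20027 : act 5 n9443 = n20027 := rfl
theorem F31865 : act 6 n20027 = n9446 := d12_2 D9443 D20027 (iv5 D9446) (iv6 D4282) D4281
def n20028 : Q := act 7 n9443
theorem D20028 : act 7 n9443 = n20028 := rfl
def n20029 : Q := act 2 n9444
theorem D20029 : act 2 n9444 = n20029 := rfl
theorem F31866 : act 7 n9445 = n20029 := d15_2 (iv0 D9444) D9445 (iv2 D20029)
def n20030 : Q := act 3 n9444
theorem D20030 : act 3 n9444 = n20030 := rfl
def n20031 : Q := act 4 n9444
theorem D20031 : act 4 n9444 = n20031 := rfl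
def n20032 : Q := act 5 n9444
theorem D20032 : act 5 n9444 = n20032 := rfl
def n20033 : Q := act 6 n9444
theorem D20033 : act 6 n9444 = n20033 := rfl
def n20034 : Q := act 7 n9444
theorem D20034 : act 7 n9444 = n20034 := rfl
theorem F31867 : act 2 n20034 = n9445 := d4_1 D20034 F31866 (iv2 D20029)
def n20035 : Q := act 3 n9445
theorem D20035 : act 3 n9445 = n20035 := rfl
def n20036 : Q := act 4 n9445
theorem D20036 : act 4 n9445 = n20036 := rfl
theorem F31868 : act 3 n10851 = n20036 := d20_5 F14798 (iv1 F3347) F3345 (iv3 F7375) (iv1 F17644) (iv4 D20036) (iv1 D9445) F6182 F3076 D1821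
def n20037 : Q := act 5 n9445
theorem D20037 : act 5 n9445 = n20037 := rfl
def n20038 : Q := act 6 n9445
theorem D20038 : act 6 n9445 = n20038 := rfl
def n20039 : Q := act 0 n9446
theorem D20039 : act 0 n9446 = n20039 := rfl
def n20040 : Q := act 1 n9446
theorem D20040 : act 1 n9446 = n20040 := rfl
def n20041 : Q := act 4 n9446
theorem D20041 : act 4 n9446 = n20041 := rfl
def n20042 : Q := act 7 n9446
theorem D20042 : act 7 n9446 = n20042 := rfl
theorem F31869 : act 5 n20042 = n9447 := d13_1 D20042 (iv7 D9447) D9446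
def n20045 : Q := act 3 n9448
theorem D20045 : act 3 n9448 = n20045 := rfl
theorem F31872 : act 7 n20045 = n9454 := d8_2 F14673 D20045 (iv3 D9454)
def n20046 : Q := act 4 n9448
theorem D20046 : act 4 n9448 = n20046 := rfl
theorem F31873 : act 2 n20046 = n9450 := d1_1 D20046 (iv4 D9450) D9448
theorem F31874 : act 7 n20046 = n9455 := d11_2 F14673 D20046 (iv4 D9455)
def n20047 : Q := act 5 n9448
theorem D20047 : act 5 n9448 = n20047 := rfl
theorem F31875 : act 2 n20047 = n9451 := d2_1 D20047 (iv5 D9451) D9448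
theorem F31876 : act 7 n20047 = n9456 := d13_2 F14673 D20047 (iv5 D9456)
def n20048 : Q := act 6 n9448
theorem D20048 : act 6 n9448 = n20048 := rfl
theorem F31877 : act 2 n20048 = n9452 := d3_1 D20048 (iv6 D9452) D9448
def n20049 : Q := act 0 n9449
theorem D20049 : act 0 n9449 = n20049 := rfl
def n20050 : Q := act 1 n9449
theorem D20050 : act 1 n9449 = n20050 := rfl
def n20051 : Q := act 2 n9449
theorem D20051 : act 2 n9449 = n20051 := rfl
def n20052 : Q := act 4 n9449
theorem D20052 : act 4 n9449 = n20052 := rfl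
theorem F31878 : act 0 n20052 = n10863 := d20_7 (iv4 F14810) (iv1 D1857) F1823 (iv3 F3076) D4283 D9449 D20052 F17655 F7375 (iv1 F3331)
theorem F31879 : act 0 n10849 = n20052 := d20_1 (iv4 F17642) (iv4 D20052) (iv3 D9449) (iv1 F14626) F14623 (iv4 F31757) (iv1 F31759) D20036 (iv3 F31868) (iv1 D10851)
def n20053 : Q := act 5 n9449
theorem D20053 : act 5 n9449 = n20053 := rfl
theorem F31880 : act 3 n20053 = n9451 := d6_1 D20053 (iv5 D9451) D9449
def n20054 : Q := act 6 n9449
theorem D20054 : act 6 n9449 = n20054 := rfl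
theorem F31881 : act 3 n20054 = n9452 := d7_1 D20054 (iv6 D9452) D9449
def n20055 : Q := act 7 n9449
theorem D20055 : act 7 n9449 = n20055 := rfl
theorem F31882 : act 3 n20055 = n9453 := d8_1 D20055 (iv7 D9453) D9449
def n20056 : Q := act 0 n9450
theorem D20056 : act 0 n9450 = n20056 := rfl
def n20057 : Q := act 1 n9450
theorem D20057 : act 1 n9450 = n20057 := rfl
theorem F31883 : act 1 n20057 = n9455 := d15_1 D20057 (iv7 F31874) F31873
def n20058 : Q := act 3 n9450
theorem D20058 : act 3 n9450 = n20058 := rfl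
def n20059 : Q := act 5 n9450
theorem D20059 : act 5 n9450 = n20059 := rfl
def n20060 : Q := act 6 n9450
theorem D20060 : act 6 n9450 = n20060 := rfl
theorem F31884 : act 4 n20060 = n9452 := d10_1 D20060 (iv6 D9452) D9450
def n20061 : Q := act 7 n9450
theorem D20061 : act 7 n9450 = n20061 := rfl
theorem F31885 : act 2 n20061 = n9455 := d4_1 D20061 (iv7 F31874) F31873
theorem F31886 : act 4 n20061 = n9453 := d11_1 D20061 (iv7 D9453) D9450
theorem F31887 : act 1 n9455 = n20056 := d15_0 (iv0 D20056) D20061 F31885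
def n20062 : Q := act 0 n9451
theorem D20062 : act 0 n9451 = n20062 := rfl
theorem F31888 : act 5 n20062 = n19922 := d21_2 D9451 D20062 (iv6 D19922) (iv1 D9381) (iv6 D4258) (iv5 D1809) (iv1 D947) D949 D1816 D4283
theorem F31889 : act 6 n19880 = n20062 := d12_0 F31888 (iv6 D19922) (iv5 F31721) (iv6 D19881) D19880
theorem F31890 : act 0 n20062 = n9456 := d21_10 (iv5 D9456) (iv1 D4284) D4285 F6184 (iv1 F16823) (iv6 F14578) (iv5 D9358) D9356 D19880 F31889
def n20063 : Q := act 1 n9451
theorem D20063 : act 1 n9451 = n20063 := rfl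
theorem F31891 : act 1 n20063 = n9456 := d15_1 D20063 (iv7 F31876) F31875
def n20064 : Q := act 4 n9451
theorem D20064 : act 4 n9451 = n20064 := rfl
def n20065 : Q := act 6 n9451
theorem D20065 : act 6 n9451 = n20065 := rfl
def n20066 : Q := act 7 n9451
theorem D20066 : act 7 n9451 = n20066 := rfl
theorem F31892 : act 2 n20066 = n9456 := d4_1 D20066 (iv7 F31876) F31875
theorem F31893 : act 5 n20066 = n9453 := d13_1 D20066 (iv7 D9453) D9451
def n20067 : Q := act 0 n9452
theorem D20067 : act 0 n9452 = n20067 := rfl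
def n20068 : Q := act 1 n9452
theorem D20068 : act 1 n9452 = n20068 := rfl
theorem F31894 : act 6 n19994 = n20068 := d21_3 (iv5 F16782) D9430 D19994 (iv1 D20068) (iv6 D9452) D9451 D20062 F31888 (iv6 D19922) (iv1 D9381)
def n20069 : Q := act 7 n9452
theorem D20069 : act 7 n9452 = n20069 := rfl
def n20070 : Q := act 6 n9453
theorem D20070 : act 6 n9453 = n20070 := rfl
theorem F31895 : act 2 n20070 = n9457 := d3_1 D20070 (iv6 D9457) (iv2 F14674)
def n20071 : Q := act 0 n9454
theorem D20071 : act 0 n9454 = n20071 := rfl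
def n20072 : Q := act 1 n9454
theorem D20072 : act 1 n9454 = n20072 := rfl
def n20073 : Q := act 2 n9454
theorem D20073 : act 2 n9454 = n20073 := rfl
def n20074 : Q := act 4 n9454
theorem D20074 : act 4 n9454 = n20074 := rfl
def n20075 : Q := act 5 n9454
theorem D20075 : act 5 n9454 = n20075 := rfl
theorem F31896 : act 3 n20075 = n9456 := d6_1 D20075 (iv5 D9456) D9454
def n20076 : Q := act 6 n9454
theorem D20076 : act 6 n9454 = n20076 := rfl
theorem F31897 : act 3 n20076 = n9457 := d7_1 D20076 (iv6 D9457) D9454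
def n20077 : Q := act 3 n9455
theorem D20077 : act 3 n9455 = n20077 := rfl
def n20078 : Q := act 5 n9455
theorem D20078 : act 5 n9455 = n20078 := rfl
def n20079 : Q := act 6 n9455
theorem D20079 : act 6 n9455 = n20079 := rfl
theorem F31898 : act 4 n20079 = n9457 := d10_1 D20079 (iv6 D9457) D9455
def n20080 : Q := act 4 n9456
theorem D20080 : act 4 n9456 = n20080 := rfl
def n20081 : Q := act 6 n9456
theorem D20081 : act 6 n9456 = n20081 := rfl
theorem F31899 : act 0 n19892 = n20081 := d21_4 (iv5 D4247) D4245 D9360 D19892 (iv6 D20081) (iv5 D9456) (iv1 D4284) D4285 F6184 (iv1 F16823)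
def n20082 : Q := act 0 n9457
theorem D20082 : act 0 n9457 = n20082 := rfl
def n20083 : Q := act 1 n9457
theorem D20083 : act 1 n9457 = n20083 := rfl
def n20084 : Q := act 5 n9457
theorem D20084 : act 5 n9457 = n20084 := rfl
theorem F31900 : act 0 n19880 = n20084 := d21_1 D19880 (iv5 D20084) (iv6 D9457) (iv1 D4284) (iv6 D1816) (iv5 D949) D946 D1804 D4243 D9356
def n20085 : Q := act 7 n9457
theorem D20085 : act 7 n9457 = n20085 := rfl
def n20086 : Q := act 2 n9458
theorem D20086 : act 2 n9458 = n20086 := rfl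
theorem F31901 : act 7 n9459 = n20086 := d15_2 (iv0 D9458) D9459 (iv2 D20086)
def n20087 : Q := act 3 n9458
theorem D20087 : act 3 n9458 = n20087 := rfl
def n20088 : Q := act 4 n9458
theorem D20088 : act 4 n9458 = n20088 := rfl
def n20089 : Q := act 5 n9458
theorem D20089 : act 5 n9458 = n20089 := rfl
def n20090 : Q := act 6 n9458
theorem D20090 : act 6 n9458 = n20090 := rfl
theorem F31902 : act 5 n20090 = n9714 := d21_6 (iv5 D4295) (iv1 D1818) D1819 (iv6 F6184) D9458 D20090 (iv1 D9714) D9715 F15162 (iv1 F16827)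
def n20091 : Q := act 7 n9458
theorem D20091 : act 7 n9458 = n20091 := rfl
theorem F31903 : act 2 n20091 = n9459 := d4_1 D20091 F31901 (iv2 D20086)
def n20092 : Q := act 3 n9459
theorem D20092 : act 3 n9459 = n20092 := rfl
def n20093 : Q := act 4 n9459
theorem D20093 : act 4 n9459 = n20093 := rfl
def n20094 : Q := act 5 n9459
theorem D20094 : act 5 n9459 = n20094 := rfl
theorem F31904 : act 6 n20094 = n9939 := d21_3 (iv5 F31772) (iv1 F31774) D20094 (iv1 F15677) F6608 F6514 (iv1 F15519) (iv5 F15520) (iv6 D9452) (iv1 F14626)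
def n20095 : Q := act 6 n9459
theorem D20095 : act 6 n9459 = n20095 := rfl
def n20096 : Q := act 0 n9460
theorem D20096 : act 0 n9460 = n20096 := rfl
def n20097 : Q := act 1 n9460
theorem D20097 : act 1 n9460 = n20097 := rfl
def n20098 : Q := act 3 n9460
theorem D20098 : act 3 n9460 = n20098 := rfl
theorem F31906 : act 6 n20098 = n9504 := d7_2 (iv6 F14675) D20098 (iv3 D9504)
def n20099 : Q := act 5 n9460
theorem D20099 : act 5 n9460 = n20099 := rfl
def n20100 : Q := act 7 n9460
theorem D20100 : act 7 n9460 = n20100 := rfl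
theorem F31907 : act 4 n20100 = n9461 := d11_1 D20100 (iv7 D9461) D9460
def n20101 : Q := act 6 n9461
theorem D20101 : act 6 n9461 = n20101 := rfl
theorem F31908 : act 3 n20101 = n9559 := d7_1 D20101 (iv6 D9559) (iv3 F14676)
theorem F31909 : act 7 n20101 = n9507 := d14_2 D9461 D20101 (iv6 D9507) (iv7 D4300) (iv6 F6184)
def n20102 : Q := act 5 n9470
theorem D20102 : act 5 n9470 = n20102 := rfl
theorem F31910 : act 2 n20102 = n9472 := d2_1 D20102 (iv5 D9472) D9470
theorem F31911 : act 1 n20102 = n19411 := d17_6 F13814 D11084 F27362 (iv5 D16694) F14735 D20102 (iv5 D19411) F16923 (iv4 F13812)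
theorem F31912 : act 0 n20102 = n19857 := d21_1 D20102 (iv5 D19857) (iv6 F14554) (iv1 D4353) (iv6 F16762) (iv5 F7052) (iv1 F13247) F7421 D9329 F30731
theorem F31913 : act 1 n19411 = n9770 := d15_1 F31911 (iv7 F16953) (iv2 F31910)
def n20103 : Q := act 1 n9472
theorem D20103 : act 1 n9472 = n20103 := rfl
theorem F31914 : act 7 n20103 = n19857 := d15_2 (iv0 F30579) D20103 F31689
theorem F31915 : act 5 n20103 = n9831 := d18_9 (iv1 D9831) (iv4 F6771) F16846 F5866 D4018 D8996 D19145 (iv4 F30765) D20103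
theorem F31916 : act 2 n19411 = n20103 := d2_3 F31915 (iv2 F16921) D19411
def n20104 : Q := act 6 n9472
theorem D20104 : act 6 n9472 = n20104 := rfl
theorem F31917 : act 3 n20104 = n9484 := d7_1 D20104 (iv6 D9484) (iv3 F14688)
def n20105 : Q := act 5 n9477
theorem D20105 : act 5 n9477 = n20105 := rfl
theorem F31918 : act 2 n20105 = n19141 := d2_1 D20105 F30759 F17582
theorem F31919 : act 3 n20105 = n9478 := d6_1 D20105 (iv5 D9478) D9477
theorem F31920 : act 7 n20105 = n19482 := d13_2 F17581 D20105 (iv5 D19482)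
theorem F31921 : act 0 n20105 = n10831 := d21_1 D20105 (iv5 D10831) F7355 (iv1 F12148) (iv6 F16764) D4598 (iv1 F7335) F7235 D9153 (iv1 F17588)
def n20106 : Q := act 4 n9478
theorem D20106 : act 4 n9478 = n20106 := rfl
theorem F31923 : act 7 n20106 = n9778 := d11_2 F31245 D20106 F31246
theorem F31924 : act 0 n20106 = n9719 := d18_2 F17384 D20106 (iv4 D9719) (iv5 D4389) F3135 (iv0 F16780) (iv4 F6375) F16833 D10836
def n20107 : Q := act 6 n9478
theorem D20107 : act 6 n9478 = n20107 := rfl
def n20108 : Q := act 1 n9483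
theorem D20108 : act 1 n9483 = n20108 := rfl
theorem F31926 : act 1 n20108 = n9494 := d15_1 D20108 F16959 F16960
theorem F31927 : act 4 n20108 = n19864 := d18_7 (iv1 F17578) F15059 F17400 (iv4 D4289) D4290 D9483 D20108 F31705 F31242
def n20109 : Q := act 3 n9483
theorem D20109 : act 3 n9483 = n20109 := rfl
def n20110 : Q := act 5 n9483
theorem D20110 : act 5 n9483 = n20110 := rfl
def n20111 : Q := act 6 n9483
theorem D20111 : act 6 n9483 = n20111 := rfl
theorem F31928 : act 4 n20111 = n9484 := d10_1 D20111 (iv6 D9484) D9483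
def n20112 : Q := act 0 n9484
theorem D20112 : act 0 n9484 = n20112 := rfl
def n20113 : Q := act 1 n9484
theorem D20113 : act 1 n9484 = n20113 := rfl
def n20114 : Q := act 7 n9484
theorem D20114 : act 7 n9484 = n20114 := rfl
def n20115 : Q := act 5 n9490
theorem D20115 : act 5 n9490 = n20115 := rfl
theorem F31929 : act 2 n20115 = n9492 := d2_1 D20115 (iv5 D9492) D9490
theorem F31930 : act 0 n20115 = n18466 := d17_2 (iv1 F27438) D20115 (iv5 D18466) (iv4 D8683) D8684 (iv0 F28330) (iv5 D17375) (iv0 F17486) (iv4 F27436)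
theorem F31931 : act 1 n20115 = n18463 := d17_6 (iv1 F16821) D9188 F31224 (iv5 D19499) F17591 D20115 (iv5 D18463) (iv0 F14568) (iv4 F16778)
theorem F31932 : act 4 n20115 = n19517 := d18_5 (iv1 F17457) D9646 (iv1 F17589) F17591 D20115 (iv0 D19517) (iv4 D9190) (iv0 F14317) (iv5 D9174)
def n20116 : Q := act 5 n9491
theorem D20116 : act 5 n9491 = n20116 := rfl
theorem F31933 : act 2 n20116 = n19499 := d2_1 D20116 (iv5 D19499) (iv2 F17590)
theorem F31934 : act 7 n20116 = n19498 := d13_2 (iv7 F17569) D20116 (iv5 D19498)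
theorem F31935 : act 0 n20116 = n10837 := d17_2 F17492 D20116 (iv5 D10837) (iv4 D4941) D4942 (iv0 F17507) (iv5 D9649) F17462 (iv4 F14313)
theorem F31936 : act 1 n20116 = n10833 := d17_6 F16786 D16729 F27459 (iv5 D9492) D9491 D20116 (iv5 D10833) F14285 F16801
def n20117 : Q := act 0 n9492
theorem D20117 : act 0 n9492 = n20117 := rfl
theorem F31937 : act 5 n20117 = n9697 := d17_3 (iv1 D9489) D9492 D20117 F15130 D16789 F27555 (iv5 D8140) D8138 (iv4 F17543)
theorem F31938 : act 2 n18466 = n20117 := d15_3 (iv0 D20117) (iv0 F27459) (iv7 F29649)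
theorem F31939 : act 3 n20117 = n20103 := d0_2 (iv3 F29648) F31938 (iv2 F31916) F31071 (iv2 F14533)
theorem F31940 : act 7 n20117 = n18463 := d4_2 (iv7 F29649) F31938 F29643
def n20118 : Q := act 4 n9492
theorem D20118 : act 4 n9492 = n20118 := rfl
theorem F31941 : act 2 n20118 = n19517 := d1_1 D20118 (iv4 F31932) F31929
theorem F31942 : act 7 n20118 = n19518 := d11_2 (iv7 F16958) D20118 F31252
theorem F31943 : act 0 n20118 = n10838 := d18_2 F27459 D20118 (iv4 D10838) (iv5 D4942) D4941 (iv0 F14287) F14283 (iv0 F13381) D16729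
theorem F31944 : act 1 n20118 = n10835 := d18_6 (iv1 F17448) (iv4 F14313) F17492 (iv4 D9491) D9492 D20118 (iv4 D10835) F17493 (iv5 D4337)
def n20119 : Q := act 6 n9492
theorem D20119 : act 6 n9492 = n20119 := rfl
theorem F31945 : act 3 n20119 = n9495 := d7_1 D20119 (iv6 D9495) (iv3 F14754)
theorem F31946 : act 5 n20119 = n20119 := d12_1 D20119 (iv6 D20119) (iv5 D9492) F14703 D9492
def n20120 : Q := act 4 n9493
theorem D20120 : act 4 n9493 = n20120 := rfl
theorem F31947 : act 2 n20120 = n9778 := d1_1 D20120 F31246 (iv2 F31243)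
theorem F31948 : act 7 n20120 = n9779 := d11_2 F30716 D20120 (iv4 F30719)
theorem F31949 : act 0 n20120 = n9782 := d18_2 F31240 D20120 F15252 F6348 F3143 F7286 (iv4 F6316) (iv0 F14328) D19509
theorem F31950 : act 1 n20120 = n9719 := d18_6 (iv1 F6179) F6176 (iv1 F6178) D4294 D9493 D20120 (iv4 D9719) (iv0 F16825) (iv5 D4290)
def n20121 : Q := act 6 n9493
theorem D20121 : act 6 n9493 = n20121 := rfl
theorem F31951 : act 3 n20121 = n19140 := d7_1 D20121 (iv6 D19140) (iv3 F16903)
def n20122 : Q := act 3 n9494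
theorem D20122 : act 3 n9494 = n20122 := rfl
def n20123 : Q := act 5 n9494
theorem D20123 : act 5 n9494 = n20123 := rfl
def n20124 : Q := act 6 n9494
theorem D20124 : act 6 n9494 = n20124 := rfl
theorem F31953 : act 4 n20124 = n9495 := d10_1 D20124 (iv6 D9495) D9494
def n20125 : Q := act 0 n9495
theorem D20125 : act 0 n9495 = n20125 := rfl
theorem F31954 : act 6 n20125 = n19885 := d21_5 F16853 (iv1 F6178) D4295 D9495 D20125 (iv5 D19885) (iv1 D9357) D9358 F14578 D9361
def n20126 : Q := act 1 n9495
theorem D20126 : act 1 n9495 = n20126 := rfl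
def n20127 : Q := act 7 n9495
theorem D20127 : act 7 n9495 = n20127 := rfl
def n20128 : Q := act 4 n9499
theorem D20128 : act 4 n9499 = n20128 := rfl
theorem F31956 : act 2 n20128 = n19504 := d1_1 D20128 (iv4 F31235) F29312
theorem F31957 : act 7 n20128 = n19503 := d11_2 (iv7 F16791) D20128 F31232
theorem F31958 : act 0 n20128 = n19477 := d18_2 (iv1 F31647) D20128 (iv4 D19477) (iv5 D9150) (iv4 F14251) F17596 (iv4 D9491) D9489 (iv5 F31644)
theorem F31959 : act 1 n20128 = n19507 := d18_6 D4182 D9251 F16822 F16778 (iv5 F16790) D20128 F31237 F14325 (iv5 D4184)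
def n20129 : Q := act 6 n9499
theorem D20129 : act 6 n9499 = n20129 := rfl
theorem F31960 : act 3 n20129 = n9501 := d7_1 D20129 (iv6 D9501) D9499
theorem F31961 : act 5 n20129 = n9730 := d12_1 D20129 (iv6 D9730) F7060 (iv6 F16757) (iv5 F16790)
def n20130 : Q := act 3 n9500
theorem D20130 : act 3 n9500 = n20130 := rfl
def n20131 : Q := act 5 n9500
theorem D20131 : act 5 n9500 = n20131 := rfl
def n20132 : Q := act 6 n9500
theorem D20132 : act 6 n9500 = n20132 := rfl
theorem F31962 : act 2 n20132 = n19975 := d3_1 D20132 F31803 F15477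
theorem F31963 : act 4 n20132 = n9501 := d10_1 D20132 (iv6 D9501) D9500
def n20133 : Q := act 0 n9501
theorem D20133 : act 0 n9501 = n20133 := rfl
def n20134 : Q := act 1 n9501
theorem D20134 : act 1 n9501 = n20134 := rfl
theorem F31964 : act 1 n20134 = n19976 := d15_1 D20134 (iv7 D19976) (iv2 F14757)
def n20135 : Q := act 7 n9501
theorem D20135 : act 7 n9501 = n20135 := rfl
theorem F31965 : act 2 n20135 = n19976 := d4_1 D20135 (iv7 D19976) (iv2 F14757)
theorem F31966 : act 5 n20135 = n9736 := d13_1 D20135 (iv7 D9736) (iv5 F14758)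
theorem F31967 : act 1 n19976 = n20133 := d15_0 (iv0 D20133) D20135 F31965
theorem F31968 : act 1 n19974 = n20135 := d15_1 D19974 (iv7 D20135) F14757
theorem F31969 : act 1 n20135 = n19973 := d15_0 (iv0 D19973) D19976 (iv2 F31965)
def n20136 : Q := act 3 n9502
theorem D20136 : act 3 n9502 = n20136 := rfl
def n20137 : Q := act 5 n9502
theorem D20137 : act 5 n9502 = n20137 := rfl
theorem F31970 : act 4 n20137 = n20131 := d16_2 F16968 D20137 (iv5 D20131) (iv4 D9500) F16828 D4416 D9766 F15247 F15136
theorem F31971 : act 1 n20137 = n9781 := d17_6 F30717 (iv5 D9185) (iv1 F14334) D9350 F16968 D20137 (iv5 D9781) D9779 (iv4 F30719)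
def n20138 : Q := act 6 n9502
theorem D20138 : act 6 n9502 = n20138 := rfl
theorem F31972 : act 4 n20138 = n19862 := d10_1 D20138 F31701 F16968
def n20139 : Q := act 3 n9503
theorem D20139 : act 3 n9503 = n20139 := rfl
def n20140 : Q := act 5 n9503
theorem D20140 : act 5 n9503 = n20140 := rfl
theorem F31973 : act 4 n20140 = n19898 := d9_1 D20140 (iv5 D19898) (iv4 D9363) (iv5 D4247) (iv4 F6148) D9350 F16968 D20137 F31970 (iv5 D20131) (iv4 D9500) F16828 D4416 D9766 F16850
theorem F31974 : act 0 n20140 = n9781 := d17_2 F31733 D20140 (iv5 D9781) (iv4 D4421) (iv5 D1854) D1853 (iv5 F16828) (iv0 F16851) D19893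
def n20141 : Q := act 6 n9503
theorem D20141 : act 6 n9503 = n20141 := rfl
def n20142 : Q := act 0 n9504
theorem D20142 : act 0 n9504 = n20142 := rfl
def n20143 : Q := act 1 n9504
theorem D20143 : act 1 n9504 = n20143 := rfl
def n20144 : Q := act 2 n9504
theorem D20144 : act 2 n9504 = n20144 := rfl
theorem F31975 : act 4 n20144 = n9606 := d1_2 (iv4 F14759) D20144 (iv2 D9606)
def n20145 : Q := act 5 n9504
theorem D20145 : act 5 n9504 = n20145 := rfl
theorem F31976 : act 3 n20145 = n9505 := d6_1 D20145 (iv5 D9505) D9504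
def n20146 : Q := act 7 n9504
theorem D20146 : act 7 n9504 = n20146 := rfl
theorem F31977 : act 3 n20146 = n9506 := d8_1 D20146 (iv7 D9506) D9504
theorem F31978 : act 4 n20146 = n9608 := d11_1 D20146 (iv7 D9608) (iv4 F14759)
def n20147 : Q := act 0 n9505
theorem D20147 : act 0 n9505 = n20147 := rfl
theorem F31979 : act 5 n20147 = n20106 := d17_3 (iv1 D9503) D9505 D20147 (iv4 D20106) (iv5 D9478) (iv0 F17400) D19475 (iv0 F31146) F16850
theorem F31980 : act 4 n20123 = n20147 := d16_2 D9494 D20123 F31979 (iv4 D20106) (iv5 D9478) (iv4 D4289) D4290 (iv7 F16864) F16862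
def n20148 : Q := act 1 n9505
theorem D20148 : act 1 n9505 = n20148 := rfl
theorem F31981 : act 5 n20148 = n20120 := d17_7 (iv1 F16827) (iv5 D4295) (iv1 D1818) D1819 D4299 D9505 D20148 F31950 (iv4 D9719)
theorem F31982 : act 4 n20110 = n20148 := d9_15 F31981 (iv4 D20120) (iv5 D9493) (iv4 D4294) D4295 D9494 D20123 F31980 F31979 (iv4 D20106) (iv5 D9478) (iv4 D4289) D4290 D9483 D20110
def n20149 : Q := act 4 n9505
theorem D20149 : act 4 n9505 = n20149 := rfl
theorem F31983 : act 5 n20149 = n19893 := d16_3 D4299 D9505 D20149 (iv4 D19893) F16853 F6176 (iv5 F16853) F16854 F6172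
theorem F31984 : act 0 n20149 = n20148 := d18_2 (iv1 D20148) D20149 (iv4 F31982) (iv5 D20110) (iv4 D9483) (iv0 F16839) (iv4 F15252) (iv0 F31949) (iv5 F31981)
theorem F31985 : act 1 n20149 = n20147 := d18_8 F31924 (iv4 D9719) (iv1 F16827) D9494 D20123 F31980 (iv0 D20147) D20149 F31979
theorem F31986 : act 7 n20149 = n19947 := d15_2 D20148 (iv0 F31984) F31785
def n20150 : Q := act 6 n9505
theorem D20150 : act 6 n9505 = n20150 := rfl
def n20151 : Q := act 7 n9505
theorem D20151 : act 7 n9505 = n20151 := rfl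
theorem F31987 : act 2 n20151 = n20149 := d4_1 D20151 F31986 F31785
theorem F31988 : act 4 n20151 = n19947 := d11_1 D20151 (iv7 F31986) (iv4 D20149)
theorem F31989 : act 5 n20151 = n9506 := d13_1 D20151 (iv7 D9506) D9505
def n20152 : Q := act 6 n9506
theorem D20152 : act 6 n9506 = n20152 := rfl
theorem F31990 : act 4 n20152 = n9507 := d10_1 D20152 (iv6 D9507) (iv4 F14760)
def n20153 : Q := act 0 n9507
theorem D20153 : act 0 n9507 = n20153 := rfl
def n20154 : Q := act 1 n9507
theorem D20154 : act 1 n9507 = n20154 := rfl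
def n20155 : Q := act 2 n9514
theorem D20155 : act 2 n9514 = n20155 := rfl
theorem F31991 : act 7 n9515 = n20155 := d15_2 (iv0 D9514) D9515 (iv2 D20155)
def n20156 : Q := act 3 n9514
theorem D20156 : act 3 n9514 = n20156 := rfl
def n20157 : Q := act 4 n9514
theorem D20157 : act 4 n9514 = n20157 := rfl
def n20158 : Q := act 5 n9514
theorem D20158 : act 5 n9514 = n20158 := rfl
def n20159 : Q := act 6 n9514
theorem D20159 : act 6 n9514 = n20159 := rfl
def n20160 : Q := act 7 n9514
theorem D20160 : act 7 n9514 = n20160 := rfl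
def n20161 : Q := act 3 n9515
theorem D20161 : act 3 n9515 = n20161 := rfl
def n20162 : Q := act 4 n9515
theorem D20162 : act 4 n9515 = n20162 := rfl
def n20163 : Q := act 5 n9515
theorem D20163 : act 5 n9515 = n20163 := rfl
def n20165 : Q := act 4 n9516
theorem D20165 : act 4 n9516 = n20165 := rfl
theorem F31993 : act 2 n20165 = n9517 := d1_1 D20165 (iv4 D9517) D9516
def n20166 : Q := act 5 n9516
theorem D20166 : act 5 n9516 = n20166 := rfl
theorem F31994 : act 2 n20166 = n9518 := d2_1 D20166 (iv5 D9518) D9516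
def n20167 : Q := act 6 n9516
theorem D20167 : act 6 n9516 = n20167 := rfl
theorem F31996 : act 2 n20167 = n9519 := d3_1 D20167 (iv6 D9519) D9516
theorem F31998 : act 5 n9903 = n20167 := d2_0 F31996 (iv5 F14774) D9903
def n20168 : Q := act 0 n9517
theorem D20168 : act 0 n9517 = n20168 := rfl
def n20169 : Q := act 1 n9517
theorem D20169 : act 1 n9517 = n20169 := rfl
def n20170 : Q := act 5 n9517
theorem D20170 : act 5 n9517 = n20170 := rfl
def n20171 : Q := act 6 n9517
theorem D20171 : act 6 n9517 = n20171 := rfl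
theorem F31999 : act 4 n20171 = n9519 := d10_1 D20171 (iv6 D9519) D9517
def n20172 : Q := act 0 n9518
theorem D20172 : act 0 n9518 = n20172 := rfl
def n20173 : Q := act 1 n9518
theorem D20173 : act 1 n9518 = n20173 := rfl
def n20174 : Q := act 4 n9518
theorem D20174 : act 4 n9518 = n20174 := rfl
def n20175 : Q := act 6 n9518
theorem D20175 : act 6 n9518 = n20175 := rfl
theorem F32000 : act 3 n20175 = n9530 := d7_1 D20175 (iv6 D9530) (iv3 F14772)
theorem F32001 : act 5 n20175 = n9905 := d12_1 D20175 (iv6 D9905) F14774 (iv6 D9519) D9518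
def n20176 : Q := act 0 n9519
theorem D20176 : act 0 n9519 = n20176 := rfl
def n20177 : Q := act 1 n9519
theorem D20177 : act 1 n9519 = n20177 := rfl
def n20178 : Q := act 3 n9527
theorem D20178 : act 3 n9527 = n20178 := rfl
theorem F32002 : act 5 n20178 = n19112 := d6_2 (iv5 F14781) D20178 F30704
theorem F32003 : act 6 n20178 = n19740 := d7_2 F14782 D20178 F31496
def n20179 : Q := act 4 n9527
theorem D20179 : act 4 n9527 = n20179 := rfl
theorem F32005 : act 6 n20179 = n19741 := d10_2 F14782 D20179 (iv4 D19741)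
theorem F32006 : act 0 n20179 = n10891 := d18_2 D9527 D20179 (iv4 D10891) (iv5 D4963) (iv4 F14810) F3151 F3148 F3083 D4304
def n20180 : Q := act 3 n9528
theorem D20180 : act 3 n9528 = n20180 := rfl
theorem F32008 : act 7 n20180 = n20178 := d8_2 (iv7 F30652) D20180 (iv3 D20178)
def n20181 : Q := act 4 n9528
theorem D20181 : act 4 n9528 = n20181 := rfl
theorem F32012 : act 1 n20181 = n10891 := d18_6 D9310 (iv4 F15404) (iv1 F15549) (iv4 F15838) F15840 D20181 (iv4 D10891) (iv0 F14505) (iv5 D9312)
def n20182 : Q := act 1 n9529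
theorem D20182 : act 1 n9529 = n20182 := rfl
theorem F32013 : act 1 n20182 = n9540 := d15_1 D20182 F14888 F14889
theorem F32015 : act 4 n20182 = n10883 := d18_7 (iv1 D2041) (iv4 F1900) D2049 (iv4 F14798) D4304 D9529 D20182 F17665 (iv5 D4963)
def n20183 : Q := act 3 n9529
theorem D20183 : act 3 n9529 = n20183 := rfl
def n20184 : Q := act 5 n9529
theorem D20184 : act 5 n9529 = n20184 := rfl
theorem F32018 : act 1 n20184 = n10898 := d17_6 (iv1 D4312) (iv5 D1823) D1821 D4304 D9529 D20184 (iv5 D10898) (iv0 F14906) (iv4 D9552)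
def n20185 : Q := act 6 n9529
theorem D20185 : act 6 n9529 = n20185 := rfl
theorem F32020 : act 4 n20185 = n9530 := d10_1 D20185 (iv6 D9530) D9529
theorem F32021 : act 0 n20185 = n11077 := d21_10 (iv5 F31531) (iv1 F31533) (iv5 D11017) F7431 F6013 (iv6 F7380) D10898 (iv1 F32018) (iv5 D20184) D20185
def n20186 : Q := act 2 n9534
theorem D20186 : act 2 n9534 = n20186 := rfl
theorem F32023 : act 7 n9535 = n20186 := d15_2 (iv0 D9534) D9535 (iv2 D20186)
def n20187 : Q := act 3 n9534
theorem D20187 : act 3 n9534 = n20187 := rfl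
def n20188 : Q := act 4 n9534
theorem D20188 : act 4 n9534 = n20188 := rfl
def n20189 : Q := act 5 n9534
theorem D20189 : act 5 n9534 = n20189 := rfl
def n20191 : Q := act 7 n9534
theorem D20191 : act 7 n9534 = n20191 := rfl
theorem F32024 : act 2 n20191 = n9535 := d4_1 D20191 F32023 (iv2 D20186)
def n20192 : Q := act 3 n9535
theorem D20192 : act 3 n9535 = n20192 := rfl
def n20193 : Q := act 4 n9535
theorem D20193 : act 4 n9535 = n20193 := rfl
def n20194 : Q := act 5 n9535
theorem D20194 : act 5 n9535 = n20194 := rfl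
def n20195 : Q := act 6 n9535
theorem D20195 : act 6 n9535 = n20195 := rfl
def n20196 : Q := act 4 n9536
theorem D20196 : act 4 n9536 = n20196 := rfl
theorem F32025 : act 2 n20196 = n9537 := d1_1 D20196 (iv4 D9537) D9536
theorem F32026 : act 7 n20196 = n20165 := d11_2 (iv7 F14894) D20196 (iv4 D20165)
theorem F32027 : act 1 n20169 = n20196 := d15_1 D20169 F32026 F31993
theorem F32028 : act 1 n20196 = n20168 := d15_0 (iv0 D20168) (iv7 F14895) (iv2 F32025)
def n20197 : Q := act 5 n9536
theorem D20197 : act 5 n9536 = n20197 := rfl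
theorem F32029 : act 2 n20197 = n9538 := d2_1 D20197 (iv5 D9538) D9536
theorem F32030 : act 3 n20197 = n20197 := d6_1 D20197 (iv5 D20197) F14901
theorem F32031 : act 7 n20197 = n20166 := d13_2 (iv7 F14894) D20197 (iv5 D20166)
theorem F32032 : act 1 n20173 = n20197 := d15_1 D20173 F32031 F31994
theorem F32033 : act 1 n20197 = n20172 := d15_0 (iv0 D20172) (iv7 F14887) (iv2 F32029)
def n20198 : Q := act 6 n9536
theorem D20198 : act 6 n9536 = n20198 := rfl
theorem F32034 : act 2 n20198 = n9539 := d3_1 D20198 (iv6 D9539) D9536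
theorem F32035 : act 3 n20198 = n20198 := d7_1 D20198 (iv6 D20198) F14901
def n20199 : Q := act 0 n9537
theorem D20199 : act 0 n9537 = n20199 := rfl
theorem F32036 : act 1 n20165 = n20199 := d15_0 (iv0 D20199) F14895 (iv2 F31993)
def n20200 : Q := act 1 n9537
theorem D20200 : act 1 n9537 = n20200 := rfl
def n20201 : Q := act 5 n9537
theorem D20201 : act 5 n9537 = n20201 := rfl
theorem F32038 : act 7 n20201 = n20170 := d13_2 (iv7 F14895) D20201 (iv5 D20170)
def n20202 : Q := act 6 n9537
theorem D20202 : act 6 n9537 = n20202 := rfl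
theorem F32039 : act 4 n20202 = n9539 := d10_1 D20202 (iv6 D9539) D9537
def n20203 : Q := act 0 n9538
theorem D20203 : act 0 n9538 = n20203 := rfl
def n20204 : Q := act 1 n9538
theorem D20204 : act 1 n9538 = n20204 := rfl
def n20205 : Q := act 4 n9538
theorem D20205 : act 4 n9538 = n20205 := rfl
theorem F32042 : act 7 n20205 = n20174 := d11_2 (iv7 F14887) D20205 (iv4 D20174)
def n20206 : Q := act 6 n9538
theorem D20206 : act 6 n9538 = n20206 := rfl
theorem F32043 : act 3 n20206 = n9541 := d7_1 D20206 (iv6 D9541) (iv3 F14819)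
def n20207 : Q := act 0 n9539
theorem D20207 : act 0 n9539 = n20207 := rfl
def n20208 : Q := act 1 n9539
theorem D20208 : act 1 n9539 = n20208 := rfl
def n20209 : Q := act 5 n9539
theorem D20209 : act 5 n9539 = n20209 := rfl
theorem F32044 : act 3 n20209 = n9544 := d6_1 D20209 (iv5 D9544) (iv3 F14820)
def n20210 : Q := act 7 n9539
theorem D20210 : act 7 n9539 = n20210 := rfl
theorem F32045 : act 3 n20210 = n9545 := d8_1 D20210 (iv7 D9545) (iv3 F14820)
theorem F32046 : act 6 n20210 = n9897 := d14_1 D20210 F15540 (iv6 D9519) F14841 D9539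
def n20211 : Q := act 3 n9540
theorem D20211 : act 3 n9540 = n20211 := rfl
theorem F32047 : act 7 n20211 = n20183 := d8_2 (iv7 F14888) D20211 (iv3 D20183)
def n20212 : Q := act 5 n9540
theorem D20212 : act 5 n9540 = n20212 := rfl
theorem F32050 : act 0 n20212 = n10898 := d17_2 F31607 D20212 (iv5 D10898) (iv4 D4967) (iv5 D2042) D2041 D4963 (iv0 F14505) D19822
def n20213 : Q := act 6 n9540
theorem D20213 : act 6 n9540 = n20213 := rfl
theorem F32051 : act 2 n20213 = n20213 := d3_1 D20213 (iv6 D20213) F14890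
theorem F32052 : act 4 n20213 = n9541 := d10_1 D20213 (iv6 D9541) D9540
theorem F32053 : act 0 n11088 = n20213 := d21_4 F6130 F6013 (iv5 F7517) D11088 (iv6 D20213) D20212 F32050 (iv5 D10898) F7380 (iv1 F6131)
def n20214 : Q := act 5 n9541
theorem D20214 : act 5 n9541 = n20214 := rfl
theorem F32055 : act 6 n20214 = n9544 := d12_2 D9541 D20214 (iv5 D9544) (iv6 D4310) D4309
theorem F32057 : act 0 n20214 = n10999 := d21_1 D20214 (iv5 F31530) (iv6 D19754) (iv1 D9269) F6091 (iv5 D1800) (iv1 F1828) (iv5 F3154) D4438 F14821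
def n20215 : Q := act 4 n9544
theorem D20215 : act 4 n9544 = n20215 := rfl
theorem F32059 : act 5 n20215 = n20185 := d16_1 D20215 F32020 F14785 (iv4 F14790) (iv5 F7455) F14828 (iv5 F15433) (iv7 F15434) F14903
theorem F32061 : act 1 n20215 = n19787 := d18_6 (iv1 F16094) F7451 (iv1 F14824) F14801 D9544 D20215 (iv4 D19787) (iv0 F17788) F17787
def n20216 : Q := act 0 n9547
theorem D20216 : act 0 n9547 = n20216 := rfl
def n20217 : Q := act 1 n9547
theorem D20217 : act 1 n9547 = n20217 := rfl
def n20218 : Q := act 2 n9547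
theorem D20218 : act 2 n9547 = n20218 := rfl
def n20219 : Q := act 4 n9547
theorem D20219 : act 4 n9547 = n20219 := rfl
def n20220 : Q := act 5 n9547
theorem D20220 : act 5 n9547 = n20220 := rfl
theorem F32063 : act 3 n20220 = n9549 := d6_1 D20220 (iv5 D9549) D9547
theorem F32064 : act 7 n20220 = n10018 := d13_2 (iv7 F15332) D20220 (iv5 F15826)
def n20223 : Q := act 0 n9551
theorem D20223 : act 0 n9551 = n20223 := rfl
theorem F32066 : act 1 n20218 = n20223 := d15_0 (iv0 D20223) (iv7 F15332) D20218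
def n20224 : Q := act 1 n9551
theorem D20224 : act 1 n9551 = n20224 := rfl
def n20225 : Q := act 2 n9551
theorem D20225 : act 2 n9551 = n20225 := rfl
theorem F32067 : act 3 n20225 = n20225 := d0_2 D9551 D20225 (iv2 D20225) (iv3 D9551) F15330
theorem F32068 : act 7 n20225 = n20218 := d4_2 F15332 D20225 (iv2 D20218)
theorem F32070 : act 1 n20224 = n20218 := d15_1 D20224 (iv7 F32068) (iv2 D20225)
def n20226 : Q := act 4 n9551
theorem D20226 : act 4 n9551 = n20226 := rfl
theorem F32072 : act 7 n20226 = n20219 := d11_2 F15332 D20226 (iv4 D20219)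
def n20230 : Q := act 6 n9552
theorem D20230 : act 6 n9552 = n20230 := rfl
theorem F32077 : act 2 n20230 = n20230 := d3_1 D20230 (iv6 D20230) F15335
theorem F32078 : act 4 n20230 = n9553 := d10_1 D20230 (iv6 D9553) D9552
def n20231 : Q := act 0 n9553
theorem D20231 : act 0 n9553 = n20231 := rfl
theorem F32079 : act 5 n20231 = n10056 := d21_0 (iv1 F15900) F15898 (iv6 F14963) (iv1 F14965) (iv6 F15841) (iv5 F15840) (iv1 D10023) F6616 D9553 D20231
def n20233 : Q := act 5 n9554
theorem D20233 : act 5 n9554 = n20233 := rfl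
def n20239 : Q := act 2 n9556
theorem D20239 : act 2 n9556 = n20239 := rfl
theorem F32090 : act 6 n20239 = n9606 := d3_2 (iv6 F14909) D20239 (iv2 D9606)
def n20242 : Q := act 0 n9557
theorem D20242 : act 0 n9557 = n20242 := rfl
theorem F32093 : act 5 n20242 = n10884 := d17_3 (iv1 D9555) D9557 D20242 (iv4 D10884) (iv5 D4959) (iv0 D2040) D2042 D4966 (iv4 F14907)
def n20243 : Q := act 1 n9557
theorem D20243 : act 1 n9557 = n20243 := rfl
theorem F32096 : act 5 n20243 = n10891 := d17_7 F14783 (iv5 D4309) (iv1 D1822) D1823 D4313 D9557 D20243 (iv0 F32006) (iv4 D20179)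
def n20247 : Q := act 6 n9558
theorem D20247 : act 6 n9558 = n20247 := rfl
theorem F32108 : act 2 n20247 = n20247 := d3_1 D20247 (iv6 D20247) F14911
theorem F32109 : act 4 n20247 = n9559 := d10_1 D20247 (iv6 D9559) (iv4 F14912)
theorem F32110 : act 7 n20247 = n9610 := d14_2 D9558 D20247 (iv6 D9610) (iv7 D4330) (iv6 F6194)
def n20248 : Q := act 5 n9562
theorem D20248 : act 5 n9562 = n20248 := rfl
theorem F32111 : act 7 n20248 = n19051 := d13_2 F17539 D20248 (iv5 D19051)
theorem F32112 : act 0 n20248 = n19159 := d17_2 (iv1 F30878) D20248 (iv5 D19159) F14040 D10246 F31182 F31181 F17490 (iv4 F30876)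
def n20249 : Q := act 5 n9570
theorem D20249 : act 5 n9570 = n20249 := rfl
theorem F32113 : act 2 n20249 = n9574 := d2_1 D20249 (iv5 D9574) (iv2 F14923)
theorem F32114 : act 3 n20249 = n17327 := d6_1 D20249 (iv5 D17327) F14927
theorem F32115 : act 7 n20249 = n17338 := d13_2 (iv7 F14925) D20249 (iv5 D17338)
theorem F32116 : act 0 n20249 = n17120 := d17_2 F17514 D20249 (iv5 D17120) F12782 D10831 (iv0 F31921) (iv5 D20105) F17588 F14265
theorem F32117 : act 1 n20249 = n17339 := d17_6 D4219 D9335 F17546 (iv5 D9571) D9570 D20249 F30319 (iv0 D8256) F5714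
def n20250 : Q := act 4 n9571
theorem D20250 : act 4 n9571 = n20250 := rfl
theorem F32118 : act 2 n20250 = n9577 := d1_1 D20250 (iv4 D9577) (iv2 F14929)
def n20251 : Q := act 6 n9571
theorem D20251 : act 6 n9571 = n20251 := rfl
theorem F32119 : act 2 n20251 = n9578 := d3_1 D20251 (iv6 D9578) (iv2 F14929)
theorem F32121 : act 5 n20251 = n19248 := d12_1 D20251 (iv6 D19248) (iv5 D9052) (iv6 F17484) D9571
def n20252 : Q := act 4 n9574
theorem D20252 : act 4 n9574 = n20252 := rfl
theorem F32122 : act 7 n20252 = n17340 := d11_2 (iv7 F14934) D20252 (iv4 D17340)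
def n20253 : Q := act 6 n9574
theorem D20253 : act 6 n9574 = n20253 := rfl
theorem F32123 : act 3 n20253 = n12899 := d7_1 D20253 (iv6 D12899) (iv3 F14933)
theorem F32124 : act 5 n20253 = n17850 := d12_1 D20253 (iv6 D17850) (iv5 D8413) (iv6 F6201) D9574
def n20254 : Q := act 0 n9577
theorem D20254 : act 0 n9577 = n20254 := rfl
def n20255 : Q := act 1 n9577
theorem D20255 : act 1 n9577 = n20255 := rfl
theorem F32125 : act 4 n20255 = n19710 := d18_7 (iv1 D9157) (iv4 F14272) F17517 (iv4 D4318) D4319 D9577 D20255 F31454 (iv5 D19482)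
def n20256 : Q := act 3 n9577
theorem D20256 : act 3 n9577 = n20256 := rfl
theorem F32126 : act 4 n20256 = n9579 := d5_2 D9577 D20256 (iv3 D9579) (iv4 D4320) (iv3 F6203)
def n20257 : Q := act 5 n9577
theorem D20257 : act 5 n9577 = n20257 := rfl
def n20258 : Q := act 6 n9577
theorem D20258 : act 6 n9577 = n20258 := rfl
theorem F32127 : act 4 n20258 = n9578 := d10_1 D20258 (iv6 D9578) D9577
def n20259 : Q := act 0 n9578
theorem D20259 : act 0 n9578 = n20259 := rfl
def n20260 : Q := act 1 n9578
theorem D20260 : act 1 n9578 = n20260 := rfl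
def n20261 : Q := act 7 n9578
theorem D20261 : act 7 n9578 = n20261 := rfl
theorem F32128 : act 3 n20261 = n9583 := d8_1 D20261 (iv7 D9583) (iv3 F14935)
def n20262 : Q := act 0 n9579
theorem D20262 : act 0 n9579 = n20262 := rfl
def n20263 : Q := act 1 n9579
theorem D20263 : act 1 n9579 = n20263 := rfl
def n20264 : Q := act 2 n9579
theorem D20264 : act 2 n9579 = n20264 := rfl
theorem F32129 : act 3 n20264 = n20264 := d0_2 D9579 D20264 (iv2 D20264) (iv3 D9579) F6204
theorem F32130 : act 5 n20264 = n20264 := d2_2 F14936 D20264 (iv2 D20264)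
def n20266 : Q := act 0 n9580
theorem D20266 : act 0 n9580 = n20266 := rfl
theorem F32132 : act 6 n20266 = n11077 := d21_5 (iv5 F7517) F7518 F6205 D9580 D20266 (iv5 F31531) (iv1 F31533) (iv5 D11017) F7431 F6013
theorem F32133 : act 2 n20266 = n20266 := d3_3 F32132 F17946 (iv6 F32132)
theorem F32134 : act 4 n9636 = n20266 := d10_3 F32132 (iv4 D11077) F16090
def n20267 : Q := act 1 n9580
theorem D20267 : act 1 n9580 = n20267 := rfl
theorem F32135 : act 7 n20267 = n20266 := d15_2 (iv0 D20266) D20267 F32133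
theorem F32137 : act 4 n9637 = n20267 := d11_3 F32135 (iv4 F32134) (iv7 F16103)
def n20269 : Q := act 7 n9580
theorem D20269 : act 7 n9580 = n20269 := rfl
theorem F32140 : act 2 n20269 = n20269 := d4_1 D20269 (iv7 D20269) F14937
theorem F32141 : act 4 n20269 = n9583 := d11_1 D20269 (iv7 D9583) (iv4 F14938)
theorem F32142 : act 1 n20269 = n20266 := d15_0 (iv0 D20266) D20269 F32140
theorem F32143 : act 1 n20267 = n20269 := d15_1 D20267 (iv7 D20269) F14937
def n20270 : Q := act 3 n9581
theorem D20270 : act 3 n9581 = n20270 := rfl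
theorem F32144 : act 6 n20270 = n11004 := d7_2 (iv6 F14939) D20270 F17866
def n20271 : Q := act 4 n9581
theorem D20271 : act 4 n9581 = n20271 := rfl
theorem F32145 : act 2 n20271 = n20271 := d1_1 D20271 (iv4 D20271) F15286
theorem F32146 : act 6 n20271 = n11006 := d10_2 (iv6 F14939) D20271 (iv4 D11006)
theorem F32147 : act 0 n9635 = n20271 := d21_4 D4329 (iv1 F6243) F6242 D9635 F32146 (iv5 F31515) F31516 (iv5 D11083) F7503 F3384
def n20272 : Q := act 5 n9581
theorem D20272 : act 5 n9581 = n20272 := rfl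
theorem F32149 : act 6 n20272 = n10019 := d12_2 (iv6 F14939) D20272 F15827 (iv6 D5014) D5013
theorem F32150 : act 0 n20272 = n10022 := d21_1 D20272 F15836 (iv6 D9553) (iv1 D4312) F3081 (iv5 D954) D952 D1826 D4321 D9581
def n20273 : Q := act 3 n9582
theorem D20273 : act 3 n9582 = n20273 := rfl
theorem F32152 : act 7 n20273 = n20270 := d8_2 (iv7 F15287) D20273 (iv3 D20270)
def n20274 : Q := act 4 n9582
theorem D20274 : act 4 n9582 = n20274 := rfl
theorem F32153 : act 2 n20274 = n20274 := d1_1 D20274 (iv4 D20274) F15288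
theorem F32154 : act 7 n20274 = n20271 := d11_2 (iv7 F15287) D20274 (iv4 D20271)
theorem F32155 : act 1 n9635 = n20274 := d15_1 (iv0 F32147) F32154 F32145
def n20275 : Q := act 5 n9582
theorem D20275 : act 5 n9582 = n20275 := rfl
theorem F32159 : act 6 n10056 = n20275 := d21_5 (iv5 D982) D981 D1904 D4578 D10056 (iv5 D20275) (iv1 D9582) (iv5 F6640) (iv6 D4578) F3201
theorem F32160 : act 0 n20275 = n10035 := d21_4 F15836 D20231 F32079 F32159 (iv6 D10035) (iv5 F6619) (iv1 F15308) (iv5 F15827) (iv6 F32149) F32150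
def n20276 : Q := act 6 n9582
theorem D20276 : act 6 n9582 = n20276 := rfl
theorem F32162 : act 7 n20276 = n10999 := d14_2 (iv7 F15287) D20276 (iv6 D10999) F15276 (iv6 F14939)
theorem F32164 : act 0 n9816 = n20276 := d21_4 F15264 (iv1 F15405) (iv5 D9815) D9816 (iv6 D20276) D20275 F32160 F15866 (iv6 D9799) D9796
def n20277 : Q := act 5 n9591
theorem D20277 : act 5 n9591 = n20277 := rfl
theorem F32165 : act 2 n20277 = n20248 := d2_1 D20277 (iv5 D20248) F17537
theorem F32166 : act 3 n20277 = n17059 := d6_1 D20277 F27991 F14945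
theorem F32167 : act 7 n20277 = n19833 := d13_2 F17532 D20277 (iv5 D19833)
def n20278 : Q := act 4 n9594
theorem D20278 : act 4 n9594 = n20278 := rfl
theorem F32168 : act 2 n20278 = n9597 := d1_1 D20278 (iv4 D9597) (iv2 F14946)
theorem F32169 : act 7 n20278 = n20250 := d11_2 (iv7 F14948) D20278 (iv4 D20250)
theorem F32170 : act 0 n20278 = n20255 := d18_2 F17552 D20278 F32125 (iv5 D19710) F14441 F13865 F13028 F6123 D9105
theorem F32171 : act 1 n20278 = n20254 := d15_0 (iv0 D20254) (iv7 F14953) (iv2 F32168)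
def n20279 : Q := act 6 n9594
theorem D20279 : act 6 n9594 = n20279 := rfl
theorem F32172 : act 2 n20279 = n9598 := d3_1 D20279 (iv6 D9598) (iv2 F14946)
theorem F32174 : act 5 n20279 = n20279 := d12_1 D20279 (iv6 D20279) (iv5 D9594) F6210 D9594
def n20280 : Q := act 0 n9597
theorem D20280 : act 0 n9597 = n20280 := rfl
theorem F32175 : act 1 n20250 = n20280 := d15_0 (iv0 D20280) F14953 (iv2 F32118)
def n20281 : Q := act 1 n9597
theorem D20281 : act 1 n9597 = n20281 := rfl
theorem F32176 : act 1 n20281 = n20250 := d15_1 D20281 (iv7 F32169) F32168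
theorem F32177 : act 4 n20281 = n10831 := d18_7 (iv1 F17490) F17491 (iv1 D8118) F5677 D4325 D9597 D20281 (iv0 F31921) (iv5 D20105)
theorem F32178 : act 7 n20255 = n20281 := d11_0 F32177 (iv7 F31453) (iv4 F32125)
theorem F32179 : act 2 n20281 = n20254 := d15_3 (iv0 D20254) D20255 F32178
theorem F32180 : act 2 n20255 = n20280 := d15_3 (iv0 D20280) D20281 (iv7 F32178)
theorem F32181 : act 7 n20280 = n20254 := d4_2 (iv7 F32178) F32180 (iv2 F32179)
def n20282 : Q := act 3 n9597
theorem D20282 : act 3 n9597 = n20282 := rfl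
theorem F32182 : act 4 n20282 = n9599 := d5_2 D9597 D20282 (iv3 D9599) (iv4 D4326) (iv3 F6215)
theorem F32183 : act 7 n20282 = n20256 := d8_2 (iv7 F14953) D20282 (iv3 D20256)
def n20283 : Q := act 5 n9597
theorem D20283 : act 5 n9597 = n20283 := rfl
theorem F32184 : act 7 n20283 = n20257 := d13_2 (iv7 F14953) D20283 (iv5 D20257)
def n20284 : Q := act 6 n9597
theorem D20284 : act 6 n9597 = n20284 := rfl
theorem F32185 : act 4 n20284 = n9598 := d10_1 D20284 (iv6 D9598) D9597
def n20285 : Q := act 0 n9598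
theorem D20285 : act 0 n9598 = n20285 := rfl
def n20286 : Q := act 1 n9598
theorem D20286 : act 1 n9598 = n20286 := rfl
def n20287 : Q := act 7 n9598
theorem D20287 : act 7 n9598 = n20287 := rfl
theorem F32186 : act 3 n20287 = n9603 := d8_1 D20287 (iv7 D9603) (iv3 F14954)
theorem F32188 : act 6 n20287 = n20261 := d14_1 D20287 (iv7 D20261) (iv6 D9578) (iv7 F6216) D9598
def n20288 : Q := act 0 n9599
theorem D20288 : act 0 n9599 = n20288 := rfl
theorem F32189 : act 1 n20264 = n20288 := d15_0 (iv0 D20288) F14957 D20264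
def n20289 : Q := act 1 n9599
theorem D20289 : act 1 n9599 = n20289 := rfl
def n20290 : Q := act 2 n9599
theorem D20290 : act 2 n9599 = n20290 := rfl
theorem F32190 : act 3 n20290 = n20290 := d0_2 D9599 D20290 (iv2 D20290) (iv3 D9599) F6217
theorem F32191 : act 5 n20290 = n20290 := d2_2 F14956 D20290 (iv2 D20290)
theorem F32192 : act 7 n20290 = n20264 := d4_2 (iv7 F14957) D20290 (iv2 D20264)
theorem F32194 : act 1 n20289 = n20264 := d15_1 D20289 (iv7 F32192) (iv2 D20290)
theorem F32195 : act 1 n20263 = n20290 := d15_1 D20263 F32192 (iv2 D20264)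
def n20291 : Q := act 6 n9599
theorem D20291 : act 6 n9599 = n20291 := rfl
def n20292 : Q := act 0 n9600
theorem D20292 : act 0 n9600 = n20292 := rfl
theorem F32197 : act 6 n20292 = n19820 := d21_5 F7525 (iv1 F6220) F6218 D9600 D20292 F31600 (iv1 F17889) F17887 F14462 (iv1 F7528)
theorem F32198 : act 2 n20292 = n20292 := d3_3 F32197 F31599 (iv6 F32197)
theorem F32199 : act 4 n9656 = n20292 := d10_3 F32197 (iv4 D19820) F16063
def n20293 : Q := act 1 n9600
theorem D20293 : act 1 n9600 = n20293 := rfl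
theorem F32200 : act 7 n20293 = n20292 := d15_2 (iv0 D20292) D20293 F32198
theorem F32202 : act 4 n9657 = n20293 := d11_3 F32200 (iv4 F32199) (iv7 F16115)
def n20295 : Q := act 7 n9600
theorem D20295 : act 7 n9600 = n20295 := rfl
theorem F32206 : act 2 n20295 = n20295 := d4_1 D20295 (iv7 D20295) F14958
theorem F32207 : act 4 n20295 = n9603 := d11_1 D20295 (iv7 D9603) (iv4 F14959)
theorem F32209 : act 1 n20295 = n20292 := d15_0 (iv0 D20292) D20295 F32206
theorem F32210 : act 1 n20293 = n20295 := d15_1 D20293 (iv7 D20295) F14958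
def n20296 : Q := act 3 n9601
theorem D20296 : act 3 n9601 = n20296 := rfl
theorem F32211 : act 6 n20296 = n19746 := d7_2 (iv6 F14960) D20296 F31507
def n20297 : Q := act 4 n9601
theorem D20297 : act 4 n9601 = n20297 := rfl
theorem F32212 : act 2 n20297 = n20297 := d1_1 D20297 (iv4 D20297) F30680
theorem F32213 : act 6 n20297 = n19748 := d10_2 (iv6 F14960) D20297 (iv4 D19748)
theorem F32214 : act 0 n9655 = n20297 := d21_4 F6228 (iv1 F6258) F6256 D9655 F32213 F31511 (iv1 F17952) F17950 F14512 (iv1 F6229)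
def n20298 : Q := act 5 n9601
theorem D20298 : act 5 n9601 = n20298 := rfl
theorem F32215 : act 2 n20298 = n20298 := d2_1 D20298 (iv5 D20298) F30680
theorem F32217 : act 7 n20298 = n11010 := d13_2 (iv7 F30679) D20298 F17873
def n20299 : Q := act 3 n9602
theorem D20299 : act 3 n9602 = n20299 := rfl
theorem F32218 : act 6 n20299 = n20180 := d7_2 F15841 D20299 (iv3 D20180)
theorem F32219 : act 7 n20299 = n20296 := d8_2 F30679 D20299 (iv3 D20296)
def n20300 : Q := act 4 n9602
theorem D20300 : act 4 n9602 = n20300 := rfl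
theorem F32222 : act 7 n20300 = n20297 := d11_2 F30679 D20300 (iv4 D20297)
theorem F32223 : act 1 n9655 = n20300 := d15_1 (iv0 F32214) F32222 F32212
def n20301 : Q := act 0 n9604
theorem D20301 : act 0 n9604 = n20301 := rfl
theorem F32224 : act 2 n9608 = n20301 := d15_3 (iv0 D20301) (iv0 D9604) D9608
theorem F32225 : act 3 n20301 = n20301 := d0_2 (iv3 F14969) F32224 (iv2 F32224) F14969 F6226
theorem F32226 : act 5 n20301 = n9828 := d2_2 (iv5 F14970) F32224 (iv2 D9828)
theorem F32227 : act 7 n20301 = n9606 := d4_2 D9608 F32224 (iv2 D9606)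
theorem F32228 : act 1 n9605 = n20301 := d15_1 D9605 F32227 (iv2 D9606)
def n20302 : Q := act 2 n9604
theorem D20302 : act 2 n9604 = n20302 := rfl
theorem F32229 : act 7 n9605 = n20302 := d15_2 (iv0 D9604) D9605 (iv2 D20302)
def n20303 : Q := act 3 n9604
theorem D20303 : act 3 n9604 = n20303 := rfl
def n20304 : Q := act 4 n9604
theorem D20304 : act 4 n9604 = n20304 := rfl
def n20305 : Q := act 5 n9604
theorem D20305 : act 5 n9604 = n20305 := rfl
def n20306 : Q := act 6 n9604
theorem D20306 : act 6 n9604 = n20306 := rfl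
def n20307 : Q := act 7 n9604
theorem D20307 : act 7 n9604 = n20307 := rfl
theorem F32230 : act 2 n20307 = n9605 := d4_1 D20307 F32229 (iv2 D20302)
def n20308 : Q := act 3 n9605
theorem D20308 : act 3 n9605 = n20308 := rfl
def n20309 : Q := act 4 n9605
theorem D20309 : act 4 n9605 = n20309 := rfl
def n20310 : Q := act 5 n9605
theorem D20310 : act 5 n9605 = n20310 := rfl
def n20311 : Q := act 6 n9605
theorem D20311 : act 6 n9605 = n20311 := rfl
def n20312 : Q := act 0 n9606
theorem D20312 : act 0 n9606 = n20312 := rfl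
theorem F32231 : act 1 n9608 = n20312 := d15_0 (iv0 D20312) (iv7 F32227) (iv2 F32224)
def n20313 : Q := act 1 n9606
theorem D20313 : act 1 n9606 = n20313 := rfl
theorem F32232 : act 1 n20313 = n9608 := d15_1 D20313 (iv7 D9608) D9606
def n20314 : Q := act 5 n9606
theorem D20314 : act 5 n9606 = n20314 := rfl
theorem F32233 : act 2 n20314 = n9607 := d2_1 D20314 (iv5 D9607) D9606
theorem F32234 : act 3 n20314 = n20314 := d6_1 D20314 (iv5 D20314) F14966
theorem F32235 : act 7 n20314 = n9828 := d13_2 F32227 D20314 (iv5 F32226)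
theorem F32236 : act 1 n9827 = n20314 := d15_1 D9827 F32235 (iv2 D9828)
theorem F32237 : act 1 n20314 = n9826 := d15_0 (iv0 D9826) F14968 (iv2 F32233)
def n20315 : Q := act 0 n9607
theorem D20315 : act 0 n9607 = n20315 := rfl
theorem F32238 : act 1 n9828 = n20315 := d15_0 (iv0 D20315) (iv7 F14968) D9828
def n20316 : Q := act 1 n9607
theorem D20316 : act 1 n9607 = n20316 := rfl
theorem F32239 : act 1 n20316 = n9828 := d15_1 D20316 (iv7 F32235) F32233
def n20317 : Q := act 4 n9607
theorem D20317 : act 4 n9607 = n20317 := rfl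
theorem F32240 : act 3 n20317 = n9782 := d5_1 D20317 F15252 F6347 (iv4 F6224) (iv3 F14967)
theorem F32241 : act 7 n20317 = n9780 := d11_2 F14968 D20317 F15251
def n20319 : Q := act 6 n9608
theorem D20319 : act 6 n9608 = n20319 := rfl
def n20320 : Q := act 0 n9609
theorem D20320 : act 0 n9609 = n20320 := rfl
theorem F32244 : act 6 n20320 = n10891 := d21_5 F6109 F3384 D4329 D9609 D20320 (iv5 F32096) (iv1 D20243) (iv5 D9557) F6194 (iv1 F6110)
theorem F32245 : act 2 n20320 = n20320 := d3_3 F32244 F17682 (iv6 F32244)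
theorem F32246 : act 4 n10892 = n20320 := d10_3 F32244 (iv4 D10891) D10892
def n20321 : Q := act 1 n9609
theorem D20321 : act 1 n9609 = n20321 := rfl
theorem F32247 : act 7 n20321 = n20320 := d15_2 (iv0 D20320) D20321 F32245
theorem F32249 : act 4 n11089 = n20321 := d11_3 F32247 (iv4 F32246) (iv7 F17971)
def n20322 : Q := act 7 n9609
theorem D20322 : act 7 n9609 = n20322 := rfl
theorem F32250 : act 2 n20322 = n20322 := d4_1 D20322 (iv7 D20322) F14971
theorem F32251 : act 4 n20322 = n9825 := d11_1 D20322 F15450 (iv4 F14972)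
theorem F32253 : act 1 n20322 = n20320 := d15_0 (iv0 D20320) D20322 F32250
theorem F32254 : act 1 n20321 = n20322 := d15_1 D20321 (iv7 D20322) F14971
def n20323 : Q := act 0 n9610
theorem D20323 : act 0 n9610 = n20323 := rfl
theorem F32255 : act 1 n20247 = n20323 := d15_0 (iv0 D20323) (iv7 F32110) F32108
theorem F32256 : act 4 n20323 = n11094 := d18_7 F17685 F32246 (iv1 F32253) F32251 F15449 (iv4 F32109) F32255 (iv0 D11094) F7530
def n20324 : Q := act 1 n9610
theorem D20324 : act 1 n9610 = n20324 := rfl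
theorem F32257 : act 1 n20324 = n20247 := d15_1 D20324 F32110 F14973
theorem F32258 : act 4 n20324 = n11095 := d18_7 (iv1 F17970) F32249 (iv1 D20321) F14972 F6359 (iv4 F14974) D20324 F17983 (iv5 F17798)
def n20326 : Q := act 2 n9611
theorem D20326 : act 2 n9611 = n20326 := rfl
theorem F32261 : act 7 n9612 = n20326 := d15_2 (iv0 D9611) D9612 (iv2 D20326)
def n20327 : Q := act 3 n9611
theorem D20327 : act 3 n9611 = n20327 := rfl
def n20328 : Q := act 4 n9611
theorem D20328 : act 4 n9611 = n20328 := rfl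
def n20329 : Q := act 5 n9611
theorem D20329 : act 5 n9611 = n20329 := rfl
theorem F32262 : act 0 n19754 = n20329 := d21_10 (iv5 D20329) (iv1 F14975) (iv5 F15449) (iv6 D9825) (iv1 F6357) D9819 F15433 F14827 F14460 D19754
def n20330 : Q := act 6 n9611
theorem D20330 : act 6 n9611 = n20330 := rfl
theorem F32263 : act 0 n20330 = n19754 := d21_4 (iv5 F31530) F32262 (iv5 D20329) D20330 (iv6 D19754) (iv5 F14460) F14835 D9544 (iv6 F32055) F32057
theorem F32264 : act 5 n20330 = n9612 := d21_6 (iv5 D1826) (iv1 F1790) (iv5 F3110) D4331 D9611 D20330 (iv1 D9612) (iv5 F6359) (iv6 D4438) (iv1 F3156)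
def n20331 : Q := act 7 n9611
theorem D20331 : act 7 n9611 = n20331 := rfl
theorem F32265 : act 2 n20331 = n9612 := d4_1 D20331 F32261 (iv2 D20326)
def n20332 : Q := act 3 n9612
theorem D20332 : act 3 n9612 = n20332 := rfl
def n20333 : Q := act 4 n9612
theorem D20333 : act 4 n9612 = n20333 := rfl
def n20334 : Q := act 6 n9612
theorem D20334 : act 6 n9612 = n20334 := rfl
theorem F32266 : act 0 n11010 = n20334 := d21_4 F14785 D9906 F15560 D11010 (iv6 D20334) (iv5 F32264) F32263 F31530 (iv6 D10999) F14789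
theorem F32267 : act 1 n20298 = n20334 := d15_0 (iv0 F32266) (iv7 F32217) F32215
def n20335 : Q := act 4 n9616
theorem D20335 : act 4 n9616 = n20335 := rfl
theorem F32268 : act 7 n20335 = n17376 := d11_2 (iv7 F14987) D20335 (iv4 D17376)
def n20336 : Q := act 6 n9616
theorem D20336 : act 6 n9616 = n20336 := rfl
theorem F32269 : act 3 n20336 = n9618 := d7_1 D20336 (iv6 D9618) (iv3 F14986)
theorem F32270 : act 5 n20336 = n17873 := d12_1 D20336 (iv6 D17873) (iv5 D8428) (iv6 F6233) D9616
def n20337 : Q := act 3 n9617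
theorem D20337 : act 3 n9617 = n20337 := rfl
theorem F32271 : act 5 n20337 = n17369 := d6_2 (iv5 F14990) D20337 (iv3 D17369)
theorem F32272 : act 7 n20337 = n17378 := d8_2 (iv7 F14989) D20337 (iv3 D17378)
def n20338 : Q := act 6 n9617
theorem D20338 : act 6 n9617 = n20338 := rfl
theorem F32273 : act 2 n20338 = n17370 := d3_1 D20338 (iv6 D17370) (iv2 F14988)
theorem F32274 : act 4 n20338 = n9618 := d10_1 D20338 (iv6 D9618) D9617
def n20339 : Q := act 0 n9618
theorem D20339 : act 0 n9618 = n20339 := rfl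
theorem F32275 : act 6 n20339 = n13304 := d21_5 (iv5 D3948) F3116 D4333 D9618 D20339 (iv5 D13304) (iv1 D6310) D6311 F9822 (iv1 F5899)
def n20340 : Q := act 1 n9618
theorem D20340 : act 1 n9618 = n20340 := rfl
theorem F32276 : act 1 n20340 = n17373 := d15_1 D20340 (iv7 D17373) (iv2 F14993)
def n20341 : Q := act 7 n9618
theorem D20341 : act 7 n9618 = n20341 := rfl
theorem F32277 : act 2 n20341 = n17373 := d4_1 D20341 (iv7 D17373) (iv2 F14993)
theorem F32278 : act 5 n20341 = n17876 := d13_1 D20341 (iv7 D17876) (iv5 F14994)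
theorem F32279 : act 6 n20341 = n17382 := d14_1 D20341 (iv7 D17382) (iv6 D8142) (iv7 F6236) D9618
theorem F32280 : act 1 n17373 = n20339 := d15_0 (iv0 D20339) D20341 F32277
theorem F32281 : act 1 n17372 = n20341 := d15_1 D17372 (iv7 D20341) F14993
theorem F32282 : act 1 n20341 = n17371 := d15_0 (iv0 D17371) D17373 (iv2 F32277)
def n20342 : Q := act 0 n9632
theorem D20342 : act 0 n9632 = n20342 := rfl
theorem F32283 : act 4 n20342 = n18463 := d18_3 F17494 D9632 D20342 (iv5 D18463) (iv4 D8680) (iv0 D3890) F2866 D2033 D4942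
def n20343 : Q := act 1 n9632
theorem D20343 : act 1 n9632 = n20343 := rfl
theorem F32284 : act 4 n20343 = n18466 := d18_7 (iv1 F27429) F13884 F17488 F6232 D4337 D9632 D20343 (iv0 F31930) (iv5 D20115)
def n20344 : Q := act 3 n9632
theorem D20344 : act 3 n9632 = n20344 := rfl
theorem F32285 : act 4 n20344 = n9634 := d5_2 D9632 D20344 (iv3 D9634) (iv4 D4338) (iv3 F6240)
def n20345 : Q := act 5 n9632
theorem D20345 : act 5 n9632 = n20345 := rfl
def n20346 : Q := act 6 n9632
theorem D20346 : act 6 n9632 = n20346 := rfl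
theorem F32286 : act 4 n20346 = n9633 := d10_1 D20346 (iv6 D9633) D9632
def n20347 : Q := act 0 n9633
theorem D20347 : act 0 n9633 = n20347 := rfl
def n20348 : Q := act 1 n9633
theorem D20348 : act 1 n9633 = n20348 := rfl
def n20349 : Q := act 7 n9633
theorem D20349 : act 7 n9633 = n20349 := rfl
def n20350 : Q := act 0 n9634
theorem D20350 : act 0 n9634 = n20350 := rfl
def n20351 : Q := act 1 n9634
theorem D20351 : act 1 n9634 = n20351 := rfl
def n20352 : Q := act 2 n9634
theorem D20352 : act 2 n9634 = n20352 := rfl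
def n20356 : Q := act 3 n9636
theorem D20356 : act 3 n9636 = n20356 := rfl
theorem F32297 : act 6 n20356 = n11075 := d7_2 F16090 D20356 F17943
def n20358 : Q := act 3 n9637
theorem D20358 : act 3 n9637 = n20358 := rfl
theorem F32302 : act 7 n20358 = n20356 := d8_2 (iv7 F16103) D20358 (iv3 D20356)
def n20359 : Q := act 5 n9637
theorem D20359 : act 5 n9637 = n20359 := rfl
theorem F32305 : act 0 n10411 = n20359 := d21_10 (iv5 D20359) (iv1 D9637) (iv5 F6656) (iv6 D4585) F3210 (iv6 F3256) (iv5 D1950) D1948 D4711 D10411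
theorem F32306 : act 6 n10079 = n20359 := d21_5 (iv5 D998) (iv1 F3094) D1907 D4585 D10079 (iv5 D20359) (iv1 D9637) (iv5 F6656) (iv6 D4585) F3210
theorem F32307 : act 1 n10421 = n20359 := d15_0 (iv0 F32305) (iv7 F16583) F16582
def n20360 : Q := act 6 n9637
theorem D20360 : act 6 n9637 = n20360 := rfl
theorem F32310 : act 0 n10951 = n20360 := d21_4 F17746 (iv1 F16029) F16027 D10951 (iv6 D20360) D20359 (iv1 F32307) (iv5 F17756) (iv6 D10941) D10938
def n20361 : Q := act 5 n9646
theorem D20361 : act 5 n9646 = n20361 := rfl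
theorem F32311 : act 2 n20361 = n19500 := d2_1 D20361 F31225 F17564
theorem F32312 : act 3 n20361 = n17584 := d6_1 D20361 F28571 F15017
theorem F32313 : act 7 n20361 = n19476 := d13_2 F17558 D20361 (iv5 D19476)
theorem F32314 : act 1 n20361 = n19487 := d17_6 (iv1 F6023) D9146 F14246 F17502 D9646 D20361 (iv5 D19487) (iv0 F14284) (iv4 D4938)
theorem F32315 : act 0 n20361 = n17509 := d21_1 D20361 (iv5 D17509) F16802 (iv1 F6539) D4771 D10481 (iv1 F17028) (iv5 D10547) (iv6 F17027) (iv1 F17565)
theorem F32316 : act 4 n18473 = n20361 := d18_7 F14287 (iv4 D4941) (iv1 D2033) (iv4 F2866) D3892 D8687 D18473 F32314 (iv5 D19487)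
def n20362 : Q := act 4 n9649
theorem D20362 : act 4 n9649 = n20362 := rfl
theorem F32317 : act 2 n20362 = n9652 := d1_1 D20362 (iv4 D9652) (iv2 F15018)
theorem F32318 : act 7 n20362 = n19501 := d11_2 (iv7 F17509) D20362 (iv4 D19501)
theorem F32319 : act 0 n20362 = n20343 := d18_2 (iv1 F17508) D20362 F32284 (iv5 D18466) (iv4 D8683) F12267 F12264 F6023 D4939
theorem F32320 : act 1 n20362 = n20342 := d18_6 (iv1 F27439) F27436 F17486 F12904 D9649 D20362 F32283 F29644 (iv5 F16856)
def n20363 : Q := act 6 n9649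
theorem D20363 : act 6 n9649 = n20363 := rfl
theorem F32321 : act 2 n20363 = n9653 := d3_1 D20363 (iv6 D9653) (iv2 F15018)
theorem F32323 : act 5 n20363 = n20363 := d12_1 D20363 (iv6 D20363) (iv5 D9649) F6248 D9649
def n20364 : Q := act 0 n9652
theorem D20364 : act 0 n9652 = n20364 := rfl
theorem F32324 : act 4 n20364 = n20117 := d18_3 F17505 D9652 D20364 F31937 F15130 (iv0 D7836) F5579 F7112 D4146
theorem F32325 : act 1 n19501 = n20364 := d15_0 (iv0 D20364) F15025 (iv2 F31228)
theorem F32326 : act 2 n20343 = n20364 := d1_3 F32324 (iv2 F31938) (iv4 F32284)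
theorem F32327 : act 7 n20342 = n20364 := d11_0 F32324 F31940 (iv4 F32283)
def n20365 : Q := act 1 n9652
theorem D20365 : act 1 n9652 = n20365 := rfl
theorem F32328 : act 1 n20365 = n19501 := d15_1 D20365 (iv7 F32318) F32317
theorem F32329 : act 7 n20365 = n20343 := d15_2 (iv0 D20364) D20365 F32326
theorem F32330 : act 4 n16729 = n20365 := d20_6 D5069 F7518 (iv4 D4320) (iv3 F6203) (iv1 F17553) (iv3 F27458) (iv1 D20365) (iv4 D9652) F6253 (iv1 F3378)
theorem F32331 : act 2 n20365 = n20342 := d1_1 F32330 F32283 F29643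
def n20366 : Q := act 3 n9652
theorem D20366 : act 3 n9652 = n20366 := rfl
theorem F32332 : act 4 n20366 = n9654 := d5_2 D9652 D20366 (iv3 D9654) (iv4 D4344) (iv3 F6253)
theorem F32333 : act 7 n20366 = n20344 := d8_2 (iv7 F15025) D20366 (iv3 D20344)
def n20367 : Q := act 5 n9652
theorem D20367 : act 5 n9652 = n20367 := rfl
theorem F32334 : act 7 n20367 = n20345 := d13_2 (iv7 F15025) D20367 (iv5 D20345)
def n20368 : Q := act 6 n9652
theorem D20368 : act 6 n9652 = n20368 := rfl
theorem F32335 : act 4 n20368 = n9653 := d10_1 D20368 (iv6 D9653) D9652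
def n20369 : Q := act 0 n9653
theorem D20369 : act 0 n9653 = n20369 := rfl
def n20370 : Q := act 1 n9653
theorem D20370 : act 1 n9653 = n20370 := rfl
def n20371 : Q := act 7 n9653
theorem D20371 : act 7 n9653 = n20371 := rfl
theorem F32336 : act 3 n20371 = n9658 := d8_1 D20371 (iv7 D9658) (iv3 F15026)
theorem F32338 : act 6 n20371 = n20349 := d14_1 D20371 (iv7 D20349) (iv6 D9633) (iv7 F6254) D9653
def n20372 : Q := act 0 n9654
theorem D20372 : act 0 n9654 = n20372 := rfl
theorem F32339 : act 1 n20352 = n20372 := d15_0 (iv0 D20372) F15029 D20352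
def n20373 : Q := act 1 n9654
theorem D20373 : act 1 n9654 = n20373 := rfl
def n20374 : Q := act 2 n9654
theorem D20374 : act 2 n9654 = n20374 := rfl
theorem F32340 : act 3 n20374 = n20374 := d0_2 D9654 D20374 (iv2 D20374) (iv3 D9654) F6255
theorem F32341 : act 5 n20374 = n20374 := d2_2 F15028 D20374 (iv2 D20374)
theorem F32342 : act 7 n20374 = n20352 := d4_2 (iv7 F15029) D20374 (iv2 D20352)
theorem F32343 : act 1 n20374 = n20350 := d15_0 (iv0 D20350) (iv7 F15029) D20374
theorem F32344 : act 1 n20373 = n20352 := d15_1 D20373 (iv7 F32342) (iv2 D20374)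
theorem F32345 : act 1 n20351 = n20374 := d15_1 D20351 F32342 (iv2 D20352)
def n20376 : Q := act 5 n9655
theorem D20376 : act 5 n9655 = n20376 := rfl
def n20377 : Q := act 7 n9655
theorem D20377 : act 7 n9655 = n20377 := rfl
theorem F32349 : act 2 n20377 = n20377 := d4_1 D20377 (iv7 D20377) F15030
theorem F32350 : act 4 n20377 = n9658 := d11_1 D20377 (iv7 D9658) (iv4 F15031)
theorem F32352 : act 1 n20377 = n20297 := d15_0 (iv0 F32214) D20377 F32349
theorem F32353 : act 1 n20300 = n20377 := d15_1 F32223 (iv7 D20377) F15030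
def n20378 : Q := act 3 n9656
theorem D20378 : act 3 n9656 = n20378 := rfl
theorem F32354 : act 6 n20378 = n19818 := d7_2 F16063 D20378 F31595
def n20379 : Q := act 5 n9656
theorem D20379 : act 5 n9656 = n20379 := rfl
theorem F32355 : act 2 n20379 = n20379 := d2_1 D20379 (iv5 D20379) F16114
theorem F32356 : act 6 n20379 = n10938 := d12_2 F16063 D20379 F17746 (iv6 D9308) D9307
theorem F32357 : act 7 n20379 = n11080 := d13_2 F16115 D20379 F17954
def n20380 : Q := act 3 n9657
theorem D20380 : act 3 n9657 = n20380 := rfl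
theorem F32358 : act 7 n20380 = n20378 := d8_2 (iv7 F16115) D20380 (iv3 D20378)
def n20381 : Q := act 6 n9659
theorem D20381 : act 6 n9659 = n20381 := rfl
theorem F32359 : act 2 n20381 = n9661 := d3_1 D20381 (iv6 D9661) (iv2 F15038)
theorem F32360 : act 3 n20381 = n18144 := d7_1 D20381 (iv6 D18144) (iv3 F15039)
theorem F32361 : act 4 n20381 = n10169 := d10_1 D20381 (iv6 D10169) (iv4 F15042)
theorem F32362 : act 5 n20381 = n19198 := d12_1 D20381 (iv6 D19198) (iv5 D9020) F16751 D9659
def n20382 : Q := act 0 n9661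
theorem D20382 : act 0 n9661 = n20382 := rfl
def n20383 : Q := act 1 n9661
theorem D20383 : act 1 n9661 = n20383 := rfl
def n20384 : Q := act 7 n9661
theorem D20384 : act 7 n9661 = n20384 := rfl
theorem F32363 : act 3 n20384 = n9680 := d8_1 D20384 (iv7 D9680) (iv3 F15047)
theorem F32364 : act 6 n20384 = n19856 := d14_1 D20384 (iv7 D19856) (iv6 D9342) F12224 D9661
def n20385 : Q := act 6 n9666
theorem D20385 : act 6 n9666 = n20385 := rfl
theorem F32365 : act 2 n20385 = n10600 := d3_1 D20385 (iv6 D10600) (iv2 F15051)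
theorem F32366 : act 3 n20385 = n10641 := d7_1 D20385 (iv6 D10641) (iv3 F15052)
theorem F32367 : act 4 n20385 = n19952 := d10_1 D20385 (iv6 D19952) (iv4 F15056)
def n20386 : Q := act 5 n9667
theorem D20386 : act 5 n9667 = n20386 := rfl
theorem F32368 : act 2 n20386 = n19475 := d2_1 D20386 (iv5 D19475) (iv2 F15057)
theorem F32369 : act 3 n20386 = n19479 := d6_1 D20386 (iv5 D19479) (iv3 F15058)
theorem F32370 : act 7 n20386 = n19865 := d13_2 F17577 D20386 F31706
theorem F32371 : act 0 n20386 = n9700 := d17_2 (iv1 F17578) D20386 (iv5 D9700) F6316 D4383 (iv0 F16824) (iv5 D4267) D4266 D9410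
theorem F32372 : act 1 n20386 = n9839 := d17_6 (iv1 F14567) D9766 F31146 (iv5 D19475) (iv4 F15059) D20386 (iv5 D9839) F16833 (iv4 F14563)
theorem F32373 : act 4 n20386 = n19896 := d18_5 (iv1 F6178) D4294 (iv1 F17401) (iv4 F15059) D20386 F31740 (iv4 D9500) (iv0 F16851) F16853
def n20387 : Q := act 0 n9668
theorem D20387 : act 0 n9668 = n20387 := rfl
def n20388 : Q := act 1 n9668
theorem D20388 : act 1 n9668 = n20388 := rfl
def n20389 : Q := act 7 n9668
theorem D20389 : act 7 n9668 = n20389 := rfl
theorem F32375 : act 2 n20389 = n19904 := d4_1 D20389 (iv7 D19904) (iv2 F15060)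
theorem F32376 : act 6 n20389 = n19863 := d14_1 D20389 (iv7 D19863) (iv6 D9348) (iv7 F12160) D9668
theorem F32377 : act 1 n19904 = n20387 := d15_0 (iv0 D20387) D20389 F32375
theorem F32378 : act 1 n19903 = n20389 := d15_1 D19903 (iv7 D20389) F15060
theorem F32379 : act 1 n20389 = n19902 := d15_0 (iv0 D19902) D19904 (iv2 F32375)
def n20390 : Q := act 3 n9673
theorem D20390 : act 3 n9673 = n20390 := rfl
theorem F32380 : act 4 n20390 = n19620 := d5_2 (iv4 F15071) D20390 (iv3 D19620) F14413 (iv3 F14381)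
theorem F32381 : act 7 n20390 = n19866 := d8_2 (iv7 F15070) D20390 (iv3 D19866)
theorem F32382 : act 0 n20390 = n9701 := d20_4 (iv4 F6916) (iv1 F14384) (iv4 F15071) D20390 (iv3 D9701) (iv4 D4379) F7281 D1875 (iv3 F3183) D4538
theorem F32383 : act 2 n20390 = n19905 := d15_3 (iv0 D19905) (iv0 F31710) (iv7 F32381)
def n20391 : Q := act 6 n9673
theorem D20391 : act 6 n9673 = n20391 := rfl
theorem F32384 : act 2 n20391 = n19577 := d3_1 D20391 (iv6 D19577) F15072
theorem F32385 : act 4 n20391 = n19574 := d10_1 D20391 (iv6 D19574) (iv4 F15071)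
def n20392 : Q := act 0 n9674
theorem D20392 : act 0 n9674 = n20392 := rfl
theorem F32386 : act 1 n12150 = n20392 := d15_0 (iv0 D20392) F15073 (iv2 F26937)
def n20393 : Q := act 1 n9674
theorem D20393 : act 1 n9674 = n20393 := rfl
def n20394 : Q := act 2 n9674
theorem D20394 : act 2 n9674 = n20394 := rfl
theorem F32387 : act 3 n20394 = n19906 := d0_2 D9674 D20394 (iv2 D19906) (iv3 D9377) F12231
theorem F32388 : act 5 n20394 = n12151 := d2_2 (iv5 F27900) D20394 (iv2 F27894)
theorem F32389 : act 7 n20394 = n12150 := d4_2 (iv7 F15073) D20394 F26937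
theorem F32390 : act 1 n20394 = n19869 := d15_0 (iv0 D19869) (iv7 F15073) D20394
theorem F32391 : act 1 n20393 = n12150 := d15_1 D20393 (iv7 F32389) (iv2 D20394)
theorem F32392 : act 1 n19870 = n20394 := d15_1 D19870 F32389 F26937
def n20395 : Q := act 6 n9674
theorem D20395 : act 6 n9674 = n20395 := rfl
theorem F32393 : act 3 n20395 = n9676 := d7_1 D20395 (iv6 D9676) D9674
def n20396 : Q := act 0 n9675
theorem D20396 : act 0 n9675 = n20396 := rfl
theorem F32394 : act 5 n20396 = n9721 := d17_1 D20396 (iv1 F15175) D9732 (iv4 F15210) (iv5 D9738) (iv0 D4401) D4403 D9744 (iv4 F15227)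
theorem F32395 : act 4 n20396 = n10680 := d18_1 D20396 F17223 F14664 F14663 (iv4 F6916) F6914 D4815 (iv0 F7285) D9675
theorem F32396 : act 3 n20396 = n17010 := d20_5 (iv4 F12598) D7954 D17027 F27895 D20396 (iv4 D17010) (iv1 D7941) (iv4 F12510) F12509 D7903
theorem F32397 : act 1 n9702 = n20396 := d15_0 (iv0 D20396) F15075 (iv2 F15139)
theorem F32398 : act 2 n19872 = n20396 := d2_3 F32394 (iv2 F15176) (iv5 F31718)
theorem F32399 : act 7 n10680 = n20396 := d13_0 F32394 (iv7 F15177) D10680
def n20397 : Q := act 1 n9675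
theorem D20397 : act 1 n9675 = n20397 := rfl
theorem F32400 : act 1 n20397 = n9702 := d15_1 D20397 F15140 (iv2 F15074)
theorem F32401 : act 7 n20397 = n19872 := d15_2 (iv0 D20396) D20397 F32398
theorem F32402 : act 5 n20397 = n9722 := d17_7 (iv1 D1849) (iv5 D965) D962 D1839 D4364 D9675 D20397 F15178 (iv4 D4398)
theorem F32403 : act 4 n20397 = n19872 := d17_9 (iv1 D19872) (iv5 D9354) (iv1 F14388) D19576 F31339 (iv5 D10512) (iv0 F7285) D9675 D20397
theorem F32404 : act 2 n10680 = n20397 := d1_3 F32403 F32398 F32395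
def n20398 : Q := act 6 n9675
theorem D20398 : act 6 n9675 = n20398 := rfl
theorem F32405 : act 2 n20398 = n19909 := d3_1 D20398 (iv6 D19909) (iv2 F15074)
theorem F32406 : act 3 n20398 = n12163 := d7_1 D20398 (iv6 F27896) F27895
theorem F32407 : act 7 n20398 = n12158 := d14_2 (iv7 F15075) D20398 (iv6 D12158) (iv7 F18054) (iv6 F26934)
def n20399 : Q := act 0 n9676
theorem D20399 : act 0 n9676 = n20399 := rfl
def n20400 : Q := act 1 n9676
theorem D20400 : act 1 n9676 = n20400 := rfl
theorem F32408 : act 1 n20400 = n19913 := d15_1 D20400 (iv7 D19913) (iv2 F15076)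
def n20401 : Q := act 5 n9676
theorem D20401 : act 5 n9676 = n20401 := rfl
theorem F32409 : act 2 n20401 = n19912 := d2_1 D20401 (iv5 D19912) (iv2 F15076)
def n20402 : Q := act 7 n9676
theorem D20402 : act 7 n9676 = n20402 := rfl
theorem F32410 : act 2 n20402 = n19913 := d4_1 D20402 (iv7 D19913) (iv2 F15076)
theorem F32411 : act 4 n20402 = n9680 := d11_1 D20402 (iv7 D9680) (iv4 F15077)
theorem F32412 : act 6 n20402 = n19876 := d14_1 D20402 (iv7 D19876) (iv6 D9355) F12225 D9676
theorem F32413 : act 1 n19913 = n20399 := d15_0 (iv0 D20399) D20402 F32410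
theorem F32414 : act 1 n19911 = n20402 := d15_1 D19911 (iv7 D20402) F15076
theorem F32415 : act 1 n20402 = n19910 := d15_0 (iv0 D19910) D19913 (iv2 F32410)
def n20404 : Q := act 3 n9677
theorem D20404 : act 3 n9677 = n20404 := rfl
def n20405 : Q := act 4 n9677
theorem D20405 : act 4 n9677 = n20405 := rfl
def n20406 : Q := act 5 n9677
theorem D20406 : act 5 n9677 = n20406 := rfl
def n20407 : Q := act 6 n9677
theorem D20407 : act 6 n9677 = n20407 := rfl
theorem F32417 : act 5 n20407 = n20134 := d21_6 (iv5 D965) D962 D1839 D4365 D9677 D20407 (iv1 D20134) F14758 (iv6 D4400) (iv1 D1849)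
def n20409 : Q := act 3 n9678
theorem D20409 : act 3 n9678 = n20409 := rfl
def n20411 : Q := act 5 n9678
theorem D20411 : act 5 n9678 = n20411 := rfl
theorem F32419 : act 6 n20411 = n9704 := d21_3 F16967 (iv1 F15078) D20411 (iv1 F15148) (iv6 F15082) F16966 (iv1 F15193) D19999 (iv6 F31824) (iv1 F15192)
def n20413 : Q := act 6 n9694
theorem D20413 : act 6 n9694 = n20413 := rfl
theorem F32420 : act 2 n20413 = n10729 := d3_1 D20413 (iv6 D10729) (iv2 F15118)
theorem F32421 : act 3 n20413 = n19298 := d7_1 D20413 (iv6 D19298) (iv3 F15119)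
theorem F32422 : act 4 n20413 = n10622 := d10_1 D20413 (iv6 D10622) (iv4 F15123)
def n20414 : Q := act 5 n9695
theorem D20414 : act 5 n9695 = n20414 := rfl
theorem F32423 : act 2 n20414 = n9698 := d2_1 D20414 (iv5 D9698) (iv2 F15124)
theorem F32424 : act 3 n20414 = n19852 := d6_1 D20414 (iv5 D19852) (iv3 F15125)
theorem F32425 : act 7 n20414 = n18142 := d13_2 F16789 D20414 (iv5 D18142)
theorem F32426 : act 0 n20414 = n19839 := d17_2 F15127 D20414 F31644 F17543 F17497 (iv0 F27402) (iv5 D16711) (iv0 F12266) D8680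
theorem F32427 : act 1 n20414 = n16721 := d17_6 (iv1 F17596) D19476 F31150 (iv5 D17440) (iv4 F15126) D20414 (iv5 D16721) F17516 D9491
def n20415 : Q := act 0 n9696
theorem D20415 : act 0 n9696 = n20415 := rfl
def n20416 : Q := act 1 n9696
theorem D20416 : act 1 n9696 = n20416 := rfl
def n20417 : Q := act 5 n9696
theorem D20417 : act 5 n9696 = n20417 := rfl
theorem F32428 : act 3 n20417 = n9706 := d6_1 D20417 (iv5 D9706) (iv3 F15129)
theorem F32429 : act 6 n20417 = n9698 := d12_2 D9696 D20417 (iv5 D9698) (iv6 D4376) D4375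
def n20418 : Q := act 7 n9696
theorem D20418 : act 7 n9696 = n20418 := rfl
theorem F32430 : act 3 n20418 = n9707 := d8_1 D20418 (iv7 D9707) (iv3 F15129)
theorem F32431 : act 6 n20418 = n19901 := d14_1 D20418 (iv7 D19901) (iv6 D9367) (iv7 F12237) D9696
def n20419 : Q := act 0 n9698
theorem D20419 : act 0 n9698 = n20419 := rfl
theorem F32432 : act 5 n20419 = n16722 := d17_3 F13381 D9698 D20419 F27436 (iv5 F27443) F27445 (iv5 D7837) (iv0 F7216) (iv4 F12358)
theorem F32433 : act 4 n20419 = n19714 := d18_1 D20419 (iv1 F31466) (iv4 D10433) (iv5 D4725) (iv4 F5808) F12390 (iv4 F15130) (iv0 D9697) D9698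
theorem F32434 : act 2 n19839 = n20419 := d15_3 (iv0 D20419) (iv0 F30555) (iv7 F31645)
theorem F32435 : act 1 n18142 = n20419 := d15_0 (iv0 D20419) (iv7 F16791) (iv2 F29312)
theorem F32436 : act 7 n20419 = n16721 := d15_2 F30554 F32435 (iv2 F30552)
def n20420 : Q := act 0 n9699
theorem D20420 : act 0 n9699 = n20420 := rfl
def n20421 : Q := act 1 n9699
theorem D20421 : act 1 n9699 = n20421 := rfl
theorem F32437 : act 1 n20421 = n19863 := d15_1 D20421 (iv7 D19863) (iv2 F15134)
def n20422 : Q := act 5 n9699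
theorem D20422 : act 5 n9699 = n20422 := rfl
theorem F32438 : act 2 n20422 = n19862 := d2_1 D20422 (iv5 D19862) (iv2 F15134)
theorem F32439 : act 3 n20422 = n10330 := d6_1 D20422 (iv5 D10330) (iv3 F15135)
theorem F32440 : act 6 n20422 = n9700 := d12_2 D9699 D20422 (iv5 D9700) (iv6 D4378) D4377
def n20423 : Q := act 7 n9699
theorem D20423 : act 7 n9699 = n20423 := rfl
theorem F32441 : act 2 n20423 = n19863 := d4_1 D20423 (iv7 D19863) (iv2 F15134)
theorem F32442 : act 3 n20423 = n10331 := d8_1 D20423 (iv7 D10331) (iv3 F15135)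
theorem F32443 : act 6 n20423 = n19904 := d14_1 D20423 (iv7 D19904) (iv6 D9372) (iv7 F12154) D9699
theorem F32444 : act 1 n19863 = n20420 := d15_0 (iv0 D20420) D20423 F32441
theorem F32445 : act 1 n19861 = n20423 := d15_1 D19861 (iv7 D20423) F15134
theorem F32446 : act 1 n20423 = n19860 := d15_0 (iv0 D19860) D19863 (iv2 F32441)
def n20424 : Q := act 0 n9701
theorem D20424 : act 0 n9701 = n20424 := rfl
theorem F32447 : act 2 n19866 = n20424 := d15_3 (iv0 D20424) (iv0 F32382) F32381
theorem F32448 : act 1 n19906 = n20424 := d15_0 (iv0 D20424) F15138 D19906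
theorem F32449 : act 7 n20424 = n19905 := d4_2 F32381 F32447 (iv2 F32383)
theorem F32450 : act 1 n20390 = n19906 := d15_0 F32448 F32449 (iv2 F32383)
def n20425 : Q := act 2 n9701
theorem D20425 : act 2 n9701 = n20425 := rfl
theorem F32451 : act 3 n20425 = n12150 := d0_2 D9701 D20425 F26937 (iv3 D9353) F12226
theorem F32452 : act 7 n20425 = n19906 := d4_2 (iv7 F15138) D20425 (iv2 D19906)
theorem F32453 : act 1 n20425 = n19905 := d15_0 (iv0 D19905) (iv7 F15138) D20425
theorem F32454 : act 1 n19866 = n20425 := d15_0 F32453 (iv7 F32449) (iv2 F32447)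
theorem F32455 : act 5 n12146 = n20425 := d6_0 F32451 (iv5 D12150) (iv3 F20092)
def n20426 : Q := act 5 n9701
theorem D20426 : act 5 n9701 = n20426 := rfl
theorem F32456 : act 2 n20426 = n12146 := d2_1 D20426 F32455 (iv2 D20425)
theorem F32457 : act 3 n20426 = n9702 := d6_1 D20426 (iv5 D9702) D9701
theorem F32458 : act 7 n20426 = n19907 := d13_2 (iv7 F15138) D20426 (iv5 D19907)
theorem F32459 : act 4 n12847 = n20426 := d11_3 F32458 F31853 (iv7 F26777)
theorem F32460 : act 6 n12144 = n20426 := d14_5 F32458 (iv6 F31854) (iv7 F26776) F26654 (iv7 F20086)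
def n20427 : Q := act 6 n9701
theorem D20427 : act 6 n9701 = n20427 := rfl
theorem F32461 : act 3 n20427 = n9703 := d7_1 D20427 (iv6 D9703) D9701
def n20428 : Q := act 6 n9702
theorem D20428 : act 6 n9702 = n20428 := rfl
theorem F32462 : act 2 n20428 = n11125 := d3_1 D20428 (iv6 F26934) (iv2 F15139)
theorem F32463 : act 3 n20428 = n12144 := d7_1 D20428 F32460 F32457
theorem F32464 : act 4 n20428 = n16899 := d10_1 D20428 F27684 (iv4 F15221)
theorem F32465 : act 7 n12156 = n20428 := d8_0 F32463 F20086 (iv3 F20105)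
theorem F32466 : act 0 n12154 = n20428 := d20_4 F21469 (iv1 F9537) D7936 (iv3 F20104) F32463 F20085 (iv1 F9443) D8163 (iv3 F12926) (iv1 F21471)
theorem F32467 : act 1 n12155 = n20428 := d15_1 D12155 (iv7 F32465) (iv2 D12156)
def n20429 : Q := act 0 n9703
theorem D20429 : act 0 n9703 = n20429 := rfl
def n20430 : Q := act 1 n9703
theorem D20430 : act 1 n9703 = n20430 := rfl
theorem F32468 : act 1 n20430 = n19876 := d15_1 D20430 (iv7 D19876) (iv2 F15141)
def n20431 : Q := act 5 n9703
theorem D20431 : act 5 n9703 = n20431 := rfl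
theorem F32469 : act 2 n20431 = n19875 := d2_1 D20431 (iv5 D19875) (iv2 F15141)
def n20432 : Q := act 7 n9703
theorem D20432 : act 7 n9703 = n20432 := rfl
theorem F32470 : act 2 n20432 = n19876 := d4_1 D20432 (iv7 D19876) (iv2 F15141)
theorem F32471 : act 4 n20432 = n9707 := d11_1 D20432 (iv7 D9707) (iv4 F15142)
theorem F32472 : act 6 n20432 = n19913 := d14_1 D20432 (iv7 D19913) (iv6 D9379) (iv7 F12233) D9703
theorem F32473 : act 1 n19876 = n20429 := d15_0 (iv0 D20429) D20432 F32470
theorem F32474 : act 1 n19874 = n20432 := d15_1 D19874 (iv7 D20432) F15141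
theorem F32475 : act 1 n20432 = n19873 := d15_0 (iv0 D19873) D19876 (iv2 F32470)
def n20438 : Q := act 3 n9705
theorem D20438 : act 3 n9705 = n20438 := rfl
def n20439 : Q := act 4 n9705
theorem D20439 : act 4 n9705 = n20439 := rfl
def n20440 : Q := act 5 n9705
theorem D20440 : act 5 n9705 = n20440 := rfl
def n20441 : Q := act 6 n9705
theorem D20441 : act 6 n9705 = n20441 := rfl
def n20442 : Q := act 0 n9706
theorem D20442 : act 0 n9706 = n20442 := rfl
def n20443 : Q := act 1 n9706
theorem D20443 : act 1 n9706 = n20443 := rfl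
theorem F32478 : act 1 n20443 = n19890 := d15_1 D20443 (iv7 D19890) (iv2 F15144)
theorem F32479 : act 5 n19967 = n20443 := d21_6 (iv5 D973) D970 F7259 D4273 D9421 D19967 (iv1 D20443) (iv5 D9706) (iv6 D4380) F7281
def n20444 : Q := act 4 n9706
theorem D20444 : act 4 n9706 = n20444 := rfl
theorem F32480 : act 2 n20444 = n19889 := d1_1 D20444 (iv4 D19889) (iv2 F15144)
theorem F32481 : act 6 n20444 = n9710 := d10_2 (iv6 F15145) D20444 (iv4 D9710)
def n20445 : Q := act 7 n9706
theorem D20445 : act 7 n9706 = n20445 := rfl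
theorem F32482 : act 2 n20445 = n19890 := d4_1 D20445 (iv7 D19890) (iv2 F15144)
theorem F32483 : act 5 n20445 = n9707 := d13_1 D20445 (iv7 D9707) D9706
theorem F32484 : act 6 n20445 = n20135 := d14_1 D20445 (iv7 D20135) (iv6 D9501) F16829 (iv6 F15145)
theorem F32485 : act 1 n19890 = n20442 := d15_0 (iv0 D20442) D20445 F32482
theorem F32486 : act 1 n19888 = n20445 := d15_1 D19888 (iv7 D20445) F15144
theorem F32487 : act 5 n20082 = n20442 := d21_0 (iv1 F32485) F31724 (iv6 F15082) (iv1 F15084) D19922 (iv5 F31888) F31890 (iv5 D9456) D9457 D20082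
theorem F32488 : act 1 n20445 = n19887 := d15_0 (iv0 D19887) D19890 (iv2 F32482)
def n20446 : Q := act 0 n9710
theorem D20446 : act 0 n9710 = n20446 := rfl
theorem F32489 : act 4 n20446 = n19865 := d18_3 F16824 D9710 D20446 F31706 F15014 F17572 F13947 (iv0 D4265) D4267
theorem F32490 : act 1 n9847 = n20446 := d15_0 (iv0 D20446) (iv7 F16869) (iv2 F15477)
theorem F32491 : act 2 n19895 = n20446 := d1_3 F32489 (iv2 F31707) (iv4 F31738)
theorem F32492 : act 7 n19896 = n20446 := d11_0 F32489 (iv7 F32370) F32373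
def n20447 : Q := act 1 n9710
theorem D20447 : act 1 n9710 = n20447 := rfl
theorem F32493 : act 1 n20447 = n9847 := d15_1 D20447 (iv7 F16855) (iv2 F15153)
theorem F32494 : act 7 n20447 = n19895 := d15_2 (iv0 D20446) D20447 F32491
theorem F32495 : act 4 n20447 = n19475 := d18_7 F14335 (iv4 F14327) F14328 F6316 D4383 D9710 D20447 (iv0 F31146) (iv5 D9766)
theorem F32496 : act 2 n19896 = n20447 := d1_3 F32495 (iv2 F32368) F32373
def n20448 : Q := act 3 n9710
theorem D20448 : act 3 n9710 = n20448 := rfl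
theorem F32497 : act 7 n20448 = n20130 := d8_2 F16869 D20448 (iv3 D20130)
def n20449 : Q := act 5 n9710
theorem D20449 : act 5 n9710 = n20449 := rfl
theorem F32498 : act 2 n20449 = n19898 := d2_1 D20449 (iv5 D19898) (iv2 F15153)
theorem F32499 : act 7 n20449 = n20131 := d13_2 F16869 D20449 (iv5 D20131)
def n20450 : Q := act 0 n9711
theorem D20450 : act 0 n9711 = n20450 := rfl
theorem F32500 : act 1 n9711 = n20450 := d15_0 (iv0 D20450) F15156 (iv2 F15154)
def n20451 : Q := act 6 n9711
theorem D20451 : act 6 n9711 = n20451 := rfl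
theorem F32501 : act 2 n20451 = n19925 := d3_1 D20451 (iv6 D19925) (iv2 F15154)
theorem F32502 : act 3 n20451 = n9712 := d7_1 D20451 (iv6 D9712) D9711
theorem F32503 : act 4 n20451 = n20451 := d10_1 D20451 (iv6 D20451) F15155
def n20452 : Q := act 0 n9712
theorem D20452 : act 0 n9712 = n20452 := rfl
def n20453 : Q := act 1 n9712
theorem D20453 : act 1 n9712 = n20453 := rfl
theorem F32504 : act 1 n20453 = n9749 := d15_1 D20453 (iv7 D9749) (iv2 F15157)
def n20454 : Q := act 5 n9712
theorem D20454 : act 5 n9712 = n20454 := rfl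
theorem F32505 : act 2 n20454 = n9748 := d2_1 D20454 (iv5 D9748) (iv2 F15157)
def n20455 : Q := act 7 n9712
theorem D20455 : act 7 n9712 = n20455 := rfl
theorem F32506 : act 2 n20455 = n9749 := d4_1 D20455 (iv7 D9749) (iv2 F15157)
theorem F32507 : act 4 n20455 = n9716 := d11_1 D20455 (iv7 D9716) (iv4 F15158)
theorem F32508 : act 6 n20455 = n19930 := d14_1 D20455 (iv7 D19930) (iv6 D9399) (iv7 F6318) D9712
theorem F32509 : act 1 n9749 = n20452 := d15_0 (iv0 D20452) D20455 F32506
theorem F32510 : act 1 n9747 = n20455 := d15_1 D9747 (iv7 D20455) F15157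
theorem F32511 : act 4 n10919 = n20452 := d20_6 F14810 (iv1 D2041) (iv4 F1900) (iv3 F3341) D4975 D10919 (iv1 F32509) F15232 F6343 (iv1 F3151)
theorem F32512 : act 1 n20455 = n9746 := d15_0 (iv0 D9746) D9749 (iv2 F32506)
def n20456 : Q := act 2 n9713
theorem D20456 : act 2 n9713 = n20456 := rfl
theorem F32513 : act 7 n9714 = n20456 := d15_2 (iv0 D9713) D9714 (iv2 D20456)
def n20457 : Q := act 3 n9713
theorem D20457 : act 3 n9713 = n20457 := rfl
def n20458 : Q := act 4 n9713
theorem D20458 : act 4 n9713 = n20458 := rfl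
def n20459 : Q := act 5 n9713
theorem D20459 : act 5 n9713 = n20459 := rfl
def n20460 : Q := act 6 n9713
theorem D20460 : act 6 n9713 = n20460 := rfl
def n20461 : Q := act 7 n9713
theorem D20461 : act 7 n9713 = n20461 := rfl
theorem F32515 : act 2 n20461 = n9714 := d4_1 D20461 F32513 (iv2 D20456)
def n20462 : Q := act 3 n9714
theorem D20462 : act 3 n9714 = n20462 := rfl
theorem F32516 : act 4 n20462 = n10915 := d20_6 (iv4 F14798) (iv1 F3083) (iv4 F3148) (iv3 F6343) (iv1 F15159) D20462 (iv1 D10915) F7401 F3341 D2049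
def n20463 : Q := act 4 n9714
theorem D20463 : act 4 n9714 = n20463 := rfl
def n20464 : Q := act 6 n9714
theorem D20464 : act 6 n9714 = n20464 := rfl
def n20465 : Q := act 0 n9715
theorem D20465 : act 0 n9715 = n20465 := rfl
def n20466 : Q := act 1 n9715
theorem D20466 : act 1 n9715 = n20466 := rfl
theorem F32517 : act 1 n20466 = n9763 := d15_1 D20466 (iv7 D9763) (iv2 F15160)
theorem F32518 : act 5 n9887 = n20466 := d21_6 F7245 (iv1 D971) D973 D1876 D4490 D9887 (iv1 D20466) (iv5 D9715) (iv6 D4386) (iv1 F3131)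
def n20467 : Q := act 4 n9715
theorem D20467 : act 4 n9715 = n20467 := rfl
theorem F32519 : act 2 n20467 = n9762 := d1_1 D20467 (iv4 D9762) (iv2 F15160)
theorem F32520 : act 6 n20467 = n9719 := d10_2 (iv6 F15162) D20467 (iv4 D9719)
def n20468 : Q := act 7 n9715
theorem D20468 : act 7 n9715 = n20468 := rfl
theorem F32521 : act 2 n20468 = n9763 := d4_1 D20468 (iv7 D9763) (iv2 F15160)
theorem F32522 : act 3 n20468 = n20468 := d8_1 D20468 (iv7 D20468) F15161
theorem F32523 : act 5 n20468 = n9716 := d13_1 D20468 (iv7 D9716) D9715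
theorem F32524 : act 1 n9763 = n20465 := d15_0 (iv0 D20465) D20468 F32521
theorem F32525 : act 1 n9761 = n20468 := d15_1 D9761 (iv7 D20468) F15160
theorem F32526 : act 1 n20468 = n9760 := d15_0 (iv0 D9760) D9763 (iv2 F32521)
def n20469 : Q := act 3 n9719
theorem D20469 : act 3 n9719 = n20469 := rfl
theorem F32527 : act 4 n20469 = n20469 := d5_2 D9719 D20469 (iv3 D20469) (iv4 D9719) F6325
def n20470 : Q := act 5 n9719
theorem D20470 : act 5 n9719 = n20470 := rfl
theorem F32528 : act 2 n20470 = n9781 := d2_1 D20470 (iv5 D9781) (iv2 F15172)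
def n20471 : Q := act 0 n9720
theorem D20471 : act 0 n9720 = n20471 := rfl
def n20472 : Q := act 1 n9720
theorem D20472 : act 1 n9720 = n20472 := rfl
def n20473 : Q := act 7 n9720
theorem D20473 : act 7 n9720 = n20473 := rfl
theorem F32529 : act 3 n20473 = n9729 := d8_1 D20473 (iv7 D9729) (iv3 F15173)
theorem F32530 : act 5 n20473 = n20384 := d13_1 D20473 (iv7 D20384) F16965
theorem F32531 : act 6 n20473 = n19951 := d14_1 D20473 (iv7 D19951) (iv6 D9416) F7256 D9720
def n20474 : Q := act 3 n9721
theorem D20474 : act 3 n9721 = n20474 := rfl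
theorem F32532 : act 4 n20474 = n10602 := d5_2 (iv4 F15174) D20474 (iv3 D10602) (iv4 D4851) D4850
theorem F32533 : act 5 n20474 = n17010 := d6_2 F32394 D20474 (iv3 F32396)
theorem F32534 : act 7 n20474 = n10679 := d8_2 F15177 D20474 (iv3 D10679)
theorem F32535 : act 5 n16935 = n20002 := d18_9 (iv1 D20002) D20004 F31831 (iv4 F32532) F32533 (iv4 D17010) F27869 F31850 F31856
def n20475 : Q := act 6 n9721
theorem D20475 : act 6 n9721 = n20475 := rfl
theorem F32536 : act 2 n20475 = n19952 := d3_1 D20475 (iv6 D19952) F15176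
theorem F32537 : act 4 n20475 = n10600 := d10_1 D20475 (iv6 D10600) (iv4 F15174)
def n20476 : Q := act 3 n9722
theorem D20476 : act 3 n9722 = n20476 := rfl
theorem F32538 : act 4 n20476 = n10735 := d5_2 (iv4 F15180) D20476 (iv3 D10735) (iv4 F16197) F16198
theorem F32539 : act 7 n20476 = n19332 := d8_2 (iv7 F15179) D20476 F30971
theorem F32540 : act 0 n20476 = n9731 := d20_4 F7274 F7242 (iv4 F15180) D20476 (iv3 D9731) (iv4 D4398) (iv1 D1849) D1850 F3138 D4279
theorem F32541 : act 2 n20476 = n19982 := d15_3 (iv0 D19982) (iv0 F30972) (iv7 F32539)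
def n20477 : Q := act 6 n9722
theorem D20477 : act 6 n9722 = n20477 := rfl
theorem F32542 : act 2 n20477 = n10681 := d3_1 D20477 (iv6 D10681) F15181
theorem F32543 : act 4 n20477 = n10678 := d10_1 D20477 (iv6 D10678) (iv4 F15180)
def n20478 : Q := act 0 n9723
theorem D20478 : act 0 n9723 = n20478 := rfl
theorem F32544 : act 5 n20478 = n12149 := d19_1 D20478 F20094 (iv3 F20095) (iv1 D5923) (iv5 F26268) (iv4 D1484) F1522 F1023 (iv5 D493) F414 F58 D94 F97 D337 D634 D975 F7056 D4393 D9723
theorem F32545 : act 1 n19954 = n20478 := d15_0 (iv0 D20478) F15182 D19954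
theorem F32546 : act 2 n16955 = n20478 := d2_3 F32544 F20153 D16955
theorem F32547 : act 3 n16952 = n20478 := d6_3 F32544 (iv3 F26935) D16952
theorem F32548 : act 7 n16952 = n20478 := d13_0 F32544 (iv7 F20146) D16952
def n20479 : Q := act 1 n9723
theorem D20479 : act 1 n9723 = n20479 := rfl
theorem F32549 : act 7 n20479 = n16955 := d15_2 (iv0 D20478) D20479 F32546
theorem F32550 : act 5 n20479 = n12148 := d17_7 (iv1 F10687) D7955 F18627 F18626 (iv4 F20045) F27050 D20479 (iv0 D12148) F8872
theorem F32551 : act 2 n16952 = n20479 := d2_3 F32550 (iv2 F20151) D16952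
theorem F32552 : act 1 n20479 = n19954 := d15_0 F32545 (iv7 F32548) F32551
def n20480 : Q := act 2 n9723
theorem D20480 : act 2 n9723 = n20480 := rfl
theorem F32553 : act 3 n20480 = n19983 := d0_2 D9723 D20480 (iv2 D19983) (iv3 D9427) F7249
theorem F32554 : act 5 n20480 = n13551 := d2_2 F27050 D20480 F22715
theorem F32555 : act 7 n20480 = n19954 := d4_2 (iv7 F15182) D20480 (iv2 D19954)
theorem F32556 : act 1 n20480 = n16952 := d15_0 (iv0 F27797) (iv7 F15182) D20480
theorem F32557 : act 1 n16955 = n20480 := d15_0 F32556 F32548 (iv2 F32546)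
def n20481 : Q := act 6 n9723
theorem D20481 : act 6 n9723 = n20481 := rfl
theorem F32558 : act 3 n20481 = n9725 := d7_1 D20481 (iv6 D9725) D9723
def n20482 : Q := act 0 n9725
theorem D20482 : act 0 n9725 = n20482 := rfl
def n20483 : Q := act 1 n9725
theorem D20483 : act 1 n9725 = n20483 := rfl
theorem F32559 : act 1 n20483 = n19990 := d15_1 D20483 (iv7 D19990) (iv2 F15185)
def n20484 : Q := act 5 n9725
theorem D20484 : act 5 n9725 = n20484 := rfl
theorem F32560 : act 2 n20484 = n19989 := d2_1 D20484 (iv5 D19989) (iv2 F15185)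
def n20485 : Q := act 7 n9725
theorem D20485 : act 7 n9725 = n20485 := rfl
theorem F32561 : act 2 n20485 = n19990 := d4_1 D20485 (iv7 D19990) (iv2 F15185)
theorem F32562 : act 4 n20485 = n9729 := d11_1 D20485 (iv7 D9729) (iv4 F15186)
theorem F32563 : act 6 n20485 = n19962 := d14_1 D20485 (iv7 D19962) (iv6 D9420) F7258 D9725
theorem F32564 : act 1 n19990 = n20482 := d15_0 (iv0 D20482) D20485 F32561
theorem F32565 : act 1 n19988 = n20485 := d15_1 D19988 (iv7 D20485) F15185
theorem F32566 : act 1 n20485 = n19987 := d15_0 (iv0 D19987) D19990 (iv2 F32561)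
def n20489 : Q := act 5 n9726
theorem D20489 : act 5 n9726 = n20489 := rfl
def n20493 : Q := act 6 n9727
theorem D20493 : act 6 n9727 = n20493 := rfl
theorem F32569 : act 5 n20493 = n20068 := d12_1 D20493 (iv6 F31894) (iv5 D19994) D19995 F31822
def n20494 : Q := act 0 n9730
theorem D20494 : act 0 n9730 = n20494 := rfl
def n20495 : Q := act 1 n9730
theorem D20495 : act 1 n9730 = n20495 := rfl
def n20496 : Q := act 7 n9730
theorem D20496 : act 7 n9730 = n20496 := rfl
theorem F32570 : act 3 n20496 = n9736 := d8_1 D20496 (iv7 D9736) (iv3 F15195)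
theorem F32571 : act 6 n20496 = n19981 := d14_1 D20496 (iv7 D19981) (iv6 D9426) F7248 D9730
def n20497 : Q := act 0 n9731
theorem D20497 : act 0 n9731 = n20497 := rfl
theorem F32572 : act 2 n19332 = n20497 := d15_3 (iv0 D20497) (iv0 F32540) F32539
theorem F32573 : act 1 n19983 = n20497 := d15_0 (iv0 D20497) F15196 D19983
theorem F32574 : act 4 n20497 = n19331 := d1_2 D19332 F32572 (iv2 D19331)
theorem F32575 : act 7 n20497 = n19982 := d4_2 F32539 F32572 (iv2 F32541)
theorem F32576 : act 1 n20476 = n19983 := d15_0 F32573 F32575 (iv2 F32541)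
def n20498 : Q := act 2 n9731
theorem D20498 : act 2 n9731 = n20498 := rfl
theorem F32577 : act 3 n20498 = n19954 := d0_2 D9731 D20498 (iv2 D19954) (iv3 D9418) F7257
theorem F32578 : act 7 n20498 = n19983 := d4_2 (iv7 F15196) D20498 (iv2 D19983)
theorem F32579 : act 1 n20498 = n19982 := d15_0 (iv0 D19982) (iv7 F15196) D20498
theorem F32580 : act 1 n19332 = n20498 := d15_0 F32579 (iv7 F32575) (iv2 F32572)
def n20499 : Q := act 5 n9731
theorem D20499 : act 5 n9731 = n20499 := rfl
theorem F32581 : act 3 n20499 = n9732 := d6_1 D20499 (iv5 D9732) D9731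
theorem F32582 : act 7 n20499 = n19984 := d13_2 (iv7 F15196) D20499 (iv5 D19984)
def n20500 : Q := act 6 n9731
theorem D20500 : act 6 n9731 = n20500 := rfl
theorem F32583 : act 3 n20500 = n9733 := d7_1 D20500 (iv6 D9733) D9731
def n20501 : Q := act 6 n9732
theorem D20501 : act 6 n9732 = n20501 := rfl
theorem F32584 : act 2 n20501 = n19958 := d3_1 D20501 (iv6 D19958) (iv2 F15197)
def n20502 : Q := act 0 n9733
theorem D20502 : act 0 n9733 = n20502 := rfl
def n20503 : Q := act 1 n9733
theorem D20503 : act 1 n9733 = n20503 := rfl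
theorem F32585 : act 1 n20503 = n19962 := d15_1 D20503 (iv7 D19962) (iv2 F15199)
def n20504 : Q := act 5 n9733
theorem D20504 : act 5 n9733 = n20504 := rfl
theorem F32586 : act 2 n20504 = n19961 := d2_1 D20504 (iv5 D19961) (iv2 F15199)
def n20505 : Q := act 7 n9733
theorem D20505 : act 7 n9733 = n20505 := rfl
theorem F32587 : act 2 n20505 = n19962 := d4_1 D20505 (iv7 D19962) (iv2 F15199)
theorem F32588 : act 4 n20505 = n9736 := d11_1 D20505 (iv7 D9736) (iv4 F15200)
theorem F32589 : act 6 n20505 = n19990 := d14_1 D20505 (iv7 D19990) (iv6 D9429) F7250 D9733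
theorem F32590 : act 1 n19962 = n20502 := d15_0 (iv0 D20502) D20505 F32587
theorem F32591 : act 1 n19960 = n20505 := d15_1 D19960 (iv7 D20505) F15199
theorem F32592 : act 1 n20505 = n19959 := d15_0 (iv0 D19959) D19962 (iv2 F32587)
def n20506 : Q := act 2 n9734
theorem D20506 : act 2 n9734 = n20506 := rfl
theorem F32593 : act 7 n9735 = n20506 := d15_2 (iv0 D9734) D9735 (iv2 D20506)
def n20507 : Q := act 3 n9734
theorem D20507 : act 3 n9734 = n20507 := rfl
def n20509 : Q := act 5 n9734
theorem D20509 : act 5 n9734 = n20509 := rfl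
def n20510 : Q := act 6 n9734
theorem D20510 : act 6 n9734 = n20510 := rfl
theorem F32594 : act 5 n20510 = n19888 := d21_6 (iv5 D1872) (iv1 F1841) F7064 D4400 D9734 D20510 (iv1 D19888) (iv5 D9358) (iv6 D4243) F6921
def n20511 : Q := act 7 n9734
theorem D20511 : act 7 n9734 = n20511 := rfl
theorem F32595 : act 2 n20511 = n9735 := d4_1 D20511 F32593 (iv2 D20506)
def n20512 : Q := act 3 n9735
theorem D20512 : act 3 n9735 = n20512 := rfl
def n20513 : Q := act 4 n9735
theorem D20513 : act 4 n9735 = n20513 := rfl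
def n20514 : Q := act 5 n9735
theorem D20514 : act 5 n9735 = n20514 := rfl
theorem F32596 : act 0 n20065 = n20514 := d21_10 (iv5 D20514) (iv1 D9735) (iv5 F14758) (iv6 D9501) (iv1 D4298) (iv6 F6184) (iv5 D4285) D4283 D9451 D20065
theorem F32597 : act 6 n20112 = n20514 := d21_5 (iv5 D1819) D1817 D4290 D9484 D20112 (iv5 D20514) (iv1 D9735) (iv5 F14758) (iv6 D9501) (iv1 D4298)
def n20515 : Q := act 6 n9735
theorem D20515 : act 6 n9735 = n20515 := rfl
def n20516 : Q := act 0 n9737
theorem D20516 : act 0 n9737 = n20516 := rfl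
theorem F32598 : act 5 n20516 = n15423 := d19_1 D20516 (iv4 D15423) (iv3 D7280) (iv1 D3343) D3344 D7285 (iv3 F26944) (iv1 F29096) (iv5 D17927) (iv4 F13963) F13961 (iv1 F6877) (iv5 D1990) (iv4 D1007) D1006 F3289 D4505 (iv4 F7049) D9737
theorem F32599 : act 1 n20003 = n20516 := d15_0 (iv0 D20516) F15207 D20003
theorem F32600 : act 2 n20002 = n20516 := d2_3 F32598 F27772 F32535
theorem F32601 : act 3 n20012 = n20516 := d6_3 F32598 F24973 F31838
theorem F32602 : act 7 n20001 = n20516 := d13_0 F32598 (iv7 F27771) (iv5 F31825)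
def n20517 : Q := act 1 n9737
theorem D20517 : act 1 n9737 = n20517 := rfl
theorem F32603 : act 7 n20517 = n20002 := d15_2 (iv0 D20516) D20517 F32600
theorem F32604 : act 2 n20001 = n20517 := d4_3 F32603 F32600 (iv7 F32602)
theorem F32605 : act 1 n20517 = n20003 := d15_0 F32599 (iv7 F32602) F32604
def n20518 : Q := act 2 n9737
theorem D20518 : act 2 n9737 = n20518 := rfl
theorem F32606 : act 3 n20518 = n20013 := d0_2 D9737 D20518 (iv2 D20013) (iv3 D9437) (iv2 F7262)
theorem F32607 : act 7 n20518 = n20003 := d4_2 (iv7 F15207) D20518 (iv2 D20003)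
theorem F32608 : act 1 n20518 = n20001 := d15_0 (iv0 D20001) (iv7 F15207) D20518
theorem F32609 : act 1 n20002 = n20518 := d15_0 F32608 F32602 (iv2 F32600)
def n20519 : Q := act 5 n9737
theorem D20519 : act 5 n9737 = n20519 := rfl
theorem F32610 : act 3 n20519 = n9738 := d6_1 D20519 (iv5 D9738) D9737
theorem F32611 : act 7 n20519 = n20005 := d13_2 (iv7 F15207) D20519 (iv5 D20005)
def n20520 : Q := act 6 n9737
theorem D20520 : act 6 n9737 = n20520 := rfl
theorem F32612 : act 3 n20520 = n9739 := d7_1 D20520 (iv6 D9739) D9737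
def n20521 : Q := act 6 n9738
theorem D20521 : act 6 n9738 = n20521 := rfl
theorem F32613 : act 2 n20521 = n20016 := d3_1 D20521 (iv6 D20016) (iv2 F15208)
theorem F32614 : act 4 n20521 = n20501 := d10_1 D20521 (iv6 D20501) (iv4 F15210)
def n20522 : Q := act 0 n9739
theorem D20522 : act 0 n9739 = n20522 := rfl
def n20523 : Q := act 1 n9739
theorem D20523 : act 1 n9739 = n20523 := rfl
def n20524 : Q := act 5 n9739
theorem D20524 : act 5 n9739 = n20524 := rfl
theorem F32616 : act 2 n20524 = n20019 := d2_1 D20524 (iv5 D20019) (iv2 F15212)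
def n20525 : Q := act 7 n9739
theorem D20525 : act 7 n9739 = n20525 := rfl
theorem F32618 : act 6 n20525 = n20011 := d14_1 D20525 (iv7 D20011) (iv6 D9436) F7275 D9739
def n20526 : Q := act 2 n9740
theorem D20526 : act 2 n9740 = n20526 := rfl
theorem F32622 : act 3 n20526 = n20003 := d0_2 D9740 D20526 (iv2 D20003) (iv3 D9434) (iv2 F7273)
theorem F32623 : act 7 n20526 = n20013 := d4_2 (iv7 F15213) D20526 (iv2 D20013)
theorem F32624 : act 1 n20526 = n15442 := d15_0 (iv0 F27051) (iv7 F15213) D20526
theorem F32625 : act 1 n20012 = n20526 := d15_0 F32624 (iv7 F27788) F31837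
def n20527 : Q := act 6 n9740
theorem D20527 : act 6 n9740 = n20527 := rfl
theorem F32626 : act 3 n20527 = n9742 := d7_1 D20527 (iv6 D9742) D9740
def n20528 : Q := act 0 n9742
theorem D20528 : act 0 n9742 = n20528 := rfl
def n20529 : Q := act 1 n9742
theorem D20529 : act 1 n9742 = n20529 := rfl
def n20530 : Q := act 5 n9742
theorem D20530 : act 5 n9742 = n20530 := rfl
theorem F32628 : act 2 n20530 = n20010 := d2_1 D20530 (iv5 D20010) (iv2 F15218)
def n20531 : Q := act 7 n9742
theorem D20531 : act 7 n9742 = n20531 := rfl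
theorem F32629 : act 2 n20531 = n20011 := d4_1 D20531 (iv7 D20011) (iv2 F15218)
theorem F32630 : act 6 n20531 = n20020 := d14_1 D20531 (iv7 D20020) (iv6 D9439) (iv7 F7263) D9742
theorem F32631 : act 1 n20011 = n20528 := d15_0 (iv0 D20528) D20531 F32629
theorem F32632 : act 1 n20009 = n20531 := d15_1 D20009 (iv7 D20531) F15218
theorem F32633 : act 1 n20531 = n20008 := d15_0 (iv0 D20008) D20011 (iv2 F32629)
def n20532 : Q := act 6 n9744
theorem D20532 : act 6 n9744 = n20532 := rfl
theorem F32634 : act 2 n20532 = n20022 := d3_1 D20532 (iv6 D20022) (iv2 F15228)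
theorem F32635 : act 3 n20532 = n15637 := d7_1 D20532 (iv6 F27693) F27690
theorem F32636 : act 4 n20532 = n20398 := d10_1 D20532 (iv6 D20398) F15227
def n20533 : Q := act 0 n9745
theorem D20533 : act 0 n9745 = n20533 := rfl
def n20534 : Q := act 1 n9745
theorem D20534 : act 1 n9745 = n20534 := rfl
def n20535 : Q := act 5 n9745
theorem D20535 : act 5 n9745 = n20535 := rfl
theorem F32637 : act 3 n20535 = n20027 := d6_1 D20535 (iv5 D20027) (iv3 F15229)
theorem F32638 : act 6 n20535 = n9748 := d12_2 D9745 D20535 (iv5 D9748) (iv6 D4404) D4403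
def n20536 : Q := act 7 n9745
theorem D20536 : act 7 n9745 = n20536 := rfl
theorem F32639 : act 3 n20536 = n20028 := d8_1 D20536 (iv7 D20028) (iv3 F15229)
theorem F32640 : act 6 n20536 = n20028 := d14_1 D20536 (iv7 D20028) (iv6 D9443) (iv7 F6338) D9745
def n20537 : Q := act 2 n9746
theorem D20537 : act 2 n9746 = n20537 := rfl
theorem F32641 : act 7 n9747 = n20537 := d15_2 (iv0 D9746) D9747 (iv2 D20537)
def n20538 : Q := act 3 n9746
theorem D20538 : act 3 n9746 = n20538 := rfl
def n20539 : Q := act 4 n9746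
theorem D20539 : act 4 n9746 = n20539 := rfl
def n20540 : Q := act 5 n9746
theorem D20540 : act 5 n9746 = n20540 := rfl
def n20541 : Q := act 6 n9746
theorem D20541 : act 6 n9746 = n20541 := rfl
def n20542 : Q := act 7 n9746
theorem D20542 : act 7 n9746 = n20542 := rfl
theorem F32642 : act 2 n20542 = n9747 := d4_1 D20542 F32641 (iv2 D20537)
def n20543 : Q := act 3 n9747
theorem D20543 : act 3 n9747 = n20543 := rfl
def n20544 : Q := act 4 n9747
theorem D20544 : act 4 n9747 = n20544 := rfl
theorem F32643 : act 3 n10905 = n20544 := d20_5 F14807 (iv1 F3330) (iv4 F3345) (iv3 F7404) (iv1 F17711) (iv4 D20544) (iv1 D9747) F6340 F3140 D1856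
def n20545 : Q := act 5 n9747
theorem D20545 : act 5 n9747 = n20545 := rfl
def n20546 : Q := act 6 n9747
theorem D20546 : act 6 n9747 = n20546 := rfl
def n20547 : Q := act 0 n9748
theorem D20547 : act 0 n9748 = n20547 := rfl
def n20548 : Q := act 1 n9748
theorem D20548 : act 1 n9748 = n20548 := rfl
def n20549 : Q := act 4 n9748
theorem D20549 : act 4 n9748 = n20549 := rfl
def n20550 : Q := act 7 n9748
theorem D20550 : act 7 n9748 = n20550 := rfl
theorem F32644 : act 3 n20550 = n20042 := d8_1 D20550 (iv7 D20042) (iv3 F15230)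
theorem F32645 : act 5 n20550 = n9749 := d13_1 D20550 (iv7 D9749) D9748
def n20552 : Q := act 1 n9750
theorem D20552 : act 1 n9750 = n20552 := rfl
theorem F32647 : act 1 n20552 = n9755 := d15_1 D20552 (iv7 D9755) D9750
def n20553 : Q := act 3 n9750
theorem D20553 : act 3 n9750 = n20553 := rfl
theorem F32648 : act 7 n20553 = n9756 := d8_2 F15234 D20553 (iv3 D9756)
def n20554 : Q := act 4 n9750
theorem D20554 : act 4 n9750 = n20554 := rfl
theorem F32649 : act 2 n20554 = n9752 := d1_1 D20554 (iv4 D9752) D9750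
theorem F32650 : act 7 n20554 = n9757 := d11_2 F15234 D20554 (iv4 D9757)
def n20555 : Q := act 5 n9750
theorem D20555 : act 5 n9750 = n20555 := rfl
theorem F32651 : act 2 n20555 = n9753 := d2_1 D20555 (iv5 D9753) D9750
theorem F32652 : act 7 n20555 = n9758 := d13_2 F15234 D20555 (iv5 D9758)
def n20556 : Q := act 6 n9750
theorem D20556 : act 6 n9750 = n20556 := rfl
theorem F32653 : act 2 n20556 = n9754 := d3_1 D20556 (iv6 D9754) D9750
def n20557 : Q := act 0 n9751
theorem D20557 : act 0 n9751 = n20557 := rfl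
def n20558 : Q := act 1 n9751
theorem D20558 : act 1 n9751 = n20558 := rfl
def n20559 : Q := act 2 n9751
theorem D20559 : act 2 n9751 = n20559 := rfl
def n20560 : Q := act 4 n9751
theorem D20560 : act 4 n9751 = n20560 := rfl
theorem F32654 : act 0 n20560 = n10917 := d20_7 (iv4 F14800) (iv1 D1822) (iv4 F1823) (iv3 F3140) D4405 D9751 D20560 F17734 F7404 (iv1 F3348)
theorem F32655 : act 0 n10903 = n20560 := d20_1 (iv4 F17710) (iv4 D20560) (iv3 D9751) (iv1 F15168) F15164 (iv4 F32507) (iv1 F32510) D20544 (iv3 F32643) (iv1 D10905)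
def n20561 : Q := act 5 n9751
theorem D20561 : act 5 n9751 = n20561 := rfl
theorem F32656 : act 3 n20561 = n9753 := d6_1 D20561 (iv5 D9753) D9751
def n20562 : Q := act 6 n9751
theorem D20562 : act 6 n9751 = n20562 := rfl
theorem F32657 : act 3 n20562 = n9754 := d7_1 D20562 (iv6 D9754) D9751
def n20563 : Q := act 7 n9751
theorem D20563 : act 7 n9751 = n20563 := rfl
theorem F32658 : act 3 n20563 = n9755 := d8_1 D20563 (iv7 D9755) D9751
def n20564 : Q := act 0 n9752
theorem D20564 : act 0 n9752 = n20564 := rfl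
def n20565 : Q := act 1 n9752
theorem D20565 : act 1 n9752 = n20565 := rfl
theorem F32659 : act 1 n20565 = n9757 := d15_1 D20565 (iv7 F32650) F32649
def n20566 : Q := act 3 n9752
theorem D20566 : act 3 n9752 = n20566 := rfl
def n20567 : Q := act 5 n9752
theorem D20567 : act 5 n9752 = n20567 := rfl
def n20568 : Q := act 6 n9752
theorem D20568 : act 6 n9752 = n20568 := rfl
theorem F32660 : act 4 n20568 = n9754 := d10_1 D20568 (iv6 D9754) D9752
def n20569 : Q := act 7 n9752
theorem D20569 : act 7 n9752 = n20569 := rfl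
theorem F32661 : act 2 n20569 = n9757 := d4_1 D20569 (iv7 F32650) F32649
theorem F32662 : act 4 n20569 = n9755 := d11_1 D20569 (iv7 D9755) D9752
theorem F32663 : act 1 n9757 = n20564 := d15_0 (iv0 D20564) D20569 F32661
def n20570 : Q := act 0 n9753
theorem D20570 : act 0 n9753 = n20570 := rfl
theorem F32664 : act 5 n20570 = n20441 := d21_2 D9753 D20570 (iv6 D20441) (iv1 D9705) (iv6 D4380) (iv5 D1844) (iv1 D963) D965 D1851 D4405
def n20571 : Q := act 1 n9753
theorem D20571 : act 1 n9753 = n20571 := rfl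
theorem F32665 : act 1 n20571 = n9758 := d15_1 D20571 (iv7 F32652) F32651
def n20572 : Q := act 4 n9753
theorem D20572 : act 4 n9753 = n20572 := rfl
def n20574 : Q := act 7 n9753
theorem D20574 : act 7 n9753 = n20574 := rfl
theorem F32666 : act 2 n20574 = n9758 := d4_1 D20574 (iv7 F32652) F32651
theorem F32667 : act 5 n20574 = n9755 := d13_1 D20574 (iv7 D9755) D9753
theorem F32668 : act 1 n9758 = n20570 := d15_0 (iv0 D20570) D20574 F32666
theorem F32669 : act 0 n9759 = n19994 := d21_10 (iv5 D19994) (iv1 F15194) (iv5 F16966) F15082 (iv1 F15143) D20441 (iv5 F32664) (iv1 F32668) (iv5 D9758) D9759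
def n20575 : Q := act 0 n9754
theorem D20575 : act 0 n9754 = n20575 := rfl
def n20576 : Q := act 1 n9754
theorem D20576 : act 1 n9754 = n20576 := rfl
theorem F32670 : act 6 n20082 = n20576 := d21_3 D9706 D20442 (iv5 F32487) (iv1 D20576) (iv6 D9754) D9753 D20570 F32664 (iv6 D20441) (iv1 D9705)
def n20577 : Q := act 5 n9754
theorem D20577 : act 5 n9754 = n20577 := rfl
theorem F32671 : act 0 n20577 = n9941 := d21_1 D20577 (iv5 D9941) (iv6 D4526) F7282 D4380 D9706 D20442 (iv5 F32487) F32670 (iv1 D20576)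
theorem F32672 : act 0 n9966 = n20577 := d21_1 (iv5 F15697) (iv5 D20577) (iv6 D9754) (iv1 F15168) F15165 (iv5 F31772) (iv1 F31774) D20094 F31904 (iv1 F15677)
def n20578 : Q := act 7 n9754
theorem D20578 : act 7 n9754 = n20578 := rfl
def n20579 : Q := act 6 n9755
theorem D20579 : act 6 n9755 = n20579 := rfl
theorem F32673 : act 2 n20579 = n9759 := d3_1 D20579 (iv6 D9759) (iv2 F15235)
def n20580 : Q := act 0 n9756
theorem D20580 : act 0 n9756 = n20580 := rfl
def n20581 : Q := act 1 n9756
theorem D20581 : act 1 n9756 = n20581 := rfl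
def n20582 : Q := act 2 n9756
theorem D20582 : act 2 n9756 = n20582 := rfl
def n20583 : Q := act 4 n9756
theorem D20583 : act 4 n9756 = n20583 := rfl
def n20584 : Q := act 5 n9756
theorem D20584 : act 5 n9756 = n20584 := rfl
theorem F32674 : act 3 n20584 = n9758 := d6_1 D20584 (iv5 D9758) D9756
def n20585 : Q := act 6 n9756
theorem D20585 : act 6 n9756 = n20585 := rfl
theorem F32675 : act 3 n20585 = n9759 := d7_1 D20585 (iv6 D9759) D9756
def n20586 : Q := act 3 n9757
theorem D20586 : act 3 n9757 = n20586 := rfl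
def n20587 : Q := act 5 n9757
theorem D20587 : act 5 n9757 = n20587 := rfl
def n20588 : Q := act 6 n9757
theorem D20588 : act 6 n9757 = n20588 := rfl
theorem F32676 : act 4 n20588 = n9759 := d10_1 D20588 (iv6 D9759) D9757
def n20589 : Q := act 4 n9758
theorem D20589 : act 4 n9758 = n20589 := rfl
def n20590 : Q := act 1 n9759
theorem D20590 : act 1 n9759 = n20590 := rfl
def n20591 : Q := act 5 n9759
theorem D20591 : act 5 n9759 = n20591 := rfl
theorem F32677 : act 0 n20406 = n20591 := d21_1 D20406 (iv5 D20591) (iv6 D9759) (iv1 D4406) (iv6 D1851) (iv5 D965) D962 D1839 D4365 D9677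
def n20592 : Q := act 7 n9759
theorem D20592 : act 7 n9759 = n20592 := rfl
def n20593 : Q := act 2 n9760
theorem D20593 : act 2 n9760 = n20593 := rfl
theorem F32678 : act 7 n9761 = n20593 := d15_2 (iv0 D9760) D9761 (iv2 D20593)
def n20594 : Q := act 3 n9760
theorem D20594 : act 3 n9760 = n20594 := rfl
def n20595 : Q := act 4 n9760
theorem D20595 : act 4 n9760 = n20595 := rfl
def n20596 : Q := act 5 n9760
theorem D20596 : act 5 n9760 = n20596 := rfl
def n20597 : Q := act 6 n9760
theorem D20597 : act 6 n9760 = n20597 := rfl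
def n20598 : Q := act 7 n9760
theorem D20598 : act 7 n9760 = n20598 := rfl
theorem F32679 : act 2 n20598 = n9761 := d4_1 D20598 F32678 (iv2 D20593)
def n20599 : Q := act 3 n9761
theorem D20599 : act 3 n9761 = n20599 := rfl
def n20600 : Q := act 4 n9761
theorem D20600 : act 4 n9761 = n20600 := rfl
def n20601 : Q := act 5 n9761
theorem D20601 : act 5 n9761 = n20601 := rfl
theorem F32680 : act 6 n20601 = n9870 := d21_3 (iv5 F32523) (iv1 F32525) D20601 (iv1 F15524) (iv6 F6608) (iv5 F15697) F32672 (iv5 D20577) (iv6 D9754) (iv1 F15168)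
def n20602 : Q := act 6 n9761
theorem D20602 : act 6 n9761 = n20602 := rfl
def n20603 : Q := act 0 n9762
theorem D20603 : act 0 n9762 = n20603 := rfl
def n20604 : Q := act 1 n9762
theorem D20604 : act 1 n9762 = n20604 := rfl
def n20605 : Q := act 3 n9762
theorem D20605 : act 3 n9762 = n20605 := rfl
theorem F32681 : act 4 n20605 = n9822 := d5_2 D9762 D20605 (iv3 D9822) (iv4 D4435) (iv3 F6341)
theorem F32682 : act 6 n20605 = n9780 := d7_2 (iv6 F15236) D20605 (iv3 D9780)
def n20606 : Q := act 5 n9762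
theorem D20606 : act 5 n9762 = n20606 := rfl
def n20607 : Q := act 7 n9762
theorem D20607 : act 7 n9762 = n20607 := rfl
theorem F32683 : act 4 n20607 = n9763 := d11_1 D20607 (iv7 D9763) D9762
def n20608 : Q := act 6 n9763
theorem D20608 : act 6 n9763 = n20608 := rfl
theorem F32684 : act 3 n20608 = n9825 := d7_1 D20608 (iv6 D9825) (iv3 F15237)
theorem F32685 : act 5 n20608 = n20101 := d12_1 D20608 (iv6 D20101) F14677 (iv6 F6344) (iv5 F15238)
theorem F32686 : act 7 n20608 = n9783 := d14_2 D9763 D20608 (iv6 D9783) (iv7 D4422) (iv6 F6342)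
theorem F32687 : act 0 n20081 = n20608 := d21_4 F31772 (iv1 F14625) D9456 D20081 (iv6 D20608) F15238 (iv1 F15159) (iv5 F31902) (iv6 D20090) (iv1 F31775)
def n20609 : Q := act 6 n9766
theorem D20609 : act 6 n9766 = n20609 := rfl
theorem F32688 : act 3 n20609 = n10096 := d7_1 D20609 F15952 (iv3 F16849)
theorem F32689 : act 4 n20609 = n20141 := d10_1 D20609 (iv6 D20141) (iv4 F16850)
theorem F32690 : act 5 n20609 = n9927 := d12_1 D20609 (iv6 D9927) (iv5 D4517) (iv6 F16820) D9766
def n20610 : Q := act 2 n9770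
theorem D20610 : act 2 n9770 = n20610 := rfl
theorem F32691 : act 3 n20610 = n20115 := d0_2 D9770 D20610 F31929 F14754 (iv2 F16862)
theorem F32692 : act 5 n20610 = n19849 := d2_2 (iv5 F16955) D20610 F31671
theorem F32694 : act 1 n20610 = n19053 := d15_0 (iv0 F30579) F16953 D20610
theorem F32695 : act 1 n20103 = n20610 := d15_0 F32694 (iv7 F31072) F31916
theorem F32696 : act 4 n19144 = n20610 := d18_3 (iv1 D8995) D8996 D19144 F32692 (iv4 F31669) F27346 F12252 F16882 F13986
def n20611 : Q := act 4 n9770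
theorem D20611 : act 4 n9770 = n20611 := rfl
theorem F32697 : act 2 n20611 = n19144 := d1_1 D20611 F32696 (iv2 D20610)
theorem F32698 : act 7 n20611 = n19145 := d11_2 F16953 D20611 (iv4 F30765)
theorem F32699 : act 0 n20611 = n11085 := d18_2 F31691 D20611 (iv4 D11085) (iv5 D5068) D5067 (iv0 F13814) F13812 D9344 D19857
theorem F32700 : act 1 n20611 = n19138 := d18_6 (iv1 F13945) (iv4 F27354) (iv1 F27356) (iv4 F14630) (iv5 F16955) D20611 (iv4 D19138) (iv0 F16842) (iv5 D8969)
def n20612 : Q := act 6 n9770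
theorem D20612 : act 6 n9770 = n20612 := rfl
theorem F32701 : act 3 n20612 = n9773 := d7_1 D20612 (iv6 D9773) D9770
def n20613 : Q := act 0 n9771
theorem D20613 : act 0 n9771 = n20613 := rfl
theorem F32703 : act 4 n20613 = n10836 := d18_3 D4419 D9771 D20613 (iv5 D10836) (iv4 F14563) (iv0 D9349) F6148 (iv0 F7074) D1854
theorem F32704 : act 1 n9776 = n20613 := d15_0 (iv0 D20613) (iv7 F16954) (iv2 F16960)
theorem F32705 : act 2 n20108 = n20613 := d1_3 F32703 (iv2 F31702) (iv4 F31927)
theorem F32706 : act 7 n19511 = n20613 := d11_0 F32703 F17383 D19511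
def n20614 : Q := act 1 n9771
theorem D20614 : act 1 n9771 = n20614 := rfl
theorem F32707 : act 1 n20614 = n9776 := d15_1 D20614 (iv7 F16959) F16956
theorem F32708 : act 7 n20614 = n20108 := d15_2 (iv0 D20613) D20614 F32705
theorem F32709 : act 4 n20614 = n19509 := d18_7 D9475 F15014 F17571 (iv4 D9410) (iv5 F16863) D9771 D20614 F31241 (iv5 D9478)
theorem F32710 : act 2 n19511 = n20614 := d1_3 F32709 F31239 D19511
def n20615 : Q := act 3 n9771
theorem D20615 : act 3 n9771 = n20615 := rfl
theorem F32711 : act 7 n20615 = n20109 := d8_2 F16954 D20615 (iv3 D20109)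
def n20616 : Q := act 5 n9771
theorem D20616 : act 5 n9771 = n20616 := rfl
theorem F32712 : act 2 n20616 = n20123 := d2_1 D20616 (iv5 D20123) F16956
def n20617 : Q := act 6 n9771
theorem D20617 : act 6 n9771 = n20617 := rfl
theorem F32714 : act 2 n20617 = n20124 := d3_1 D20617 (iv6 D20124) F16956
theorem F32715 : act 4 n20617 = n9773 := d10_1 D20617 (iv6 D9773) D9771
def n20618 : Q := act 0 n9773
theorem D20618 : act 0 n9773 = n20618 := rfl
theorem F32716 : act 6 n20618 = n20440 := d21_5 F6189 (iv1 F6171) (iv5 F16863) D9773 D20618 (iv5 D20440) (iv1 D9705) D9706 F15145 (iv1 F16830)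
def n20619 : Q := act 1 n9773
theorem D20619 : act 1 n9773 = n20619 := rfl
def n20620 : Q := act 7 n9773
theorem D20620 : act 7 n9773 = n20620 := rfl
theorem F32718 : act 2 n20620 = n20127 := d4_1 D20620 (iv7 D20127) F16957
theorem F32721 : act 1 n20127 = n20618 := d15_0 (iv0 D20618) D20620 F32718
theorem F32722 : act 1 n20126 = n20620 := d15_1 D20126 (iv7 D20620) (iv2 F16957)
theorem F32723 : act 1 n20620 = n20125 := d15_0 (iv0 D20125) D20127 (iv2 F32718)
def n20621 : Q := act 2 n9775
theorem D20621 : act 2 n9775 = n20621 := rfl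
theorem F32724 : act 3 n20621 = n20102 := d0_2 D9775 D20621 F31910 F14688 (iv2 F16859)
theorem F32725 : act 5 n20621 = n16720 := d2_2 F16856 D20621 (iv2 F27425)
theorem F32727 : act 1 n20621 = n20117 := d15_0 (iv0 D20117) F16958 D20621
def n20622 : Q := act 6 n9775
theorem D20622 : act 6 n9775 = n20622 := rfl
def n20623 : Q := act 3 n9776
theorem D20623 : act 3 n9776 = n20623 := rfl
theorem F32730 : act 7 n20623 = n20122 := d8_2 F16959 D20623 (iv3 D20122)
def n20624 : Q := act 5 n9776
theorem D20624 : act 5 n9776 = n20624 := rfl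
theorem F32732 : act 7 n20624 = n20123 := d13_2 F16959 D20624 (iv5 D20123)
def n20625 : Q := act 6 n9776
theorem D20625 : act 6 n9776 = n20625 := rfl
theorem F32733 : act 2 n20625 = n20111 := d3_1 D20625 (iv6 D20111) (iv2 F16960)
theorem F32734 : act 4 n20625 = n9777 := d10_1 D20625 (iv6 D9777) D9776
def n20626 : Q := act 0 n9777
theorem D20626 : act 0 n9777 = n20626 := rfl
theorem F32735 : act 6 n20626 = n19971 := d21_5 (iv5 D4267) D4265 (iv5 F16860) D9777 D20626 (iv5 D19971) (iv1 D9422) D9423 F14651 (iv1 F7278)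
def n20627 : Q := act 1 n9777
theorem D20627 : act 1 n9777 = n20627 := rfl
theorem F32736 : act 1 n20627 = n20114 := d15_1 D20627 (iv7 D20114) F16918
def n20628 : Q := act 7 n9777
theorem D20628 : act 7 n9777 = n20628 := rfl
theorem F32737 : act 2 n20628 = n20114 := d4_1 D20628 (iv7 D20114) F16918
theorem F32739 : act 1 n20114 = n20626 := d15_0 (iv0 D20626) D20628 F32737
theorem F32740 : act 1 n20113 = n20628 := d15_1 D20113 (iv7 D20628) (iv2 F16918)
theorem F32741 : act 1 n20628 = n20112 := d15_0 (iv0 D20112) D20114 (iv2 F32737)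
def n20629 : Q := act 3 n9778
theorem D20629 : act 3 n9778 = n20629 := rfl
def n20630 : Q := act 5 n9778
theorem D20630 : act 5 n9778 = n20630 := rfl
theorem F32742 : act 2 n20630 = n20148 := d2_1 D20630 F31981 F31947
theorem F32743 : act 7 n20630 = n20147 := d13_2 F31923 D20630 F31979
theorem F32744 : act 4 n20630 = n20624 := d16_2 (iv4 F31246) D20630 (iv5 D20624) (iv4 D9776) F16860 (iv4 F13947) D19118 F30716 F31243
theorem F32745 : act 0 n20630 = n19947 := d17_2 D9778 D20630 (iv5 D19947) (iv4 D9414) (iv5 D4267) D4266 (iv5 F16863) (iv0 D4419) D4421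
theorem F32746 : act 1 n20630 = n20151 := d17_6 F17634 F17632 F17571 (iv5 F31242) (iv4 F31246) D20630 F31989 F31777 F31776
def n20631 : Q := act 6 n9778
theorem D20631 : act 6 n9778 = n20631 := rfl
def n20632 : Q := act 3 n9779
theorem D20632 : act 3 n9779 = n20632 := rfl
def n20633 : Q := act 5 n9779
theorem D20633 : act 5 n9779 = n20633 := rfl
theorem F32748 : act 4 n20633 = n20616 := d9_1 D20633 (iv5 D20616) (iv4 D9771) F16863 D9410 (iv5 F31242) (iv4 F31246) D20630 F32744 (iv5 D20624) (iv4 D9776) F16860 (iv4 F13947) D19118 F30719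
theorem F32749 : act 7 n20633 = n20148 := d13_2 F31948 D20633 F31981
theorem F32750 : act 0 n20633 = n20151 := d17_2 F31727 D20633 F31989 F14760 F6189 F6177 (iv5 F16860) (iv0 F14582) D19891
theorem F32751 : act 1 n20633 = n19947 := d17_6 (iv1 F32372) (iv5 D20386) (iv1 F17391) D19118 F30719 D20633 (iv5 D19947) D19945 F31782
def n20634 : Q := act 6 n9779
theorem D20634 : act 6 n9779 = n20634 := rfl
def n20635 : Q := act 0 n9780
theorem D20635 : act 0 n9780 = n20635 := rfl
def n20636 : Q := act 1 n9780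
theorem D20636 : act 1 n9780 = n20636 := rfl
def n20637 : Q := act 2 n9780
theorem D20637 : act 2 n9780 = n20637 := rfl
theorem F32752 : act 4 n20637 = n9828 := d1_2 (iv4 F15251) D20637 (iv2 D9828)
def n20638 : Q := act 5 n9780
theorem D20638 : act 5 n9780 = n20638 := rfl
theorem F32753 : act 3 n20638 = n9781 := d6_1 D20638 (iv5 D9781) D9780
def n20639 : Q := act 4 n9781
theorem D20639 : act 4 n9781 = n20639 := rfl
theorem F32754 : act 5 n20639 = n19891 := d16_3 D4421 D9781 D20639 (iv4 D19891) (iv5 D9360) F7071 D9360 F14581 F6324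
theorem F32755 : act 0 n20639 = n20140 := d17_0 (iv5 D20140) (iv1 D9503) D9505 D20149 F31983 F31734 D20137 F31971 D20639
theorem F32756 : act 1 n20639 = n20137 := d18_8 (iv1 F31734) (iv4 D19893) F16851 D9500 D20131 (iv4 F31970) F31971 D20639 (iv5 D20137)
theorem F32757 : act 7 n20639 = n20470 := d15_2 (iv0 F31974) (iv0 F32755) F32528
def n20640 : Q := act 6 n9781
theorem D20640 : act 6 n9781 = n20640 := rfl
def n20641 : Q := act 7 n9781
theorem D20641 : act 7 n9781 = n20641 := rfl
theorem F32758 : act 2 n20641 = n20639 := d4_1 D20641 F32757 F32528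
theorem F32759 : act 4 n20641 = n20470 := d11_1 D20641 (iv7 F32757) (iv4 D20639)
theorem F32760 : act 5 n20641 = n9782 := d13_1 D20641 (iv7 D9782) D9781
def n20642 : Q := act 6 n9782
theorem D20642 : act 6 n9782 = n20642 := rfl
theorem F32761 : act 4 n20642 = n9783 := d10_1 D20642 (iv6 D9783) (iv4 F15252)
def n20643 : Q := act 0 n9783
theorem D20643 : act 0 n9783 = n20643 := rfl
theorem F32762 : act 6 n20643 = n19938 := d21_5 (iv5 D4383) (iv1 F7286) (iv5 F6348) D9783 D20643 (iv5 D19938) (iv1 D9401) D9402 F14621 F16824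
def n20644 : Q := act 1 n9783
theorem D20644 : act 1 n9783 = n20644 := rfl
def n20645 : Q := act 2 n9789
theorem D20645 : act 2 n9789 = n20645 := rfl
theorem F32763 : act 7 n9790 = n20645 := d15_2 (iv0 D9789) D9790 (iv2 D20645)
def n20646 : Q := act 3 n9789
theorem D20646 : act 3 n9789 = n20646 := rfl
def n20647 : Q := act 4 n9789
theorem D20647 : act 4 n9789 = n20647 := rfl
def n20648 : Q := act 5 n9789
theorem D20648 : act 5 n9789 = n20648 := rfl
def n20649 : Q := act 6 n9789
theorem D20649 : act 6 n9789 = n20649 := rfl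
def n20650 : Q := act 7 n9789
theorem D20650 : act 7 n9789 = n20650 := rfl
theorem F32764 : act 2 n20650 = n9790 := d4_1 D20650 F32763 (iv2 D20645)
def n20655 : Q := act 4 n9791
theorem D20655 : act 4 n9791 = n20655 := rfl
theorem F32765 : act 2 n20655 = n9792 := d1_1 D20655 (iv4 D9792) D9791
def n20656 : Q := act 5 n9791
theorem D20656 : act 5 n9791 = n20656 := rfl
theorem F32766 : act 2 n20656 = n9793 := d2_1 D20656 (iv5 D9793) D9791
def n20657 : Q := act 6 n9791
theorem D20657 : act 6 n9791 = n20657 := rfl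
theorem F32768 : act 2 n20657 = n9794 := d3_1 D20657 (iv6 D9794) D9791
def n20658 : Q := act 0 n9792
theorem D20658 : act 0 n9792 = n20658 := rfl
def n20659 : Q := act 1 n9792
theorem D20659 : act 1 n9792 = n20659 := rfl
def n20660 : Q := act 5 n9792
theorem D20660 : act 5 n9792 = n20660 := rfl
def n20661 : Q := act 6 n9792
theorem D20661 : act 6 n9792 = n20661 := rfl
theorem F32770 : act 4 n20661 = n9794 := d10_1 D20661 (iv6 D9794) D9792
def n20662 : Q := act 0 n9793
theorem D20662 : act 0 n9793 = n20662 := rfl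
def n20663 : Q := act 1 n9793
theorem D20663 : act 1 n9793 = n20663 := rfl
def n20664 : Q := act 4 n9793
theorem D20664 : act 4 n9793 = n20664 := rfl
def n20665 : Q := act 6 n9793
theorem D20665 : act 6 n9793 = n20665 := rfl
def n20666 : Q := act 0 n9794
theorem D20666 : act 0 n9794 = n20666 := rfl
def n20667 : Q := act 1 n9794
theorem D20667 : act 1 n9794 = n20667 := rfl
def n20668 : Q := act 7 n9794
theorem D20668 : act 7 n9794 = n20668 := rfl
theorem F32773 : act 3 n20668 = n9803 := d8_1 D20668 (iv7 D9803) (iv3 F15262)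
theorem F32774 : act 5 n20668 = n10031 := d13_1 D20668 (iv7 F15860) F15859
theorem F32775 : act 6 n20668 = n19445 := d14_1 D20668 F31103 (iv6 D9810) F15322 D9794
def n20669 : Q := act 3 n9796
theorem D20669 : act 3 n9796 = n20669 := rfl
theorem F32776 : act 5 n20669 = n19747 := d6_2 (iv5 F15264) D20669 F31509
def n20670 : Q := act 4 n9796
theorem D20670 : act 4 n9796 = n20670 := rfl
theorem F32778 : act 0 n20670 = n10949 := d18_2 D9796 D20670 (iv4 D10949) (iv5 D4987) (iv4 F14800) F3084 (iv4 F3148) F3150 D4426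
theorem F32779 : act 1 n20670 = n10940 := d18_6 F14486 F14802 (iv1 F15398) F15265 (iv5 F15264) D20670 (iv4 D10940) D10939 F17751
def n20671 : Q := act 3 n9797
theorem D20671 : act 3 n9797 = n20671 := rfl
theorem F32780 : act 6 n20671 = n11012 := d7_2 (iv6 F15397) D20671 (iv3 D11012)
theorem F32781 : act 7 n20671 = n20669 := d8_2 F30686 D20671 (iv3 D20669)
def n20672 : Q := act 4 n9797
theorem D20672 : act 4 n9797 = n20672 := rfl
theorem F32783 : act 6 n20672 = n11013 := d10_2 (iv6 F15397) D20672 (iv4 D11013)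
theorem F32785 : act 0 n20672 = n10940 := d18_2 (iv1 F15295) D20672 (iv4 D10940) (iv5 D4982) (iv4 F14798) (iv0 D1821) (iv4 F1823) D1857 D4431
theorem F32786 : act 1 n20672 = n10949 := d18_6 (iv1 F16029) F16026 (iv1 F15837) F15838 (iv5 F15550) D20672 (iv4 D10949) F17747 F17746
def n20673 : Q := act 0 n9798
theorem D20673 : act 0 n9798 = n20673 := rfl
theorem F32787 : act 4 n20673 = n10938 := d18_3 (iv1 D9797) D9798 D20673 F17746 F14493 (iv0 F14866) F14795 D9900 (iv5 F15550)
theorem F32788 : act 1 n9811 = n20673 := d15_0 (iv0 D20673) (iv7 F15389) F15387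
def n20674 : Q := act 1 n9798
theorem D20674 : act 1 n9798 = n20674 := rfl
theorem F32792 : act 4 n20674 = n10939 := d18_7 (iv1 D2050) F1900 D2040 (iv4 F14807) D4426 D9798 D20674 F17749 (iv5 D4987)
theorem F32794 : act 6 n11015 = n20674 := d10_0 F32792 (iv6 F17753) (iv4 F17879)
def n20676 : Q := act 5 n9798
theorem D20676 : act 5 n9798 = n20676 := rfl
theorem F32796 : act 4 n20676 = n20243 := d16_2 D9798 D20676 F32096 (iv4 D10891) (iv5 D4963) (iv4 F14810) D4431 F15326 F15319
theorem F32797 : act 1 n20676 = n10955 := d17_6 (iv1 D4434) (iv5 D1858) D1856 D4426 D9798 D20676 (iv5 D10955) (iv0 F15410) (iv4 D9818)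
def n20677 : Q := act 6 n9798
theorem D20677 : act 6 n9798 = n20677 := rfl
theorem F32800 : act 7 n20677 = n20230 := d14_2 F15389 D20677 (iv6 D20230) (iv7 F15333) (iv6 F15388)
def n20678 : Q := act 3 n9802
theorem D20678 : act 3 n9802 = n20678 := rfl
theorem F32801 : act 6 n20678 = n19446 := d7_2 F15305 D20678 (iv3 D19446)
theorem F32802 : act 7 n20678 = n11005 := d8_2 (iv7 F15307) D20678 F17868
def n20680 : Q := act 3 n9805
theorem D20680 : act 3 n9805 = n20680 := rfl
def n20685 : Q := act 3 n9806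
theorem D20685 : act 3 n9806 = n20685 := rfl
def n20689 : Q := act 4 n9807
theorem D20689 : act 4 n9807 = n20689 := rfl
theorem F32805 : act 2 n20689 = n9808 := d1_1 D20689 (iv4 D9808) D9807
theorem F32806 : act 7 n20689 = n20655 := d11_2 (iv7 F15378) D20689 (iv4 D20655)
theorem F32807 : act 1 n20659 = n20689 := d15_1 D20659 F32806 F32765
theorem F32808 : act 1 n20689 = n20658 := d15_0 (iv0 D20658) (iv7 F15382) (iv2 F32805)
def n20690 : Q := act 5 n9807
theorem D20690 : act 5 n9807 = n20690 := rfl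
theorem F32809 : act 2 n20690 = n9809 := d2_1 D20690 (iv5 D9809) D9807
theorem F32811 : act 7 n20690 = n20656 := d13_2 (iv7 F15378) D20690 (iv5 D20656)
theorem F32812 : act 1 n20663 = n20690 := d15_1 D20663 F32811 F32766
theorem F32813 : act 6 n20218 = n20690 := d3_0 F32809 (iv6 F15385) D20218
theorem F32814 : act 1 n20690 = n20662 := d15_0 (iv0 D20662) (iv7 F15384) (iv2 F32809)
def n20691 : Q := act 6 n9807
theorem D20691 : act 6 n9807 = n20691 := rfl
theorem F32815 : act 2 n20691 = n9810 := d3_1 D20691 (iv6 D9810) D9807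
def n20692 : Q := act 0 n9808
theorem D20692 : act 0 n9808 = n20692 := rfl
theorem F32817 : act 1 n20655 = n20692 := d15_0 (iv0 D20692) F15382 (iv2 F32765)
def n20693 : Q := act 1 n9808
theorem D20693 : act 1 n9808 = n20693 := rfl
theorem F32818 : act 1 n20693 = n20655 := d15_1 D20693 (iv7 F32806) F32805
def n20694 : Q := act 5 n9808
theorem D20694 : act 5 n9808 = n20694 := rfl
theorem F32819 : act 7 n20694 = n20660 := d13_2 (iv7 F15382) D20694 (iv5 D20660)
def n20695 : Q := act 6 n9808
theorem D20695 : act 6 n9808 = n20695 := rfl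
theorem F32820 : act 4 n20695 = n9810 := d10_1 D20695 (iv6 D9810) D9808
def n20696 : Q := act 0 n9809
theorem D20696 : act 0 n9809 = n20696 := rfl
theorem F32821 : act 1 n20656 = n20696 := d15_0 (iv0 D20696) F15384 (iv2 F32766)
def n20697 : Q := act 1 n9809
theorem D20697 : act 1 n9809 = n20697 := rfl
theorem F32822 : act 1 n20697 = n20656 := d15_1 D20697 (iv7 F32811) F32809
def n20698 : Q := act 4 n9809
theorem D20698 : act 4 n9809 = n20698 := rfl
theorem F32823 : act 6 n20698 = n20219 := d10_2 F15385 D20698 (iv4 D20219)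
theorem F32824 : act 7 n20698 = n20664 := d11_2 (iv7 F15384) D20698 (iv4 D20664)
def n20699 : Q := act 0 n9810
theorem D20699 : act 0 n9810 = n20699 := rfl
def n20700 : Q := act 1 n9810
theorem D20700 : act 1 n9810 = n20700 := rfl
def n20701 : Q := act 5 n9810
theorem D20701 : act 5 n9810 = n20701 := rfl
theorem F32825 : act 3 n20701 = n9812 := d6_1 D20701 (iv5 D9812) (iv3 F15386)
theorem F32826 : act 6 n20701 = n20220 := d12_2 D9810 D20701 (iv5 D20220) F15385 (iv5 D9809)
theorem F32827 : act 7 n20701 = n10029 := d13_2 F31103 D20701 (iv5 F31102)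
def n20703 : Q := act 5 n9811
theorem D20703 : act 5 n9811 = n20703 := rfl
theorem F32831 : act 4 n20703 = n20242 := d9_1 D20703 F32093 (iv4 D10884) (iv5 D4959) (iv4 F14807) D4426 D9798 D20676 F32796 F32096 (iv4 D10891) (iv5 D4963) (iv4 F14810) D4431 D9811
def n20704 : Q := act 0 n9813
theorem D20704 : act 0 n9813 = n20704 := rfl
def n20706 : Q := act 2 n9813
theorem D20706 : act 2 n9813 = n20706 := rfl
def n20707 : Q := act 4 n9813
theorem D20707 : act 4 n9813 = n20707 := rfl
def n20708 : Q := act 5 n9813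
theorem D20708 : act 5 n9813 = n20708 := rfl
theorem F32835 : act 3 n20708 = n9815 := d6_1 D20708 (iv5 D9815) D9813
theorem F32836 : act 7 n20708 = n9898 := d13_2 F15407 D20708 (iv5 F15542)
def n20709 : Q := act 6 n9813
theorem D20709 : act 6 n9813 = n20709 := rfl
theorem F32837 : act 3 n20709 = n9816 := d7_1 D20709 (iv6 D9816) D9813
def n20713 : Q := act 0 n9817
theorem D20713 : act 0 n9817 = n20713 := rfl
theorem F32842 : act 1 n20706 = n20713 := d15_0 (iv0 D20713) F15407 D20706
def n20714 : Q := act 1 n9817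
theorem D20714 : act 1 n9817 = n20714 := rfl
def n20715 : Q := act 2 n9817
theorem D20715 : act 2 n9817 = n20715 := rfl
theorem F32843 : act 3 n20715 = n20715 := d0_2 D9817 D20715 (iv2 D20715) (iv3 D9817) F14872
theorem F32844 : act 7 n20715 = n20706 := d4_2 (iv7 F15407) D20715 (iv2 D20706)
theorem F32845 : act 1 n20715 = n20704 := d15_0 (iv0 D20704) (iv7 F15407) D20715
theorem F32846 : act 1 n20714 = n20706 := d15_1 D20714 (iv7 F32844) (iv2 D20715)
def n20716 : Q := act 4 n9817
theorem D20716 : act 4 n9817 = n20716 := rfl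
theorem F32848 : act 7 n20716 = n20707 := d11_2 (iv7 F15407) D20716 (iv4 D20707)
def n20717 : Q := act 6 n9817
theorem D20717 : act 6 n9817 = n20717 := rfl
theorem F32850 : act 5 n20717 = n20210 := d12_1 D20717 F32046 (iv5 D9897) D9898 (iv5 F15542)
theorem F32851 : act 7 n20209 = n20717 := d13_0 F32850 (iv7 D20210) D20209
def n20718 : Q := act 3 n9818
theorem D20718 : act 3 n9818 = n20718 := rfl
def n20720 : Q := act 6 n9818
theorem D20720 : act 6 n9818 = n20720 := rfl
theorem F32857 : act 4 n20720 = n9819 := d10_1 D20720 (iv6 D9819) D9818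
theorem F32858 : act 7 n20215 = n20720 := d11_0 F32857 (iv7 F15434) D20215
def n20721 : Q := act 3 n9820
theorem D20721 : act 3 n9820 = n20721 := rfl
def n20723 : Q := act 6 n9820
theorem D20723 : act 6 n9820 = n20723 := rfl
theorem F32863 : act 2 n20723 = n20723 := d3_1 D20723 (iv6 D20723) F15446
theorem F32864 : act 4 n20723 = n10951 := d10_1 D20723 (iv6 D10951) F15447
def n20724 : Q := act 3 n9821
theorem D20724 : act 3 n9821 = n20724 := rfl
def n20726 : Q := act 6 n9821
theorem D20726 : act 6 n9821 = n20726 := rfl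
theorem F32870 : act 4 n20726 = n10953 := d10_1 D20726 (iv6 D10953) (iv4 F15437)
theorem F32872 : act 0 n19748 = n20726 := d18_0 F32870 F17788 D19787 F31556 F17879 F7500 D11078 F17952 (iv5 F31511)
def n20727 : Q := act 0 n9822
theorem D20727 : act 0 n9822 = n20727 := rfl
def n20728 : Q := act 1 n9822
theorem D20728 : act 1 n9822 = n20728 := rfl
def n20729 : Q := act 2 n9822
theorem D20729 : act 2 n9822 = n20729 := rfl
def n20730 : Q := act 5 n9822
theorem D20730 : act 5 n9822 = n20730 := rfl
def n20734 : Q := act 2 n9826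
theorem D20734 : act 2 n9826 = n20734 := rfl
theorem F32886 : act 7 n9827 = n20734 := d15_2 (iv0 D9826) D9827 (iv2 D20734)
def n20735 : Q := act 3 n9826
theorem D20735 : act 3 n9826 = n20735 := rfl
def n20736 : Q := act 4 n9826
theorem D20736 : act 4 n9826 = n20736 := rfl
def n20737 : Q := act 5 n9826
theorem D20737 : act 5 n9826 = n20737 := rfl
def n20738 : Q := act 6 n9826
theorem D20738 : act 6 n9826 = n20738 := rfl
def n20739 : Q := act 7 n9826
theorem D20739 : act 7 n9826 = n20739 := rfl
theorem F32887 : act 2 n20739 = n9827 := d4_1 D20739 F32886 (iv2 D20734)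
def n20740 : Q := act 3 n9827
theorem D20740 : act 3 n9827 = n20740 := rfl
def n20741 : Q := act 4 n9827
theorem D20741 : act 4 n9827 = n20741 := rfl
def n20742 : Q := act 5 n9827
theorem D20742 : act 5 n9827 = n20742 := rfl
def n20744 : Q := act 3 n9829
theorem D20744 : act 3 n9829 = n20744 := rfl
theorem F32889 : act 7 n20744 = n20206 := d8_2 (iv7 F15454) D20744 F32043
def n20745 : Q := act 4 n9829
theorem D20745 : act 4 n9829 = n20745 := rfl
theorem F32890 : act 2 n20745 = n20745 := d1_1 D20745 (iv4 D20745) F15456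
theorem F32891 : act 7 n20745 = n20213 := d11_2 (iv7 F15454) D20745 F32052
theorem F32892 : act 1 n11088 = n20745 := d15_1 (iv0 F32053) F32891 F32051
theorem F32893 : act 0 n20333 = n11093 := d18_2 (iv1 F14976) D20333 F17981 F7530 (iv4 F17969) F32892 (iv4 D20745) F15453 F15449
def n20746 : Q := act 1 n9832
theorem D20746 : act 1 n9832 = n20746 := rfl
theorem F32894 : act 1 n20746 = n19852 := d15_1 D20746 F31683 F29058
theorem F32895 : act 7 n20746 = n19850 := d15_2 (iv0 F31629) D20746 F31673
theorem F32896 : act 5 n20746 = n19851 := d18_9 (iv1 F31680) F14630 (iv1 D7779) F5555 D4003 D8977 D19128 (iv4 F30736) D20746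
theorem F32897 : act 3 n20419 = n20746 := d20_3 D9253 D19714 (iv4 F32433) (iv1 D20746) F15457 D9847 (iv1 F32493) F32495 F31143 F14255
theorem F32898 : act 2 n20746 = n19415 := d0_1 F32897 (iv3 D19415) F14536 D19839 F32434
def n20747 : Q := act 6 n9834
theorem D20747 : act 6 n9834 = n20747 := rfl
theorem F32899 : act 2 n20747 = n10243 := d3_1 D20747 (iv6 D10243) (iv2 F15461)
theorem F32900 : act 3 n20747 = n9836 := d7_1 D20747 (iv6 D9836) (iv3 F15462)
def n20748 : Q := act 0 n9836
theorem D20748 : act 0 n9836 = n20748 := rfl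
def n20749 : Q := act 1 n9836
theorem D20749 : act 1 n9836 = n20749 := rfl
def n20750 : Q := act 5 n9836
theorem D20750 : act 5 n9836 = n20750 := rfl
theorem F32901 : act 2 n20750 = n20609 := d2_1 D20750 F32690 F15634
theorem F32902 : act 6 n20750 = n9839 := d12_2 D9836 D20750 (iv5 D9839) (iv6 D4453) D4452
def n20751 : Q := act 7 n9836
theorem D20751 : act 7 n9836 = n20751 := rfl
theorem F32903 : act 4 n20751 = n20011 := d11_1 D20751 (iv7 D20011) (iv4 F15469)
def n20752 : Q := act 3 n9847
theorem D20752 : act 3 n9847 = n20752 := rfl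
theorem F32904 : act 7 n20752 = n19897 := d8_2 F16855 D20752 (iv3 D19897)
def n20753 : Q := act 5 n9847
theorem D20753 : act 5 n9847 = n20753 := rfl
theorem F32905 : act 2 n20753 = n20131 := d2_1 D20753 (iv5 D20131) (iv2 F15477)
theorem F32906 : act 7 n20753 = n19898 := d13_2 F16855 D20753 (iv5 D19898)
def n20754 : Q := act 6 n9848
theorem D20754 : act 6 n9848 = n20754 := rfl
theorem F32907 : act 2 n20754 = n10461 := d3_1 D20754 (iv6 D10461) (iv2 F15479)
theorem F32908 : act 3 n20754 = n10213 := d7_1 D20754 (iv6 D10213) (iv3 F15480)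
theorem F32909 : act 4 n20754 = n18283 := d10_1 D20754 (iv6 D18283) (iv4 F15484)
theorem F32910 : act 5 n20754 = n10472 := d12_1 D20754 (iv6 D10472) F6937 (iv6 F16737) D9848
def n20755 : Q := act 0 n9854
theorem D20755 : act 0 n9854 = n20755 := rfl
def n20756 : Q := act 1 n9854
theorem D20756 : act 1 n9854 = n20756 := rfl
def n20757 : Q := act 7 n9854
theorem D20757 : act 7 n9854 = n20757 := rfl
def n20758 : Q := act 0 n9867
theorem D20758 : act 0 n9867 = n20758 := rfl
theorem F32914 : act 1 n9867 = n20758 := d15_0 (iv0 D20758) (iv7 F15667) F15665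
def n20759 : Q := act 5 n9867
theorem D20759 : act 5 n9867 = n20759 := rfl
theorem F32915 : act 3 n20759 = n9868 := d6_1 D20759 (iv5 D9868) D9867
def n20760 : Q := act 6 n9867
theorem D20760 : act 6 n9867 = n20760 := rfl
theorem F32916 : act 3 n20760 = n9869 := d7_1 D20760 (iv6 D9869) D9867
theorem F32917 : act 4 n20760 = n20760 := d10_1 D20760 (iv6 D20760) F15512
def n20761 : Q := act 6 n9868
theorem D20761 : act 6 n9868 = n20761 := rfl
theorem F32918 : act 2 n20761 = n9878 := d3_1 D20761 (iv6 D9878) (iv2 F15513)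
theorem F32919 : act 4 n20761 = n9948 := d10_1 D20761 (iv6 D9948) (iv4 F15514)
def n20762 : Q := act 0 n9869
theorem D20762 : act 0 n9869 = n20762 := rfl
def n20763 : Q := act 1 n9869
theorem D20763 : act 1 n9869 = n20763 := rfl
theorem F32920 : act 1 n20763 = n9882 := d15_1 D20763 (iv7 D9882) (iv2 F15517)
def n20764 : Q := act 5 n9869
theorem D20764 : act 5 n9869 = n20764 := rfl
theorem F32921 : act 2 n20764 = n9881 := d2_1 D20764 (iv5 D9881) (iv2 F15517)
def n20765 : Q := act 7 n9869
theorem D20765 : act 7 n9869 = n20765 := rfl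
theorem F32922 : act 2 n20765 = n9882 := d4_1 D20765 (iv7 D9882) (iv2 F15517)
theorem F32923 : act 4 n20765 = n9872 := d11_1 D20765 (iv7 D9872) (iv4 F15518)
theorem F32924 : act 1 n9882 = n20762 := d15_0 (iv0 D20762) D20765 F32922
theorem F32925 : act 1 n9880 = n20765 := d15_1 D9880 (iv7 D20765) F15517
theorem F32926 : act 4 n10182 = n20762 := d20_6 F14791 (iv1 D1949) F1877 (iv3 F3217) D4624 D10182 (iv1 F32924) F15534 F6513 (iv1 F3167)
theorem F32927 : act 1 n20765 = n9879 := d15_0 (iv0 D9879) D9882 (iv2 F32922)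
def n20766 : Q := act 2 n9870
theorem D20766 : act 2 n9870 = n20766 := rfl
theorem F32928 : act 7 n9871 = n20766 := d15_2 (iv0 D9870) D9871 (iv2 D20766)
theorem F32929 : act 5 n20766 = n20069 := d13_1 F32928 (iv7 D20069) F15520
def n20767 : Q := act 3 n9870
theorem D20767 : act 3 n9870 = n20767 := rfl
def n20768 : Q := act 4 n9870
theorem D20768 : act 4 n9870 = n20768 := rfl
def n20769 : Q := act 5 n9870
theorem D20769 : act 5 n9870 = n20769 := rfl
theorem F32930 : act 2 n20769 = n20069 := d2_1 D20769 (iv5 F32929) (iv2 D20766)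
theorem F32931 : act 0 n20769 = n20068 := d21_1 D20769 (iv5 F32569) (iv6 D20493) (iv1 D9727) (iv6 D4395) (iv5 F7056) (iv1 F1836) D1872 D4475 D9870
theorem F32932 : act 7 n20769 = n20048 := d15_2 D20068 (iv0 F32931) F31877
theorem F32933 : act 6 n20085 = n20769 := d14_5 F32932 (iv6 D20048) (iv7 F14673) D9457 D20085
theorem F32934 : act 5 n20602 = n20085 := d12_5 F32933 (iv5 D20769) (iv6 F32680) (iv5 D20601) D20602
theorem F32935 : act 0 n20440 = n20602 := d21_1 D20440 F32934 F32933 F32931 (iv6 F31894) (iv5 D19994) (iv1 F15194) (iv5 F16966) F15082 (iv1 F15143)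
theorem F32936 : act 0 n20085 = n20510 := d21_10 F32594 (iv1 D19888) (iv5 D9358) (iv6 D4243) F6921 D4475 F6509 D9870 D20769 (iv6 F32933)
theorem F32937 : act 1 n20070 = n20510 := d15_0 (iv0 F32936) (iv7 D20085) (iv2 F31895)
theorem F32938 : act 7 n20084 = n20602 := d13_0 F32934 (iv7 D20085) D20084
theorem F32939 : act 1 n20769 = n20067 := d15_0 (iv0 D20067) D20069 (iv2 F32930)
def n20770 : Q := act 7 n9870
theorem D20770 : act 7 n9870 = n20770 := rfl
def n20771 : Q := act 3 n9871
theorem D20771 : act 3 n9871 = n20771 := rfl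
theorem F32942 : act 5 n20771 = n20054 := d6_2 F15520 D20771 F31881
theorem F32943 : act 4 n20771 = n10178 := d20_6 (iv4 F14803) (iv1 F3195) F3193 (iv3 F6513) (iv1 F15519) D20771 (iv1 D10178) F6682 F3217 D1922
def n20772 : Q := act 4 n9871
theorem D20772 : act 4 n9871 = n20772 := rfl
def n20773 : Q := act 6 n9871
theorem D20773 : act 6 n9871 = n20773 := rfl
theorem F32944 : act 5 n20773 = n20065 := d12_1 D20773 (iv6 D20065) (iv5 D9451) D9452 F15520
theorem F32945 : act 0 n20509 = n20065 := d21_1 D20509 (iv5 F32944) (iv6 D20773) (iv1 D9871) (iv6 D4475) (iv5 D1872) (iv1 F1841) F7064 D4400 D9734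
theorem F32946 : act 0 n19918 = n20773 := d21_1 (iv5 F31802) F32944 (iv6 D20065) D20062 (iv6 F31889) (iv5 D19880) (iv1 F15150) (iv5 F32483) F32484 (iv1 F31968)
def n20774 : Q := act 0 n9873
theorem D20774 : act 0 n9873 = n20774 := rfl
def n20775 : Q := act 1 n9873
theorem D20775 : act 1 n9873 = n20775 := rfl
def n20776 : Q := act 6 n9873
theorem D20776 : act 6 n9873 = n20776 := rfl
theorem F32947 : act 3 n20776 = n9874 := d7_1 D20776 (iv6 D9874) D9873
def n20777 : Q := act 0 n9874
theorem D20777 : act 0 n9874 = n20777 := rfl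
def n20778 : Q := act 1 n9874
theorem D20778 : act 1 n9874 = n20778 := rfl
def n20779 : Q := act 5 n9874
theorem D20779 : act 5 n9874 = n20779 := rfl
def n20780 : Q := act 7 n9874
theorem D20780 : act 7 n9874 = n20780 := rfl
theorem F32948 : act 4 n20780 = n20389 := d11_1 D20780 (iv7 D20389) (iv4 F15527)
def n20781 : Q := act 6 n9875
theorem D20781 : act 6 n9875 = n20781 := rfl
theorem F32949 : act 3 n20781 = n9876 := d7_1 D20781 (iv6 D9876) D9875
def n20782 : Q := act 0 n9876
theorem D20782 : act 0 n9876 = n20782 := rfl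
def n20783 : Q := act 1 n9876
theorem D20783 : act 1 n9876 = n20783 := rfl
def n20784 : Q := act 5 n9876
theorem D20784 : act 5 n9876 = n20784 := rfl
def n20785 : Q := act 7 n9876
theorem D20785 : act 7 n9876 = n20785 := rfl
theorem F32950 : act 4 n20785 = n20423 := d11_1 D20785 (iv7 D20423) (iv4 F15528)
def n20786 : Q := act 3 n9877
theorem D20786 : act 3 n9877 = n20786 := rfl
theorem F32951 : act 2 n20786 = n20759 := d0_1 D20786 F32915 F15513 (iv3 F6601) (iv2 F15529)
theorem F32952 : act 4 n20786 = n20759 := d5_2 D9877 D20786 F32915 F15514 F6601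
theorem F32953 : act 5 n20786 = n9937 := d6_2 (iv5 F15531) D20786 (iv3 D9937)
theorem F32954 : act 7 n20786 = n20759 := d8_2 (iv7 F15530) D20786 F32915
def n20787 : Q := act 6 n9877
theorem D20787 : act 6 n9877 = n20787 := rfl
theorem F32955 : act 2 n20787 = n9948 := d3_1 D20787 (iv6 D9948) (iv2 F15529)
theorem F32956 : act 4 n20787 = n9878 := d10_1 D20787 (iv6 D9878) D9877
def n20788 : Q := act 0 n9878
theorem D20788 : act 0 n9878 = n20788 := rfl
def n20789 : Q := act 1 n9878
theorem D20789 : act 1 n9878 = n20789 := rfl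
def n20790 : Q := act 5 n9878
theorem D20790 : act 5 n9878 = n20790 := rfl
theorem F32957 : act 6 n20790 = n9881 := d12_2 D9878 D20790 (iv5 D9881) (iv6 D4489) D4488
def n20791 : Q := act 7 n9878
theorem D20791 : act 7 n9878 = n20791 := rfl
def n20792 : Q := act 2 n9879
theorem D20792 : act 2 n9879 = n20792 := rfl
theorem F32958 : act 7 n9880 = n20792 := d15_2 (iv0 D9879) D9880 (iv2 D20792)
def n20793 : Q := act 3 n9879
theorem D20793 : act 3 n9879 = n20793 := rfl
def n20794 : Q := act 4 n9879
theorem D20794 : act 4 n9879 = n20794 := rfl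
def n20795 : Q := act 5 n9879
theorem D20795 : act 5 n9879 = n20795 := rfl
def n20796 : Q := act 6 n9879
theorem D20796 : act 6 n9879 = n20796 := rfl
def n20797 : Q := act 7 n9879
theorem D20797 : act 7 n9879 = n20797 := rfl
theorem F32959 : act 2 n20797 = n9880 := d4_1 D20797 F32958 (iv2 D20792)
def n20798 : Q := act 3 n9880
theorem D20798 : act 3 n9880 = n20798 := rfl
def n20799 : Q := act 4 n9880
theorem D20799 : act 4 n9880 = n20799 := rfl
theorem F32960 : act 3 n10148 = n20799 := d20_5 F14794 (iv1 F3260) F3258 (iv3 F6683) (iv1 F15988) (iv4 D20799) (iv1 D9880) F6512 F3162 D1877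
def n20800 : Q := act 5 n9880
theorem D20800 : act 5 n9880 = n20800 := rfl
def n20801 : Q := act 6 n9880
theorem D20801 : act 6 n9880 = n20801 := rfl
def n20802 : Q := act 0 n9881
theorem D20802 : act 0 n9881 = n20802 := rfl
def n20803 : Q := act 1 n9881
theorem D20803 : act 1 n9881 = n20803 := rfl
def n20804 : Q := act 4 n9881
theorem D20804 : act 4 n9881 = n20804 := rfl
def n20805 : Q := act 7 n9881
theorem D20805 : act 7 n9881 = n20805 := rfl
theorem F32961 : act 5 n20805 = n9882 := d13_1 D20805 (iv7 D9882) D9881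
def n20808 : Q := act 3 n9883
theorem D20808 : act 3 n9883 = n20808 := rfl
theorem F32964 : act 7 n20808 = n9889 := d8_2 F15535 D20808 (iv3 D9889)
def n20809 : Q := act 4 n9883
theorem D20809 : act 4 n9883 = n20809 := rfl
theorem F32965 : act 2 n20809 = n9885 := d1_1 D20809 (iv4 D9885) D9883
theorem F32966 : act 7 n20809 = n9890 := d11_2 F15535 D20809 (iv4 D9890)
def n20810 : Q := act 5 n9883
theorem D20810 : act 5 n9883 = n20810 := rfl
theorem F32967 : act 2 n20810 = n9886 := d2_1 D20810 (iv5 D9886) D9883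
theorem F32968 : act 7 n20810 = n9891 := d13_2 F15535 D20810 (iv5 D9891)
def n20811 : Q := act 6 n9883
theorem D20811 : act 6 n9883 = n20811 := rfl
theorem F32969 : act 2 n20811 = n9887 := d3_1 D20811 (iv6 D9887) D9883
def n20812 : Q := act 0 n9884
theorem D20812 : act 0 n9884 = n20812 := rfl
def n20813 : Q := act 1 n9884
theorem D20813 : act 1 n9884 = n20813 := rfl
def n20814 : Q := act 2 n9884
theorem D20814 : act 2 n9884 = n20814 := rfl
def n20815 : Q := act 4 n9884
theorem D20815 : act 4 n9884 = n20815 := rfl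
theorem F32970 : act 0 n20815 = n10180 := d20_7 (iv4 F14812) (iv1 D1900) F1849 (iv3 F3162) D4490 D9884 D20815 F16013 F6683 (iv1 F3222)
theorem F32972 : act 0 n10146 = n20815 := d20_1 (iv4 F15987) (iv4 D20815) (iv3 D9884) (iv1 F15526) F15522 (iv4 F32923) (iv1 F32925) D20799 (iv3 F32960) (iv1 D10148)
def n20816 : Q := act 5 n9884
theorem D20816 : act 5 n9884 = n20816 := rfl
theorem F32973 : act 3 n20816 = n9886 := d6_1 D20816 (iv5 D9886) D9884
def n20817 : Q := act 6 n9884
theorem D20817 : act 6 n9884 = n20817 := rfl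
theorem F32974 : act 3 n20817 = n9887 := d7_1 D20817 (iv6 D9887) D9884
def n20818 : Q := act 7 n9884
theorem D20818 : act 7 n9884 = n20818 := rfl
theorem F32975 : act 3 n20818 = n9888 := d8_1 D20818 (iv7 D9888) D9884
def n20819 : Q := act 0 n9885
theorem D20819 : act 0 n9885 = n20819 := rfl
def n20820 : Q := act 1 n9885
theorem D20820 : act 1 n9885 = n20820 := rfl
theorem F32976 : act 1 n20820 = n9890 := d15_1 D20820 (iv7 F32966) F32965
def n20821 : Q := act 3 n9885
theorem D20821 : act 3 n9885 = n20821 := rfl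
def n20822 : Q := act 5 n9885
theorem D20822 : act 5 n9885 = n20822 := rfl
def n20823 : Q := act 6 n9885
theorem D20823 : act 6 n9885 = n20823 := rfl
theorem F32977 : act 4 n20823 = n9887 := d10_1 D20823 (iv6 D9887) D9885
def n20824 : Q := act 7 n9885
theorem D20824 : act 7 n9885 = n20824 := rfl
theorem F32978 : act 2 n20824 = n9890 := d4_1 D20824 (iv7 F32966) F32965
theorem F32979 : act 4 n20824 = n9888 := d11_1 D20824 (iv7 D9888) D9885
theorem F32980 : act 1 n9890 = n20819 := d15_0 (iv0 D20819) D20824 F32978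
def n20825 : Q := act 0 n9886
theorem D20825 : act 0 n9886 = n20825 := rfl
theorem F32981 : act 5 n20825 = n20000 := d21_2 D9886 D20825 (iv6 D20000) (iv1 D9431) (iv6 D4278) F7245 (iv1 D971) D973 D1876 D4490
theorem F32982 : act 6 n20489 = n20825 := d12_0 F32981 (iv6 D20000) D19999 (iv6 F31824) D20489
theorem F32983 : act 0 n20825 = n9891 := d21_10 (iv5 D9891) (iv1 D4491) F3163 (iv6 D1876) (iv1 F7280) D4365 (iv5 F16837) D9726 D20489 F32982
def n20826 : Q := act 1 n9886
theorem D20826 : act 1 n9886 = n20826 := rfl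
theorem F32984 : act 1 n20826 = n9891 := d15_1 D20826 (iv7 F32968) F32967
def n20827 : Q := act 4 n9886
theorem D20827 : act 4 n9886 = n20827 := rfl
def n20828 : Q := act 6 n9886
theorem D20828 : act 6 n9886 = n20828 := rfl
theorem F32985 : act 0 n20828 = n19967 := d21_10 F32479 (iv1 D20443) (iv5 D9706) (iv6 D4380) F7281 D1876 F3163 D4490 D9886 D20828
def n20829 : Q := act 7 n9886
theorem D20829 : act 7 n9886 = n20829 := rfl
theorem F32986 : act 2 n20829 = n9891 := d4_1 D20829 (iv7 F32968) F32967
theorem F32988 : act 6 n19931 = n20829 := d3_0 F32986 (iv6 F15537) D19931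
theorem F32989 : act 7 n20828 = n19939 := d14_4 F31762 F32988 (iv7 D20829) D20828 (iv6 D19939)
def n20830 : Q := act 0 n9887
theorem D20830 : act 0 n9887 = n20830 := rfl
def n20831 : Q := act 1 n9887
theorem D20831 : act 1 n9887 = n20831 := rfl
theorem F32990 : act 6 n19917 = n20831 := d21_3 F16782 D9380 D19917 (iv1 D20831) (iv6 D9887) D9886 D20825 F32981 (iv6 D20000) (iv1 D9431)
def n20832 : Q := act 7 n9887
theorem D20832 : act 7 n9887 = n20832 := rfl
def n20833 : Q := act 6 n9888
theorem D20833 : act 6 n9888 = n20833 := rfl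
theorem F32991 : act 2 n20833 = n9892 := d3_1 D20833 (iv6 D9892) (iv2 F15536)
def n20834 : Q := act 0 n9889
theorem D20834 : act 0 n9889 = n20834 := rfl
def n20835 : Q := act 1 n9889
theorem D20835 : act 1 n9889 = n20835 := rfl
def n20836 : Q := act 2 n9889
theorem D20836 : act 2 n9889 = n20836 := rfl
def n20837 : Q := act 4 n9889
theorem D20837 : act 4 n9889 = n20837 := rfl
def n20838 : Q := act 5 n9889
theorem D20838 : act 5 n9889 = n20838 := rfl
theorem F32992 : act 3 n20838 = n9891 := d6_1 D20838 (iv5 D9891) D9889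
theorem F32993 : act 6 n19932 = n20838 := d7_0 F32992 (iv6 F15537) D19932
def n20839 : Q := act 6 n9889
theorem D20839 : act 6 n9889 = n20839 := rfl
theorem F32994 : act 3 n20839 = n9892 := d7_1 D20839 (iv6 D9892) D9889
def n20840 : Q := act 3 n9890
theorem D20840 : act 3 n9890 = n20840 := rfl
def n20841 : Q := act 5 n9890
theorem D20841 : act 5 n9890 = n20841 := rfl
def n20842 : Q := act 6 n9890
theorem D20842 : act 6 n9890 = n20842 := rfl
theorem F32995 : act 4 n20842 = n9892 := d10_1 D20842 (iv6 D9892) D9890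
def n20843 : Q := act 4 n9891
theorem D20843 : act 4 n9891 = n20843 := rfl
theorem F32996 : act 6 n20843 = n19933 := d10_2 F15537 D20843 (iv4 D19933)
def n20844 : Q := act 0 n9892
theorem D20844 : act 0 n9892 = n20844 := rfl
theorem F32997 : act 5 n20844 = n20133 := d21_0 (iv1 F31967) F31804 (iv6 F15191) (iv1 F15193) D20000 (iv5 F32981) F32983 (iv5 D9891) D9892 D20844
def n20845 : Q := act 1 n9892
theorem D20845 : act 1 n9892 = n20845 := rfl
def n20846 : Q := act 5 n9892
theorem D20846 : act 5 n9892 = n20846 := rfl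
theorem F32998 : act 6 n20846 = n19934 := d12_2 D9892 D20846 (iv5 D19934) F15537 (iv5 D9891)
theorem F32999 : act 0 n19966 = n20846 := d21_1 D19966 (iv5 D20846) (iv6 D9892) (iv1 D4491) (iv6 D1876) (iv5 D973) D970 F7259 D4273 D9421
theorem F33000 : act 0 n20846 = n19971 := d21_10 (iv5 D19971) (iv1 D9422) D9423 F14651 (iv1 F7278) (iv6 F14621) (iv5 D9402) D9400 D19934 (iv6 F32998)
def n20847 : Q := act 7 n9892
theorem D20847 : act 7 n9892 = n20847 := rfl
def n20849 : Q := act 3 n9893
theorem D20849 : act 3 n9893 = n20849 := rfl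
def n20850 : Q := act 4 n9893
theorem D20850 : act 4 n9893 = n20850 := rfl
def n20851 : Q := act 5 n9893
theorem D20851 : act 5 n9893 = n20851 := rfl
def n20858 : Q := act 4 n9895
theorem D20858 : act 4 n9895 = n20858 := rfl
theorem F33003 : act 2 n20858 = n9896 := d1_1 D20858 (iv4 D9896) D9895
def n20860 : Q := act 6 n9895
theorem D20860 : act 6 n9895 = n20860 := rfl
theorem F33009 : act 2 n20860 = n9898 := d3_1 D20860 (iv6 D9898) D9895
theorem F33011 : act 5 n20715 = n20860 := d2_0 F33009 (iv5 F15542) D20715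
def n20861 : Q := act 0 n9896
theorem D20861 : act 0 n9896 = n20861 := rfl
def n20862 : Q := act 1 n9896
theorem D20862 : act 1 n9896 = n20862 := rfl
def n20863 : Q := act 5 n9896
theorem D20863 : act 5 n9896 = n20863 := rfl
def n20864 : Q := act 6 n9896
theorem D20864 : act 6 n9896 = n20864 := rfl
theorem F33012 : act 4 n20864 = n9898 := d10_1 D20864 (iv6 D9898) D9896
def n20867 : Q := act 4 n9897
theorem D20867 : act 4 n9897 = n20867 := rfl
theorem F33015 : act 7 n20867 = n20171 := d11_2 (iv7 F15540) D20867 F31999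
def n20868 : Q := act 0 n9898
theorem D20868 : act 0 n9898 = n20868 := rfl
def n20869 : Q := act 1 n9898
theorem D20869 : act 1 n9898 = n20869 := rfl
def n20870 : Q := act 3 n9899
theorem D20870 : act 3 n9899 = n20870 := rfl
theorem F33016 : act 5 n20870 = n10419 := d6_2 (iv5 F15546) D20870 (iv3 D10419)
theorem F33018 : act 7 n20870 = n10937 := d8_2 (iv7 F15545) D20870 F17744
def n20871 : Q := act 3 n9900
theorem D20871 : act 3 n9900 = n20871 := rfl
theorem F33019 : act 5 n20871 = n20671 := d6_2 F15550 D20871 (iv3 D20671)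
theorem F33020 : act 6 n20871 = n19105 := d7_2 F15551 D20871 F30691
theorem F33021 : act 7 n20871 = n19747 := d8_2 (iv7 F30651) D20871 F31509
def n20872 : Q := act 2 n9901
theorem D20872 : act 2 n9901 = n20872 := rfl
theorem F33022 : act 7 n9902 = n20872 := d15_2 (iv0 D9901) D9902 (iv2 D20872)
def n20873 : Q := act 3 n9901
theorem D20873 : act 3 n9901 = n20873 := rfl
def n20874 : Q := act 4 n9901
theorem D20874 : act 4 n9901 = n20874 := rfl
def n20875 : Q := act 5 n9901
theorem D20875 : act 5 n9901 = n20875 := rfl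
def n20877 : Q := act 7 n9901
theorem D20877 : act 7 n9901 = n20877 := rfl
theorem F33023 : act 2 n20877 = n9902 := d4_1 D20877 F33022 (iv2 D20872)
def n20878 : Q := act 3 n9902
theorem D20878 : act 3 n9902 = n20878 := rfl
def n20879 : Q := act 4 n9902
theorem D20879 : act 4 n9902 = n20879 := rfl
def n20880 : Q := act 5 n9902
theorem D20880 : act 5 n9902 = n20880 := rfl
def n20881 : Q := act 6 n9902
theorem D20881 : act 6 n9902 = n20881 := rfl
def n20882 : Q := act 4 n9903
theorem D20882 : act 4 n9903 = n20882 := rfl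
theorem F33024 : act 2 n20882 = n9904 := d1_1 D20882 (iv4 D9904) D9903
theorem F33025 : act 7 n20882 = n20858 := d11_2 (iv7 F15554) D20882 (iv4 D20858)
theorem F33026 : act 1 n20862 = n20882 := d15_1 D20862 F33025 F33003
theorem F33027 : act 1 n20882 = n20861 := d15_0 (iv0 D20861) (iv7 F15558) (iv2 F33024)
def n20883 : Q := act 6 n9903
theorem D20883 : act 6 n9903 = n20883 := rfl
theorem F33028 : act 2 n20883 = n9905 := d3_1 D20883 (iv6 D9905) D9903
theorem F33029 : act 3 n20883 = n20883 := d7_1 D20883 (iv6 D20883) F15553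
def n20884 : Q := act 0 n9904
theorem D20884 : act 0 n9904 = n20884 := rfl
theorem F33030 : act 1 n20858 = n20884 := d15_0 (iv0 D20884) F15558 (iv2 F33003)
def n20885 : Q := act 1 n9904
theorem D20885 : act 1 n9904 = n20885 := rfl
theorem F33031 : act 1 n20885 = n20858 := d15_1 D20885 (iv7 F33025) F33024
def n20886 : Q := act 5 n9904
theorem D20886 : act 5 n9904 = n20886 := rfl
theorem F33032 : act 7 n20886 = n20863 := d13_2 (iv7 F15558) D20886 (iv5 D20863)
def n20887 : Q := act 6 n9904
theorem D20887 : act 6 n9904 = n20887 := rfl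
theorem F33033 : act 4 n20887 = n9905 := d10_1 D20887 (iv6 D9905) D9904
def n20888 : Q := act 0 n9905
theorem D20888 : act 0 n9905 = n20888 := rfl
def n20889 : Q := act 1 n9905
theorem D20889 : act 1 n9905 = n20889 := rfl
def n20890 : Q := act 7 n9905
theorem D20890 : act 7 n9905 = n20890 := rfl
theorem F33034 : act 3 n20890 = n9907 := d8_1 D20890 (iv7 D9907) (iv3 F15559)
def n20891 : Q := act 3 n9906
theorem D20891 : act 3 n9906 = n20891 := rfl
theorem F33036 : act 5 n20891 = n11008 := d6_2 (iv5 F15560) D20891 (iv3 D11008)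
theorem F33037 : act 7 n20891 = n19106 := d8_2 F30667 D20891 F30692
def n20892 : Q := act 0 n9912
theorem D20892 : act 0 n9912 = n20892 := rfl
def n20893 : Q := act 1 n9912
theorem D20893 : act 1 n9912 = n20893 := rfl
def n20894 : Q := act 7 n9912
theorem D20894 : act 7 n9912 = n20894 := rfl
theorem F33039 : act 2 n20894 = n20757 := d4_1 D20894 (iv7 D20757) (iv2 F15571)
theorem F33040 : act 4 n20894 = n20525 := d11_1 D20894 (iv7 D20525) (iv4 F15572)
theorem F33041 : act 5 n20894 = n20389 := d13_1 D20894 (iv7 D20389) (iv5 F17015)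
theorem F33042 : act 6 n20894 = n20751 := d14_1 D20894 (iv7 D20751) (iv6 D9836) (iv7 F6554) D9912
theorem F33043 : act 1 n20757 = n20892 := d15_0 (iv0 D20892) D20894 F33039
theorem F33044 : act 1 n20756 = n20894 := d15_1 D20756 (iv7 D20894) F15571
theorem F33045 : act 1 n20894 = n20755 := d15_0 (iv0 D20755) D20757 (iv2 F33039)
def n20895 : Q := act 0 n9927
theorem D20895 : act 0 n9927 = n20895 := rfl
def n20896 : Q := act 1 n9927
theorem D20896 : act 1 n9927 = n20896 := rfl
theorem F33046 : act 1 n20896 = n20751 := d15_1 D20896 (iv7 D20751) (iv2 F15634)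
def n20897 : Q := act 7 n9927
theorem D20897 : act 7 n9927 = n20897 := rfl
theorem F33047 : act 2 n20897 = n20751 := d4_1 D20897 (iv7 D20751) (iv2 F15634)
theorem F33048 : act 3 n20897 = n10097 := d8_1 D20897 (iv7 D10097) (iv3 F15635)
theorem F33049 : act 4 n20897 = n20531 := d11_1 D20897 (iv7 D20531) (iv4 F15636)
theorem F33050 : act 6 n20897 = n20757 := d14_1 D20897 (iv7 D20757) (iv6 D9854) (iv7 F6574) D9927
theorem F33051 : act 1 n20751 = n20895 := d15_0 (iv0 D20895) D20897 F33047
theorem F33052 : act 1 n20749 = n20897 := d15_1 D20749 (iv7 D20897) F15634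
theorem F33053 : act 1 n20897 = n20748 := d15_0 (iv0 D20748) D20751 (iv2 F33047)
def n20898 : Q := act 0 n9937
theorem D20898 : act 0 n9937 = n20898 := rfl
theorem F33054 : act 1 n9937 = n20898 := d15_0 (iv0 D20898) F15667 (iv2 F15665)
def n20899 : Q := act 6 n9937
theorem D20899 : act 6 n9937 = n20899 := rfl
theorem F33055 : act 2 n20899 = n20760 := d3_1 D20899 (iv6 D20760) (iv2 F15665)
theorem F33056 : act 3 n20899 = n9938 := d7_1 D20899 (iv6 D9938) D9937
theorem F33057 : act 4 n20899 = n20899 := d10_1 D20899 (iv6 D20899) F15666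
def n20900 : Q := act 0 n9938
theorem D20900 : act 0 n9938 = n20900 := rfl
def n20901 : Q := act 1 n9938
theorem D20901 : act 1 n9938 = n20901 := rfl
theorem F33058 : act 1 n20901 = n9952 := d15_1 D20901 (iv7 D9952) (iv2 F15668)
def n20902 : Q := act 5 n9938
theorem D20902 : act 5 n9938 = n20902 := rfl
theorem F33059 : act 2 n20902 = n9951 := d2_1 D20902 (iv5 D9951) (iv2 F15668)
def n20903 : Q := act 7 n9938
theorem D20903 : act 7 n9938 = n20903 := rfl
theorem F33060 : act 2 n20903 = n9952 := d4_1 D20903 (iv7 D9952) (iv2 F15668)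
theorem F33061 : act 4 n20903 = n9942 := d11_1 D20903 (iv7 D9942) (iv4 F15669)
theorem F33062 : act 6 n20903 = n20765 := d14_1 D20903 (iv7 D20765) (iv6 D9869) (iv7 F6589) D9938
theorem F33063 : act 1 n9952 = n20900 := d15_0 (iv0 D20900) D20903 F33060
theorem F33064 : act 1 n9950 = n20903 := d15_1 D9950 (iv7 D20903) F15668
theorem F33065 : act 4 n10355 = n20900 := d20_6 F14812 (iv1 D1923) (iv4 F1877) (iv3 F3250) D4692 D10355 (iv1 F33063) F15691 F6607 (iv1 F3196)
theorem F33066 : act 1 n20903 = n9949 := d15_0 (iv0 D9949) D9952 (iv2 F33060)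
def n20904 : Q := act 2 n9939
theorem D20904 : act 2 n9939 = n20904 := rfl
theorem F33067 : act 7 n9940 = n20904 := d15_2 (iv0 D9939) D9940 (iv2 D20904)
def n20905 : Q := act 3 n9939
theorem D20905 : act 3 n9939 = n20905 := rfl
def n20906 : Q := act 4 n9939
theorem D20906 : act 4 n9939 = n20906 := rfl
def n20907 : Q := act 5 n9939
theorem D20907 : act 5 n9939 = n20907 := rfl
def n20908 : Q := act 7 n9939
theorem D20908 : act 7 n9939 = n20908 := rfl
theorem F33068 : act 2 n20908 = n9940 := d4_1 D20908 F33067 (iv2 D20904)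
def n20909 : Q := act 3 n9940
theorem D20909 : act 3 n9940 = n20909 := rfl
theorem F33069 : act 4 n20909 = n10351 := d20_6 (iv4 F14794) (iv1 F3166) (iv4 F3193) (iv3 F6607) (iv1 F15670) D20909 (iv1 D10351) F6790 F3250 D1948
def n20910 : Q := act 4 n9940
theorem D20910 : act 4 n9940 = n20910 := rfl
def n20911 : Q := act 5 n9940
theorem D20911 : act 5 n9940 = n20911 := rfl
theorem F33070 : act 6 n9963 = n20911 := d21_5 (iv5 D4554) (iv1 D1897) D1898 (iv6 F6606) D9963 (iv5 D20911) (iv1 D9940) D9941 F15673 (iv1 F16873)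
def n20912 : Q := act 6 n9940
theorem D20912 : act 6 n9940 = n20912 := rfl
def n20913 : Q := act 0 n9941
theorem D20913 : act 0 n9941 = n20913 := rfl
theorem F33071 : act 6 n20913 = n9961 := d21_5 (iv5 D4549) (iv1 F3186) D4527 (iv6 F15673) D20913 (iv5 D9961) (iv1 D4543) D4544 F6606 F16871
def n20914 : Q := act 4 n9941
theorem D20914 : act 4 n9941 = n20914 := rfl
theorem F33072 : act 2 n20914 = n9965 := d1_1 D20914 (iv4 D9965) (iv2 F15671)
theorem F33073 : act 6 n20914 = n9943 := d10_2 (iv6 F15673) D20914 (iv4 D9943)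
def n20915 : Q := act 7 n9941
theorem D20915 : act 7 n9941 = n20915 := rfl
theorem F33074 : act 2 n20915 = n9966 := d4_1 D20915 (iv7 D9966) (iv2 F15671)
theorem F33075 : act 3 n20915 = n20915 := d8_1 D20915 (iv7 D20915) F15672
theorem F33076 : act 5 n20915 = n9942 := d13_1 D20915 (iv7 D9942) D9941
theorem F33078 : act 1 n9966 = n20913 := d15_0 (iv0 D20913) D20915 F33074
theorem F33079 : act 1 n9964 = n20915 := d15_1 D9964 (iv7 D20915) F15671
theorem F33080 : act 0 n9963 = n20915 := d21_10 F33076 (iv1 F15678) D9961 (iv6 F33071) (iv1 F33078) F15698 F15697 (iv1 F15670) D20911 (iv6 F33070)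
def n20916 : Q := act 3 n9943
theorem D20916 : act 3 n9943 = n20916 := rfl
def n20917 : Q := act 5 n9943
theorem D20917 : act 5 n9943 = n20917 := rfl
theorem F33085 : act 4 n20917 = n10012 := d16_2 D9943 D20917 (iv5 D10012) (iv4 D4558) (iv5 D1898) F1846 D1898 F3189 (iv2 F6594)
def n20918 : Q := act 0 n9944
theorem D20918 : act 0 n9944 = n20918 := rfl
theorem F33086 : act 1 n16937 = n20918 := d15_0 (iv0 D20918) F15682 (iv2 F27774)
def n20919 : Q := act 1 n9944
theorem D20919 : act 1 n9944 = n20919 := rfl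
def n20920 : Q := act 2 n9944
theorem D20920 : act 2 n9944 = n20920 := rfl
theorem F33087 : act 3 n20920 = n16951 := d0_2 D9944 D20920 F27794 (iv3 D9875) (iv2 F12159)
theorem F33088 : act 4 n20920 = n19581 := d1_2 (iv4 F17031) D20920 (iv2 F31350)
theorem F33089 : act 5 n20920 = n16938 := d2_2 F31848 D20920 (iv2 F31847)
theorem F33090 : act 7 n20920 = n16937 := d4_2 (iv7 F15682) D20920 F27774
theorem F33091 : act 1 n20920 = n20774 := d15_0 (iv0 D20774) (iv7 F15682) D20920
theorem F33092 : act 1 n20919 = n16937 := d15_1 D20919 (iv7 F33090) (iv2 D20920)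
theorem F33093 : act 1 n20775 = n20920 := d15_1 D20775 F33090 F27774
def n20921 : Q := act 6 n9944
theorem D20921 : act 6 n9944 = n20921 := rfl
theorem F33094 : act 3 n20921 = n9945 := d7_1 D20921 (iv6 D9945) D9944
def n20922 : Q := act 0 n9945
theorem D20922 : act 0 n9945 = n20922 := rfl
def n20923 : Q := act 1 n9945
theorem D20923 : act 1 n9945 = n20923 := rfl
theorem F33095 : act 1 n20923 = n20785 := d15_1 D20923 (iv7 D20785) (iv2 F15683)
def n20924 : Q := act 5 n9945
theorem D20924 : act 5 n9945 = n20924 := rfl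
theorem F33096 : act 2 n20924 = n20784 := d2_1 D20924 (iv5 D20784) (iv2 F15683)
def n20925 : Q := act 7 n9945
theorem D20925 : act 7 n9945 = n20925 := rfl
theorem F33097 : act 2 n20925 = n20785 := d4_1 D20925 (iv7 D20785) (iv2 F15683)
theorem F33098 : act 4 n20925 = n19863 := d11_1 D20925 (iv7 D19863) (iv4 F15684)
theorem F33099 : act 6 n20925 = n20780 := d14_1 D20925 (iv7 D20780) (iv6 D9874) (iv7 F12162) D9945
theorem F33100 : act 1 n20785 = n20922 := d15_0 (iv0 D20922) D20925 F33097
theorem F33101 : act 1 n20783 = n20925 := d15_1 D20783 (iv7 D20925) F15683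
theorem F33102 : act 1 n20925 = n20782 := d15_0 (iv0 D20782) D20785 (iv2 F33097)
def n20926 : Q := act 0 n9946
theorem D20926 : act 0 n9946 = n20926 := rfl
theorem F33103 : act 1 n16951 = n20926 := d15_0 (iv0 D20926) F15685 (iv2 F27794)
def n20927 : Q := act 1 n9946
theorem D20927 : act 1 n9946 = n20927 := rfl
theorem F33104 : act 1 n20927 = n16951 := d15_1 D20927 (iv7 D16951) (iv2 F26939)
theorem F33105 : act 5 n17427 = n20927 := d21_6 D7221 F11540 (iv5 D5776) D5777 (iv1 F19876) (iv6 F28416) (iv1 D20927) (iv5 F26938) (iv6 D7882) F5608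
theorem F33106 : act 2 n20927 = n16949 := d2_1 F33105 (iv5 F27792) (iv2 F28415)
theorem F33107 : act 7 n20927 = n16948 := d13_2 (iv7 F28417) F33105 (iv5 F28374)
theorem F33108 : act 2 n16948 = n20926 := d15_3 (iv0 D20926) D20927 F33107
theorem F33109 : act 7 n16949 = n20926 := d4_2 (iv7 F33107) F33106 (iv2 F33108)
def n20928 : Q := act 6 n9946
theorem D20928 : act 6 n9946 = n20928 := rfl
theorem F33110 : act 2 n20928 = n16941 := d3_1 D20928 F27780 (iv2 F26939)
theorem F33111 : act 3 n20928 = n9947 := d7_1 D20928 (iv6 D9947) D9946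
theorem F33112 : act 5 n20928 = n16901 := d12_1 D20928 (iv6 D16901) (iv5 D7881) D7882 F26938
def n20929 : Q := act 0 n9947
theorem D20929 : act 0 n9947 = n20929 := rfl
def n20930 : Q := act 1 n9947
theorem D20930 : act 1 n9947 = n20930 := rfl
theorem F33113 : act 1 n20930 = n20780 := d15_1 D20930 (iv7 D20780) (iv2 F15686)
def n20931 : Q := act 5 n9947
theorem D20931 : act 5 n9947 = n20931 := rfl
theorem F33114 : act 2 n20931 = n20779 := d2_1 D20931 (iv5 D20779) (iv2 F15686)
theorem F33115 : act 3 n20931 = n16901 := d6_1 D20931 (iv5 F33112) F33111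
theorem F33116 : act 6 n20931 = n16900 := d12_2 D9947 D20931 (iv5 D16900) F26936 F14665
def n20932 : Q := act 7 n9947
theorem D20932 : act 7 n9947 = n20932 := rfl
theorem F33117 : act 2 n20932 = n20780 := d4_1 D20932 (iv7 D20780) (iv2 F15686)
theorem F33119 : act 6 n20932 = n20785 := d14_1 D20932 (iv7 D20785) (iv6 D9876) (iv7 F12157) D9947
theorem F33120 : act 1 n20780 = n20929 := d15_0 (iv0 D20929) D20932 F33117
def n20933 : Q := act 0 n9948
theorem D20933 : act 0 n9948 = n20933 := rfl
def n20934 : Q := act 1 n9948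
theorem D20934 : act 1 n9948 = n20934 := rfl
def n20935 : Q := act 5 n9948
theorem D20935 : act 5 n9948 = n20935 := rfl
theorem F33123 : act 3 n20935 = n20790 := d6_1 D20935 (iv5 D20790) (iv3 F15688)
theorem F33124 : act 6 n20935 = n9951 := d12_2 D9948 D20935 (iv5 D9951) (iv6 D4541) D4540
def n20936 : Q := act 7 n9948
theorem D20936 : act 7 n9948 = n20936 := rfl
theorem F33125 : act 3 n20936 = n20791 := d8_1 D20936 (iv7 D20791) (iv3 F15688)
theorem F33126 : act 6 n20936 = n20791 := d14_1 D20936 (iv7 D20791) (iv6 D9878) (iv7 F6602) D9948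
def n20937 : Q := act 2 n9949
theorem D20937 : act 2 n9949 = n20937 := rfl
theorem F33127 : act 7 n9950 = n20937 := d15_2 (iv0 D9949) D9950 (iv2 D20937)
def n20938 : Q := act 3 n9949
theorem D20938 : act 3 n9949 = n20938 := rfl
def n20939 : Q := act 4 n9949
theorem D20939 : act 4 n9949 = n20939 := rfl
def n20940 : Q := act 5 n9949
theorem D20940 : act 5 n9949 = n20940 := rfl
def n20941 : Q := act 6 n9949
theorem D20941 : act 6 n9949 = n20941 := rfl
def n20942 : Q := act 7 n9949
theorem D20942 : act 7 n9949 = n20942 := rfl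
theorem F33128 : act 2 n20942 = n9950 := d4_1 D20942 F33127 (iv2 D20937)
def n20943 : Q := act 3 n9950
theorem D20943 : act 3 n9950 = n20943 := rfl
def n20944 : Q := act 4 n9950
theorem D20944 : act 4 n9950 = n20944 := rfl
theorem F33129 : act 3 n10281 = n20944 := d20_5 F14803 (iv1 F3221) (iv4 F3258) (iv3 F6793) (iv1 F16280) (iv4 D20944) (iv1 D9950) F6604 F3185 D1899
def n20945 : Q := act 5 n9950
theorem D20945 : act 5 n9950 = n20945 := rfl
def n20946 : Q := act 6 n9950
theorem D20946 : act 6 n9950 = n20946 := rfl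
def n20947 : Q := act 0 n9951
theorem D20947 : act 0 n9951 = n20947 := rfl
def n20948 : Q := act 1 n9951
theorem D20948 : act 1 n9951 = n20948 := rfl
def n20949 : Q := act 4 n9951
theorem D20949 : act 4 n9951 = n20949 := rfl
def n20950 : Q := act 7 n9951
theorem D20950 : act 7 n9951 = n20950 := rfl
theorem F33130 : act 3 n20950 = n20805 := d8_1 D20950 (iv7 D20805) (iv3 F15689)
theorem F33131 : act 5 n20950 = n9952 := d13_1 D20950 (iv7 D9952) D9951
def n20952 : Q := act 1 n9953
theorem D20952 : act 1 n9953 = n20952 := rfl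
theorem F33133 : act 1 n20952 = n9958 := d15_1 D20952 (iv7 D9958) D9953
def n20953 : Q := act 3 n9953
theorem D20953 : act 3 n9953 = n20953 := rfl
theorem F33134 : act 7 n20953 = n9959 := d8_2 F15693 D20953 (iv3 D9959)
def n20954 : Q := act 4 n9953
theorem D20954 : act 4 n9953 = n20954 := rfl
theorem F33135 : act 2 n20954 = n9955 := d1_1 D20954 (iv4 D9955) D9953
theorem F33136 : act 7 n20954 = n9960 := d11_2 F15693 D20954 (iv4 D9960)
def n20955 : Q := act 5 n9953
theorem D20955 : act 5 n9953 = n20955 := rfl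
theorem F33137 : act 2 n20955 = n9956 := d2_1 D20955 (iv5 D9956) D9953
theorem F33138 : act 7 n20955 = n9961 := d13_2 F15693 D20955 (iv5 D9961)
def n20956 : Q := act 6 n9953
theorem D20956 : act 6 n9953 = n20956 := rfl
theorem F33139 : act 2 n20956 = n9957 := d3_1 D20956 (iv6 D9957) D9953
def n20957 : Q := act 0 n9954
theorem D20957 : act 0 n9954 = n20957 := rfl
def n20958 : Q := act 1 n9954
theorem D20958 : act 1 n9954 = n20958 := rfl
def n20959 : Q := act 2 n9954
theorem D20959 : act 2 n9954 = n20959 := rfl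
def n20960 : Q := act 4 n9954
theorem D20960 : act 4 n9954 = n20960 := rfl
theorem F33140 : act 0 n20960 = n10353 := d20_7 (iv4 F14791) (iv1 D1878) (iv4 F1849) (iv3 F3185) D4542 D9954 D20960 F16479 F6793 (iv1 F3261)
theorem F33141 : act 0 n10279 = n20960 := d20_1 (iv4 F16279) (iv4 D20960) (iv3 D9954) (iv1 F15679) F15675 (iv4 F33061) (iv1 F33064) D20944 (iv3 F33129) (iv1 D10281)
def n20961 : Q := act 5 n9954
theorem D20961 : act 5 n9954 = n20961 := rfl
theorem F33142 : act 3 n20961 = n9956 := d6_1 D20961 (iv5 D9956) D9954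
def n20962 : Q := act 6 n9954
theorem D20962 : act 6 n9954 = n20962 := rfl
theorem F33143 : act 3 n20962 = n9957 := d7_1 D20962 (iv6 D9957) D9954
def n20963 : Q := act 7 n9954
theorem D20963 : act 7 n9954 = n20963 := rfl
theorem F33144 : act 3 n20963 = n9958 := d8_1 D20963 (iv7 D9958) D9954
def n20964 : Q := act 0 n9955
theorem D20964 : act 0 n9955 = n20964 := rfl
def n20965 : Q := act 1 n9955
theorem D20965 : act 1 n9955 = n20965 := rfl
theorem F33145 : act 1 n20965 = n9960 := d15_1 D20965 (iv7 F33136) F33135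
def n20966 : Q := act 3 n9955
theorem D20966 : act 3 n9955 = n20966 := rfl
def n20967 : Q := act 5 n9955
theorem D20967 : act 5 n9955 = n20967 := rfl
def n20968 : Q := act 6 n9955
theorem D20968 : act 6 n9955 = n20968 := rfl
theorem F33146 : act 4 n20968 = n9957 := d10_1 D20968 (iv6 D9957) D9955
def n20969 : Q := act 7 n9955
theorem D20969 : act 7 n9955 = n20969 := rfl
theorem F33147 : act 2 n20969 = n9960 := d4_1 D20969 (iv7 F33136) F33135
theorem F33148 : act 4 n20969 = n9958 := d11_1 D20969 (iv7 D9958) D9955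
theorem F33149 : act 1 n9960 = n20964 := d15_0 (iv0 D20964) D20969 F33147
def n20970 : Q := act 0 n9956
theorem D20970 : act 0 n9956 = n20970 := rfl
theorem F33150 : act 5 n20970 = n20515 := d21_2 D9956 D20970 (iv6 D20515) (iv1 D9735) (iv6 D4400) (iv5 F7064) (iv1 D976) D978 D1895 D4542
def n20971 : Q := act 1 n9956
theorem D20971 : act 1 n9956 = n20971 := rfl
theorem F33151 : act 1 n20971 = n9961 := d15_1 D20971 (iv7 F33138) F33137
def n20972 : Q := act 4 n9956
theorem D20972 : act 4 n9956 = n20972 := rfl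
def n20973 : Q := act 6 n9956
theorem D20973 : act 6 n9956 = n20973 := rfl
def n20974 : Q := act 7 n9956
theorem D20974 : act 7 n9956 = n20974 := rfl
theorem F33152 : act 2 n20974 = n9961 := d4_1 D20974 (iv7 F33138) F33137
theorem F33153 : act 5 n20974 = n9958 := d13_1 D20974 (iv7 D9958) D9956
theorem F33154 : act 1 n9961 = n20970 := d15_0 (iv0 D20970) D20974 F33152
theorem F33155 : act 0 n9962 = n19917 := d21_10 (iv5 D19917) (iv1 F15085) F16966 F15191 (iv1 F15201) D20515 (iv5 F33150) (iv1 F33154) (iv5 D9961) D9962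
def n20975 : Q := act 0 n9957
theorem D20975 : act 0 n9957 = n20975 := rfl
def n20976 : Q := act 1 n9957
theorem D20976 : act 1 n9957 = n20976 := rfl
theorem F33156 : act 6 n20844 = n20976 := d21_3 (iv5 F14758) D20133 (iv5 F32997) (iv1 D20976) (iv6 D9957) D9956 D20970 F33150 (iv6 D20515) (iv1 D9735)
def n20977 : Q := act 7 n9957
theorem D20977 : act 7 n9957 = n20977 := rfl
def n20978 : Q := act 6 n9958
theorem D20978 : act 6 n9958 = n20978 := rfl
theorem F33157 : act 2 n20978 = n9962 := d3_1 D20978 (iv6 D9962) (iv2 F15694)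
def n20979 : Q := act 0 n9959
theorem D20979 : act 0 n9959 = n20979 := rfl
def n20980 : Q := act 1 n9959
theorem D20980 : act 1 n9959 = n20980 := rfl
def n20981 : Q := act 2 n9959
theorem D20981 : act 2 n9959 = n20981 := rfl
def n20982 : Q := act 4 n9959
theorem D20982 : act 4 n9959 = n20982 := rfl
def n20983 : Q := act 5 n9959
theorem D20983 : act 5 n9959 = n20983 := rfl
theorem F33158 : act 3 n20983 = n9961 := d6_1 D20983 (iv5 D9961) D9959
def n20984 : Q := act 6 n9959
theorem D20984 : act 6 n9959 = n20984 := rfl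
theorem F33159 : act 3 n20984 = n9962 := d7_1 D20984 (iv6 D9962) D9959
def n20985 : Q := act 3 n9960
theorem D20985 : act 3 n9960 = n20985 := rfl
def n20986 : Q := act 5 n9960
theorem D20986 : act 5 n9960 = n20986 := rfl
def n20987 : Q := act 6 n9960
theorem D20987 : act 6 n9960 = n20987 := rfl
theorem F33160 : act 4 n20987 = n9962 := d10_1 D20987 (iv6 D9962) D9960
def n20988 : Q := act 4 n9961
theorem D20988 : act 4 n9961 = n20988 := rfl
def n20989 : Q := act 1 n9962
theorem D20989 : act 1 n9962 = n20989 := rfl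
def n20990 : Q := act 5 n9962
theorem D20990 : act 5 n9962 = n20990 := rfl
theorem F33161 : act 0 n20489 = n20990 := d21_1 D20489 (iv5 D20990) (iv6 D9962) (iv1 D4543) (iv6 D1895) (iv5 D978) D975 F7056 D4395 D9726
theorem E4354 : n20067 = n20000 := (c21_8 (iv5 D20990) F33155 (iv5 D19917) D19918 F32946 (iv6 D20773) (iv5 F15520) D20067 (iv5 F32981) (iv6 F32982) F33161)
theorem F33162 : act 0 n20000 = n20769 := (sb E4354 (iv1 F32939))
theorem F33163 : act 1 n20000 = n9452 := (sb E4354 (iv0 D20067))
theorem F33164 : act 5 n20976 = n20063 := d21_6 (iv5 F32981) F32983 (iv5 D9891) D9892 D20844 F33156 (iv1 D20063) (iv5 D9451) D9452 (iv1 F33163)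
def n20991 : Q := act 7 n9962
theorem D20991 : act 7 n9962 = n20991 := rfl
def n20992 : Q := act 2 n9963
theorem D20992 : act 2 n9963 = n20992 := rfl
theorem F33165 : act 7 n9964 = n20992 := d15_2 (iv0 D9963) D9964 (iv2 D20992)
def n20993 : Q := act 3 n9963
theorem D20993 : act 3 n9963 = n20993 := rfl
def n20994 : Q := act 4 n9963
theorem D20994 : act 4 n9963 = n20994 := rfl
def n20995 : Q := act 5 n9963
theorem D20995 : act 5 n9963 = n20995 := rfl
theorem F33166 : act 0 n19972 = n20995 := d21_10 (iv5 D20995) F33080 F33076 F15676 (iv1 F15525) D9892 D20846 F33000 (iv5 D19971) D19972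
def n20996 : Q := act 7 n9963
theorem D20996 : act 7 n9963 = n20996 := rfl
theorem F33167 : act 2 n20996 = n9964 := d4_1 D20996 F33165 (iv2 D20992)
def n20997 : Q := act 3 n9964
theorem D20997 : act 3 n9964 = n20997 := rfl
def n20998 : Q := act 4 n9964
theorem D20998 : act 4 n9964 = n20998 := rfl
def n20999 : Q := act 6 n9964
theorem D20999 : act 6 n9964 = n20999 := rfl
def n21000 : Q := act 0 n9965
theorem D21000 : act 0 n9965 = n21000 := rfl
def n21001 : Q := act 1 n9965
theorem D21001 : act 1 n9965 = n21001 := rfl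
def n21002 : Q := act 3 n9965
theorem D21002 : act 3 n9965 = n21002 := rfl
theorem F33169 : act 6 n21002 = n10011 := d7_2 (iv6 F15695) D21002 (iv3 D10011)
def n21003 : Q := act 5 n9965
theorem D21003 : act 5 n9965 = n21003 := rfl
def n21004 : Q := act 7 n9965
theorem D21004 : act 7 n9965 = n21004 := rfl
theorem F33170 : act 4 n21004 = n9966 := d11_1 D21004 (iv7 D9966) D9965
def n21005 : Q := act 6 n9976
theorem D21005 : act 6 n9976 = n21005 := rfl
theorem F33172 : act 3 n21005 = n9988 := d7_1 D21005 (iv6 D9988) (iv3 F15708)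
theorem F33173 : act 5 n21005 = n20104 := d12_1 D21005 (iv6 D20104) (iv5 D9472) (iv6 F16866) D9976
def n21006 : Q := act 5 n9981
theorem D21006 : act 5 n9981 = n21006 := rfl
theorem F33175 : act 3 n21006 = n9982 := d6_1 D21006 (iv5 D9982) D9981
theorem F33177 : act 0 n21006 = n10453 := d17_2 (iv1 F17394) D21006 (iv5 D10453) F6863 D8874 (iv0 F29005) (iv5 D17848) F17404 (iv4 F16194)
theorem F33178 : act 4 n21006 = n19249 := d18_5 (iv1 D4060) (iv4 F5991) D9034 F17398 D21006 (iv0 D19249) (iv4 D9053) (iv0 F14125) (iv5 D9052)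
def n21007 : Q := act 6 n9982
theorem D21007 : act 6 n9982 = n21007 := rfl
theorem F33179 : act 5 n21007 = n20107 := d12_1 D21007 (iv6 D20107) (iv5 D9478) (iv6 F16867) D9982
def n21008 : Q := act 1 n9987
theorem D21008 : act 1 n9987 = n21008 := rfl
theorem F33180 : act 1 n21008 = n10000 := d15_1 D21008 F15802 F15801
theorem F33181 : act 4 n21008 = n10510 := d18_7 F17386 F6903 F17387 (iv4 D4548) D4549 D9987 D21008 (iv0 F17392) (iv5 D9982)
def n21009 : Q := act 3 n9987
theorem D21009 : act 3 n9987 = n21009 := rfl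
def n21010 : Q := act 5 n9987
theorem D21010 : act 5 n9987 = n21010 := rfl
def n21011 : Q := act 6 n9987
theorem D21011 : act 6 n9987 = n21011 := rfl
theorem F33186 : act 4 n21011 = n9988 := d10_1 D21011 (iv6 D9988) D9987
def n21012 : Q := act 0 n9988
theorem D21012 : act 0 n9988 = n21012 := rfl
def n21013 : Q := act 1 n9988
theorem D21013 : act 1 n9988 = n21013 := rfl
def n21014 : Q := act 7 n9988
theorem D21014 : act 7 n9988 = n21014 := rfl
theorem F33187 : act 5 n21014 = n20114 := d13_1 D21014 (iv7 D20114) (iv5 F16876)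
def n21015 : Q := act 6 n9996
theorem D21015 : act 6 n9996 = n21015 := rfl
theorem F33189 : act 3 n21015 = n10001 := d7_1 D21015 (iv6 D10001) (iv3 F15791)
theorem F33190 : act 5 n21015 = n20622 := d12_1 D21015 (iv6 D20622) (iv5 F16856) F16857 D9996
def n21016 : Q := act 6 n9998
theorem D21016 : act 6 n9998 = n21016 := rfl
theorem F33191 : act 2 n21016 = n21007 := d3_1 D21016 (iv6 D21007) (iv2 F15795)
theorem F33192 : act 3 n21016 = n10375 := d7_1 D21016 (iv6 D10375) (iv3 F15796)
def n21018 : Q := act 5 n10000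
theorem D21018 : act 5 n10000 = n21018 := rfl
theorem F33194 : act 2 n21018 = n21010 := d2_1 D21018 (iv5 D21010) (iv2 F15801)
def n21019 : Q := act 6 n10000
theorem D21019 : act 6 n10000 = n21019 := rfl
theorem F33196 : act 2 n21019 = n21011 := d3_1 D21019 (iv6 D21011) (iv2 F15801)
theorem F33197 : act 4 n21019 = n10001 := d10_1 D21019 (iv6 D10001) D10000
def n21020 : Q := act 0 n10001
theorem D21020 : act 0 n10001 = n21020 := rfl
def n21021 : Q := act 1 n10001
theorem D21021 : act 1 n10001 = n21021 := rfl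
theorem F33198 : act 1 n21021 = n21014 := d15_1 D21021 (iv7 D21014) (iv2 F15803)
def n21022 : Q := act 7 n10001
theorem D21022 : act 7 n10001 = n21022 := rfl
theorem F33199 : act 2 n21022 = n21014 := d4_1 D21022 (iv7 D21014) (iv2 F15803)
theorem F33200 : act 5 n21022 = n20628 := d13_1 D21022 (iv7 D20628) (iv5 F15804)
theorem F33201 : act 6 n21022 = n21022 := d14_1 D21022 (iv7 D21022) (iv6 D10001) F15743 D10001
theorem F33202 : act 1 n21014 = n21020 := d15_0 (iv0 D21020) D21022 F33199
theorem F33203 : act 1 n21013 = n21022 := d15_1 D21013 (iv7 D21022) F15803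
theorem F33204 : act 1 n21022 = n21012 := d15_0 (iv0 D21012) D21014 (iv2 F33199)
def n21024 : Q := act 5 n10009
theorem D21024 : act 5 n10009 = n21024 := rfl
theorem F33207 : act 4 n21024 = n21018 := d16_2 (iv4 F16889) D21024 (iv5 D21018) (iv4 D10000) (iv5 D4554) D4553 D9998 F15797 F15795
def n21025 : Q := act 6 n10009
theorem D21025 : act 6 n10009 = n21025 := rfl
theorem F33210 : act 4 n21025 = n21007 := d10_1 D21025 (iv6 D21007) (iv4 F16889)
def n21026 : Q := act 3 n10010
theorem D21026 : act 3 n10010 = n21026 := rfl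
def n21027 : Q := act 5 n10010
theorem D21027 : act 5 n10010 = n21027 := rfl
theorem F33213 : act 4 n21027 = n21010 := d9_1 D21027 (iv5 D21010) (iv4 D9987) (iv5 D4549) D4548 D9982 (iv4 F16889) D21024 F33207 (iv5 D21018) (iv4 D10000) (iv5 D4554) D4553 D9998 F16888
def n21028 : Q := act 6 n10010
theorem D21028 : act 6 n10010 = n21028 := rfl
theorem F33217 : act 2 n21028 = n21025 := d3_1 D21028 (iv6 D21025) (iv2 F16533)
theorem F33218 : act 4 n21028 = n21016 := d10_1 D21028 (iv6 D21016) F16888
def n21032 : Q := act 5 n10011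
theorem D21032 : act 5 n10011 = n21032 := rfl
theorem F33223 : act 3 n21032 = n10012 := d6_1 D21032 (iv5 D10012) D10011
def n21033 : Q := act 6 n10012
theorem D21033 : act 6 n10012 = n21033 := rfl
def n21035 : Q := act 3 n10013
theorem D21035 : act 3 n10013 = n21035 := rfl
def n21036 : Q := act 4 n10013
theorem D21036 : act 4 n10013 = n21036 := rfl
def n21037 : Q := act 5 n10013
theorem D21037 : act 5 n10013 = n21037 := rfl
def n21038 : Q := act 6 n10013
theorem D21038 : act 6 n10013 = n21038 := rfl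
def n21044 : Q := act 4 n10015
theorem D21044 : act 4 n10015 = n21044 := rfl
theorem F33227 : act 2 n21044 = n10016 := d1_1 D21044 (iv4 D10016) D10015
def n21045 : Q := act 5 n10015
theorem D21045 : act 5 n10015 = n21045 := rfl
theorem F33228 : act 2 n21045 = n10017 := d2_1 D21045 (iv5 D10017) D10015
def n21046 : Q := act 6 n10015
theorem D21046 : act 6 n10015 = n21046 := rfl
theorem F33230 : act 2 n21046 = n10018 := d3_1 D21046 (iv6 D10018) D10015
def n21047 : Q := act 0 n10016
theorem D21047 : act 0 n10016 = n21047 := rfl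
def n21048 : Q := act 1 n10016
theorem D21048 : act 1 n10016 = n21048 := rfl
def n21049 : Q := act 5 n10016
theorem D21049 : act 5 n10016 = n21049 := rfl
def n21050 : Q := act 6 n10016
theorem D21050 : act 6 n10016 = n21050 := rfl
theorem F33233 : act 4 n21050 = n10018 := d10_1 D21050 (iv6 D10018) D10016
def n21051 : Q := act 0 n10017
theorem D21051 : act 0 n10017 = n21051 := rfl
def n21052 : Q := act 1 n10017
theorem D21052 : act 1 n10017 = n21052 := rfl
def n21053 : Q := act 4 n10017
theorem D21053 : act 4 n10017 = n21053 := rfl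
def n21055 : Q := act 0 n10018
theorem D21055 : act 0 n10018 = n21055 := rfl
def n21056 : Q := act 1 n10018
theorem D21056 : act 1 n10018 = n21056 := rfl
def n21057 : Q := act 3 n10019
theorem D21057 : act 3 n10019 = n21057 := rfl
theorem F33236 : act 5 n21057 = n11005 := d6_2 (iv5 F15827) D21057 F17868
def n21058 : Q := act 4 n10019
theorem D21058 : act 4 n10019 = n21058 := rfl
theorem F33238 : act 5 n21058 = n21058 := d16_1 D21058 (iv4 D21058) F15827 F15285 (iv5 F14201) (iv4 F15304) (iv5 F15832) F15831 F15829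
theorem F33240 : act 0 n21058 = n10418 := d17_0 F16577 (iv1 F15879) (iv5 D10039) (iv4 D4571) (iv5 D1901) D1900 D4567 F15828 D21058
def n21059 : Q := act 3 n10020
theorem D21059 : act 3 n10020 = n21059 := rfl
theorem F33241 : act 5 n21059 = n20678 := d6_2 (iv5 F15832) D21059 (iv3 D20678)
def n21060 : Q := act 4 n10020
theorem D21060 : act 4 n10020 = n21060 := rfl
theorem F33244 : act 5 n21060 = n21060 := d9_2 (iv5 F15832) D21060 (iv4 D21060) F15832 F15304 F14201 (iv4 F15285) (iv5 F15827) D21058 F33238 (iv4 D21058) F15827 F15285 (iv5 F14201) (iv4 F15304)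
theorem F33246 : act 1 n21060 = n10418 := d17_6 D4569 F15312 F15314 (iv5 F15832) D21060 F33244 F16577 (iv0 D10036) (iv4 D4571)
def n21062 : Q := act 1 n10021
theorem D21062 : act 1 n10021 = n21062 := rfl
theorem F33252 : act 1 n21062 = n10030 := d15_1 D21062 F15853 F15834
theorem F33254 : act 5 n21062 = n21062 := d17_7 (iv1 F15830) F15832 (iv1 D9802) F6619 D10034 F15862 D21062 F33252 (iv4 D10030)
theorem F33255 : act 4 n21062 = n10409 := d17_9 (iv1 D10409) (iv5 D4711) (iv1 F3260) (iv5 F6807) (iv4 F16587) (iv5 D10423) (iv0 F15864) F15862 D21062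
theorem F33256 : act 2 n21062 = n21062 := d1_3 F33255 F16561 (iv4 F33255)
def n21065 : Q := act 3 n10023
theorem D21065 : act 3 n10023 = n21065 := rfl
theorem F33259 : act 5 n21065 = n20180 := d6_2 (iv5 F15840) D21065 (iv3 D20180)
theorem F33260 : act 6 n21065 = n20891 := d7_2 F15839 D21065 (iv3 D20891)
theorem F33261 : act 7 n21065 = n19112 := d8_2 F30650 D21065 F30704
def n21067 : Q := act 3 n10024
theorem D21067 : act 3 n10024 = n21067 := rfl
def n21072 : Q := act 3 n10025
theorem D21072 : act 3 n10025 = n21072 := rfl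
def n21076 : Q := act 4 n10026
theorem D21076 : act 4 n10026 = n21076 := rfl
theorem F33264 : act 2 n21076 = n10027 := d1_1 D21076 (iv4 D10027) D10026
theorem F33265 : act 7 n21076 = n21044 := d11_2 (iv7 F15844) D21076 (iv4 D21044)
def n21077 : Q := act 5 n10026
theorem D21077 : act 5 n10026 = n21077 := rfl
theorem F33268 : act 2 n21077 = n10028 := d2_1 D21077 (iv5 D10028) D10026
theorem F33270 : act 7 n21077 = n21045 := d13_2 (iv7 F15844) D21077 (iv5 D21045)
def n21078 : Q := act 6 n10026
theorem D21078 : act 6 n10026 = n21078 := rfl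
theorem F33273 : act 2 n21078 = n10029 := d3_1 D21078 (iv6 D10029) D10026
def n21079 : Q := act 0 n10027
theorem D21079 : act 0 n10027 = n21079 := rfl
theorem F33275 : act 1 n21044 = n21079 := d15_0 (iv0 D21079) F15848 (iv2 F33227)
def n21080 : Q := act 1 n10027
theorem D21080 : act 1 n10027 = n21080 := rfl
theorem F33276 : act 1 n21080 = n21044 := d15_1 D21080 (iv7 F33265) F33264
def n21081 : Q := act 5 n10027
theorem D21081 : act 5 n10027 = n21081 := rfl
theorem F33277 : act 7 n21081 = n21049 := d13_2 (iv7 F15848) D21081 (iv5 D21049)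
def n21082 : Q := act 6 n10027
theorem D21082 : act 6 n10027 = n21082 := rfl
theorem F33278 : act 4 n21082 = n10029 := d10_1 D21082 (iv6 D10029) D10027
def n21083 : Q := act 0 n10028
theorem D21083 : act 0 n10028 = n21083 := rfl
theorem F33279 : act 1 n21045 = n21083 := d15_0 (iv0 D21083) F15850 (iv2 F33228)
def n21084 : Q := act 1 n10028
theorem D21084 : act 1 n10028 = n21084 := rfl
theorem F33280 : act 1 n21084 = n21045 := d15_1 D21084 (iv7 F33270) F33268
def n21085 : Q := act 4 n10028
theorem D21085 : act 4 n10028 = n21085 := rfl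
theorem F33281 : act 7 n21085 = n21053 := d11_2 (iv7 F15850) D21085 (iv4 D21053)
def n21086 : Q := act 0 n10029
theorem D21086 : act 0 n10029 = n21086 := rfl
def n21087 : Q := act 1 n10029
theorem D21087 : act 1 n10029 = n21087 := rfl
def n21089 : Q := act 0 n10031
theorem D21089 : act 0 n10031 = n21089 := rfl
def n21090 : Q := act 1 n10031
theorem D21090 : act 1 n10031 = n21090 := rfl
def n21092 : Q := act 4 n10031
theorem D21092 : act 4 n10031 = n21092 := rfl
def n21094 : Q := act 0 n10033
theorem D21094 : act 0 n10033 = n21094 := rfl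
def n21095 : Q := act 1 n10033
theorem D21095 : act 1 n10033 = n21095 := rfl
def n21096 : Q := act 2 n10033
theorem D21096 : act 2 n10033 = n21096 := rfl
theorem F33290 : act 5 n21096 = n20657 := d2_2 (iv5 F15859) D21096 F32768
def n21097 : Q := act 4 n10033
theorem D21097 : act 4 n10033 = n21097 := rfl
def n21098 : Q := act 6 n10033
theorem D21098 : act 6 n10033 = n21098 := rfl
theorem F33297 : act 5 n21098 = n20665 := d12_1 D21098 (iv6 D20665) (iv5 D9793) D9794 (iv5 F15859)
def n21108 : Q := act 0 n10052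
theorem D21108 : act 0 n10052 = n21108 := rfl
theorem F33312 : act 1 n19247 = n21108 := d15_0 (iv0 D21108) F15888 (iv2 F30896)
def n21109 : Q := act 1 n10052
theorem D21109 : act 1 n10052 = n21109 := rfl
theorem F33313 : act 1 n21109 = n19247 := d15_1 D21109 F30897 F30896
theorem F33314 : act 4 n21109 = n10453 := d18_7 (iv1 F17403) F6863 F17411 F5758 D4576 D10052 D21109 (iv0 F33177) (iv5 D21006)
theorem F33315 : act 7 n21109 = n21109 := d11_0 F33314 F16649 (iv4 F33314)
def n21111 : Q := act 5 n10052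
theorem D21111 : act 5 n10052 = n21111 := rfl
def n21112 : Q := act 6 n10052
theorem D21112 : act 6 n10052 = n21112 := rfl
theorem F33321 : act 4 n21112 = n10053 := d10_1 D21112 (iv6 D10053) D10052
def n21113 : Q := act 0 n10053
theorem D21113 : act 0 n10053 = n21113 := rfl
def n21114 : Q := act 1 n10053
theorem D21114 : act 1 n10053 = n21114 := rfl
def n21115 : Q := act 7 n10053
theorem D21115 : act 7 n10053 = n21115 := rfl
theorem F33322 : act 3 n21115 = n10058 := d8_1 D21115 (iv7 D10058) (iv3 F15889)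
theorem F33323 : act 5 n21115 = n20261 := d13_1 D21115 (iv7 D20261) (iv5 F15890)
def n21120 : Q := act 0 n10055
theorem D21120 : act 0 n10055 = n21120 := rfl
def n21121 : Q := act 1 n10055
theorem D21121 : act 1 n10055 = n21121 := rfl
theorem F33331 : act 4 n21121 = n10080 := d18_7 (iv1 F15010) F32137 (iv1 D20267) F14938 (iv5 F6640) (iv4 F15894) D21121 F15938 F15935
theorem F33332 : act 6 n21062 = n21121 := d21_3 F15857 (iv1 F33252) F33254 (iv1 D21121) (iv6 D10055) F6636 F6637 F3264 (iv6 F6805) (iv1 F15858)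
theorem F33333 : act 2 n21121 = n21121 := d3_1 F33332 (iv6 F33332) F33256
def n21123 : Q := act 7 n10055
theorem D21123 : act 7 n10055 = n21123 := rfl
theorem F33336 : act 2 n21123 = n21123 := d4_1 D21123 (iv7 D21123) F15893
theorem F33337 : act 4 n21123 = n10058 := d11_1 D21123 (iv7 D10058) (iv4 F15894)
theorem F33339 : act 1 n21123 = n21120 := d15_0 (iv0 D21120) D21123 F33336
theorem F33340 : act 1 n21121 = n21123 := d15_1 D21121 (iv7 D21123) F15893
theorem F33341 : act 7 n21120 = n21121 := d15_2 F33340 F33339 F33333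
theorem F33343 : act 4 n10079 = n21120 := d11_3 F33341 F33331 (iv7 F17766)
def n21124 : Q := act 3 n10056
theorem D21124 : act 3 n10056 = n21124 := rfl
def n21125 : Q := act 4 n10056
theorem D21125 : act 4 n10056 = n21125 := rfl
theorem F33344 : act 2 n21125 = n21125 := d1_1 D21125 (iv4 D21125) F15903
def n21126 : Q := act 3 n10057
theorem D21126 : act 3 n10057 = n21126 := rfl
theorem F33345 : act 6 n21126 = n21059 := d7_2 F15895 D21126 (iv3 D21059)
theorem F33346 : act 7 n21126 = n21124 := d8_2 F15902 D21126 (iv3 D21124)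
def n21127 : Q := act 4 n10057
theorem D21127 : act 4 n10057 = n21127 := rfl
theorem F33349 : act 7 n21127 = n21125 := d11_2 F15902 D21127 (iv4 D21125)
theorem F33350 : act 0 n21127 = n10060 := d18_2 (iv1 F15901) D21127 F15907 F6656 (iv4 F15006) F32155 (iv4 D20274) F14942 (iv5 F15898)
theorem F33351 : act 1 n21125 = n10060 := d15_0 (iv0 F33350) F33349 F33344
def n21134 : Q := act 7 n10060
theorem D21134 : act 7 n10060 = n21134 := rfl
theorem F33362 : act 2 n21134 = n21134 := d4_1 D21134 (iv7 D21134) F15906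
theorem F33363 : act 4 n21134 = n10081 := d11_1 D21134 (iv7 D10081) (iv4 F15907)
theorem F33365 : act 1 n21134 = n21125 := d15_0 F33351 D21134 F33362
theorem F33366 : act 1 n21127 = n21134 := d15_1 (iv0 F33350) (iv7 D21134) F15906
def n21145 : Q := act 0 n10077
theorem D21145 : act 0 n10077 = n21145 := rfl
theorem F33369 : act 4 n21145 = n18151 := d18_3 F17445 D10077 D21145 (iv5 D18151) F13402 F17439 F5771 F17406 D1996
def n21146 : Q := act 5 n10077
theorem D21146 : act 5 n10077 = n21146 := rfl
def n21147 : Q := act 6 n10077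
theorem D21147 : act 6 n10077 = n21147 := rfl
theorem F33374 : act 4 n21147 = n10078 := d10_1 D21147 (iv6 D10078) D10077
def n21148 : Q := act 0 n10078
theorem D21148 : act 0 n10078 = n21148 := rfl
def n21149 : Q := act 1 n10078
theorem D21149 : act 1 n10078 = n21149 := rfl
def n21150 : Q := act 7 n10078
theorem D21150 : act 7 n10078 = n21150 := rfl
theorem F33375 : act 3 n21150 = n10081 := d8_1 D21150 (iv7 D10081) (iv3 F15932)
theorem F33376 : act 5 n21150 = n20349 := d13_1 D21150 (iv7 D20349) (iv5 F15933)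
def n21151 : Q := act 3 n10079
theorem D21151 : act 3 n10079 = n21151 := rfl
def n21152 : Q := act 5 n10079
theorem D21152 : act 5 n10079 = n21152 := rfl
def n21153 : Q := act 3 n10080
theorem D21153 : act 3 n10080 = n21153 := rfl
def n21154 : Q := act 4 n10082
theorem D21154 : act 4 n10082 = n21154 := rfl
theorem F33383 : act 2 n21154 = n17910 := d1_1 D21154 F29086 F16123
theorem F33384 : act 7 n21154 = n17909 := d11_2 F16130 D21154 F29083
theorem F33385 : act 0 n21154 = n10304 := d18_2 (iv1 F15941) D21154 (iv4 D10304) (iv5 F7302) (iv4 F5552) D4353 F13957 F13955 (iv5 F13325)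
theorem F33386 : act 1 n21154 = n10301 := d18_6 D1937 (iv4 F5984) (iv1 F6409) F6658 D10082 D21154 (iv4 D10301) (iv0 D4671) (iv5 D1939)
def n21155 : Q := act 6 n10082
theorem D21155 : act 6 n10082 = n21155 := rfl
theorem F33387 : act 3 n21155 = n17607 := d7_1 D21155 (iv6 D17607) (iv3 F15939)
theorem F33388 : act 5 n21155 = n21155 := d12_1 D21155 (iv6 D21155) (iv5 D10082) F7205 D10082
def n21156 : Q := act 4 n10083
theorem D21156 : act 4 n10083 = n21156 := rfl
theorem F33389 : act 2 n21156 = n17884 := d1_1 D21156 F29059 (iv2 F16144)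
theorem F33390 : act 7 n21156 = n17885 := d11_2 (iv7 F16140) D21156 F29062
theorem F33391 : act 0 n21156 = n10287 := d18_2 D10083 D21156 (iv4 D10287) (iv5 D4666) (iv4 F5984) (iv0 D4049) D4052 (iv0 F5988) D4587
theorem F33392 : act 1 n21156 = n10295 := d18_6 F5902 (iv4 F5901) (iv1 F12245) F12959 (iv5 F15942) D21156 (iv4 D10295) F7272 F5852
def n21157 : Q := act 6 n10083
theorem D21157 : act 6 n10083 = n21157 := rfl
def n21158 : Q := act 4 n10084
theorem D21158 : act 4 n10084 = n21158 := rfl
theorem F33393 : act 2 n21158 = n17885 := d1_1 D21158 F29062 (iv2 F16139)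
theorem F33394 : act 7 n21158 = n17884 := d11_2 F16142 D21158 F29059
theorem F33395 : act 0 n21158 = n10295 := d18_2 (iv1 F15944) D21158 (iv4 D10295) (iv5 D4669) (iv4 F3240) (iv0 F5825) F6658 F6657 D4600
theorem F33396 : act 1 n21158 = n10287 := d18_6 D3949 (iv4 F12175) F12190 (iv4 F12772) (iv5 F15945) D21158 (iv4 D10287) F7270 F4230
def n21159 : Q := act 6 n10084
theorem D21159 : act 6 n10084 = n21159 := rfl
theorem F33397 : act 3 n21159 = n17082 := d7_1 D21159 (iv6 D17082) F15946
def n21160 : Q := act 0 n10085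
theorem D21160 : act 0 n10085 = n21160 := rfl
def n21161 : Q := act 1 n10085
theorem D21161 : act 1 n10085 = n21161 := rfl
def n21162 : Q := act 5 n10085
theorem D21162 : act 5 n10085 = n21162 := rfl
theorem F33398 : act 6 n21162 = n10088 := d12_2 D10085 D21162 (iv5 D10088) (iv6 D4588) D4587
def n21163 : Q := act 7 n10085
theorem D21163 : act 7 n10085 = n21163 := rfl
def n21164 : Q := act 5 n10086
theorem D21164 : act 5 n10086 = n21164 := rfl
theorem F33399 : act 0 n21164 = n17512 := d17_2 D10086 D21164 F28514 (iv4 D8973) D8974 (iv0 F16813) (iv5 D8990) (iv0 F16769) (iv4 F6660)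
theorem F33400 : act 1 n21164 = n19120 := d17_6 F17524 D9472 F30579 (iv5 D19053) (iv4 F16950) D21164 (iv5 D19120) (iv0 F28031) F28029
def n21165 : Q := act 5 n10087
theorem D21165 : act 5 n10087 = n21165 := rfl
theorem F33401 : act 3 n21165 = n17328 := d6_1 D21165 (iv5 F28268) (iv3 F16947)
theorem F33402 : act 0 n21165 = n19120 := d17_2 F16752 D21165 (iv5 D19120) (iv4 D8968) D8969 F16843 (iv5 D5068) (iv0 F7509) (iv4 F13002)
theorem F33403 : act 1 n21165 = n17512 := d17_6 (iv1 F31667) (iv5 F32692) (iv1 F32695) F31915 F16944 D21165 F28514 F30722 F30720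
def n21166 : Q := act 6 n10087
theorem D21166 : act 6 n10087 = n21166 := rfl
theorem F33404 : act 2 n21166 = n19119 := d3_1 D21166 (iv6 F30723) (iv2 F16945)
theorem F33405 : act 3 n21166 = n12901 := d7_1 D21166 F27421 (iv3 F16947)
theorem F33406 : act 4 n21166 = n19851 := d10_1 D21166 F31679 F16944
theorem F33407 : act 7 n21166 = n17080 := d14_2 (iv7 F16946) D21166 (iv6 D17080) (iv7 F13956) F16941
theorem F33408 : act 0 n10385 = n21166 := d21_4 D19203 F30846 (iv5 D10384) D10385 (iv6 D21166) D21165 F33402 (iv5 D19120) F16879 (iv1 F17427)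
theorem F33409 : act 1 n19116 = n21166 := d15_0 (iv0 F33408) F16915 (iv2 F30709)
def n21167 : Q := act 0 n10088
theorem D21167 : act 0 n10088 = n21167 := rfl
theorem F33410 : act 5 n21167 = n19134 := d17_3 (iv1 D10087) D10088 D21167 F30741 D19832 (iv0 F31629) (iv5 D9832) D9831 F16944
theorem F33411 : act 1 n17502 = n21167 := d15_0 (iv0 D21167) (iv7 F30707) F30706
def n21168 : Q := act 1 n10088
theorem D21168 : act 1 n10088 = n21168 := rfl
theorem F33412 : act 1 n21168 = n17502 := d15_1 D21168 F28485 F16212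
theorem F33413 : act 5 n21168 = n21166 := d17_7 (iv1 F16882) (iv5 F7521) F7523 (iv5 D4595) (iv4 F6660) D10088 D21168 (iv0 F33408) F16520
theorem F33414 : act 3 n17595 = n21168 := d6_3 F33413 F33405 F28606
def n21169 : Q := act 4 n10088
theorem D21169 : act 4 n10088 = n21169 := rfl
def n21170 : Q := act 5 n10090
theorem D21170 : act 5 n10090 = n21170 := rfl
theorem F33415 : act 0 n21170 = n10326 := d17_2 (iv1 F15948) D21170 (iv5 D10326) (iv4 D4680) F7292 (iv0 D1731) (iv5 F1895) (iv0 F7081) D4602
theorem F33416 : act 1 n21170 = n10334 := d17_6 (iv1 F15041) (iv5 D9659) F12190 D9339 (iv4 F15949) D21170 (iv5 D10334) F16418 F16417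
def n21171 : Q := act 6 n10090
theorem D21171 : act 6 n10090 = n21171 := rfl
theorem F33417 : act 4 n21171 = n19848 := d10_1 D21171 (iv6 D19848) (iv4 F15949)
def n21172 : Q := act 0 n10091
theorem D21172 : act 0 n10091 = n21172 := rfl
theorem F33418 : act 4 n21172 = n16955 := d18_3 F27782 (iv4 F15950) D21172 (iv5 D16955) (iv4 D7914) F12485 (iv4 F27691) F27695 D16943
def n21173 : Q := act 1 n10091
theorem D21173 : act 1 n10091 = n21173 := rfl
theorem F33419 : act 4 n16952 = n21173 := d20_0 (iv1 D21173) F15950 (iv3 D9740) (iv1 D4402) F3138 (iv4 D1815) D1813 D4271 D9418 F27797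
def n21174 : Q := act 2 n10091
theorem D21174 : act 2 n10091 = n21174 := rfl
theorem F33420 : act 4 n21174 = n20526 := d1_2 (iv4 F15950) D21174 (iv2 D20526)
def n21175 : Q := act 5 n10091
theorem D21175 : act 5 n10091 = n21175 := rfl
theorem F33421 : act 3 n21175 = n10092 := d6_1 D21175 (iv5 D10092) D10091
def n21176 : Q := act 6 n10091
theorem D21176 : act 6 n10091 = n21176 := rfl
theorem F33422 : act 3 n21176 = n10093 := d7_1 D21176 (iv6 D10093) D10091
theorem F33423 : act 4 n21176 = n20527 := d10_1 D21176 (iv6 D20527) (iv4 F15950)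
def n21177 : Q := act 1 n10092
theorem D21177 : act 1 n10092 = n21177 := rfl
theorem F33424 : act 1 n21177 = n10124 := d15_1 D21177 (iv7 F16221) F16220
theorem F33425 : act 5 n21177 = n10150 := d17_7 (iv1 D1919) (iv5 D988) D985 D1910 D4591 D10092 D21177 F15995 (iv4 D4617)
def n21178 : Q := act 6 n10092
theorem D21178 : act 6 n10092 = n21178 := rfl
def n21179 : Q := act 0 n10093
theorem D21179 : act 0 n10093 = n21179 := rfl
def n21180 : Q := act 1 n10093
theorem D21180 : act 1 n10093 = n21180 := rfl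
def n21181 : Q := act 5 n10093
theorem D21181 : act 5 n10093 = n21181 := rfl
def n21182 : Q := act 7 n10093
theorem D21182 : act 7 n10093 = n21182 := rfl
theorem F33426 : act 4 n21182 = n10097 := d11_1 D21182 (iv7 D10097) (iv4 F15951)
def n21183 : Q := act 2 n10094
theorem D21183 : act 2 n10094 = n21183 := rfl
def n21184 : Q := act 3 n10094
theorem D21184 : act 3 n10094 = n21184 := rfl
def n21185 : Q := act 4 n10094
theorem D21185 : act 4 n10094 = n21185 := rfl
def n21186 : Q := act 5 n10094
theorem D21186 : act 5 n10094 = n21186 := rfl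
def n21187 : Q := act 6 n10094
theorem D21187 : act 6 n10094 = n21187 := rfl
def n21188 : Q := act 7 n10094
theorem D21188 : act 7 n10094 = n21188 := rfl
def n21191 : Q := act 5 n10095
theorem D21191 : act 5 n10095 = n21191 := rfl
def n21192 : Q := act 6 n10095
theorem D21192 : act 6 n10095 = n21192 := rfl
def n21193 : Q := act 0 n10096
theorem D21193 : act 0 n10096 = n21193 := rfl
def n21194 : Q := act 1 n10096
theorem D21194 : act 1 n10096 = n21194 := rfl
def n21195 : Q := act 4 n10096
theorem D21195 : act 4 n10096 = n21195 := rfl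
theorem F33429 : act 6 n21195 = n10108 := d10_2 (iv6 F15952) D21195 (iv4 D10108)
def n21196 : Q := act 7 n10096
theorem D21196 : act 7 n10096 = n21196 := rfl
theorem F33430 : act 5 n21196 = n10097 := d13_1 D21196 (iv7 D10097) D10096
def n21197 : Q := act 0 n10108
theorem D21197 : act 0 n10108 = n21197 := rfl
theorem F33431 : act 4 n21197 = n19832 := d18_3 F7523 D10108 D21197 (iv5 D19832) (iv4 F30741) (iv0 F30743) (iv4 D19116) F13935 (iv5 F7521)
theorem F33432 : act 1 n19137 = n21197 := d15_0 (iv0 D21197) (iv7 F30708) (iv2 F30752)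
def n21198 : Q := act 1 n10108
theorem D21198 : act 1 n10108 = n21198 := rfl
theorem F33433 : act 1 n21198 = n19137 := d15_1 D21198 F30753 F16249
theorem F33434 : act 4 n21198 = n20746 := d18_7 (iv1 F16943) F16944 (iv1 D10087) F6660 D4595 D10108 D21198 F32894 (iv5 D19852)
def n21199 : Q := act 3 n10108
theorem D21199 : act 3 n10108 = n21199 := rfl
theorem F33435 : act 4 n21199 = n20139 := d5_2 D10108 D21199 (iv3 D20139) (iv4 F16850) F16849
def n21200 : Q := act 5 n10108
theorem D21200 : act 5 n10108 = n21200 := rfl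
def n21201 : Q := act 6 n10110
theorem D21201 : act 6 n10110 = n21201 := rfl
theorem F33436 : act 2 n21201 = n17896 := d3_1 D21201 (iv6 D17896) (iv2 F15957)
theorem F33437 : act 3 n21201 = n17736 := d7_1 D21201 (iv6 D17736) (iv3 F15958)
theorem F33438 : act 5 n21201 = n19162 := d12_1 D21201 (iv6 D19162) F14063 F16758 D10110
def n21202 : Q := act 3 n10112
theorem D21202 : act 3 n10112 = n21202 := rfl
theorem F33439 : act 4 n21202 = n10123 := d5_2 D10112 D21202 (iv3 D10123) (iv4 D4602) (iv3 F6669)
theorem F33440 : act 7 n21202 = n19270 := d8_2 (iv7 F15966) D21202 (iv3 D19270)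
def n21203 : Q := act 5 n10112
theorem D21203 : act 5 n10112 = n21203 := rfl
theorem F33441 : act 2 n21203 = n19181 := d2_1 D21203 F30825 (iv2 F15965)
theorem F33442 : act 7 n21203 = n19180 := d13_2 (iv7 F15966) D21203 F30822
theorem F33443 : act 0 n21203 = n19073 := d17_2 (iv1 F15968) D21203 (iv5 D19073) (iv4 D8936) F7015 (iv0 F6412) D1758 F3349 D4994
theorem F33444 : act 1 n21203 = n19065 := d17_6 F14260 F7137 F6533 D4598 D10112 D21203 (iv5 D19065) D19063 F30599
def n21204 : Q := act 6 n10112
theorem D21204 : act 6 n10112 = n21204 := rfl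
theorem F33445 : act 2 n21204 = n19272 := d3_1 D21204 (iv6 D19272) (iv2 F15965)
theorem F33446 : act 4 n21204 = n10113 := d10_1 D21204 (iv6 D10113) D10112
def n21205 : Q := act 0 n10113
theorem D21205 : act 0 n10113 = n21205 := rfl
def n21206 : Q := act 1 n10113
theorem D21206 : act 1 n10113 = n21206 := rfl
def n21207 : Q := act 7 n10113
theorem D21207 : act 7 n10113 = n21207 := rfl
def n21208 : Q := act 0 n10118
theorem D21208 : act 0 n10118 = n21208 := rfl
def n21209 : Q := act 1 n10118
theorem D21209 : act 1 n10118 = n21209 := rfl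
def n21210 : Q := act 7 n10118
theorem D21210 : act 7 n10118 = n21210 := rfl
theorem F33448 : act 3 n21210 = n17466 := d8_1 D21210 (iv7 D17466) (iv3 F15972)
def n21211 : Q := act 0 n10123
theorem D21211 : act 0 n10123 = n21211 := rfl
def n21212 : Q := act 2 n10123
theorem D21212 : act 2 n10123 = n21212 := rfl
def n21213 : Q := act 5 n10123
theorem D21213 : act 5 n10123 = n21213 := rfl
theorem F33449 : act 3 n21213 = n10124 := d6_1 D21213 (iv5 D10124) D10123
def n21214 : Q := act 6 n10123
theorem D21214 : act 6 n10123 = n21214 := rfl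
theorem F33450 : act 3 n21214 = n10125 := d7_1 D21214 (iv6 D10125) D10123
def n21215 : Q := act 6 n10124
theorem D21215 : act 6 n10124 = n21215 := rfl
def n21216 : Q := act 0 n10125
theorem D21216 : act 0 n10125 = n21216 := rfl
def n21217 : Q := act 1 n10125
theorem D21217 : act 1 n10125 = n21217 := rfl
def n21218 : Q := act 5 n10125
theorem D21218 : act 5 n10125 = n21218 := rfl
def n21219 : Q := act 7 n10125
theorem D21219 : act 7 n10125 = n21219 := rfl
def n21223 : Q := act 5 n10126
theorem D21223 : act 5 n10126 = n21223 := rfl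
def n21228 : Q := act 5 n10127
theorem D21228 : act 5 n10127 = n21228 := rfl
theorem F33455 : act 6 n10223 = n21228 := d21_5 (iv5 D994) D990 D1927 D4644 D10223 (iv5 D21228) (iv1 D10127) F16815 (iv6 D4687) (iv1 D1942)
def n21229 : Q := act 6 n10127
theorem D21229 : act 6 n10127 = n21229 := rfl
def n21230 : Q := act 0 n10144
theorem D21230 : act 0 n10144 = n21230 := rfl
theorem F33456 : act 1 n10144 = n21230 := d15_0 (iv0 D21230) (iv7 F16272) F16270
def n21231 : Q := act 5 n10144
theorem D21231 : act 5 n10144 = n21231 := rfl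
theorem F33457 : act 3 n21231 = n10145 := d6_1 D21231 (iv5 D10145) D10144
def n21232 : Q := act 6 n10144
theorem D21232 : act 6 n10144 = n21232 := rfl
theorem F33458 : act 3 n21232 = n10146 := d7_1 D21232 (iv6 D10146) D10144
theorem F33459 : act 4 n21232 = n21232 := d10_1 D21232 (iv6 D21232) F15984
def n21233 : Q := act 6 n10145
theorem D21233 : act 6 n10145 = n21233 := rfl
theorem F33460 : act 2 n21233 = n10176 := d3_1 D21233 (iv6 D10176) (iv2 F15985)
def n21234 : Q := act 1 n10146
theorem D21234 : act 1 n10146 = n21234 := rfl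
theorem F33461 : act 1 n21234 = n10180 := d15_1 D21234 (iv7 D10180) (iv2 F15986)
def n21235 : Q := act 5 n10146
theorem D21235 : act 5 n10146 = n21235 := rfl
theorem F33462 : act 2 n21235 = n10179 := d2_1 D21235 (iv5 D10179) (iv2 F15986)
def n21236 : Q := act 7 n10146
theorem D21236 : act 7 n10146 = n21236 := rfl
theorem F33463 : act 2 n21236 = n10180 := d4_1 D21236 (iv7 D10180) (iv2 F15986)
theorem F33464 : act 4 n21236 = n10149 := d11_1 D21236 (iv7 D10149) (iv4 F15987)
theorem F33465 : act 1 n10178 = n21236 := d15_1 D10178 (iv7 D21236) F15986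
theorem F33466 : act 1 n21236 = n10177 := d15_0 (iv0 D10177) D10180 (iv2 F33463)
def n21237 : Q := act 2 n10147
theorem D21237 : act 2 n10147 = n21237 := rfl
theorem F33467 : act 7 n10148 = n21237 := d15_2 (iv0 D10147) D10148 (iv2 D21237)
def n21238 : Q := act 3 n10147
theorem D21238 : act 3 n10147 = n21238 := rfl
def n21239 : Q := act 4 n10147
theorem D21239 : act 4 n10147 = n21239 := rfl
def n21240 : Q := act 5 n10147
theorem D21240 : act 5 n10147 = n21240 := rfl
def n21241 : Q := act 6 n10147
theorem D21241 : act 6 n10147 = n21241 := rfl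
theorem F33468 : act 5 n21241 = n10929 := d21_6 (iv5 D1927) (iv1 F1864) D1917 D4609 D10147 D21241 (iv1 D10929) (iv5 D4977) (iv6 D2048) F7265
def n21242 : Q := act 7 n10147
theorem D21242 : act 7 n10147 = n21242 := rfl
theorem F33469 : act 2 n21242 = n10148 := d4_1 D21242 F33467 (iv2 D21237)
def n21243 : Q := act 4 n10148
theorem D21243 : act 4 n10148 = n21243 := rfl
def n21244 : Q := act 6 n10148
theorem D21244 : act 6 n10148 = n21244 := rfl
def n21245 : Q := act 3 n10150
theorem D21245 : act 3 n10150 = n21245 := rfl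
theorem F33470 : act 4 n21245 = n18145 := d5_2 (iv4 F15996) D21245 (iv3 D18145) (iv4 D8558) (iv3 F13386)
theorem F33471 : act 7 n21245 = n19602 := d8_2 F16422 D21245 F31373
theorem F33472 : act 0 n21245 = n10160 := d20_4 (iv4 F14102) (iv1 F14105) (iv4 F15996) D21245 (iv3 D10160) (iv4 D4617) (iv1 D1919) D1920 (iv3 F3248) D4688
def n21246 : Q := act 6 n10150
theorem D21246 : act 6 n10150 = n21246 := rfl
theorem F33473 : act 4 n21246 = n18143 := d10_1 D21246 (iv6 D18143) (iv4 F15996)
def n21247 : Q := act 0 n10151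
theorem D21247 : act 0 n10151 = n21247 := rfl
theorem F33474 : act 4 n21247 = n20393 := d20_0 (iv1 D20393) (iv4 F16458) (iv3 D10343) (iv1 D4689) F3248 (iv4 D1920) D1918 D4612 D10151 D21247
def n21248 : Q := act 1 n10151
theorem D21248 : act 1 n10151 = n21248 := rfl
theorem F33475 : act 4 n21248 = n20392 := d18_7 F27898 F20094 (iv1 D7884) (iv4 F12480) F26938 (iv4 F15997) D21248 (iv0 D20392) F27900
theorem F33476 : act 3 n19869 = n20392 := d20_5 (iv4 D1894) (iv1 F6922) D4242 D9353 D19869 (iv4 F33475) (iv1 D21248) F15997 (iv3 D9946) (iv1 D4539)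
def n21249 : Q := act 5 n10151
theorem D21249 : act 5 n10151 = n21249 := rfl
theorem F33477 : act 3 n21249 = n10152 := d6_1 D21249 (iv5 D10152) D10151
def n21250 : Q := act 6 n10151
theorem D21250 : act 6 n10151 = n21250 := rfl
theorem F33478 : act 3 n21250 = n10153 := d7_1 D21250 (iv6 D10153) D10151
theorem F33479 : act 4 n21250 = n20928 := d10_1 D21250 (iv6 D20928) (iv4 F15997)
def n21251 : Q := act 0 n10152
theorem D21251 : act 0 n10152 = n21251 := rfl
theorem F33480 : act 5 n21251 = n10218 := d17_3 (iv1 D10150) D10152 D21251 F16159 F7421 F12307 D4355 (iv0 F13387) (iv4 F15996)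
theorem F33481 : act 1 n10161 = n21251 := d15_0 (iv0 D21251) (iv7 F16428) F16427
theorem F33482 : act 2 n21170 = n21251 := d2_3 F33480 (iv2 F16161) D21170
theorem F33483 : act 7 n19300 = n21251 := d13_0 F33480 (iv7 F16162) D19300
def n21252 : Q := act 1 n10152
theorem D21252 : act 1 n10152 = n21252 := rfl
theorem F33484 : act 1 n21252 = n10161 := d15_1 D21252 (iv7 F16442) F16441
theorem F33485 : act 7 n21252 = n21170 := d15_2 (iv0 D21251) D21252 F33482
theorem F33486 : act 5 n21252 = n10219 := d17_7 F7266 F1897 D1739 (iv5 F6924) D4612 D10152 D21252 F16163 (iv4 D4654)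
theorem F33487 : act 2 n19300 = n21252 := d2_3 F33486 (iv2 F16166) D19300
def n21253 : Q := act 6 n10152
theorem D21253 : act 6 n10152 = n21253 := rfl
def n21254 : Q := act 0 n10153
theorem D21254 : act 0 n10153 = n21254 := rfl
def n21255 : Q := act 1 n10153
theorem D21255 : act 1 n10153 = n21255 := rfl
def n21256 : Q := act 5 n10153
theorem D21256 : act 5 n10153 = n21256 := rfl
def n21257 : Q := act 7 n10153
theorem D21257 : act 7 n10153 = n21257 := rfl
def n21261 : Q := act 5 n10154
theorem D21261 : act 5 n10154 = n21261 := rfl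
def n21262 : Q := act 6 n10154
theorem D21262 : act 6 n10154 = n21262 := rfl
def n21266 : Q := act 5 n10155
theorem D21266 : act 5 n10155 = n21266 := rfl
theorem F33491 : act 6 n21266 = n10163 := d21_3 (iv5 F16970) (iv1 F16451) D21266 (iv1 F16438) F16435 (iv5 F16971) (iv1 F16179) D21228 (iv6 F33455) (iv1 F16178)
def n21268 : Q := act 3 n10158
theorem D21268 : act 3 n10158 = n21268 := rfl
theorem F33492 : act 4 n21268 = n10160 := d5_2 D10158 D21268 (iv3 D10160) (iv4 D4617) D4616
theorem F33493 : act 7 n21268 = n19170 := d8_2 (iv7 F16001) D21268 (iv3 D19170)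
def n21269 : Q := act 6 n10158
theorem D21269 : act 6 n10158 = n21269 := rfl
theorem F33494 : act 2 n21269 = n19174 := d3_1 D21269 (iv6 D19174) (iv2 F16000)
theorem F33495 : act 4 n21269 = n10159 := d10_1 D21269 (iv6 D10159) D10158
def n21270 : Q := act 0 n10159
theorem D21270 : act 0 n10159 = n21270 := rfl
def n21271 : Q := act 1 n10159
theorem D21271 : act 1 n10159 = n21271 := rfl
def n21272 : Q := act 5 n10159
theorem D21272 : act 5 n10159 = n21272 := rfl
theorem F33496 : act 3 n21272 = n10165 := d6_1 D21272 (iv5 D10165) (iv3 F16004)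
theorem F33497 : act 6 n21272 = n19136 := d12_2 D10159 D21272 (iv5 D19136) (iv6 D8988) F6931
def n21273 : Q := act 7 n10159
theorem D21273 : act 7 n10159 = n21273 := rfl
theorem F33498 : act 3 n21273 = n10166 := d8_1 D21273 (iv7 D10166) (iv3 F16004)
def n21274 : Q := act 0 n10160
theorem D21274 : act 0 n10160 = n21274 := rfl
theorem F33499 : act 2 n19602 = n21274 := d15_3 (iv0 D21274) (iv0 F33472) F33471
theorem F33500 : act 4 n21274 = n19601 := d1_2 D19602 F33499 (iv2 D19601)
def n21275 : Q := act 2 n10160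
theorem D21275 : act 2 n10160 = n21275 := rfl
def n21276 : Q := act 5 n10160
theorem D21276 : act 5 n10160 = n21276 := rfl
theorem F33501 : act 3 n21276 = n10161 := d6_1 D21276 (iv5 D10161) D10160
def n21277 : Q := act 6 n10160
theorem D21277 : act 6 n10160 = n21277 := rfl
theorem F33502 : act 3 n21277 = n10162 := d7_1 D21277 (iv6 D10162) D10160
def n21278 : Q := act 6 n10161
theorem D21278 : act 6 n10161 = n21278 := rfl
def n21279 : Q := act 0 n10162
theorem D21279 : act 0 n10162 = n21279 := rfl
def n21280 : Q := act 1 n10162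
theorem D21280 : act 1 n10162 = n21280 := rfl
def n21281 : Q := act 5 n10162
theorem D21281 : act 5 n10162 = n21281 := rfl
def n21282 : Q := act 7 n10162
theorem D21282 : act 7 n10162 = n21282 := rfl
theorem F33503 : act 4 n21282 = n10166 := d11_1 D21282 (iv7 D10166) (iv4 F16005)
def n21283 : Q := act 2 n10163
theorem D21283 : act 2 n10163 = n21283 := rfl
theorem F33504 : act 7 n10164 = n21283 := d15_2 (iv0 D10163) D10164 (iv2 D21283)
def n21287 : Q := act 7 n10163
theorem D21287 : act 7 n10163 = n21287 := rfl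
theorem F33505 : act 2 n21287 = n10164 := d4_1 D21287 F33504 (iv2 D21283)
def n21288 : Q := act 3 n10164
theorem D21288 : act 3 n10164 = n21288 := rfl
def n21289 : Q := act 4 n10164
theorem D21289 : act 4 n10164 = n21289 := rfl
def n21290 : Q := act 5 n10164
theorem D21290 : act 5 n10164 = n21290 := rfl
def n21291 : Q := act 6 n10164
theorem D21291 : act 6 n10164 = n21291 := rfl
def n21292 : Q := act 0 n10165
theorem D21292 : act 0 n10165 = n21292 := rfl
def n21293 : Q := act 1 n10165
theorem D21293 : act 1 n10165 = n21293 := rfl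
theorem F33506 : act 5 n21187 = n21293 := d21_6 (iv5 D988) D985 D1910 D4592 D10094 D21187 (iv1 D21293) (iv5 D10165) (iv6 D4619) (iv1 D1919)
def n21294 : Q := act 4 n10165
theorem D21294 : act 4 n10165 = n21294 := rfl
theorem F33507 : act 6 n21294 = n19137 := d10_2 (iv6 F16006) D21294 (iv4 D19137)
def n21295 : Q := act 7 n10165
theorem D21295 : act 7 n10165 = n21295 := rfl
theorem F33508 : act 5 n21295 = n10166 := d13_1 D21295 (iv7 D10166) D10165
def n21296 : Q := act 0 n10167
theorem D21296 : act 0 n10167 = n21296 := rfl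
def n21297 : Q := act 1 n10167
theorem D21297 : act 1 n10167 = n21297 := rfl
def n21298 : Q := act 2 n10167
theorem D21298 : act 2 n10167 = n21298 := rfl
theorem F33509 : act 4 n21298 = n19224 := d1_2 F31292 D21298 (iv2 F31295)
def n21299 : Q := act 5 n10167
theorem D21299 : act 5 n10167 = n21299 := rfl
theorem F33510 : act 3 n21299 = n10168 := d6_1 D21299 (iv5 D10168) D10167
def n21300 : Q := act 6 n10167
theorem D21300 : act 6 n10167 = n21300 := rfl
theorem F33511 : act 3 n21300 = n10169 := d7_1 D21300 (iv6 D10169) D10167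
def n21301 : Q := act 6 n10168
theorem D21301 : act 6 n10168 = n21301 := rfl
def n21302 : Q := act 0 n10169
theorem D21302 : act 0 n10169 = n21302 := rfl
def n21303 : Q := act 1 n10169
theorem D21303 : act 1 n10169 = n21303 := rfl
def n21304 : Q := act 5 n10169
theorem D21304 : act 5 n10169 = n21304 := rfl
def n21305 : Q := act 7 n10169
theorem D21305 : act 7 n10169 = n21305 := rfl
def n21306 : Q := act 0 n10170
theorem D21306 : act 0 n10170 = n21306 := rfl
def n21307 : Q := act 1 n10170
theorem D21307 : act 1 n10170 = n21307 := rfl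
theorem F33512 : act 4 n21307 = n20927 := d18_7 F21326 (iv4 D12857) (iv1 F10683) (iv4 F18061) (iv5 F26933) (iv4 F16008) D21307 F33104 F27795
theorem F33513 : act 3 n20774 = n20927 := d20_5 (iv4 D9210) (iv1 F7305) (iv4 F7304) D9873 D20774 (iv4 F33512) (iv1 D21307) F16008 (iv3 D9353) (iv1 F14388)
def n21308 : Q := act 2 n10170
theorem D21308 : act 2 n10170 = n21308 := rfl
theorem F33514 : act 4 n21308 = n12150 := d1_2 (iv4 F16008) D21308 F26937
def n21309 : Q := act 5 n10170
theorem D21309 : act 5 n10170 = n21309 := rfl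
theorem F33515 : act 3 n21309 = n10171 := d6_1 D21309 (iv5 D10171) D10170
theorem F33516 : act 7 n21309 = n17403 := d13_2 F16459 D21309 F28369
theorem F33517 : act 4 n21309 = n17404 := d16_2 (iv4 F16008) D21309 F28371 F12920 (iv5 F8874) (iv4 F20096) (iv5 F32388) F32389 F26937
def n21310 : Q := act 6 n10170
theorem D21310 : act 6 n10170 = n21310 := rfl
theorem F33518 : act 3 n21310 = n10172 := d7_1 D21310 (iv6 D10172) D10170
theorem F33519 : act 4 n21310 = n19871 := d10_1 D21310 (iv6 D19871) (iv4 F16008)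
def n21311 : Q := act 6 n10171
theorem D21311 : act 6 n10171 = n21311 := rfl
def n21312 : Q := act 0 n10172
theorem D21312 : act 0 n10172 = n21312 := rfl
def n21313 : Q := act 1 n10172
theorem D21313 : act 1 n10172 = n21313 := rfl
def n21314 : Q := act 5 n10172
theorem D21314 : act 5 n10172 = n21314 := rfl
def n21315 : Q := act 7 n10172
theorem D21315 : act 7 n10172 = n21315 := rfl
theorem F33520 : act 4 n21315 = n19856 := d11_1 D21315 (iv7 D19856) (iv4 F16010)
def n21316 : Q := act 3 n10173
theorem D21316 : act 3 n10173 = n21316 := rfl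
theorem F33521 : act 5 n21316 = n10854 := d6_2 (iv5 F16011) D21316 (iv3 D10854)
def n21317 : Q := act 6 n10173
theorem D21317 : act 6 n10173 = n21317 := rfl
def n21318 : Q := act 3 n10174
theorem D21318 : act 3 n10174 = n21318 := rfl
theorem F33522 : act 5 n21318 = n10856 := d6_2 (iv5 F16012) D21318 (iv3 D10856)
def n21319 : Q := act 6 n10174
theorem D21319 : act 6 n10174 = n21319 := rfl
def n21320 : Q := act 3 n10175
theorem D21320 : act 3 n10175 = n21320 := rfl
def n21321 : Q := act 6 n10175
theorem D21321 : act 6 n10175 = n21321 := rfl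
theorem F33523 : act 4 n21321 = n10176 := d10_1 D21321 (iv6 D10176) D10175
def n21322 : Q := act 0 n10176
theorem D21322 : act 0 n10176 = n21322 := rfl
def n21323 : Q := act 1 n10176
theorem D21323 : act 1 n10176 = n21323 := rfl
def n21324 : Q := act 5 n10176
theorem D21324 : act 5 n10176 = n21324 := rfl
theorem F33524 : act 6 n21324 = n10179 := d12_2 D10176 D21324 (iv5 D10179) (iv6 D4623) D4622
def n21325 : Q := act 7 n10176
theorem D21325 : act 7 n10176 = n21325 := rfl
def n21326 : Q := act 2 n10177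
theorem D21326 : act 2 n10177 = n21326 := rfl
theorem F33525 : act 7 n10178 = n21326 := d15_2 (iv0 D10177) D10178 (iv2 D21326)
def n21327 : Q := act 3 n10177
theorem D21327 : act 3 n10177 = n21327 := rfl
def n21328 : Q := act 4 n10177
theorem D21328 : act 4 n10177 = n21328 := rfl
def n21329 : Q := act 5 n10177
theorem D21329 : act 5 n10177 = n21329 := rfl
def n21330 : Q := act 6 n10177
theorem D21330 : act 6 n10177 = n21330 := rfl
def n21331 : Q := act 7 n10177
theorem D21331 : act 7 n10177 = n21331 := rfl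
theorem F33526 : act 2 n21331 = n10178 := d4_1 D21331 F33525 (iv2 D21326)
def n21332 : Q := act 3 n10178
theorem D21332 : act 3 n10178 = n21332 := rfl
def n21333 : Q := act 5 n10178
theorem D21333 : act 5 n10178 = n21333 := rfl
def n21334 : Q := act 6 n10178
theorem D21334 : act 6 n10178 = n21334 := rfl
def n21335 : Q := act 0 n10179
theorem D21335 : act 0 n10179 = n21335 := rfl
def n21336 : Q := act 1 n10179
theorem D21336 : act 1 n10179 = n21336 := rfl
def n21337 : Q := act 4 n10179
theorem D21337 : act 4 n10179 = n21337 := rfl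
def n21338 : Q := act 7 n10179
theorem D21338 : act 7 n10179 = n21338 := rfl
theorem F33527 : act 5 n21338 = n10180 := d13_1 D21338 (iv7 D10180) D10179
def n21341 : Q := act 3 n10181
theorem D21341 : act 3 n10181 = n21341 := rfl
theorem F33530 : act 7 n21341 = n10187 := d8_2 F16014 D21341 (iv3 D10187)
def n21342 : Q := act 4 n10181
theorem D21342 : act 4 n10181 = n21342 := rfl
theorem F33531 : act 2 n21342 = n10183 := d1_1 D21342 (iv4 D10183) D10181
theorem F33532 : act 7 n21342 = n10188 := d11_2 F16014 D21342 (iv4 D10188)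
def n21343 : Q := act 5 n10181
theorem D21343 : act 5 n10181 = n21343 := rfl
theorem F33533 : act 2 n21343 = n10184 := d2_1 D21343 (iv5 D10184) D10181
theorem F33534 : act 7 n21343 = n10189 := d13_2 F16014 D21343 (iv5 D10189)
def n21344 : Q := act 6 n10181
theorem D21344 : act 6 n10181 = n21344 := rfl
theorem F33535 : act 2 n21344 = n10185 := d3_1 D21344 (iv6 D10185) D10181
def n21345 : Q := act 0 n10182
theorem D21345 : act 0 n10182 = n21345 := rfl
def n21346 : Q := act 1 n10182
theorem D21346 : act 1 n10182 = n21346 := rfl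
def n21347 : Q := act 2 n10182
theorem D21347 : act 2 n10182 = n21347 := rfl
def n21348 : Q := act 5 n10182
theorem D21348 : act 5 n10182 = n21348 := rfl
theorem F33537 : act 3 n21348 = n10184 := d6_1 D21348 (iv5 D10184) D10182
def n21349 : Q := act 6 n10182
theorem D21349 : act 6 n10182 = n21349 := rfl
theorem F33538 : act 3 n21349 = n10185 := d7_1 D21349 (iv6 D10185) D10182
def n21350 : Q := act 7 n10182
theorem D21350 : act 7 n10182 = n21350 := rfl
theorem F33539 : act 3 n21350 = n10186 := d8_1 D21350 (iv7 D10186) D10182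
def n21351 : Q := act 0 n10183
theorem D21351 : act 0 n10183 = n21351 := rfl
theorem F33540 : act 4 n21351 = n20878 := d20_2 D10183 D21351 (iv3 D20878) (iv1 D9902) (iv3 D4499) F14791 (iv1 D1949) F1877 (iv3 F3217) D4624
theorem F33541 : act 5 n20878 = n20878 := d18_4 D4624 D10183 D21351 F33540 (iv4 F33540) (iv0 D21351) (iv4 D10183) (iv0 D4624) F3218
theorem E4355 : n20880 = n9902 := (c6_3 F33541 (iv3 D20878) D20880 D20878)
theorem F33542 : act 5 n9902 = n9902 := (sb E4355 (iv5 D20880))
theorem F33544 : act 5 n20872 = n20872 := d13_3 (iv7 F33022) F33542 F33022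
theorem F33545 : act 5 n20159 = n20704 := d21_6 F33542 (iv1 D9902) F14774 (iv6 D9519) D9514 D20159 (iv1 F32845) F33011 (iv6 D20860) (iv1 F15556)
theorem E4356 : n20875 = n9901 := (c2_3 F33544 (iv2 D20872) D20875 D20872)
theorem F33546 : act 5 n9901 = n9901 := (sb E4356 (iv5 D20875))
def n21352 : Q := act 1 n10183
theorem D21352 : act 1 n10183 = n21352 := rfl
theorem F33548 : act 1 n21352 = n10188 := d15_1 D21352 (iv7 F33532) F33531
def n21353 : Q := act 3 n10183
theorem D21353 : act 3 n10183 = n21353 := rfl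
def n21354 : Q := act 5 n10183
theorem D21354 : act 5 n10183 = n21354 := rfl
def n21355 : Q := act 6 n10183
theorem D21355 : act 6 n10183 = n21355 := rfl
theorem F33549 : act 4 n21355 = n10185 := d10_1 D21355 (iv6 D10185) D10183
def n21356 : Q := act 7 n10183
theorem D21356 : act 7 n10183 = n21356 := rfl
theorem F33550 : act 2 n21356 = n10188 := d4_1 D21356 (iv7 F33532) F33531
theorem F33551 : act 4 n21356 = n10186 := d11_1 D21356 (iv7 D10186) D10183
theorem F33552 : act 1 n10188 = n21351 := d15_0 (iv0 D21351) D21356 F33550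
def n21357 : Q := act 0 n10184
theorem D21357 : act 0 n10184 = n21357 := rfl
theorem F33553 : act 5 n21357 = n21229 := d21_2 D10184 D21357 (iv6 D21229) (iv1 D10127) (iv6 D4603) (iv5 D1915) (iv1 D986) D988 D1921 D4624
def n21358 : Q := act 1 n10184
theorem D21358 : act 1 n10184 = n21358 := rfl
theorem F33554 : act 1 n21358 = n10189 := d15_1 D21358 (iv7 F33534) F33533
def n21359 : Q := act 4 n10184
theorem D21359 : act 4 n10184 = n21359 := rfl
def n21360 : Q := act 6 n10184
theorem D21360 : act 6 n10184 = n21360 := rfl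
theorem F33555 : act 0 n21360 = n21187 := d21_10 F33506 (iv1 D21293) (iv5 D10165) (iv6 D4619) (iv1 D1919) D1921 F3218 D4624 D10184 D21360
def n21361 : Q := act 7 n10184
theorem D21361 : act 7 n10184 = n21361 := rfl
theorem F33556 : act 2 n21361 = n10189 := d4_1 D21361 (iv7 F33534) F33533
theorem F33558 : act 1 n10189 = n21357 := d15_0 (iv0 D21357) D21361 F33556
def n21362 : Q := act 0 n10185
theorem D21362 : act 0 n10185 = n21362 := rfl
def n21363 : Q := act 1 n10185
theorem D21363 : act 1 n10185 = n21363 := rfl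
def n21364 : Q := act 5 n10185
theorem D21364 : act 5 n10185 = n21364 := rfl
theorem F33559 : act 0 n21364 = n10906 := d21_7 (iv5 D1915) (iv1 D986) D988 D1921 D4624 D10185 D21364 (iv5 D10906) (iv6 D4970) (iv1 F7082)
theorem F33560 : act 0 n10931 = n21364 := d21_7 F15991 (iv1 F15993) D10189 (iv6 F17643) (iv1 F17650) (iv6 F7405) (iv5 F17740) (iv5 D21364) (iv6 D10185) (iv1 F15994)
def n21365 : Q := act 7 n10185
theorem D21365 : act 7 n10185 = n21365 := rfl
def n21366 : Q := act 6 n10186
theorem D21366 : act 6 n10186 = n21366 := rfl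
theorem F33561 : act 2 n21366 = n10190 := d3_1 D21366 (iv6 D10190) (iv2 F16015)
def n21367 : Q := act 0 n10187
theorem D21367 : act 0 n10187 = n21367 := rfl
theorem F33562 : act 4 n21367 = n20884 := d20_0 (iv1 F33030) (iv4 D20858) F15538 (iv1 F15556) D20878 (iv4 F33540) (iv1 F33552) (iv4 D10188) D10187 D21367
theorem F33564 : act 3 n21367 = n21346 := d20_3 D9904 D20884 (iv4 F33562) (iv1 D21346) (iv3 D10182) D10183 D21351 F33540 (iv3 D20878) (iv1 D9902)
def n21368 : Q := act 1 n10187
theorem D21368 : act 1 n10187 = n21368 := rfl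
def n21369 : Q := act 2 n10187
theorem D21369 : act 2 n10187 = n21369 := rfl
def n21370 : Q := act 4 n10187
theorem D21370 : act 4 n10187 = n21370 := rfl
theorem F33565 : act 0 n20850 = n21370 := d20_1 D20850 (iv4 D21370) (iv3 D10187) (iv1 D4625) F3217 (iv4 F1877) D1948 (iv4 F14794) D4494 D9893
def n21371 : Q := act 5 n10187
theorem D21371 : act 5 n10187 = n21371 := rfl
theorem F33566 : act 3 n21371 = n10189 := d6_1 D21371 (iv5 D10189) D10187
def n21372 : Q := act 6 n10187
theorem D21372 : act 6 n10187 = n21372 := rfl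
theorem F33567 : act 3 n21372 = n10190 := d7_1 D21372 (iv6 D10190) D10187
def n21373 : Q := act 3 n10188
theorem D21373 : act 3 n10188 = n21373 := rfl
def n21374 : Q := act 5 n10188
theorem D21374 : act 5 n10188 = n21374 := rfl
def n21375 : Q := act 6 n10188
theorem D21375 : act 6 n10188 = n21375 := rfl
theorem F33568 : act 4 n21375 = n10190 := d10_1 D21375 (iv6 D10190) D10188
def n21376 : Q := act 4 n10189
theorem D21376 : act 4 n10189 = n21376 := rfl
def n21377 : Q := act 0 n10190
theorem D21377 : act 0 n10190 = n21377 := rfl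
def n21378 : Q := act 1 n10190
theorem D21378 : act 1 n10190 = n21378 := rfl
def n21379 : Q := act 5 n10190
theorem D21379 : act 5 n10190 = n21379 := rfl
theorem F33569 : act 0 n21186 = n21379 := d21_1 D21186 (iv5 D21379) (iv6 D10190) (iv1 D4625) (iv6 D1921) (iv5 D988) D985 D1910 D4592 D10094
def n21380 : Q := act 7 n10190
theorem D21380 : act 7 n10190 = n21380 := rfl
def n21382 : Q := act 3 n10191
theorem D21382 : act 3 n10191 = n21382 := rfl
theorem F33571 : act 4 n21382 = n20885 := d20_6 (iv4 F1849) D1899 F14803 D4628 D10191 D21382 (iv1 D20885) (iv4 D9904) (iv3 D4499) (iv1 D1878)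
theorem F33572 : act 5 n21382 = n21382 := d18_4 (iv1 F15552) D20858 (iv1 F33031) (iv4 F33571) F33571 F33031 (iv4 D20858) F15552 F33546
theorem F33573 : act 5 n10191 = n10191 := d6_2 F33572 (iv3 D21382) D21382
def n21383 : Q := act 4 n10191
theorem D21383 : act 4 n10191 = n21383 := rfl
theorem F33576 : act 0 n21383 = n20837 := d20_1 D21383 (iv4 D20837) (iv3 D9889) (iv1 D4491) F3162 (iv4 F1849) D1899 F14803 D4628 D10191
def n21389 : Q := act 4 n10193
theorem D21389 : act 4 n10193 = n21389 := rfl
theorem F33580 : act 2 n21389 = n10194 := d1_1 D21389 (iv4 D10194) D10193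
def n21390 : Q := act 5 n10193
theorem D21390 : act 5 n10193 = n21390 := rfl
theorem F33581 : act 2 n21390 = n10195 := d2_1 D21390 (iv5 D10195) D10193
def n21391 : Q := act 6 n10193
theorem D21391 : act 6 n10193 = n21391 := rfl
theorem F33583 : act 2 n21391 = n10196 := d3_1 D21391 (iv6 D10196) D10193
def n21392 : Q := act 0 n10194
theorem D21392 : act 0 n10194 = n21392 := rfl
def n21393 : Q := act 1 n10194
theorem D21393 : act 1 n10194 = n21393 := rfl
theorem F33585 : act 4 n20873 = n21393 := d20_6 (iv4 F3258) (iv1 F3261) (iv4 F14791) D4499 D9901 D20873 (iv1 D21393) (iv4 D10194) (iv3 D4628) (iv1 F3221)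
def n21394 : Q := act 5 n10194
theorem D21394 : act 5 n10194 = n21394 := rfl
theorem F33586 : act 3 n21394 = n21049 := d6_1 D21394 (iv5 D21049) (iv3 F16017)
def n21395 : Q := act 6 n10194
theorem D21395 : act 6 n10194 = n21395 := rfl
theorem F33587 : act 3 n21395 = n21050 := d7_1 D21395 (iv6 D21050) (iv3 F16017)
theorem F33588 : act 4 n21395 = n10196 := d10_1 D21395 (iv6 D10196) D10194
def n21396 : Q := act 0 n10195
theorem D21396 : act 0 n10195 = n21396 := rfl
def n21397 : Q := act 1 n10195
theorem D21397 : act 1 n10195 = n21397 := rfl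
def n21398 : Q := act 4 n10195
theorem D21398 : act 4 n10195 = n21398 := rfl
def n21399 : Q := act 6 n10195
theorem D21399 : act 6 n10195 = n21399 := rfl
theorem F33589 : act 3 n21399 = n10197 := d7_1 D21399 (iv6 D10197) (iv3 F16018)
theorem F33590 : act 7 n21399 = n10890 := d14_2 F16040 D21399 (iv6 D10890) (iv7 F15370) F16041
def n21400 : Q := act 0 n10196
theorem D21400 : act 0 n10196 = n21400 := rfl
def n21401 : Q := act 1 n10196
theorem D21401 : act 1 n10196 = n21401 := rfl
def n21402 : Q := act 7 n10196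
theorem D21402 : act 7 n10196 = n21402 := rfl
theorem F33591 : act 3 n21402 = n10198 := d8_1 D21402 (iv7 D10198) (iv3 F16019)
theorem F33592 : act 5 n21402 = n10950 := d13_1 D21402 (iv7 F17785) F17784
theorem F33593 : act 6 n21402 = n19789 := d14_1 D21402 F31559 (iv6 D10204) (iv7 F15347) D10196
def n21403 : Q := act 2 n10199
theorem D21403 : act 2 n10199 = n21403 := rfl
theorem F33594 : act 7 n10200 = n21403 := d15_2 (iv0 D10199) D10200 (iv2 D21403)
def n21404 : Q := act 3 n10199
theorem D21404 : act 3 n10199 = n21404 := rfl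
theorem F33595 : act 4 n21404 = n20862 := d20_6 (iv4 F3193) (iv1 F3196) F14812 D4633 D10199 D21404 (iv1 D20862) (iv4 D9896) (iv3 D4494) (iv1 F3166)
def n21406 : Q := act 5 n10199
theorem D21406 : act 5 n10199 = n21406 := rfl
def n21409 : Q := act 3 n10200
theorem D21409 : act 3 n10200 = n21409 := rfl
theorem F33597 : act 4 n20819 = n21409 := d20_2 D9885 D20819 (iv3 D21409) (iv1 D10200) (iv3 D4633) (iv4 F14812) (iv1 D1900) F1849 (iv3 F3162) D4490
theorem F33598 : act 5 n21409 = n21409 := d18_4 D4490 D9885 D20819 F33597 (iv4 F33597) (iv0 D20819) (iv4 D9885) (iv0 D4490) F3163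
theorem F33599 : act 5 n10200 = n10200 := d6_2 F33598 (iv3 D21409) D21409
theorem F33601 : act 5 n21403 = n21403 := d13_3 (iv7 F33594) F33599 F33594
theorem E4357 : n21406 = n10199 := (c2_3 F33601 (iv2 D21403) D21406 D21403)
theorem F33602 : act 5 n10199 = n10199 := (sb E4357 (iv5 D21406))
theorem F33603 : act 5 n21404 = n21404 := d6_2 F33602 D21404 (iv3 D21404)
theorem E4358 : n20851 = n9893 := (c18_10 (iv1 F15555) D20882 (iv1 F33026) (iv4 F33595) F33603 F33595 F33026 (iv4 D20882) F15555 D20851)
theorem F33604 : act 5 n9893 = n9893 := (sb E4358 (iv5 D20851))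
theorem F33606 : act 5 n20849 = n20849 := d6_2 F33604 D20849 (iv3 D20849)
theorem F33608 : act 5 n20195 = n20714 := d21_6 F33604 (iv1 F15555) F31998 (iv6 D20167) (iv1 F14899) D20195 (iv1 D20714) F15542 (iv6 D9898) D9893
def n21412 : Q := act 4 n10201
theorem D21412 : act 4 n10201 = n21412 := rfl
theorem F33611 : act 2 n21412 = n10202 := d1_1 D21412 (iv4 D10202) D10201
theorem F33612 : act 7 n21412 = n21389 := d11_2 (iv7 F16033) D21412 (iv4 D21389)
theorem F33613 : act 0 n21412 = n21393 := d20_1 D21412 (iv4 F33585) (iv3 D20873) (iv1 F15552) F15538 D20858 (iv1 F33031) (iv4 F33571) (iv3 D21382) (iv1 F16034)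
theorem F33614 : act 1 n21412 = n21392 := d15_0 (iv0 D21392) (iv7 F16038) (iv2 F33611)
def n21413 : Q := act 5 n10201
theorem D21413 : act 5 n10201 = n21413 := rfl
theorem F33615 : act 2 n21413 = n10203 := d2_1 D21413 (iv5 D10203) D10201
theorem F33617 : act 7 n21413 = n21390 := d13_2 (iv7 F16033) D21413 (iv5 D21390)
theorem F33618 : act 1 n21397 = n21413 := d15_1 D21397 F33617 F33581
theorem F33619 : act 6 n10880 = n21413 := d3_0 F33615 (iv6 F16041) D10880
theorem F33620 : act 1 n21413 = n21396 := d15_0 (iv0 D21396) (iv7 F16040) (iv2 F33615)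
def n21414 : Q := act 6 n10201
theorem D21414 : act 6 n10201 = n21414 := rfl
theorem F33621 : act 2 n21414 = n10204 := d3_1 D21414 (iv6 D10204) D10201
def n21415 : Q := act 0 n10202
theorem D21415 : act 0 n10202 = n21415 := rfl
theorem F33623 : act 1 n21389 = n21415 := d15_0 (iv0 D21415) F16038 (iv2 F33580)
theorem F33624 : act 4 n20834 = n21415 := d20_0 (iv1 F33623) (iv4 D21389) F16016 (iv1 F16035) D21409 (iv4 F33597) (iv1 F32980) (iv4 D9890) D9889 D20834
theorem F33626 : act 3 n20834 = n20813 := d20_3 D10202 D21415 (iv4 F33624) (iv1 D20813) (iv3 D9884) D9885 D20819 F33597 (iv3 D21409) (iv1 D10200)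
def n21417 : Q := act 5 n10202
theorem D21417 : act 5 n10202 = n21417 := rfl
theorem F33629 : act 3 n21417 = n21081 := d6_1 D21417 (iv5 D21081) (iv3 F16037)
theorem F33630 : act 7 n21417 = n21394 := d13_2 (iv7 F16038) D21417 (iv5 D21394)
def n21418 : Q := act 6 n10202
theorem D21418 : act 6 n10202 = n21418 := rfl
theorem F33631 : act 3 n21418 = n21082 := d7_1 D21418 (iv6 D21082) (iv3 F16037)
theorem F33632 : act 4 n21418 = n10204 := d10_1 D21418 (iv6 D10204) D10202
def n21419 : Q := act 0 n10203
theorem D21419 : act 0 n10203 = n21419 := rfl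
def n21420 : Q := act 1 n10203
theorem D21420 : act 1 n10203 = n21420 := rfl
def n21421 : Q := act 4 n10203
theorem D21421 : act 4 n10203 = n21421 := rfl
theorem F33635 : act 3 n21421 = n20661 := d5_1 D21421 F32770 F15262 (iv4 F14806) (iv3 F16039)
theorem F33636 : act 6 n21421 = n10881 := d10_2 F16041 D21421 (iv4 D10881)
theorem F33637 : act 7 n21421 = n21398 := d11_2 (iv7 F16040) D21421 (iv4 D21398)
def n21422 : Q := act 0 n10204
theorem D21422 : act 0 n10204 = n21422 := rfl
def n21423 : Q := act 1 n10204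
theorem D21423 : act 1 n10204 = n21423 := rfl
def n21424 : Q := act 5 n10204
theorem D21424 : act 5 n10204 = n21424 := rfl
theorem F33638 : act 3 n21424 = n10206 := d6_1 D21424 (iv5 D10206) (iv3 F16042)
theorem F33639 : act 6 n21424 = n10882 := d12_2 D10204 D21424 (iv5 D10882) F16041 (iv5 D10203)
def n21425 : Q := act 4 n10206
theorem D21425 : act 4 n10206 = n21425 := rfl
theorem F33641 : act 6 n21425 = n10884 := d10_2 (iv6 F16120) D21425 (iv4 D10884)
theorem F33642 : act 0 n21425 = n11006 := d17_0 (iv5 F31515) F31516 (iv5 D11083) (iv4 D5063) (iv5 D2073) F16088 D5048 (iv0 F16121) D21425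
def n21426 : Q := act 6 n10207
theorem D21426 : act 6 n10207 = n21426 := rfl
theorem F33644 : act 2 n21426 = n21155 := d3_1 D21426 (iv6 D21155) (iv2 F16123)
theorem F33645 : act 3 n21426 = n13097 := d7_1 D21426 (iv6 D13097) (iv3 F16124)
theorem F33646 : act 5 n21426 = n21426 := d12_1 D21426 (iv6 D21426) (iv5 D10207) F7204 D10207
def n21427 : Q := act 6 n10208
theorem D21427 : act 6 n10208 = n21427 := rfl
theorem F33647 : act 2 n21427 = n19202 := d3_1 D21427 (iv6 D19202) (iv2 F16128)
theorem F33648 : act 3 n21427 = n17090 := d7_1 D21427 (iv6 D17090) (iv3 F16129)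
def n21428 : Q := act 5 n10209
theorem D21428 : act 5 n10209 = n21428 := rfl
theorem F33649 : act 2 n21428 = n19203 := d2_1 D21428 (iv5 D19203) (iv2 F16133)
theorem F33651 : act 7 n21428 = n21428 := d13_2 F16136 D21428 (iv5 D21428)
theorem F33652 : act 0 n21428 = n10370 := d17_2 (iv1 F17429) D21428 (iv5 D10370) (iv4 D4697) D4698 (iv0 F16886) (iv5 D1947) D1946 D4702
theorem F33653 : act 1 n21428 = n10384 := d17_6 D9029 D19212 F30863 (iv5 D19200) (iv4 F16135) D21428 (iv5 D10384) (iv0 F17426) F14099
def n21429 : Q := act 6 n10210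
theorem D21429 : act 6 n10210 = n21429 := rfl
theorem F33654 : act 2 n21429 = n21159 := d3_1 D21429 (iv6 D21159) F16139
def n21430 : Q := act 6 n10211
theorem D21430 : act 6 n10211 = n21430 := rfl
theorem F33655 : act 2 n21430 = n21157 := d3_1 D21430 (iv6 D21157) F16144
theorem F33656 : act 3 n21430 = n18889 := d7_1 D21430 (iv6 D18889) F16145
def n21431 : Q := act 3 n10212
theorem D21431 : act 3 n10212 = n21431 := rfl
theorem F33657 : act 4 n21431 = n18282 := d5_2 D10212 D21431 (iv3 D18282) (iv4 F15484) F15480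
theorem F33658 : act 7 n21431 = n18482 := d8_2 (iv7 F16147) D21431 (iv3 D18482)
def n21432 : Q := act 5 n10212
theorem D21432 : act 5 n10212 = n21432 := rfl
theorem F33659 : act 2 n21432 = n17933 := d2_1 D21432 F29106 (iv2 F16146)
theorem F33660 : act 7 n21432 = n17932 := d13_2 (iv7 F16147) D21432 F29102
theorem F33661 : act 4 n21432 = n10255 := d16_2 D10212 D21432 (iv5 D10255) (iv4 D4654) (iv5 D1932) D1931 D4652 F6723 (iv2 F6698)
theorem F33662 : act 0 n21432 = n10348 := d17_2 (iv1 F16149) D21432 F16474 (iv4 D8451) (iv5 D3784) F3238 D4666 F7270 D6286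
theorem F33663 : act 1 n21432 = n10309 := d17_6 (iv1 F16132) (iv5 D10208) (iv1 D4638) D4639 D10212 D21432 (iv5 D10309) D10307 F16394
def n21433 : Q := act 6 n10212
theorem D21433 : act 6 n10212 = n21433 := rfl
theorem F33664 : act 2 n21433 = n18485 := d3_1 D21433 (iv6 D18485) (iv2 F16146)
theorem F33665 : act 4 n21433 = n10213 := d10_1 D21433 (iv6 D10213) D10212
def n21434 : Q := act 0 n10213
theorem D21434 : act 0 n10213 = n21434 := rfl
def n21435 : Q := act 1 n10213
theorem D21435 : act 1 n10213 = n21435 := rfl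
theorem F33666 : act 1 n21435 = n21210 := d15_1 D21435 (iv7 D21210) (iv2 F16150)
def n21436 : Q := act 7 n10213
theorem D21436 : act 7 n10213 = n21436 := rfl
theorem F33667 : act 2 n21436 = n21210 := d4_1 D21436 (iv7 D21210) (iv2 F16150)
theorem F33668 : act 6 n21436 = n21163 := d14_1 D21436 (iv7 D21163) (iv6 D10085) (iv7 F6699) D10213
theorem F33669 : act 1 n21210 = n21434 := d15_0 (iv0 D21434) D21436 F33667
theorem F33670 : act 1 n21209 = n21436 := d15_1 D21209 (iv7 D21436) F16150
theorem F33671 : act 1 n21436 = n21208 := d15_0 (iv0 D21208) D21210 (iv2 F33667)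
def n21437 : Q := act 3 n10218
theorem D21437 : act 3 n10218 = n21437 := rfl
theorem F33672 : act 4 n21437 = n10966 := d5_2 (iv4 F16159) D21437 (iv3 D10966) (iv4 D4998) D4997
theorem F33673 : act 7 n21437 = n19299 := d8_2 F16162 D21437 (iv3 D19299)
def n21438 : Q := act 6 n10218
theorem D21438 : act 6 n10218 = n21438 := rfl
theorem F33674 : act 2 n21438 = n21171 := d3_1 D21438 (iv6 D21171) F16161
theorem F33675 : act 4 n21438 = n10965 := d10_1 D21438 (iv6 D10965) (iv4 F16159)
def n21439 : Q := act 3 n10219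
theorem D21439 : act 3 n10219 = n21439 := rfl
theorem F33676 : act 4 n21439 = n10620 := d5_2 (iv4 F16165) D21439 (iv3 D10620) (iv4 F15123) F15119
theorem F33677 : act 7 n21439 = n10713 := d8_2 (iv7 F16164) D21439 F17240
theorem F33678 : act 0 n21439 = n10254 := d20_4 (iv4 F13246) (iv1 F14149) (iv4 F16165) D21439 (iv3 D10254) (iv4 D4654) F7266 D2047 F3339 D4948
theorem F33679 : act 2 n21439 = n21211 := d15_3 (iv0 D21211) (iv0 F17241) (iv7 F33677)
def n21440 : Q := act 6 n10219
theorem D21440 : act 6 n10219 = n21440 := rfl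
theorem F33680 : act 2 n21440 = n19301 := d3_1 D21440 (iv6 D19301) F16166
theorem F33681 : act 4 n21440 = n19298 := d10_1 D21440 (iv6 D19298) (iv4 F16165)
def n21441 : Q := act 0 n10220
theorem D21441 : act 0 n10220 = n21441 := rfl
theorem F33682 : act 4 n21441 = n20479 := d18_3 (iv1 D20012) (iv4 F16167) D21441 F32550 F20150 (iv0 D7883) (iv4 F12480) (iv0 F21325) F31838
theorem F33683 : act 3 n21441 = n21172 := d20_5 (iv4 D2047) F7265 D4643 D10220 D21441 F33418 F31792 (iv4 F17724) (iv3 D10910) (iv1 D4972)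
theorem F33684 : act 1 n21174 = n21441 := d15_0 (iv0 D21441) F16168 D21174
theorem F33685 : act 2 n21173 = n21441 := d1_3 F33682 (iv2 F32551) F33419
theorem F33686 : act 7 n21172 = n21441 := d11_0 F33682 F32549 (iv4 F33418)
def n21442 : Q := act 1 n10220
theorem D21442 : act 1 n10220 = n21442 := rfl
theorem F33687 : act 7 n21442 = n21173 := d15_2 (iv0 D21441) D21442 F33685
theorem F33688 : act 4 n20478 = n21442 := d20_0 (iv1 D21442) F16167 (iv3 D9437) (iv1 D4280) (iv3 F3138) (iv4 D1850) D1848 D4393 D9723 D20478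
theorem F33689 : act 2 n21442 = n21172 := d1_1 F33688 F33418 F32546
theorem F33690 : act 1 n21442 = n21174 := d18_6 F12516 F12515 (iv1 F12482) (iv4 F20094) (iv5 F32544) F33688 F33420 F32624 (iv5 D15442)
def n21443 : Q := act 2 n10220
theorem D21443 : act 2 n10220 = n21443 := rfl
theorem F33691 : act 3 n21443 = n21212 := d0_2 D10220 D21443 (iv2 D21212) (iv3 D10123) (iv2 F6704)
theorem F33692 : act 4 n21443 = n20013 := d1_2 (iv4 F16167) D21443 (iv2 D20013)
theorem F33693 : act 7 n21443 = n21174 := d4_2 (iv7 F16168) D21443 (iv2 D21174)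
theorem F33694 : act 1 n21443 = n21172 := d15_0 (iv0 D21172) (iv7 F16168) D21443
theorem F33695 : act 1 n21173 = n21443 := d15_0 F33694 F33686 (iv2 F33685)
def n21444 : Q := act 5 n10220
theorem D21444 : act 5 n10220 = n21444 := rfl
theorem F33696 : act 3 n21444 = n10221 := d6_1 D21444 (iv5 D10221) D10220
theorem F33697 : act 7 n21444 = n21175 := d13_2 (iv7 F16168) D21444 (iv5 D21175)
def n21445 : Q := act 6 n10220
theorem D21445 : act 6 n10220 = n21445 := rfl
theorem F33698 : act 3 n21445 = n10222 := d7_1 D21445 (iv6 D10222) D10220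
theorem F33699 : act 4 n21445 = n20015 := d10_1 D21445 (iv6 D20015) (iv4 F16167)
def n21446 : Q := act 0 n10221
theorem D21446 : act 0 n10221 = n21446 := rfl
theorem F33700 : act 5 n21446 = n10323 := d17_3 (iv1 D10219) D10221 D21446 F16417 F13917 F6456 (iv5 F7052) F14150 (iv4 F16165)
theorem F33701 : act 1 n10255 = n21446 := d15_0 (iv0 D21446) F16170 (iv2 F16220)
theorem F33702 : act 2 n21177 = n21446 := d2_3 F33700 (iv2 F16419) (iv5 F33425)
theorem F33703 : act 7 n19206 = n21446 := d13_0 F33700 (iv7 F16420) D19206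
def n21447 : Q := act 1 n10221
theorem D21447 : act 1 n10221 = n21447 := rfl
theorem F33704 : act 1 n21447 = n10255 := d15_1 D21447 F16221 (iv2 F16169)
theorem F33705 : act 7 n21447 = n21177 := d15_2 (iv0 D21446) D21447 F33702
theorem F33706 : act 5 n21447 = n10324 := d17_7 (iv1 D1942) (iv5 D994) D990 D1927 D4643 D10221 D21447 F16421 (iv4 D4685)
theorem F33707 : act 2 n19206 = n21447 := d2_3 F33706 (iv2 F16424) D19206
def n21448 : Q := act 4 n10221
theorem D21448 : act 4 n10221 = n21448 := rfl
theorem F33708 : act 2 n21448 = n17932 := d1_1 D21448 F29103 (iv2 F16169)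
theorem F33709 : act 5 n21448 = n10248 := d9_2 D10221 D21448 (iv4 D10248) (iv5 D4652) (iv4 D1931) D1932 D4654 D10255 (iv4 F33661) (iv5 D21432) (iv4 D10212) (iv5 D4639) (iv4 D1926) D1927 D4643
theorem F33710 : act 7 n21448 = n17933 := d11_2 (iv7 F16170) D21448 (iv4 F29107)
theorem F33711 : act 0 n21448 = n10309 := d17_0 (iv5 D10309) D10306 (iv5 F29670) F29671 (iv5 D10334) F16418 (iv5 F33700) (iv0 D21446) D21448
theorem F33712 : act 1 n21448 = n10348 := d18_6 (iv1 D4972) (iv4 D2047) F7265 D4643 D10221 D21448 (iv4 D10348) D10347 F16471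
def n21449 : Q := act 6 n10221
theorem D21449 : act 6 n10221 = n21449 := rfl
theorem F33713 : act 2 n21449 = n21215 := d3_1 D21449 (iv6 D21215) (iv2 F16169)
def n21450 : Q := act 0 n10222
theorem D21450 : act 0 n10222 = n21450 := rfl
def n21451 : Q := act 1 n10222
theorem D21451 : act 1 n10222 = n21451 := rfl
def n21452 : Q := act 5 n10222
theorem D21452 : act 5 n10222 = n21452 := rfl
theorem F33715 : act 2 n21452 = n21218 := d2_1 D21452 (iv5 D21218) (iv2 F16171)
def n21453 : Q := act 7 n10222
theorem D21453 : act 7 n10222 = n21453 := rfl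
theorem F33716 : act 2 n21453 = n21219 := d4_1 D21453 (iv7 D21219) (iv2 F16171)
theorem F33721 : act 1 n21453 = n21216 := d15_0 (iv0 D21216) D21219 (iv2 F33716)
def n21457 : Q := act 5 n10223
theorem D21457 : act 5 n10223 = n21457 := rfl
theorem F33723 : act 6 n21457 = n21357 := d12_2 (iv6 F33455) D21457 F33553 (iv6 D21229) D21228
def n21462 : Q := act 5 n10241
theorem D21462 : act 5 n10241 = n21462 := rfl
theorem F33728 : act 0 n21462 = n21006 := d17_2 F17395 D21462 (iv5 D21006) (iv4 F17398) D19220 F30873 (iv5 D9036) D9035 F17419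
theorem F33730 : act 4 n21462 = n21108 := d18_5 (iv1 F17465) (iv4 F5758) F17405 (iv4 F16194) D21462 (iv0 D21108) (iv4 D10052) (iv0 F17511) (iv5 D4061)
def n21463 : Q := act 6 n10242
theorem D21463 : act 6 n10242 = n21463 := rfl
theorem F33731 : act 2 n21463 = n10609 := d3_1 D21463 (iv6 D10609) F16199
theorem F33732 : act 3 n21463 = n10678 := d7_1 D21463 (iv6 D10678) (iv3 F16198)
theorem F33733 : act 4 n21463 = n10737 := d10_1 D21463 (iv6 D10737) (iv4 F16197)
def n21464 : Q := act 0 n10243
theorem D21464 : act 0 n10243 = n21464 := rfl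
def n21465 : Q := act 1 n10243
theorem D21465 : act 1 n10243 = n21465 := rfl
def n21466 : Q := act 5 n10243
theorem D21466 : act 5 n10243 = n21466 := rfl
theorem F33734 : act 3 n21466 = n10259 := d6_1 D21466 (iv5 D10259) (iv3 F16202)
theorem F33735 : act 6 n21466 = n10246 := d12_2 D10243 D21466 (iv5 D10246) (iv6 D4651) D4650
def n21467 : Q := act 7 n10243
theorem D21467 : act 7 n10243 = n21467 := rfl
theorem F33736 : act 3 n21467 = n10260 := d8_1 D21467 (iv7 D10260) (iv3 F16202)
theorem F33737 : act 6 n21467 = n21207 := d14_1 D21467 (iv7 D21207) (iv6 D10113) (iv7 F6720) D10243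
def n21468 : Q := act 5 n10244
theorem D21468 : act 5 n10244 = n21468 := rfl
theorem F33738 : act 2 n21468 = n10831 := d2_1 D21468 (iv5 D10831) F16931
theorem F33739 : act 3 n21468 = n19509 := d6_1 D21468 (iv5 D19509) (iv3 F16929)
theorem F33741 : act 4 n21468 = n20254 := d18_5 (iv1 D4091) (iv4 F5920) D8895 (iv4 F16930) D21468 (iv0 D20254) (iv4 D9577) (iv0 F17550) (iv5 D9108)
theorem F33742 : act 0 n21468 = n19482 := d21_1 D21468 (iv5 D19482) F17580 (iv1 D9157) (iv6 D4116) F7102 (iv1 F14142) (iv5 D4650) D4651 D10244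
def n21469 : Q := act 4 n10246
theorem D21469 : act 4 n10246 = n21469 := rfl
theorem F33743 : act 0 n21469 = n19834 := d18_2 (iv1 F31182) D21469 (iv4 D19834) (iv5 D9332) (iv4 F14520) F30730 (iv4 D19123) F17586 (iv5 F31181)
theorem F33744 : act 1 n21469 = n19840 := d18_6 D4219 D9334 (iv1 F16939) F14040 D10246 D21469 (iv4 D19840) (iv0 D9336) (iv5 D4221)
def n21470 : Q := act 3 n10248
theorem D21470 : act 3 n10248 = n21470 := rfl
theorem F33745 : act 7 n21470 = n18484 := d8_2 (iv7 F16207) D21470 (iv3 D18484)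
def n21471 : Q := act 6 n10248
theorem D21471 : act 6 n10248 = n21471 := rfl
theorem F33746 : act 2 n21471 = n18483 := d3_1 D21471 (iv6 D18483) (iv2 F16206)
theorem F33747 : act 4 n21471 = n10249 := d10_1 D21471 (iv6 D10249) D10248
def n21472 : Q := act 0 n10249
theorem D21472 : act 0 n10249 = n21472 := rfl
def n21473 : Q := act 1 n10249
theorem D21473 : act 1 n10249 = n21473 := rfl
theorem F33748 : act 1 n21473 = n21163 := d15_1 D21473 (iv7 D21163) (iv2 F16210)
def n21474 : Q := act 5 n10249
theorem D21474 : act 5 n10249 = n21474 := rfl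
theorem F33749 : act 2 n21474 = n21162 := d2_1 D21474 (iv5 D21162) (iv2 F16210)
theorem F33750 : act 6 n21474 = n10252 := d12_2 D10249 D21474 (iv5 D10252) (iv6 D4653) D4652
def n21475 : Q := act 7 n10249
theorem D21475 : act 7 n10249 = n21475 := rfl
theorem F33751 : act 2 n21475 = n21163 := d4_1 D21475 (iv7 D21163) (iv2 F16210)
theorem F33752 : act 6 n21475 = n21210 := d14_1 D21475 (iv7 D21210) (iv6 D10118) (iv7 F6723) D10249
theorem F33753 : act 1 n21163 = n21472 := d15_0 (iv0 D21472) D21475 F33751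
theorem F33754 : act 1 n21161 = n21475 := d15_1 D21161 (iv7 D21475) F16210
theorem F33755 : act 1 n21475 = n21160 := d15_0 (iv0 D21160) D21163 (iv2 F33751)
def n21476 : Q := act 5 n10250
theorem D21476 : act 5 n10250 = n21476 := rfl
theorem F33756 : act 2 n21476 = n21164 := d2_1 D21476 (iv5 D21164) (iv2 F16948)
theorem F33757 : act 3 n21476 = n17100 := d6_1 D21476 (iv5 D17100) F16940
theorem F33758 : act 7 n21476 = n21165 := d13_2 F16946 D21476 (iv5 D21165)
def n21477 : Q := act 5 n10251
theorem D21477 : act 5 n10251 = n21477 := rfl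
theorem F33759 : act 2 n21477 = n21165 := d2_1 D21477 (iv5 D21165) F16945
theorem F33760 : act 7 n21477 = n21164 := d13_2 (iv7 F16949) D21477 (iv5 D21164)
def n21478 : Q := act 0 n10252
theorem D21478 : act 0 n10252 = n21478 := rfl
theorem F33761 : act 5 n21478 = n17080 := d17_3 (iv1 D10251) D10252 D21478 F28029 D19850 (iv0 F31676) (iv5 D17883) F16924 (iv4 F16928)
theorem F33762 : act 1 n19114 = n21478 := d15_0 (iv0 D21478) (iv7 F28485) (iv2 F30706)
theorem F33763 : act 2 n21167 = n21478 := d2_3 F33761 (iv2 F30739) (iv5 F33410)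
theorem F33764 : act 3 n17083 = n21478 := d6_3 F33761 F28028 D17083
theorem F33765 : act 7 n21168 = n21478 := d13_0 F33761 (iv7 F33407) (iv5 F33413)
def n21479 : Q := act 1 n10252
theorem D21479 : act 1 n10252 = n21479 := rfl
theorem F33766 : act 1 n21479 = n19114 := d15_1 D21479 F30707 (iv2 F16212)
theorem F33767 : act 7 n21479 = n21167 := d15_2 (iv0 D21478) D21479 F33763
theorem F33768 : act 5 n21479 = n19119 := d17_7 (iv1 F13945) F16236 (iv1 D10271) (iv5 D4658) (iv4 F6725) D10252 D21479 (iv0 D19119) (iv4 D8968)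
theorem F33769 : act 2 n21168 = n21479 := d2_3 F33768 (iv2 F33404) (iv5 F33413)
def n21480 : Q := act 4 n10252
theorem D21480 : act 4 n10252 = n21480 := rfl
theorem F33770 : act 2 n21480 = n21169 := d1_1 D21480 (iv4 D21169) (iv2 F16212)
theorem F33771 : act 0 n21480 = n16697 := d18_2 (iv1 D21479) D21480 (iv4 D16697) (iv5 D7780) F5555 D4002 D8973 F30722 (iv5 F33768)
def n21481 : Q := act 0 n10254
theorem D21481 : act 0 n10254 = n21481 := rfl
theorem F33772 : act 2 n10713 = n21481 := d15_3 (iv0 D21481) (iv0 F33678) F33677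
theorem F33773 : act 1 n21212 = n21481 := d15_0 (iv0 D21481) F16219 D21212
theorem F33774 : act 4 n21481 = n10712 := d1_2 D10713 F33772 (iv2 D10712)
theorem F33775 : act 7 n21481 = n21211 := d4_2 F33677 F33772 (iv2 F33679)
theorem F33776 : act 1 n21439 = n21212 := d15_0 F33773 F33775 (iv2 F33679)
def n21482 : Q := act 2 n10254
theorem D21482 : act 2 n10254 = n21482 := rfl
theorem F33777 : act 3 n21482 = n21174 := d0_2 D10254 D21482 (iv2 D21174) (iv3 D10091) (iv2 F6726)
theorem F33778 : act 7 n21482 = n21212 := d4_2 (iv7 F16219) D21482 (iv2 D21212)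
theorem F33779 : act 1 n21482 = n21211 := d15_0 (iv0 D21211) (iv7 F16219) D21482
theorem F33780 : act 1 n10713 = n21482 := d15_0 F33779 (iv7 F33775) (iv2 F33772)
def n21483 : Q := act 5 n10254
theorem D21483 : act 5 n10254 = n21483 := rfl
theorem F33781 : act 3 n21483 = n10255 := d6_1 D21483 (iv5 D10255) D10254
theorem F33782 : act 7 n21483 = n21213 := d13_2 (iv7 F16219) D21483 (iv5 D21213)
def n21484 : Q := act 6 n10254
theorem D21484 : act 6 n10254 = n21484 := rfl
theorem F33783 : act 3 n21484 = n10256 := d7_1 D21484 (iv6 D10256) D10254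
def n21485 : Q := act 6 n10255
theorem D21485 : act 6 n10255 = n21485 := rfl
theorem F33784 : act 2 n21485 = n21178 := d3_1 D21485 (iv6 D21178) (iv2 F16220)
def n21486 : Q := act 0 n10256
theorem D21486 : act 0 n10256 = n21486 := rfl
def n21487 : Q := act 1 n10256
theorem D21487 : act 1 n10256 = n21487 := rfl
theorem F33785 : act 1 n21487 = n21182 := d15_1 D21487 (iv7 D21182) (iv2 F16222)
def n21488 : Q := act 5 n10256
theorem D21488 : act 5 n10256 = n21488 := rfl
theorem F33786 : act 2 n21488 = n21181 := d2_1 D21488 (iv5 D21181) (iv2 F16222)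
def n21489 : Q := act 7 n10256
theorem D21489 : act 7 n10256 = n21489 := rfl
theorem F33787 : act 2 n21489 = n21182 := d4_1 D21489 (iv7 D21182) (iv2 F16222)
theorem F33788 : act 4 n21489 = n10260 := d11_1 D21489 (iv7 D10260) (iv4 F16223)
theorem F33789 : act 6 n21489 = n21219 := d14_1 D21489 (iv7 D21219) (iv6 D10125) (iv7 F6727) D10256
theorem F33790 : act 1 n21182 = n21486 := d15_0 (iv0 D21486) D21489 F33787
theorem F33791 : act 1 n21180 = n21489 := d15_1 D21180 (iv7 D21489) F16222
theorem F33792 : act 1 n21489 = n21179 := d15_0 (iv0 D21179) D21182 (iv2 F33787)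
def n21490 : Q := act 2 n10257
theorem D21490 : act 2 n10257 = n21490 := rfl
theorem F33793 : act 7 n10258 = n21490 := d15_2 (iv0 D10257) D10258 (iv2 D21490)
def n21493 : Q := act 5 n10257
theorem D21493 : act 5 n10257 = n21493 := rfl
def n21494 : Q := act 6 n10257
theorem D21494 : act 6 n10257 = n21494 := rfl
def n21495 : Q := act 7 n10257
theorem D21495 : act 7 n10257 = n21495 := rfl
theorem F33794 : act 2 n21495 = n10258 := d4_1 D21495 F33793 (iv2 D21490)
def n21496 : Q := act 3 n10258
theorem D21496 : act 3 n10258 = n21496 := rfl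
def n21497 : Q := act 4 n10258
theorem D21497 : act 4 n10258 = n21497 := rfl
def n21498 : Q := act 5 n10258
theorem D21498 : act 5 n10258 = n21498 := rfl
def n21499 : Q := act 6 n10258
theorem D21499 : act 6 n10258 = n21499 := rfl
def n21500 : Q := act 0 n10259
theorem D21500 : act 0 n10259 = n21500 := rfl
def n21501 : Q := act 1 n10259
theorem D21501 : act 1 n10259 = n21501 := rfl
theorem F33795 : act 1 n21501 = n21196 := d15_1 D21501 (iv7 D21196) (iv2 F16225)
theorem F33796 : act 5 n21262 = n21501 := d21_6 F1897 D1739 (iv5 F6924) D4614 D10154 D21262 (iv1 D21501) (iv5 D10259) (iv6 D4655) F7266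
def n21502 : Q := act 4 n10259
theorem D21502 : act 4 n10259 = n21502 := rfl
theorem F33797 : act 2 n21502 = n21195 := d1_1 D21502 (iv4 D21195) (iv2 F16225)
theorem F33798 : act 6 n21502 = n10272 := d10_2 (iv6 F16226) D21502 (iv4 D10272)
def n21503 : Q := act 7 n10259
theorem D21503 : act 7 n10259 = n21503 := rfl
theorem F33799 : act 2 n21503 = n21196 := d4_1 D21503 (iv7 D21196) (iv2 F16225)
theorem F33800 : act 5 n21503 = n10260 := d13_1 D21503 (iv7 D10260) D10259
theorem F33801 : act 6 n21503 = n21295 := d14_1 D21503 (iv7 D21295) F16006 (iv7 F16818) (iv6 F16226)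
theorem F33802 : act 1 n21196 = n21500 := d15_0 (iv0 D21500) D21503 F33799
theorem F33803 : act 1 n21194 = n21503 := d15_1 D21194 (iv7 D21503) F16225
theorem F33804 : act 5 n21377 = n21500 := d21_0 (iv1 F33802) F33430 (iv6 F16177) (iv1 F16179) D21229 (iv5 F33553) (iv1 F33558) (iv5 D10189) D10190 D21377
theorem F33805 : act 1 n21503 = n21193 := d15_0 (iv0 D21193) D21196 (iv2 F33799)
def n21504 : Q := act 5 n10268
theorem D21504 : act 5 n10268 = n21504 := rfl
theorem F33806 : act 2 n21504 = n11084 := d2_1 D21504 (iv5 D11084) F16963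
theorem F33807 : act 3 n21504 = n18002 := d6_1 D21504 (iv5 D18002) F16993
theorem F33808 : act 7 n21504 = n17893 := d13_2 (iv7 F16962) D21504 (iv5 D17893)
theorem F33809 : act 0 n21504 = n18864 := d17_2 F16798 D21504 F30106 (iv4 D9471) D9472 D20103 F31915 F16943 F14550
theorem F33810 : act 1 n21504 = n18863 := d17_6 (iv1 F13935) (iv5 F16900) (iv1 F16902) (iv5 D10269) D10268 D21504 F30102 F27346 F12252
def n21505 : Q := act 4 n10269
theorem D21505 : act 4 n10269 = n21505 := rfl
theorem F33811 : act 2 n21505 = n11085 := d1_1 D21505 (iv4 D11085) F16896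
theorem F33812 : act 7 n21505 = n19138 := d11_2 (iv7 F16895) D21505 (iv4 D19138)
theorem F33813 : act 0 n21505 = n19145 := d18_2 (iv1 F16902) D21505 (iv4 F30765) (iv5 D9472) D9471 (iv0 F14687) F12249 D8963 (iv5 F16900)
theorem F33814 : act 1 n21505 = n19144 := d18_6 F14551 F14550 F16798 (iv4 D10268) D10269 D21505 F32696 F32694 (iv5 D19053)
def n21506 : Q := act 6 n10269
theorem D21506 : act 6 n10269 = n21506 := rfl
theorem F33815 : act 2 n21506 = n11086 := d3_1 D21506 (iv6 D11086) F16896
theorem F33816 : act 3 n21506 = n21506 := d7_1 D21506 (iv6 D21506) F16367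
def n21507 : Q := act 4 n10271
theorem D21507 : act 4 n10271 = n21507 := rfl
theorem F33817 : act 2 n21507 = n11090 := d1_1 D21507 (iv4 D11090) (iv2 F16237)
theorem F33818 : act 7 n21507 = n19117 := d11_2 (iv7 F16235) D21507 (iv4 D19117)
theorem F33819 : act 0 n21507 = n19128 := d18_2 F16775 D21507 (iv4 F30736) (iv5 D9832) (iv4 F6771) (iv0 F16329) (iv4 D10268) F16771 D8956
theorem F33820 : act 1 n21507 = n19127 := d18_6 F30731 (iv4 F14735) (iv1 F27357) F27354 F16236 D21507 (iv4 F31685) F31684 (iv5 D19832)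
def n21508 : Q := act 6 n10271
theorem D21508 : act 6 n10271 = n21508 := rfl
theorem F33821 : act 2 n21508 = n11091 := d3_1 D21508 (iv6 D11091) (iv2 F16237)
theorem F33822 : act 3 n21508 = n21508 := d7_1 D21508 (iv6 D21508) F16238
theorem F33823 : act 5 n21508 = n21506 := d12_1 D21508 (iv6 D21506) (iv5 D10269) F16773 F16236
def n21509 : Q := act 0 n10272
theorem D21509 : act 0 n10272 = n21509 := rfl
theorem F33824 : act 4 n21509 = n19850 := d18_3 (iv1 D10271) D10272 D21509 (iv5 D19850) (iv4 F28029) (iv0 F28030) (iv4 D8973) F13944 F16236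
theorem F33825 : act 1 n19115 = n21509 := d15_0 (iv0 D21509) (iv7 F30753) F30752
theorem F33826 : act 2 n21197 = n21509 := d1_3 F33824 F31673 (iv4 F33431)
theorem F33827 : act 7 n21198 = n21509 := d11_0 F33824 (iv7 F32895) (iv4 F33434)
def n21510 : Q := act 1 n10272
theorem D21510 : act 1 n10272 = n21510 := rfl
theorem F33828 : act 1 n21510 = n19115 := d15_1 D21510 F30708 (iv2 F16249)
theorem F33829 : act 7 n21510 = n21197 := d15_2 (iv0 D21509) D21510 F33826
theorem F33830 : act 4 n21510 = n19415 := d18_7 (iv1 F16923) (iv4 F16928) (iv1 D10251) F6725 D4658 D10272 D21510 (iv0 F31078) (iv5 D9345)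
theorem F33831 : act 2 n21198 = n21510 := d1_3 F33830 (iv2 F32898) (iv4 F33434)
def n21511 : Q := act 3 n10272
theorem D21511 : act 3 n10272 = n21511 := rfl
def n21512 : Q := act 5 n10272
theorem D21512 : act 5 n10272 = n21512 := rfl
theorem F33832 : act 2 n21512 = n21200 := d2_1 D21512 (iv5 D21200) (iv2 F16249)
def n21513 : Q := act 3 n10274
theorem D21513 : act 3 n10274 = n21513 := rfl
theorem F33833 : act 4 n21513 = n18005 := d5_2 D10274 D21513 (iv3 D18005) (iv4 D8494) (iv3 F6737)
theorem F33834 : act 5 n21513 = n21320 := d6_2 (iv5 F16262) D21513 (iv3 D21320)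
theorem F33835 : act 7 n21513 = n17903 := d8_2 (iv7 F16261) D21513 (iv3 D17903)
def n21514 : Q := act 6 n10274
theorem D21514 : act 6 n10274 = n21514 := rfl
theorem F33836 : act 2 n21514 = n10310 := d3_1 D21514 (iv6 D10310) (iv2 F16260)
theorem F33837 : act 4 n21514 = n10275 := d10_1 D21514 (iv6 D10275) D10274
def n21515 : Q := act 0 n10275
theorem D21515 : act 0 n10275 = n21515 := rfl
def n21516 : Q := act 1 n10275
theorem D21516 : act 1 n10275 = n21516 := rfl
theorem F33838 : act 1 n21516 = n10314 := d15_1 D21516 (iv7 D10314) (iv2 F16265)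
def n21517 : Q := act 5 n10275
theorem D21517 : act 5 n10275 = n21517 := rfl
theorem F33839 : act 2 n21517 = n10313 := d2_1 D21517 (iv5 D10313) (iv2 F16265)
theorem F33840 : act 3 n21517 = n18010 := d6_1 D21517 (iv5 D18010) (iv3 F16266)
theorem F33841 : act 6 n21517 = n10276 := d12_2 D10275 D21517 (iv5 D10276) (iv6 D4661) D4660
def n21518 : Q := act 7 n10275
theorem D21518 : act 7 n10275 = n21518 := rfl
theorem F33842 : act 2 n21518 = n10314 := d4_1 D21518 (iv7 D10314) (iv2 F16265)
theorem F33843 : act 3 n21518 = n18011 := d8_1 D21518 (iv7 D18011) (iv3 F16266)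
theorem F33844 : act 6 n21518 = n17907 := d14_1 D21518 (iv7 D17907) (iv6 D8452) (iv7 F6738) D10275
theorem F33845 : act 1 n10314 = n21515 := d15_0 (iv0 D21515) D21518 F33842
theorem F33846 : act 1 n10312 = n21518 := d15_1 D10312 (iv7 D21518) F16265
theorem F33847 : act 1 n21518 = n10311 := d15_0 (iv0 D10311) D10314 (iv2 F33842)
def n21520 : Q := act 0 n10277
theorem D21520 : act 0 n10277 = n21520 := rfl
theorem F33850 : act 1 n10277 = n21520 := d15_0 (iv0 D21520) F16272 (iv2 F16270)
def n21521 : Q := act 5 n10277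
theorem D21521 : act 5 n10277 = n21521 := rfl
theorem F33851 : act 2 n21521 = n21231 := d2_1 D21521 (iv5 D21231) (iv2 F16270)
theorem F33852 : act 3 n21521 = n10278 := d6_1 D21521 (iv5 D10278) D10277
theorem F33853 : act 7 n21521 = n21231 := d13_2 (iv7 F16272) D21521 (iv5 D21231)
def n21522 : Q := act 6 n10277
theorem D21522 : act 6 n10277 = n21522 := rfl
theorem F33854 : act 2 n21522 = n21232 := d3_1 D21522 (iv6 D21232) (iv2 F16270)
theorem F33855 : act 3 n21522 = n10279 := d7_1 D21522 (iv6 D10279) D10277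
theorem F33856 : act 4 n21522 = n21522 := d10_1 D21522 (iv6 D21522) F16271
def n21523 : Q := act 6 n10278
theorem D21523 : act 6 n10278 = n21523 := rfl
theorem F33857 : act 2 n21523 = n10349 := d3_1 D21523 (iv6 D10349) (iv2 F16273)
theorem F33858 : act 4 n21523 = n17934 := d10_1 D21523 (iv6 D17934) (iv4 F16274)
def n21524 : Q := act 1 n10279
theorem D21524 : act 1 n10279 = n21524 := rfl
theorem F33859 : act 1 n21524 = n10353 := d15_1 D21524 (iv7 D10353) (iv2 F16278)
def n21525 : Q := act 5 n10279
theorem D21525 : act 5 n10279 = n21525 := rfl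
theorem F33860 : act 2 n21525 = n10352 := d2_1 D21525 (iv5 D10352) (iv2 F16278)
def n21526 : Q := act 7 n10279
theorem D21526 : act 7 n10279 = n21526 := rfl
theorem F33861 : act 2 n21526 = n10353 := d4_1 D21526 (iv7 D10353) (iv2 F16278)
theorem F33862 : act 4 n21526 = n10283 := d11_1 D21526 (iv7 D10283) (iv4 F16279)
theorem F33863 : act 6 n21526 = n21236 := d14_1 D21526 (iv7 D21236) (iv6 D10146) (iv7 F6746) D10279
theorem F33864 : act 1 n10351 = n21526 := d15_1 D10351 (iv7 D21526) F16278
theorem F33865 : act 1 n21526 = n10350 := d15_0 (iv0 D10350) D10353 (iv2 F33861)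
def n21528 : Q := act 3 n10280
theorem D21528 : act 3 n10280 = n21528 := rfl
def n21529 : Q := act 4 n10280
theorem D21529 : act 4 n10280 = n21529 := rfl
def n21530 : Q := act 5 n10280
theorem D21530 : act 5 n10280 = n21530 := rfl
def n21531 : Q := act 6 n10280
theorem D21531 : act 6 n10280 = n21531 := rfl
theorem F33867 : act 5 n21531 = n10875 := d21_6 (iv5 D1910) (iv1 F1867) D1935 D4663 D10280 D21531 (iv1 D10875) (iv5 D4954) (iv6 D2039) F7080
def n21533 : Q := act 4 n10281
theorem D21533 : act 4 n10281 = n21533 := rfl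
def n21534 : Q := act 5 n10281
theorem D21534 : act 5 n10281 = n21534 := rfl
theorem F33869 : act 6 n10364 = n21534 := d21_5 (iv5 D4703) (iv1 D1946) D1947 (iv6 F6792) D10364 (iv5 D21534) (iv1 D10281) D10282 F16283 F16884
def n21535 : Q := act 6 n10281
theorem D21535 : act 6 n10281 = n21535 := rfl
def n21536 : Q := act 0 n10282
theorem D21536 : act 0 n10282 = n21536 := rfl
theorem F33870 : act 6 n21536 = n10362 := d21_5 (iv5 D4698) (iv1 F3251) D4664 (iv6 F16283) D21536 (iv5 D10362) (iv1 D4693) D4694 F6792 F16886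
def n21537 : Q := act 1 n10282
theorem D21537 : act 1 n10282 = n21537 := rfl
theorem F33871 : act 1 n21537 = n10367 := d15_1 D21537 (iv7 D10367) (iv2 F16281)
theorem F33872 : act 5 n10922 = n21537 := d21_6 F6930 (iv1 D1740) (iv5 F1897) D2048 D4975 D10922 (iv1 D21537) (iv5 D10282) (iv6 D4663) (iv1 F3233)
def n21539 : Q := act 7 n10282
theorem D21539 : act 7 n10282 = n21539 := rfl
theorem F33875 : act 2 n21539 = n10367 := d4_1 D21539 (iv7 D10367) (iv2 F16281)
theorem F33877 : act 5 n21539 = n10283 := d13_1 D21539 (iv7 D10283) D10282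
theorem F33879 : act 1 n10367 = n21536 := d15_0 (iv0 D21536) D21539 F33875
theorem F33880 : act 1 n10365 = n21539 := d15_1 D10365 (iv7 D21539) F16281
theorem F33881 : act 0 n10364 = n21539 := d21_10 F33877 (iv1 F16288) D10362 (iv6 F33870) (iv1 F33879) F16486 F16485 (iv1 F16280) D21534 (iv6 F33869)
def n21542 : Q := act 6 n10285
theorem D21542 : act 6 n10285 = n21542 := rfl
theorem F33886 : act 2 n21542 = n17736 := d3_1 D21542 (iv6 D17736) (iv2 F16292)
theorem F33887 : act 3 n21542 = n10288 := d7_1 D21542 (iv6 D10288) (iv3 F16293)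
theorem F33888 : act 4 n21542 = n17195 := d10_1 D21542 (iv6 D17195) F16296
theorem F33889 : act 5 n21542 = n17908 := d12_1 D21542 (iv6 D17908) F13256 F16741 D10285
def n21543 : Q := act 3 n10287
theorem D21543 : act 3 n10287 = n21543 := rfl
theorem F33890 : act 4 n21543 = n17193 := d5_2 D10287 D21543 (iv3 D17193) F16296 F16293
theorem F33891 : act 7 n21543 = n17886 := d8_2 (iv7 F16303) D21543 (iv3 D17886)
theorem F33892 : act 0 n18373 = n21543 := d20_1 D18373 F33890 (iv3 D17193) (iv1 D8067) (iv3 F11832) (iv4 D7598) (iv1 F27123) D16010 F29548 (iv1 D18372)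
def n21544 : Q := act 5 n10287
theorem D21544 : act 5 n10287 = n21544 := rfl
theorem F33893 : act 2 n21544 = n17898 := d2_1 D21544 (iv5 D17898) (iv2 F16302)
theorem F33894 : act 7 n21544 = n17887 := d13_2 (iv7 F16303) D21544 (iv5 D17887)
theorem F33895 : act 4 n21544 = n10347 := d16_2 D10287 D21544 F16471 (iv4 F7393) F7255 F3240 D4669 F6769 (iv2 F6759)
def n21545 : Q := act 6 n10287
theorem D21545 : act 6 n10287 = n21545 := rfl
theorem F33896 : act 2 n21545 = n17899 := d3_1 D21545 (iv6 D17899) (iv2 F16302)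
theorem F33897 : act 4 n21545 = n10288 := d10_1 D21545 (iv6 D10288) D10287
def n21546 : Q := act 0 n10288
theorem D21546 : act 0 n10288 = n21546 := rfl
def n21547 : Q := act 1 n10288
theorem D21547 : act 1 n10288 = n21547 := rfl
def n21548 : Q := act 7 n10288
theorem D21548 : act 7 n10288 = n21548 := rfl
theorem F33899 : act 2 n21548 = n17902 := d4_1 D21548 (iv7 D17902) (iv2 F16304)
theorem F33900 : act 5 n21548 = n17916 := d13_1 D21548 (iv7 D17916) (iv5 F17012)
theorem F33901 : act 6 n21548 = n17892 := d14_1 D21548 (iv7 D17892) (iv6 D8438) (iv7 F6760) D10288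
theorem F33902 : act 1 n17902 = n21546 := d15_0 (iv0 D21546) D21548 F33899
theorem F33903 : act 1 n17901 = n21548 := d15_1 D17901 (iv7 D21548) F16304
theorem F33904 : act 1 n21548 = n17900 := d15_0 (iv0 D17900) D17902 (iv2 F33899)
def n21549 : Q := act 6 n10293
theorem D21549 : act 6 n10293 = n21549 := rfl
theorem F33905 : act 2 n21549 = n19158 := d3_1 D21549 (iv6 D19158) (iv2 F16313)
theorem F33906 : act 3 n21549 = n10296 := d7_1 D21549 (iv6 D10296) (iv3 F16314)
def n21550 : Q := act 5 n10294
theorem D21550 : act 5 n10294 = n21550 := rfl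
theorem F33907 : act 2 n21550 = n19159 := d2_1 D21550 (iv5 D19159) (iv2 F16318)
theorem F33908 : act 3 n21550 = n10299 := d6_1 D21550 (iv5 D10299) (iv3 F16319)
theorem F33909 : act 0 n21550 = n19051 := d17_2 F16925 D21550 (iv5 D19051) F13897 D8925 (iv0 F13898) (iv5 D4092) D4091 D9107
theorem F33910 : act 0 n20277 = n21550 := d21_1 D20277 (iv5 D21550) (iv6 D10294) F6764 D9010 D19169 (iv1 F30884) (iv5 D19222) F30577 (iv1 F30576)
def n21551 : Q := act 3 n10295
theorem D21551 : act 3 n10295 = n21551 := rfl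
theorem F33911 : act 7 n21551 = n17897 := d8_2 (iv7 F16322) D21551 (iv3 D17897)
def n21552 : Q := act 5 n10295
theorem D21552 : act 5 n10295 = n21552 := rfl
theorem F33912 : act 2 n21552 = n17887 := d2_1 D21552 (iv5 D17887) (iv2 F16321)
theorem F33913 : act 4 n21552 = n10346 := d9_1 D21552 F16465 (iv4 F14083) (iv5 D9020) F5984 D4666 D10287 D21544 F33895 F16471 (iv4 F7393) F7255 F3240 D4669 D10295
theorem F33914 : act 7 n21552 = n17898 := d13_2 (iv7 F16322) D21552 (iv5 D17898)
def n21553 : Q := act 6 n10295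
theorem D21553 : act 6 n10295 = n21553 := rfl
theorem F33915 : act 2 n21553 = n17888 := d3_1 D21553 (iv6 D17888) (iv2 F16321)
theorem F33916 : act 4 n21553 = n10296 := d10_1 D21553 (iv6 D10296) D10295
def n21554 : Q := act 0 n10296
theorem D21554 : act 0 n10296 = n21554 := rfl
def n21555 : Q := act 1 n10296
theorem D21555 : act 1 n10296 = n21555 := rfl
theorem F33917 : act 1 n21555 = n17892 := d15_1 D21555 (iv7 D17892) (iv2 F16323)
def n21556 : Q := act 5 n10296
theorem D21556 : act 5 n10296 = n21556 := rfl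
theorem F33918 : act 2 n21556 = n17891 := d2_1 D21556 (iv5 D17891) (iv2 F16323)
theorem F33919 : act 6 n21556 = n10299 := d12_2 D10296 D21556 (iv5 D10299) (iv6 D4670) D4669
def n21557 : Q := act 7 n10296
theorem D21557 : act 7 n10296 = n21557 := rfl
theorem F33920 : act 2 n21557 = n17892 := d4_1 D21557 (iv7 D17892) (iv2 F16323)
theorem F33921 : act 6 n21557 = n17902 := d14_1 D21557 (iv7 D17902) (iv6 D8446) (iv7 F6769) D10296
theorem F33922 : act 1 n17892 = n21554 := d15_0 (iv0 D21554) D21557 F33920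
theorem F33924 : act 1 n21557 = n17889 := d15_0 (iv0 D17889) D17892 (iv2 F33920)
def n21558 : Q := act 1 n10299
theorem D21558 : act 1 n10299 = n21558 := rfl
theorem F33925 : act 1 n21558 = n16689 := d15_1 D21558 F27344 (iv2 F16326)
theorem F33926 : act 7 n21558 = n16691 := d15_2 (iv0 F16327) D21558 F27351
theorem F33927 : act 5 n21558 = n16692 := d17_7 (iv1 F31681) (iv5 F32896) (iv1 D20746) (iv5 D9832) (iv4 F6771) D10299 D21558 F27357 F14735
theorem F33928 : act 2 n13311 = n21558 := d2_3 F33927 F27353 (iv5 F22116)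
theorem F33929 : act 3 n18003 = n21558 := d6_3 F33927 (iv3 F28298) F29164
def n21559 : Q := act 4 n10299
theorem D21559 : act 4 n10299 = n21559 := rfl
theorem F33930 : act 2 n21559 = n17894 := d1_1 D21559 (iv4 D17894) (iv2 F16326)
def n21560 : Q := act 3 n10301
theorem D21560 : act 3 n10301 = n21560 := rfl
theorem F33931 : act 4 n21560 = n17643 := d5_2 D10301 D21560 (iv3 D17643) (iv4 F13120) F12980
theorem F33932 : act 7 n21560 = n17911 := d8_2 (iv7 F16378) D21560 (iv3 D17911)
def n21561 : Q := act 5 n10301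
theorem D21561 : act 5 n10301 = n21561 := rfl
theorem F33933 : act 2 n21561 = n17920 := d2_1 D21561 (iv5 D17920) (iv2 F16377)
theorem F33934 : act 7 n21561 = n17912 := d13_2 (iv7 F16378) D21561 (iv5 D17912)
theorem F33935 : act 4 n21561 = n10344 := d16_2 D10301 D21561 (iv5 D10344) (iv4 F7284) (iv5 D4355) F5552 F7302 (iv7 F12179) (iv2 F12178)
def n21562 : Q := act 6 n10301
theorem D21562 : act 6 n10301 = n21562 := rfl
theorem F33936 : act 2 n21562 = n17921 := d3_1 D21562 (iv6 D17921) (iv2 F16377)
theorem F33937 : act 4 n21562 = n10302 := d10_1 D21562 (iv6 D10302) D10301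
def n21563 : Q := act 0 n10302
theorem D21563 : act 0 n10302 = n21563 := rfl
def n21564 : Q := act 1 n10302
theorem D21564 : act 1 n10302 = n21564 := rfl
theorem F33938 : act 1 n21564 = n17925 := d15_1 D21564 (iv7 D17925) (iv2 F16379)
def n21565 : Q := act 5 n10302
theorem D21565 : act 5 n10302 = n21565 := rfl
theorem F33939 : act 2 n21565 = n17924 := d2_1 D21565 (iv5 D17924) (iv2 F16379)
theorem F33940 : act 6 n21565 = n16689 := d12_2 D10302 D21565 (iv5 D16689) (iv6 D7774) F7298
def n21566 : Q := act 7 n10302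
theorem D21566 : act 7 n10302 = n21566 := rfl
theorem F33941 : act 2 n21566 = n17925 := d4_1 D21566 (iv7 D17925) (iv2 F16379)
theorem F33942 : act 6 n21566 = n17916 := d14_1 D21566 (iv7 D17916) (iv6 D8455) (iv7 F12176) D10302
theorem F33943 : act 1 n17925 = n21563 := d15_0 (iv0 D21563) D21566 F33941
theorem F33944 : act 1 n17923 = n21566 := d15_1 D17923 (iv7 D21566) F16379
theorem F33945 : act 1 n21566 = n17922 := d15_0 (iv0 D17922) D17925 (iv2 F33941)
def n21567 : Q := act 6 n10303
theorem D21567 : act 6 n10303 = n21567 := rfl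
theorem F33946 : act 2 n21567 = n19162 := d3_1 D21567 (iv6 D19162) (iv2 F16380)
theorem F33947 : act 3 n21567 = n10305 := d7_1 D21567 (iv6 D10305) D10303
theorem F33948 : act 5 n21567 = n17896 := d12_1 D21567 (iv6 D17896) (iv5 D8443) (iv6 F16792) (iv5 F16381)
def n21568 : Q := act 3 n10304
theorem D21568 : act 3 n10304 = n21568 := rfl
theorem F33949 : act 7 n21568 = n17919 := d8_2 (iv7 F16386) D21568 (iv3 D17919)
def n21569 : Q := act 5 n10304
theorem D21569 : act 5 n10304 = n21569 := rfl
theorem F33950 : act 2 n21569 = n17912 := d2_1 D21569 (iv5 D17912) (iv2 F16385)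
theorem F33951 : act 4 n21569 = n10341 := d9_1 D21569 (iv5 D10341) (iv4 F14102) F14101 F12128 F7298 D10301 D21561 F33935 (iv5 D10344) (iv4 F7284) (iv5 D4355) F5552 F7302 D10304
theorem F33952 : act 7 n21569 = n17920 := d13_2 (iv7 F16386) D21569 (iv5 D17920)
def n21570 : Q := act 6 n10304
theorem D21570 : act 6 n10304 = n21570 := rfl
theorem F33953 : act 2 n21570 = n17913 := d3_1 D21570 (iv6 D17913) (iv2 F16385)
theorem F33954 : act 4 n21570 = n10305 := d10_1 D21570 (iv6 D10305) D10304
def n21571 : Q := act 0 n10305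
theorem D21571 : act 0 n10305 = n21571 := rfl
def n21572 : Q := act 1 n10305
theorem D21572 : act 1 n10305 = n21572 := rfl
theorem F33955 : act 1 n21572 = n17916 := d15_1 D21572 (iv7 D17916) (iv2 F16387)
def n21573 : Q := act 7 n10305
theorem D21573 : act 7 n10305 = n21573 := rfl
theorem F33956 : act 2 n21573 = n17916 := d4_1 D21573 (iv7 D17916) (iv2 F16387)
theorem F33957 : act 5 n21573 = n17902 := d13_1 D21573 (iv7 D17902) (iv5 F17011)
theorem F33958 : act 6 n21573 = n17925 := d14_1 D21573 (iv7 D17925) (iv6 D8458) F12179 D10305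
theorem F33959 : act 1 n17916 = n21571 := d15_0 (iv0 D21571) D21573 F33956
theorem F33960 : act 1 n17915 = n21573 := d15_1 D17915 (iv7 D21573) F16387
theorem F33961 : act 1 n21573 = n17914 := d15_0 (iv0 D17914) D17916 (iv2 F33956)
def n21574 : Q := act 3 n10306
theorem D21574 : act 3 n10306 = n21574 := rfl
theorem F33962 : act 4 n21574 = n18155 := d5_2 (iv4 F16388) D21574 (iv3 D18155) (iv4 F14280) F14276
theorem F33963 : act 7 n21574 = n17926 := d8_2 F16391 D21574 (iv3 D17926)
def n21575 : Q := act 6 n10306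
theorem D21575 : act 6 n10306 = n21575 := rfl
theorem F33964 : act 2 n21575 = n17931 := d3_1 D21575 (iv6 D17931) F16390
theorem F33965 : act 4 n21575 = n19113 := d10_1 D21575 (iv6 D19113) (iv4 F16388)
def n21576 : Q := act 3 n10307
theorem D21576 : act 3 n10307 = n21576 := rfl
theorem F33966 : act 4 n21576 = n17434 := d5_2 (iv4 F16394) D21576 (iv3 D17434) (iv4 D8192) (iv3 F12961)
theorem F33967 : act 7 n21576 = n17929 := d8_2 (iv7 F16393) D21576 (iv3 D17929)
def n21577 : Q := act 6 n10307
theorem D21577 : act 6 n10307 = n21577 := rfl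
theorem F33968 : act 2 n21577 = n17928 := d3_1 D21577 (iv6 D17928) F16395
theorem F33969 : act 4 n21577 = n17429 := d10_1 D21577 (iv6 D17429) (iv4 F16394)
def n21578 : Q := act 2 n10308
theorem D21578 : act 2 n10308 = n21578 := rfl
theorem F33970 : act 4 n21578 = n12540 := d1_2 (iv4 F16396) D21578 F20888
theorem F33971 : act 7 n21578 = n15796 := d4_2 (iv7 F16397) D21578 F25300
theorem F33972 : act 1 n21578 = n15812 := d15_0 (iv0 D15812) (iv7 F16397) D21578
theorem F33973 : act 1 n15813 = n21578 := d15_0 F33972 (iv7 F26747) (iv2 F26751)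
def n21579 : Q := act 5 n10308
theorem D21579 : act 5 n10308 = n21579 := rfl
theorem F33974 : act 3 n21579 = n10309 := d6_1 D21579 (iv5 D10309) D10308
theorem F33975 : act 4 n21579 = n15417 := d9_1 D21579 F24971 F20638 (iv5 F9387) (iv4 F26373) D7416 D15796 (iv5 F26908) (iv4 D15054) (iv5 D7161) F5290 D3304 (iv4 F26319) D5963 (iv4 F16396)
theorem F33976 : act 7 n21579 = n15814 := d13_2 (iv7 F16397) D21579 (iv5 D15814)
theorem F33977 : act 1 n15449 = n21579 := d15_1 (iv0 F24994) F33976 F26907
theorem F33978 : act 0 n15457 = n21579 := d18_2 F20643 D15457 F33975 F24971 F20638 F9143 D7164 F11496 D7187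
def n21580 : Q := act 6 n10308
theorem D21580 : act 6 n10308 = n21580 := rfl
theorem F33979 : act 3 n21580 = n10310 := d7_1 D21580 (iv6 D10310) D10308
theorem F33980 : act 4 n21580 = n12543 := d10_1 D21580 (iv6 D12543) (iv4 F16396)
def n21581 : Q := act 6 n10309
theorem D21581 : act 6 n10309 = n21581 := rfl
theorem F33981 : act 2 n21581 = n21321 := d3_1 D21581 (iv6 D21321) (iv2 F16398)
theorem F33982 : act 4 n21581 = n21233 := d10_1 D21581 (iv6 D21233) (iv4 F16400)
def n21582 : Q := act 0 n10310
theorem D21582 : act 0 n10310 = n21582 := rfl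
def n21583 : Q := act 1 n10310
theorem D21583 : act 1 n10310 = n21583 := rfl
def n21584 : Q := act 5 n10310
theorem D21584 : act 5 n10310 = n21584 := rfl
def n21585 : Q := act 7 n10310
theorem D21585 : act 7 n10310 = n21585 := rfl
theorem F33983 : act 4 n21585 = n10314 := d11_1 D21585 (iv7 D10314) (iv4 F16401)
theorem F33984 : act 6 n21585 = n17938 := d14_1 D21585 (iv7 D17938) (iv6 D8462) (iv7 F6774) D10310
def n21586 : Q := act 2 n10311
theorem D21586 : act 2 n10311 = n21586 := rfl
theorem F33985 : act 7 n10312 = n21586 := d15_2 (iv0 D10311) D10312 (iv2 D21586)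
def n21587 : Q := act 3 n10311
theorem D21587 : act 3 n10311 = n21587 := rfl
def n21588 : Q := act 4 n10311
theorem D21588 : act 4 n10311 = n21588 := rfl
def n21589 : Q := act 5 n10311
theorem D21589 : act 5 n10311 = n21589 := rfl
def n21590 : Q := act 6 n10311
theorem D21590 : act 6 n10311 = n21590 := rfl
def n21591 : Q := act 7 n10311
theorem D21591 : act 7 n10311 = n21591 := rfl
theorem F33986 : act 2 n21591 = n10312 := d4_1 D21591 F33985 (iv2 D21586)
def n21592 : Q := act 3 n10312
theorem D21592 : act 3 n10312 = n21592 := rfl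
def n21593 : Q := act 4 n10312
theorem D21593 : act 4 n10312 = n21593 := rfl
def n21594 : Q := act 5 n10312
theorem D21594 : act 5 n10312 = n21594 := rfl
def n21595 : Q := act 6 n10312
theorem D21595 : act 6 n10312 = n21595 := rfl
def n21596 : Q := act 0 n10313
theorem D21596 : act 0 n10313 = n21596 := rfl
def n21597 : Q := act 1 n10313
theorem D21597 : act 1 n10313 = n21597 := rfl
def n21599 : Q := act 7 n10313
theorem D21599 : act 7 n10313 = n21599 := rfl
theorem F33988 : act 3 n21599 = n13084 := d8_1 D21599 (iv7 D13084) (iv3 F16402)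
theorem F33989 : act 5 n21599 = n10314 := d13_1 D21599 (iv7 D10314) D10313
theorem F33990 : act 6 n21599 = n21599 := d14_1 D21599 (iv7 D21599) F16403 F6780 (iv6 F16403)
def n21600 : Q := act 4 n10315
theorem D21600 : act 4 n10315 = n21600 := rfl
def n21601 : Q := act 6 n10315
theorem D21601 : act 6 n10315 = n21601 := rfl
def n21602 : Q := act 4 n10318
theorem D21602 : act 4 n10318 = n21602 := rfl
theorem F33992 : act 2 n21602 = n21600 := d1_1 D21602 (iv4 D21600) (iv2 F16410)
def n21603 : Q := act 6 n10318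
theorem D21603 : act 6 n10318 = n21603 := rfl
theorem F33994 : act 2 n21603 = n21601 := d3_1 D21603 (iv6 D21601) (iv2 F16410)
def n21604 : Q := act 0 n10322
theorem D21604 : act 0 n10322 = n21604 := rfl
theorem F33995 : act 4 n21604 = n10370 := d18_3 F16890 D10322 D21604 (iv5 D10370) (iv4 D4697) (iv0 D1945) (iv4 F3244) D4676 D10318
def n21605 : Q := act 1 n10322
theorem D21605 : act 1 n10322 = n21605 := rfl
theorem F33999 : act 4 n21605 = n10384 := d18_7 F17426 (iv4 D4702) (iv1 D1946) (iv4 F3244) D4677 D10322 D21605 (iv0 F30846) (iv5 D19203)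
theorem F34000 : act 2 n21604 = n21605 := d1_3 F33999 F16515 (iv4 F33995)
def n21606 : Q := act 3 n10322
theorem D21606 : act 3 n10322 = n21606 := rfl
theorem F34002 : act 4 n21606 = n13085 := d5_2 D10322 D21606 (iv3 D13085) (iv4 D6224) (iv3 F6779)
theorem F34003 : act 7 n21606 = n21606 := d8_2 F16416 D21606 (iv3 D21606)
def n21608 : Q := act 3 n10323
theorem D21608 : act 3 n10323 = n21608 := rfl
theorem F34006 : act 4 n21608 = n19072 := d5_2 (iv4 F16417) D21608 (iv3 D19072) (iv4 D8936) D8935
theorem F34007 : act 7 n21608 = n19205 := d8_2 F16420 D21608 (iv3 D19205)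
def n21609 : Q := act 6 n10323
theorem D21609 : act 6 n10323 = n21609 := rfl
theorem F34008 : act 2 n21609 = n21246 := d3_1 D21609 (iv6 D21246) F16419
theorem F34009 : act 4 n21609 = n19071 := d10_1 D21609 (iv6 D19071) (iv4 F16417)
def n21610 : Q := act 6 n10324
theorem D21610 : act 6 n10324 = n21610 := rfl
theorem F34010 : act 2 n21610 = n19207 := d3_1 D21610 (iv6 D19207) F16424
theorem F34011 : act 4 n21610 = n19199 := d10_1 D21610 (iv6 D19199) (iv4 F16423)
def n21611 : Q := act 0 n10325
theorem D21611 : act 0 n10325 = n21611 := rfl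
theorem F34012 : act 3 n21611 = n21247 := d20_5 (iv4 D1943) D1941 D4680 D10325 D21611 F33474 (iv1 D20393) (iv4 F16458) (iv3 D10343) (iv1 D4689)
theorem F34013 : act 4 n21611 = n19870 := d20_0 (iv1 D19870) (iv4 F16008) (iv3 D10170) (iv1 D4621) (iv3 F3248) (iv4 D1943) D1941 D4680 D10325 D21611
theorem F34014 : act 1 n16950 = n21611 := d15_0 (iv0 D21611) F16426 (iv2 F27793)
def n21612 : Q := act 1 n10325
theorem D21612 : act 1 n10325 = n21612 := rfl
theorem F34015 : act 4 n21612 = n19869 := d18_7 F18062 (iv4 D7909) (iv1 F12486) (iv4 F27691) F27692 (iv4 F16425) D21612 (iv0 D19869) F26933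
def n21613 : Q := act 2 n10325
theorem D21613 : act 2 n10325 = n21613 := rfl
theorem F34016 : act 3 n21613 = n21275 := d0_2 D10325 D21613 (iv2 D21275) (iv3 D10160) F12156
theorem F34017 : act 4 n21613 = n16951 := d1_2 (iv4 F16425) D21613 F27794
theorem F34018 : act 7 n21613 = n16950 := d4_2 (iv7 F16426) D21613 F27793
theorem F34019 : act 1 n21613 = n21247 := d15_0 (iv0 D21247) (iv7 F16426) D21613
theorem F34020 : act 1 n21612 = n16950 := d15_1 D21612 (iv7 F34018) (iv2 D21613)
theorem F34021 : act 1 n21248 = n21613 := d15_1 D21248 F34018 F27793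
def n21614 : Q := act 5 n10325
theorem D21614 : act 5 n10325 = n21614 := rfl
theorem F34022 : act 3 n21614 = n10326 := d6_1 D21614 (iv5 D10326) D10325
theorem F34023 : act 7 n21614 = n21249 := d13_2 (iv7 F16426) D21614 (iv5 D21249)
theorem F34024 : act 4 n21614 = n12922 := d16_2 (iv4 F16425) D21614 (iv5 D12922) F9528 F4137 (iv4 F5618) D7905 D16951 F27794
def n21615 : Q := act 6 n10325
theorem D21615 : act 6 n10325 = n21615 := rfl
theorem F34025 : act 3 n21615 = n10327 := d7_1 D21615 (iv6 D10327) D10325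
theorem F34026 : act 4 n21615 = n20781 := d10_1 D21615 (iv6 D20781) (iv4 F16425)
def n21616 : Q := act 6 n10326
theorem D21616 : act 6 n10326 = n21616 := rfl
theorem F34027 : act 2 n21616 = n21278 := d3_1 D21616 (iv6 D21278) (iv2 F16427)
def n21617 : Q := act 0 n10327
theorem D21617 : act 0 n10327 = n21617 := rfl
def n21618 : Q := act 1 n10327
theorem D21618 : act 1 n10327 = n21618 := rfl
theorem F34028 : act 1 n21618 = n21282 := d15_1 D21618 (iv7 D21282) (iv2 F16429)
def n21619 : Q := act 5 n10327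
theorem D21619 : act 5 n10327 = n21619 := rfl
theorem F34029 : act 2 n21619 = n21281 := d2_1 D21619 (iv5 D21281) (iv2 F16429)
def n21620 : Q := act 7 n10327
theorem D21620 : act 7 n10327 = n21620 := rfl
theorem F34030 : act 2 n21620 = n21282 := d4_1 D21620 (iv7 D21282) (iv2 F16429)
theorem F34031 : act 4 n21620 = n10331 := d11_1 D21620 (iv7 D10331) (iv4 F16430)
theorem F34032 : act 6 n21620 = n21257 := d14_1 D21620 (iv7 D21257) (iv6 D10153) (iv7 F12155) D10327
theorem F34033 : act 1 n21282 = n21617 := d15_0 (iv0 D21617) D21620 F34030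
theorem F34034 : act 1 n21280 = n21620 := d15_1 D21280 (iv7 D21620) F16429
theorem F34035 : act 1 n21620 = n21279 := d15_0 (iv0 D21279) D21282 (iv2 F34030)
def n21621 : Q := act 2 n10328
theorem D21621 : act 2 n10328 = n21621 := rfl
def n21622 : Q := act 3 n10328
theorem D21622 : act 3 n10328 = n21622 := rfl
def n21623 : Q := act 4 n10328
theorem D21623 : act 4 n10328 = n21623 := rfl
def n21624 : Q := act 5 n10328
theorem D21624 : act 5 n10328 = n21624 := rfl
def n21625 : Q := act 6 n10328
theorem D21625 : act 6 n10328 = n21625 := rfl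
theorem F34037 : act 5 n21625 = n10337 := d21_6 F1895 D1731 (iv5 F7292) D4682 D10328 D21625 (iv1 D10337) (iv5 F16815) (iv6 D4603) F7081
def n21629 : Q := act 5 n10329
theorem D21629 : act 5 n10329 = n21629 := rfl
def n21631 : Q := act 0 n10330
theorem D21631 : act 0 n10330 = n21631 := rfl
def n21632 : Q := act 1 n10330
theorem D21632 : act 1 n10330 = n21632 := rfl
theorem F34039 : act 1 n21632 = n21295 := d15_1 D21632 (iv7 D21295) (iv2 F16432)
theorem F34040 : act 5 n21494 = n21632 := d21_6 (iv5 D1917) (iv1 F1868) D1932 D4655 D10257 D21494 (iv1 D21632) (iv5 D10330) (iv6 D4682) (iv1 F3246)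
def n21633 : Q := act 4 n10330
theorem D21633 : act 4 n10330 = n21633 := rfl
theorem F34041 : act 2 n21633 = n21294 := d1_1 D21633 (iv4 D21294) (iv2 F16432)
theorem F34042 : act 6 n21633 = n19115 := d10_2 (iv6 F16433) D21633 (iv4 D19115)
def n21634 : Q := act 7 n10330
theorem D21634 : act 7 n10330 = n21634 := rfl
theorem F34043 : act 2 n21634 = n21295 := d4_1 D21634 (iv7 D21295) (iv2 F16432)
theorem F34044 : act 5 n21634 = n10331 := d13_1 D21634 (iv7 D10331) D10330
theorem F34045 : act 6 n21634 = n21196 := d14_1 D21634 (iv7 D21196) F15952 (iv7 F16777) (iv6 F16433)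
theorem F34046 : act 1 n21295 = n21631 := d15_0 (iv0 D21631) D21634 F34043
theorem F34047 : act 1 n21293 = n21634 := d15_1 D21293 (iv7 D21634) F16432
theorem F34048 : act 1 n21634 = n21292 := d15_0 (iv0 D21292) D21295 (iv2 F34043)
def n21635 : Q := act 0 n10332
theorem D21635 : act 0 n10332 = n21635 := rfl
def n21636 : Q := act 1 n10332
theorem D21636 : act 1 n10332 = n21636 := rfl
def n21637 : Q := act 7 n10332
theorem D21637 : act 7 n10332 = n21637 := rfl
theorem F34051 : act 6 n21637 = n21273 := d14_1 D21637 (iv7 D21273) (iv6 D10159) F12143 D10332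
def n21638 : Q := act 0 n10333
theorem D21638 : act 0 n10333 = n21638 := rfl
theorem F34052 : act 2 n21245 = n21638 := d15_3 (iv0 D21638) (iv0 F31374) (iv7 F33471)
theorem F34053 : act 1 n21275 = n21638 := d15_0 (iv0 D21638) F16440 D21275
theorem F34054 : act 7 n21638 = n21274 := d4_2 (iv7 F33471) F34052 (iv2 F33499)
theorem F34055 : act 1 n19602 = n21275 := d15_0 F34053 F34054 (iv2 F33499)
theorem F34056 : act 4 n21306 = n20926 := d20_0 (iv1 F33103) (iv4 F34017) F34016 (iv1 F34055) F31373 F16423 F14091 F6923 D10170 D21306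
def n21639 : Q := act 2 n10333
theorem D21639 : act 2 n10333 = n21639 := rfl
theorem F34057 : act 3 n21639 = n16950 := d0_2 D10333 D21639 F27793 (iv3 D10151) F12152
theorem F34058 : act 7 n21639 = n21275 := d4_2 (iv7 F16440) D21639 (iv2 D21275)
theorem F34059 : act 1 n21639 = n21274 := d15_0 (iv0 D21274) (iv7 F16440) D21639
theorem F34060 : act 1 n21245 = n21639 := d15_0 F34059 (iv7 F34054) (iv2 F34052)
def n21640 : Q := act 5 n10333
theorem D21640 : act 5 n10333 = n21640 := rfl
theorem F34061 : act 3 n21640 = n10334 := d6_1 D21640 (iv5 D10334) D10333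
theorem F34062 : act 7 n21640 = n21276 := d13_2 (iv7 F16440) D21640 (iv5 D21276)
def n21641 : Q := act 6 n10333
theorem D21641 : act 6 n10333 = n21641 := rfl
theorem F34063 : act 3 n21641 = n10335 := d7_1 D21641 (iv6 D10335) D10333
def n21642 : Q := act 6 n10334
theorem D21642 : act 6 n10334 = n21642 := rfl
theorem F34064 : act 2 n21642 = n21253 := d3_1 D21642 (iv6 D21253) (iv2 F16441)
def n21643 : Q := act 0 n10335
theorem D21643 : act 0 n10335 = n21643 := rfl
def n21644 : Q := act 1 n10335
theorem D21644 : act 1 n10335 = n21644 := rfl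
theorem F34065 : act 1 n21644 = n21257 := d15_1 D21644 (iv7 D21257) (iv2 F16443)
def n21645 : Q := act 5 n10335
theorem D21645 : act 5 n10335 = n21645 := rfl
theorem F34066 : act 2 n21645 = n21256 := d2_1 D21645 (iv5 D21256) (iv2 F16443)
def n21646 : Q := act 7 n10335
theorem D21646 : act 7 n10335 = n21646 := rfl
theorem F34067 : act 2 n21646 = n21257 := d4_1 D21646 (iv7 D21257) (iv2 F16443)
theorem F34069 : act 6 n21646 = n21282 := d14_1 D21646 (iv7 D21282) (iv6 D10162) F12144 D10335
theorem F34070 : act 1 n21257 = n21643 := d15_0 (iv0 D21643) D21646 F34067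
theorem F34071 : act 1 n21255 = n21646 := d15_1 D21255 (iv7 D21646) F16443
theorem F34072 : act 1 n21646 = n21254 := d15_0 (iv0 D21254) D21257 (iv2 F34067)
def n21650 : Q := act 5 n10336
theorem D21650 : act 5 n10336 = n21650 := rfl
theorem F34074 : act 6 n21650 = n21363 := d21_3 F16815 D10336 D21650 (iv1 D21363) (iv6 D10185) D10184 D21357 F33553 (iv6 D21229) (iv1 D10127)
def n21651 : Q := act 6 n10336
theorem D21651 : act 6 n10336 = n21651 := rfl
theorem F34075 : act 5 n21651 = n21194 := d21_6 F3334 (iv1 F3001) (iv5 F7300) D4687 D10336 D21651 (iv1 D21194) (iv5 D10096) (iv6 D4592) (iv1 F7079)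
def n21655 : Q := act 6 n10337
theorem D21655 : act 6 n10337 = n21655 := rfl
def n21656 : Q := act 0 n10340
theorem D21656 : act 0 n10340 = n21656 := rfl
theorem F34077 : act 3 n21656 = n21307 := d20_5 (iv4 D9027) D9026 F14102 D10340 D21656 F33512 (iv1 D20927) (iv4 F15997) (iv3 D10151) (iv1 F14107)
theorem F34078 : act 1 n21298 = n21656 := d15_0 (iv0 D21656) F16453 D21298
def n21657 : Q := act 1 n10340
theorem D21657 : act 1 n10340 = n21657 := rfl
def n21658 : Q := act 2 n10340
theorem D21658 : act 2 n10340 = n21658 := rfl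
theorem F34079 : act 3 n21658 = n21308 := d0_2 D10340 D21658 (iv2 D21308) (iv3 D10170) F12228
theorem F34080 : act 7 n21658 = n21298 := d4_2 (iv7 F16453) D21658 (iv2 D21298)
theorem F34081 : act 1 n21658 = n21296 := d15_0 (iv0 D21296) (iv7 F16453) D21658
theorem F34082 : act 1 n21657 = n21298 := d15_1 D21657 (iv7 F34080) (iv2 D21658)
theorem F34083 : act 1 n21297 = n21658 := d15_1 D21297 F34080 (iv2 D21298)
def n21659 : Q := act 5 n10340
theorem D21659 : act 5 n10340 = n21659 := rfl
theorem F34084 : act 3 n21659 = n10341 := d6_1 D21659 (iv5 D10341) D10340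
theorem F34085 : act 7 n21659 = n21299 := d13_2 (iv7 F16453) D21659 (iv5 D21299)
def n21660 : Q := act 6 n10340
theorem D21660 : act 6 n10340 = n21660 := rfl
theorem F34086 : act 3 n21660 = n10342 := d7_1 D21660 (iv6 D10342) D10340
def n21661 : Q := act 6 n10341
theorem D21661 : act 6 n10341 = n21661 := rfl
theorem F34087 : act 2 n21661 = n21311 := d3_1 D21661 (iv6 D21311) (iv2 F16454)
def n21662 : Q := act 0 n10342
theorem D21662 : act 0 n10342 = n21662 := rfl
def n21663 : Q := act 1 n10342
theorem D21663 : act 1 n10342 = n21663 := rfl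
theorem F34088 : act 1 n21663 = n21315 := d15_1 D21663 (iv7 D21315) (iv2 F16457)
def n21664 : Q := act 5 n10342
theorem D21664 : act 5 n10342 = n21664 := rfl
theorem F34089 : act 2 n21664 = n21314 := d2_1 D21664 (iv5 D21314) (iv2 F16457)
def n21665 : Q := act 7 n10342
theorem D21665 : act 7 n10342 = n21665 := rfl
theorem F34090 : act 2 n21665 = n21315 := d4_1 D21665 (iv7 D21315) (iv2 F16457)
theorem F34091 : act 6 n21665 = n21305 := d14_1 D21665 (iv7 D21305) (iv6 D10169) F12230 D10342
theorem F34092 : act 1 n21315 = n21662 := d15_0 (iv0 D21662) D21665 F34090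
theorem F34093 : act 1 n21313 = n21665 := d15_1 D21313 (iv7 D21665) F16457
theorem F34094 : act 1 n21665 = n21312 := d15_0 (iv0 D21312) D21315 (iv2 F34090)
def n21666 : Q := act 0 n10343
theorem D21666 : act 0 n10343 = n21666 := rfl
theorem F34095 : act 4 n21666 = n16949 := d20_0 (iv1 D16949) D16950 (iv3 F34057) (iv1 F34060) (iv3 D21245) F15996 F13387 F7284 D10343 D21666
theorem F34096 : act 1 n21308 = n21666 := d15_0 (iv0 D21666) F16459 D21308
theorem F34097 : act 2 n21307 = n21666 := d1_3 F34095 (iv2 F33106) (iv4 F33512)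
theorem F34098 : act 7 n21306 = n21666 := d11_0 F34095 F33109 (iv4 F34056)
def n21667 : Q := act 1 n10343
theorem D21667 : act 1 n10343 = n21667 := rfl
theorem F34099 : act 7 n21667 = n21307 := d15_2 (iv0 D21666) D21667 F34097
theorem F34100 : act 4 n21667 = n16948 := d18_7 D7903 (iv4 F12598) D7954 D17027 (iv5 F27900) (iv4 F16458) D21667 (iv0 D16948) (iv5 D7905)
theorem F34101 : act 3 n20918 = n16948 := d20_5 (iv4 D4815) (iv1 F6914) F6916 D9944 D20918 (iv4 F34100) (iv1 D21667) F16458 (iv3 D9674) F7285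
theorem F34102 : act 7 n20774 = n20918 := d8_0 F34101 (iv7 F33107) (iv3 F33513)
theorem F34103 : act 0 n21308 = n21667 := d20_1 (iv4 F33514) F34100 (iv3 F34101) (iv1 F33086) F27775 D16950 (iv1 F34020) F34015 F33476 (iv1 F32386)
theorem F34104 : act 2 n21306 = n21667 := d15_3 (iv0 F34103) F34096 (iv7 F34098)
theorem F34105 : act 2 n20918 = n20775 := d15_3 F33093 F33091 F34102
theorem F34106 : act 2 n20774 = n20919 := d15_3 F33092 F33086 (iv7 F34102)
theorem F34107 : act 7 n20919 = n20775 := d4_2 (iv7 F34102) F34106 (iv2 F34105)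
theorem F34108 : act 3 n21296 = n21667 := d20_5 F16417 (iv1 F15041) F15042 D10167 D21296 F34100 (iv1 F27796) (iv4 F16425) (iv3 D10325) D10323
theorem F34109 : act 7 n21656 = n21296 := d8_0 F34108 F34099 (iv3 F34077)
theorem F34110 : act 2 n21296 = n21657 := d15_3 F34082 F34078 F34109
theorem F34111 : act 2 n21656 = n21297 := d15_3 F34083 F34081 (iv7 F34109)
theorem F34112 : act 7 n21297 = n21657 := d4_2 (iv7 F34109) F34111 (iv2 F34110)
def n21668 : Q := act 2 n10343
theorem D21668 : act 2 n10343 = n21668 := rfl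
theorem F34113 : act 3 n21668 = n21298 := d0_2 D10343 D21668 (iv2 D21298) (iv3 D10167) (iv2 F12229)
theorem F34114 : act 4 n21668 = n20394 := d1_2 (iv4 F16458) D21668 (iv2 D20394)
theorem F34115 : act 7 n21668 = n21308 := d4_2 (iv7 F16459) D21668 (iv2 D21308)
theorem F34116 : act 1 n21668 = n21306 := d15_0 (iv0 D21306) (iv7 F16459) D21668
theorem F34117 : act 1 n21307 = n21668 := d15_0 F34116 F34098 (iv2 F34097)
def n21669 : Q := act 6 n10343
theorem D21669 : act 6 n10343 = n21669 := rfl
theorem F34118 : act 3 n21669 = n10345 := d7_1 D21669 (iv6 D10345) D10343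
theorem F34119 : act 4 n21669 = n20395 := d10_1 D21669 (iv6 D20395) (iv4 F16458)
def n21670 : Q := act 6 n10344
theorem D21670 : act 6 n10344 = n21670 := rfl
theorem F34120 : act 2 n21670 = n21301 := d3_1 D21670 (iv6 D21301) (iv2 F16460)
def n21671 : Q := act 0 n10345
theorem D21671 : act 0 n10345 = n21671 := rfl
def n21672 : Q := act 1 n10345
theorem D21672 : act 1 n10345 = n21672 := rfl
theorem F34121 : act 1 n21672 = n21305 := d15_1 D21672 (iv7 D21305) (iv2 F16463)
def n21673 : Q := act 5 n10345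
theorem D21673 : act 5 n10345 = n21673 := rfl
theorem F34122 : act 2 n21673 = n21304 := d2_1 D21673 (iv5 D21304) (iv2 F16463)
def n21674 : Q := act 7 n10345
theorem D21674 : act 7 n10345 = n21674 := rfl
theorem F34123 : act 2 n21674 = n21305 := d4_1 D21674 (iv7 D21305) (iv2 F16463)
theorem F34124 : act 4 n21674 = n20384 := d11_1 D21674 (iv7 D20384) (iv4 F16464)
theorem F34125 : act 6 n21674 = n21315 := d14_1 D21674 (iv7 D21315) (iv6 D10172) (iv7 F12227) D10345
theorem F34126 : act 1 n21305 = n21671 := d15_0 (iv0 D21671) D21674 F34123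
theorem F34127 : act 1 n21303 = n21674 := d15_1 D21303 (iv7 D21674) F16463
def n21675 : Q := act 3 n10346
theorem D21675 : act 3 n10346 = n21675 := rfl
theorem F34129 : act 5 n21675 = n10908 := d6_2 (iv5 F16465) D21675 (iv3 D10908)
theorem F34130 : act 7 n21675 = n21316 := d8_2 F16468 D21675 (iv3 D21316)
def n21676 : Q := act 6 n10346
theorem D21676 : act 6 n10346 = n21676 := rfl
theorem F34131 : act 2 n21676 = n21319 := d3_1 D21676 (iv6 D21319) F16467
def n21677 : Q := act 3 n10347
theorem D21677 : act 3 n10347 = n21677 := rfl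
theorem F34132 : act 5 n21677 = n10910 := d6_2 (iv5 F16471) D21677 (iv3 D10910)
theorem F34133 : act 7 n21677 = n21318 := d8_2 (iv7 F16470) D21677 (iv3 D21318)
def n21678 : Q := act 6 n10347
theorem D21678 : act 6 n10347 = n21678 := rfl
theorem F34134 : act 2 n21678 = n21317 := d3_1 D21678 (iv6 D21317) F16472
def n21679 : Q := act 3 n10348
theorem D21679 : act 3 n10348 = n21679 := rfl
theorem F34135 : act 4 n21679 = n21320 := d5_2 D10348 D21679 (iv3 D21320) (iv4 D10175) (iv3 F6787)
theorem F34136 : act 5 n21679 = n17903 := d6_2 (iv5 F16474) D21679 (iv3 D17903)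
theorem F34137 : act 7 n21679 = n21320 := d8_2 (iv7 F16475) D21679 (iv3 D21320)
def n21680 : Q := act 6 n10348
theorem D21680 : act 6 n10348 = n21680 := rfl
theorem F34138 : act 2 n21680 = n17934 := d3_1 D21680 (iv6 D17934) (iv2 F16473)
theorem F34139 : act 4 n21680 = n10349 := d10_1 D21680 (iv6 D10349) D10348
def n21681 : Q := act 0 n10349
theorem D21681 : act 0 n10349 = n21681 := rfl
def n21682 : Q := act 1 n10349
theorem D21682 : act 1 n10349 = n21682 := rfl
def n21683 : Q := act 5 n10349
theorem D21683 : act 5 n10349 = n21683 := rfl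
theorem F34140 : act 3 n21683 = n21324 := d6_1 D21683 (iv5 D21324) (iv3 F16476)
theorem F34141 : act 6 n21683 = n10352 := d12_2 D10349 D21683 (iv5 D10352) (iv6 D4691) D4690
def n21684 : Q := act 7 n10349
theorem D21684 : act 7 n10349 = n21684 := rfl
theorem F34142 : act 3 n21684 = n21325 := d8_1 D21684 (iv7 D21325) (iv3 F16476)
theorem F34143 : act 6 n21684 = n21325 := d14_1 D21684 (iv7 D21325) (iv6 D10176) (iv7 F6788) D10349
def n21685 : Q := act 2 n10350
theorem D21685 : act 2 n10350 = n21685 := rfl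
theorem F34144 : act 7 n10351 = n21685 := d15_2 (iv0 D10350) D10351 (iv2 D21685)
def n21686 : Q := act 3 n10350
theorem D21686 : act 3 n10350 = n21686 := rfl
def n21687 : Q := act 4 n10350
theorem D21687 : act 4 n10350 = n21687 := rfl
def n21688 : Q := act 5 n10350
theorem D21688 : act 5 n10350 = n21688 := rfl
def n21689 : Q := act 6 n10350
theorem D21689 : act 6 n10350 = n21689 := rfl
def n21690 : Q := act 7 n10350
theorem D21690 : act 7 n10350 = n21690 := rfl
theorem F34145 : act 2 n21690 = n10351 := d4_1 D21690 F34144 (iv2 D21685)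
def n21691 : Q := act 3 n10351
theorem D21691 : act 3 n10351 = n21691 := rfl
def n21692 : Q := act 5 n10351
theorem D21692 : act 5 n10351 = n21692 := rfl
def n21693 : Q := act 6 n10351
theorem D21693 : act 6 n10351 = n21693 := rfl
def n21694 : Q := act 0 n10352
theorem D21694 : act 0 n10352 = n21694 := rfl
def n21695 : Q := act 1 n10352
theorem D21695 : act 1 n10352 = n21695 := rfl
def n21696 : Q := act 4 n10352
theorem D21696 : act 4 n10352 = n21696 := rfl
def n21697 : Q := act 7 n10352
theorem D21697 : act 7 n10352 = n21697 := rfl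
theorem F34146 : act 3 n21697 = n21338 := d8_1 D21697 (iv7 D21338) (iv3 F16477)
theorem F34147 : act 5 n21697 = n10353 := d13_1 D21697 (iv7 D10353) D10352
def n21699 : Q := act 1 n10354
theorem D21699 : act 1 n10354 = n21699 := rfl
theorem F34149 : act 1 n21699 = n10359 := d15_1 D21699 (iv7 D10359) D10354
def n21700 : Q := act 3 n10354
theorem D21700 : act 3 n10354 = n21700 := rfl
theorem F34150 : act 7 n21700 = n10360 := d8_2 F16481 D21700 (iv3 D10360)
def n21701 : Q := act 4 n10354
theorem D21701 : act 4 n10354 = n21701 := rfl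
theorem F34151 : act 2 n21701 = n10356 := d1_1 D21701 (iv4 D10356) D10354
theorem F34152 : act 7 n21701 = n10361 := d11_2 F16481 D21701 (iv4 D10361)
def n21702 : Q := act 5 n10354
theorem D21702 : act 5 n10354 = n21702 := rfl
theorem F34153 : act 2 n21702 = n10357 := d2_1 D21702 (iv5 D10357) D10354
theorem F34154 : act 7 n21702 = n10362 := d13_2 F16481 D21702 (iv5 D10362)
def n21703 : Q := act 6 n10354
theorem D21703 : act 6 n10354 = n21703 := rfl
theorem F34155 : act 2 n21703 = n10358 := d3_1 D21703 (iv6 D10358) D10354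
def n21704 : Q := act 0 n10355
theorem D21704 : act 0 n10355 = n21704 := rfl
def n21705 : Q := act 1 n10355
theorem D21705 : act 1 n10355 = n21705 := rfl
def n21706 : Q := act 2 n10355
theorem D21706 : act 2 n10355 = n21706 := rfl
def n21707 : Q := act 5 n10355
theorem D21707 : act 5 n10355 = n21707 := rfl
theorem F34156 : act 3 n21707 = n10357 := d6_1 D21707 (iv5 D10357) D10355
def n21708 : Q := act 6 n10355
theorem D21708 : act 6 n10355 = n21708 := rfl
theorem F34157 : act 3 n21708 = n10358 := d7_1 D21708 (iv6 D10358) D10355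
def n21709 : Q := act 7 n10355
theorem D21709 : act 7 n10355 = n21709 := rfl
theorem F34158 : act 3 n21709 = n10359 := d8_1 D21709 (iv7 D10359) D10355
def n21710 : Q := act 0 n10356
theorem D21710 : act 0 n10356 = n21710 := rfl
theorem F34159 : act 4 n21710 = n21072 := d20_2 D10356 D21710 (iv3 D21072) (iv1 D10025) (iv3 D4565) F14812 (iv1 D1923) (iv4 F1877) (iv3 F3250) D4692
def n21711 : Q := act 1 n10356
theorem D21711 : act 1 n10356 = n21711 := rfl
theorem F34160 : act 1 n21711 = n10361 := d15_1 D21711 (iv7 F34152) F34151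
def n21712 : Q := act 3 n10356
theorem D21712 : act 3 n10356 = n21712 := rfl
def n21713 : Q := act 5 n10356
theorem D21713 : act 5 n10356 = n21713 := rfl
def n21714 : Q := act 6 n10356
theorem D21714 : act 6 n10356 = n21714 := rfl
theorem F34161 : act 4 n21714 = n10358 := d10_1 D21714 (iv6 D10358) D10356
def n21715 : Q := act 7 n10356
theorem D21715 : act 7 n10356 = n21715 := rfl
theorem F34162 : act 2 n21715 = n10361 := d4_1 D21715 (iv7 F34152) F34151
theorem F34163 : act 4 n21715 = n10359 := d11_1 D21715 (iv7 D10359) D10356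
theorem F34164 : act 1 n10361 = n21710 := d15_0 (iv0 D21710) D21715 F34162
def n21716 : Q := act 0 n10357
theorem D21716 : act 0 n10357 = n21716 := rfl
theorem F34165 : act 5 n21716 = n21499 := d21_2 D10357 D21716 (iv6 D21499) (iv1 D10258) (iv6 D4655) (iv5 D1932) (iv1 D991) D994 D1944 D4692
def n21717 : Q := act 1 n10357
theorem D21717 : act 1 n10357 = n21717 := rfl
theorem F34166 : act 1 n21717 = n10362 := d15_1 D21717 (iv7 F34154) F34153
def n21718 : Q := act 4 n10357
theorem D21718 : act 4 n10357 = n21718 := rfl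
def n21719 : Q := act 6 n10357
theorem D21719 : act 6 n10357 = n21719 := rfl
def n21720 : Q := act 7 n10357
theorem D21720 : act 7 n10357 = n21720 := rfl
theorem F34167 : act 2 n21720 = n10362 := d4_1 D21720 (iv7 F34154) F34153
theorem F34168 : act 5 n21720 = n10359 := d13_1 D21720 (iv7 D10359) D10357
theorem F34169 : act 1 n10362 = n21716 := d15_0 (iv0 D21716) D21720 F34167
theorem F34170 : act 0 n10363 = n21650 := d21_10 (iv5 D21650) (iv1 F16450) (iv5 F16971) F16177 (iv1 F16224) D21499 (iv5 F34165) (iv1 F34169) (iv5 D10362) D10363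
def n21721 : Q := act 0 n10358
theorem D21721 : act 0 n10358 = n21721 := rfl
def n21722 : Q := act 1 n10358
theorem D21722 : act 1 n10358 = n21722 := rfl
theorem F34171 : act 6 n21377 = n21722 := d21_3 D10259 D21500 (iv5 F33804) (iv1 D21722) (iv6 D10358) D10357 D21716 F34165 (iv6 D21499) (iv1 D10258)
def n21723 : Q := act 5 n10358
theorem D21723 : act 5 n10358 = n21723 := rfl
theorem F34172 : act 0 n21723 = n10852 := d21_1 D21723 (iv5 D10852) (iv6 D4947) (iv1 F7267) D4655 D10259 D21500 (iv5 F33804) F34171 (iv1 D21722)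
theorem F34173 : act 0 n10877 = n21723 := d21_1 (iv5 F17661) (iv5 D21723) (iv6 D10358) (iv1 F16289) F16286 F15991 (iv1 F15993) D10189 (iv6 F17643) (iv1 F17650)
def n21724 : Q := act 7 n10358
theorem D21724 : act 7 n10358 = n21724 := rfl
def n21725 : Q := act 6 n10359
theorem D21725 : act 6 n10359 = n21725 := rfl
theorem F34174 : act 2 n21725 = n10363 := d3_1 D21725 (iv6 D10363) (iv2 F16482)
def n21726 : Q := act 0 n10360
theorem D21726 : act 0 n10360 = n21726 := rfl
theorem F34175 : act 4 n21726 = n21079 := d20_0 (iv1 F33275) (iv4 D21044) F15823 (iv1 F15846) D21072 (iv4 F34159) (iv1 F34164) (iv4 D10361) D10360 D21726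
theorem F34176 : act 3 n21726 = n21705 := d20_3 D10027 D21079 (iv4 F34175) (iv1 D21705) (iv3 D10355) D10356 D21710 F34159 (iv3 D21072) (iv1 D10025)
def n21727 : Q := act 1 n10360
theorem D21727 : act 1 n10360 = n21727 := rfl
def n21728 : Q := act 2 n10360
theorem D21728 : act 2 n10360 = n21728 := rfl
def n21729 : Q := act 4 n10360
theorem D21729 : act 4 n10360 = n21729 := rfl
theorem F34177 : act 0 n21036 = n21729 := d20_1 D21036 (iv4 D21729) (iv3 D10360) (iv1 D4693) F3250 F1877 D1922 (iv4 F14803) D4560 D10013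
def n21730 : Q := act 5 n10360
theorem D21730 : act 5 n10360 = n21730 := rfl
theorem F34178 : act 3 n21730 = n10362 := d6_1 D21730 (iv5 D10362) D10360
def n21731 : Q := act 6 n10360
theorem D21731 : act 6 n10360 = n21731 := rfl
theorem F34179 : act 3 n21731 = n10363 := d7_1 D21731 (iv6 D10363) D10360
def n21732 : Q := act 3 n10361
theorem D21732 : act 3 n10361 = n21732 := rfl
def n21733 : Q := act 5 n10361
theorem D21733 : act 5 n10361 = n21733 := rfl
def n21734 : Q := act 6 n10361
theorem D21734 : act 6 n10361 = n21734 := rfl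
theorem F34180 : act 4 n21734 = n10363 := d10_1 D21734 (iv6 D10363) D10361
def n21735 : Q := act 4 n10362
theorem D21735 : act 4 n10362 = n21735 := rfl
def n21736 : Q := act 1 n10363
theorem D21736 : act 1 n10363 = n21736 := rfl
def n21737 : Q := act 5 n10363
theorem D21737 : act 5 n10363 = n21737 := rfl
theorem F34181 : act 0 n21457 = n21737 := d21_1 D21457 (iv5 D21737) (iv6 D10363) (iv1 D4693) (iv6 D1944) (iv5 D994) D990 D1927 D4644 D10223
def n21738 : Q := act 7 n10363
theorem D21738 : act 7 n10363 = n21738 := rfl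
def n21739 : Q := act 2 n10364
theorem D21739 : act 2 n10364 = n21739 := rfl
theorem F34182 : act 7 n10365 = n21739 := d15_2 (iv0 D10364) D10365 (iv2 D21739)
def n21740 : Q := act 3 n10364
theorem D21740 : act 3 n10364 = n21740 := rfl
def n21741 : Q := act 4 n10364
theorem D21741 : act 4 n10364 = n21741 := rfl
def n21742 : Q := act 5 n10364
theorem D21742 : act 5 n10364 = n21742 := rfl
def n21743 : Q := act 7 n10364
theorem D21743 : act 7 n10364 = n21743 := rfl
theorem F34183 : act 2 n21743 = n10365 := d4_1 D21743 F34182 (iv2 D21739)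
def n21744 : Q := act 3 n10365
theorem D21744 : act 3 n10365 = n21744 := rfl
def n21745 : Q := act 4 n10365
theorem D21745 : act 4 n10365 = n21745 := rfl
def n21746 : Q := act 5 n10365
theorem D21746 : act 5 n10365 = n21746 := rfl
theorem F34184 : act 6 n21746 = n10904 := d21_3 (iv5 F33877) (iv1 F33880) D21746 (iv1 F17718) F7405 (iv5 F17661) F34173 (iv5 D21723) (iv6 D10358) (iv1 F16289)
def n21748 : Q := act 0 n10366
theorem D21748 : act 0 n10366 = n21748 := rfl
def n21749 : Q := act 1 n10366
theorem D21749 : act 1 n10366 = n21749 := rfl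
def n21753 : Q := act 6 n10370
theorem D21753 : act 6 n10370 = n21753 := rfl
def n21754 : Q := act 1 n10374
theorem D21754 : act 1 n10374 = n21754 := rfl
theorem F34190 : act 4 n21754 = n19200 := d18_7 (iv1 F14109) (iv4 F16135) F17428 (iv4 D4697) D4698 D10374 D21754 (iv0 F30863) (iv5 D19212)
def n21757 : Q := act 6 n10374
theorem D21757 : act 6 n10374 = n21757 := rfl
theorem F34196 : act 4 n21757 = n10375 := d10_1 D21757 (iv6 D10375) D10374
def n21760 : Q := act 7 n10375
theorem D21760 : act 7 n10375 = n21760 := rfl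
def n21761 : Q := act 6 n10382
theorem D21761 : act 6 n10382 = n21761 := rfl
theorem F34198 : act 3 n21761 = n10387 := d7_1 D21761 (iv6 D10387) (iv3 F16512)
def n21762 : Q := act 6 n10384
theorem D21762 : act 6 n10384 = n21762 := rfl
theorem F34199 : act 2 n21762 = n21753 := d3_1 D21762 (iv6 D21753) (iv2 F16515)
theorem F34200 : act 3 n21762 = n17788 := d7_1 D21762 (iv6 D17788) (iv3 F16516)
def n21763 : Q := act 5 n10385
theorem D21763 : act 5 n10385 = n21763 := rfl
theorem F34201 : act 2 n21763 = n19120 := d2_1 D21763 (iv5 D19120) F16878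
theorem F34202 : act 3 n21763 = n12880 := d6_1 D21763 (iv5 D12880) F16905
theorem F34203 : act 7 n21763 = n17512 := d13_2 (iv7 F16915) D21763 F28514
theorem F34204 : act 0 n21763 = n21476 := d17_2 (iv1 F30744) D21763 (iv5 D21476) F16935 D19857 (iv0 F31912) (iv5 D20102) (iv0 F30731) (iv4 F30741)
theorem F34205 : act 1 n21763 = n21477 := d17_6 (iv1 F16771) D10269 F16894 (iv5 F13986) (iv4 F16520) D21763 (iv5 D21477) (iv0 F16746) F13932
def n21766 : Q := act 6 n10386
theorem D21766 : act 6 n10386 = n21766 := rfl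
theorem F34209 : act 2 n21766 = n21757 := d3_1 D21766 (iv6 D21757) (iv2 F16521)
theorem F34210 : act 4 n21766 = n10387 := d10_1 D21766 (iv6 D10387) D10386
def n21767 : Q := act 0 n10387
theorem D21767 : act 0 n10387 = n21767 := rfl
def n21769 : Q := act 7 n10387
theorem D21769 : act 7 n10387 = n21769 := rfl
theorem F34212 : act 2 n21769 = n21760 := d4_1 D21769 (iv7 D21760) (iv2 F16523)
theorem F34214 : act 1 n21760 = n21767 := d15_0 (iv0 D21767) D21769 F34212
def n21772 : Q := act 6 n10398
theorem D21772 : act 6 n10398 = n21772 := rfl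
def n21775 : Q := act 6 n10399
theorem D21775 : act 6 n10399 = n21775 := rfl
theorem F34227 : act 2 n21775 = n21772 := d3_1 D21775 (iv6 D21772) (iv2 F16547)
theorem F34228 : act 4 n21775 = n21005 := d10_1 D21775 (iv6 D21005) F16875
def n21783 : Q := act 3 n10402
theorem D21783 : act 3 n10402 = n21783 := rfl
theorem F34240 : act 4 n21783 = n21080 := d20_6 F1849 D1877 F14794 D4709 D10402 D21783 (iv1 D21080) (iv4 D10027) (iv3 D4565) (iv1 D1900)
def n21784 : Q := act 4 n10402
theorem D21784 : act 4 n10402 = n21784 := rfl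
theorem F34241 : act 0 n21784 = n20982 := d20_1 D21784 (iv4 D20982) (iv3 D9959) (iv1 D4543) F3185 F1849 D1877 F14794 D4709 D10402
def n21792 : Q := act 4 n10404
theorem D21792 : act 4 n10404 = n21792 := rfl
theorem F34243 : act 2 n21792 = n10405 := d1_1 D21792 (iv4 D10405) D10404
def n21793 : Q := act 5 n10404
theorem D21793 : act 5 n10404 = n21793 := rfl
theorem F34244 : act 2 n21793 = n10406 := d2_1 D21793 (iv5 D10406) D10404
def n21794 : Q := act 6 n10404
theorem D21794 : act 6 n10404 = n21794 := rfl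
theorem F34246 : act 2 n21794 = n10407 := d3_1 D21794 (iv6 D10407) D10404
def n21795 : Q := act 0 n10405
theorem D21795 : act 0 n10405 = n21795 := rfl
def n21796 : Q := act 1 n10405
theorem D21796 : act 1 n10405 = n21796 := rfl
theorem F34248 : act 4 n21067 = n21796 := d20_6 F3258 (iv1 F3222) (iv4 F14812) D4565 D10024 D21067 (iv1 D21796) (iv4 D10405) (iv3 D4709) (iv1 F3260)
def n21797 : Q := act 5 n10405
theorem D21797 : act 5 n10405 = n21797 := rfl
theorem F34249 : act 3 n21797 = n20863 := d6_1 D21797 (iv5 D20863) (iv3 F16553)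
def n21798 : Q := act 6 n10405
theorem D21798 : act 6 n10405 = n21798 := rfl
theorem F34250 : act 3 n21798 = n20864 := d7_1 D21798 (iv6 D20864) (iv3 F16553)
theorem F34251 : act 4 n21798 = n10407 := d10_1 D21798 (iv6 D10407) D10405
def n21799 : Q := act 0 n10406
theorem D21799 : act 0 n10406 = n21799 := rfl
def n21800 : Q := act 1 n10406
theorem D21800 : act 1 n10406 = n21800 := rfl
def n21801 : Q := act 4 n10406
theorem D21801 : act 4 n10406 = n21801 := rfl
def n21802 : Q := act 6 n10406
theorem D21802 : act 6 n10406 = n21802 := rfl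
def n21803 : Q := act 0 n10407
theorem D21803 : act 0 n10407 = n21803 := rfl
def n21804 : Q := act 1 n10407
theorem D21804 : act 1 n10407 = n21804 := rfl
def n21805 : Q := act 3 n10408
theorem D21805 : act 3 n10408 = n21805 := rfl
theorem F34253 : act 5 n21805 = n11076 := d6_2 (iv5 F16556) D21805 F17945
def n21806 : Q := act 3 n10409
theorem D21806 : act 3 n10409 = n21806 := rfl
theorem F34255 : act 7 n21806 = n21805 := d8_2 (iv7 F16560) D21806 (iv3 D21805)
def n21810 : Q := act 3 n10412
theorem D21810 : act 3 n10412 = n21810 := rfl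
theorem F34261 : act 4 n21810 = n21048 := d20_6 F3193 (iv1 F3167) F14791 D4714 D10412 D21810 (iv1 D21048) (iv4 D10016) (iv3 D4560) (iv1 F3195)
def n21815 : Q := act 3 n10413
theorem D21815 : act 3 n10413 = n21815 := rfl
theorem F34263 : act 4 n20964 = n21815 := d20_2 D9955 D20964 (iv3 D21815) (iv1 D10413) (iv3 D4714) (iv4 F14791) (iv1 D1878) (iv4 F1849) (iv3 F3185) D4542
def n21819 : Q := act 4 n10414
theorem D21819 : act 4 n10414 = n21819 := rfl
theorem F34264 : act 2 n21819 = n10415 := d1_1 D21819 (iv4 D10415) D10414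
theorem F34265 : act 7 n21819 = n21792 := d11_2 (iv7 F16567) D21819 (iv4 D21792)
theorem F34266 : act 0 n21819 = n21796 := d20_1 D21819 (iv4 F34248) (iv3 D21067) (iv1 F15842) F15823 D21044 (iv1 F33276) (iv4 F34240) (iv3 D21783) (iv1 F16568)
def n21820 : Q := act 5 n10414
theorem D21820 : act 5 n10414 = n21820 := rfl
theorem F34268 : act 2 n21820 = n10416 := d2_1 D21820 (iv5 D10416) D10414
theorem F34270 : act 7 n21820 = n21793 := d13_2 (iv7 F16567) D21820 (iv5 D21793)
def n21821 : Q := act 6 n10414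
theorem D21821 : act 6 n10414 = n21821 := rfl
theorem F34273 : act 2 n21821 = n10417 := d3_1 D21821 (iv6 D10417) D10414
def n21822 : Q := act 0 n10415
theorem D21822 : act 0 n10415 = n21822 := rfl
theorem F34275 : act 1 n21792 = n21822 := d15_0 (iv0 D21822) F16572 (iv2 F34243)
theorem F34276 : act 4 n20979 = n21822 := d20_0 (iv1 F34275) (iv4 D21792) F16552 (iv1 F16569) D21815 (iv4 F34263) (iv1 F33149) (iv4 D9960) D9959 D20979
theorem F34277 : act 3 n20979 = n20958 := d20_3 D10415 D21822 (iv4 F34276) (iv1 D20958) (iv3 D9954) D9955 D20964 F34263 (iv3 D21815) (iv1 D10413)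
def n21823 : Q := act 1 n10415
theorem D21823 : act 1 n10415 = n21823 := rfl
theorem F34278 : act 1 n21823 = n21792 := d15_1 D21823 (iv7 F34265) F34264
theorem F34279 : act 4 n21035 = n21823 := d20_6 F1877 D1922 (iv4 F14803) D4560 D10013 D21035 (iv1 D21823) (iv4 D10415) (iv3 D4714) (iv1 D1949)
def n21824 : Q := act 5 n10415
theorem D21824 : act 5 n10415 = n21824 := rfl
theorem F34280 : act 3 n21824 = n20886 := d6_1 D21824 (iv5 D20886) (iv3 F16571)
theorem F34281 : act 7 n21824 = n21797 := d13_2 (iv7 F16572) D21824 (iv5 D21797)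
def n21825 : Q := act 6 n10415
theorem D21825 : act 6 n10415 = n21825 := rfl
theorem F34282 : act 3 n21825 = n20887 := d7_1 D21825 (iv6 D20887) (iv3 F16571)
theorem F34283 : act 4 n21825 = n10417 := d10_1 D21825 (iv6 D10417) D10415
def n21826 : Q := act 0 n10416
theorem D21826 : act 0 n10416 = n21826 := rfl
theorem F34284 : act 1 n21793 = n21826 := d15_0 (iv0 D21826) F16574 (iv2 F34244)
def n21827 : Q := act 1 n10416
theorem D21827 : act 1 n10416 = n21827 := rfl
theorem F34285 : act 1 n21827 = n21793 := d15_1 D21827 (iv7 F34270) F34268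
def n21828 : Q := act 4 n10416
theorem D21828 : act 4 n10416 = n21828 := rfl
theorem F34286 : act 7 n21828 = n21801 := d11_2 (iv7 F16574) D21828 (iv4 D21801)
def n21829 : Q := act 0 n10417
theorem D21829 : act 0 n10417 = n21829 := rfl
def n21830 : Q := act 1 n10417
theorem D21830 : act 1 n10417 = n21830 := rfl
def n21832 : Q := act 0 n10419
theorem D21832 : act 0 n10419 = n21832 := rfl
def n21833 : Q := act 1 n10419
theorem D21833 : act 1 n10419 = n21833 := rfl
def n21834 : Q := act 2 n10419
theorem D21834 : act 2 n10419 = n21834 := rfl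
theorem F34291 : act 6 n21834 = n21820 := d3_2 (iv6 F16580) D21834 F34268
def n21835 : Q := act 4 n10419
theorem D21835 : act 4 n10419 = n21835 := rfl
def n21838 : Q := act 2 n10420
theorem D21838 : act 2 n10420 = n21838 := rfl
theorem F34295 : act 7 n21838 = n21834 := d4_2 (iv7 F16581) D21838 (iv2 D21834)
def n21840 : Q := act 6 n10420
theorem D21840 : act 6 n10420 = n21840 := rfl
def n21855 : Q := act 0 n10427
theorem D21855 : act 0 n10427 = n21855 := rfl
theorem F34310 : act 1 n10625 = n21855 := d15_0 (iv0 D21855) F16598 D10625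
def n21856 : Q := act 1 n10427
theorem D21856 : act 1 n10427 = n21856 := rfl
theorem F34311 : act 1 n21856 = n10625 := d15_1 D21856 F17165 (iv2 F16596)
def n21857 : Q := act 6 n10427
theorem D21857 : act 6 n10427 = n21857 := rfl
theorem F34312 : act 2 n21857 = n19254 := d3_1 D21857 (iv6 D19254) (iv2 F16596)
theorem F34313 : act 3 n21857 = n10428 := d7_1 D21857 (iv6 D10428) D10427
theorem F34314 : act 4 n21857 = n21857 := d10_1 D21857 (iv6 D21857) F16597
def n21858 : Q := act 0 n10428
theorem D21858 : act 0 n10428 = n21858 := rfl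
def n21859 : Q := act 1 n10428
theorem D21859 : act 1 n10428 = n21859 := rfl
theorem F34315 : act 1 n21859 = n10772 := d15_1 D21859 F17294 (iv2 F16599)
def n21860 : Q := act 5 n10428
theorem D21860 : act 5 n10428 = n21860 := rfl
theorem F34316 : act 2 n21860 = n10775 := d2_1 D21860 (iv5 D10775) (iv2 F16599)
def n21861 : Q := act 7 n10428
theorem D21861 : act 7 n10428 = n21861 := rfl
theorem F34317 : act 2 n21861 = n10772 := d4_1 D21861 F17294 (iv2 F16599)
theorem F34318 : act 4 n21861 = n10432 := d11_1 D21861 (iv7 D10432) (iv4 F16600)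
theorem F34319 : act 6 n21861 = n10632 := d14_1 D21861 (iv7 D10632) (iv6 D4863) (iv7 F6814) D10428
theorem F34320 : act 1 n10772 = n21858 := d15_0 (iv0 D21858) D21861 F34317
theorem F34321 : act 1 n10774 = n21861 := d15_1 D10774 (iv7 D21861) F16599
theorem F34322 : act 4 n10978 = n21858 := d20_6 (iv4 D2068) (iv1 D1026) (iv4 F1904) (iv3 F3356) D5001 D10978 (iv1 F34320) F17293 F7351 F16089
theorem F34323 : act 1 n21861 = n10773 := d15_0 (iv0 D10773) (iv7 F17294) (iv2 F34317)
def n21862 : Q := act 2 n10429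
theorem D21862 : act 2 n10429 = n21862 := rfl
theorem F34324 : act 7 n10430 = n21862 := d15_2 (iv0 D10429) D10430 (iv2 D21862)
def n21863 : Q := act 3 n10429
theorem D21863 : act 3 n10429 = n21863 := rfl
def n21864 : Q := act 4 n10429
theorem D21864 : act 4 n10429 = n21864 := rfl
def n21865 : Q := act 5 n10429
theorem D21865 : act 5 n10429 = n21865 := rfl
def n21866 : Q := act 6 n10429
theorem D21866 : act 6 n10429 = n21866 := rfl
theorem F34325 : act 5 n21866 = n19708 := d21_6 (iv5 D1003) D999 D1953 D4724 D10429 D21866 (iv1 D19708) (iv5 D9249) (iv6 D4181) F6908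
def n21867 : Q := act 7 n10429
theorem D21867 : act 7 n10429 = n21867 := rfl
theorem F34326 : act 2 n21867 = n10430 := d4_1 D21867 F34324 (iv2 D21862)
def n21868 : Q := act 3 n10430
theorem D21868 : act 3 n10430 = n21868 := rfl
theorem F34327 : act 4 n21868 = n10744 := d20_6 (iv4 F15274) (iv1 F3022) (iv4 F3368) (iv3 F7351) (iv1 F16601) D21868 (iv1 D10744) F7341 F3356 D2057
def n21869 : Q := act 4 n10430
theorem D21869 : act 4 n10430 = n21869 := rfl
def n21870 : Q := act 5 n10430
theorem D21870 : act 5 n10430 = n21870 := rfl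
theorem F34328 : act 6 n20347 = n21870 := d21_5 (iv5 D9150) F17449 D4337 D9633 D20347 (iv5 D21870) (iv1 D10430) D10431 F16604 F14256
def n21871 : Q := act 6 n10430
theorem D21871 : act 6 n10430 = n21871 := rfl
def n21872 : Q := act 0 n10431
theorem D21872 : act 0 n10431 = n21872 := rfl
def n21873 : Q := act 4 n10431
theorem D21873 : act 4 n10431 = n21873 := rfl
theorem F34329 : act 2 n21873 = n10830 := d1_1 D21873 (iv4 D10830) (iv2 F16602)
theorem F34330 : act 6 n21873 = n10433 := d10_2 (iv6 F16604) D21873 (iv4 D10433)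
def n21874 : Q := act 7 n10431
theorem D21874 : act 7 n10431 = n21874 := rfl
theorem F34331 : act 2 n21874 = n10817 := d4_1 D21874 F17369 (iv2 F16602)
theorem F34332 : act 3 n21874 = n21874 := d8_1 D21874 (iv7 D21874) F16603
theorem F34333 : act 5 n21874 = n10432 := d13_1 D21874 (iv7 D10432) D10431
theorem F34334 : act 1 n10817 = n21872 := d15_0 (iv0 D21872) D21874 F34331
theorem F34335 : act 1 n10829 = n21874 := d15_1 D10829 (iv7 D21874) F16602
theorem F34336 : act 1 n21874 = n10828 := d15_0 (iv0 D10828) (iv7 F17369) (iv2 F34331)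
def n21875 : Q := act 3 n10433
theorem D21875 : act 3 n10433 = n21875 := rfl
theorem F34337 : act 4 n21875 = n21875 := d5_2 D10433 D21875 (iv3 D21875) (iv4 D10433) F6820
def n21876 : Q := act 5 n10433
theorem D21876 : act 5 n10433 = n21876 := rfl
theorem F34338 : act 2 n21876 = n10846 := d2_1 D21876 (iv5 D10846) (iv2 F16611)
def n21877 : Q := act 0 n10434
theorem D21877 : act 0 n10434 = n21877 := rfl
def n21878 : Q := act 1 n10434
theorem D21878 : act 1 n10434 = n21878 := rfl
theorem F34339 : act 1 n21878 = n10479 := d15_1 D21878 (iv7 D10479) (iv2 F16612)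
def n21879 : Q := act 7 n10434
theorem D21879 : act 7 n10434 = n21879 := rfl
theorem F34340 : act 2 n21879 = n10479 := d4_1 D21879 (iv7 D10479) (iv2 F16612)
theorem F34341 : act 3 n21879 = n18913 := d8_1 D21879 (iv7 D18913) (iv3 F16613)
theorem F34342 : act 5 n21879 = n21879 := d13_1 D21879 (iv7 D21879) F16614
theorem F34343 : act 6 n21879 = n10539 := d14_1 D21879 (iv7 D10539) (iv6 D4824) (iv7 F6826) D10434
theorem F34344 : act 1 n10479 = n21877 := d15_0 (iv0 D21877) D21879 F34340
theorem F34345 : act 1 n10478 = n21879 := d15_1 D10478 (iv7 D21879) F16612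
theorem F34346 : act 1 n21879 = n10477 := d15_0 (iv0 D10477) D10479 (iv2 F34340)
def n21880 : Q := act 0 n10435
theorem D21880 : act 0 n10435 = n21880 := rfl
def n21881 : Q := act 1 n10435
theorem D21881 : act 1 n10435 = n21881 := rfl
theorem F34347 : act 1 n21881 = n21207 := d15_1 D21881 (iv7 D21207) (iv2 F16615)
def n21882 : Q := act 7 n10435
theorem D21882 : act 7 n10435 = n21882 := rfl
theorem F34348 : act 2 n21882 = n21207 := d4_1 D21882 (iv7 D21207) (iv2 F16615)
theorem F34349 : act 3 n21882 = n20894 := d8_1 D21882 (iv7 D20894) (iv3 F16616)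
theorem F34351 : act 1 n21206 = n21882 := d15_1 D21206 (iv7 D21882) F16615
theorem F34352 : act 1 n21882 = n21205 := d15_0 (iv0 D21205) D21207 (iv2 F34348)
def n21883 : Q := act 0 n10440
theorem D21883 : act 0 n10440 = n21883 := rfl
def n21884 : Q := act 1 n10440
theorem D21884 : act 1 n10440 = n21884 := rfl
theorem F34353 : act 1 n21884 = n10450 := d15_1 D21884 (iv7 D10450) (iv2 F16625)
def n21885 : Q := act 7 n10440
theorem D21885 : act 7 n10440 = n21885 := rfl
theorem F34354 : act 2 n21885 = n10450 := d4_1 D21885 (iv7 D10450) (iv2 F16625)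
theorem F34355 : act 5 n21885 = n21885 := d13_1 D21885 (iv7 D21885) F16626
theorem F34356 : act 1 n10450 = n21883 := d15_0 (iv0 D21883) D21885 F34354
theorem F34357 : act 1 n10449 = n21885 := d15_1 D10449 (iv7 D21885) F16625
theorem F34358 : act 1 n21885 = n10448 := d15_0 (iv0 D10448) D10450 (iv2 F34354)
def n21886 : Q := act 6 n10441
theorem D21886 : act 6 n10441 = n21886 := rfl
theorem F34359 : act 2 n21886 = n10468 := d3_1 D21886 (iv6 D10468) (iv2 F16627)
theorem F34360 : act 3 n21886 = n10443 := d7_1 D21886 (iv6 D10443) (iv3 F16628)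
theorem F34361 : act 5 n21886 = n21886 := d12_1 D21886 (iv6 D21886) (iv5 D10441) F7155 D10441
def n21887 : Q := act 3 n10442
theorem D21887 : act 3 n10442 = n21887 := rfl
theorem F34362 : act 7 n21887 = n18917 := d8_2 (iv7 F16631) D21887 (iv3 D18917)
def n21888 : Q := act 5 n10442
theorem D21888 : act 5 n10442 = n21888 := rfl
theorem F34363 : act 2 n21888 = n17478 := d2_1 D21888 (iv5 F28471) (iv2 F16630)
theorem F34364 : act 7 n21888 = n18918 := d13_2 (iv7 F16631) D21888 (iv5 D18918)
theorem F34365 : act 4 n21888 = n10740 := d16_2 D10442 D21888 F17270 F14353 F14349 F6715 D4821 F6966 (iv2 F6853)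
def n21889 : Q := act 6 n10442
theorem D21889 : act 6 n10442 = n21889 := rfl
theorem F34366 : act 2 n21889 = n18910 := d3_1 D21889 (iv6 D18910) (iv2 F16630)
theorem F34367 : act 4 n21889 = n10443 := d10_1 D21889 (iv6 D10443) D10442
def n21890 : Q := act 0 n10443
theorem D21890 : act 0 n10443 = n21890 := rfl
def n21891 : Q := act 1 n10443
theorem D21891 : act 1 n10443 = n21891 := rfl
theorem F34368 : act 1 n21891 = n18913 := d15_1 D21891 (iv7 D18913) (iv2 F16632)
def n21892 : Q := act 7 n10443
theorem D21892 : act 7 n10443 = n21892 := rfl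
theorem F34369 : act 2 n21892 = n18913 := d4_1 D21892 (iv7 D18913) (iv2 F16632)
theorem F34370 : act 5 n21892 = n21892 := d13_1 D21892 (iv7 D21892) F16633
theorem F34371 : act 6 n21892 = n18923 := d14_1 D21892 (iv7 D18923) (iv6 D8871) (iv7 F6854) D10443
theorem F34372 : act 1 n18913 = n21890 := d15_0 (iv0 D21890) D21892 F34369
theorem F34373 : act 1 n18912 = n21892 := d15_1 D18912 (iv7 D21892) F16632
theorem F34374 : act 1 n21892 = n18911 := d15_0 (iv0 D18911) D18913 (iv2 F34369)
def n21893 : Q := act 0 n10444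
theorem D21893 : act 0 n10444 = n21893 := rfl
def n21894 : Q := act 1 n10444
theorem D21894 : act 1 n10444 = n21894 := rfl
theorem F34375 : act 1 n21894 = n21273 := d15_1 D21894 (iv7 D21273) (iv2 F16634)
def n21895 : Q := act 5 n10444
theorem D21895 : act 5 n10444 = n21895 := rfl
theorem F34376 : act 2 n21895 = n21272 := d2_1 D21895 (iv5 D21272) (iv2 F16634)
theorem F34377 : act 3 n21895 = n19862 := d6_1 D21895 (iv5 D19862) (iv3 F16635)
theorem F34378 : act 6 n21895 = n19859 := d12_2 D10444 D21895 (iv5 D19859) (iv6 D9347) F6913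
def n21896 : Q := act 7 n10444
theorem D21896 : act 7 n10444 = n21896 := rfl
theorem F34379 : act 2 n21896 = n21273 := d4_1 D21896 (iv7 D21273) (iv2 F16634)
theorem F34380 : act 3 n21896 = n19863 := d8_1 D21896 (iv7 D19863) (iv3 F16635)
theorem F34381 : act 1 n21273 = n21893 := d15_0 (iv0 D21893) D21896 F34379
theorem F34382 : act 1 n21271 = n21896 := d15_1 D21271 (iv7 D21896) F16634
theorem F34383 : act 1 n21896 = n21270 := d15_0 (iv0 D21270) D21273 (iv2 F34379)
def n21897 : Q := act 0 n10445
theorem D21897 : act 0 n10445 = n21897 := rfl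
theorem F34384 : act 5 n21897 = n18014 := d17_1 D21897 (iv1 F29185) D18024 F29196 (iv5 F17204) (iv0 D8507) D8509 (iv0 F13279) (iv4 F16636)
theorem F34385 : act 1 n17996 = n21897 := d15_0 (iv0 D21897) (iv7 F31280) F31281
def n21898 : Q := act 1 n10445
theorem D21898 : act 1 n10445 = n21898 := rfl
theorem F34386 : act 5 n21898 = n18015 := d17_7 (iv1 D3803) (iv5 D1660) D1657 D3794 D8480 F16637 D21898 F29187 (iv4 D8504)
theorem F34387 : act 0 n17996 = n21898 := d17_0 F34386 (iv1 D18015) (iv5 F14159) (iv4 F17130) (iv5 F17132) (iv0 F21757) F21756 F29201 (iv4 F29202)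
def n21899 : Q := act 2 n10445
theorem D21899 : act 2 n10445 = n21899 := rfl
theorem F34388 : act 4 n21899 = n10489 := d1_2 (iv4 F16636) D21899 (iv2 D10489)
theorem F34389 : act 5 n21899 = n13048 := d2_2 F16637 D21899 F21750
theorem F34390 : act 7 n21899 = n17996 := d4_2 F31280 D21899 (iv2 F31281)
def n21900 : Q := act 6 n10445
theorem D21900 : act 6 n10445 = n21900 := rfl
theorem F34391 : act 3 n21900 = n10447 := d7_1 D21900 (iv6 D10447) D10445
theorem F34392 : act 4 n21900 = n10490 := d10_1 D21900 (iv6 D10490) (iv4 F16636)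
def n21901 : Q := act 4 n10446
theorem D21901 : act 4 n10446 = n21901 := rfl
theorem F34393 : act 2 n21901 = n18918 := d1_1 D21901 F30202 (iv2 F16638)
theorem F34394 : act 3 n21901 = n12872 := d5_1 D21901 (iv4 F21375) F13112 D8480 (iv3 F16639)
theorem F34395 : act 5 n21901 = n10531 := d9_2 D10446 D21901 (iv4 D10531) (iv5 D4821) (iv4 F6715) (iv5 F14349) (iv4 F14353) (iv5 F17270) (iv4 F34365) (iv5 D21888) (iv4 D10442) (iv5 D4743) (iv4 D1964) D1965 D4747
theorem F34396 : act 7 n21901 = n17478 := d11_2 (iv7 F16640) D21901 F28470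
def n21902 : Q := act 6 n10446
theorem D21902 : act 6 n10446 = n21902 := rfl
theorem F34397 : act 2 n21902 = n19351 := d3_1 D21902 (iv6 D19351) (iv2 F16638)
theorem F34398 : act 3 n21902 = n17988 := d7_1 D21902 (iv6 D17988) (iv3 F16639)
def n21903 : Q := act 0 n10447
theorem D21903 : act 0 n10447 = n21903 := rfl
def n21904 : Q := act 1 n10447
theorem D21904 : act 1 n10447 = n21904 := rfl
def n21905 : Q := act 5 n10447
theorem D21905 : act 5 n10447 = n21905 := rfl
def n21906 : Q := act 7 n10447
theorem D21906 : act 7 n10447 = n21906 := rfl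
theorem F34399 : act 4 n21906 = n10450 := d11_1 D21906 (iv7 D10450) (iv4 F16643)
def n21907 : Q := act 2 n10448
theorem D21907 : act 2 n10448 = n21907 := rfl
theorem F34400 : act 7 n10449 = n21907 := d15_2 (iv0 D10448) D10449 (iv2 D21907)
def n21908 : Q := act 3 n10448
theorem D21908 : act 3 n10448 = n21908 := rfl
def n21909 : Q := act 4 n10448
theorem D21909 : act 4 n10448 = n21909 := rfl
def n21910 : Q := act 5 n10448
theorem D21910 : act 5 n10448 = n21910 := rfl
def n21911 : Q := act 6 n10448
theorem D21911 : act 6 n10448 = n21911 := rfl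
def n21912 : Q := act 7 n10448
theorem D21912 : act 7 n10448 = n21912 := rfl
theorem F34401 : act 2 n21912 = n10449 := d4_1 D21912 F34400 (iv2 D21907)
def n21913 : Q := act 3 n10449
theorem D21913 : act 3 n10449 = n21913 := rfl
def n21914 : Q := act 4 n10449
theorem D21914 : act 4 n10449 = n21914 := rfl
def n21915 : Q := act 5 n10449
theorem D21915 : act 5 n10449 = n21915 := rfl
def n21916 : Q := act 6 n10449
theorem D21916 : act 6 n10449 = n21916 := rfl
def n21917 : Q := act 3 n10454
theorem D21917 : act 3 n10454 = n21917 := rfl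
theorem F34402 : act 4 n21917 = n18482 := d5_2 D10454 D21917 (iv3 D18482) F13612 (iv3 F6864)
theorem F34403 : act 7 n21917 = n18282 := d8_2 (iv7 F16651) D21917 (iv3 D18282)
theorem F34404 : act 0 n21917 = n18642 := d20_4 (iv4 F7228) F12197 D10454 D21917 (iv3 D18642) (iv4 D8753) (iv1 D3912) (iv4 F5846) (iv3 D3882) D3880
def n21918 : Q := act 5 n10454
theorem D21918 : act 5 n10454 = n21918 := rfl
theorem F34405 : act 2 n21918 = n18161 := d2_1 D21918 F29332 (iv2 F16650)
theorem F34406 : act 7 n21918 = n18162 := d13_2 (iv7 F16651) D21918 F29335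
theorem F34407 : act 4 n21918 = n10492 := d16_2 D10454 D21918 F16701 (iv4 F13992) (iv5 D8999) (iv4 F6435) D4757 (iv7 F13339) F13337
theorem F34408 : act 0 n21918 = n16741 := d17_2 (iv1 F16653) D21918 (iv5 D16741) (iv4 D7821) F7218 F6433 (iv5 F2864) F5840 D8604
theorem F34409 : act 1 n21918 = n16751 := d17_6 (iv1 D4763) (iv5 D1971) D1968 D4755 D10454 D21918 (iv5 D16751) (iv0 F16684) (iv4 D10473)
def n21919 : Q := act 6 n10454
theorem D21919 : act 6 n10454 = n21919 := rfl
theorem F34410 : act 2 n21919 = n18281 := d3_1 D21919 (iv6 D18281) (iv2 F16650)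
theorem F34411 : act 4 n21919 = n10455 := d10_1 D21919 (iv6 D10455) D10454
def n21920 : Q := act 0 n10455
theorem D21920 : act 0 n10455 = n21920 := rfl
def n21921 : Q := act 1 n10455
theorem D21921 : act 1 n10455 = n21921 := rfl
def n21922 : Q := act 5 n10455
theorem D21922 : act 5 n10455 = n21922 := rfl
theorem F34412 : act 3 n21922 = n21162 := d6_1 D21922 (iv5 D21162) (iv3 F16654)
theorem F34413 : act 6 n21922 = n10458 := d12_2 D10455 D21922 (iv5 D10458) (iv6 D4756) D4755
def n21923 : Q := act 7 n10455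
theorem D21923 : act 7 n10455 = n21923 := rfl
theorem F34414 : act 3 n21923 = n21163 := d8_1 D21923 (iv7 D21163) (iv3 F16654)
def n21924 : Q := act 4 n10458
theorem D21924 : act 4 n10458 = n21924 := rfl
theorem F34415 : act 0 n21924 = n16724 := d18_2 (iv1 F31226) D21924 (iv4 D16724) (iv5 D7811) (iv4 F12346) F17516 D9491 (iv0 F17492) (iv5 F31225)
theorem F34416 : act 1 n21924 = n18470 := d18_6 (iv1 F12267) D8683 (iv1 F14569) (iv4 F16778) D10458 D21924 (iv4 D18470) (iv0 F27402) (iv5 D16711)
def n21925 : Q := act 3 n10460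
theorem D21925 : act 3 n10460 = n21925 := rfl
theorem F34417 : act 7 n21925 = n18280 := d8_2 (iv7 F16659) D21925 (iv3 D18280)
def n21926 : Q := act 5 n10460
theorem D21926 : act 5 n10460 = n21926 := rfl
theorem F34418 : act 2 n21926 = n18162 := d2_1 D21926 F29335 (iv2 F16658)
theorem F34419 : act 4 n21926 = n10491 := d9_1 D21926 F16698 F7089 F7060 (iv4 F3286) D4755 D10454 D21918 F34407 F16701 (iv4 F13992) (iv5 D8999) (iv4 F6435) D4757 D10460
theorem F34420 : act 7 n21926 = n18161 := d13_2 (iv7 F16659) D21926 F29332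
theorem F34421 : act 0 n21926 = n16751 := d17_2 (iv1 F16661) D21926 (iv5 D16751) (iv4 D7824) (iv5 F7170) (iv0 F6429) D1680 D3867 D8607
theorem F34422 : act 1 n21926 = n16741 := d17_6 (iv1 F6877) (iv5 D1990) (iv1 F3290) D4757 D10460 D21926 (iv5 D16741) (iv0 F16680) (iv4 D10471)
theorem F34423 : act 0 n19603 = n18345 := d20_4 (iv4 F34419) F34421 F27505 (iv3 F31375) (iv3 F31191) (iv4 D19488) F14290 F13628 F13629 D10491
def n21927 : Q := act 6 n10460
theorem D21927 : act 6 n10460 = n21927 := rfl
theorem F34424 : act 2 n21927 = n18283 := d3_1 D21927 (iv6 D18283) (iv2 F16658)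
theorem F34425 : act 4 n21927 = n10461 := d10_1 D21927 (iv6 D10461) D10460
def n21928 : Q := act 0 n10461
theorem D21928 : act 0 n10461 = n21928 := rfl
def n21929 : Q := act 1 n10461
theorem D21929 : act 1 n10461 = n21929 := rfl
def n21930 : Q := act 7 n10461
theorem D21930 : act 7 n10461 = n21930 := rfl
def n21931 : Q := act 6 n10466
theorem D21931 : act 6 n10466 = n21931 := rfl
theorem F34426 : act 2 n21931 = n17138 := d3_1 D21931 (iv6 D17138) (iv2 F16664)
theorem F34427 : act 4 n21931 = n18030 := d10_1 D21931 (iv6 D18030) (iv4 F16666)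
def n21932 : Q := act 3 n10467
theorem D21932 : act 3 n10467 = n21932 := rfl
theorem F34428 : act 4 n21932 = n10475 := d5_2 D10467 D21932 (iv3 D10475) (iv4 D4764) (iv3 F6867)
theorem F34429 : act 0 n10714 = n21932 := d20_4 (iv4 F29489) (iv1 F29490) F13545 (iv3 F17242) (iv3 D21932) (iv4 D10467) F13278 F13277 (iv3 F17134) F17136
theorem F34430 : act 5 n19599 = n21932 := d19_1 D19599 F34428 (iv3 D10475) (iv1 F12361) D16732 F27462 F14428 (iv1 F14156) (iv5 D9081) F7234 (iv3 F15052) F15054 (iv5 D4517) (iv4 D1887) D1886 F6469 (iv5 F13397) (iv4 F13399) D9218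
def n21933 : Q := act 5 n10467
theorem D21933 : act 5 n10467 = n21933 := rfl
theorem F34431 : act 2 n21933 = n21897 := d2_1 D21933 F34384 (iv2 F29186)
theorem F34432 : act 3 n21933 = n19599 := d6_1 D21933 F34430 (iv3 D21932)
theorem F34433 : act 7 n21933 = n21898 := d13_2 F29188 D21933 F34386
theorem F34434 : act 4 n21933 = n21898 := d16_2 D10467 D21933 F34386 F29189 F16672 F6871 D8868 (iv7 F16629) F16627
theorem F34435 : act 0 n21933 = n19542 := d17_2 F21776 D21933 F31279 (iv4 D13044) (iv5 D6206) (iv0 D2608) D2611 D6214 D13055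
theorem F34436 : act 1 n21933 = n21899 := d17_6 F14295 (iv5 D8476) F6852 D4759 D10467 D21933 F34389 (iv0 F30257) (iv4 D18946)
def n21934 : Q := act 6 n10467
theorem D21934 : act 6 n10467 = n21934 := rfl
theorem F34437 : act 4 n21934 = n10468 := d10_1 D21934 (iv6 D10468) D10467
def n21935 : Q := act 0 n10468
theorem D21935 : act 0 n10468 = n21935 := rfl
def n21936 : Q := act 1 n10468
theorem D21936 : act 1 n10468 = n21936 := rfl
def n21937 : Q := act 7 n10468
theorem D21937 : act 7 n10468 = n21937 := rfl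
theorem F34438 : act 3 n21937 = n10479 := d8_1 D21937 (iv7 D10479) (iv3 F16668)
theorem F34439 : act 5 n21937 = n21937 := d13_1 D21937 (iv7 D21937) F16669
def n21938 : Q := act 6 n10469
theorem D21938 : act 6 n10469 = n21938 := rfl
theorem F34440 : act 2 n21938 = n18915 := d3_1 D21938 (iv6 D18915) (iv2 F16670)
theorem F34441 : act 3 n21938 = n10480 := d7_1 D21938 (iv6 D10480) (iv3 F16671)
def n21939 : Q := act 5 n10470
theorem D21939 : act 5 n10470 = n21939 := rfl
theorem F34442 : act 2 n21939 = n18916 := d2_1 D21939 (iv5 D18916) (iv2 F16674)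
theorem F34443 : act 3 n21939 = n10481 := d6_1 D21939 (iv5 D10481) (iv3 F16675)
theorem F34444 : act 7 n21939 = n21939 := d13_2 F16677 D21939 (iv5 D21939)
theorem F34446 : act 1 n21939 = n18053 := d17_6 (iv1 F17625) D18059 F30201 (iv5 D18916) (iv4 F16676) D21939 (iv5 D18053) (iv0 F17613) (iv4 F16676)
def n21940 : Q := act 3 n10471
theorem D21940 : act 3 n10471 = n21940 := rfl
theorem F34447 : act 4 n21940 = n17926 := d5_2 D10471 D21940 (iv3 D17926) (iv4 F13963) F13961
theorem F34448 : act 7 n21940 = n18155 := d8_2 (iv7 F16679) D21940 (iv3 D18155)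
def n21941 : Q := act 6 n10471
theorem D21941 : act 6 n10471 = n21941 := rfl
theorem F34449 : act 2 n21941 = n18154 := d3_1 D21941 (iv6 D18154) (iv2 F16678)
theorem F34450 : act 4 n21941 = n10472 := d10_1 D21941 (iv6 D10472) D10471
def n21942 : Q := act 0 n10472
theorem D21942 : act 0 n10472 = n21942 := rfl
def n21943 : Q := act 1 n10472
theorem D21943 : act 1 n10472 = n21943 := rfl
def n21944 : Q := act 7 n10472
theorem D21944 : act 7 n10472 = n21944 := rfl
def n21945 : Q := act 3 n10473
theorem D21945 : act 3 n10473 = n21945 := rfl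
theorem F34451 : act 4 n21945 = n17443 := d5_2 D10473 D21945 (iv3 D17443) (iv4 D8201) (iv3 F12105)
theorem F34452 : act 7 n21945 = n18152 := d8_2 (iv7 F16683) D21945 (iv3 D18152)
def n21946 : Q := act 6 n10473
theorem D21946 : act 6 n10473 = n21946 := rfl
theorem F34453 : act 2 n21946 = n18157 := d3_1 D21946 (iv6 D18157) (iv2 F16682)
theorem F34454 : act 4 n21946 = n10474 := d10_1 D21946 (iv6 D10474) D10473
def n21947 : Q := act 0 n10474
theorem D21947 : act 0 n10474 = n21947 := rfl
def n21948 : Q := act 1 n10474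
theorem D21948 : act 1 n10474 = n21948 := rfl
def n21949 : Q := act 5 n10474
theorem D21949 : act 5 n10474 = n21949 := rfl
theorem F34455 : act 3 n21949 = n17448 := d6_1 D21949 (iv5 D17448) (iv3 F16686)
theorem F34456 : act 6 n21949 = n17440 := d12_2 D10474 D21949 (iv5 D17440) (iv6 D8198) F12103
def n21950 : Q := act 7 n10474
theorem D21950 : act 7 n10474 = n21950 := rfl
theorem F34457 : act 3 n21950 = n17449 := d8_1 D21950 (iv7 D17449) (iv3 F16686)
def n21951 : Q := act 0 n10475
theorem D21951 : act 0 n10475 = n21951 := rfl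
def n21952 : Q := act 1 n10475
theorem D21952 : act 1 n10475 = n21952 := rfl
def n21953 : Q := act 2 n10475
theorem D21953 : act 2 n10475 = n21953 := rfl
theorem F34458 : act 3 n21953 = n17185 := d0_2 D10475 D21953 F28150 (iv3 D16759) F12380
theorem F34459 : act 5 n21953 = n17184 := d2_2 F29554 D21953 (iv2 F29553)
def n21954 : Q := act 6 n10475
theorem D21954 : act 6 n10475 = n21954 := rfl
theorem F34460 : act 3 n21954 = n10476 := d7_1 D21954 (iv6 D10476) D10475
def n21955 : Q := act 0 n10476
theorem D21955 : act 0 n10476 = n21955 := rfl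
def n21956 : Q := act 1 n10476
theorem D21956 : act 1 n10476 = n21956 := rfl
def n21957 : Q := act 5 n10476
theorem D21957 : act 5 n10476 = n21957 := rfl
def n21958 : Q := act 7 n10476
theorem D21958 : act 7 n10476 = n21958 := rfl
theorem F34461 : act 4 n21958 = n10479 := d11_1 D21958 (iv7 D10479) (iv4 F16687)
def n21959 : Q := act 2 n10477
theorem D21959 : act 2 n10477 = n21959 := rfl
theorem F34462 : act 7 n10478 = n21959 := d15_2 (iv0 D10477) D10478 (iv2 D21959)
def n21960 : Q := act 3 n10477
theorem D21960 : act 3 n10477 = n21960 := rfl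
def n21961 : Q := act 4 n10477
theorem D21961 : act 4 n10477 = n21961 := rfl
def n21962 : Q := act 5 n10477
theorem D21962 : act 5 n10477 = n21962 := rfl
def n21963 : Q := act 6 n10477
theorem D21963 : act 6 n10477 = n21963 := rfl
def n21964 : Q := act 7 n10477
theorem D21964 : act 7 n10477 = n21964 := rfl
theorem F34463 : act 2 n21964 = n10478 := d4_1 D21964 F34462 (iv2 D21959)
def n21965 : Q := act 3 n10478
theorem D21965 : act 3 n10478 = n21965 := rfl
def n21966 : Q := act 4 n10478
theorem D21966 : act 4 n10478 = n21966 := rfl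
def n21967 : Q := act 5 n10478
theorem D21967 : act 5 n10478 = n21967 := rfl
def n21968 : Q := act 6 n10478
theorem D21968 : act 6 n10478 = n21968 := rfl
def n21969 : Q := act 6 n10479
theorem D21969 : act 6 n10479 = n21969 := rfl
theorem F34464 : act 2 n21969 = n10539 := d3_1 D21969 (iv6 F34343) F34340
theorem F34465 : act 7 n21969 = n10480 := d14_2 D10479 D21969 (iv6 D10480) (iv7 D4766) D4765
theorem F34466 : act 1 n10537 = n21969 := d15_1 D10537 F34465 F16689
theorem F34467 : act 1 n21969 = n10536 := d15_0 (iv0 D10536) D10539 (iv2 F34464)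
def n21970 : Q := act 0 n10480
theorem D21970 : act 0 n10480 = n21970 := rfl
theorem F34468 : act 1 n10539 = n21970 := d15_0 (iv0 D21970) (iv7 F34465) F34464
def n21971 : Q := act 1 n10480
theorem D21971 : act 1 n10480 = n21971 := rfl
theorem F34469 : act 1 n21971 = n10539 := d15_1 D21971 (iv7 D10539) (iv2 F16689)
def n21972 : Q := act 5 n10480
theorem D21972 : act 5 n10480 = n21972 := rfl
theorem F34470 : act 2 n21972 = n10538 := d2_1 D21972 (iv5 D10538) (iv2 F16689)
theorem F34471 : act 6 n21972 = n10481 := d12_2 D10480 D21972 (iv5 D10481) (iv6 D4771) (iv5 F6876)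
def n21973 : Q := act 4 n10481
theorem D21973 : act 4 n10481 = n21973 := rfl
theorem F34472 : act 2 n21973 = n10548 := d1_1 D21973 (iv4 D10548) (iv2 F16690)
theorem F34474 : act 0 n21973 = n18224 := d18_2 F16736 D21973 (iv4 D18224) (iv5 D8601) F13605 F7127 (iv4 F6880) F7165 D10543
theorem F34475 : act 1 n21973 = n17872 := d18_6 F17440 F5771 (iv1 F17410) (iv4 F6880) D10481 D21973 (iv4 D17872) F17442 (iv5 D3855)
def n21974 : Q := act 0 n10482
theorem D21974 : act 0 n10482 = n21974 := rfl
def n21975 : Q := act 1 n10482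
theorem D21975 : act 1 n10482 = n21975 := rfl
def n21976 : Q := act 2 n10482
theorem D21976 : act 2 n10482 = n21976 := rfl
theorem F34476 : act 3 n21976 = n19224 := d0_2 D10482 D21976 (iv2 F31295) (iv3 D19550) (iv2 F14367)
theorem F34477 : act 4 n21976 = n19906 := d1_2 (iv4 F16692) D21976 (iv2 D19906)
def n21977 : Q := act 5 n10482
theorem D21977 : act 5 n10482 = n21977 := rfl
theorem F34478 : act 3 n21977 = n10483 := d6_1 D21977 (iv5 D10483) D10482
def n21978 : Q := act 6 n10482
theorem D21978 : act 6 n10482 = n21978 := rfl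
theorem F34479 : act 3 n21978 = n10484 := d7_1 D21978 (iv6 D10484) D10482
theorem F34480 : act 4 n21978 = n19908 := d10_1 D21978 (iv6 D19908) (iv4 F16692)
def n21979 : Q := act 6 n10483
theorem D21979 : act 6 n10483 = n21979 := rfl
def n21980 : Q := act 0 n10484
theorem D21980 : act 0 n10484 = n21980 := rfl
def n21981 : Q := act 1 n10484
theorem D21981 : act 1 n10484 = n21981 := rfl
def n21982 : Q := act 5 n10484
theorem D21982 : act 5 n10484 = n21982 := rfl
def n21983 : Q := act 7 n10484
theorem D21983 : act 7 n10484 = n21983 := rfl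
theorem F34481 : act 4 n21983 = n19901 := d11_1 D21983 (iv7 D19901) (iv4 F16693)
def n21984 : Q := act 1 n10485
theorem D21984 : act 1 n10485 = n21984 := rfl
theorem F34482 : act 7 n21984 = n19225 := d15_2 (iv0 F16695) D21984 (iv2 D19225)
theorem F34483 : act 2 n19072 = n21984 := d4_3 F34482 (iv2 D19225) (iv7 F30623)
theorem F34484 : act 1 n19550 = n19225 := d15_1 (iv0 F31294) (iv7 F34482) (iv2 F34483)
theorem F34485 : act 3 n21984 = n19177 := d0_2 D19072 F34483 (iv2 D19177) (iv3 D9013) (iv2 F13919)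
theorem F34486 : act 1 n21984 = n19224 := d15_0 (iv0 D19224) (iv7 F30623) F34483
def n21985 : Q := act 2 n10485
theorem D21985 : act 2 n10485 = n21985 := rfl
theorem F34487 : act 4 n21985 = n21658 := d1_2 (iv4 F16694) D21985 (iv2 D21658)
theorem F34488 : act 7 n21985 = n19224 := d4_2 F31293 D21985 (iv2 F31295)
theorem F34489 : act 1 n21985 = n19072 := d15_0 (iv0 F31294) F31293 D21985
theorem F34490 : act 1 n19225 = n21985 := d15_0 F34489 F30623 D19225
def n21986 : Q := act 5 n10485
theorem D21986 : act 5 n10485 = n21986 := rfl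
theorem F34491 : act 3 n21986 = n10486 := d6_1 D21986 (iv5 D10486) D10485
def n21987 : Q := act 6 n10485
theorem D21987 : act 6 n10485 = n21987 := rfl
theorem F34492 : act 3 n21987 = n10487 := d7_1 D21987 (iv6 D10487) D10485
theorem F34493 : act 4 n21987 = n21660 := d10_1 D21987 (iv6 D21660) (iv4 F16694)
def n21988 : Q := act 6 n10486
theorem D21988 : act 6 n10486 = n21988 := rfl
def n21989 : Q := act 0 n10487
theorem D21989 : act 0 n10487 = n21989 := rfl
def n21990 : Q := act 1 n10487
theorem D21990 : act 1 n10487 = n21990 := rfl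
def n21991 : Q := act 5 n10487
theorem D21991 : act 5 n10487 = n21991 := rfl
def n21992 : Q := act 7 n10487
theorem D21992 : act 7 n10487 = n21992 := rfl
def n21993 : Q := act 3 n10488
theorem D21993 : act 3 n10488 = n21993 := rfl
def n21994 : Q := act 6 n10488
theorem D21994 : act 6 n10488 = n21994 := rfl
theorem F34494 : act 4 n21994 = n18033 := d10_1 D21994 (iv6 D18033) (iv4 F16696)
def n21995 : Q := act 6 n10489
theorem D21995 : act 6 n10489 = n21995 := rfl
theorem F34495 : act 2 n21995 = n10490 := d3_1 D21995 (iv6 D10490) D10489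
def n21996 : Q := act 0 n10490
theorem D21996 : act 0 n10490 = n21996 := rfl
def n21997 : Q := act 1 n10490
theorem D21997 : act 1 n10490 = n21997 := rfl
def n21998 : Q := act 5 n10490
theorem D21998 : act 5 n10490 = n21998 := rfl
theorem F34496 : act 3 n21998 = n10496 := d6_1 D21998 (iv5 D10496) (iv3 F16697)
def n21999 : Q := act 7 n10490
theorem D21999 : act 7 n10490 = n21999 := rfl
theorem F34497 : act 3 n21999 = n10497 := d8_1 D21999 (iv7 D10497) (iv3 F16697)
def n22000 : Q := act 3 n10491
theorem D22000 : act 3 n10491 = n22000 := rfl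
theorem F34498 : act 5 n22000 = n10649 := d6_2 (iv5 F16698) D22000 (iv3 D10649)
def n22001 : Q := act 6 n10491
theorem D22001 : act 6 n10491 = n22001 := rfl
def n22002 : Q := act 3 n10492
theorem D22002 : act 3 n10492 = n22002 := rfl
theorem F34499 : act 5 n22002 = n10651 := d6_2 (iv5 F16701) D22002 (iv3 D10651)
theorem F34500 : act 0 n22002 = n19226 := d20_4 (iv4 F27505) (iv1 F34409) F34407 D22002 F30888 (iv4 F30285) (iv1 F30286) (iv4 D9088) (iv3 F7342) (iv1 F14406)
def n22003 : Q := act 6 n10492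
theorem D22003 : act 6 n10492 = n22003 := rfl
def n22004 : Q := act 0 n10493
theorem D22004 : act 0 n10493 = n22004 := rfl
def n22005 : Q := act 1 n10493
theorem D22005 : act 1 n10493 = n22005 := rfl
def n22006 : Q := act 5 n10493
theorem D22006 : act 5 n10493 = n22006 := rfl
theorem F34501 : act 6 n22006 = n10496 := d12_2 D10493 D22006 (iv5 D10496) (iv6 D4786) D4785
def n22007 : Q := act 7 n10493
theorem D22007 : act 7 n10493 = n22007 := rfl
def n22008 : Q := act 2 n10494
theorem D22008 : act 2 n10494 = n22008 := rfl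
theorem F34502 : act 7 n10495 = n22008 := d15_2 (iv0 D10494) D10495 (iv2 D22008)
def n22009 : Q := act 3 n10494
theorem D22009 : act 3 n10494 = n22009 := rfl
def n22010 : Q := act 4 n10494
theorem D22010 : act 4 n10494 = n22010 := rfl
def n22011 : Q := act 5 n10494
theorem D22011 : act 5 n10494 = n22011 := rfl
def n22012 : Q := act 6 n10494
theorem D22012 : act 6 n10494 = n22012 := rfl
def n22013 : Q := act 7 n10494
theorem D22013 : act 7 n10494 = n22013 := rfl
def n22014 : Q := act 3 n10495
theorem D22014 : act 3 n10495 = n22014 := rfl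
def n22015 : Q := act 4 n10495
theorem D22015 : act 4 n10495 = n22015 := rfl
def n22016 : Q := act 5 n10495
theorem D22016 : act 5 n10495 = n22016 := rfl
def n22017 : Q := act 6 n10495
theorem D22017 : act 6 n10495 = n22017 := rfl
def n22018 : Q := act 0 n10496
theorem D22018 : act 0 n10496 = n22018 := rfl
def n22019 : Q := act 1 n10496
theorem D22019 : act 1 n10496 = n22019 := rfl
def n22020 : Q := act 4 n10496
theorem D22020 : act 4 n10496 = n22020 := rfl
def n22021 : Q := act 7 n10496
theorem D22021 : act 7 n10496 = n22021 := rfl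
theorem F34504 : act 5 n22021 = n10497 := d13_1 D22021 (iv7 D10497) D10496
def n22025 : Q := act 4 n10498
theorem D22025 : act 4 n10498 = n22025 := rfl
theorem F34508 : act 2 n22025 = n10500 := d1_1 D22025 (iv4 D10500) D10498
theorem F34509 : act 7 n22025 = n10505 := d11_2 F16703 D22025 (iv4 D10505)
def n22026 : Q := act 5 n10498
theorem D22026 : act 5 n10498 = n22026 := rfl
theorem F34510 : act 2 n22026 = n10501 := d2_1 D22026 (iv5 D10501) D10498
theorem F34511 : act 7 n22026 = n10506 := d13_2 F16703 D22026 (iv5 D10506)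
def n22027 : Q := act 6 n10498
theorem D22027 : act 6 n10498 = n22027 := rfl
theorem F34512 : act 2 n22027 = n10502 := d3_1 D22027 (iv6 D10502) D10498
def n22032 : Q := act 5 n10499
theorem D22032 : act 5 n10499 = n22032 := rfl
theorem F34513 : act 3 n22032 = n10501 := d6_1 D22032 (iv5 D10501) D10499
def n22033 : Q := act 6 n10499
theorem D22033 : act 6 n10499 = n22033 := rfl
theorem F34514 : act 3 n22033 = n10502 := d7_1 D22033 (iv6 D10502) D10499
def n22034 : Q := act 7 n10499
theorem D22034 : act 7 n10499 = n22034 := rfl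
theorem F34515 : act 3 n22034 = n10503 := d8_1 D22034 (iv7 D10503) D10499
def n22037 : Q := act 3 n10500
theorem D22037 : act 3 n10500 = n22037 := rfl
def n22038 : Q := act 5 n10500
theorem D22038 : act 5 n10500 = n22038 := rfl
def n22039 : Q := act 6 n10500
theorem D22039 : act 6 n10500 = n22039 := rfl
theorem F34517 : act 4 n22039 = n10502 := d10_1 D22039 (iv6 D10502) D10500
def n22040 : Q := act 7 n10500
theorem D22040 : act 7 n10500 = n22040 := rfl
theorem F34518 : act 2 n22040 = n10505 := d4_1 D22040 (iv7 F34509) F34508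
theorem F34519 : act 4 n22040 = n10503 := d11_1 D22040 (iv7 D10503) D10500
def n22041 : Q := act 4 n10501
theorem D22041 : act 4 n10501 = n22041 := rfl
def n22042 : Q := act 6 n10501
theorem D22042 : act 6 n10501 = n22042 := rfl
theorem F34521 : act 0 n22042 = n21866 := d21_10 F34325 (iv1 D19708) (iv5 D9249) (iv6 D4181) F6908 D1977 F7136 D4788 D10501 D22042
def n22043 : Q := act 7 n10501
theorem D22043 : act 7 n10501 = n22043 := rfl
theorem F34522 : act 2 n22043 = n10506 := d4_1 D22043 (iv7 F34511) F34510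
theorem F34523 : act 5 n22043 = n10503 := d13_1 D22043 (iv7 D10503) D10501
def n22044 : Q := act 0 n10502
theorem D22044 : act 0 n10502 = n22044 := rfl
def n22045 : Q := act 7 n10502
theorem D22045 : act 7 n10502 = n22045 := rfl
def n22046 : Q := act 6 n10503
theorem D22046 : act 6 n10503 = n22046 := rfl
theorem F34524 : act 2 n22046 = n10507 := d3_1 D22046 (iv6 D10507) (iv2 F16704)
def n22051 : Q := act 5 n10504
theorem D22051 : act 5 n10504 = n22051 := rfl
theorem F34525 : act 3 n22051 = n10506 := d6_1 D22051 (iv5 D10506) D10504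
def n22052 : Q := act 6 n10504
theorem D22052 : act 6 n10504 = n22052 := rfl
theorem F34526 : act 3 n22052 = n10507 := d7_1 D22052 (iv6 D10507) D10504
def n22054 : Q := act 5 n10505
theorem D22054 : act 5 n10505 = n22054 := rfl
def n22055 : Q := act 6 n10505
theorem D22055 : act 6 n10505 = n22055 := rfl
theorem F34527 : act 4 n22055 = n10507 := d10_1 D22055 (iv6 D10507) D10505
def n22056 : Q := act 4 n10506
theorem D22056 : act 4 n10506 = n22056 := rfl
def n22057 : Q := act 0 n10507
theorem D22057 : act 0 n10507 = n22057 := rfl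
theorem F34528 : act 5 n22057 = n10828 := d21_0 (iv1 F34336) F34333 F16607 (iv1 F7037) D4932 D10816 F17341 (iv5 D10506) D10507 D22057
def n22058 : Q := act 1 n10507
theorem D22058 : act 1 n10507 = n22058 := rfl
def n22059 : Q := act 5 n10507
theorem D22059 : act 5 n10507 = n22059 := rfl
theorem F34529 : act 0 n21865 = n22059 := d21_1 D21865 (iv5 D22059) (iv6 D10507) (iv1 D4789) (iv6 D1977) (iv5 D1003) D999 D1953 D4724 D10429
def n22060 : Q := act 7 n10507
theorem D22060 : act 7 n10507 = n22060 := rfl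
def n22061 : Q := act 3 n10508
theorem D22061 : act 3 n10508 = n22061 := rfl
def n22062 : Q := act 5 n10508
theorem D22062 : act 5 n10508 = n22062 := rfl
theorem F34531 : act 2 n22062 = n10599 := d2_1 D22062 (iv5 D10599) (iv2 F16705)
def n22063 : Q := act 0 n10509
theorem D22063 : act 0 n10509 = n22063 := rfl
def n22064 : Q := act 1 n10509
theorem D22064 : act 1 n10509 = n22064 := rfl
theorem F34533 : act 1 n22064 = n10517 := d15_1 D22064 (iv7 D10517) (iv2 F16707)
def n22065 : Q := act 5 n10509
theorem D22065 : act 5 n10509 = n22065 := rfl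
theorem F34534 : act 2 n22065 = n10516 := d2_1 D22065 (iv5 D10516) (iv2 F16707)
theorem F34535 : act 6 n22065 = n10510 := d12_2 D10509 D22065 (iv5 D10510) (iv6 D4812) D4811
def n22066 : Q := act 7 n10509
theorem D22066 : act 7 n10509 = n22066 := rfl
theorem F34536 : act 2 n22066 = n10517 := d4_1 D22066 (iv7 D10517) (iv2 F16707)
theorem F34537 : act 1 n10517 = n22063 := d15_0 (iv0 D22063) D22066 F34536
theorem F34538 : act 1 n10515 = n22066 := d15_1 D10515 (iv7 D22066) F16707
theorem F34539 : act 1 n22066 = n10514 := d15_0 (iv0 D10514) D10517 (iv2 F34536)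
def n22067 : Q := act 0 n10511
theorem D22067 : act 0 n10511 = n22067 := rfl
def n22068 : Q := act 1 n10511
theorem D22068 : act 1 n10511 = n22068 := rfl
def n22069 : Q := act 2 n10511
theorem D22069 : act 2 n10511 = n22069 := rfl
theorem F34540 : act 3 n22069 = n20424 := d0_2 D10511 D22069 (iv2 F32447) (iv3 D19866) (iv2 F14576)
theorem F34541 : act 4 n22069 = n10551 := d1_2 (iv4 F16710) D22069 (iv2 D10551)
def n22070 : Q := act 5 n10511
theorem D22070 : act 5 n10511 = n22070 := rfl
theorem F34542 : act 3 n22070 = n10512 := d6_1 D22070 (iv5 D10512) D10511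
def n22071 : Q := act 6 n10511
theorem D22071 : act 6 n10511 = n22071 := rfl
theorem F34543 : act 3 n22071 = n10513 := d7_1 D22071 (iv6 D10513) D10511
theorem F34544 : act 4 n22071 = n10553 := d10_1 D22071 (iv6 D10553) (iv4 F16710)
def n22072 : Q := act 6 n10512
theorem D22072 : act 6 n10512 = n22072 := rfl
def n22073 : Q := act 0 n10513
theorem D22073 : act 0 n10513 = n22073 := rfl
def n22074 : Q := act 1 n10513
theorem D22074 : act 1 n10513 = n22074 := rfl
def n22075 : Q := act 5 n10513
theorem D22075 : act 5 n10513 = n22075 := rfl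
def n22076 : Q := act 7 n10513
theorem D22076 : act 7 n10513 = n22076 := rfl
theorem F34545 : act 4 n22076 = n10517 := d11_1 D22076 (iv7 D10517) (iv4 F16713)
def n22077 : Q := act 2 n10514
theorem D22077 : act 2 n10514 = n22077 := rfl
theorem F34546 : act 7 n10515 = n22077 := d15_2 (iv0 D10514) D10515 (iv2 D22077)
def n22078 : Q := act 3 n10514
theorem D22078 : act 3 n10514 = n22078 := rfl
def n22079 : Q := act 4 n10514
theorem D22079 : act 4 n10514 = n22079 := rfl
def n22080 : Q := act 5 n10514
theorem D22080 : act 5 n10514 = n22080 := rfl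
def n22081 : Q := act 6 n10514
theorem D22081 : act 6 n10514 = n22081 := rfl
def n22082 : Q := act 7 n10514
theorem D22082 : act 7 n10514 = n22082 := rfl
theorem F34547 : act 2 n22082 = n10515 := d4_1 D22082 F34546 (iv2 D22077)
def n22083 : Q := act 3 n10515
theorem D22083 : act 3 n10515 = n22083 := rfl
def n22084 : Q := act 4 n10515
theorem D22084 : act 4 n10515 = n22084 := rfl
def n22085 : Q := act 5 n10515
theorem D22085 : act 5 n10515 = n22085 := rfl
def n22086 : Q := act 6 n10515
theorem D22086 : act 6 n10515 = n22086 := rfl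
def n22087 : Q := act 0 n10516
theorem D22087 : act 0 n10516 = n22087 := rfl
def n22088 : Q := act 1 n10516
theorem D22088 : act 1 n10516 = n22088 := rfl
def n22089 : Q := act 4 n10516
theorem D22089 : act 4 n10516 = n22089 := rfl
theorem F34548 : act 6 n22089 = n10530 := d10_2 (iv6 F16715) D22089 (iv4 D10530)
def n22090 : Q := act 7 n10516
theorem D22090 : act 7 n10516 = n22090 := rfl
theorem F34549 : act 3 n22090 = n10572 := d8_1 D22090 (iv7 D10572) (iv3 F16714)
theorem F34550 : act 5 n22090 = n10517 := d13_1 D22090 (iv7 D10517) D10516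
def n22092 : Q := act 5 n10530
theorem D22092 : act 5 n10530 = n22092 := rfl
theorem F34557 : act 1 n22092 = n21010 := d17_6 (iv1 F17390) (iv5 D9998) (iv1 F17388) D4819 D10530 D22092 (iv5 D21010) D21008 F33181
def n22093 : Q := act 3 n10531
theorem D22093 : act 3 n10531 = n22093 := rfl
theorem F34558 : act 4 n22093 = n10534 := d5_2 D10531 D22093 (iv3 D10534) (iv4 D4823) (iv3 F6965)
theorem F34559 : act 5 n22093 = n12872 := d6_2 F34395 D22093 (iv3 F34394)
theorem F34560 : act 7 n22093 = n17479 := d8_2 (iv7 F16726) D22093 F28472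
theorem F34561 : act 0 n22093 = n12994 := d19_4 F3302 D4821 D10531 D22093 (iv5 D12994) (iv4 D6175) F4175 (iv1 F2777) (iv5 D1595) F1629 F908 (iv1 F540) (iv5 D310) F543 D308 F992 (iv5 F921) (iv4 F1712) (iv3 F2929)
theorem F34562 : act 2 n22093 = n17476 := d15_3 F28469 (iv0 F28474) (iv7 F34560)
theorem F34563 : act 0 n17646 = n22093 := d17_2 (iv1 F21612) (iv5 F28724) F34559 (iv4 F21375) (iv5 D8291) (iv0 F5997) D8573 (iv0 F21510) (iv4 F21611)
def n22094 : Q := act 6 n10531
theorem D22094 : act 6 n10531 = n22094 := rfl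
theorem F34564 : act 2 n22094 = n18919 := d3_1 D22094 (iv6 D18919) (iv2 F16725)
theorem F34565 : act 4 n22094 = n10532 := d10_1 D22094 (iv6 D10532) D10531
def n22095 : Q := act 0 n10532
theorem D22095 : act 0 n10532 = n22095 := rfl
def n22096 : Q := act 1 n10532
theorem D22096 : act 1 n10532 = n22096 := rfl
theorem F34566 : act 1 n22096 = n18923 := d15_1 D22096 (iv7 D18923) (iv2 F16727)
def n22097 : Q := act 5 n10532
theorem D22097 : act 5 n10532 = n22097 := rfl
theorem F34567 : act 2 n22097 = n18922 := d2_1 D22097 (iv5 D18922) (iv2 F16727)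
theorem F34568 : act 3 n22097 = n10538 := d6_1 D22097 (iv5 D10538) (iv3 F16728)
theorem F34569 : act 6 n22097 = n10533 := d12_2 D10532 D22097 (iv5 D10533) (iv6 D4822) D4821
def n22098 : Q := act 7 n10532
theorem D22098 : act 7 n10532 = n22098 := rfl
theorem F34570 : act 2 n22098 = n18923 := d4_1 D22098 (iv7 D18923) (iv2 F16727)
theorem F34571 : act 3 n22098 = n10539 := d8_1 D22098 (iv7 D10539) (iv3 F16728)
theorem F34572 : act 6 n22098 = n18913 := d14_1 D22098 (iv7 D18913) (iv6 D8867) (iv7 F6966) D10532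
theorem F34573 : act 1 n18923 = n22095 := d15_0 (iv0 D22095) D22098 F34570
theorem F34574 : act 1 n18921 = n22098 := d15_1 D18921 (iv7 D22098) F16727
theorem F34575 : act 1 n22098 = n18920 := d15_0 (iv0 D18920) D18923 (iv2 F34570)
def n22099 : Q := act 4 n10533
theorem D22099 : act 4 n10533 = n22099 := rfl
theorem F34576 : act 2 n22099 = n18924 := d1_1 D22099 (iv4 D18924) (iv2 F16729)
theorem F34577 : act 7 n22099 = n22099 := d11_2 F16731 D22099 (iv4 D22099)
def n22100 : Q := act 1 n10534
theorem D22100 : act 1 n10534 = n22100 := rfl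
theorem F34578 : act 5 n22100 = n17623 := d17_7 (iv1 D3735) (iv5 D1635) D1632 F13443 D8058 (iv5 F16732) D22100 F28662 (iv4 D8308)
theorem F34579 : act 0 n17185 = n22100 := d17_2 F16298 D17185 F34578 F28664 F27494 (iv0 D8342) D8343 (iv0 F13358) D8633
def n22101 : Q := act 2 n10534
theorem D22101 : act 2 n10534 = n22101 := rfl
theorem F34580 : act 4 n22101 = n17476 := d1_2 F34558 D22101 (iv2 F34562)
theorem F34581 : act 5 n22101 = n12955 := d2_2 (iv5 F16732) D22101 F21544
theorem F34582 : act 7 n22101 = n17185 := d4_2 F27524 D22101 F28150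
def n22102 : Q := act 6 n10534
theorem D22102 : act 6 n10534 = n22102 := rfl
theorem F34583 : act 3 n22102 = n10535 := d7_1 D22102 (iv6 D10535) D10534
def n22103 : Q := act 0 n10535
theorem D22103 : act 0 n10535 = n22103 := rfl
def n22104 : Q := act 1 n10535
theorem D22104 : act 1 n10535 = n22104 := rfl
def n22105 : Q := act 5 n10535
theorem D22105 : act 5 n10535 = n22105 := rfl
def n22106 : Q := act 7 n10535
theorem D22106 : act 7 n10535 = n22106 := rfl
theorem F34584 : act 4 n22106 = n10539 := d11_1 D22106 (iv7 D10539) (iv4 F16733)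
def n22107 : Q := act 2 n10536
theorem D22107 : act 2 n10536 = n22107 := rfl
theorem F34585 : act 7 n10537 = n22107 := d15_2 (iv0 D10536) D10537 (iv2 D22107)
def n22108 : Q := act 3 n10536
theorem D22108 : act 3 n10536 = n22108 := rfl
def n22109 : Q := act 4 n10536
theorem D22109 : act 4 n10536 = n22109 := rfl
def n22110 : Q := act 5 n10536
theorem D22110 : act 5 n10536 = n22110 := rfl
def n22111 : Q := act 6 n10536
theorem D22111 : act 6 n10536 = n22111 := rfl
def n22112 : Q := act 7 n10536
theorem D22112 : act 7 n10536 = n22112 := rfl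
theorem F34586 : act 2 n22112 = n10537 := d4_1 D22112 F34585 (iv2 D22107)
def n22113 : Q := act 3 n10537
theorem D22113 : act 3 n10537 = n22113 := rfl
def n22114 : Q := act 4 n10537
theorem D22114 : act 4 n10537 = n22114 := rfl
def n22115 : Q := act 5 n10537
theorem D22115 : act 5 n10537 = n22115 := rfl
def n22116 : Q := act 6 n10537
theorem D22116 : act 6 n10537 = n22116 := rfl
def n22117 : Q := act 0 n10538
theorem D22117 : act 0 n10538 = n22117 := rfl
def n22118 : Q := act 1 n10538
theorem D22118 : act 1 n10538 = n22118 := rfl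
def n22119 : Q := act 4 n10538
theorem D22119 : act 4 n10538 = n22119 := rfl
theorem F34587 : act 6 n22119 = n10548 := d10_2 (iv6 F16734) D22119 (iv4 D10548)
def n22120 : Q := act 7 n10538
theorem D22120 : act 7 n10538 = n22120 := rfl
theorem F34588 : act 5 n22120 = n10539 := d13_1 D22120 (iv7 D10539) D10538
def n22121 : Q := act 6 n10543
theorem D22121 : act 6 n10543 = n22121 := rfl
theorem F34590 : act 3 n22121 = n17791 := d7_1 D22121 (iv6 D17791) (iv3 F17629)
def n22122 : Q := act 6 n10547
theorem D22122 : act 6 n10547 = n22122 := rfl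
theorem F34591 : act 2 n22122 = n22121 := d3_1 D22122 (iv6 D22121) (iv2 F17627)
theorem F34592 : act 3 n22122 = n21753 := d7_1 D22122 (iv6 D21753) (iv3 F17622)
def n22123 : Q := act 3 n10548
theorem D22123 : act 3 n10548 = n22123 := rfl
theorem F34593 : act 7 n22123 = n22123 := d8_2 F17029 D22123 (iv3 D22123)
def n22124 : Q := act 5 n10548
theorem D22124 : act 5 n10548 = n22124 := rfl
theorem F34595 : act 4 n22124 = n22062 := d16_2 D10548 D22124 (iv5 D22062) (iv4 D10508) (iv5 D4810) (iv4 F6880) D10481 F16691 F16690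
def n22125 : Q := act 3 n10549
theorem D22125 : act 3 n10549 = n22125 := rfl
theorem F34596 : act 2 n22125 = n19170 := d0_1 D22125 (iv3 D19170) F30600 F31347 F31351
theorem F34597 : act 4 n22125 = n21639 := d5_2 (iv4 F31352) D22125 F34057 (iv4 D16950) (iv3 F27775)
def n22126 : Q := act 5 n10549
theorem D22126 : act 5 n10549 = n22126 := rfl
def n22127 : Q := act 6 n10549
theorem D22127 : act 6 n10549 = n22127 := rfl
def n22128 : Q := act 5 n10550
theorem D22128 : act 5 n10550 = n22128 := rfl
theorem F34598 : act 3 n22128 = n19173 := d6_1 D22128 (iv5 D19173) F17030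
def n22129 : Q := act 6 n10550
theorem D22129 : act 6 n10550 = n22129 := rfl
theorem F34599 : act 3 n22129 = n19174 := d7_1 D22129 (iv6 D19174) F17030
theorem F34600 : act 4 n22129 = n20921 := d10_1 D22129 (iv6 D20921) F17031
def n22130 : Q := act 6 n10551
theorem D22130 : act 6 n10551 = n22130 := rfl
theorem F34601 : act 2 n22130 = n10553 := d3_1 D22130 (iv6 D10553) D10551
def n22131 : Q := act 0 n10552
theorem D22131 : act 0 n10552 = n22131 := rfl
theorem F34602 : act 5 n22131 = n10686 := d19_1 D22131 F31830 (iv3 F32622) (iv1 F32625) (iv5 F31838) (iv4 D12857) (iv3 D6084) (iv1 D2565) F2215 (iv4 F2801) (iv3 F5699) (iv1 F26770) D6047 D12790 F21226 (iv1 F12384) F13570 F13569 (iv3 F17032)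
def n22132 : Q := act 1 n10552
theorem D22132 : act 1 n10552 = n22132 := rfl
def n22133 : Q := act 4 n10552
theorem D22133 : act 4 n10552 = n22133 := rfl
def n22134 : Q := act 6 n10552
theorem D22134 : act 6 n10552 = n22134 := rfl
theorem F34603 : act 3 n22134 = n10554 := d7_1 D22134 (iv6 D10554) (iv3 F17032)
def n22135 : Q := act 0 n10553
theorem D22135 : act 0 n10553 = n22135 := rfl
def n22136 : Q := act 1 n10553
theorem D22136 : act 1 n10553 = n22136 := rfl
def n22137 : Q := act 5 n10553
theorem D22137 : act 5 n10553 = n22137 := rfl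
theorem F34604 : act 3 n22137 = n10557 := d6_1 D22137 (iv5 D10557) (iv3 F17033)
def n22138 : Q := act 7 n10553
theorem D22138 : act 7 n10553 = n22138 := rfl
theorem F34605 : act 3 n22138 = n10558 := d8_1 D22138 (iv7 D10558) (iv3 F17033)
def n22139 : Q := act 0 n10554
theorem D22139 : act 0 n10554 = n22139 := rfl
def n22140 : Q := act 1 n10554
theorem D22140 : act 1 n10554 = n22140 := rfl
def n22141 : Q := act 5 n10554
theorem D22141 : act 5 n10554 = n22141 := rfl
theorem F34606 : act 6 n22141 = n10557 := d12_2 D10554 D22141 (iv5 D10557) (iv6 D4831) D4830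
def n22142 : Q := act 7 n10554
theorem D22142 : act 7 n10554 = n22142 := rfl
def n22143 : Q := act 2 n10555
theorem D22143 : act 2 n10555 = n22143 := rfl
theorem F34607 : act 7 n10556 = n22143 := d15_2 (iv0 D10555) D10556 (iv2 D22143)
def n22144 : Q := act 3 n10555
theorem D22144 : act 3 n10555 = n22144 := rfl
def n22145 : Q := act 4 n10555
theorem D22145 : act 4 n10555 = n22145 := rfl
def n22146 : Q := act 5 n10555
theorem D22146 : act 5 n10555 = n22146 := rfl
def n22147 : Q := act 6 n10555
theorem D22147 : act 6 n10555 = n22147 := rfl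
def n22148 : Q := act 7 n10555
theorem D22148 : act 7 n10555 = n22148 := rfl
theorem F34608 : act 2 n22148 = n10556 := d4_1 D22148 F34607 (iv2 D22143)
def n22149 : Q := act 3 n10556
theorem D22149 : act 3 n10556 = n22149 := rfl
def n22150 : Q := act 4 n10556
theorem D22150 : act 4 n10556 = n22150 := rfl
def n22151 : Q := act 5 n10556
theorem D22151 : act 5 n10556 = n22151 := rfl
def n22152 : Q := act 6 n10556
theorem D22152 : act 6 n10556 = n22152 := rfl
def n22153 : Q := act 0 n10557
theorem D22153 : act 0 n10557 = n22153 := rfl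
def n22154 : Q := act 1 n10557
theorem D22154 : act 1 n10557 = n22154 := rfl
def n22155 : Q := act 4 n10557
theorem D22155 : act 4 n10557 = n22155 := rfl
def n22156 : Q := act 7 n10557
theorem D22156 : act 7 n10557 = n22156 := rfl
theorem F34609 : act 5 n22156 = n10558 := d13_1 D22156 (iv7 D10558) D10557
def n22158 : Q := act 1 n10559
theorem D22158 : act 1 n10559 = n22158 := rfl
theorem F34611 : act 1 n22158 = n10564 := d15_1 D22158 (iv7 D10564) D10559
def n22159 : Q := act 3 n10559
theorem D22159 : act 3 n10559 = n22159 := rfl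
theorem F34612 : act 7 n22159 = n10565 := d8_2 F17035 D22159 (iv3 D10565)
def n22160 : Q := act 4 n10559
theorem D22160 : act 4 n10559 = n22160 := rfl
theorem F34613 : act 2 n22160 = n10561 := d1_1 D22160 (iv4 D10561) D10559
theorem F34614 : act 7 n22160 = n10566 := d11_2 F17035 D22160 (iv4 D10566)
def n22161 : Q := act 5 n10559
theorem D22161 : act 5 n10559 = n22161 := rfl
theorem F34615 : act 2 n22161 = n10562 := d2_1 D22161 (iv5 D10562) D10559
theorem F34616 : act 7 n22161 = n10567 := d13_2 F17035 D22161 (iv5 D10567)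
def n22162 : Q := act 6 n10559
theorem D22162 : act 6 n10559 = n22162 := rfl
theorem F34617 : act 2 n22162 = n10563 := d3_1 D22162 (iv6 D10563) D10559
def n22168 : Q := act 6 n10560
theorem D22168 : act 6 n10560 = n22168 := rfl
theorem F34619 : act 3 n22168 = n10563 := d7_1 D22168 (iv6 D10563) D10560
def n22170 : Q := act 0 n10561
theorem D22170 : act 0 n10561 = n22170 := rfl
def n22171 : Q := act 1 n10561
theorem D22171 : act 1 n10561 = n22171 := rfl
theorem F34621 : act 1 n22171 = n10566 := d15_1 D22171 (iv7 F34614) F34613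
def n22174 : Q := act 6 n10561
theorem D22174 : act 6 n10561 = n22174 := rfl
def n22175 : Q := act 7 n10561
theorem D22175 : act 7 n10561 = n22175 := rfl
theorem F34623 : act 2 n22175 = n10566 := d4_1 D22175 (iv7 F34614) F34613
theorem F34624 : act 4 n22175 = n10564 := d11_1 D22175 (iv7 D10564) D10561
theorem F34625 : act 1 n10566 = n22170 := d15_0 (iv0 D22170) D22175 F34623
def n22176 : Q := act 0 n10562
theorem D22176 : act 0 n10562 = n22176 := rfl
theorem F34626 : act 5 n22176 = n21871 := d21_2 D10562 D22176 (iv6 D21871) (iv1 D10430) (iv6 D4724) (iv5 D1953) (iv1 F1884) D1008 D1993 D4832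
def n22177 : Q := act 1 n10562
theorem D22177 : act 1 n10562 = n22177 := rfl
theorem F34627 : act 1 n22177 = n10567 := d15_1 D22177 (iv7 F34616) F34615
def n22179 : Q := act 6 n10562
theorem D22179 : act 6 n10562 = n22179 := rfl
def n22180 : Q := act 7 n10562
theorem D22180 : act 7 n10562 = n22180 := rfl
theorem F34628 : act 2 n22180 = n10567 := d4_1 D22180 (iv7 F34616) F34615
theorem F34629 : act 5 n22180 = n10564 := d13_1 D22180 (iv7 D10564) D10562
theorem F34630 : act 1 n10567 = n22176 := d15_0 (iv0 D22176) D22180 F34628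
theorem F34631 : act 0 n10568 = n19534 := d21_10 (iv5 D19534) (iv1 F14345) F6076 D4933 (iv1 F16601) D21871 (iv5 F34626) (iv1 F34630) (iv5 D10567) D10568
theorem E4360 : n22058 = n19535 := ((c21_4 F17317 F34631 (iv5 D19534) D19535 (iv1 D22058) (iv6 D10507) D10506 (iv1 F17344) (iv5 F17319) (iv6 D10798) D10795)).symm
theorem F34632 : act 0 n19535 = n10507 := (sb E4360 (iv1 D22058))
def n22181 : Q := act 0 n10563
theorem D22181 : act 0 n10563 = n22181 := rfl
def n22182 : Q := act 1 n10563
theorem D22182 : act 1 n10563 = n22182 := rfl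
def n22183 : Q := act 7 n10563
theorem D22183 : act 7 n10563 = n22183 := rfl
def n22184 : Q := act 6 n10564
theorem D22184 : act 6 n10564 = n22184 := rfl
theorem F34633 : act 2 n22184 = n10568 := d3_1 D22184 (iv6 D10568) (iv2 F17036)
def n22190 : Q := act 6 n10565
theorem D22190 : act 6 n10565 = n22190 := rfl
theorem F34635 : act 3 n22190 = n10568 := d7_1 D22190 (iv6 D10568) D10565
def n22191 : Q := act 3 n10566
theorem D22191 : act 3 n10566 = n22191 := rfl
def n22192 : Q := act 5 n10566
theorem D22192 : act 5 n10566 = n22192 := rfl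
def n22193 : Q := act 6 n10566
theorem D22193 : act 6 n10566 = n22193 := rfl
theorem F34636 : act 4 n22193 = n10568 := d10_1 D22193 (iv6 D10568) D10566
def n22195 : Q := act 1 n10568
theorem D22195 : act 1 n10568 = n22195 := rfl
def n22196 : Q := act 7 n10568
theorem D22196 : act 7 n10568 = n22196 := rfl
def n22197 : Q := act 2 n10569
theorem D22197 : act 2 n10569 = n22197 := rfl
theorem F34637 : act 7 n10570 = n22197 := d15_2 (iv0 D10569) D10570 (iv2 D22197)
def n22200 : Q := act 5 n10569
theorem D22200 : act 5 n10569 = n22200 := rfl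
theorem F34638 : act 6 n22200 = n10801 := d12_2 (iv6 F31320) D22200 (iv5 F31321) (iv6 D19569) D19568
def n22201 : Q := act 7 n10569
theorem D22201 : act 7 n10569 = n22201 := rfl
theorem F34639 : act 2 n22201 = n10570 := d4_1 D22201 F34637 (iv2 D22197)
def n22204 : Q := act 5 n10570
theorem D22204 : act 5 n10570 = n22204 := rfl
theorem F34640 : act 6 n10613 = n22204 := d21_5 F3039 (iv1 F6294) F6987 D4858 D10613 (iv5 D22204) (iv1 D10570) (iv5 D4834) (iv6 D1993) F6909
def n22206 : Q := act 0 n10571
theorem D22206 : act 0 n10571 = n22206 := rfl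
def n22207 : Q := act 1 n10571
theorem D22207 : act 1 n10571 = n22207 := rfl
def n22210 : Q := act 7 n10571
theorem D22210 : act 7 n10571 = n22210 := rfl
theorem F34642 : act 4 n22210 = n10572 := d11_1 D22210 (iv7 D10572) D10571
def n22212 : Q := act 5 n10594
theorem D22212 : act 5 n10594 = n22212 := rfl
def n22213 : Q := act 6 n10594
theorem D22213 : act 6 n10594 = n22213 := rfl
theorem F34648 : act 2 n22213 = n21147 := d3_1 D22213 (iv6 D21147) F17446
theorem F34649 : act 4 n22213 = n10595 := d10_1 D22213 (iv6 D10595) D10594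
def n22214 : Q := act 0 n10595
theorem D22214 : act 0 n10595 = n22214 := rfl
def n22215 : Q := act 1 n10595
theorem D22215 : act 1 n10595 = n22215 := rfl
theorem F34650 : act 1 n22215 = n21150 := d15_1 D22215 (iv7 D21150) F17447
def n22216 : Q := act 7 n10595
theorem D22216 : act 7 n10595 = n22216 := rfl
theorem F34651 : act 2 n22216 = n21150 := d4_1 D22216 (iv7 D21150) F17447
theorem F34652 : act 3 n22216 = n22216 := d8_1 D22216 (iv7 D22216) F17614
theorem F34654 : act 1 n21150 = n22214 := d15_0 (iv0 D22214) D22216 F34651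
theorem F34655 : act 1 n21149 = n22216 := d15_1 D21149 (iv7 D22216) (iv2 F17447)
theorem F34656 : act 1 n22216 = n21148 := d15_0 (iv0 D21148) D21150 (iv2 F34651)
def n22219 : Q := act 6 n10596
theorem D22219 : act 6 n10596 = n22219 := rfl
def n22222 : Q := act 6 n10597
theorem D22222 : act 6 n10597 = n22222 := rfl
theorem F34668 : act 2 n22222 = n22219 := d3_1 D22222 (iv6 D22219) (iv2 F17620)
theorem F34669 : act 4 n22222 = n21015 := d10_1 D22222 (iv6 D21015) F17617
def n22227 : Q := act 4 n10599
theorem D22227 : act 4 n10599 = n22227 := rfl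
theorem F34675 : act 2 n22227 = n22124 := d1_1 D22227 F34595 F34531
theorem F34676 : act 5 n22227 = n21973 := d9_2 D10599 D22227 (iv4 D21973) (iv5 D10481) F6880 D4810 D10508 D22062 (iv4 F34595) (iv5 D22124) (iv4 D10548) (iv5 D4827) F3304 D1996 D4847
def n22229 : Q := act 0 n10600
theorem D22229 : act 0 n10600 = n22229 := rfl
def n22230 : Q := act 1 n10600
theorem D22230 : act 1 n10600 = n22230 := rfl
def n22231 : Q := act 5 n10600
theorem D22231 : act 5 n10600 = n22231 := rfl
theorem F34679 : act 6 n22231 = n19475 := d12_2 D10600 D22231 (iv5 D19475) (iv6 D9147) F6999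
def n22232 : Q := act 7 n10600
theorem D22232 : act 7 n10600 = n22232 := rfl
theorem F34680 : act 3 n22232 = n10608 := d8_1 D22232 (iv7 D10608) (iv3 F17107)
theorem F34681 : act 6 n22232 = n10685 := d14_1 D22232 (iv7 D10685) (iv6 D4891) F7107 D10600
def n22233 : Q := act 3 n10601
theorem D22233 : act 3 n10601 = n22233 := rfl
theorem F34682 : act 4 n22233 = n10854 := d5_2 (iv4 F17108) D22233 (iv3 D10854) (iv4 F13246) (iv3 F13379)
theorem F34683 : act 7 n22233 = n10651 := d8_2 (iv7 F17111) D22233 (iv3 D10651)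
theorem F34684 : act 0 n22233 = n10966 := d20_4 D4901 (iv1 F13382) (iv4 F17108) D22233 (iv3 D10966) (iv4 D4998) (iv1 D2054) (iv4 F3316) (iv3 D2024) D2022
theorem F34685 : act 2 n22233 = n19306 := d15_3 (iv0 D19306) (iv0 F17196) (iv7 F34683)
def n22234 : Q := act 6 n10601
theorem D22234 : act 6 n10601 = n22234 := rfl
theorem F34686 : act 2 n22234 = n10650 := d3_1 D22234 (iv6 D10650) F17109
theorem F34687 : act 4 n22234 = n18141 := d10_1 D22234 (iv6 D18141) (iv4 F17108)
def n22235 : Q := act 0 n10602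
theorem D22235 : act 0 n10602 = n22235 := rfl
theorem F34688 : act 2 n10687 = n22235 := d15_3 (iv0 D22235) (iv0 F31831) F31828
theorem F34689 : act 1 n10688 = n22235 := d15_0 (iv0 D22235) F17112 D10688
theorem F34690 : act 4 n22235 = n20518 := d1_2 F17230 F34688 (iv2 D20518)
theorem F34691 : act 7 n22235 = n10686 := d4_2 F31828 F34688 (iv2 F31829)
theorem F34692 : act 1 n20004 = n10688 := d15_0 F34689 F34691 (iv2 F31829)
def n22236 : Q := act 2 n10602
theorem D22236 : act 2 n10602 = n22236 := rfl
theorem F34693 : act 3 n22236 = n10654 := d0_2 D10602 D22236 (iv2 D10654) (iv3 D4882) (iv2 F7092)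
theorem F34694 : act 7 n22236 = n10688 := d4_2 (iv7 F17112) D22236 (iv2 D10688)
theorem F34695 : act 1 n22236 = n10686 := d15_0 (iv0 D10686) (iv7 F17112) D22236
theorem F34696 : act 1 n10687 = n22236 := d15_0 F34695 (iv7 F34691) (iv2 F34688)
theorem F34697 : act 5 n18029 = n22236 := d6_0 F34693 (iv5 F17204) D18029
def n22237 : Q := act 5 n10602
theorem D22237 : act 5 n10602 = n22237 := rfl
theorem F34698 : act 2 n22237 = n18029 := d2_1 D22237 F34697 (iv2 D22236)
theorem F34699 : act 3 n22237 = n10603 := d6_1 D22237 (iv5 D10603) D10602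
theorem F34700 : act 7 n22237 = n10689 := d13_2 (iv7 F17112) D22237 (iv5 D10689)
theorem F34701 : act 0 n22237 = n22126 := d17_2 F31831 D22237 (iv5 D22126) F31352 (iv5 D16937) D16936 (iv5 F31825) (iv0 D20001) D20004
def n22238 : Q := act 6 n10602
theorem D22238 : act 6 n10602 = n22238 := rfl
theorem F34702 : act 3 n22238 = n10604 := d7_1 D22238 (iv6 D10604) D10602
def n22239 : Q := act 6 n10603
theorem D22239 : act 6 n10603 = n22239 := rfl
theorem F34703 : act 2 n22239 = n10659 := d3_1 D22239 (iv6 D10659) (iv2 F17113)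
def n22240 : Q := act 0 n10604
theorem D22240 : act 0 n10604 = n22240 := rfl
def n22241 : Q := act 1 n10604
theorem D22241 : act 1 n10604 = n22241 := rfl
theorem F34704 : act 1 n22241 = n10663 := d15_1 D22241 (iv7 D10663) (iv2 F17117)
def n22242 : Q := act 5 n10604
theorem D22242 : act 5 n10604 = n22242 := rfl
theorem F34705 : act 2 n22242 = n10662 := d2_1 D22242 (iv5 D10662) (iv2 F17117)
def n22243 : Q := act 7 n10604
theorem D22243 : act 7 n10604 = n22243 := rfl
theorem F34706 : act 2 n22243 = n10663 := d4_1 D22243 (iv7 D10663) (iv2 F17117)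
theorem F34707 : act 4 n22243 = n10608 := d11_1 D22243 (iv7 D10608) (iv4 F17118)
theorem F34708 : act 6 n22243 = n10695 := d14_1 D22243 (iv7 D10695) (iv6 D4894) F7096 D10604
theorem F34709 : act 1 n10663 = n22240 := d15_0 (iv0 D22240) D22243 F34706
theorem F34710 : act 1 n10661 = n22243 := d15_1 D10661 (iv7 D22243) F17117
theorem F34711 : act 1 n22243 = n10660 := d15_0 (iv0 D10660) D10663 (iv2 F34706)
def n22244 : Q := act 2 n10605
theorem D22244 : act 2 n10605 = n22244 := rfl
theorem F34712 : act 6 n22244 = n22043 := d3_2 (iv6 F17119) D22244 F34522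
theorem F34713 : act 7 n10606 = n22244 := d15_2 (iv0 D10605) D10606 (iv2 D22244)
def n22245 : Q := act 3 n10605
theorem D22245 : act 3 n10605 = n22245 := rfl
theorem F34714 : act 6 n22245 = n22051 := d7_2 (iv6 F17119) D22245 F34525
def n22246 : Q := act 4 n10605
theorem D22246 : act 4 n10605 = n22246 := rfl
theorem F34715 : act 6 n22246 = n22056 := d10_2 (iv6 F17119) D22246 (iv4 D22056)
def n22247 : Q := act 5 n10605
theorem D22247 : act 5 n10605 = n22247 := rfl
theorem F34716 : act 6 n22247 = n22059 := d12_2 (iv6 F17119) D22247 (iv5 D22059) (iv6 D10507) D10506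
theorem F34717 : act 0 n22059 = n21870 := d21_10 (iv5 D21870) (iv1 D10430) D10431 F16604 F14256 (iv6 F17122) (iv5 D10607) D10605 D22247 F34716
def n22248 : Q := act 7 n10605
theorem D22248 : act 7 n10605 = n22248 := rfl
theorem F34718 : act 2 n22248 = n10606 := d4_1 D22248 F34713 (iv2 D22244)
def n22249 : Q := act 3 n10606
theorem D22249 : act 3 n10606 = n22249 := rfl
def n22250 : Q := act 4 n10606
theorem D22250 : act 4 n10606 = n22250 := rfl
def n22251 : Q := act 5 n10606
theorem D22251 : act 5 n10606 = n22251 := rfl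
def n22252 : Q := act 6 n10606
theorem D22252 : act 6 n10606 = n22252 := rfl
theorem F34719 : act 7 n22252 = n22042 := d14_2 (iv7 F34713) D22252 (iv6 D22042) D22043 (iv6 F34712)
def n22253 : Q := act 0 n10607
theorem D22253 : act 0 n10607 = n22253 := rfl
def n22254 : Q := act 1 n10607
theorem D22254 : act 1 n10607 = n22254 := rfl
theorem F34720 : act 1 n22254 = n10677 := d15_1 D22254 (iv7 D10677) (iv2 F17121)
theorem F34721 : act 5 n19564 = n22254 := d21_6 F1893 F6537 (iv5 F7120) D4166 D9205 D19564 (iv1 D22254) (iv5 D10607) (iv6 D4853) (iv1 F3309)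
def n22255 : Q := act 4 n10607
theorem D22255 : act 4 n10607 = n22255 := rfl
theorem F34722 : act 2 n22255 = n10676 := d1_1 D22255 (iv4 D10676) (iv2 F17121)
theorem F34723 : act 6 n22255 = n19477 := d10_2 (iv6 F17122) D22255 (iv4 D19477)
def n22256 : Q := act 7 n10607
theorem D22256 : act 7 n10607 = n22256 := rfl
theorem F34724 : act 2 n22256 = n10677 := d4_1 D22256 (iv7 D10677) (iv2 F17121)
theorem F34725 : act 5 n22256 = n10608 := d13_1 D22256 (iv7 D10608) D10607
theorem F34726 : act 1 n10677 = n22253 := d15_0 (iv0 D22253) D22256 F34724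
theorem F34727 : act 1 n10675 = n22256 := d15_1 D10675 (iv7 D22256) F17121
theorem F34728 : act 5 n19693 = n22253 := d21_0 (iv1 F34726) F17220 (iv6 F17144) (iv1 F17146) D10705 (iv5 F31433) (iv1 F31438) (iv5 D9244) D9245 D19693
theorem F34729 : act 1 n22256 = n10674 := d15_0 (iv0 D10674) D10677 (iv2 F34724)
def n22257 : Q := act 0 n10609
theorem D22257 : act 0 n10609 = n22257 := rfl
def n22258 : Q := act 1 n10609
theorem D22258 : act 1 n10609 = n22258 := rfl
def n22259 : Q := act 5 n10609
theorem D22259 : act 5 n10609 = n22259 := rfl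
theorem F34730 : act 3 n22259 = n10615 := d6_1 D22259 (iv5 D10615) (iv3 F17128)
theorem F34731 : act 6 n22259 = n10831 := d12_2 D10609 D22259 (iv5 D10831) F7355 (iv5 F6991)
def n22260 : Q := act 7 n10609
theorem D22260 : act 7 n10609 = n22260 := rfl
theorem F34732 : act 3 n22260 = n10616 := d8_1 D22260 (iv7 D10616) (iv3 F17128)
theorem F34733 : act 4 n22260 = n19349 := d11_1 D22260 (iv7 D19349) (iv4 F17129)
theorem F34734 : act 6 n22260 = n10648 := d14_1 D22260 (iv7 D10648) (iv6 D4878) (iv7 F7103) D10609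
def n22261 : Q := act 6 n10610
theorem D22261 : act 6 n10610 = n22261 := rfl
theorem F34735 : act 3 n22261 = n10612 := d7_1 D22261 (iv6 D10612) D10610
theorem F34736 : act 4 n22261 = n19344 := d10_1 D22261 (iv6 D19344) (iv4 F17130)
def n22262 : Q := act 6 n10611
theorem D22262 : act 6 n10611 = n22262 := rfl
theorem F34737 : act 2 n22262 = n10691 := d3_1 D22262 (iv6 D10691) (iv2 F17133)
theorem F34738 : act 3 n22262 = n18031 := d7_1 D22262 (iv6 D18031) (iv3 F17134)
def n22263 : Q := act 0 n10612
theorem D22263 : act 0 n10612 = n22263 := rfl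
def n22264 : Q := act 1 n10612
theorem D22264 : act 1 n10612 = n22264 := rfl
theorem F34739 : act 1 n22264 = n10695 := d15_1 D22264 (iv7 D10695) (iv2 F17138)
def n22265 : Q := act 5 n10612
theorem D22265 : act 5 n10612 = n22265 := rfl
theorem F34740 : act 2 n22265 = n10694 := d2_1 D22265 (iv5 D10694) (iv2 F17138)
def n22266 : Q := act 7 n10612
theorem D22266 : act 7 n10612 = n22266 := rfl
theorem F34741 : act 2 n22266 = n10695 := d4_1 D22266 (iv7 D10695) (iv2 F17138)
theorem F34742 : act 4 n22266 = n10616 := d11_1 D22266 (iv7 D10616) (iv4 F17139)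
theorem F34743 : act 6 n22266 = n10663 := d14_1 D22266 (iv7 D10663) (iv6 D4884) F7091 D10612
theorem F34744 : act 1 n10695 = n22263 := d15_0 (iv0 D22263) D22266 F34741
theorem F34745 : act 1 n10693 = n22266 := d15_1 D10693 (iv7 D22266) F17138
theorem F34746 : act 1 n22266 = n10692 := d15_0 (iv0 D10692) D10695 (iv2 F34741)
def n22267 : Q := act 2 n10613
theorem D22267 : act 2 n10613 = n22267 := rfl
theorem F34747 : act 7 n10614 = n22267 := d15_2 (iv0 D10613) D10614 (iv2 D22267)
def n22268 : Q := act 3 n10613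
theorem D22268 : act 3 n10613 = n22268 := rfl
def n22269 : Q := act 4 n10613
theorem D22269 : act 4 n10613 = n22269 := rfl
def n22270 : Q := act 5 n10613
theorem D22270 : act 5 n10613 = n22270 := rfl
def n22271 : Q := act 7 n10613
theorem D22271 : act 7 n10613 = n22271 := rfl
theorem F34748 : act 2 n22271 = n10614 := d4_1 D22271 F34747 (iv2 D22267)
def n22273 : Q := act 4 n10614
theorem D22273 : act 4 n10614 = n22273 := rfl
def n22274 : Q := act 5 n10614
theorem D22274 : act 5 n10614 = n22274 := rfl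
theorem F34749 : act 6 n22253 = n22274 := d21_5 (iv5 D9649) F17461 D9150 (iv6 F17122) D22253 (iv5 D22274) (iv1 D10614) D10615 F17142 (iv1 F17508)
def n22275 : Q := act 6 n10614
theorem D22275 : act 6 n10614 = n22275 := rfl
def n22276 : Q := act 0 n10615
theorem D22276 : act 0 n10615 = n22276 := rfl
def n22277 : Q := act 1 n10615
theorem D22277 : act 1 n10615 = n22277 := rfl
theorem F34751 : act 5 n19594 = n22277 := d21_6 (iv5 D1012) (iv1 F6541) (iv5 F7124) D4171 D9215 D19594 (iv1 D22277) (iv5 D10615) (iv6 D4858) (iv1 D2009)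
def n22278 : Q := act 4 n10615
theorem D22278 : act 4 n10615 = n22278 := rfl
theorem F34752 : act 2 n22278 = n10708 := d1_1 D22278 (iv4 D10708) (iv2 F17141)
theorem F34753 : act 6 n22278 = n10835 := d10_2 (iv6 F17142) D22278 (iv4 D10835)
def n22279 : Q := act 7 n10615
theorem D22279 : act 7 n10615 = n22279 := rfl
theorem F34754 : act 2 n22279 = n10709 := d4_1 D22279 (iv7 D10709) (iv2 F17141)
theorem F34755 : act 5 n22279 = n10616 := d13_1 D22279 (iv7 D10616) D10615
theorem F34756 : act 1 n10709 = n22276 := d15_0 (iv0 D22276) D22279 F34754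
theorem F34757 : act 1 n10707 = n22279 := d15_1 D10707 (iv7 D22279) F17141
theorem F34758 : act 1 n22279 = n10706 := d15_0 (iv0 D10706) D10709 (iv2 F34754)
def n22280 : Q := act 0 n10617
theorem D22280 : act 0 n10617 = n22280 := rfl
theorem F34759 : act 4 n22280 = n10723 := d18_3 (iv1 D19274) (iv4 F17148) D22280 F25811 (iv4 D16259) (iv0 F27190) F30819 F30818 F30934
theorem F34760 : act 1 n10725 = n22280 := d15_0 (iv0 D22280) F17149 D10725
def n22281 : Q := act 1 n10617
theorem D22281 : act 1 n10617 = n22281 := rfl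
def n22282 : Q := act 2 n10617
theorem D22282 : act 2 n10617 = n22282 := rfl
theorem F34761 : act 3 n22282 = n10712 := d0_2 D10617 D22282 (iv2 D10712) (iv3 D4900) (iv2 F12311)
theorem F34762 : act 4 n22282 = n19275 := d1_2 (iv4 F17148) D22282 (iv2 D19275)
theorem F34763 : act 5 n22282 = n15358 := d2_2 (iv5 F27217) D22282 (iv2 F27267)
theorem F34764 : act 7 n22282 = n10725 := d4_2 (iv7 F17149) D22282 (iv2 D10725)
theorem F34765 : act 1 n22282 = n10723 := d15_0 (iv0 D10723) (iv7 F17149) D22282
theorem F34766 : act 1 n22281 = n10725 := d15_1 D22281 (iv7 F34764) (iv2 D22282)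
theorem F34767 : act 1 n10724 = n22282 := d15_1 D10724 F34764 (iv2 D10725)
theorem F34768 : act 4 n10724 = n22281 := d20_0 (iv1 D22281) F17148 (iv3 D9063) D9061 D19270 F30926 D21481 F33774 (iv3 F34761) (iv1 F34767)
theorem F34769 : act 3 n19329 = n22281 := d20_5 (iv4 D10112) (iv1 F7335) (iv4 F7234) D9080 D19329 (iv4 F34768) (iv1 D10724) D10726 F17251 (iv1 F15968)
def n22283 : Q := act 6 n10617
theorem D22283 : act 6 n10617 = n22283 := rfl
theorem F34770 : act 3 n22283 = n10619 := d7_1 D22283 (iv6 D10619) D10617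
theorem F34771 : act 4 n22283 = n19276 := d10_1 D22283 (iv6 D19276) (iv4 F17148)
def n22284 : Q := act 6 n10618
theorem D22284 : act 6 n10618 = n22284 := rfl
theorem F34772 : act 2 n22284 = n10718 := d3_1 D22284 (iv6 D10718) (iv2 F17150)
def n22285 : Q := act 0 n10619
theorem D22285 : act 0 n10619 = n22285 := rfl
def n22286 : Q := act 1 n10619
theorem D22286 : act 1 n10619 = n22286 := rfl
theorem F34773 : act 1 n22286 = n10722 := d15_1 D22286 (iv7 D10722) (iv2 F17154)
def n22287 : Q := act 5 n10619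
theorem D22287 : act 5 n10619 = n22287 := rfl
theorem F34774 : act 2 n22287 = n10721 := d2_1 D22287 (iv5 D10721) (iv2 F17154)
def n22288 : Q := act 7 n10619
theorem D22288 : act 7 n10619 = n22288 := rfl
theorem F34775 : act 2 n22288 = n10722 := d4_1 D22288 (iv7 D10722) (iv2 F17154)
theorem F34776 : act 4 n22288 = n19269 := d11_1 D22288 (iv7 D19269) (iv4 F17155)
theorem F34777 : act 6 n22288 = n10734 := d14_1 D22288 (iv7 D10734) (iv6 D4908) (iv7 F12312) D10619
theorem F34778 : act 1 n10722 = n22285 := d15_0 (iv0 D22285) D22288 F34775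
def n22289 : Q := act 0 n10620
theorem D22289 : act 0 n10620 = n22289 := rfl
theorem F34781 : act 5 n22289 = n18345 := d19_1 D22289 (iv4 D18345) (iv3 D8643) (iv1 F13301) F13299 (iv4 D4915) (iv3 F7338) D10740 F17270 F14353 F14348 (iv1 F7293) (iv5 D4377) (iv4 D1843) D1842 D4372 D9694 F15123 D10620
theorem F34782 : act 1 n10712 = n22289 := d15_0 (iv0 D22289) F17156 D10712
theorem F34783 : act 3 n19342 = n22289 := d6_3 F34781 (iv3 F31191) F31193
def n22290 : Q := act 1 n10620
theorem D22290 : act 1 n10620 = n22290 := rfl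
def n22291 : Q := act 2 n10620
theorem D22291 : act 2 n10620 = n22291 := rfl
theorem F34784 : act 3 n22291 = n10725 := d0_2 D10620 D22291 (iv2 D10725) (iv3 D4905) (iv2 F12313)
theorem F34785 : act 4 n22291 = n21211 := d1_2 F33676 D22291 (iv2 F33679)
theorem F34786 : act 7 n22291 = n10712 := d4_2 (iv7 F17156) D22291 (iv2 D10712)
theorem F34787 : act 1 n22291 = n10710 := d15_0 (iv0 D10710) (iv7 F17156) D22291
theorem F34788 : act 1 n22290 = n10712 := d15_1 D22290 (iv7 F34786) (iv2 D22291)
theorem F34789 : act 1 n10711 = n22291 := d15_1 D10711 F34786 (iv2 D10712)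
def n22292 : Q := act 5 n10620
theorem D22292 : act 5 n10620 = n22292 := rfl
theorem F34790 : act 3 n22292 = n10621 := d6_1 D22292 (iv5 D10621) D10620
theorem F34791 : act 7 n22292 = n10714 := d13_2 (iv7 F17156) D22292 (iv5 D10714)
def n22293 : Q := act 6 n10620
theorem D22293 : act 6 n10620 = n22293 := rfl
theorem F34792 : act 3 n22293 = n10622 := d7_1 D22293 (iv6 D10622) D10620
def n22294 : Q := act 6 n10621
theorem D22294 : act 6 n10621 = n22294 := rfl
theorem F34793 : act 2 n22294 = n10730 := d3_1 D22294 (iv6 D10730) (iv2 F17157)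
def n22295 : Q := act 0 n10622
theorem D22295 : act 0 n10622 = n22295 := rfl
def n22296 : Q := act 1 n10622
theorem D22296 : act 1 n10622 = n22296 := rfl
theorem F34794 : act 1 n22296 = n10734 := d15_1 D22296 (iv7 D10734) (iv2 F17161)
def n22297 : Q := act 5 n10622
theorem D22297 : act 5 n10622 = n22297 := rfl
theorem F34795 : act 2 n22297 = n10733 := d2_1 D22297 (iv5 D10733) (iv2 F17161)
def n22298 : Q := act 7 n10622
theorem D22298 : act 7 n10622 = n22298 := rfl
theorem F34796 : act 2 n22298 = n10734 := d4_1 D22298 (iv7 D10734) (iv2 F17161)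
theorem F34797 : act 6 n22298 = n10722 := d14_1 D22298 (iv7 D10722) (iv6 D4903) (iv7 F12314) D10622
theorem F34798 : act 1 n10734 = n22295 := d15_0 (iv0 D22295) D22298 F34796
theorem F34799 : act 1 n10732 = n22298 := d15_1 D10732 (iv7 D22298) F17161
theorem F34800 : act 1 n22298 = n10731 := d15_0 (iv0 D10731) D10734 (iv2 F34796)
def n22299 : Q := act 2 n10623
theorem D22299 : act 2 n10623 = n22299 := rfl
theorem F34801 : act 7 n10624 = n22299 := d15_2 (iv0 D10623) D10624 (iv2 D22299)
def n22300 : Q := act 3 n10623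
theorem D22300 : act 3 n10623 = n22300 := rfl
def n22301 : Q := act 4 n10623
theorem D22301 : act 4 n10623 = n22301 := rfl
def n22302 : Q := act 5 n10623
theorem D22302 : act 5 n10623 = n22302 := rfl
def n22303 : Q := act 6 n10623
theorem D22303 : act 6 n10623 = n22303 := rfl
def n22304 : Q := act 7 n10623
theorem D22304 : act 7 n10623 = n22304 := rfl
theorem F34802 : act 2 n22304 = n10624 := d4_1 D22304 F34801 (iv2 D22299)
def n22305 : Q := act 3 n10624
theorem D22305 : act 3 n10624 = n22305 := rfl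
theorem F34803 : act 4 n22305 = n20002 := d20_6 (iv4 D4994) (iv1 F3349) D4071 D9054 (iv1 F17166) D22305 (iv1 D20002) D20004 F31827 (iv1 D10958)
def n22306 : Q := act 4 n10624
theorem D22306 : act 4 n10624 = n22306 := rfl
def n22307 : Q := act 5 n10624
theorem D22307 : act 5 n10624 = n22307 := rfl
def n22308 : Q := act 6 n10624
theorem D22308 : act 6 n10624 = n22308 := rfl
def n22309 : Q := act 5 n10625
theorem D22309 : act 5 n10625 = n22309 := rfl
theorem F34804 : act 2 n22309 = n10626 := d2_1 D22309 (iv5 D10626) D10625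
theorem F34805 : act 3 n22309 = n10738 := d6_1 D22309 (iv5 D10738) (iv3 F17163)
theorem F34806 : act 7 n22309 = n19253 := d13_2 (iv7 F17165) D22309 (iv5 D19253)
def n22310 : Q := act 6 n10625
theorem D22310 : act 6 n10625 = n22310 := rfl
theorem F34807 : act 2 n22310 = n10627 := d3_1 D22310 (iv6 D10627) D10625
theorem F34808 : act 3 n22310 = n10739 := d7_1 D22310 (iv6 D10739) (iv3 F17163)
theorem F34809 : act 4 n22310 = n22310 := d10_1 D22310 (iv6 D22310) F17164
def n22311 : Q := act 0 n10626
theorem D22311 : act 0 n10626 = n22311 := rfl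
theorem F34810 : act 1 n19253 = n22311 := d15_0 (iv0 D22311) (iv7 F29559) (iv2 F30908)
def n22312 : Q := act 1 n10626
theorem D22312 : act 1 n10626 = n22312 := rfl
theorem F34811 : act 1 n22312 = n19253 := d15_1 D22312 (iv7 F34806) F34804
def n22313 : Q := act 4 n10626
theorem D22313 : act 4 n10626 = n22313 := rfl
def n22314 : Q := act 6 n10626
theorem D22314 : act 6 n10626 = n22314 := rfl
theorem F34812 : act 3 n22314 = n10628 := d7_1 D22314 (iv6 D10628) (iv3 F17167)
def n22315 : Q := act 0 n10627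
theorem D22315 : act 0 n10627 = n22315 := rfl
def n22316 : Q := act 1 n10627
theorem D22316 : act 1 n10627 = n22316 := rfl
def n22317 : Q := act 5 n10627
theorem D22317 : act 5 n10627 = n22317 := rfl
theorem F34813 : act 3 n22317 = n10631 := d6_1 D22317 (iv5 D10631) (iv3 F17168)
def n22318 : Q := act 7 n10627
theorem D22318 : act 7 n10627 = n22318 := rfl
theorem F34814 : act 3 n22318 = n10632 := d8_1 D22318 (iv7 D10632) (iv3 F17168)
theorem F34815 : act 4 n22318 = n22318 := d11_1 D22318 (iv7 D22318) F17169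
def n22319 : Q := act 0 n10628
theorem D22319 : act 0 n10628 = n22319 := rfl
def n22320 : Q := act 1 n10628
theorem D22320 : act 1 n10628 = n22320 := rfl
theorem F34816 : act 1 n22320 = n10756 := d15_1 D22320 (iv7 D10756) (iv2 F17170)
def n22321 : Q := act 5 n10628
theorem D22321 : act 5 n10628 = n22321 := rfl
theorem F34817 : act 2 n22321 = n10755 := d2_1 D22321 (iv5 D10755) (iv2 F17170)
theorem F34818 : act 6 n22321 = n10631 := d12_2 D10628 D22321 (iv5 D10631) (iv6 D4863) D4862
def n22322 : Q := act 7 n10628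
theorem D22322 : act 7 n10628 = n22322 := rfl
theorem F34819 : act 2 n22322 = n10756 := d4_1 D22322 (iv7 D10756) (iv2 F17170)
theorem F34820 : act 1 n10756 = n22319 := d15_0 (iv0 D22319) D22322 F34819
theorem F34821 : act 1 n10754 = n22322 := d15_1 D10754 (iv7 D22322) F17170
theorem F34822 : act 1 n22322 = n10753 := d15_0 (iv0 D10753) D10756 (iv2 F34819)
def n22323 : Q := act 3 n10629
theorem D22323 : act 3 n10629 = n22323 := rfl
theorem F34823 : act 4 n22323 = n19383 := d5_2 F17177 D22323 (iv3 D19383) (iv4 D9096) D9095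
theorem F34824 : act 7 n22323 = n10764 := d8_2 (iv7 F31063) D22323 (iv3 D10764)
def n22324 : Q := act 5 n10629
theorem D22324 : act 5 n10629 = n22324 := rfl
theorem F34825 : act 2 n22324 = n10761 := d2_1 D22324 (iv5 D10761) (iv2 F31062)
theorem F34826 : act 7 n22324 = n10766 := d13_2 (iv7 F31063) D22324 (iv5 D10766)
def n22325 : Q := act 6 n10629
theorem D22325 : act 6 n10629 = n22325 := rfl
theorem F34827 : act 2 n22325 = n10762 := d3_1 D22325 (iv6 D10762) (iv2 F31062)
theorem F34828 : act 4 n22325 = n19379 := d10_1 D22325 (iv6 D19379) F17177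
theorem F34829 : act 5 n22325 = n19647 := d21_6 D9219 F14405 (iv5 D4862) D4863 D10629 D22325 (iv1 D19647) (iv5 D9233) (iv6 D4176) D4172
def n22326 : Q := act 3 n10630
theorem D22326 : act 3 n10630 = n22326 := rfl
theorem F34830 : act 7 n22326 = n10759 := d8_2 (iv7 F31065) D22326 (iv3 D10759)
def n22327 : Q := act 4 n10630
theorem D22327 : act 4 n10630 = n22327 := rfl
theorem F34831 : act 2 n22327 = n10765 := d1_1 D22327 (iv4 D10765) (iv2 F31064)
theorem F34832 : act 7 n22327 = n10760 := d11_2 (iv7 F31065) D22327 (iv4 D10760)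
theorem F34833 : act 1 n19376 = n22327 := d15_1 D19376 F34832 F31066
theorem F34834 : act 3 n19398 = n22327 := d0_0 F34831 (iv3 F17290) (iv2 F31045) D9100 D19398
theorem F34835 : act 1 n22327 = n19375 := d15_0 (iv0 D19375) (iv7 F31046) (iv2 F34831)
theorem F34836 : act 0 n19398 = n19448 := d20_10 F31106 (iv1 D11033) (iv4 D5028) (iv3 D2062) (iv1 F1906) (iv3 F3321) (iv4 F7344) (iv1 F17171) D22327 (iv3 F34834)
def n22328 : Q := act 5 n10630
theorem D22328 : act 5 n10630 = n22328 := rfl
theorem F34837 : act 2 n22328 = n10766 := d2_1 D22328 (iv5 D10766) (iv2 F31064)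
theorem F34838 : act 7 n22328 = n10761 := d13_2 (iv7 F31065) D22328 (iv5 D10761)
def n22329 : Q := act 6 n10630
theorem D22329 : act 6 n10630 = n22329 := rfl
theorem F34839 : act 2 n22329 = n10767 := d3_1 D22329 (iv6 D10767) (iv2 F31064)
def n22330 : Q := act 0 n10631
theorem D22330 : act 0 n10631 = n22330 := rfl
def n22331 : Q := act 1 n10631
theorem D22331 : act 1 n10631 = n22331 := rfl
theorem F34840 : act 1 n22331 = n10771 := d15_1 D22331 (iv7 D10771) (iv2 F17172)
def n22332 : Q := act 4 n10631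
theorem D22332 : act 4 n10631 = n22332 := rfl
theorem F34841 : act 2 n22332 = n10770 := d1_1 D22332 (iv4 D10770) (iv2 F17172)
def n22333 : Q := act 7 n10631
theorem D22333 : act 7 n10631 = n22333 := rfl
theorem F34842 : act 2 n22333 = n10771 := d4_1 D22333 (iv7 D10771) (iv2 F17172)
theorem F34843 : act 5 n22333 = n10632 := d13_1 D22333 (iv7 D10632) D10631
theorem F34844 : act 1 n10771 = n22330 := d15_0 (iv0 D22330) D22333 F34842
theorem F34845 : act 1 n10769 = n22333 := d15_1 D10769 (iv7 D22333) F17172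
theorem F34846 : act 1 n22333 = n10768 := d15_0 (iv0 D10768) D10771 (iv2 F34842)
def n22334 : Q := act 0 n10634
theorem D22334 : act 0 n10634 = n22334 := rfl
theorem F34847 : act 1 n10806 = n22334 := d15_0 (iv0 D22334) F17355 D10806
def n22335 : Q := act 1 n10634
theorem D22335 : act 1 n10634 = n22335 := rfl
def n22336 : Q := act 2 n10634
theorem D22336 : act 2 n10634 = n22336 := rfl
theorem F34848 : act 3 n22336 = n10784 := d0_2 D10634 D22336 (iv2 D10784) (iv3 D4924) (iv2 F17351)
theorem F34849 : act 7 n22336 = n10806 := d4_2 (iv7 F17355) D22336 (iv2 D10806)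
theorem F34850 : act 1 n22336 = n10804 := d15_0 (iv0 D10804) (iv7 F17355) D22336
theorem F34851 : act 1 n22335 = n10806 := d15_1 D22335 (iv7 F34849) (iv2 D22336)
theorem F34852 : act 4 n19382 = n10783 := d20_2 D9101 (iv1 F31008) (iv3 F31117) (iv1 F34850) F34848 (iv4 F17365) (iv1 F30920) F30918 F14135 (iv1 F14137)
theorem E4361 : n19453 = n19375 := ((c20_11 (iv4 F31108) (iv1 F17316) (iv4 D4930) D4929 D10804 F31117 (iv4 F34852) (iv1 D19382) (iv4 D9096) D9095 D19375)).symm
theorem F34853 : act 3 n19375 = n9136 := (sb E4361 (iv3 D19453))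
theorem F34854 : act 4 n19375 = n10789 := (sb E4361 (iv4 F31108))
theorem F34855 : act 1 n10805 = n22336 := d15_1 D10805 F34849 (iv2 D10806)
theorem E4362 : n11020 = n10805 := ((c20_5 (iv4 F6006) D9090 F17365 (iv3 F34848) (iv1 F34855) (iv3 D11020) D11021 F31029 (iv4 D19399) (iv3 D9100) (iv1 D4088))).symm
theorem F34856 : act 3 n10805 = n5025 := (sb E4362 (iv3 D11020))
theorem F34857 : act 4 n10805 = n19460 := (sb E4362 F31119)
def n22337 : Q := act 4 n10634
theorem D22337 : act 4 n10634 = n22337 := rfl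
theorem F34858 : act 7 n22337 = n10807 := d11_2 (iv7 F17355) D22337 (iv4 D10807)
theorem F34859 : act 0 n22337 = n19454 := d20_7 (iv4 D22327) (iv1 D10630) F7032 F3313 D4864 D10634 D22337 (iv4 D19454) (iv3 F34853) (iv1 F34835)
def n22338 : Q := act 5 n10634
theorem D22338 : act 5 n10634 = n22338 := rfl
theorem F34861 : act 3 n22338 = n10636 := d6_1 D22338 (iv5 D10636) D10634
theorem F34862 : act 7 n22338 = n10808 := d13_2 (iv7 F17355) D22338 (iv5 D10808)
def n22339 : Q := act 0 n10635
theorem D22339 : act 0 n10635 = n22339 := rfl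
theorem F34863 : act 1 n10639 = n22339 := d15_0 (iv0 D22339) F17357 (iv2 F17348)
def n22340 : Q := act 1 n10635
theorem D22340 : act 1 n10635 = n22340 := rfl
theorem F34864 : act 1 n22340 = n10639 := d15_1 D22340 F17349 (iv2 F17356)
theorem F34865 : act 4 n22340 = n19428 := d20_2 D10639 (iv1 F34864) (iv3 D19428) (iv1 D9119) (iv3 D4094) F15274 (iv1 F3362) F3360 (iv3 F3321) (iv1 F7033)
theorem F34866 : act 4 n22334 = n19435 := d20_0 (iv1 F31112) (iv4 D19457) F14225 (iv1 F14229) D19428 (iv4 F34865) (iv1 D22340) (iv4 D10635) D10634 D22334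
def n22341 : Q := act 3 n10635
theorem D22341 : act 3 n10635 = n22341 := rfl
theorem F34867 : act 7 n22341 = n10810 := d8_2 (iv7 F17357) D22341 (iv3 D10810)
def n22342 : Q := act 5 n10635
theorem D22342 : act 5 n10635 = n22342 := rfl
theorem F34868 : act 2 n22342 = n10792 := d2_1 D22342 (iv5 D10792) (iv2 F17356)
theorem F34869 : act 7 n22342 = n10811 := d13_2 (iv7 F17357) D22342 (iv5 D10811)
def n22343 : Q := act 4 n10636
theorem D22343 : act 4 n10636 = n22343 := rfl
theorem F34870 : act 2 n22343 = n10797 := d1_1 D22343 (iv4 D10797) (iv2 F17358)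
theorem F34871 : act 7 n22343 = n10813 := d11_2 (iv7 F17359) D22343 (iv4 D10813)
def n22344 : Q := act 0 n10638
theorem D22344 : act 0 n10638 = n22344 := rfl
theorem F34872 : act 1 n10784 = n22344 := d15_0 (iv0 D22344) F17347 D10784
def n22345 : Q := act 1 n10638
theorem D22345 : act 1 n10638 = n22345 := rfl
theorem F34873 : act 3 n22334 = n22345 := d20_3 D9121 D19435 (iv4 F34866) (iv1 D22345) (iv3 D10638) D10639 (iv1 F34864) F34865 (iv3 D19428) (iv1 D9119)
def n22346 : Q := act 2 n10638
theorem D22346 : act 2 n10638 = n22346 := rfl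
theorem F34874 : act 3 n22346 = n10806 := d0_2 D10638 D22346 (iv2 D10806) (iv3 D4929) F17346
theorem F34875 : act 4 n22346 = n19256 := d1_2 (iv4 F17181) D22346 (iv2 F30915)
theorem F34876 : act 7 n22346 = n10784 := d4_2 (iv7 F17347) D22346 (iv2 D10784)
theorem F34877 : act 1 n22346 = n10782 := d15_0 (iv0 D10782) (iv7 F17347) D22346
theorem F34878 : act 1 n22345 = n10784 := d15_1 D22345 (iv7 F34876) (iv2 D22346)
theorem F34879 : act 1 n10783 = n22346 := d15_1 D10783 F34876 (iv2 D10784)
theorem E4363 : n22335 = n11054 := (c20_11 F31092 (iv1 D19436) (iv4 D9121) (iv3 D4094) (iv1 F3022) (iv3 F6007) (iv4 F14160) (iv1 F30913) (iv4 F34875) F34874 (iv1 F34851))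
theorem F34880 : act 0 n11054 = n10634 := (sb E4363 (iv1 D22335))
theorem F34881 : act 1 n11054 = n10806 := (sb E4363 F34851)
def n22347 : Q := act 6 n10638
theorem D22347 : act 6 n10638 = n22347 := rfl
theorem F34882 : act 3 n22347 = n10640 := d7_1 D22347 (iv6 D10640) D10638
theorem F34883 : act 4 n22347 = n19364 := d10_1 D22347 (iv6 D19364) (iv4 F17181)
def n22348 : Q := act 3 n10639
theorem D22348 : act 3 n10639 = n22348 := rfl
theorem F34884 : act 4 n22348 = n19362 := d5_2 D10639 D22348 (iv3 D19362) (iv4 F17181) (iv3 D10638)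
theorem F34885 : act 7 n22348 = n10791 := d8_2 (iv7 F17349) D22348 (iv3 D10791)
def n22349 : Q := act 5 n10639
theorem D22349 : act 5 n10639 = n22349 := rfl
theorem F34886 : act 2 n22349 = n10811 := d2_1 D22349 (iv5 D10811) (iv2 F17348)
theorem F34887 : act 7 n22349 = n10792 := d13_2 (iv7 F17349) D22349 (iv5 D10792)
def n22350 : Q := act 6 n10639
theorem D22350 : act 6 n10639 = n22350 := rfl
theorem F34888 : act 2 n22350 = n10812 := d3_1 D22350 (iv6 D10812) (iv2 F17348)
theorem F34889 : act 4 n22350 = n10640 := d10_1 D22350 (iv6 D10640) D10639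
def n22351 : Q := act 0 n10641
theorem D22351 : act 0 n10641 = n22351 := rfl
theorem F34890 : act 6 n22351 = n21915 := d21_5 (iv5 F7301) (iv1 F12147) (iv5 F7235) D10641 D22351 (iv5 D21915) (iv1 D10449) F7153 (iv6 D4748) (iv1 F14065)
def n22352 : Q := act 1 n10641
theorem D22352 : act 1 n10641 = n22352 := rfl
def n22353 : Q := act 5 n10641
theorem D22353 : act 5 n10641 = n22353 := rfl
theorem F34892 : act 2 n22353 = n10647 := d2_1 D22353 (iv5 D10647) (iv2 F17182)
theorem F34893 : act 6 n22353 = n19479 := d12_2 D10641 D22353 (iv5 D19479) (iv6 D9153) (iv5 F7235)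
def n22354 : Q := act 7 n10641
theorem D22354 : act 7 n10641 = n22354 := rfl
theorem F34894 : act 2 n22354 = n10648 := d4_1 D22354 (iv7 D10648) (iv2 F17182)
theorem F34895 : act 4 n22354 = n19340 := d11_1 D22354 (iv7 D19340) (iv4 F17183)
theorem F34896 : act 1 n10648 = n22351 := d15_0 (iv0 D22351) D22354 F34894
theorem F34897 : act 1 n10646 = n22354 := d15_1 D10646 (iv7 D22354) F17182
theorem F34898 : act 1 n22354 = n10645 := d15_0 (iv0 D10645) D10648 (iv2 F34894)
def n22355 : Q := act 0 n10642
theorem D22355 : act 0 n10642 = n22355 := rfl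
theorem F34899 : act 5 n22355 = n17986 := d17_1 D22355 (iv1 F29152) D17996 F29202 F29199 (iv0 D8724) D8726 (iv0 F13631) (iv4 F17184)
theorem F34900 : act 4 n22355 = n19341 := d18_1 D22355 (iv1 F30982) F29196 (iv5 F17204) (iv4 F16666) F16662 D18914 F30196 F21764
theorem F34901 : act 1 n19343 = n22355 := d15_0 (iv0 D22355) F17185 D19343
theorem F34902 : act 2 n19342 = n22355 := d2_3 F34899 (iv2 F31190) F31193
theorem F34903 : act 7 n19341 = n22355 := d13_0 F34899 (iv7 F30256) (iv5 F30981)
def n22356 : Q := act 1 n10642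
theorem D22356 : act 1 n10642 = n22356 := rfl
theorem F34904 : act 1 n22356 = n19343 := d15_1 D22356 F30985 F29195
theorem F34905 : act 7 n22356 = n19342 := d15_2 (iv0 D22355) D22356 F34902
theorem F34906 : act 5 n22356 = n17987 := d17_7 (iv1 F14291) F2868 D3532 (iv5 F14048) D13052 F21764 D22356 F29153 (iv4 D8488)
theorem F34907 : act 4 n22356 = n19342 := d18_7 (iv1 F29187) F29189 (iv1 F16673) F17201 (iv5 D10655) (iv4 F17184) D22356 F30986 (iv5 D18024)
theorem F34908 : act 2 n19341 = n22356 := d1_3 F34907 F34902 F34900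
theorem F34909 : act 3 n10710 = n22356 := d20_5 (iv4 D9425) (iv1 F7318) (iv4 D4901) D4900 D10710 F34907 (iv1 D19342) (iv4 F17130) (iv3 D10610) (iv1 F14655)
theorem F34910 : act 7 n22289 = n10710 := d8_0 F34909 F34905 F34783
theorem F34911 : act 2 n10710 = n22290 := d15_3 F34788 F34782 F34910
theorem F34912 : act 2 n22289 = n10711 := d15_3 F34789 F34787 (iv7 F34910)
theorem F34913 : act 7 n10711 = n22290 := d4_2 (iv7 F34910) F34912 (iv2 F34911)
def n22357 : Q := act 6 n10642
theorem D22357 : act 6 n10642 = n22357 := rfl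
theorem F34914 : act 3 n22357 = n10644 := d7_1 D22357 (iv6 D10644) D10642
theorem F34915 : act 4 n22357 = n10656 := d10_1 D22357 (iv6 D10656) (iv4 F17184)
def n22358 : Q := act 6 n10643
theorem D22358 : act 6 n10643 = n22358 := rfl
theorem F34916 : act 2 n22358 = n19336 := d3_1 D22358 (iv6 D19336) (iv2 F17186)
def n22359 : Q := act 0 n10644
theorem D22359 : act 0 n10644 = n22359 := rfl
def n22360 : Q := act 1 n10644
theorem D22360 : act 1 n10644 = n22360 := rfl
def n22361 : Q := act 5 n10644
theorem D22361 : act 5 n10644 = n22361 := rfl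
theorem F34918 : act 2 n22361 = n19339 := d2_1 D22361 (iv5 D19339) (iv2 F17189)
def n22362 : Q := act 7 n10644
theorem D22362 : act 7 n10644 = n22362 := rfl
theorem F34919 : act 2 n22362 = n19340 := d4_1 D22362 (iv7 D19340) (iv2 F17189)
theorem F34920 : act 4 n22362 = n10648 := d11_1 D22362 (iv7 D10648) (iv4 F17190)
theorem F34921 : act 6 n22362 = n19349 := d14_1 D22362 (iv7 D19349) (iv6 D9085) (iv7 F7232) D10644
theorem F34922 : act 1 n19340 = n22359 := d15_0 (iv0 D22359) D22362 F34919
def n22363 : Q := act 2 n10645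
theorem D22363 : act 2 n10645 = n22363 := rfl
theorem F34925 : act 7 n10646 = n22363 := d15_2 (iv0 D10645) D10646 (iv2 D22363)
def n22364 : Q := act 3 n10645
theorem D22364 : act 3 n10645 = n22364 := rfl
def n22365 : Q := act 4 n10645
theorem D22365 : act 4 n10645 = n22365 := rfl
def n22366 : Q := act 5 n10645
theorem D22366 : act 5 n10645 = n22366 := rfl
def n22367 : Q := act 6 n10645
theorem D22367 : act 6 n10645 = n22367 := rfl
theorem F34926 : act 5 n22367 = n21884 := d21_6 (iv5 D9151) (iv1 D4112) F7102 D4878 D10645 D22367 (iv1 D21884) F16626 (iv6 D10440) (iv1 F14261)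
def n22368 : Q := act 7 n10645
theorem D22368 : act 7 n10645 = n22368 := rfl
theorem F34927 : act 2 n22368 = n10646 := d4_1 D22368 F34925 (iv2 D22363)
def n22369 : Q := act 3 n10646
theorem D22369 : act 3 n10646 = n22369 := rfl
def n22370 : Q := act 4 n10646
theorem D22370 : act 4 n10646 = n22370 := rfl
def n22371 : Q := act 5 n10646
theorem D22371 : act 5 n10646 = n22371 := rfl
def n22372 : Q := act 6 n10646
theorem D22372 : act 6 n10646 = n22372 := rfl
def n22373 : Q := act 0 n10647
theorem D22373 : act 0 n10647 = n22373 := rfl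
def n22374 : Q := act 1 n10647
theorem D22374 : act 1 n10647 = n22374 := rfl
def n22375 : Q := act 4 n10647
theorem D22375 : act 4 n10647 = n22375 := rfl
theorem F34928 : act 6 n22375 = n19484 := d10_2 (iv6 F17192) D22375 (iv4 D19484)
def n22376 : Q := act 7 n10647
theorem D22376 : act 7 n10647 = n22376 := rfl
theorem F34929 : act 3 n22376 = n10677 := d8_1 D22376 (iv7 D10677) (iv3 F17191)
theorem F34930 : act 5 n22376 = n10648 := d13_1 D22376 (iv7 D10648) D10647
def n22377 : Q := act 0 n10649
theorem D22377 : act 0 n10649 = n22377 := rfl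
theorem F34931 : act 3 n22377 = n22306 := d20_5 (iv4 F7006) (iv1 F12196) (iv4 F7089) D10649 D22377 (iv4 D22306) (iv1 D10624) F7029 (iv3 D4861) D4859
def n22378 : Q := act 1 n10649
theorem D22378 : act 1 n10649 = n22378 := rfl
def n22379 : Q := act 2 n10649
theorem D22379 : act 2 n10649 = n22379 := rfl
theorem F34932 : act 3 n22379 = n19306 := d0_2 D10649 D22379 (iv2 F34685) (iv3 D22233) (iv2 F17109)
theorem F34933 : act 4 n22379 = n20498 := d1_2 (iv4 F17194) D22379 (iv2 D20498)
def n22380 : Q := act 6 n10649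
theorem D22380 : act 6 n10649 = n22380 := rfl
theorem F34934 : act 3 n22380 = n10650 := d7_1 D22380 (iv6 D10650) D10649
theorem F34935 : act 4 n22380 = n20500 := d10_1 D22380 (iv6 D20500) (iv4 F17194)
def n22381 : Q := act 0 n10650
theorem D22381 : act 0 n10650 = n22381 := rfl
def n22382 : Q := act 1 n10650
theorem D22382 : act 1 n10650 = n22382 := rfl
def n22383 : Q := act 5 n10650
theorem D22383 : act 5 n10650 = n22383 := rfl
def n22384 : Q := act 7 n10650
theorem D22384 : act 7 n10650 = n22384 := rfl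
theorem F34936 : act 4 n22384 = n20496 := d11_1 D22384 (iv7 D20496) (iv4 F17195)
def n22385 : Q := act 1 n10651
theorem D22385 : act 1 n10651 = n22385 := rfl
theorem F34937 : act 7 n22385 = n19307 := d15_2 (iv0 F17196) D22385 (iv2 D19307)
theorem F34938 : act 3 n19275 = n22385 := d20_3 F34759 (iv1 F34765) F34762 (iv1 D22385) (iv3 D10651) (iv4 F13992) F13991 F7006 D10617 D22280
theorem F34939 : act 2 n22385 = n10966 := d0_1 F34938 (iv3 D10966) F12318 D9063 D19275
theorem F34940 : act 1 n22233 = n19307 := d15_1 (iv0 F34684) (iv7 F34937) F34939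
theorem F34941 : act 1 n22385 = n19306 := d15_0 (iv0 D19306) (iv7 F17818) (iv2 F34939)
def n22386 : Q := act 2 n10651
theorem D22386 : act 2 n10651 = n22386 := rfl
theorem F34942 : act 7 n22386 = n19306 := d4_2 F34683 D22386 (iv2 F34685)
theorem F34943 : act 1 n22386 = n10966 := d15_0 (iv0 F34684) F34683 D22386
theorem F34944 : act 1 n19307 = n22386 := d15_0 F34943 F17818 D19307
def n22387 : Q := act 6 n10651
theorem D22387 : act 6 n10651 = n22387 := rfl
theorem F34945 : act 3 n22387 = n10652 := d7_1 D22387 (iv6 D10652) D10651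
def n22388 : Q := act 0 n10652
theorem D22388 : act 0 n10652 = n22388 := rfl
def n22389 : Q := act 1 n10652
theorem D22389 : act 1 n10652 = n22389 := rfl
def n22390 : Q := act 5 n10652
theorem D22390 : act 5 n10652 = n22390 := rfl
def n22391 : Q := act 7 n10652
theorem D22391 : act 7 n10652 = n22391 := rfl
def n22392 : Q := act 3 n10653
theorem D22392 : act 3 n10653 = n22392 := rfl
theorem F34946 : act 0 n22392 = n22301 := d20_10 (iv4 D22301) (iv1 F17162) F14129 (iv3 D9054) F7324 D10642 F17184 F13631 F17197 D22392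
def n22393 : Q := act 6 n10653
theorem D22393 : act 6 n10653 = n22393 := rfl
theorem F34947 : act 4 n22393 = n18571 := d10_1 D22393 (iv6 D18571) F17197
def n22394 : Q := act 6 n10654
theorem D22394 : act 6 n10654 = n22394 := rfl
theorem F34948 : act 2 n22394 = n10656 := d3_1 D22394 (iv6 D10656) D10654
def n22395 : Q := act 6 n10655
theorem D22395 : act 6 n10655 = n22395 := rfl
theorem F34949 : act 2 n22395 = n18030 := d3_1 D22395 (iv6 D18030) (iv2 F17202)
theorem F34950 : act 3 n22395 = n10659 := d7_1 D22395 (iv6 D10659) (iv3 F17198)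
theorem F34951 : act 4 n22395 = n17138 := d10_1 D22395 (iv6 D17138) F17201
def n22396 : Q := act 0 n10656
theorem D22396 : act 0 n10656 = n22396 := rfl
def n22397 : Q := act 1 n10656
theorem D22397 : act 1 n10656 = n22397 := rfl
def n22398 : Q := act 5 n10656
theorem D22398 : act 5 n10656 = n22398 := rfl
theorem F34952 : act 3 n22398 = n10662 := d6_1 D22398 (iv5 D10662) (iv3 F17205)
def n22399 : Q := act 7 n10656
theorem D22399 : act 7 n10656 = n22399 := rfl
theorem F34953 : act 3 n22399 = n10663 := d8_1 D22399 (iv7 D10663) (iv3 F17205)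
def n22400 : Q := act 3 n10657
theorem D22400 : act 3 n10657 = n22400 := rfl
theorem F34954 : act 5 n22400 = n19548 := d6_2 (iv5 F17206) D22400 (iv3 D19548)
theorem F34955 : act 7 n22400 = n21977 := d8_2 F17209 D22400 F34478
def n22401 : Q := act 6 n10657
theorem D22401 : act 6 n10657 = n22401 := rfl
theorem F34956 : act 2 n22401 = n21988 := d3_1 D22401 (iv6 D21988) F17208
def n22402 : Q := act 3 n10658
theorem D22402 : act 3 n10658 = n22402 := rfl
theorem F34957 : act 5 n22402 = n19550 := d6_2 (iv5 F17212) D22402 (iv3 D19550)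
theorem F34958 : act 7 n22402 = n21986 := d8_2 (iv7 F17211) D22402 F34491
theorem F34959 : act 0 n22402 = n19308 := d20_4 (iv4 F29403) F29404 F29330 D22402 F30960 (iv4 F30264) (iv1 F30638) (iv4 D19080) (iv3 F14428) (iv1 F17160)
def n22403 : Q := act 6 n10658
theorem D22403 : act 6 n10658 = n22403 := rfl
theorem F34960 : act 2 n22403 = n21979 := d3_1 D22403 (iv6 D21979) F17213
def n22404 : Q := act 0 n10659
theorem D22404 : act 0 n10659 = n22404 := rfl
def n22405 : Q := act 1 n10659
theorem D22405 : act 1 n10659 = n22405 := rfl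
def n22406 : Q := act 5 n10659
theorem D22406 : act 5 n10659 = n22406 := rfl
theorem F34961 : act 6 n22406 = n10662 := d12_2 D10659 D22406 (iv5 D10662) (iv6 D4884) D4883
def n22407 : Q := act 7 n10659
theorem D22407 : act 7 n10659 = n22407 := rfl
def n22408 : Q := act 2 n10660
theorem D22408 : act 2 n10660 = n22408 := rfl
theorem F34962 : act 7 n10661 = n22408 := d15_2 (iv0 D10660) D10661 (iv2 D22408)
def n22409 : Q := act 3 n10660
theorem D22409 : act 3 n10660 = n22409 := rfl
def n22410 : Q := act 4 n10660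
theorem D22410 : act 4 n10660 = n22410 := rfl
def n22411 : Q := act 5 n10660
theorem D22411 : act 5 n10660 = n22411 := rfl
def n22412 : Q := act 6 n10660
theorem D22412 : act 6 n10660 = n22412 := rfl
def n22413 : Q := act 7 n10660
theorem D22413 : act 7 n10660 = n22413 := rfl
theorem F34963 : act 2 n22413 = n10661 := d4_1 D22413 F34962 (iv2 D22408)
def n22414 : Q := act 3 n10661
theorem D22414 : act 3 n10661 = n22414 := rfl
def n22415 : Q := act 4 n10661
theorem D22415 : act 4 n10661 = n22415 := rfl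
def n22416 : Q := act 5 n10661
theorem D22416 : act 5 n10661 = n22416 := rfl
def n22417 : Q := act 6 n10661
theorem D22417 : act 6 n10661 = n22417 := rfl
def n22418 : Q := act 0 n10662
theorem D22418 : act 0 n10662 = n22418 := rfl
def n22419 : Q := act 1 n10662
theorem D22419 : act 1 n10662 = n22419 := rfl
theorem F34964 : act 5 n22147 = n22419 := d21_6 (iv5 F16698) (iv1 F16699) (iv5 D4830) D4831 D10555 D22147 (iv1 D22419) (iv5 D10662) (iv6 D4884) D4880
def n22420 : Q := act 4 n10662
theorem D22420 : act 4 n10662 = n22420 := rfl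
def n22421 : Q := act 7 n10662
theorem D22421 : act 7 n10662 = n22421 := rfl
theorem F34965 : act 5 n22421 = n10663 := d13_1 D22421 (iv7 D10663) D10662
def n22425 : Q := act 4 n10664
theorem D22425 : act 4 n10664 = n22425 := rfl
theorem F34969 : act 2 n22425 = n10666 := d1_1 D22425 (iv4 D10666) D10664
theorem F34970 : act 7 n22425 = n10671 := d11_2 F17215 D22425 (iv4 D10671)
def n22426 : Q := act 5 n10664
theorem D22426 : act 5 n10664 = n22426 := rfl
theorem F34971 : act 2 n22426 = n10667 := d2_1 D22426 (iv5 D10667) D10664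
theorem F34972 : act 7 n22426 = n10672 := d13_2 F17215 D22426 (iv5 D10672)
def n22427 : Q := act 6 n10664
theorem D22427 : act 6 n10664 = n22427 := rfl
theorem F34973 : act 2 n22427 = n10668 := d3_1 D22427 (iv6 D10668) D10664
theorem F34974 : act 5 n19595 = n22427 := d2_0 F34973 F17216 (iv2 F31372)
theorem F34975 : act 7 n10814 = n22427 := d15_2 (iv0 F17320) (iv0 F17337) F34973
def n22432 : Q := act 5 n10665
theorem D22432 : act 5 n10665 = n22432 := rfl
theorem F34976 : act 3 n22432 = n10667 := d6_1 D22432 (iv5 D10667) D10665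
def n22433 : Q := act 6 n10665
theorem D22433 : act 6 n10665 = n22433 := rfl
theorem F34977 : act 3 n22433 = n10668 := d7_1 D22433 (iv6 D10668) D10665
theorem F34978 : act 5 n19596 = n22433 := d6_0 F34977 F17216 D19596
def n22434 : Q := act 7 n10665
theorem D22434 : act 7 n10665 = n22434 := rfl
theorem F34979 : act 3 n22434 = n10669 := d8_1 D22434 (iv7 D10669) D10665
def n22435 : Q := act 0 n10666
theorem D22435 : act 0 n10666 = n22435 := rfl
def n22436 : Q := act 1 n10666
theorem D22436 : act 1 n10666 = n22436 := rfl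
theorem F34980 : act 1 n22436 = n10671 := d15_1 D22436 (iv7 F34970) F34969
def n22437 : Q := act 3 n10666
theorem D22437 : act 3 n10666 = n22437 := rfl
def n22438 : Q := act 5 n10666
theorem D22438 : act 5 n10666 = n22438 := rfl
def n22439 : Q := act 6 n10666
theorem D22439 : act 6 n10666 = n22439 := rfl
theorem F34981 : act 4 n22439 = n10668 := d10_1 D22439 (iv6 D10668) D10666
def n22440 : Q := act 7 n10666
theorem D22440 : act 7 n10666 = n22440 := rfl
theorem F34982 : act 2 n22440 = n10671 := d4_1 D22440 (iv7 F34970) F34969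
theorem F34983 : act 4 n22440 = n10669 := d11_1 D22440 (iv7 D10669) D10666
theorem F34984 : act 1 n10671 = n22435 := d15_0 (iv0 D22435) D22440 F34982
def n22441 : Q := act 1 n10667
theorem D22441 : act 1 n10667 = n22441 := rfl
theorem F34985 : act 1 n22441 = n10672 := d15_1 D22441 (iv7 F34972) F34971
def n22442 : Q := act 4 n10667
theorem D22442 : act 4 n10667 = n22442 := rfl
def n22443 : Q := act 6 n10667
theorem D22443 : act 6 n10667 = n22443 := rfl
theorem F34986 : act 5 n22443 = n19598 := d12_1 D22443 (iv6 D19598) (iv5 F17216) (iv6 D10668) D10667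
theorem F34987 : act 0 n22443 = n10826 := d21_10 (iv5 D10826) (iv1 D4935) D4936 F7354 F6956 (iv6 F7240) (iv5 D4887) D4885 D10667 D22443
theorem F34988 : act 0 n10827 = n22200 := d21_10 (iv5 D22200) F31332 F31328 F14377 (iv1 F14396) D19598 (iv5 F34986) F34987 (iv5 D10826) D10827
theorem F34989 : act 0 n10821 = n22443 := d21_1 D10821 F34986 (iv6 D19598) (iv1 D9216) (iv6 D4171) F7124 F6540 (iv5 F1893) D2031 D4934
def n22444 : Q := act 7 n10667
theorem D22444 : act 7 n10667 = n22444 := rfl
theorem F34990 : act 2 n22444 = n10672 := d4_1 D22444 (iv7 F34972) F34971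
theorem F34991 : act 5 n22444 = n10669 := d13_1 D22444 (iv7 D10669) D10667
theorem F34992 : act 1 n10672 = n19695 := d15_0 (iv0 F31445) D22444 F34990
def n22445 : Q := act 7 n10668
theorem D22445 : act 7 n10668 = n22445 := rfl
def n22446 : Q := act 6 n10669
theorem D22446 : act 6 n10669 = n22446 := rfl
theorem F34995 : act 2 n22446 = n10673 := d3_1 D22446 (iv6 D10673) (iv2 F17217)
def n22451 : Q := act 5 n10670
theorem D22451 : act 5 n10670 = n22451 := rfl
theorem F34996 : act 3 n22451 = n10672 := d6_1 D22451 (iv5 D10672) D10670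
def n22452 : Q := act 6 n10670
theorem D22452 : act 6 n10670 = n22452 := rfl
theorem F34997 : act 3 n22452 = n10673 := d7_1 D22452 (iv6 D10673) D10670
def n22453 : Q := act 3 n10671
theorem D22453 : act 3 n10671 = n22453 := rfl
def n22454 : Q := act 5 n10671
theorem D22454 : act 5 n10671 = n22454 := rfl
def n22455 : Q := act 6 n10671
theorem D22455 : act 6 n10671 = n22455 := rfl
theorem F34998 : act 4 n22455 = n10673 := d10_1 D22455 (iv6 D10673) D10671
def n22456 : Q := act 4 n10672
theorem D22456 : act 4 n10672 = n22456 := rfl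
def n22457 : Q := act 6 n10672
theorem D22457 : act 6 n10672 = n22457 := rfl
theorem F34999 : act 0 n10839 = n22457 := d21_4 (iv5 D9146) (iv1 F6022) D4942 D10839 (iv6 D22457) (iv5 D10672) (iv1 D4886) D4887 F7240 F14247
def n22458 : Q := act 0 n10673
theorem D22458 : act 0 n10673 = n22458 := rfl
def n22459 : Q := act 1 n10673
theorem D22459 : act 1 n10673 = n22459 := rfl
def n22460 : Q := act 5 n10673
theorem D22460 : act 5 n10673 = n22460 := rfl
def n22461 : Q := act 7 n10673
theorem D22461 : act 7 n10673 = n22461 := rfl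
theorem F35000 : act 6 n22461 = n10814 := d14_1 D22461 F34975 (iv6 D22427) (iv7 F17215) D10673
theorem F35001 : act 0 n22461 = n10822 := d21_4 F7147 D9215 (iv5 F17336) (iv6 F35000) (iv6 D10822) D10821 F34989 F34986 (iv6 D19598) (iv1 D9216)
theorem F35002 : act 1 n22446 = n10822 := d15_0 (iv0 F35001) (iv7 D22461) (iv2 F34995)
def n22462 : Q := act 2 n10674
theorem D22462 : act 2 n10674 = n22462 := rfl
theorem F35003 : act 7 n10675 = n22462 := d15_2 (iv0 D10674) D10675 (iv2 D22462)
theorem F35004 : act 5 n22462 = n22183 := d13_1 F35003 (iv7 D22183) F17218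
def n22463 : Q := act 3 n10674
theorem D22463 : act 3 n10674 = n22463 := rfl
def n22464 : Q := act 4 n10674
theorem D22464 : act 4 n10674 = n22464 := rfl
def n22465 : Q := act 5 n10674
theorem D22465 : act 5 n10674 = n22465 := rfl
theorem F35005 : act 2 n22465 = n22183 := d2_1 D22465 (iv5 F35004) (iv2 D22462)
theorem F35006 : act 6 n22465 = n19673 := d12_2 (iv6 F17236) D22465 F31433 (iv6 D10705) D10704
theorem F35007 : act 7 n22162 = n22465 := d4_0 F35005 (iv7 D22183) (iv2 F34617)
theorem F35008 : act 1 n22465 = n22181 := d15_0 (iv0 D22181) D22183 (iv2 F35005)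
theorem E4364 : n22196 = n19673 := ((c14_2 F35007 F35006 (iv7 D22196) (iv6 D10568) F17035 D22162)).symm
theorem F35009 : act 7 n19673 = n10568 := (sb E4364 (iv7 D22196))
theorem F35010 : act 1 n22182 = n22465 := d15_1 D22182 (iv7 F35007) F34617
theorem F35011 : act 7 n10795 = n10705 := d13_2 F35009 (iv5 F17317) (iv5 F31433)
theorem E4365 : n22184 = n19674 := (c15_4 F31434 F31438 F35009 (iv2 F34633))
theorem F35012 : act 2 n19674 = n10568 := (sb E4365 F34633)
theorem F35013 : act 6 n19674 = n10564 := (sb E4365 (iv6 D22184))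
theorem F35014 : act 2 n10705 = n10796 := d15_3 F17318 F17323 F35011
theorem F35015 : act 6 n10796 = n10701 := d3_2 D10705 F35014 F17235
def n22466 : Q := act 7 n10674
theorem D22466 : act 7 n10674 = n22466 := rfl
theorem F35016 : act 2 n22466 = n10675 := d4_1 D22466 F35003 (iv2 D22462)
theorem F35017 : act 5 n22466 = n22162 := d13_1 D22466 F35007 (iv5 D22465)
def n22467 : Q := act 3 n10675
theorem D22467 : act 3 n10675 = n22467 := rfl
theorem F35018 : act 5 n22467 = n22168 := d6_2 F17218 D22467 F34619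
def n22468 : Q := act 4 n10675
theorem D22468 : act 4 n10675 = n22468 := rfl
def n22469 : Q := act 6 n10675
theorem D22469 : act 6 n10675 = n22469 := rfl
theorem F35019 : act 5 n22469 = n22179 := d12_1 D22469 (iv6 D22179) (iv5 D10562) D10563 F17218
def n22470 : Q := act 0 n10676
theorem D22470 : act 0 n10676 = n22470 := rfl
def n22471 : Q := act 1 n10676
theorem D22471 : act 1 n10676 = n22471 := rfl
def n22472 : Q := act 3 n10676
theorem D22472 : act 3 n10676 = n22472 := rfl
theorem F35020 : act 6 n22472 = n19505 := d7_2 (iv6 F17219) D22472 (iv3 D19505)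
def n22473 : Q := act 5 n10676
theorem D22473 : act 5 n10676 = n22473 := rfl
def n22474 : Q := act 7 n10676
theorem D22474 : act 7 n10676 = n22474 := rfl
theorem F35021 : act 4 n22474 = n10677 := d11_1 D22474 (iv7 D10677) D10676
def n22475 : Q := act 6 n10677
theorem D22475 : act 6 n10677 = n22475 := rfl
theorem F35022 : act 7 n22475 = n19508 := d14_2 D10677 D22475 (iv6 D19508) (iv7 D9181) (iv6 F7240)
def n22476 : Q := act 0 n10678
theorem D22476 : act 0 n10678 = n22476 := rfl
def n22477 : Q := act 1 n10678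
theorem D22477 : act 1 n10678 = n22477 := rfl
theorem F35023 : act 1 n22477 = n10685 := d15_1 D22477 (iv7 D10685) (iv2 F17221)
def n22478 : Q := act 5 n10678
theorem D22478 : act 5 n10678 = n22478 := rfl
theorem F35024 : act 2 n22478 = n10684 := d2_1 D22478 (iv5 D10684) (iv2 F17221)
theorem F35025 : act 6 n22478 = n19509 := d12_2 D10678 D22478 (iv5 D19509) (iv6 D9182) (iv5 F7241)
def n22479 : Q := act 7 n10678
theorem D22479 : act 7 n10678 = n22479 := rfl
theorem F35026 : act 2 n22479 = n10685 := d4_1 D22479 (iv7 D10685) (iv2 F17221)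
theorem F35027 : act 1 n10685 = n22476 := d15_0 (iv0 D22476) D22479 F35026
theorem F35028 : act 1 n10683 = n22479 := d15_1 D10683 (iv7 D22479) F17221
theorem F35029 : act 1 n22479 = n10682 := d15_0 (iv0 D10682) D10685 (iv2 F35026)
def n22480 : Q := act 0 n10679
theorem D22480 : act 0 n10679 = n22480 := rfl
def n22481 : Q := act 1 n10679
theorem D22481 : act 1 n10679 = n22481 := rfl
def n22482 : Q := act 2 n10679
theorem D22482 : act 2 n10679 = n22482 := rfl
theorem F35030 : act 3 n22482 = n19982 := d0_2 D10679 D22482 (iv2 F32541) (iv3 D20476) (iv2 F15181)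
theorem F35031 : act 4 n22482 = n10688 := d1_2 (iv4 F17222) D22482 (iv2 D10688)
theorem F35032 : act 5 n17005 = n22482 := d18_4 (iv1 D16936) F12510 D7940 D17005 F35031 F34689 F34690 F32608 F31825
def n22483 : Q := act 5 n10679
theorem D22483 : act 5 n10679 = n22483 := rfl
theorem F35033 : act 2 n22483 = n17005 := d2_1 D22483 F35032 (iv2 D22482)
theorem F35034 : act 3 n22483 = n10680 := d6_1 D22483 (iv5 D10680) D10679
theorem F35035 : act 7 n22483 = n17010 := d13_2 F32534 D22483 (iv5 F32533)
theorem F35036 : act 4 n17003 = n22483 := d11_3 F35035 (iv4 D17010) F27871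
theorem E4366 : n17009 = n17003 := (c5_6 F35036 F35034 (iv4 F32395) F32396 (iv4 D17010) D17009)
theorem F35037 : act 3 n17003 = n7941 := (sb E4366 (iv3 D17009))
theorem E4367 : n17003 = n16999 := ((c20_8 F14664 (iv1 F14671) (iv4 D9442) (iv3 F6337) D9743 (iv3 F27764) F27765 D16999 F35036 F35034 F17223)).symm
theorem F35038 : act 2 n16999 = n7940 := (sb E4367 (iv2 D17003))
theorem F35039 : act 3 n16999 = n7941 := (sb E4367 F35037)
theorem F35040 : act 4 n16999 = n22483 := (sb E4367 F35036)
theorem F35041 : act 7 n16999 = n7941 := (sb E4367 (iv7 F27871))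
theorem E4368 : n17008 = n17000 := (c15_4 F27862 F27868 F35041 (iv2 F27873))
theorem F35042 : act 2 n17000 = n7941 := (sb E4368 F27873)
theorem F35043 : act 7 n17000 = n7940 := (sb E4368 (iv7 D17008))
theorem F35044 : act 7 n17004 = n15387 := d8_2 F35043 D17004 F27863
theorem E4369 : n15385 = n15366 := (c11_3 F35044 (iv4 D15387) (iv7 F26620) (iv4 F27872))
theorem F35045 : act 2 n15366 = n7268 := (sb E4369 (iv2 D15385))
theorem F35046 : act 7 n15366 = n7268 := (sb E4369 F26620)
theorem F35047 : act 2 n15387 = n17004 := d1_3 F27872 F35045 D15387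
def n22484 : Q := act 6 n10679
theorem D22484 : act 6 n10679 = n22484 := rfl
theorem F35048 : act 3 n22484 = n10681 := d7_1 D22484 (iv6 D10681) D10679
theorem F35049 : act 4 n22484 = n10690 := d10_1 D22484 (iv6 D10690) (iv4 F17222)
def n22485 : Q := act 6 n10680
theorem D22485 : act 6 n10680 = n22485 := rfl
def n22486 : Q := act 0 n10681
theorem D22486 : act 0 n10681 = n22486 := rfl
def n22487 : Q := act 1 n10681
theorem D22487 : act 1 n10681 = n22487 := rfl
def n22488 : Q := act 5 n10681
theorem D22488 : act 5 n10681 = n22488 := rfl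
def n22489 : Q := act 7 n10681
theorem D22489 : act 7 n10681 = n22489 := rfl
theorem F35050 : act 4 n22489 = n10685 := d11_1 D22489 (iv7 D10685) (iv4 F17225)
def n22490 : Q := act 2 n10682
theorem D22490 : act 2 n10682 = n22490 := rfl
theorem F35051 : act 7 n10683 = n22490 := d15_2 (iv0 D10682) D10683 (iv2 D22490)
def n22491 : Q := act 3 n10682
theorem D22491 : act 3 n10682 = n22491 := rfl
def n22492 : Q := act 4 n10682
theorem D22492 : act 4 n10682 = n22492 := rfl
def n22493 : Q := act 5 n10682
theorem D22493 : act 5 n10682 = n22493 := rfl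
def n22494 : Q := act 6 n10682
theorem D22494 : act 6 n10682 = n22494 := rfl
def n22495 : Q := act 7 n10682
theorem D22495 : act 7 n10682 = n22495 := rfl
def n22496 : Q := act 3 n10683
theorem D22496 : act 3 n10683 = n22496 := rfl
def n22497 : Q := act 4 n10683
theorem D22497 : act 4 n10683 = n22497 := rfl
def n22498 : Q := act 5 n10683
theorem D22498 : act 5 n10683 = n22498 := rfl
def n22499 : Q := act 6 n10683
theorem D22499 : act 6 n10683 = n22499 := rfl
def n22500 : Q := act 0 n10684
theorem D22500 : act 0 n10684 = n22500 := rfl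
def n22501 : Q := act 1 n10684
theorem D22501 : act 1 n10684 = n22501 := rfl
def n22502 : Q := act 4 n10684
theorem D22502 : act 4 n10684 = n22502 := rfl
theorem F35053 : act 6 n22502 = n19511 := d10_2 (iv6 F17227) D22502 (iv4 D19511)
def n22503 : Q := act 7 n10684
theorem D22503 : act 7 n10684 = n22503 := rfl
theorem F35054 : act 3 n22503 = n10709 := d8_1 D22503 (iv7 D10709) (iv3 F17226)
theorem F35055 : act 5 n22503 = n10685 := d13_1 D22503 (iv7 D10685) D10684
def n22504 : Q := act 3 n10686
theorem D22504 : act 3 n10686 = n22504 := rfl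
theorem F35056 : act 2 n22504 = n19270 := d0_1 D22504 (iv3 D19270) F17804 (iv3 F31827) F31829
theorem F35057 : act 4 n22504 = n21482 := d5_2 (iv4 F31830) D22504 F33777 F33420 F32622
def n22505 : Q := act 6 n10686
theorem D22505 : act 6 n10686 = n22505 := rfl
def n22506 : Q := act 5 n10687
theorem D22506 : act 5 n10687 = n22506 := rfl
theorem F35058 : act 3 n22506 = n19181 := d6_1 D22506 F30825 F17229
def n22507 : Q := act 6 n10687
theorem D22507 : act 6 n10687 = n22507 := rfl
theorem F35059 : act 3 n22507 = n19272 := d7_1 D22507 (iv6 D19272) F17229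
theorem F35060 : act 4 n22507 = n20520 := d10_1 D22507 (iv6 D20520) F17230
def n22508 : Q := act 5 n10688
theorem D22508 : act 5 n10688 = n22508 := rfl
theorem F35061 : act 2 n22508 = n10689 := d2_1 D22508 (iv5 D10689) D10688
theorem F35062 : act 3 n22508 = n13057 := d6_1 D22508 (iv5 F29814) F29818
theorem F35063 : act 7 n22508 = n18029 := d13_2 F34694 D22508 F34697
theorem F35064 : act 0 n22508 = n22128 := d17_2 (iv1 F34689) D22508 (iv5 D22128) (iv4 F17031) (iv5 F31848) F31856 F32535 F32609 (iv4 F34690)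
theorem F35065 : act 1 n22237 = n22128 := d15_0 (iv0 F35064) F35063 (iv2 F34698)
theorem F35066 : act 1 n22508 = n22126 := d15_0 (iv0 F34701) F34700 (iv2 F35061)
def n22509 : Q := act 6 n10688
theorem D22509 : act 6 n10688 = n22509 := rfl
theorem F35067 : act 2 n22509 = n10690 := d3_1 D22509 (iv6 D10690) D10688
def n22510 : Q := act 0 n10689
theorem D22510 : act 0 n10689 = n22510 := rfl
theorem F35068 : act 5 n22510 = n19581 := d17_3 (iv1 D10687) D10689 D22510 (iv4 F33088) F33089 (iv0 F27779) (iv5 F32598) (iv0 D20516) F17230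
theorem F35069 : act 1 n18029 = n22510 := d15_0 (iv0 D22510) (iv7 F34700) F34698
theorem F35070 : act 2 n22128 = n22510 := d2_3 F35068 (iv2 F31350) D22128
theorem F35071 : act 7 n22126 = n22510 := d13_0 F35068 (iv7 F31353) D22126
def n22511 : Q := act 1 n10689
theorem D22511 : act 1 n10689 = n22511 := rfl
theorem F35072 : act 1 n22511 = n18029 := d15_1 D22511 (iv7 F35063) F35061
theorem F35073 : act 7 n22511 = n22128 := d15_2 (iv0 D22510) D22511 F35070
theorem F35074 : act 2 n22126 = n22511 := d4_3 F35073 F35070 (iv7 F35071)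
theorem F35075 : act 3 n19278 = n22511 := d8_3 F35073 F34598 (iv7 F30942)
theorem F35076 : act 5 n19582 = n22511 := d13_3 F35073 (iv5 D22128) (iv7 F31349)
def n22512 : Q := act 4 n10689
theorem D22512 : act 4 n10689 = n22512 := rfl
def n22513 : Q := act 6 n10689
theorem D22513 : act 6 n10689 = n22513 := rfl
theorem F35077 : act 3 n22513 = n10691 := d7_1 D22513 (iv6 D10691) (iv3 F17231)
def n22514 : Q := act 0 n10690
theorem D22514 : act 0 n10690 = n22514 := rfl
def n22515 : Q := act 1 n10690
theorem D22515 : act 1 n10690 = n22515 := rfl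
def n22516 : Q := act 5 n10690
theorem D22516 : act 5 n10690 = n22516 := rfl
theorem F35078 : act 3 n22516 = n10694 := d6_1 D22516 (iv5 D10694) (iv3 F17232)
def n22517 : Q := act 7 n10690
theorem D22517 : act 7 n10690 = n22517 := rfl
theorem F35079 : act 3 n22517 = n10695 := d8_1 D22517 (iv7 D10695) (iv3 F17232)
def n22518 : Q := act 0 n10691
theorem D22518 : act 0 n10691 = n22518 := rfl
def n22519 : Q := act 1 n10691
theorem D22519 : act 1 n10691 = n22519 := rfl
def n22520 : Q := act 5 n10691
theorem D22520 : act 5 n10691 = n22520 := rfl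
theorem F35080 : act 6 n22520 = n10694 := d12_2 D10691 D22520 (iv5 D10694) (iv6 D4894) D4893
def n22521 : Q := act 7 n10691
theorem D22521 : act 7 n10691 = n22521 := rfl
def n22522 : Q := act 2 n10692
theorem D22522 : act 2 n10692 = n22522 := rfl
theorem F35081 : act 7 n10693 = n22522 := d15_2 (iv0 D10692) D10693 (iv2 D22522)
def n22523 : Q := act 3 n10692
theorem D22523 : act 3 n10692 = n22523 := rfl
def n22524 : Q := act 4 n10692
theorem D22524 : act 4 n10692 = n22524 := rfl
def n22525 : Q := act 5 n10692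
theorem D22525 : act 5 n10692 = n22525 := rfl
def n22526 : Q := act 6 n10692
theorem D22526 : act 6 n10692 = n22526 := rfl
def n22527 : Q := act 7 n10692
theorem D22527 : act 7 n10692 = n22527 := rfl
theorem F35082 : act 2 n22527 = n10693 := d4_1 D22527 F35081 (iv2 D22522)
def n22528 : Q := act 3 n10693
theorem D22528 : act 3 n10693 = n22528 := rfl
def n22529 : Q := act 4 n10693
theorem D22529 : act 4 n10693 = n22529 := rfl
def n22530 : Q := act 5 n10693
theorem D22530 : act 5 n10693 = n22530 := rfl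
def n22531 : Q := act 6 n10693
theorem D22531 : act 6 n10693 = n22531 := rfl
def n22532 : Q := act 0 n10694
theorem D22532 : act 0 n10694 = n22532 := rfl
def n22533 : Q := act 1 n10694
theorem D22533 : act 1 n10694 = n22533 := rfl
theorem F35083 : act 5 n22012 = n22533 := d21_6 (iv5 F16701) (iv1 D10492) (iv5 D4785) D4786 D10494 D22012 (iv1 D22533) (iv5 D10694) (iv6 D4894) (iv1 F7238)
def n22534 : Q := act 4 n10694
theorem D22534 : act 4 n10694 = n22534 := rfl
def n22535 : Q := act 7 n10694
theorem D22535 : act 7 n10694 = n22535 := rfl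
theorem F35084 : act 5 n22535 = n10695 := d13_1 D22535 (iv7 D10695) D10694
def n22537 : Q := act 1 n10696
theorem D22537 : act 1 n10696 = n22537 := rfl
theorem F35086 : act 1 n22537 = n10701 := d15_1 D22537 (iv7 D10701) D10696
def n22538 : Q := act 3 n10696
theorem D22538 : act 3 n10696 = n22538 := rfl
theorem F35087 : act 7 n22538 = n10702 := d8_2 F17234 D22538 (iv3 D10702)
def n22539 : Q := act 4 n10696
theorem D22539 : act 4 n10696 = n22539 := rfl
theorem F35088 : act 2 n22539 = n10698 := d1_1 D22539 (iv4 D10698) D10696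
theorem F35089 : act 7 n22539 = n10703 := d11_2 F17234 D22539 (iv4 D10703)
def n22540 : Q := act 5 n10696
theorem D22540 : act 5 n10696 = n22540 := rfl
theorem F35090 : act 2 n22540 = n10699 := d2_1 D22540 (iv5 D10699) D10696
theorem F35091 : act 7 n22540 = n10704 := d13_2 F17234 D22540 (iv5 D10704)
def n22541 : Q := act 6 n10696
theorem D22541 : act 6 n10696 = n22541 := rfl
theorem F35092 : act 2 n22541 = n10700 := d3_1 D22541 (iv6 D10700) D10696
def n22546 : Q := act 5 n10697
theorem D22546 : act 5 n10697 = n22546 := rfl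
theorem F35093 : act 3 n22546 = n10699 := d6_1 D22546 (iv5 D10699) D10697
def n22547 : Q := act 6 n10697
theorem D22547 : act 6 n10697 = n22547 := rfl
theorem F35094 : act 3 n22547 = n10700 := d7_1 D22547 (iv6 D10700) D10697
def n22549 : Q := act 0 n10698
theorem D22549 : act 0 n10698 = n22549 := rfl
def n22550 : Q := act 1 n10698
theorem D22550 : act 1 n10698 = n22550 := rfl
theorem F35096 : act 1 n22550 = n10703 := d15_1 D22550 (iv7 F35089) F35088
def n22551 : Q := act 3 n10698
theorem D22551 : act 3 n10698 = n22551 := rfl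
def n22552 : Q := act 5 n10698
theorem D22552 : act 5 n10698 = n22552 := rfl
def n22553 : Q := act 6 n10698
theorem D22553 : act 6 n10698 = n22553 := rfl
theorem F35097 : act 4 n22553 = n10700 := d10_1 D22553 (iv6 D10700) D10698
def n22554 : Q := act 7 n10698
theorem D22554 : act 7 n10698 = n22554 := rfl
theorem F35098 : act 2 n22554 = n10703 := d4_1 D22554 (iv7 F35089) F35088
theorem F35099 : act 4 n22554 = n10701 := d11_1 D22554 (iv7 D10701) D10698
theorem F35100 : act 1 n10703 = n22549 := d15_0 (iv0 D22549) D22554 F35098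
def n22555 : Q := act 0 n10699
theorem D22555 : act 0 n10699 = n22555 := rfl
def n22556 : Q := act 1 n10699
theorem D22556 : act 1 n10699 = n22556 := rfl
theorem F35101 : act 1 n22556 = n10704 := d15_1 D22556 (iv7 F35091) F35090
def n22557 : Q := act 4 n10699
theorem D22557 : act 4 n10699 = n22557 := rfl
def n22558 : Q := act 6 n10699
theorem D22558 : act 6 n10699 = n22558 := rfl
def n22559 : Q := act 7 n10699
theorem D22559 : act 7 n10699 = n22559 := rfl
theorem F35102 : act 2 n22559 = n10704 := d4_1 D22559 (iv7 F35091) F35090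
theorem F35103 : act 5 n22559 = n10701 := d13_1 D22559 (iv7 D10701) D10699
theorem F35104 : act 1 n10704 = n22555 := d15_0 (iv0 D22555) D22559 F35102
theorem F35105 : act 6 n22462 = n22559 := d3_0 F35102 (iv6 F17236) D22462
theorem F35106 : act 7 n22558 = n22469 := d14_4 F35003 F35105 (iv7 D22559) D22558 (iv6 D22469)
def n22560 : Q := act 0 n10700
theorem D22560 : act 0 n10700 = n22560 := rfl
def n22561 : Q := act 1 n10700
theorem D22561 : act 1 n10700 = n22561 := rfl
def n22562 : Q := act 7 n10700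
theorem D22562 : act 7 n10700 = n22562 := rfl
def n22567 : Q := act 5 n10702
theorem D22567 : act 5 n10702 = n22567 := rfl
theorem F35107 : act 3 n22567 = n10704 := d6_1 D22567 (iv5 D10704) D10702
theorem F35108 : act 6 n22463 = n22567 := d7_0 F35107 (iv6 F17236) D22463
def n22568 : Q := act 6 n10702
theorem D22568 : act 6 n10702 = n22568 := rfl
theorem F35109 : act 3 n22568 = n10705 := d7_1 D22568 (iv6 D10705) D10702
def n22569 : Q := act 3 n10703
theorem D22569 : act 3 n10703 = n22569 := rfl
def n22570 : Q := act 5 n10703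
theorem D22570 : act 5 n10703 = n22570 := rfl
def n22571 : Q := act 6 n10703
theorem D22571 : act 6 n10703 = n22571 := rfl
theorem F35110 : act 4 n22571 = n10705 := d10_1 D22571 (iv6 D10705) D10703
def n22572 : Q := act 4 n10704
theorem D22572 : act 4 n10704 = n22572 := rfl
theorem F35111 : act 6 n22572 = n22464 := d10_2 F17236 D22572 (iv4 D22464)
def n22573 : Q := act 0 n10705
theorem D22573 : act 0 n10705 = n22573 := rfl
def n22574 : Q := act 1 n10705
theorem D22574 : act 1 n10705 = n22574 := rfl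
def n22575 : Q := act 2 n10706
theorem D22575 : act 2 n10706 = n22575 := rfl
theorem F35112 : act 7 n10707 = n22575 := d15_2 (iv0 D10706) D10707 (iv2 D22575)
theorem F35113 : act 5 n22575 = n22045 := d13_1 F35112 (iv7 D22045) F17237
def n22576 : Q := act 3 n10706
theorem D22576 : act 3 n10706 = n22576 := rfl
def n22577 : Q := act 4 n10706
theorem D22577 : act 4 n10706 = n22577 := rfl
def n22578 : Q := act 5 n10706
theorem D22578 : act 5 n10706 = n22578 := rfl
theorem F35114 : act 2 n22578 = n22045 := d2_1 D22578 (iv5 F35113) (iv2 D22575)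
theorem F35115 : act 6 n22578 = n19679 := d21_3 D4897 D10706 D22578 (iv1 D19679) (iv6 D9240) D9239 D19673 F31433 (iv6 D10705) (iv1 D4896)
theorem F35116 : act 7 n22027 = n22578 := d4_0 F35114 (iv7 D22045) (iv2 F34512)
theorem F35117 : act 1 n22578 = n22044 := d15_0 (iv0 D22044) D22045 (iv2 F35114)
theorem E4370 : n22060 = n19679 := ((c14_2 F35116 F35115 (iv7 D22060) (iv6 D10507) F16703 D22027)).symm
theorem F35118 : act 7 n19679 = n10507 := (sb E4370 (iv7 D22060))
theorem F35119 : act 1 n19676 = n22578 := d15_1 (iv0 F31435) (iv7 F35116) F34512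
theorem E4371 : n22046 = n19678 := (c15_4 (iv0 D19678) D19679 F35118 (iv2 F34524))
theorem F35120 : act 2 n19678 = n10507 := (sb E4371 F34524)
theorem F35121 : act 6 n19678 = n10503 := (sb E4371 (iv6 D22046))
def n22579 : Q := act 6 n10706
theorem D22579 : act 6 n10706 = n22579 := rfl
def n22580 : Q := act 7 n10706
theorem D22580 : act 7 n10706 = n22580 := rfl
theorem F35122 : act 2 n22580 = n10707 := d4_1 D22580 F35112 (iv2 D22575)
theorem F35123 : act 5 n22580 = n22027 := d13_1 D22580 F35116 (iv5 D22578)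
def n22581 : Q := act 3 n10707
theorem D22581 : act 3 n10707 = n22581 := rfl
theorem F35124 : act 5 n22581 = n22033 := d6_2 F17237 D22581 F34514
def n22582 : Q := act 4 n10707
theorem D22582 : act 4 n10707 = n22582 := rfl
def n22583 : Q := act 6 n10707
theorem D22583 : act 6 n10707 = n22583 := rfl
theorem F35125 : act 5 n22583 = n22042 := d12_1 D22583 (iv6 D22042) (iv5 D10501) D10502 F17237
def n22584 : Q := act 0 n10708
theorem D22584 : act 0 n10708 = n22584 := rfl
def n22585 : Q := act 1 n10708
theorem D22585 : act 1 n10708 = n22585 := rfl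
def n22586 : Q := act 3 n10708
theorem D22586 : act 3 n10708 = n22586 := rfl
theorem F35126 : act 6 n22586 = n19519 := d7_2 (iv6 F17238) D22586 (iv3 D19519)
def n22587 : Q := act 5 n10708
theorem D22587 : act 5 n10708 = n22587 := rfl
def n22588 : Q := act 7 n10708
theorem D22588 : act 7 n10708 = n22588 := rfl
theorem F35127 : act 4 n22588 = n10709 := d11_1 D22588 (iv7 D10709) D10708
def n22589 : Q := act 6 n10709
theorem D22589 : act 6 n10709 = n22589 := rfl
theorem F35128 : act 7 n22589 = n10839 := d14_2 D10709 D22589 (iv6 D10839) F7361 (iv6 F7315)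
def n22590 : Q := act 4 n10710
theorem D22590 : act 4 n10710 = n22590 := rfl
def n22591 : Q := act 5 n10710
theorem D22591 : act 5 n10710 = n22591 := rfl
theorem F35129 : act 3 n22591 = n17987 := d6_1 D22591 (iv5 F34906) (iv3 F34909)
theorem F35130 : act 7 n22591 = n18345 := d13_2 F34910 D22591 (iv5 F34781)
theorem F35131 : act 4 n22591 = n18249 := d19_2 D10710 D22591 (iv3 D18249) (iv1 D8610) D8612 F13524 F7342 D9086 F14417 F14413 (iv3 F14381) (iv1 F14385) (iv5 D4255) (iv4 D1808) D1807 F6152 (iv5 F7317) (iv4 D4901) D4900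
theorem F35132 : act 0 n10747 = n22591 := d20_4 F31300 (iv1 F29333) F13498 D10747 F35129 F30254 (iv1 F30253) F22000 (iv3 F22002) D19553
def n22592 : Q := act 6 n10710
theorem D22592 : act 6 n10710 = n22592 := rfl
def n22593 : Q := act 3 n10711
theorem D22593 : act 3 n10711 = n22593 := rfl
def n22594 : Q := act 4 n10711
theorem D22594 : act 4 n10711 = n22594 := rfl
def n22595 : Q := act 5 n10711
theorem D22595 : act 5 n10711 = n22595 := rfl
theorem F35133 : act 2 n22595 = n18345 := d2_1 D22595 (iv5 F34781) F34912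
theorem F35134 : act 4 n18344 = n22595 := d1_0 F35133 (iv4 D18345) D18344
def n22596 : Q := act 6 n10711
theorem D22596 : act 6 n10711 = n22596 := rfl
def n22597 : Q := act 5 n10712
theorem D22597 : act 5 n10712 = n22597 := rfl
theorem F35135 : act 2 n22597 = n10714 := d2_1 D22597 (iv5 D10714) D10712
theorem F35136 : act 3 n22597 = n15358 := d6_1 D22597 (iv5 F34763) F34761
def n22598 : Q := act 6 n10712
theorem D22598 : act 6 n10712 = n22598 := rfl
theorem F35137 : act 2 n22598 = n10715 := d3_1 D22598 (iv6 D10715) D10712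
def n22599 : Q := act 5 n10713
theorem D22599 : act 5 n10713 = n22599 := rfl
theorem F35138 : act 3 n22599 = n21170 := d6_1 D22599 (iv5 D21170) (iv3 F17240)
def n22600 : Q := act 6 n10713
theorem D22600 : act 6 n10713 = n22600 := rfl
theorem F35139 : act 3 n22600 = n21171 := d7_1 D22600 (iv6 D21171) (iv3 F17240)
theorem F35140 : act 4 n22600 = n10715 := d10_1 D22600 (iv6 D10715) D10713
def n22601 : Q := act 1 n10714
theorem D22601 : act 1 n10714 = n22601 := rfl
def n22602 : Q := act 4 n10714
theorem D22602 : act 4 n10714 = n22602 := rfl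
theorem F35141 : act 3 n22602 = n18200 := d5_1 D22602 F29519 F29518 F13545 (iv3 F17242)
def n22603 : Q := act 6 n10714
theorem D22603 : act 6 n10714 = n22603 := rfl
theorem F35142 : act 3 n22603 = n10718 := d7_1 D22603 (iv6 D10718) (iv3 F17242)
def n22604 : Q := act 0 n10715
theorem D22604 : act 0 n10715 = n22604 := rfl
def n22605 : Q := act 1 n10715
theorem D22605 : act 1 n10715 = n22605 := rfl
def n22606 : Q := act 5 n10715
theorem D22606 : act 5 n10715 = n22606 := rfl
theorem F35143 : act 3 n22606 = n10721 := d6_1 D22606 (iv5 D10721) (iv3 F17243)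
def n22607 : Q := act 7 n10715
theorem D22607 : act 7 n10715 = n22607 := rfl
theorem F35144 : act 3 n22607 = n10722 := d8_1 D22607 (iv7 D10722) (iv3 F17243)
def n22608 : Q := act 0 n10716
theorem D22608 : act 0 n10716 = n22608 := rfl
def n22609 : Q := act 1 n10716
theorem D22609 : act 1 n10716 = n22609 := rfl
def n22610 : Q := act 5 n10716
theorem D22610 : act 5 n10716 = n22610 := rfl
theorem F35146 : act 2 n22610 = n19268 := d2_1 D22610 (iv5 D19268) (iv2 F17244)
theorem F35147 : act 6 n22610 = n16721 := d12_2 D10716 D22610 (iv5 D16721) (iv6 D7808) (iv5 F7317)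
def n22611 : Q := act 7 n10716
theorem D22611 : act 7 n10716 = n22611 := rfl
theorem F35148 : act 2 n22611 = n19269 := d4_1 D22611 (iv7 D19269) (iv2 F17244)
theorem F35149 : act 4 n22611 = n10722 := d11_1 D22611 (iv7 D10722) (iv4 F17245)
theorem F35150 : act 1 n19269 = n22608 := d15_0 (iv0 D22608) D22611 F35148
theorem F35151 : act 1 n19267 = n22611 := d15_1 D19267 (iv7 D22611) F17244
theorem F35152 : act 1 n22611 = n19266 := d15_0 (iv0 D19266) D19269 (iv2 F35148)
def n22612 : Q := act 3 n10717
theorem D22612 : act 3 n10717 = n22612 := rfl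
theorem F35153 : act 5 n22612 = n19468 := d6_2 (iv5 F17246) D22612 (iv3 D19468)
theorem F35154 : act 7 n22612 = n19524 := d8_2 (iv7 F17250) D22612 F31258
def n22613 : Q := act 6 n10717
theorem D22613 : act 6 n10717 = n22613 := rfl
theorem F35155 : act 2 n22613 = n19635 := d3_1 D22613 (iv6 D19635) F17248
theorem F35156 : act 4 n22613 = n16767 := d10_1 D22613 (iv6 D16767) (iv4 F17247)
def n22614 : Q := act 0 n10718
theorem D22614 : act 0 n10718 = n22614 := rfl
def n22615 : Q := act 1 n10718
theorem D22615 : act 1 n10718 = n22615 := rfl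
def n22616 : Q := act 5 n10718
theorem D22616 : act 5 n10718 = n22616 := rfl
theorem F35157 : act 6 n22616 = n10721 := d12_2 D10718 D22616 (iv5 D10721) (iv6 D4903) D4902
def n22617 : Q := act 7 n10718
theorem D22617 : act 7 n10718 = n22617 := rfl
def n22621 : Q := act 5 n10719
theorem D22621 : act 5 n10719 = n22621 := rfl
def n22622 : Q := act 6 n10719
theorem D22622 : act 6 n10719 = n22622 := rfl
def n22628 : Q := act 0 n10721
theorem D22628 : act 0 n10721 = n22628 := rfl
def n22629 : Q := act 1 n10721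
theorem D22629 : act 1 n10721 = n22629 := rfl
def n22630 : Q := act 4 n10721
theorem D22630 : act 4 n10721 = n22630 := rfl
def n22631 : Q := act 7 n10721
theorem D22631 : act 7 n10721 = n22631 := rfl
theorem F35160 : act 5 n22631 = n10722 := d13_1 D22631 (iv7 D10722) D10721
def n22632 : Q := act 2 n10723
theorem D22632 : act 2 n10723 = n22632 := rfl
theorem F35161 : act 7 n10724 = n22632 := d15_2 (iv0 D10723) D10724 (iv2 D22632)
def n22633 : Q := act 3 n10723
theorem D22633 : act 3 n10723 = n22633 := rfl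
def n22634 : Q := act 6 n10723
theorem D22634 : act 6 n10723 = n22634 := rfl
def n22635 : Q := act 7 n10723
theorem D22635 : act 7 n10723 = n22635 := rfl
theorem F35162 : act 2 n22635 = n10724 := d4_1 D22635 F35161 (iv2 D22632)
def n22636 : Q := act 3 n10724
theorem D22636 : act 3 n10724 = n22636 := rfl
theorem F35163 : act 0 n10735 = n22636 := d20_4 F14140 D10242 F16197 D10735 (iv3 D22636) F34768 (iv1 D22281) F17148 (iv3 D9063) D9061
theorem F35164 : act 1 n19331 = n22636 := d15_0 (iv0 F35163) F17258 D19331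
def n22637 : Q := act 5 n10724
theorem D22637 : act 5 n10724 = n22637 := rfl
theorem F35165 : act 1 n22637 = n15375 := d17_8 (iv1 D7265) (iv5 D3339) D3336 D7255 F17254 (iv5 D10727) D10724 D22637 (iv4 D15375)
def n22638 : Q := act 6 n10724
theorem D22638 : act 6 n10724 = n22638 := rfl
def n22639 : Q := act 4 n10725
theorem D22639 : act 4 n10725 = n22639 := rfl
theorem F35166 : act 2 n22639 = n10726 := d1_1 D22639 (iv4 D10726) D10725
theorem F35167 : act 7 n22639 = n19275 := d11_2 F34764 D22639 (iv4 F34762)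
theorem F35168 : act 3 n22639 = n19307 := d20_3 (iv4 F34759) (iv1 F34760) D22639 (iv1 F34940) (iv3 D22233) F17108 F13380 (iv4 D4906) D4905 D10723
theorem F35169 : act 0 n22639 = n19274 := d20_7 (iv4 F29196) (iv1 F30986) (iv4 F34907) (iv3 F34909) (iv1 F34787) F34784 D22639 F30932 F30930 (iv1 F22007)
theorem F35170 : act 5 n15686 = n22639 := d19_1 D15686 (iv4 D22639) (iv3 F34784) (iv1 F34789) D22595 (iv4 F35134) F29529 (iv1 F29535) F29536 (iv4 F28429) F28425 (iv1 F28638) (iv5 D17610) F13098 (iv3 D3797) (iv1 D1658) D1660 D3804 (iv3 F11672)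
theorem F35171 : act 0 n19273 = n22639 := d20_10 (iv4 D22639) (iv1 F34766) (iv4 F34768) D22636 (iv1 F35164) F30969 F29196 (iv1 F29798) F29797 (iv3 F30930)
def n22640 : Q := act 6 n10725
theorem D22640 : act 6 n10725 = n22640 := rfl
theorem F35172 : act 2 n22640 = n10728 := d3_1 D22640 (iv6 D10728) D10725
def n22641 : Q := act 1 n10726
theorem D22641 : act 1 n10726 = n22641 := rfl
theorem F35173 : act 1 n22641 = n19275 := d15_1 D22641 (iv7 F35167) F35166
theorem F35174 : act 7 n22641 = n19274 := d15_2 (iv0 F24953) D22641 (iv2 F30933)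
theorem F35175 : act 4 n15379 = n22641 := d20_0 (iv1 D22641) (iv4 D10726) (iv3 D4905) (iv1 D2023) D2024 F3316 D2053 D4994 (iv3 F17251) F24953
theorem F35176 : act 2 n22641 = n19273 := d1_1 F35175 (iv4 F30932) (iv2 F30933)
def n22642 : Q := act 5 n10726
theorem D22642 : act 5 n10726 = n22642 := rfl
theorem F35177 : act 2 n22642 = n15686 := d2_1 D22642 F35170 F35166
theorem F35178 : act 3 n22642 = n10959 := d6_1 D22642 (iv5 D10959) (iv3 F17251)
theorem F35179 : act 7 n22642 = n15687 := d13_2 (iv7 F17252) D22642 (iv5 F27837)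
theorem F35180 : act 4 n22642 = n15356 := d16_2 D10726 D22642 (iv5 D15356) (iv4 D7259) D7260 D15358 (iv5 F34763) F34764 (iv2 D10725)
theorem F35181 : act 1 n22642 = n15674 := d17_8 (iv1 F24910) (iv5 D7260) (iv1 D3337) D3339 D7266 D15379 (iv0 F24953) D22642 (iv4 D15674)
theorem F35182 : act 0 n22642 = n12559 := d18_0 (iv4 D12559) (iv1 F20919) F17254 (iv5 D10727) D10726 D22641 (iv4 F35175) (iv0 F24953) D22642
theorem E4372 : n15952 = n15356 := (c20_6 F5320 (iv1 F2813) (iv4 F2619) (iv3 F5406) D7472 D15952 (iv4 F35180) F35182 (iv4 D12559) F9274 (iv1 F5322))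
theorem E4373 : n12928 = n7472 := ((F24933).symm.trans (sb E4372 (iv3 D15952)))
theorem E4374 : n15951 = n7937 := ((D15951).symm.trans (sb E4373 F27247))
theorem F35183 : act 3 n7472 = n15356 := (sb E4373 (iv3 F24933))
theorem E4375 : n15954 = n6128 := ((D15954).symm.trans (sb E4373 (iv5 D12928)))
theorem E4376 : n15956 = n7932 := ((D15956).symm.trans (sb E4373 (iv7 F27253)))
theorem F35184 : act 2 n7937 = n7472 := (sb E4374 (iv2 D15951))
theorem E4377 : n12933 = n7473 := (((iv7 F27242)).symm.trans (sb E4374 (iv7 F25477)))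
theorem F35185 : act 5 n6128 = n7472 := (sb E4375 (iv5 D15954))
theorem F35186 : act 7 n7932 = n7472 := (sb E4376 (iv7 D15956))
theorem F35187 : act 2 n7473 = n7932 := (sb E4377 F27254)
theorem E4378 : n15959 = n6129 := ((D15959).symm.trans (sb E4377 (iv5 D12933)))
theorem F35188 : act 7 n7473 = n7937 := (sb E4377 F27242)
theorem F35189 : act 5 n6129 = n7473 := (sb E4378 (iv5 D15959))
theorem F35190 : act 5 n15957 = n12931 := d6_2 F35189 D15957 (iv3 D12931)
theorem F35191 : act 5 n15944 = n12917 := d17_7 (iv1 F9536) F35189 (iv1 D7473) (iv5 D3415) D3414 D7470 D15944 (iv0 F21468) F12507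
theorem F35192 : act 2 n16925 = n15944 := d2_3 F35191 F26710 D16925
theorem F35193 : act 3 n17426 = n15944 := d6_3 F35191 (iv3 F26701) D17426
theorem F35194 : act 7 n16927 = n15944 := d13_0 F35191 F26708 D16927
theorem F35195 : act 2 n16927 = n15943 := d15_3 (iv0 D15943) D15944 (iv7 F35194)
theorem F35196 : act 5 n15943 = n12916 := d2_2 D16927 F35195 (iv2 F26709)
theorem F35197 : act 7 n15943 = n16925 := d4_2 (iv7 F35194) F35195 F35192
theorem F35198 : act 1 n16927 = n15928 := d15_0 F27843 (iv7 F35197) (iv2 F35195)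
theorem F35199 : act 7 n16989 = n15957 := d13_0 F35190 F27240 D16989
theorem F35200 : act 7 n16993 = n15958 := d11_2 F35188 D16993 (iv4 D15958)
theorem F35201 : act 2 n16982 = n15958 := d1_3 (iv4 D15958) F35187 D16982
theorem F35202 : act 2 n16983 = n15960 := d3_3 (iv6 D15960) F35187 D16983
theorem F35203 : act 7 n15953 = n16982 := d11_2 F35186 D15953 (iv4 D16982)
theorem F35204 : act 2 n16993 = n15953 := d4_3 F35203 F35201 (iv7 F35200)
theorem F35205 : act 2 n15955 = n16994 := d3_3 (iv6 D16994) F35184 D15955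
def n22643 : Q := act 6 n10726
theorem D22643 : act 6 n10726 = n22643 := rfl
theorem F35206 : act 3 n22643 = n10960 := d7_1 D22643 (iv6 D10960) (iv3 F17251)
theorem F35207 : act 4 n22643 = n10728 := d10_1 D22643 (iv6 D10728) D10726
def n22644 : Q := act 0 n10727
theorem D22644 : act 0 n10727 = n22644 := rfl
theorem F35208 : act 4 n22644 = n16107 := d18_3 (iv1 F20919) F17254 D22644 (iv5 D16107) F11794 (iv0 F11792) F11782 (iv0 D5965) D5968
theorem F35209 : act 1 n15358 = n22644 := d15_0 (iv0 D22644) F27218 F27267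
theorem F35210 : act 7 n16188 = n22644 := d11_0 F35208 F25622 D16188
theorem F35211 : act 5 n19610 = n22644 := d19_1 D19610 F35208 F25621 F25747 (iv5 D3515) (iv4 F5440) (iv3 D3466) F2667 D2504 F3961 D2637 (iv1 F7270) (iv5 D4666) (iv4 F5984) F5985 (iv1 D4028) D4030 F7185 D9221
def n22645 : Q := act 1 n10727
theorem D22645 : act 1 n10727 = n22645 := rfl
theorem F35212 : act 1 n22645 = n15358 := d15_1 D22645 (iv7 F27266) F27269
theorem F35213 : act 4 n22645 = n16186 := d17_9 (iv1 F27835) (iv5 D16975) F26875 (iv5 F25813) D16259 (iv5 F25811) (iv0 D10723) D10727 D22645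
theorem F35214 : act 5 n22645 = n19611 := d18_9 (iv1 D19611) F14407 D19175 F30810 F30811 (iv4 D15674) (iv0 F20918) F17254 D22645
theorem F35215 : act 2 n16188 = n22645 := d1_3 F35213 F25715 D16188
def n22646 : Q := act 6 n10727
theorem D22646 : act 6 n10727 = n22646 := rfl
theorem F35216 : act 3 n22646 = n10730 := d7_1 D22646 (iv6 D10730) (iv3 F17253)
theorem F35217 : act 4 n22646 = n15343 := d10_1 D22646 (iv6 D15343) F17254
def n22647 : Q := act 0 n10728
theorem D22647 : act 0 n10728 = n22647 := rfl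
def n22648 : Q := act 1 n10728
theorem D22648 : act 1 n10728 = n22648 := rfl
def n22649 : Q := act 5 n10728
theorem D22649 : act 5 n10728 = n22649 := rfl
theorem F35218 : act 3 n22649 = n10733 := d6_1 D22649 (iv5 D10733) (iv3 F17255)
def n22650 : Q := act 7 n10728
theorem D22650 : act 7 n10728 = n22650 := rfl
theorem F35219 : act 3 n22650 = n10734 := d8_1 D22650 (iv7 D10734) (iv3 F17255)
def n22651 : Q := act 0 n10729
theorem D22651 : act 0 n10729 = n22651 := rfl
def n22652 : Q := act 1 n10729
theorem D22652 : act 1 n10729 = n22652 := rfl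
def n22653 : Q := act 5 n10729
theorem D22653 : act 5 n10729 = n22653 := rfl
theorem F35220 : act 3 n22653 = n10963 := d6_1 D22653 (iv5 D10963) (iv3 F17256)
theorem F35221 : act 6 n22653 = n16729 := d12_2 D10729 D22653 (iv5 D16729) (iv6 D7816) (iv5 F7321)
def n22654 : Q := act 7 n10729
theorem D22654 : act 7 n10729 = n22654 := rfl
theorem F35222 : act 3 n22654 = n10964 := d8_1 D22654 (iv7 D10964) (iv3 F17256)
theorem F35223 : act 4 n22654 = n10734 := d11_1 D22654 (iv7 D10734) (iv4 F17257)
theorem F35224 : act 6 n22654 = n19269 := d14_1 D22654 (iv7 D19269) (iv6 D9060) (iv7 F12310) D10729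
def n22655 : Q := act 0 n10730
theorem D22655 : act 0 n10730 = n22655 := rfl
def n22656 : Q := act 1 n10730
theorem D22656 : act 1 n10730 = n22656 := rfl
def n22657 : Q := act 5 n10730
theorem D22657 : act 5 n10730 = n22657 := rfl
theorem F35225 : act 6 n22657 = n10733 := d12_2 D10730 D22657 (iv5 D10733) (iv6 D4908) D4907
def n22658 : Q := act 7 n10730
theorem D22658 : act 7 n10730 = n22658 := rfl
def n22660 : Q := act 3 n10731
theorem D22660 : act 3 n10731 = n22660 := rfl
def n22662 : Q := act 5 n10731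
theorem D22662 : act 5 n10731 = n22662 := rfl
def n22663 : Q := act 6 n10731
theorem D22663 : act 6 n10731 = n22663 := rfl
def n22664 : Q := act 7 n10731
theorem D22664 : act 7 n10731 = n22664 := rfl
def n22666 : Q := act 4 n10732
theorem D22666 : act 4 n10732 = n22666 := rfl
def n22669 : Q := act 0 n10733
theorem D22669 : act 0 n10733 = n22669 := rfl
def n22670 : Q := act 1 n10733
theorem D22670 : act 1 n10733 = n22670 := rfl
def n22671 : Q := act 4 n10733
theorem D22671 : act 4 n10733 = n22671 := rfl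
def n22672 : Q := act 7 n10733
theorem D22672 : act 7 n10733 = n22672 := rfl
theorem F35228 : act 5 n22672 = n10734 := d13_1 D22672 (iv7 D10734) D10733
def n22673 : Q := act 1 n10735
theorem D22673 : act 1 n10735 = n22673 := rfl
def n22674 : Q := act 2 n10735
theorem D22674 : act 2 n10735 = n22674 := rfl
theorem F35229 : act 3 n22674 = n19343 := d0_2 D10735 D22674 (iv2 D19343) (iv3 D9083) F7328
theorem F35230 : act 4 n22674 = n19982 := d1_2 F32538 D22674 (iv2 F32541)
theorem F35231 : act 7 n22674 = n19331 := d4_2 (iv7 F17258) D22674 (iv2 D19331)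
theorem F35232 : act 1 n22674 = n19329 := d15_0 (iv0 D19329) (iv7 F17258) D22674
theorem F35233 : act 1 n22673 = n19331 := d15_1 D22673 (iv7 F35231) (iv2 D22674)
theorem F35234 : act 1 n19330 = n22674 := d15_1 D19330 F35231 (iv2 D19331)
def n22675 : Q := act 5 n10735
theorem D22675 : act 5 n10735 = n22675 := rfl
theorem F35235 : act 3 n22675 = n10736 := d6_1 D22675 (iv5 D10736) D10735
theorem F35236 : act 7 n22675 = n19333 := d13_2 (iv7 F17258) D22675 (iv5 D19333)
def n22676 : Q := act 6 n10735
theorem D22676 : act 6 n10735 = n22676 := rfl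
theorem F35237 : act 3 n22676 = n10737 := d7_1 D22676 (iv6 D10737) D10735
def n22677 : Q := act 4 n10736
theorem D22677 : act 4 n10736 = n22677 := rfl
theorem F35238 : act 2 n22677 = n18939 := d1_1 D22677 F30246 (iv2 F17259)
theorem F35239 : act 5 n22677 = n18926 := d9_2 D10736 D22677 (iv4 D18926) F13834 (iv4 D4114) F7102 D4876 D10643 (iv4 F28900) (iv5 F30219) (iv4 D18928) F13840 (iv4 F13973) (iv5 F16196) F16197
theorem F35240 : act 7 n22677 = n18949 := d11_2 (iv7 F17260) D22677 F30261
def n22678 : Q := act 6 n10736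
theorem D22678 : act 6 n10736 = n22678 := rfl
theorem F35241 : act 2 n22678 = n19345 := d3_1 D22678 (iv6 D19345) (iv2 F17259)
def n22679 : Q := act 0 n10737
theorem D22679 : act 0 n10737 = n22679 := rfl
def n22680 : Q := act 1 n10737
theorem D22680 : act 1 n10737 = n22680 := rfl
theorem F35242 : act 1 n22680 = n19349 := d15_1 D22680 (iv7 D19349) (iv2 F17262)
def n22681 : Q := act 5 n10737
theorem D22681 : act 5 n10737 = n22681 := rfl
theorem F35243 : act 2 n22681 = n19348 := d2_1 D22681 (iv5 D19348) (iv2 F17262)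
def n22682 : Q := act 7 n10737
theorem D22682 : act 7 n10737 = n22682 := rfl
theorem F35244 : act 2 n22682 = n19349 := d4_1 D22682 (iv7 D19349) (iv2 F17262)
theorem F35245 : act 6 n22682 = n19340 := d14_1 D22682 (iv7 D19340) (iv6 D9082) (iv7 F7330) D10737
theorem F35246 : act 1 n19349 = n22679 := d15_0 (iv0 D22679) D22682 F35244
theorem F35248 : act 1 n22682 = n19346 := d15_0 (iv0 D19346) D19349 (iv2 F35244)
def n22683 : Q := act 6 n10738
theorem D22683 : act 6 n10738 = n22683 := rfl
theorem F35249 : act 2 n22683 = n10742 := d3_1 D22683 (iv6 D10742) (iv2 F17263)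
theorem F35250 : act 4 n22683 = n18968 := d10_1 D22683 (iv6 D18968) (iv4 F17265)
def n22684 : Q := act 0 n10739
theorem D22684 : act 0 n10739 = n22684 := rfl
def n22685 : Q := act 1 n10739
theorem D22685 : act 1 n10739 = n22685 := rfl
theorem F35251 : act 1 n22685 = n10746 := d15_1 D22685 (iv7 D10746) (iv2 F17268)
def n22686 : Q := act 5 n10739
theorem D22686 : act 5 n10739 = n22686 := rfl
theorem F35252 : act 2 n22686 = n10745 := d2_1 D22686 (iv5 D10745) (iv2 F17268)
def n22687 : Q := act 7 n10739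
theorem D22687 : act 7 n10739 = n22687 := rfl
theorem F35253 : act 2 n22687 = n10746 := d4_1 D22687 (iv7 D10746) (iv2 F17268)
theorem F35254 : act 4 n22687 = n10976 := d11_1 D22687 (iv7 D10976) (iv4 F17269)
theorem F35255 : act 6 n22687 = n19258 := d14_1 D22687 (iv7 D19258) (iv6 D9056) (iv7 F7332) D10739
theorem F35256 : act 1 n10746 = n22684 := d15_0 (iv0 D22684) D22687 F35253
theorem F35257 : act 1 n10744 = n22687 := d15_1 D10744 (iv7 D22687) F17268
theorem F35258 : act 4 n10819 = n22684 := d20_6 (iv4 F15282) (iv1 D1765) (iv4 F1909) (iv3 F3322) D4934 D10819 (iv1 F35256) F17280 F7426 (iv1 F3363)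
theorem F35259 : act 1 n22687 = n10743 := d15_0 (iv0 D10743) D10746 (iv2 F35253)
def n22688 : Q := act 3 n10740
theorem D22688 : act 3 n10740 = n22688 := rfl
theorem F35260 : act 2 n22688 = n17995 := d0_1 D22688 (iv3 D17995) (iv2 F21739) F21741 F17271
theorem F35261 : act 5 n22688 = n19078 := d6_2 (iv5 F17270) D22688 (iv3 D19078)
theorem F35262 : act 7 n22688 = n19350 := d8_2 (iv7 F17273) D22688 (iv3 D19350)
def n22689 : Q := act 6 n10740
theorem D22689 : act 6 n10740 = n22689 := rfl
theorem F35263 : act 2 n22689 = n19352 := d3_1 D22689 (iv6 D19352) F17271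
def n22690 : Q := act 0 n10741
theorem D22690 : act 0 n10741 = n22690 := rfl
theorem F35264 : act 5 n22690 = n13091 := d17_1 D22690 F21828 D17124 (iv4 F30977) F30976 F14420 (iv5 F17270) (iv0 D10740) D10741
theorem F35265 : act 4 n22690 = n19065 := d18_3 F16641 D10741 D22690 (iv5 D19065) (iv4 D8933) (iv0 D3985) D3987 (iv0 F6912) D10446
theorem F35266 : act 1 n18969 = n22690 := d15_0 (iv0 D22690) F17275 (iv2 F30298)
theorem F35267 : act 2 n18966 = n22690 := d1_3 F35265 F30605 (iv4 F30285)
theorem F35268 : act 7 n18967 = n22690 := d11_0 F35265 F30607 F30297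
def n22691 : Q := act 1 n10741
theorem D22691 : act 1 n10741 = n22691 := rfl
theorem F35269 : act 1 n22691 = n18969 := d15_1 D22691 (iv7 D18969) (iv2 F17274)
theorem F35270 : act 7 n22691 = n18966 := d15_2 (iv0 D22690) D22691 F35267
theorem F35271 : act 5 n22691 = n17123 := d17_7 (iv1 F7022) (iv5 D4821) (iv1 F3303) D3961 D8877 (iv5 F17276) D22691 (iv0 D17123) (iv4 D8012)
theorem F35272 : act 4 n22691 = n19073 := d18_7 F15967 (iv4 D4998) (iv1 D2054) (iv4 F3316) D4911 D10741 D22691 (iv0 F33443) (iv5 D21203)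
theorem F35273 : act 2 n18967 = n22691 := d1_3 F35272 F30624 F30297
def n22692 : Q := act 3 n10741
theorem D22692 : act 3 n10741 = n22692 := rfl
theorem F35274 : act 4 n22692 = n10751 := d5_2 D10741 D22692 (iv3 D10751) (iv4 D4915) (iv3 F7338)
theorem F35275 : act 5 n22692 = n18931 := d6_2 (iv5 F17276) D22692 (iv3 D18931)
theorem F35276 : act 7 n22692 = n19353 := d8_2 (iv7 F17275) D22692 (iv3 D19353)
def n22693 : Q := act 6 n10741
theorem D22693 : act 6 n10741 = n22693 := rfl
theorem F35277 : act 2 n22693 = n18968 := d3_1 D22693 (iv6 D18968) (iv2 F17274)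
theorem F35278 : act 4 n22693 = n10742 := d10_1 D22693 (iv6 D10742) D10741
def n22694 : Q := act 0 n10742
theorem D22694 : act 0 n10742 = n22694 := rfl
def n22695 : Q := act 1 n10742
theorem D22695 : act 1 n10742 = n22695 := rfl
def n22696 : Q := act 5 n10742
theorem D22696 : act 5 n10742 = n22696 := rfl
theorem F35279 : act 3 n22696 = n10755 := d6_1 D22696 (iv5 D10755) (iv3 F17277)
theorem F35280 : act 6 n22696 = n10745 := d12_2 D10742 D22696 (iv5 D10745) (iv6 D4912) D4911
def n22697 : Q := act 7 n10742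
theorem D22697 : act 7 n10742 = n22697 := rfl
theorem F35281 : act 3 n22697 = n10756 := d8_1 D22697 (iv7 D10756) (iv3 F17277)
theorem F35282 : act 6 n22697 = n19358 := d14_1 D22697 (iv7 D19358) (iv6 D9089) (iv7 F7339) D10742
def n22698 : Q := act 2 n10743
theorem D22698 : act 2 n10743 = n22698 := rfl
theorem F35283 : act 7 n10744 = n22698 := d15_2 (iv0 D10743) D10744 (iv2 D22698)
def n22699 : Q := act 3 n10743
theorem D22699 : act 3 n10743 = n22699 := rfl
def n22700 : Q := act 4 n10743
theorem D22700 : act 4 n10743 = n22700 := rfl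
def n22701 : Q := act 5 n10743
theorem D22701 : act 5 n10743 = n22701 := rfl
def n22702 : Q := act 6 n10743
theorem D22702 : act 6 n10743 = n22702 := rfl
def n22703 : Q := act 7 n10743
theorem D22703 : act 7 n10743 = n22703 := rfl
theorem F35284 : act 2 n22703 = n10744 := d4_1 D22703 F35283 (iv2 D22698)
def n22704 : Q := act 3 n10744
theorem D22704 : act 3 n10744 = n22704 := rfl
def n22705 : Q := act 5 n10744
theorem D22705 : act 5 n10744 = n22705 := rfl
def n22706 : Q := act 6 n10744
theorem D22706 : act 6 n10744 = n22706 := rfl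
def n22707 : Q := act 0 n10745
theorem D22707 : act 0 n10745 = n22707 := rfl
def n22708 : Q := act 1 n10745
theorem D22708 : act 1 n10745 = n22708 := rfl
def n22709 : Q := act 4 n10745
theorem D22709 : act 4 n10745 = n22709 := rfl
def n22710 : Q := act 7 n10745
theorem D22710 : act 7 n10745 = n22710 := rfl
theorem F35285 : act 3 n22710 = n10771 := d8_1 D22710 (iv7 D10771) (iv3 F17278)
theorem F35286 : act 5 n22710 = n10746 := d13_1 D22710 (iv7 D10746) D10745
def n22711 : Q := act 1 n10747
theorem D22711 : act 1 n10747 = n22711 := rfl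
def n22712 : Q := act 2 n10747
theorem D22712 : act 2 n10747 = n22712 := rfl
theorem F35287 : act 3 n22712 = n15375 := d0_2 D10747 D22712 (iv2 F31381) F31382 F14408
theorem F35288 : act 1 n22712 = n18345 := d15_0 (iv0 F34423) F31376 D22712
def n22713 : Q := act 4 n10747
theorem D22713 : act 4 n10747 = n22713 := rfl
def n22714 : Q := act 6 n10747
theorem D22714 : act 6 n10747 = n22714 := rfl
theorem F35289 : act 3 n22714 = n10748 := d7_1 D22714 (iv6 D10748) D10747
def n22715 : Q := act 0 n10748
theorem D22715 : act 0 n10748 = n22715 := rfl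
def n22716 : Q := act 1 n10748
theorem D22716 : act 1 n10748 = n22716 := rfl
def n22717 : Q := act 5 n10748
theorem D22717 : act 5 n10748 = n22717 := rfl
def n22718 : Q := act 7 n10748
theorem D22718 : act 7 n10748 = n22718 := rfl
def n22719 : Q := act 1 n10749
theorem D22719 : act 1 n10749 = n22719 := rfl
def n22720 : Q := act 2 n10749
theorem D22720 : act 2 n10749 = n22720 := rfl
theorem F35290 : act 4 n22720 = n12506 := d1_2 F17283 D22720 F27196
theorem F35291 : act 7 n22720 = n15375 := d4_2 F31383 D22720 (iv2 F31381)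
theorem E4379 : n22719 = n22637 := (c15_1 D22719 F35165 (iv7 F35291) (iv2 D22720))
theorem F35292 : act 0 n22637 = n10749 := (sb E4379 (iv1 D22719))
def n22721 : Q := act 6 n10749
theorem D22721 : act 6 n10749 = n22721 := rfl
theorem F35293 : act 3 n22721 = n10750 := d7_1 D22721 (iv6 D10750) D10749
theorem F35294 : act 4 n22721 = n15372 := d10_1 D22721 (iv6 D15372) F17283
def n22722 : Q := act 0 n10750
theorem D22722 : act 0 n10750 = n22722 := rfl
def n22723 : Q := act 1 n10750
theorem D22723 : act 1 n10750 = n22723 := rfl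
def n22724 : Q := act 5 n10750
theorem D22724 : act 5 n10750 = n22724 := rfl
def n22725 : Q := act 7 n10750
theorem D22725 : act 7 n10750 = n22725 := rfl
def n22726 : Q := act 0 n10751
theorem D22726 : act 0 n10751 = n22726 := rfl
def n22727 : Q := act 1 n10751
theorem D22727 : act 1 n10751 = n22727 := rfl
def n22728 : Q := act 2 n10751
theorem D22728 : act 2 n10751 = n22728 := rfl
def n22729 : Q := act 6 n10751
theorem D22729 : act 6 n10751 = n22729 := rfl
theorem F35295 : act 3 n22729 = n10752 := d7_1 D22729 (iv6 D10752) D10751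
def n22730 : Q := act 0 n10752
theorem D22730 : act 0 n10752 = n22730 := rfl
def n22731 : Q := act 1 n10752
theorem D22731 : act 1 n10752 = n22731 := rfl
def n22732 : Q := act 5 n10752
theorem D22732 : act 5 n10752 = n22732 := rfl
def n22733 : Q := act 7 n10752
theorem D22733 : act 7 n10752 = n22733 := rfl
theorem F35296 : act 4 n22733 = n10756 := d11_1 D22733 (iv7 D10756) (iv4 F17285)
def n22734 : Q := act 2 n10753
theorem D22734 : act 2 n10753 = n22734 := rfl
theorem F35297 : act 7 n10754 = n22734 := d15_2 (iv0 D10753) D10754 (iv2 D22734)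
def n22735 : Q := act 3 n10753
theorem D22735 : act 3 n10753 = n22735 := rfl
def n22736 : Q := act 4 n10753
theorem D22736 : act 4 n10753 = n22736 := rfl
def n22737 : Q := act 5 n10753
theorem D22737 : act 5 n10753 = n22737 := rfl
def n22738 : Q := act 6 n10753
theorem D22738 : act 6 n10753 = n22738 := rfl
def n22739 : Q := act 7 n10753
theorem D22739 : act 7 n10753 = n22739 := rfl
theorem F35298 : act 2 n22739 = n10754 := d4_1 D22739 F35297 (iv2 D22734)
def n22740 : Q := act 3 n10754
theorem D22740 : act 3 n10754 = n22740 := rfl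
def n22741 : Q := act 4 n10754
theorem D22741 : act 4 n10754 = n22741 := rfl
def n22742 : Q := act 5 n10754
theorem D22742 : act 5 n10754 = n22742 := rfl
def n22743 : Q := act 6 n10754
theorem D22743 : act 6 n10754 = n22743 := rfl
def n22744 : Q := act 0 n10755
theorem D22744 : act 0 n10755 = n22744 := rfl
def n22745 : Q := act 1 n10755
theorem D22745 : act 1 n10755 = n22745 := rfl
def n22746 : Q := act 4 n10755
theorem D22746 : act 4 n10755 = n22746 := rfl
theorem F35299 : act 6 n22746 = n10770 := d10_2 (iv6 F17286) D22746 (iv4 D10770)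
def n22747 : Q := act 7 n10755
theorem D22747 : act 7 n10755 = n22747 := rfl
theorem F35300 : act 5 n22747 = n10756 := d13_1 D22747 (iv7 D10756) D10755
def n22748 : Q := act 6 n10756
theorem D22748 : act 6 n10756 = n22748 := rfl
theorem F35301 : act 3 n22748 = n19358 := d7_1 D22748 (iv6 F35282) F35281
theorem F35302 : act 7 n22748 = n10757 := d14_2 D10756 D22748 (iv6 D10757) (iv7 D4917) D4916
def n22749 : Q := act 0 n10757
theorem D22749 : act 0 n10757 = n22749 := rfl
def n22750 : Q := act 1 n10757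
theorem D22750 : act 1 n10757 = n22750 := rfl
def n22751 : Q := act 5 n10757
theorem D22751 : act 5 n10757 = n22751 := rfl
theorem F35303 : act 3 n22751 = n19357 := d6_1 D22751 (iv5 D19357) (iv3 F17287)
theorem F35304 : act 6 n22751 = n10775 := d12_2 D10757 D22751 (iv5 D10775) (iv6 D4922) (iv5 F7343)
def n22752 : Q := act 0 n10759
theorem D22752 : act 0 n10759 = n22752 := rfl
def n22753 : Q := act 1 n10759
theorem D22753 : act 1 n10759 = n22753 := rfl
def n22754 : Q := act 2 n10759
theorem D22754 : act 2 n10759 = n22754 := rfl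
def n22755 : Q := act 4 n10759
theorem D22755 : act 4 n10759 = n22755 := rfl
def n22756 : Q := act 5 n10759
theorem D22756 : act 5 n10759 = n22756 := rfl
theorem F35305 : act 3 n22756 = n10761 := d6_1 D22756 (iv5 D10761) D10759
def n22757 : Q := act 6 n10759
theorem D22757 : act 6 n10759 = n22757 := rfl
theorem F35306 : act 3 n22757 = n10762 := d7_1 D22757 (iv6 D10762) D10759
def n22758 : Q := act 0 n10760
theorem D22758 : act 0 n10760 = n22758 := rfl
theorem F35307 : act 1 n10765 = n22758 := d15_0 (iv0 D22758) (iv7 F34832) F34831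
def n22759 : Q := act 1 n10760
theorem D22759 : act 1 n10760 = n22759 := rfl
theorem F35308 : act 1 n22759 = n10765 := d15_1 D22759 F31046 (iv2 F31066)
def n22760 : Q := act 3 n10760
theorem D22760 : act 3 n10760 = n22760 := rfl
theorem F35309 : act 2 n22760 = n19260 := d0_1 D22760 (iv3 D19260) F31050 D9095 (iv2 F31066)
theorem F35310 : act 7 n22760 = n19398 := d8_2 F34832 D22760 F34834
theorem F35311 : act 0 n22760 = n19423 := d20_4 (iv4 F3318) D4918 D10760 D22760 (iv3 D19423) D19424 F31083 (iv4 D10807) (iv3 D4929) (iv1 D2029)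
theorem E4380 : n19423 = n19397 := ((c15_1 D19397 (iv0 F35311) F35310 (iv2 D19398))).symm
theorem F35312 : act 1 n19397 = n22760 := (sb E4380 (iv0 F35311))
theorem F35313 : act 3 n19397 = n9118 := (sb E4380 (iv3 D19423))
theorem F35314 : act 4 n19397 = n11066 := (sb E4380 F31082)
theorem F35315 : act 1 n19260 = n19448 := d15_0 (iv0 F34836) (iv7 F35310) F35309
theorem F35316 : act 1 n22760 = n19396 := d15_0 (iv0 D19396) (iv7 F31054) (iv2 F35309)
theorem F35317 : act 4 n10790 = n19376 := d20_2 D4930 (iv1 F17312) (iv3 F31028) (iv1 F35316) (iv3 D22760) (iv4 D10760) (iv1 F17178) F17174 F7035 (iv1 F7037)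
theorem E4381 : n11059 = n10782 := ((c20_11 (iv4 F31007) (iv1 F31012) (iv4 D9101) D9100 D19396 F31028 (iv4 F35317) (iv1 D10790) (iv4 D4925) D4924 D10782)).symm
theorem F35318 : act 3 n10782 = n5043 := (sb E4381 (iv3 D11059))
theorem F35319 : act 4 n10782 = n19381 := (sb E4381 (iv4 F31007))
def n22761 : Q := act 5 n10760
theorem D22761 : act 5 n10760 = n22761 := rfl
theorem F35320 : act 2 n22761 = n19378 := d2_1 D22761 (iv5 D19378) (iv2 F31066)
def n22762 : Q := act 6 n10760
theorem D22762 : act 6 n10760 = n22762 := rfl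
theorem F35321 : act 2 n22762 = n19379 := d3_1 D22762 (iv6 D19379) (iv2 F31066)
theorem F35322 : act 4 n22762 = n10762 := d10_1 D22762 (iv6 D10762) D10760
theorem F35323 : act 5 n22327 = n22762 := d2_0 F35321 (iv5 F31005) (iv2 F34831)
theorem F35324 : act 7 n22761 = n22762 := d4_0 F35321 F31060 (iv2 F35320)
def n22763 : Q := act 0 n10761
theorem D22763 : act 0 n10761 = n22763 := rfl
theorem F35325 : act 5 n22763 = n22193 := d17_3 D4918 D10761 D22763 F34636 (iv5 F17317) (iv0 D10795) (iv5 D4926) (iv0 D2028) (iv4 F3318)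
theorem E4382 : n22171 = n18193 := (c21_5 D10761 D22763 F35325 (iv6 D22193) (iv1 F34621) (iv6 D18193) (iv5 F13493) (iv1 D4914) (iv5 D2025) D2026 D4918)
theorem F35326 : act 0 n18193 = n10561 := (sb E4382 (iv1 D22171))
theorem F35327 : act 1 n18193 = n10566 := (sb E4382 F34621)
theorem F35328 : act 1 n10766 = n22763 := d15_0 (iv0 D22763) (iv7 F34838) F34837
theorem E4383 : n22170 = n19609 := (c15_2 F35327 F34625 (iv7 D19609) (iv2 F29362))
theorem F35329 : act 0 n19609 = n10566 := (sb E4383 (iv1 F34625))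
theorem F35330 : act 1 n19609 = n10561 := (sb E4383 (iv0 D22170))
theorem F35331 : act 5 n22174 = n22629 := d21_6 (iv5 F13565) F13566 F13493 D18193 F35326 D22174 (iv1 D22629) (iv5 D10721) (iv6 D4903) (iv1 F6816)
def n22764 : Q := act 1 n10761
theorem D22764 : act 1 n10761 = n22764 := rfl
theorem F35332 : act 1 n22764 = n10766 := d15_1 D22764 (iv7 F34826) F34825
def n22765 : Q := act 4 n10761
theorem D22765 : act 4 n10761 = n22765 := rfl
def n22766 : Q := act 6 n10761
theorem D22766 : act 6 n10761 = n22766 := rfl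
def n22767 : Q := act 0 n10762
theorem D22767 : act 0 n10762 = n22767 := rfl
def n22768 : Q := act 1 n10762
theorem D22768 : act 1 n10762 = n22768 := rfl
theorem F35333 : act 4 n22768 = n10801 := d18_7 (iv1 F7036) (iv4 F7344) (iv1 F17171) D22327 F35323 F35322 D22768 F17326 (iv5 D10636)
def n22769 : Q := act 5 n10762
theorem D22769 : act 5 n10762 = n22769 := rfl
theorem F35334 : act 2 n22769 = n19647 := d2_1 D22769 (iv5 F34829) F34827
theorem F35335 : act 0 n22769 = n19529 := d17_2 (iv1 D22768) D22769 (iv5 D19529) F14340 F6067 D4865 (iv5 F7348) D10801 (iv4 F35333)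
theorem F35336 : act 1 n22769 = n19649 := d15_1 (iv0 F35335) (iv7 D19649) (iv2 F31263)
def n22770 : Q := act 7 n10762
theorem D22770 : act 7 n10762 = n22770 := rfl
theorem F35337 : act 4 n22770 = n22761 := d11_1 D22770 F35324 F35322
def n22771 : Q := act 0 n10764
theorem D22771 : act 0 n10764 = n22771 := rfl
def n22772 : Q := act 1 n10764
theorem D22772 : act 1 n10764 = n22772 := rfl
def n22773 : Q := act 2 n10764
theorem D22773 : act 2 n10764 = n22773 := rfl
def n22774 : Q := act 4 n10764
theorem D22774 : act 4 n10764 = n22774 := rfl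
theorem F35338 : act 3 n22774 = n19264 := d5_1 D22774 (iv4 D19264) F17290 (iv4 D10765) D10764
theorem F35339 : act 7 n22774 = n19383 := d11_2 F34824 D22774 (iv4 F34823)
def n22775 : Q := act 5 n10764
theorem D22775 : act 5 n10764 = n22775 := rfl
theorem F35340 : act 3 n22775 = n10766 := d6_1 D22775 (iv5 D10766) D10764
def n22776 : Q := act 6 n10764
theorem D22776 : act 6 n10764 = n22776 := rfl
theorem F35341 : act 3 n22776 = n10767 := d7_1 D22776 (iv6 D10767) D10764
def n22777 : Q := act 6 n10765
theorem D22777 : act 6 n10765 = n22777 := rfl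
theorem F35342 : act 3 n22777 = n19265 := d7_1 D22777 (iv6 D19265) F17290
theorem F35343 : act 4 n22777 = n10767 := d10_1 D22777 (iv6 D10767) D10765
def n22778 : Q := act 4 n10766
theorem D22778 : act 4 n10766 = n22778 := rfl
def n22779 : Q := act 6 n10766
theorem D22779 : act 6 n10766 = n22779 := rfl
def n22780 : Q := act 0 n10767
theorem D22780 : act 0 n10767 = n22780 := rfl
def n22781 : Q := act 1 n10767
theorem D22781 : act 1 n10767 = n22781 := rfl
def n22782 : Q := act 5 n10767
theorem D22782 : act 5 n10767 = n22782 := rfl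
def n22783 : Q := act 7 n10767
theorem D22783 : act 7 n10767 = n22783 := rfl
def n22784 : Q := act 2 n10768
theorem D22784 : act 2 n10768 = n22784 := rfl
theorem F35344 : act 7 n10769 = n22784 := d15_2 (iv0 D10768) D10769 (iv2 D22784)
def n22785 : Q := act 3 n10768
theorem D22785 : act 3 n10768 = n22785 := rfl
def n22786 : Q := act 4 n10768
theorem D22786 : act 4 n10768 = n22786 := rfl
def n22787 : Q := act 5 n10768
theorem D22787 : act 5 n10768 = n22787 := rfl
def n22788 : Q := act 6 n10768
theorem D22788 : act 6 n10768 = n22788 := rfl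
def n22789 : Q := act 7 n10768
theorem D22789 : act 7 n10768 = n22789 := rfl
theorem F35345 : act 2 n22789 = n10769 := d4_1 D22789 F35344 (iv2 D22784)
def n22790 : Q := act 3 n10769
theorem D22790 : act 3 n10769 = n22790 := rfl
def n22791 : Q := act 4 n10769
theorem D22791 : act 4 n10769 = n22791 := rfl
def n22792 : Q := act 5 n10769
theorem D22792 : act 5 n10769 = n22792 := rfl
def n22793 : Q := act 6 n10769
theorem D22793 : act 6 n10769 = n22793 := rfl
def n22794 : Q := act 0 n10770
theorem D22794 : act 0 n10770 = n22794 := rfl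
def n22795 : Q := act 1 n10770
theorem D22795 : act 1 n10770 = n22795 := rfl
def n22796 : Q := act 3 n10770
theorem D22796 : act 3 n10770 = n22796 := rfl
def n22797 : Q := act 5 n10770
theorem D22797 : act 5 n10770 = n22797 := rfl
def n22798 : Q := act 7 n10770
theorem D22798 : act 7 n10770 = n22798 := rfl
theorem F35346 : act 4 n22798 = n10771 := d11_1 D22798 (iv7 D10771) D10770
def n22799 : Q := act 6 n10771
theorem D22799 : act 6 n10771 = n22799 := rfl
def n22800 : Q := act 5 n10772
theorem D22800 : act 5 n10772 = n22800 := rfl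
theorem F35347 : act 3 n22800 = n19368 := d6_1 D22800 F30992 (iv3 F17292)
theorem F35348 : act 7 n22800 = n10775 := d13_2 (iv7 F17294) D22800 (iv5 D10775)
def n22801 : Q := act 2 n10773
theorem D22801 : act 2 n10773 = n22801 := rfl
theorem F35349 : act 7 n10774 = n22801 := d15_2 (iv0 D10773) D10774 (iv2 D22801)
def n22802 : Q := act 3 n10773
theorem D22802 : act 3 n10773 = n22802 := rfl
def n22803 : Q := act 4 n10773
theorem D22803 : act 4 n10773 = n22803 := rfl
def n22804 : Q := act 5 n10773
theorem D22804 : act 5 n10773 = n22804 := rfl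
def n22805 : Q := act 6 n10773
theorem D22805 : act 6 n10773 = n22805 := rfl
def n22806 : Q := act 7 n10773
theorem D22806 : act 7 n10773 = n22806 := rfl
theorem F35350 : act 2 n22806 = n10774 := d4_1 D22806 F35349 (iv2 D22801)
def n22807 : Q := act 3 n10774
theorem D22807 : act 3 n10774 = n22807 := rfl
def n22808 : Q := act 4 n10774
theorem D22808 : act 4 n10774 = n22808 := rfl
theorem F35351 : act 3 n22808 = n10974 := d20_3 (iv4 F34318) (iv1 F34321) D22808 (iv1 D10974) F7423 (iv4 F17269) D22684 (iv4 F35258) (iv3 D10819) (iv1 F16610)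
def n22809 : Q := act 5 n10774
theorem D22809 : act 5 n10774 = n22809 := rfl
def n22810 : Q := act 6 n10774
theorem D22810 : act 6 n10774 = n22810 := rfl
def n22811 : Q := act 0 n10775
theorem D22811 : act 0 n10775 = n22811 := rfl
def n22812 : Q := act 1 n10775
theorem D22812 : act 1 n10775 = n22812 := rfl
def n22813 : Q := act 4 n10775
theorem D22813 : act 4 n10775 = n22813 := rfl
def n22814 : Q := act 2 n10782
theorem D22814 : act 2 n10782 = n22814 := rfl
theorem F35352 : act 7 n10783 = n22814 := d15_2 (iv0 D10782) D10783 (iv2 D22814)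
def n22815 : Q := act 5 n10782
theorem D22815 : act 5 n10782 = n22815 := rfl
theorem F35353 : act 3 n22815 = n11061 := d6_1 D22815 (iv5 D11061) (iv3 F35318)
def n22816 : Q := act 6 n10782
theorem D22816 : act 6 n10782 = n22816 := rfl
def n22817 : Q := act 7 n10782
theorem D22817 : act 7 n10782 = n22817 := rfl
theorem F35355 : act 2 n22817 = n10783 := d4_1 D22817 F35352 (iv2 D22814)
theorem F35356 : act 3 n22817 = n11053 := d8_1 D22817 (iv7 F17923) (iv3 F35318)
theorem F35357 : act 2 n11054 = n10804 := d0_3 F35356 (iv2 D11053) D11054 F31117 (iv2 F35355)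
theorem F35358 : act 2 n19459 = n19436 := d1_3 (iv4 F31092) F35357 F31116
theorem F35359 : act 7 n10805 = n11054 := d15_2 (iv0 D10804) D10805 F35357
theorem F35360 : act 7 n22334 = n10804 := d15_2 F34881 F34847 (iv2 F35357)
theorem F35361 : act 2 n10805 = n22334 := d4_3 F35360 (iv2 F35357) (iv7 F35359)
theorem E4384 : n22814 = n22345 := (c8_3 F35360 F31117 F35352 (iv3 F34873))
theorem F35362 : act 2 n22345 = n10782 := (sb E4384 (iv2 D22814))
theorem F35363 : act 7 n22345 = n10783 := (sb E4384 (iv7 F35352))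
theorem F35364 : act 7 n19459 = n19435 := d11_2 F35360 F31116 (iv4 F34866)
theorem F35365 : act 2 n19435 = n19460 := d15_3 F31118 F31115 F35364
theorem F35366 : act 7 n19436 = n19460 := d4_2 (iv7 F35364) F35358 (iv2 F35365)
theorem E4385 : n22817 = n22344 := (c15_4 (iv0 D22344) D22345 F35363 (iv2 F35355))
theorem F35367 : act 2 n22344 = n10783 := (sb E4385 F35355)
theorem F35368 : act 3 n22344 = n11053 := (sb E4385 F35356)
theorem F35369 : act 7 n22344 = n10782 := (sb E4385 (iv7 D22817))
theorem E4386 : n11058 = n5025 := (c0_4 F34873 F35362 F35318 (iv2 F17924) (iv3 F34856) F35361)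
theorem E4387 : n11019 = n5043 := ((D11019).symm.trans (sb E4386 F17924))
theorem E4388 : n11024 = n5042 := ((D11024).symm.trans (sb E4386 (iv7 D11058)))
theorem F35370 : act 2 n5043 = n5025 := (sb E4387 (iv2 D11019))
theorem E4389 : n11053 = n5026 := ((F17923).symm.trans (sb E4387 (iv7 F17891)))
theorem F35371 : act 7 n5042 = n5025 := (sb E4388 (iv7 D11024))
theorem F35372 : act 2 n5026 = n5042 := (sb E4389 (iv2 D11053))
theorem E4390 : n22344 = n11025 := (((D11025).symm.trans (sb E4389 (iv3 F35368)))).symm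
theorem F35373 : act 7 n5026 = n5043 := (sb E4389 (iv7 F17923))
theorem F35374 : act 0 n11025 = n10784 := (sb E4390 (iv1 F34872))
theorem F35375 : act 1 n11025 = n10638 := (sb E4390 (iv0 D22344))
theorem F35376 : act 2 n11025 = n10783 := (sb E4390 F35367)
theorem F35377 : act 7 n11025 = n10782 := (sb E4390 F35369)
theorem F35378 : act 0 n19399 = n11026 := d20_7 (iv4 F17365) (iv1 F30920) F30918 F14135 (iv1 F14137) D9100 D19399 (iv4 D11026) D11025 F35374
theorem F35379 : act 7 n11060 = n11026 := d11_2 F35373 D11060 (iv4 D11026)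
theorem F35380 : act 7 n11061 = n11027 := d13_2 F35373 D11061 (iv5 D11027)
theorem F35381 : act 2 n11055 = n11026 := d1_3 (iv4 D11026) F35372 D11055
theorem F35382 : act 2 n11056 = n11027 := d2_3 (iv5 D11027) F35372 D11056
theorem F35383 : act 2 n11057 = n11028 := d3_3 (iv6 D11028) F35372 D11057
theorem F35384 : act 7 n11021 = n11055 := d15_2 (iv0 F35378) (iv0 F31029) F35381
theorem F35385 : act 2 n11021 = n11060 := d4_3 F35379 (iv2 F35381) (iv7 F35384)
theorem F35386 : act 7 n11022 = n11056 := d13_2 F35371 D11022 (iv5 D11056)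
theorem F35387 : act 2 n11061 = n11022 := d4_3 F35386 F35382 (iv7 F35380)
theorem F35388 : act 2 n11023 = n11062 := d3_3 (iv6 D11062) F35370 D11023
def n22818 : Q := act 6 n10783
theorem D22818 : act 6 n10783 = n22818 := rfl
def n22819 : Q := act 5 n10784
theorem D22819 : act 5 n10784 = n22819 := rfl
theorem F35389 : act 2 n22819 = n10786 := d2_1 D22819 (iv5 D10786) D10784
def n22820 : Q := act 6 n10784
theorem D22820 : act 6 n10784 = n22820 := rfl
theorem F35390 : act 2 n22820 = n10787 := d3_1 D22820 (iv6 D10787) D10784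
theorem F35391 : act 4 n22820 = n19361 := d10_1 D22820 (iv6 D19361) F17365
theorem F35392 : act 5 n22346 = n22820 := d2_0 F35390 (iv5 F17310) D22346
theorem F35393 : act 7 n22819 = n22820 := d4_0 F35390 F17361 (iv2 F35389)
def n22821 : Q := act 3 n10785
theorem D22821 : act 3 n10785 = n22821 := rfl
theorem F35394 : act 4 n22821 = n10791 := d5_2 D10785 D22821 (iv3 D10791) (iv4 D4925) D4924
theorem F35395 : act 7 n22821 = n19362 := d8_2 (iv7 F17363) D22821 (iv3 D19362)
def n22822 : Q := act 5 n10785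
theorem D22822 : act 5 n10785 = n22822 := rfl
theorem F35396 : act 2 n22822 = n19360 := d2_1 D22822 (iv5 D19360) (iv2 F17364)
theorem F35397 : act 7 n22822 = n19363 := d13_2 (iv7 F17363) D22822 (iv5 D19363)
def n22823 : Q := act 6 n10785
theorem D22823 : act 6 n10785 = n22823 := rfl
theorem F35398 : act 2 n22823 = n19361 := d3_1 D22823 (iv6 D19361) (iv2 F17364)
theorem F35399 : act 4 n22823 = n10787 := d10_1 D22823 (iv6 D10787) D10785
def n22824 : Q := act 0 n10786
theorem D22824 : act 0 n10786 = n22824 := rfl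
theorem F35400 : act 1 n22820 = n22824 := d15_0 (iv0 D22824) (iv7 F17361) (iv2 F35390)
def n22825 : Q := act 1 n10786
theorem D22825 : act 1 n10786 = n22825 := rfl
theorem F35401 : act 1 n22825 = n22820 := d15_1 D22825 (iv7 F35393) F35389
def n22826 : Q := act 4 n10786
theorem D22826 : act 4 n10786 = n22826 := rfl
theorem F35402 : act 7 n22826 = n22823 := d11_2 F17361 D22826 F35399
def n22827 : Q := act 6 n10786
theorem D22827 : act 6 n10786 = n22827 := rfl
theorem F35403 : act 3 n22827 = n10798 := d7_1 D22827 (iv6 D10798) (iv3 F17308)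
theorem F35404 : act 5 n22827 = n22347 := d12_1 D22827 (iv6 D22347) F17310 (iv6 D10787) D10786
theorem F35405 : act 7 n22827 = n22347 := d14_2 F17361 D22827 (iv6 D22347) F17347 D10787
def n22828 : Q := act 0 n10787
theorem D22828 : act 0 n10787 = n22828 := rfl
theorem F35406 : act 1 n22819 = n22828 := d15_0 (iv0 D22828) F17361 (iv2 F35389)
def n22829 : Q := act 1 n10787
theorem D22829 : act 1 n10787 = n22829 := rfl
theorem F35407 : act 1 n22829 = n22819 := d15_1 D22829 F35393 F35390
def n22830 : Q := act 2 n10789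
theorem D22830 : act 2 n10789 = n22830 := rfl
theorem F35408 : act 7 n10790 = n22830 := d15_2 (iv0 D10789) D10790 (iv2 D22830)
def n22831 : Q := act 3 n10789
theorem D22831 : act 3 n10789 = n22831 := rfl
def n22832 : Q := act 5 n10789
theorem D22832 : act 5 n10789 = n22832 := rfl
def n22833 : Q := act 6 n10789
theorem D22833 : act 6 n10789 = n22833 := rfl
def n22834 : Q := act 7 n10789
theorem D22834 : act 7 n10789 = n22834 := rfl
theorem F35409 : act 2 n22834 = n10790 := d4_1 D22834 F35408 (iv2 D22830)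
def n22837 : Q := act 6 n10790
theorem D22837 : act 6 n10790 = n22837 := rfl
def n22838 : Q := act 0 n10791
theorem D22838 : act 0 n10791 = n22838 := rfl
def n22839 : Q := act 1 n10791
theorem D22839 : act 1 n10791 = n22839 := rfl
def n22840 : Q := act 2 n10791
theorem D22840 : act 2 n10791 = n22840 := rfl
def n22841 : Q := act 5 n10791
theorem D22841 : act 5 n10791 = n22841 := rfl
theorem F35410 : act 3 n22841 = n10792 := d6_1 D22841 (iv5 D10792) D10791
def n22842 : Q := act 6 n10791
theorem D22842 : act 6 n10791 = n22842 := rfl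
theorem F35411 : act 3 n22842 = n10793 := d7_1 D22842 (iv6 D10793) D10791
def n22843 : Q := act 0 n10792
theorem D22843 : act 0 n10792 = n22843 := rfl
theorem F35412 : act 1 n10811 = n22843 := d15_0 (iv0 D22843) (iv7 F34887) F34886
def n22844 : Q := act 1 n10792
theorem D22844 : act 1 n10792 = n22844 := rfl
theorem F35413 : act 1 n22844 = n10811 := d15_1 D22844 (iv7 F34869) F34868
def n22845 : Q := act 4 n10792
theorem D22845 : act 4 n10792 = n22845 := rfl
def n22846 : Q := act 6 n10792
theorem D22846 : act 6 n10792 = n22846 := rfl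
def n22847 : Q := act 0 n10793
theorem D22847 : act 0 n10793 = n22847 := rfl
theorem F35414 : act 1 n22343 = n22847 := d15_0 (iv0 D22847) F17362 (iv2 F34870)
def n22848 : Q := act 1 n10793
theorem D22848 : act 1 n10793 = n22848 := rfl
theorem F35415 : act 1 n22848 = n22343 := d15_1 D22848 F34871 (iv2 F17360)
def n22849 : Q := act 5 n10793
theorem D22849 : act 5 n10793 = n22849 := rfl
def n22850 : Q := act 2 n10795
theorem D22850 : act 2 n10795 = n22850 := rfl
theorem F35416 : act 5 n22850 = n19674 := d2_2 (iv5 F17317) D22850 F35012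
theorem F35417 : act 7 n22850 = n10796 := d4_2 (iv7 F35011) D22850 (iv2 F35014)
theorem F35418 : act 1 n22850 = n22573 := d15_0 (iv0 D22573) (iv7 F35011) D22850
theorem F35419 : act 6 n22562 = n22850 := d14_5 F35417 F35015 (iv7 D10701) D10700 D22562
def n22851 : Q := act 3 n10795
theorem D22851 : act 3 n10795 = n22851 := rfl
theorem F35421 : act 5 n22851 = n22190 := d6_2 (iv5 F17317) D22851 F34635
theorem F35422 : act 7 n22851 = n22568 := d8_2 (iv7 F35011) D22851 F35109
def n22852 : Q := act 4 n10795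
theorem D22852 : act 4 n10795 = n22852 := rfl
theorem F35423 : act 7 n22852 = n22571 := d11_2 (iv7 F35011) D22852 F35110
theorem F35424 : act 0 n22852 = n22325 := d17_0 F34829 (iv1 D19647) (iv5 D9233) F6072 F3037 D2029 D4931 F17323 D22852
theorem F35425 : act 1 n22852 = n22770 := d15_1 (iv0 F35424) (iv7 D22770) (iv2 F34827)
def n22853 : Q := act 6 n10795
theorem D22853 : act 6 n10795 = n22853 := rfl
theorem F35426 : act 2 n22853 = n22562 := d3_1 D22853 F35419 (iv2 D22850)
theorem F35427 : act 5 n22853 = n19570 := d12_1 D22853 F31322 (iv5 D10567) D10568 (iv5 F17317)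
theorem F35428 : act 7 n22853 = n22541 := d14_2 (iv7 F35011) D22853 (iv6 D22541) (iv7 F17234) D10705
theorem F35429 : act 0 n21871 = n22853 := d21_4 D22059 F34717 (iv5 D21870) D21871 (iv6 D22853) F17317 F34631 (iv5 D19534) D19535 F34632
theorem E4391 : n22560 = n21871 := ((c15_1 (iv0 F35429) (iv0 D22560) D22562 (iv2 F35426))).symm
theorem F35430 : act 1 n21871 = n10700 := (sb E4391 (iv0 D22560))
theorem F35431 : act 1 n22561 = n22853 := d15_1 D22561 F35428 F35092
def n22854 : Q := act 3 n10796
theorem D22854 : act 3 n10796 = n22854 := rfl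
def n22855 : Q := act 4 n10796
theorem D22855 : act 4 n10796 = n22855 := rfl
theorem F35433 : act 2 n22855 = n22571 := d1_1 D22855 F35110 F35014
theorem F35434 : act 6 n22855 = n22554 := d10_2 (iv6 F35015) D22855 F35099
theorem F35435 : act 0 n22855 = n22770 := d18_2 (iv1 F17318) D22855 F35337 (iv5 D22761) (iv4 D10760) (iv0 D4918) F3318 D2029 D4931
theorem F35436 : act 1 n22855 = n22325 := d15_0 (iv0 F35424) F35423 (iv2 F35433)
def n22856 : Q := act 5 n10796
theorem D22856 : act 5 n10796 = n22856 := rfl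
theorem F35437 : act 2 n22856 = n19673 := d2_1 D22856 F31433 F35014
theorem F35438 : act 6 n22856 = n22183 := d12_2 (iv6 F35015) D22856 (iv5 F35004) F35105 F35103
theorem F35439 : act 7 n22856 = n19674 := d13_2 F35417 D22856 (iv5 F35416)
theorem F35440 : act 1 n22195 = n22856 := d15_1 D22195 F35439 F35012
theorem F35441 : act 1 n22856 = n19534 := d15_0 (iv0 F34631) (iv7 F35009) (iv2 F35437)
theorem E4392 : n22537 = n4858 := (c21_5 D19534 (iv1 F35441) (iv5 D22856) F35015 (iv1 F35086) (iv6 D4858) (iv5 F6987) F6293 D1781 D4161 D9194)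
theorem E4393 : n10696 = n10613 := (((D10613).symm.trans (sb E4392 (iv1 D22537)))).symm
theorem E4394 : n10701 = n10614 := (((D10614).symm.trans (sb E4392 F35086))).symm
theorem E4397 : n22538 = n22268 := (((D22268).symm.trans (sb E4393 D22538))).symm
theorem E4398 : n22539 = n22269 := (((D22269).symm.trans (sb E4393 D22539))).symm
theorem E4399 : n22540 = n22270 := (((D22270).symm.trans (sb E4393 D22540))).symm
theorem E4400 : n22541 = n22204 := (((F34640).symm.trans (sb E4393 D22541))).symm
theorem E4401 : n22271 = n4896 := ((D22271).symm.trans (sb E4393 (iv7 F17234)))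
theorem E4403 : n22554 = n22273 := (((D22273).symm.trans (sb E4394 (iv4 F35099)))).symm
theorem E4404 : n22559 = n22274 := (((D22274).symm.trans (sb E4394 (iv5 F35103)))).symm
theorem E4405 : n22275 = n10796 := ((D22275).symm.trans (sb E4394 (iv6 F35015)))
theorem F35444 : act 7 n22268 = n10702 := (sb E4397 F35087)
theorem F35445 : act 2 n22269 = n10698 := (sb E4398 F35088)
theorem F35446 : act 7 n22269 = n10703 := (sb E4398 F35089)
theorem F35447 : act 2 n22270 = n10699 := (sb E4399 F35090)
theorem F35448 : act 7 n22270 = n10704 := (sb E4399 F35091)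
theorem F35449 : act 2 n22204 = n10700 := (sb E4400 F35092)
theorem F35450 : act 7 n22204 = n22853 := (sb E4400 (iv7 F35428))
theorem F35451 : act 2 n4896 = n10614 := (sb E4401 F34748)
theorem F35452 : act 7 n4896 = n10613 := (sb E4401 (iv7 D22271))
theorem F35455 : act 2 n22273 = n10703 := (sb E4403 F35098)
theorem F35456 : act 6 n22273 = n22855 := (sb E4403 (iv6 F35434))
theorem E4406 : n22462 = n22253 := ((((iv6 F34749)).symm.trans (sb E4404 (iv6 F35105)))).symm
theorem F35460 : act 6 n10796 = n10614 := (sb E4405 (iv6 D22275))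
theorem E4407 : n22183 = n19693 := ((((iv5 F34728)).symm.trans (sb E4406 F35004))).symm
theorem F35462 : act 7 n22253 = n10675 := (sb E4406 (iv7 F35003))
theorem F35463 : act 2 n19693 = n22465 := (sb E4407 (iv2 F35005))
theorem F35464 : act 6 n19693 = n22856 := (sb E4407 (iv6 F35438))
theorem F35465 : act 7 n19693 = n10563 := (sb E4407 (iv7 D22183))
theorem E4408 : n10800 = n10705 := (c21_11 (iv5 F31433) (iv1 F31438) (iv5 D9244) D9245 D19693 F35464 (iv5 D22856) (iv1 D10796) (iv5 D4926) D4927 D10800)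
theorem E4409 : n22573 = n10636 := ((D22573).symm.trans (sb E4408 (iv1 F17329)))
theorem E4410 : n22574 = n4927 := ((D22574).symm.trans (sb E4408 (iv0 D10800)))
theorem E4411 : n22850 = n10801 := ((((iv1 F17326)).symm.trans (sb E4409 (iv1 F35418)))).symm
theorem F35466 : act 1 n10636 = n10705 := (sb E4409 (iv0 D22573))
theorem F35467 : act 0 n4927 = n10705 := (sb E4410 (iv1 D22574))
theorem E4412 : n19674 = n19569 := ((((iv5 F31321)).symm.trans (sb E4411 F35416))).symm
theorem E4413 : n22562 = n22200 := ((((iv6 F34638)).symm.trans (sb E4411 (iv6 F35419)))).symm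
theorem F35469 : act 7 n10801 = n10796 := (sb E4411 F35417)
theorem F35470 : act 0 n19569 = n9239 := (sb E4412 (iv1 D19674))
theorem F35471 : act 1 n19569 = n9244 := (sb E4412 F31434)
theorem F35472 : act 2 n19569 = n10568 := (sb E4412 F35012)
theorem E4414 : n10564 = n9206 := ((((iv6 D19569)).symm.trans (sb E4412 F35013))).symm
theorem F35473 : act 7 n19569 = n22856 := (sb E4412 (iv7 F35439))
theorem F35474 : act 2 n22200 = n22853 := (sb E4413 (iv2 F35426))
theorem F35475 : act 7 n22200 = n10700 := (sb E4413 (iv7 D22562))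
theorem E4415 : n22158 = n4166 := ((((iv1 D9206)).symm.trans (sb E4414 (iv1 F34611)))).symm
theorem E4417 : n19565 = n4833 := (((iv2 F31319)).symm.trans (sb E4414 F17036))
theorem E4419 : n22175 = n19567 := (((D19567).symm.trans (sb E4414 (iv4 F34624)))).symm
theorem E4420 : n22180 = n19568 := (((D19568).symm.trans (sb E4414 (iv5 F34629)))).symm
theorem E4422 : n10559 = n9205 := (((D9205).symm.trans (sb E4415 (iv1 D22158)))).symm
theorem F35476 : act 2 n4833 = n9206 := (sb E4417 F31319)
theorem F35478 : act 2 n19567 = n10566 := (sb E4419 F34623)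
theorem F35479 : act 7 n19567 = n10561 := (sb E4419 (iv7 D22175))
theorem F35480 : act 2 n19568 = n10567 := (sb E4420 F34628)
theorem E4423 : n22159 = n19561 := (((D19561).symm.trans (sb E4422 D22159))).symm
theorem E4424 : n22160 = n19562 := (((D19562).symm.trans (sb E4422 D22160))).symm
theorem E4426 : n22162 = n19564 := (((D19564).symm.trans (sb E4422 D22162))).symm
theorem F35484 : act 7 n9205 = n4833 := (sb E4422 (iv7 F17035))
theorem F35485 : act 7 n19561 = n10565 := (sb E4423 F34612)
theorem F35486 : act 2 n19562 = n10561 := (sb E4424 F34613)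
theorem F35487 : act 7 n19562 = n10566 := (sb E4424 F34614)
theorem E4427 : n22466 = n22254 := (((F34721).symm.trans (sb E4426 (iv5 F35017)))).symm
theorem F35491 : act 7 n19564 = n22465 := (sb E4426 F35007)
theorem F35492 : act 2 n22254 = n10675 := (sb E4427 F35016)
theorem F35493 : act 7 n22254 = n10674 := (sb E4427 (iv7 D22466))
theorem E4428 : n22195 = n19539 := (c21_11 (iv5 D19539) (iv1 D9195) F6067 (iv6 D2011) D2008 D4853 D10607 D22253 (iv5 F34728) F35464 (iv1 F35440))
theorem F35494 : act 0 n19539 = n10568 := (sb E4428 (iv1 D22195))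
theorem F35495 : act 1 n19539 = n22856 := (sb E4428 F35440)
theorem E4429 : n22181 = n19540 := ((c21_4 D22856 (iv1 F35495) (iv5 D19539) D19540 (iv1 F35008) F35006 F31433 (iv1 F35466) (iv5 D10636) F7350 (iv1 F17318))).symm
theorem F35496 : act 0 n19540 = n22465 := (sb E4429 (iv1 F35008))
theorem F35497 : act 1 n19540 = n10563 := (sb E4429 (iv0 D22181))
theorem F35498 : act 5 n22561 = n22177 := d21_0 (iv1 D22177) (iv5 D10562) D10563 (iv1 F35497) (iv6 D19540) D19539 F35494 (iv5 F17317) D22853 (iv1 F35431)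
theorem F35499 : act 6 n22177 = n21149 := d21_3 (iv5 F35427) (iv1 F35431) F35498 (iv1 D21149) (iv6 D10078) (iv5 D4584) (iv1 F17410) D4810 (iv6 F14375) D19570
theorem E4430 : n19694 = n19564 := (c15_2 (iv0 D19693) D19694 F35491 (iv2 F35463))
theorem F35500 : act 0 n19564 = n9245 := (sb E4430 (iv1 D19694))
theorem E4431 : n22197 = n19570 := ((c3_3 F31320 F35480 (iv6 F31322) (iv2 D22197))).symm
theorem F35502 : act 7 n19570 = n10570 := (sb E4431 (iv7 F34637))
theorem E4432 : n22201 = n19571 := (c15_4 F31323 F31330 F35502 (iv2 F34639))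
theorem F35504 : act 7 n19571 = n10569 := (sb E4432 (iv7 D22201))
theorem F35505 : act 1 n10827 = n22204 := d15_1 (iv0 F34988) F35450 (iv2 F35474)
theorem E4433 : n22043 = n10668 := (c21_7 (iv5 F31321) F35470 (iv5 D9239) D9240 D19678 F35121 (iv5 F34523) F17366 D10816 F17338 (iv1 F17326))
theorem E4434 : n22427 = n10506 := (((iv2 F34973)).symm.trans (sb E4433 F34522))
theorem E4435 : n10503 = n9216 := (((F17216).symm.trans (sb E4433 F34523))).symm
theorem E4436 : n22244 = n4885 := ((((iv6 D10668)).symm.trans (sb E4433 (iv6 F34712)))).symm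
theorem E4437 : n22445 = n10501 := ((D22445).symm.trans (sb E4433 (iv7 D22043)))
theorem E4438 : n19595 = n4789 := ((((iv5 D10506)).symm.trans (sb E4434 (iv5 F34974)))).symm
theorem E4439 : n10664 = n10605 := ((((iv6 F17119)).symm.trans (sb E4434 (iv6 D22427)))).symm
theorem E4440 : n22026 = n10814 := (((iv7 F34511)).symm.trans (sb E4434 (iv7 F34975)))
theorem E4443 : n22034 = n19596 := (((D19596).symm.trans (sb E4435 (iv3 F34515)))).symm
theorem E4444 : n22040 = n19597 := (((D19597).symm.trans (sb E4435 (iv4 F34519)))).symm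
theorem E4445 : n19678 = n19598 := (((D19598).symm.trans (sb E4435 (iv6 F35121)))).symm
theorem E4446 : n19591 = n4788 := ((F31371).symm.trans (sb E4435 (iv7 D10503)))
theorem E4447 : n10669 = n10606 := ((D10669).symm.trans (sb E4436 (iv7 F34713)))
theorem F35507 : act 7 n10501 = n10668 := (sb E4437 (iv7 D22445))
theorem E4448 : n10498 = n9215 := ((F16703).symm.trans (sb E4438 (iv7 D19595)))
theorem E4452 : n22425 = n22246 := (((D22246).symm.trans (sb E4439 D22425))).symm
theorem E4453 : n22426 = n22247 := (((D22247).symm.trans (sb E4439 D22426))).symm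
theorem E4454 : n22248 = n4886 := ((D22248).symm.trans (sb E4439 (iv7 F17215)))
theorem F35510 : act 2 n10814 = n10501 := (sb E4440 F34510)
theorem F35511 : act 7 n10814 = n10506 := (sb E4440 F34511)
theorem F35512 : act 7 n19596 = n10499 := (sb E4443 (iv7 D22034))
theorem F35513 : act 2 n19597 = n10505 := (sb E4444 F34518)
theorem F35514 : act 7 n19597 = n10500 := (sb E4444 (iv7 D22040))
theorem F35515 : act 1 n19598 = n9240 := (sb E4445 (iv0 D19678))
theorem F35516 : act 2 n19598 = n10507 := (sb E4445 F35120)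
theorem F35517 : act 7 n4788 = n9216 := (sb E4446 (iv7 F31371))
theorem E4455 : n22434 = n22249 := (((D22249).symm.trans (sb E4447 (iv3 F34979)))).symm
theorem E4456 : n22440 = n22250 := (((D22250).symm.trans (sb E4447 (iv4 F34983)))).symm
theorem E4457 : n22444 = n22251 := (((D22251).symm.trans (sb E4447 (iv5 F34991)))).symm
theorem E4458 : n22446 = n22252 := (((D22252).symm.trans (sb E4447 D22446))).symm
theorem F35518 : act 7 n10606 = n4885 := (sb E4447 (iv7 D10669))
theorem E4460 : n22025 = n19593 := (((D19593).symm.trans (sb E4448 D22025))).symm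
theorem E4461 : n22027 = n19594 := (((D19594).symm.trans (sb E4448 D22027))).symm
theorem F35520 : act 7 n9215 = n4789 := (sb E4448 (iv7 F16703))
theorem F35522 : act 2 n22246 = n10666 := (sb E4452 F34969)
theorem F35524 : act 2 n22247 = n10667 := (sb E4453 F34971)
theorem F35525 : act 7 n22247 = n10672 := (sb E4453 F34972)
theorem F35526 : act 2 n4886 = n10606 := (sb E4454 F34718)
theorem F35528 : act 7 n22249 = n10665 := (sb E4455 (iv7 D22434))
theorem F35529 : act 2 n22250 = n10671 := (sb E4456 F34982)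
theorem F35530 : act 7 n22250 = n10666 := (sb E4456 (iv7 D22440))
theorem F35531 : act 2 n22251 = n10672 := (sb E4457 F34990)
theorem F35532 : act 7 n22251 = n10667 := (sb E4457 (iv7 D22444))
theorem F35533 : act 1 n22252 = n10822 := (sb E4458 F35002)
theorem F35534 : act 2 n22252 = n10673 := (sb E4458 F34995)
theorem F35536 : act 2 n19593 = n10500 := (sb E4460 F34508)
theorem F35537 : act 7 n19593 = n10505 := (sb E4460 F34509)
theorem F35538 : act 2 n19594 = n10502 := (sb E4461 F34512)
theorem E4462 : n22580 = n22277 := (((F34751).symm.trans (sb E4461 (iv5 F35123)))).symm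
theorem F35540 : act 2 n22277 = n10707 := (sb E4462 F35122)
theorem F35541 : act 7 n22277 = n10706 := (sb E4462 (iv7 D22580))
theorem E4463 : n22575 = n22276 := (c15_4 (iv0 D22276) D22277 F35541 D22575)
theorem F35542 : act 2 n22276 = n10706 := (sb E4463 (iv2 D22575))
theorem F35543 : act 5 n22276 = n22045 := (sb E4463 F35113)
theorem F35544 : act 7 n22276 = n10707 := (sb E4463 (iv7 F35112))
theorem F35545 : act 2 n22461 = n22042 := d4_3 (iv7 F34719) F35534 D22461
theorem E4464 : n22459 = n21866 := (c15_1 D22459 (iv0 F34521) (iv7 F34719) F35534)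
theorem F35546 : act 0 n21866 = n10673 := (sb E4464 (iv1 D22459))
theorem F35547 : act 1 n22042 = n22458 := d15_0 (iv0 D22458) D22461 F35545
theorem F35548 : act 5 n19707 = n22458 := d21_0 (iv1 F35547) (iv5 F35125) (iv6 D22583) (iv1 D10707) F7315 (iv5 D4146) (iv1 F7112) D4184 (iv6 F14438) D19707
theorem F35549 : act 2 n22443 = n22059 := d3_3 (iv6 F34716) F35524 D22443
theorem F35550 : act 2 n22439 = n22056 := d3_3 (iv6 F34715) F35522 D22439
theorem F35551 : act 7 n22032 = n22433 := d13_2 F35512 D22032 (iv5 F34978)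
theorem F35552 : act 7 n22439 = n22041 := d11_2 F35507 (iv4 F34981) (iv4 D22041)
theorem F35553 : act 7 n22855 = n22768 := d11_2 F35469 D22855 F35333
theorem F35554 : act 2 n22768 = n22852 := d4_1 F35553 F35423 (iv2 F35433)
theorem E4465 : n22767 = n22571 := ((c15_4 (iv0 D22767) D22768 (iv7 F35553) F35433)).symm
theorem F35555 : act 1 n22571 = n10762 := (sb E4465 (iv0 D22767))
def n22857 : Q := act 0 n10797
theorem D22857 : act 0 n10797 = n22857 := rfl
theorem F35556 : act 1 n10813 = n22857 := d15_0 (iv0 D22857) (iv7 F17362) F17360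
def n22858 : Q := act 1 n10797
theorem D22858 : act 1 n10797 = n22858 := rfl
theorem F35557 : act 1 n22858 = n10813 := d15_1 D22858 (iv7 F34871) F34870
def n22859 : Q := act 3 n10797
theorem D22859 : act 3 n10797 = n22859 := rfl
theorem F35558 : act 7 n22859 = n22842 := d8_2 F17362 D22859 F35411
def n22860 : Q := act 5 n10797
theorem D22860 : act 5 n10797 = n22860 := rfl
theorem F35559 : act 7 n22860 = n22849 := d13_2 F17362 D22860 (iv5 D22849)
def n22861 : Q := act 6 n10797
theorem D22861 : act 6 n10797 = n22861 := rfl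
theorem F35560 : act 4 n22861 = n10798 := d10_1 D22861 (iv6 D10798) D10797
theorem F35561 : act 7 n22861 = n22350 := d14_2 F17362 D22861 (iv6 D22350) F17349 D10793
def n22862 : Q := act 3 n10801
theorem D22862 : act 3 n10801 = n22862 := rfl
theorem F35562 : act 7 n22862 = n22854 := d8_2 (iv7 F35469) D22862 (iv3 D22854)
def n22863 : Q := act 5 n10804
theorem D22863 : act 5 n10804 = n22863 := rfl
theorem F35563 : act 3 n22863 = n19661 := d6_1 D22863 F31423 (iv3 F31117)
def n22864 : Q := act 6 n10804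
theorem D22864 : act 6 n10804 = n22864 := rfl
theorem F35564 : act 3 n22864 = n22818 := d7_1 D22864 (iv6 D22818) (iv3 F31117)
def n22865 : Q := act 5 n10805
theorem D22865 : act 5 n10805 = n22865 := rfl
theorem F35565 : act 3 n22865 = n11022 := d6_1 D22865 (iv5 D11022) (iv3 F34856)
def n22866 : Q := act 6 n10805
theorem D22866 : act 6 n10805 = n22866 := rfl
def n22867 : Q := act 4 n10806
theorem D22867 : act 4 n10806 = n22867 := rfl
theorem F35567 : act 2 n22867 = n10807 := d1_1 D22867 (iv4 D10807) D10806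
theorem F35568 : act 0 n19454 = n22867 := d20_1 D19454 (iv4 D22867) (iv3 F34874) (iv1 F34879) (iv3 F31117) F31116 (iv1 F31115) (iv4 D19432) F14222 (iv1 F14228)
def n22868 : Q := act 5 n10806
theorem D22868 : act 5 n10806 = n22868 := rfl
theorem F35569 : act 2 n22868 = n10808 := d2_1 D22868 (iv5 D10808) D10806
theorem F35570 : act 3 n22868 = n22820 := d6_1 D22868 (iv5 F35392) F34874
theorem F35571 : act 6 n22336 = n22868 := d7_0 F35570 (iv6 D22820) (iv3 F34848)
def n22869 : Q := act 6 n10806
theorem D22869 : act 6 n10806 = n22869 := rfl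
theorem F35572 : act 2 n22869 = n10809 := d3_1 D22869 (iv6 D10809) D10806
def n22870 : Q := act 0 n10807
theorem D22870 : act 0 n10807 = n22870 := rfl
def n22871 : Q := act 3 n10807
theorem D22871 : act 3 n10807 = n22871 := rfl
theorem F35573 : act 4 n22871 = n10810 := d5_2 D10807 D22871 (iv3 D10810) (iv4 D4930) D4929
def n22872 : Q := act 5 n10807
theorem D22872 : act 5 n10807 = n22872 := rfl
def n22873 : Q := act 6 n10807
theorem D22873 : act 6 n10807 = n22873 := rfl
theorem F35574 : act 4 n22873 = n10809 := d10_1 D22873 (iv6 D10809) D10807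
def n22874 : Q := act 0 n10808
theorem D22874 : act 0 n10808 = n22874 := rfl
def n22875 : Q := act 1 n10808
theorem D22875 : act 1 n10808 = n22875 := rfl
def n22876 : Q := act 4 n10808
theorem D22876 : act 4 n10808 = n22876 := rfl
theorem F35575 : act 6 n22876 = n22337 := d10_2 F17332 D22876 (iv4 D22337)
def n22877 : Q := act 0 n10809
theorem D22877 : act 0 n10809 = n22877 := rfl
def n22878 : Q := act 1 n10809
theorem D22878 : act 1 n10809 = n22878 := rfl
def n22879 : Q := act 5 n10809
theorem D22879 : act 5 n10809 = n22879 := rfl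
theorem F35576 : act 3 n22879 = n10816 := d6_1 D22879 (iv5 D10816) (iv3 F17333)
theorem F35577 : act 6 n22879 = n22338 := d12_2 D10809 D22879 (iv5 D22338) F17332 (iv5 D10808)
theorem F35578 : act 7 n10809 = n22879 := d14_0 F35577 F34862 (iv6 F17332) F17355 D10809
def n22880 : Q := act 0 n10810
theorem D22880 : act 0 n10810 = n22880 := rfl
def n22881 : Q := act 1 n10810
theorem D22881 : act 1 n10810 = n22881 := rfl
def n22882 : Q := act 2 n10810
theorem D22882 : act 2 n10810 = n22882 := rfl
def n22883 : Q := act 5 n10810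
theorem D22883 : act 5 n10810 = n22883 := rfl
theorem F35579 : act 3 n22883 = n10811 := d6_1 D22883 (iv5 D10811) D10810
def n22884 : Q := act 6 n10810
theorem D22884 : act 6 n10810 = n22884 := rfl
theorem F35580 : act 3 n22884 = n10812 := d7_1 D22884 (iv6 D10812) D10810
def n22885 : Q := act 4 n10811
theorem D22885 : act 4 n10811 = n22885 := rfl
def n22886 : Q := act 6 n10811
theorem D22886 : act 6 n10811 = n22886 := rfl
def n22887 : Q := act 0 n10812
theorem D22887 : act 0 n10812 = n22887 := rfl
def n22888 : Q := act 1 n10812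
theorem D22888 : act 1 n10812 = n22888 := rfl
theorem F35581 : act 1 n22888 = n22861 := d15_1 D22888 F35561 F34888
def n22889 : Q := act 5 n10812
theorem D22889 : act 5 n10812 = n22889 := rfl
theorem F35582 : act 1 n22889 = n22011 := d17_6 D4788 D10501 F17339 (iv5 D10816) (iv4 F17334) D22889 (iv5 D22011) (iv0 D10494) F6884
theorem E4466 : n22837 = n4881 := (c21_6 D22011 (iv1 F35582) (iv5 D22889) (iv6 D10812) (iv1 F17312) D22837 (iv5 F16701) (iv1 D10492) (iv5 D4785) D4786 D10494)
theorem E4467 : n10790 = n10652 := (((D10652).symm.trans (sb E4466 (iv6 D22837)))).symm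
theorem E4468 : n22388 = n4925 := ((D22388).symm.trans (sb E4467 (iv1 D10790)))
theorem E4469 : n22389 = n4930 := ((D22389).symm.trans (sb E4467 F17312))
theorem E4470 : n22834 = n19978 := ((((iv2 F31808)).symm.trans (sb E4467 (iv2 F35409)))).symm
theorem E4472 : n19376 = n19152 := ((((iv4 F30770)).symm.trans (sb E4467 F35317))).symm
theorem E4474 : n22830 = n22391 := (((D22391).symm.trans (sb E4467 F35408))).symm
theorem F35583 : act 1 n4925 = n10652 := (sb E4468 (iv0 D22388))
theorem F35584 : act 0 n4930 = n10652 := (sb E4469 (iv1 D22389))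
theorem F35585 : act 7 n19978 = n10789 := (sb E4470 (iv7 D22834))
theorem F35586 : act 0 n19152 = n9095 := (sb E4472 (iv1 D19376))
theorem F35587 : act 1 n19152 = n22327 := (sb E4472 F34833)
theorem E4475 : n19396 = n19198 := ((((iv3 F30833)).symm.trans (sb E4472 (iv3 F31028)))).symm
theorem F35588 : act 2 n22391 = n10789 := (sb E4474 (iv2 D22830))
theorem F35589 : act 0 n19198 = n22760 := (sb E4475 (iv1 F35316))
theorem F35590 : act 1 n19198 = n9100 := (sb E4475 (iv0 D19396))
theorem E4476 : n11065 = n10909 := (((F30834).symm.trans (sb E4475 F31027))).symm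
theorem F35591 : act 0 n10909 = n11029 := (sb E4476 (iv1 F17931))
theorem F35592 : act 1 n10909 = n5045 := (sb E4476 (iv0 D11065))
theorem F35593 : act 7 n11066 = n10857 := d15_2 F35592 D11066 (iv2 F17723)
theorem E4477 : n20473 = n19397 := (c11_3 F35593 F17654 D20473 F35314)
theorem E4478 : n9729 = n9118 := (((F35313).symm.trans (sb E4477 F32529))).symm
theorem F35594 : act 5 n19397 = n20384 := (sb E4477 F32530)
theorem F35595 : act 6 n19397 = n19951 := (sb E4477 F32531)
theorem F35596 : act 7 n19397 = n9720 := (sb E4477 (iv7 D20473))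
theorem E4479 : n9431 = n9137 := ((((iv1 F14227)).symm.trans (sb E4478 (iv1 F15193)))).symm
theorem E4480 : n9430 = n4094 := ((((iv0 D9118)).symm.trans (sb E4478 F15194))).symm
theorem E4481 : n19422 = n9433 := ((D19422).symm.trans (sb E4478 F15190))
theorem E4482 : n20485 = n19424 := (((D19424).symm.trans (sb E4478 (iv4 F32562)))).symm
theorem E4483 : n19425 = n9680 := ((D19425).symm.trans (sb E4478 (iv5 F16966)))
theorem E4484 : n19426 = n9424 := ((D19426).symm.trans (sb E4478 F15191))
theorem E4485 : n19427 = n4395 := ((D19427).symm.trans (sb E4478 (iv7 D9729)))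
theorem E4486 : n9119 = n4278 := (((iv1 F14229)).symm.trans (sb E4479 (iv1 D9431)))
theorem E4490 : n19999 = n19434 := (((F31090).symm.trans (sb E4479 D19999))).symm
theorem E4491 : n20000 = n19458 := (((D19458).symm.trans (sb E4479 D20000))).symm
theorem E4495 : n19994 = n9122 := (((D9122).symm.trans (sb E4480 D19994))).symm
theorem F35597 : act 2 n9433 = n9118 := (sb E4481 (iv2 D19422))
theorem E4497 : n19988 = n10807 := (((F31083).symm.trans (sb E4482 (iv1 F32565)))).symm
theorem F35598 : act 1 n19424 = n19987 := (sb E4482 F32566)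
theorem F35599 : act 2 n19424 = n19990 := (sb E4482 F32561)
theorem F35600 : act 6 n19424 = n19962 := (sb E4482 F32563)
theorem F35601 : act 7 n19424 = n9725 := (sb E4482 (iv7 D20485))
theorem F35602 : act 5 n9680 = n9118 := (sb E4483 (iv5 D19425))
theorem F35603 : act 6 n9424 = n9118 := (sb E4484 (iv6 D19426))
theorem F35604 : act 7 n4395 = n9118 := (sb E4485 (iv7 D19427))
theorem F35605 : act 0 n4278 = n4094 := (sb E4486 (iv1 D9119))
theorem F35606 : act 1 n4278 = n9137 := (sb E4486 F14229)
theorem E4498 : n19428 = n9426 := ((((iv3 F14656)).symm.trans (sb E4486 D19428))).symm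
theorem E4502 : n9726 = n9120 := ((((iv6 D19434)).symm.trans (sb E4490 (iv6 F31824)))).symm
theorem F35607 : act 0 n19458 = n20769 := (sb E4491 F33162)
theorem F35608 : act 1 n19458 = n9452 := (sb E4491 F33163)
theorem F35609 : act 5 n19458 = n20825 := (sb E4491 (iv5 F32981))
theorem E4503 : n19440 = n9759 := ((D19440).symm.trans (sb E4495 (iv0 F32669)))
theorem E4504 : n20068 = n19442 := (((D19442).symm.trans (sb E4495 F31894))).symm
theorem E4506 : n22870 = n9429 := ((D22870).symm.trans (sb E4497 (iv1 D19988)))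
theorem E4507 : n22340 = n19978 := ((((iv4 F31809)).symm.trans (sb E4498 (iv4 F34865)))).symm
theorem E4508 : n9433 = n9136 := ((((iv1 F14228)).symm.trans (sb E4502 (iv1 F15192)))).symm
theorem E4509 : n9135 = n4395 := ((F14224).symm.trans (sb E4502 (iv0 D9726)))
theorem E4513 : n20489 = n19433 := (((D19433).symm.trans (sb E4502 D20489))).symm
theorem F35610 : act 0 n9759 = n9122 := (sb E4503 (iv1 D19440))
theorem E4515 : n20590 = n19434 := ((D20590).symm.trans (sb E4503 F31095))
theorem F35611 : act 0 n19442 = n9452 := (sb E4504 (iv1 D20068))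
theorem F35612 : act 1 n19442 = n20769 := (sb E4504 (iv0 F32931))
theorem F35613 : act 1 n9429 = n10807 := (sb E4506 (iv0 D22870))
theorem F35614 : act 0 n19978 = n10635 := (sb E4507 (iv1 D22340))
theorem F35615 : act 1 n19978 = n10639 := (sb E4507 F34864)
theorem E4519 : n19452 = n9118 := (((iv2 F31107)).symm.trans (sb E4508 F35597))
theorem E4520 : n19981 = n19375 := ((((iv3 F34853)).symm.trans (sb E4508 (iv3 F31810)))).symm
theorem E4521 : n19990 = n19454 := (((D19454).symm.trans (sb E4508 (iv4 F31820)))).symm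
theorem E4522 : n19455 = n9383 := ((D19455).symm.trans (sb E4508 F16967))
theorem E4523 : n19456 = n9736 := ((D19456).symm.trans (sb E4508 (iv6 F15203)))
theorem E4524 : n19447 = n4278 := ((F31105).symm.trans (sb E4508 (iv7 D9433)))
theorem F35616 : act 0 n4395 = n9120 := (sb E4509 (iv1 F14224))
theorem F35617 : act 1 n4395 = n4099 := (sb E4509 (iv0 D9135))
theorem E4525 : n19448 = n9720 := ((((iv3 F15173)).symm.trans (sb E4509 D19448))).symm
theorem E4529 : n20990 = n19444 := ((((iv1 F31101)).symm.trans (sb E4513 F33161))).symm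
theorem F35618 : act 6 n19433 = n20825 := (sb E4513 F32982)
theorem F35619 : act 0 n19434 = n9759 := (sb E4515 (iv1 D20590))
theorem F35620 : act 2 n9118 = n9136 := (sb E4519 F31107)
theorem F35621 : act 5 n19375 = n19901 := (sb E4520 F31811)
theorem F35622 : act 6 n19375 = n20496 := (sb E4520 (iv6 F32571))
theorem F35623 : act 7 n19375 = n9426 := (sb E4520 (iv7 D19981))
theorem E4530 : n22867 = n20483 := ((F35568).symm.trans (sb E4521 (iv1 F32559)))
theorem E4531 : n22337 = n20482 := (((iv0 F34859)).symm.trans (sb E4521 F32564))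
theorem F35624 : act 2 n19454 = n19424 := (sb E4521 (iv2 F35599))
theorem F35625 : act 6 n19454 = n20505 := (sb E4521 (iv6 F32589))
theorem F35626 : act 7 n19454 = n9429 := (sb E4521 (iv7 D19990))
theorem F35627 : act 5 n9383 = n9136 := (sb E4522 (iv5 D19455))
theorem F35628 : act 6 n9736 = n9136 := (sb E4523 (iv6 D19456))
theorem F35629 : act 7 n4278 = n9136 := (sb E4524 (iv7 F31105))
theorem E4532 : n20471 = n19260 := ((D20471).symm.trans (sb E4525 (iv1 F35315)))
theorem E4533 : n20472 = n19398 := ((D20472).symm.trans (sb E4525 (iv0 F34836)))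
theorem E4534 : n11033 = n10857 := ((((iv4 F17654)).symm.trans (sb E4525 F31106))).symm
theorem F35630 : act 5 n19444 = n9962 := (sb E4529 (iv5 D20990))
theorem F35631 : act 1 n20483 = n19454 := (sb E4530 (iv0 F35568))
theorem F35632 : act 2 n20483 = n10807 := (sb E4530 F35567)
theorem F35633 : act 4 n20483 = n10806 := (sb E4530 (iv4 D22867))
theorem F35634 : act 0 n20482 = n19454 := (sb E4531 F34859)
theorem F35635 : act 4 n20482 = n10634 := (sb E4531 (iv4 D22337))
theorem F35636 : act 6 n20482 = n22876 := (sb E4531 (iv6 F35575))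
theorem F35637 : act 7 n20482 = n10807 := (sb E4531 F34858)
theorem F35638 : act 1 n19260 = n9720 := (sb E4532 (iv0 D20471))
theorem F35639 : act 0 n19398 = n9720 := (sb E4533 (iv1 D20472))
theorem F35640 : act 0 n10857 = n5028 := (sb E4534 (iv1 D11033))
theorem F35641 : act 1 n10857 = n11063 := (sb E4534 F17927)
theorem F35642 : act 2 n11066 = n11032 := d15_3 (iv0 D11032) (iv0 F35640) (iv7 F35593)
theorem F35643 : act 7 n11032 = n10909 := d4_2 (iv7 F35593) F35642 F17723
theorem F35644 : act 2 n20482 = n19987 := d15_3 (iv0 D19987) F35613 (iv7 F35637)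
theorem F35645 : act 4 n19987 = n22336 := d1_2 (iv4 F35635) F35644 (iv2 D22336)
theorem F35646 : act 7 n19987 = n20483 := d4_2 (iv7 F35637) F35644 F35632
theorem F35647 : act 6 n20995 = n19439 := d21_3 D4544 D9963 D20995 (iv1 F31094) (iv6 D19434) D19433 (iv1 F31101) F35630 (iv6 D9962) (iv1 D4543)
theorem E4535 : n19463 = n9886 := (c21_11 (iv5 D9886) (iv1 F15526) F15523 (iv6 F15676) (iv1 F15678) D9962 (iv5 F35630) (iv1 D19444) (iv5 F14190) D9139 D19463)
theorem E4536 : n20826 = n9139 := ((D20826).symm.trans (sb E4535 (iv0 D19463)))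
theorem F35648 : act 0 n9139 = n9886 := (sb E4536 (iv1 D20826))
theorem E4537 : n19464 = n9891 := ((D19464).symm.trans (sb E4536 F32984))
theorem F35649 : act 0 n9891 = n9139 := (sb E4537 (iv1 D19464))
theorem F35650 : act 7 n20825 = n19458 := d15_2 (iv0 F35649) (iv0 F32983) F31113
theorem E4538 : n20830 = n20441 := (c21_5 F31098 F35648 (iv5 D9886) D9887 D20830 (iv6 D20441) D20440 F32935 F32934 F32933 (iv1 F35612))
theorem F35653 : act 1 n20441 = n9887 := (sb E4538 (iv0 D20830))
theorem F35654 : act 5 n19439 = n20912 := d12_1 F35647 (iv6 D20912) D20911 (iv6 F33070) D20995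
theorem E4539 : n22833 = n22384 := ((c10_2 F35622 (iv4 F34936) (iv6 D22833) (iv4 F34854))).symm
theorem F35655 : act 6 n22384 = n10789 := (sb E4539 (iv6 D22833))
theorem F35656 : act 1 n19901 = n19087 := d17_8 (iv1 F31266) (iv5 F31409) (iv1 F35336) (iv5 D22769) (iv4 F35322) (iv5 F35323) F34835 F35621 F31268
theorem E4540 : n21983 = n19667 := (c18_6 D2028 D4925 D10789 (iv4 F34854) F35621 (iv4 F34481) (iv0 D19667) (iv4 D9238) (iv0 D4178) F3037)
theorem F35657 : act 4 n19667 = n19901 := (sb E4540 F34481)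
theorem F35658 : act 7 n19667 = n10484 := (sb E4540 (iv7 D21983))
theorem E4541 : n19668 = n19551 := ((c15_4 F31428 F31432 F35658 (iv2 F31296))).symm
theorem F35659 : act 0 n19551 = n9238 := (sb E4541 (iv1 D19668))
theorem F35660 : act 1 n19551 = n9243 := (sb E4541 F31428)
theorem E4542 : n20409 = n3990 := (c20_6 D9238 D19667 F35657 F31741 (iv1 F15078) D20409 (iv4 F15266) (iv1 D4190) F3045 (iv3 F3036) D4178)
theorem E4543 : n9678 = n8950 := (((D8950).symm.trans (sb E4542 (iv3 D20409)))).symm
theorem E4544 : n19107 = n4365 := ((D19107).symm.trans (sb E4543 (iv1 D9678)))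
theorem E4545 : n19108 = n9383 := ((D19108).symm.trans (sb E4543 F15078))
theorem E4548 : n20411 = n19111 := (((D19111).symm.trans (sb E4543 D20411))).symm
theorem E4551 : n19103 = n9677 := (((D9677).symm.trans (sb E4544 (iv1 F30694)))).symm
theorem F35661 : act 1 n4365 = n8950 := (sb E4544 (iv0 D19107))
theorem F35662 : act 0 n9383 = n8950 := (sb E4545 (iv1 D19108))
theorem E4552 : n9704 = n9260 := ((((iv6 F30703)).symm.trans (sb E4548 F32419))).symm
theorem F35663 : act 2 n9677 = n8945 := (sb E4551 (iv2 D19103))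
theorem E4553 : n20404 = n9677 := ((D20404).symm.trans (sb E4551 (tr F30690 E4551)))
theorem F35664 : act 7 n9677 = n19109 := (sb E4551 (iv7 F30696))
theorem E4554 : n19736 = n9359 := ((D19736).symm.trans (sb E4552 (iv1 F15148)))
theorem E4555 : n19737 = n4380 := ((D19737).symm.trans (sb E4552 (iv0 D9704)))
theorem F35665 : act 3 n9677 = n9677 := (sb E4553 (iv3 D20404))
theorem E4561 : n19744 = n9705 := ((((iv1 F15143)).symm.trans (sb E4554 (iv1 F31502)))).symm
theorem F35666 : act 1 n9359 = n9260 := (sb E4554 (iv0 D19736))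
theorem F35667 : act 0 n4380 = n9260 := (sb E4555 (iv1 D19737))
theorem F35668 : act 2 n9705 = n9264 := (sb E4561 (iv2 D19744))
theorem E4562 : n20438 = n9705 := ((D20438).symm.trans (sb E4561 (tr F31500 E4561)))
theorem F35669 : act 7 n9705 = n19738 := (sb E4561 F31501)
theorem F35670 : act 3 n9705 = n9705 := (sb E4562 (iv3 D20438))
theorem F35671 : act 3 n20440 = n20440 := d6_3 (iv5 D20440) F35670 D20440
theorem F35672 : act 3 n20441 = n20441 := d7_3 (iv6 D20441) F35670 D20441
theorem F35673 : act 3 n20570 = n20570 := d6_3 F32664 F35672 (iv5 F32664)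
theorem F35674 : act 3 n20618 = n20618 := d7_3 F32716 F35671 (iv6 F32716)
theorem F35675 : act 2 n19745 = n20439 := d1_3 (iv4 D20439) F35668 D19745
theorem F35676 : act 2 n19746 = n20440 := d2_3 (iv5 D20440) F35668 D19746
theorem F35677 : act 2 n19747 = n20441 := d3_3 (iv6 D20441) F35668 D19747
theorem F35678 : act 2 n20570 = n20669 := d2_3 F32776 F35677 (iv5 F32664)
theorem E4563 : n20871 = n20831 := ((c15_2 F35653 D20831 F33021 F35677)).symm
theorem F35679 : act 3 n20831 = n9900 := (sb E4563 (iv3 D20871))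
theorem F35680 : act 5 n20831 = n20671 := (sb E4563 F33019)
theorem E4564 : n19917 = n19105 := (((iv6 F32990)).symm.trans (sb E4563 F33020))
theorem F35682 : act 1 n19105 = n9962 := (sb E4564 (iv0 F33155))
theorem E4565 : n9380 = n8945 := ((((iv5 D19105)).symm.trans (sb E4564 (iv5 D19917)))).symm
theorem F35683 : act 6 n19105 = n20831 := (sb E4564 F32990)
theorem E4566 : n19101 = n9680 := ((D19101).symm.trans (sb E4565 (iv1 F15085)))
theorem E4567 : n19102 = n4258 := ((D19102).symm.trans (sb E4565 (iv0 D9380)))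
theorem E4571 : n19918 = n19106 := (((D19106).symm.trans (sb E4565 D19918))).symm
theorem E4573 : n19109 = n9381 := ((((iv1 F15084)).symm.trans (sb E4566 (iv1 F30697)))).symm
theorem F35684 : act 1 n9680 = n8945 := (sb E4566 (iv0 D19101))
theorem F35685 : act 0 n4258 = n8945 := (sb E4567 (iv1 D19102))
theorem F35686 : act 0 n19106 = n20773 := (sb E4571 F32946)
theorem E4574 : n19974 = n11012 := ((((iv5 F30693)).symm.trans (sb E4571 F31802))).symm
theorem F35687 : act 2 n9381 = n8950 := (sb E4573 (iv2 D19109))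
theorem E4575 : n19920 = n9381 := ((D19920).symm.trans (sb E4573 (tr F30695 E4573)))
theorem F35688 : act 7 n9381 = n9677 := (sb E4573 (iv7 F35664))
theorem F35689 : act 0 n11012 = n9423 := (sb E4574 (iv1 D19974))
theorem F35690 : act 1 n11012 = n20135 := (sb E4574 F31968)
theorem F35691 : act 3 n9381 = n9381 := (sb E4575 (iv3 D19920))
theorem F35692 : act 3 n19881 = n19881 := d6_3 F31721 F35691 (iv5 F31721)
theorem F35693 : act 3 n19922 = n19922 := d7_3 (iv6 D19922) F35691 D19922
theorem F35694 : act 3 n20062 = n20062 := d6_3 F31888 F35693 (iv5 F31888)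
theorem F35695 : act 3 n19880 = n19880 := d7_3 F31889 F35694 (iv6 F31889)
theorem E4576 : n19878 = n9356 := (c6_4 D19880 F35695 (iv5 D19880) D19878)
theorem F35696 : act 3 n9356 = n9356 := (sb E4576 (iv3 D19878))
theorem F35699 : act 2 n11008 = n19973 := d15_3 (iv0 D19973) (iv0 F35689) F30671
theorem F35700 : act 3 n19973 = n19973 := d0_2 D11008 F35699 (iv2 F35699) (iv3 D11008) F30669
theorem F35701 : act 7 n20405 = n19921 := d11_2 F35688 D20405 (iv4 D19921)
theorem F35702 : act 7 n20406 = n19881 := d13_2 F35688 D20406 F31721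
theorem F35703 : act 3 n20406 = n20406 := d8_3 F35702 F35692 (iv7 F35702)
theorem F35704 : act 2 n19110 = n19921 := d1_3 (iv4 D19921) F35687 D19110
theorem F35705 : act 2 n19111 = n19881 := d2_3 F31721 F35687 D19111
theorem F35706 : act 2 n19112 = n19922 := d3_3 (iv6 D19922) F35687 D19112
theorem F35707 : act 2 n20062 = n20178 := d2_3 F32002 F35706 (iv5 F31888)
theorem F35708 : act 2 n19740 = n19880 := d3_3 F31889 F35707 F32003
theorem E4577 : n20180 = n20063 := ((c15_2 (iv0 D20062) D20063 F32008 (iv2 F35707))).symm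
theorem F35709 : act 3 n20063 = n9528 := (sb E4577 (iv3 D20180))
theorem E4578 : n21065 = n20976 := ((((iv5 F33164)).symm.trans (sb E4577 (iv5 F33259)))).symm
theorem F35710 : act 6 n20063 = n20299 := (sb E4577 (iv6 F32218))
theorem F35711 : act 7 n20063 = n20178 := (sb E4577 F32008)
theorem F35712 : act 3 n20976 = n10023 := (sb E4578 (iv3 D21065))
theorem E4579 : n20891 = n20844 := ((((iv6 F33156)).symm.trans (sb E4578 F33260))).symm
theorem F35713 : act 7 n20976 = n19112 := (sb E4578 F33261)
theorem F35714 : act 3 n20844 = n9906 := (sb E4579 (iv3 D20891))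
theorem E4580 : n20133 = n11008 := ((F32997).symm.trans (sb E4579 F33036))
theorem F35715 : act 7 n20844 = n19106 := (sb E4579 F33037)
theorem F35716 : act 0 n11008 = n19976 := (sb E4580 (iv1 F31967))
theorem F35717 : act 1 n11008 = n9501 := (sb E4580 (iv0 D20133))
theorem F35718 : act 5 n11008 = n20844 := (sb E4580 (iv5 F32997))
theorem F35719 : act 7 n20134 = n19973 := d15_2 F35717 D20134 (iv2 F35699)
theorem F35720 : act 2 n11012 = n20134 := d4_3 F35719 (iv2 F35699) (iv7 F30671)
theorem F35721 : act 3 n20134 = n20134 := d8_3 F35719 F35700 (iv7 F35719)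
theorem F35722 : act 3 n20407 = n20407 := d6_3 F32417 F35721 (iv5 F32417)
theorem F35723 : act 2 n20407 = n19106 := d2_3 (iv5 F30693) F35720 (iv5 F32417)
theorem E4581 : n20975 = n19922 := ((c15_4 (iv0 D20975) D20976 F35713 F35706)).symm
theorem F35724 : act 1 n19922 = n9957 := (sb E4581 (iv0 D20975))
theorem F35725 : act 5 n20576 = n20971 := d21_6 (iv5 F31888) F31890 (iv5 D9456) D9457 D20082 F32670 (iv1 D20971) (iv5 D9956) D9957 (iv1 F35724)
theorem F35726 : act 0 n20082 = n20828 := d21_4 D9961 (iv1 F33151) (iv5 F35725) (iv6 F32670) (iv6 D20828) (iv5 D9886) (iv1 F15526) F15523 (iv6 F15676) (iv1 F15678)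
theorem F35727 : act 2 n20085 = n20828 := d15_3 (iv0 F35726) (iv0 D20082) D20085
theorem E4582 : n20810 = n20769 := (c3_4 (iv6 F32933) F35727 (iv6 D20828) (iv2 F32967))
theorem E4583 : n20069 = n9886 := ((F32930).symm.trans (sb E4582 F32967))
theorem E4584 : n9883 = n9870 := ((((iv5 D20769)).symm.trans (sb E4582 (iv5 D20810)))).symm
theorem E4585 : n20048 = n9891 := ((F32932).symm.trans (sb E4582 F32968))
theorem F35728 : act 2 n9886 = n20769 := (sb E4583 (iv2 F32930))
theorem E4586 : n20766 = n4490 := ((((iv5 D9886)).symm.trans (sb E4583 (iv5 F32929)))).symm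
theorem E4587 : n20829 = n9452 := ((D20829).symm.trans (sb E4583 (iv7 D20069)))
theorem E4590 : n20808 = n20767 := (((D20767).symm.trans (sb E4584 D20808))).symm
theorem E4591 : n20809 = n20768 := (((D20768).symm.trans (sb E4584 D20809))).symm
theorem E4592 : n20811 = n20601 := ((((iv6 F32680)).symm.trans (sb E4584 D20811))).symm
theorem E4593 : n20770 = n4491 := ((D20770).symm.trans (sb E4584 (iv7 F15535)))
theorem E4594 : n9448 = n9400 := ((((iv6 F15537)).symm.trans (sb E4585 (iv6 D20048)))).symm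
theorem F35729 : act 7 n9891 = n20769 := (sb E4585 (iv7 F32932))
theorem F35730 : act 2 n4490 = n9870 := (sb E4586 (iv2 D20766))
theorem E4595 : n9888 = n9871 := ((D9888).symm.trans (sb E4586 (iv7 F32928)))
theorem F35731 : act 2 n9452 = n9891 := (sb E4587 F32986)
theorem E4596 : n19931 = n4283 := ((((iv6 D9452)).symm.trans (sb E4587 (iv6 F32988)))).symm
theorem F35732 : act 7 n9452 = n9886 := (sb E4587 (iv7 D20829))
theorem F35733 : act 7 n20767 = n9889 := (sb E4590 F32964)
theorem F35734 : act 2 n20768 = n9885 := (sb E4591 F32965)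
theorem F35735 : act 7 n20768 = n9890 := (sb E4591 F32966)
theorem F35736 : act 2 n20601 = n9887 := (sb E4592 F32969)
theorem F35737 : act 7 n4491 = n9870 := (sb E4593 (iv7 D20770))
theorem E4599 : n20045 = n19932 := (((D19932).symm.trans (sb E4594 D20045))).symm
theorem E4600 : n20046 = n19933 := (((D19933).symm.trans (sb E4594 D20046))).symm
theorem E4601 : n20047 = n19934 := (((D19934).symm.trans (sb E4594 D20047))).symm
theorem E4602 : n19935 = n4284 := ((D19935).symm.trans (sb E4594 (iv7 F14673)))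
theorem F35738 : act 2 n9871 = n4491 := (sb E4595 F15536)
theorem E4603 : n20818 = n20771 := (((D20771).symm.trans (sb E4595 (iv3 F32975)))).symm
theorem E4604 : n20824 = n20772 := (((D20772).symm.trans (sb E4595 (iv4 F32979)))).symm
theorem E4605 : n20833 = n20773 := (((D20773).symm.trans (sb E4595 D20833))).symm
theorem F35739 : act 7 n9871 = n4490 := (sb E4595 (iv7 D9888))
theorem F35740 : act 2 n4283 = n9400 := (sb E4596 (iv2 D19931))
theorem E4606 : n9453 = n9401 := ((D9453).symm.trans (sb E4596 (iv7 F31762)))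
theorem F35741 : act 7 n19932 = n9454 := (sb E4599 F31872)
theorem F35742 : act 2 n19933 = n9450 := (sb E4600 F31873)
theorem F35743 : act 7 n19933 = n9455 := (sb E4600 F31874)
theorem F35744 : act 2 n19934 = n9451 := (sb E4601 F31875)
theorem F35745 : act 7 n19934 = n9456 := (sb E4601 F31876)
theorem F35746 : act 7 n4284 = n9400 := (sb E4602 (iv7 D19935))
theorem F35747 : act 7 n20771 = n9884 := (sb E4603 (iv7 D20818))
theorem F35748 : act 2 n20772 = n9890 := (sb E4604 F32978)
theorem F35749 : act 7 n20772 = n9885 := (sb E4604 (iv7 D20824))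
theorem F35750 : act 2 n20773 = n9892 := (sb E4605 F32991)
theorem F35751 : act 2 n9401 = n4284 := (sb E4606 F14674)
theorem E4607 : n20055 = n19936 := (((D19936).symm.trans (sb E4606 (iv3 F31882)))).symm
theorem E4608 : n20061 = n19937 := (((D19937).symm.trans (sb E4606 (iv4 F31886)))).symm
theorem E4609 : n20066 = n19938 := (((D19938).symm.trans (sb E4606 (iv5 F31893)))).symm
theorem E4610 : n20070 = n19939 := (((D19939).symm.trans (sb E4606 D20070))).symm
theorem F35752 : act 7 n9401 = n4283 := (sb E4606 (iv7 D9453))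
theorem F35753 : act 7 n19936 = n9449 := (sb E4607 (iv7 D20055))
theorem F35754 : act 2 n19937 = n9455 := (sb E4608 F31885)
theorem F35755 : act 7 n19937 = n9450 := (sb E4608 (iv7 D20061))
theorem F35756 : act 2 n19938 = n9456 := (sb E4609 F31892)
theorem F35757 : act 7 n19938 = n9451 := (sb E4609 (iv7 D20066))
theorem F35758 : act 1 n19939 = n20510 := (sb E4610 F32937)
theorem F35759 : act 2 n19939 = n9457 := (sb E4610 F31895)
theorem E4611 : n20083 = n19967 := (c15_1 D20083 (iv0 F32985) F32989 F35759)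
theorem F35760 : act 0 n19967 = n9457 := (sb E4611 (iv1 D20083))
theorem F35761 : act 2 n20081 = n20643 := d3_3 F32762 F35756 D20081
theorem F35762 : act 7 n20644 = n20081 := d15_2 (iv0 D20643) D20644 F35761
theorem F35763 : act 7 n20052 = n10861 := d11_2 F35753 D20052 (iv4 F31764)
theorem F35764 : act 2 n20052 = n10860 := d15_3 (iv0 D10860) D10861 (iv7 F35763)
theorem F35765 : act 4 n10860 = n20051 := d1_2 D20052 F35764 (iv2 D20051)
theorem F35766 : act 2 n20846 = n20065 := d2_3 (iv5 F32944) F35750 D20846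
theorem F35767 : act 1 n19106 = n20847 := d15_1 (iv0 F35686) (iv7 D20847) (iv2 F35750)
theorem E4612 : n21326 = n20815 := ((c11_2 F35747 D20815 (iv7 F33525) (iv4 F32943))).symm
theorem F35768 : act 2 n20815 = n10177 := (sb E4612 (iv2 D21326))
theorem F35769 : act 7 n20815 = n10178 := (sb E4612 (iv7 F33525))
theorem F35770 : act 7 n20816 = n20054 := d13_2 F35747 D20816 (iv5 F32942)
theorem E4613 : n21331 = n21234 := (c15_4 F33461 (iv0 F32970) F35769 (iv2 F33526))
theorem F35771 : act 2 n21234 = n10178 := (sb E4613 F33526)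
theorem F35772 : act 7 n21234 = n10177 := (sb E4613 (iv7 D21331))
theorem E4614 : n21328 = n20814 := (c1_3 D20815 F35768 D21328 (iv2 D20814))
theorem F35773 : act 4 n20814 = n10177 := (sb E4614 (iv4 D21328))
theorem F35774 : act 2 n20060 = n20843 := d3_3 F32996 F35742 D20060
theorem E4615 : n20598 = n20466 := ((c2_3 D20601 F35736 F32518 F32679)).symm
theorem F35775 : act 2 n20466 = n9761 := (sb E4615 F32679)
theorem F35776 : act 7 n20466 = n9760 := (sb E4615 (iv7 D20598))
theorem E4616 : n20832 = n20596 := ((c13_2 F35776 D20596 (iv7 D20832) F32518)).symm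
theorem F35777 : act 7 n20596 = n9887 := (sb E4616 (iv7 D20832))
theorem E4617 : n20593 = n20465 := (c15_4 (iv0 D20465) D20466 F35776 D20593)
theorem F35778 : act 2 n20465 = n9760 := (sb E4617 (iv2 D20593))
theorem F35779 : act 7 n20465 = n9761 := (sb E4617 (iv7 F32678))
theorem F35780 : act 7 n20827 = n20060 := d11_2 F35732 D20827 F31884
theorem E4618 : n19877 = n9260 := (c2_4 D19740 F35708 (iv5 D19880) D19877)
theorem E4619 : n19738 = n9356 := ((D19738).symm.trans (sb E4618 (iv2 D19877)))
theorem E4620 : n9357 = n9264 := ((((iv7 F30689)).symm.trans (sb E4618 (iv7 F31720)))).symm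
theorem E4621 : n19743 = n9707 := ((((iv1 F15150)).symm.trans (sb E4619 (iv1 F31503)))).symm
theorem E4622 : n19742 = n4243 := ((((iv0 D9356)).symm.trans (sb E4619 F31499))).symm
theorem F35781 : act 2 n9356 = n9260 := (sb E4619 (iv2 D19738))
theorem E4623 : n19882 = n9705 := ((D19882).symm.trans (sb E4619 (iv7 F35669)))
theorem E4626 : n19885 = n19746 := (((D19746).symm.trans (sb E4620 D19885))).symm
theorem F35782 : act 0 n9707 = n9264 := (sb E4621 (iv1 D19743))
theorem F35783 : act 1 n4243 = n9264 := (sb E4622 (iv0 D19742))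
theorem F35784 : act 7 n9705 = n9356 := (sb E4623 (iv7 D19882))
theorem E4628 : n20296 = n20125 := (((iv6 F32211)).symm.trans (sb E4626 (iv6 F31954)))
theorem F35785 : act 3 n20125 = n9601 := (sb E4628 (iv3 D20296))
theorem F35786 : act 6 n20125 = n19746 := (sb E4628 F32211)
theorem F35787 : act 7 n20125 = n20299 := (sb E4628 (iv7 F32219))
theorem F35788 : act 7 n19880 = n20440 := d4_2 F31508 F35708 (iv2 F35676)
theorem F35789 : act 1 n19740 = n20602 := d15_0 (iv0 F32935) (iv7 F35788) (iv2 F35708)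
theorem F35790 : act 0 n19111 = n20912 := d21_10 (iv5 F35654) (iv1 F31094) (iv5 F31090) D19458 F35607 (iv6 F32933) (iv5 F32934) (iv1 F35789) (iv5 D19740) F30703
theorem F35791 : act 1 n19746 = n20084 := d15_0 (iv0 F31900) F35788 (iv2 F35676)
theorem F35792 : act 0 n19747 = n20596 := d21_10 (iv5 D20596) (iv1 F32526) F32523 F15165 (iv1 F14625) D9457 D20084 (iv1 F35791) (iv5 D19746) D19747
theorem F35793 : act 2 n20299 = n20126 := d15_3 F32722 F32723 F35787
theorem F35794 : act 3 n20126 = n20126 := d0_2 D20299 F35793 (iv2 F35793) (iv3 D20299) F30677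
theorem F35795 : act 2 n20618 = n20125 := d3_3 F35786 F35676 (iv6 F32716)
theorem F35796 : act 7 n20126 = n20618 := d4_0 F35795 F35787 F35793
theorem E4629 : n20619 = n20299 := (c15_2 (iv0 D20618) D20619 (iv7 F35787) (iv2 F35795))
theorem F35797 : act 0 n20299 = n9773 := (sb E4629 (iv1 D20619))
theorem F35799 : act 7 n19879 = n20439 := d11_2 F35784 D19879 (iv4 D20439)
theorem F35800 : act 2 n19739 = n19879 := d4_3 F35799 (iv2 F35675) F31506
theorem E4630 : n21312 = n19773 := (c20_8 F6100 (iv1 F5936) (iv4 F15266) D9264 (iv1 F35783) (iv3 F14552) (iv4 F16010) D21312 F31548 (iv3 D9287) F16064)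
theorem F35801 : act 0 n19773 = n21665 := (sb E4630 (iv1 F34094))
theorem F35802 : act 1 n19773 = n10172 := (sb E4630 (iv0 D21312))
theorem F35803 : act 0 n20459 = n20669 := d21_1 D20459 F32776 (iv6 D19747) (iv1 F35783) (iv6 D4243) (iv5 D1804) (iv1 F1815) D1846 D4386 D9713
theorem F35804 : act 2 n19805 = n21313 := d15_3 F34093 (iv0 F35801) (iv7 F31577)
theorem F35805 : act 4 n21313 = n19817 := d1_2 (iv4 F31576) F35804 (iv2 D19817)
theorem F35806 : act 2 n20406 = n19105 := d4_3 (iv7 F30702) F35705 (iv7 F35702)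
theorem F35807 : act 1 n19111 = n20591 := d15_0 (iv0 F32677) F35702 (iv2 F35705)
theorem F35808 : act 0 n19112 = n20089 := d21_10 (iv5 D20089) (iv1 F31775) F31772 (iv6 F15165) (iv1 F15167) D9759 D20591 (iv1 F35807) (iv5 D19111) D19112
theorem E4631 : n20989 = n19881 := (c15_2 F35682 D20989 (iv7 F35702) F35806)
theorem F35809 : act 0 n19881 = n9962 := (sb E4631 (iv1 D20989))
theorem F35810 : act 1 n20406 = n20912 := d15_0 (iv0 F35790) F30702 (iv2 F35806)
theorem E4632 : n20845 = n20407 := ((c21_4 F35654 (iv1 F35810) (iv5 D20406) D20407 (iv1 D20845) (iv6 D9892) D9891 F35649 (iv5 F31098) (iv6 D19442) D19439)).symm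
theorem F35811 : act 0 n20407 = n9892 := (sb E4632 (iv1 D20845))
theorem F35812 : act 0 n19934 = n20178 := d21_4 (iv5 F32417) F35811 D20846 F32998 F32003 (iv5 D19740) (iv1 F35666) (iv5 F31724) (iv6 F31805) (iv1 F31964)
theorem F35813 : act 1 n19938 = n20178 := d15_0 (iv0 F35812) F35745 (iv2 F35756)
theorem F35814 : act 2 n20405 = n19104 := d4_3 (iv7 F30700) F35704 (iv7 F35701)
theorem E4633 : n21981 = n19538 := ((c20_1 D19538 (iv1 D21981) F16693 F14593 F35685 (iv3 D8945) F15292 (iv1 F6095) F6093 (iv3 F6075) (iv1 F14341))).symm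
theorem F35815 : act 0 n19538 = n10484 := (sb E4633 (iv1 D21981))
theorem E4634 : n21303 = n9303 := (c20_8 (iv4 F3045) D4189 (iv4 F15292) D8945 (iv1 F35684) (iv3 F32363) (iv4 F34124) (iv1 F34127) (iv4 D9303) (iv3 D4199) (iv1 D1791))
theorem E4635 : n19803 = n10169 := ((D19803).symm.trans (sb E4634 (iv1 D21303)))
theorem E4636 : n21674 = n19804 := (((D19804).symm.trans (sb E4634 F34127))).symm
theorem E4637 : n21302 = n19768 := ((D21302).symm.trans (sb E4635 (iv1 F31574)))
theorem F35816 : act 1 n10169 = n9303 := (sb E4635 (iv0 D19803))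
theorem F35817 : act 2 n19804 = n21305 := (sb E4636 F34123)
theorem F35818 : act 4 n19804 = n20384 := (sb E4636 F34124)
theorem F35819 : act 6 n19804 = n21315 := (sb E4636 F34125)
theorem F35820 : act 7 n19804 = n10345 := (sb E4636 (iv7 D21674))
theorem F35821 : act 1 n19768 = n10169 := (sb E4637 (iv0 D21302))
theorem E4638 : n19911 = n19686 := (c20_2 (iv4 F32411) (iv1 F32414) (iv4 D19686) (iv3 D9242) (iv1 D4179) F3036 (iv4 F3045) D4189 (iv4 F15292) D8945 (iv1 F35684))
theorem F35822 : act 0 n19686 = n9379 := (sb E4638 (iv1 D19911))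
theorem F35823 : act 1 n19686 = n20402 := (sb E4638 F32414)
theorem E4639 : n22865 = n19684 := (c18_10 (iv1 D19684) D19686 F35822 F14602 (iv5 F16782) (iv4 F14657) F35613 (iv4 D10807) D10805 D22865)
theorem F35824 : act 3 n19684 = n11022 := (sb E4639 F35565)
theorem F35825 : act 5 n19684 = n10805 := (sb E4639 (iv5 D22865))
theorem E4640 : n19899 = n19638 := (c20_11 (iv4 D19638) (iv1 F31269) F31265 F14343 (iv1 F14346) D9242 D19686 F35822 F14602 (iv3 F14593) D19899)
theorem F35826 : act 1 n19638 = n9367 := (sb E4640 (iv0 D19899))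
theorem E4641 : n19979 = n10760 := (c18_1 D19979 (iv4 D10760) (iv1 F17178) F17174 (iv5 F14344) (iv4 F31265) F31269 D19638 F35826 F17013)
theorem E4642 : n22759 = n9426 := ((D22759).symm.trans (sb E4641 (iv0 D19979)))
theorem F35827 : act 0 n9426 = n10760 := (sb E4642 (iv1 D22759))
theorem E4643 : n19980 = n10765 := ((D19980).symm.trans (sb E4642 F35308))
theorem F35828 : act 0 n10765 = n9426 := (sb E4643 (iv1 D19980))
theorem F35829 : act 7 n22758 = n19152 := d15_2 (iv0 F35828) F35307 F30769
theorem F35830 : act 2 n19375 = n22758 := d4_3 F35829 F30769 (iv7 F35623)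
theorem F35831 : act 4 n22391 = n22758 := d11_3 F35829 F30770 D22391
theorem E4644 : n11056 = n9300 := (c18_10 (iv1 F16111) D19768 (iv1 F31575) F35818 (iv5 F35594) F35314 F17932 (iv4 D11029) F7482 D11056)
theorem E4645 : n19790 = n11027 := ((D19790).symm.trans (sb E4644 F35382))
theorem E4646 : n19793 = n5042 := ((D19793).symm.trans (sb E4644 (iv5 D11056)))
theorem E4647 : n19795 = n11022 := ((D19795).symm.trans (sb E4644 (iv7 F35386)))
theorem F35832 : act 2 n11027 = n9300 := (sb E4645 (iv2 D19790))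
theorem E4648 : n11061 = n9301 := (((iv7 F35380)).symm.trans (sb E4645 (iv7 F31560)))
theorem F35833 : act 5 n5042 = n9300 := (sb E4646 (iv5 D19793))
theorem F35834 : act 7 n11022 = n9300 := (sb E4647 (iv7 D19795))
theorem F35835 : act 2 n9301 = n11022 := (sb E4648 F35387)
theorem E4649 : n22815 = n19796 := (((D19796).symm.trans (sb E4648 (iv3 F35353)))).symm
theorem E4650 : n19798 = n5043 := ((D19798).symm.trans (sb E4648 (iv5 D11061)))
theorem F35836 : act 7 n9301 = n11027 := (sb E4648 F35380)
theorem F35837 : act 5 n19796 = n10782 := (sb E4649 (iv5 D22815))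
theorem F35838 : act 5 n5043 = n9301 := (sb E4650 (iv5 D19798))
theorem F35839 : act 6 n19783 = n11022 := d21_5 F35838 (iv1 D9301) D9304 (iv6 F16074) D19783 (iv5 D11022) (iv1 F7485) F17898 (iv6 D11031) (iv1 F7486)
theorem F35840 : act 2 n19799 = n19783 := d3_3 F35839 (iv2 F35835) D19799
theorem F35842 : act 7 n19791 = n19684 := d8_2 F35834 D19791 F35824
theorem F35843 : act 5 n11054 = n19791 := d13_3 F35842 F35825 F35359
theorem F35844 : act 2 n19791 = n19683 := d15_3 (iv0 D19683) D19684 (iv7 F35842)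
theorem E4651 : n22863 = n19683 := ((c2_2 F35843 F35844 (iv5 D22863) (iv2 F35357))).symm
theorem F35845 : act 3 n19683 = n19661 := (sb E4651 F35563)
theorem F35846 : act 5 n19683 = n10804 := (sb E4651 (iv5 D22863))
theorem F35847 : act 0 n18144 = n19087 := d20_10 F31268 (iv1 F31266) F14430 F6075 (iv1 F3049) D4199 D9303 (iv1 F35816) (iv4 F32361) F32360
theorem E4652 : n20671 = n20571 := ((c15_2 (iv0 D20570) D20571 F32781 (iv2 F35678))).symm
theorem F35848 : act 3 n20571 = n9797 := (sb E4652 (iv3 D20671))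
theorem F35849 : act 5 n20571 = n20831 := (sb E4652 (iv5 F35680))
theorem F35850 : act 6 n20571 = n11012 := (sb E4652 F32780)
theorem E4653 : n20575 = n20515 := (c21_11 (iv5 F33150) (iv1 F33154) (iv5 D9961) D9962 (iv1 F35682) F35683 (iv5 F35849) (iv1 D20571) (iv5 D9753) D9754 D20575)
theorem F35852 : act 1 n20515 = n9754 := (sb E4653 (iv0 D20575))
theorem E4654 : n21663 = n19805 := (c20_8 F3051 D3989 F15292 D9260 (iv1 F35666) (iv3 F31688) (iv4 F33520) (iv1 F34088) F31576 (iv3 D9306) (iv1 F16060))
theorem F35853 : act 0 n19805 = n10342 := (sb E4654 (iv1 D21663))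
theorem F35854 : act 1 n19805 = n21315 := (sb E4654 F34088)
theorem F35855 : act 4 n20430 = n19703 := d20_2 (iv4 F31719) (iv1 F32468) (iv3 D19703) (iv1 D9248) F6077 F3051 D3989 F15292 D9260 (iv1 F35666)
theorem F35856 : act 7 n21662 = n21313 := d15_2 F35854 F34092 (iv2 F35804)
theorem F35857 : act 2 n19773 = n21662 := d4_3 F35856 (iv2 F35804) F31577
theorem F35858 : act 4 n19785 = n21662 := d11_3 F35856 F35805 F31591
theorem E4655 : n21671 = n9281 := (c20_8 (iv4 F6093) (iv1 F6096) F15266 D8950 (iv1 F35661) (iv3 F15047) (iv4 F16464) D21671 (iv4 D9281) (iv3 D4194) (iv1 F3048))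
theorem E4656 : n21305 = n19771 := (((D19771).symm.trans (sb E4655 (iv1 F34126)))).symm
theorem E4657 : n19772 = n10345 := ((D19772).symm.trans (sb E4655 (iv0 D21671)))
theorem E4658 : n21672 = n19800 := ((((iv1 F31565)).symm.trans (sb E4656 (iv1 F34121)))).symm
theorem F35859 : act 2 n19771 = n19804 := (sb E4656 (iv2 F35817))
theorem F35860 : act 6 n19771 = n21665 := (sb E4656 (iv6 F34091))
theorem F35861 : act 7 n19771 = n10169 := (sb E4656 (iv7 D21305))
theorem F35862 : act 0 n10345 = n9281 := (sb E4657 (iv1 D19772))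
theorem F35863 : act 0 n19800 = n10345 := (sb E4658 (iv1 D21672))
theorem F35864 : act 4 n20399 = n19532 := d20_2 (iv4 F15077) D20399 (iv3 D19532) (iv1 F14345) F6075 (iv4 F6093) (iv1 F6096) F15266 D8950 (iv1 F35661)
theorem F35865 : act 1 n19532 = n19791 := d18_8 F34880 (iv4 F35635) F35634 (iv4 D19454) (iv5 F35627) (iv4 F31745) F32413 F35864 (iv5 F35843)
theorem E4659 : n11022 = n9278 := (c18_10 (iv1 F16110) D19800 F35863 F16464 F16965 (iv4 F17654) F35641 (iv4 D11063) F7485 D11022)
theorem E4660 : n19758 = n9301 := ((D19758).symm.trans (sb E4659 (iv2 F35835)))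
theorem E4661 : n19759 = n19684 := ((D19759).symm.trans (sb E4659 (iv3 F35824)))
theorem E4662 : n19761 = n5025 := ((D19761).symm.trans (sb E4659 (iv5 D11022)))
theorem E4663 : n19783 = n19762 := (((D19762).symm.trans (sb E4659 (iv6 F35839)))).symm
theorem E4664 : n19763 = n9300 := ((D19763).symm.trans (sb E4659 F35834))
theorem F35866 : act 2 n9301 = n9278 := (sb E4660 (iv2 D19758))
theorem E4665 : n11027 = n9279 := ((F35836).symm.trans (sb E4660 (iv7 F31541)))
theorem F35867 : act 3 n19684 = n9278 := (sb E4661 (iv3 D19759))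
theorem F35868 : act 5 n5025 = n9278 := (sb E4662 (iv5 D19761))
theorem F35869 : act 0 n19762 = n19817 := (sb E4663 (iv1 F31592))
theorem F35871 : act 2 n19762 = n19799 := (sb E4663 (iv2 F35840))
theorem F35872 : act 7 n9300 = n9278 := (sb E4664 (iv7 D19763))
theorem F35873 : act 2 n9279 = n9300 := (sb E4665 F35832)
theorem E4666 : n19766 = n5026 := ((D19766).symm.trans (sb E4665 (iv5 D11027)))
theorem F35874 : act 7 n9279 = n9301 := (sb E4665 (iv7 F35836))
theorem F35875 : act 5 n5026 = n9279 := (sb E4666 (iv5 D19766))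
theorem F35876 : act 5 n19764 = n11025 := d6_2 F35875 D19764 (iv3 D11025)
theorem F35878 : act 7 n19796 = n19764 := d13_0 F35876 F35377 (iv5 F35837)
theorem F35879 : act 7 n19797 = n19765 := d11_2 F35874 D19797 (iv4 D19765)
theorem F35880 : act 2 n19792 = n19765 := d1_3 (iv4 D19765) F35873 D19792
theorem F35882 : act 7 n19760 = n19792 := d11_2 F35872 D19760 (iv4 D19792)
theorem F35883 : act 2 n19797 = n19760 := d4_3 F35882 F35880 (iv7 F35879)
theorem E4667 : n19816 = n19799 := (c21_5 F35868 (iv1 F16110) D19801 (iv6 F31570) (iv1 F31593) (iv6 D19799) (iv5 F35838) (iv1 D5043) F7448 (iv6 D5030) D5025)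
theorem F35884 : act 0 n19799 = n9306 := (sb E4667 (iv1 D19816))
theorem F35885 : act 1 n19799 = n19785 := (sb E4667 F31593)
theorem F35886 : act 7 n19815 = n19762 := d15_2 F35885 F31589 F35871
theorem F35888 : act 7 n19439 = n20579 := d15_2 (iv0 F35619) F31094 F32673
theorem F35889 : act 2 n20592 = n19439 := d4_3 F35888 F32673 D20592
theorem E4668 : n20995 = n20578 := ((c14_5 F35888 (iv6 D20579) (iv7 D9755) D9754 D20578 F35647)).symm
theorem F35890 : act 1 n20578 = n19972 := (sb E4668 (iv0 F33166))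
theorem F35891 : act 5 n20578 = n9963 := (sb E4668 (iv5 D20995))
theorem F35892 : act 6 n20578 = n19439 := (sb E4668 F35647)
theorem E4669 : n20996 = n20577 := (c13_3 D20578 F35891 D20996 (iv5 D20577))
theorem F35893 : act 2 n20577 = n9964 := (sb E4669 F33167)
theorem F35894 : act 7 n20577 = n9963 := (sb E4669 (iv7 D20996))
theorem E4670 : n20992 = n20913 := (c15_4 (iv0 D20913) (iv0 F32671) F35894 D20992)
theorem F35895 : act 2 n20913 = n9963 := (sb E4670 (iv2 D20992))
theorem F35896 : act 7 n20913 = n9964 := (sb E4670 (iv7 F33165))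
theorem E4671 : n20974 = n20911 := ((c3_3 (iv6 F33071) F35895 F33070 F33152)).symm
theorem F35897 : act 2 n20911 = n9961 := (sb E4671 F33152)
theorem E4672 : n9958 = n9940 := ((((iv5 D20911)).symm.trans (sb E4671 F33153))).symm
theorem F35898 : act 7 n20911 = n9956 := (sb E4671 (iv7 D20974))
theorem E4673 : n20952 = n4526 := ((((iv1 D9940)).symm.trans (sb E4672 (iv1 F33133)))).symm
theorem E4675 : n20908 = n4543 := (((iv2 F33068)).symm.trans (sb E4672 F15694))
theorem E4676 : n20963 = n20909 := (((D20909).symm.trans (sb E4672 (iv3 F33144)))).symm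
theorem E4677 : n20969 = n20910 := (((D20910).symm.trans (sb E4672 (iv4 F33148)))).symm
theorem E4678 : n20978 = n20912 := (((D20912).symm.trans (sb E4672 D20978))).symm
theorem E4680 : n9953 = n9939 := (((D9939).symm.trans (sb E4673 (iv1 D20952)))).symm
theorem F35899 : act 2 n4543 = n9940 := (sb E4675 F33068)
theorem F35900 : act 7 n20909 = n9954 := (sb E4676 (iv7 D20963))
theorem F35901 : act 2 n20910 = n9960 := (sb E4677 F33147)
theorem F35902 : act 7 n20910 = n9955 := (sb E4677 (iv7 D20969))
theorem F35903 : act 2 n20912 = n9962 := (sb E4678 F33157)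
theorem F35905 : act 2 n9939 = n4542 := (sb E4680 (iv2 D9953))
theorem E4681 : n20953 = n20905 := (((D20905).symm.trans (sb E4680 D20953))).symm
theorem E4682 : n20954 = n20906 := (((D20906).symm.trans (sb E4680 D20954))).symm
theorem E4683 : n20955 = n20907 := (((D20907).symm.trans (sb E4680 D20955))).symm
theorem E4684 : n20956 = n20094 := ((((iv6 F31904)).symm.trans (sb E4680 D20956))).symm
theorem F35906 : act 7 n9939 = n4543 := (sb E4680 (iv7 F15693))
theorem F35907 : act 7 n20905 = n9959 := (sb E4681 F33134)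
theorem F35908 : act 2 n20906 = n9955 := (sb E4682 F33135)
theorem F35909 : act 7 n20906 = n9960 := (sb E4682 F33136)
theorem F35910 : act 2 n20907 = n9956 := (sb E4683 F33137)
theorem F35911 : act 7 n20907 = n9961 := (sb E4683 F33138)
theorem F35912 : act 2 n20094 = n9957 := (sb E4684 F33139)
theorem E4685 : n20091 = n19941 := ((c2_3 D20094 F35912 F31767 F31903)).symm
theorem F35913 : act 2 n19941 = n9459 := (sb E4685 F31903)
theorem F35914 : act 7 n19941 = n9458 := (sb E4685 (iv7 D20091))
theorem E4686 : n20977 = n20089 := ((c13_2 F35914 D20089 (iv7 D20977) F31767)).symm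
theorem F35915 : act 7 n20089 = n9957 := (sb E4686 (iv7 D20977))
theorem E4687 : n20086 = n19940 := (c15_4 (iv0 D19940) D19941 F35914 D20086)
theorem F35916 : act 2 n19940 = n9458 := (sb E4687 (iv2 D20086))
theorem F35917 : act 7 n19940 = n9459 := (sb E4687 (iv7 F31901))
theorem E4688 : n20574 = n20090 := ((c3_3 (iv6 F31765) F35916 D20090 F32666)).symm
theorem F35918 : act 2 n20090 = n9758 := (sb E4688 F32666)
theorem E4689 : n9755 = n9714 := (((F31902).symm.trans (sb E4688 F32667))).symm
theorem F35919 : act 7 n20090 = n9753 := (sb E4688 (iv7 D20574))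
theorem E4690 : n20552 = n4386 := ((((iv1 D9714)).symm.trans (sb E4689 (iv1 F32647)))).symm
theorem E4692 : n20461 = n4406 := (((iv2 F32515)).symm.trans (sb E4689 F15235))
theorem E4693 : n20563 = n20462 := (((D20462).symm.trans (sb E4689 (iv3 F32658)))).symm
theorem E4694 : n20569 = n20463 := (((D20463).symm.trans (sb E4689 (iv4 F32662)))).symm
theorem E4695 : n20579 = n20464 := (((D20464).symm.trans (sb E4689 D20579))).symm
theorem E4696 : n20456 = n4405 := ((F32513).symm.trans (sb E4689 (iv7 D9755)))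
theorem E4697 : n9750 = n9713 := (((D9713).symm.trans (sb E4690 (iv1 D20552)))).symm
theorem F35920 : act 2 n4406 = n9714 := (sb E4692 F32515)
theorem F35921 : act 7 n20462 = n9751 := (sb E4693 (iv7 D20563))
theorem F35922 : act 2 n20463 = n9757 := (sb E4694 F32661)
theorem F35923 : act 7 n20463 = n9752 := (sb E4694 (iv7 D20569))
theorem F35924 : act 2 n20464 = n9759 := (sb E4695 F32673)
theorem F35925 : act 7 n20464 = n19439 := (sb E4695 (iv7 F35888))
theorem F35926 : act 7 n4405 = n9714 := (sb E4696 (iv7 F32513))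
theorem F35927 : act 2 n9713 = n4405 := (sb E4697 (iv2 D9750))
theorem E4698 : n20553 = n20457 := (((D20457).symm.trans (sb E4697 D20553))).symm
theorem E4699 : n20554 = n20458 := (((D20458).symm.trans (sb E4697 D20554))).symm
theorem E4700 : n20555 = n20459 := (((D20459).symm.trans (sb E4697 D20555))).symm
theorem E4701 : n20556 = n20460 := (((D20460).symm.trans (sb E4697 D20556))).symm
theorem F35928 : act 7 n9713 = n4406 := (sb E4697 (iv7 F15234))
theorem F35929 : act 7 n20457 = n9756 := (sb E4698 F32648)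
theorem F35930 : act 2 n20458 = n9752 := (sb E4699 F32649)
theorem F35931 : act 7 n20458 = n9757 := (sb E4699 F32650)
theorem F35932 : act 2 n20459 = n9753 := (sb E4700 F32651)
theorem F35933 : act 7 n20459 = n9758 := (sb E4700 F32652)
theorem F35934 : act 2 n20460 = n9754 := (sb E4701 F32653)
theorem F35935 : act 1 n20090 = n20669 := d15_0 (iv0 F35803) F35933 (iv2 F35918)
theorem E4702 : n20464 = n19443 := (c21_10 (iv5 D19433) (iv1 F14228) (iv5 F35627) (iv6 F15147) F35782 D19747 (iv5 F32776) (iv1 F35935) F31902 D20464 (iv1 F31100))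
theorem F35936 : act 2 n19443 = n9759 := (sb E4702 F35924)
theorem F35937 : act 6 n19443 = n9714 := (sb E4702 (iv6 D20464))
theorem F35938 : act 7 n19443 = n19439 := (sb E4702 F35925)
theorem E4703 : n20592 = n19444 := (c15_4 F31101 F31100 F35938 (iv2 F35889))
theorem F35939 : act 2 n19444 = n19439 := (sb E4703 F35889)
theorem F35940 : act 7 n19444 = n9759 := (sb E4703 (iv7 D20592))
theorem E4704 : n20991 = n20591 := ((c13_2 F35940 D20591 (iv7 D20991) (iv5 F35630))).symm
theorem F35941 : act 7 n20591 = n9962 := (sb E4704 (iv7 D20991))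
theorem F35942 : act 0 n20601 = n19747 := d21_10 (iv5 F32776) (iv1 F35935) F31902 (iv6 F35937) (iv1 F31100) F35618 (iv5 F35609) F35607 (iv5 D20769) (iv6 F32680)
theorem F35943 : act 7 n20560 = n10915 := d11_2 F35921 D20560 (iv4 F32516)
theorem F35944 : act 2 n20560 = n10914 := d15_3 (iv0 D10914) D10915 (iv7 F35943)
theorem F35945 : act 4 n10914 = n20559 := d1_2 D20560 F35944 (iv2 D20559)
theorem E4705 : n21685 = n20960 := ((c11_2 F35900 D20960 (iv7 F34144) (iv4 F33069))).symm
theorem F35946 : act 2 n20960 = n10350 := (sb E4705 (iv2 D21685))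
theorem F35947 : act 7 n20960 = n10351 := (sb E4705 (iv7 F34144))
theorem E4706 : n21690 = n21524 := (c15_4 F33859 (iv0 F33140) F35947 (iv2 F34145))
theorem F35948 : act 2 n21524 = n10351 := (sb E4706 F34145)
theorem F35949 : act 7 n21524 = n10350 := (sb E4706 (iv7 D21690))
theorem E4707 : n21687 = n20959 := (c1_3 D20960 F35946 D21687 (iv2 D20959))
theorem F35950 : act 4 n20959 = n10350 := (sb E4707 (iv4 D21687))
theorem E4708 : n22391 = n22339 := ((c15_2 F35615 F34863 (iv7 D22391) (iv2 F31808))).symm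
theorem F35951 : act 2 n22339 = n10789 := (sb E4708 F35588)
theorem F35952 : act 4 n22339 = n22758 := (sb E4708 F35831)
theorem F35953 : act 7 n22339 = n10652 := (sb E4708 (iv7 D22391))
theorem F35954 : act 0 n22849 = n21982 := d21_7 D4830 (iv1 F16700) F16701 D10652 (iv1 F35583) D10793 D22849 (iv5 D21982) (iv6 D10484) (iv1 F6887)
theorem F35955 : act 5 n22843 = n22152 := d21_2 D10792 D22843 (iv6 D22152) (iv1 D10556) (iv6 D4831) D4830 (iv1 F16700) F16701 D10652 (iv1 F35583)
def n22890 : Q := act 7 n10812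
theorem D22890 : act 7 n10812 = n22890 := rfl
theorem F35956 : act 2 n22890 = n22861 := d4_1 D22890 F35561 F34888
theorem F35957 : act 4 n22890 = n10816 := d11_1 D22890 (iv7 F17340) (iv4 F17334)
theorem F35958 : act 6 n22890 = n22343 := d14_1 D22890 F34871 F17335 F17357 D10812
theorem F35959 : act 1 n22861 = n22887 := d15_0 (iv0 D22887) D22890 F35956
def n22891 : Q := act 3 n10813
theorem D22891 : act 3 n10813 = n22891 := rfl
theorem F35960 : act 6 n22891 = n22341 := d7_2 (iv6 F17335) D22891 (iv3 D22341)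
def n22892 : Q := act 5 n10813
theorem D22892 : act 5 n10813 = n22892 := rfl
theorem F35961 : act 2 n22892 = n22849 := d2_1 D22892 (iv5 D22849) F17360
def n22894 : Q := act 4 n10814
theorem D22894 : act 4 n10814 = n22894 := rfl
theorem F35964 : act 2 n22894 = n22041 := d1_1 D22894 (iv4 D22041) (iv2 F35510)
theorem F35965 : act 7 n22894 = n22056 := d11_2 (iv7 F35511) D22894 (iv4 D22056)
def n22895 : Q := act 4 n10817
theorem D22895 : act 4 n10817 = n22895 := rfl
theorem F35966 : act 7 n22895 = n10830 := d11_2 (iv7 F17369) D22895 (iv4 D10830)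
def n22897 : Q := act 1 n10818
theorem D22897 : act 1 n10818 = n22897 := rfl
theorem F35968 : act 1 n22897 = n10823 := d15_1 D22897 (iv7 D10823) D10818
def n22898 : Q := act 3 n10818
theorem D22898 : act 3 n10818 = n22898 := rfl
theorem F35969 : act 7 n22898 = n10824 := d8_2 F17370 D22898 (iv3 D10824)
def n22899 : Q := act 4 n10818
theorem D22899 : act 4 n10818 = n22899 := rfl
theorem F35970 : act 2 n22899 = n10820 := d1_1 D22899 (iv4 D10820) D10818
theorem F35971 : act 7 n22899 = n10825 := d11_2 F17370 D22899 (iv4 D10825)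
def n22900 : Q := act 5 n10818
theorem D22900 : act 5 n10818 = n22900 := rfl
theorem F35972 : act 2 n22900 = n10821 := d2_1 D22900 (iv5 D10821) D10818
theorem F35973 : act 7 n22900 = n10826 := d13_2 F17370 D22900 (iv5 D10826)
def n22901 : Q := act 6 n10818
theorem D22901 : act 6 n10818 = n22901 := rfl
theorem F35974 : act 2 n22901 = n10822 := d3_1 D22901 (iv6 D10822) D10818
def n22902 : Q := act 0 n10819
theorem D22902 : act 0 n10819 = n22902 := rfl
def n22903 : Q := act 1 n10819
theorem D22903 : act 1 n10819 = n22903 := rfl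
def n22904 : Q := act 2 n10819
theorem D22904 : act 2 n10819 = n22904 := rfl
def n22905 : Q := act 5 n10819
theorem D22905 : act 5 n10819 = n22905 := rfl
theorem F35975 : act 3 n22905 = n10821 := d6_1 D22905 (iv5 D10821) D10819
def n22906 : Q := act 6 n10819
theorem D22906 : act 6 n10819 = n22906 := rfl
theorem F35976 : act 3 n22906 = n10822 := d7_1 D22906 (iv6 D10822) D10819
def n22907 : Q := act 7 n10819
theorem D22907 : act 7 n10819 = n22907 := rfl
theorem F35977 : act 3 n22907 = n10823 := d8_1 D22907 (iv7 D10823) D10819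
def n22908 : Q := act 0 n10820
theorem D22908 : act 0 n10820 = n22908 := rfl
def n22909 : Q := act 1 n10820
theorem D22909 : act 1 n10820 = n22909 := rfl
theorem F35978 : act 1 n22909 = n10825 := d15_1 D22909 (iv7 F35971) F35970
def n22910 : Q := act 3 n10820
theorem D22910 : act 3 n10820 = n22910 := rfl
def n22911 : Q := act 5 n10820
theorem D22911 : act 5 n10820 = n22911 := rfl
def n22912 : Q := act 6 n10820
theorem D22912 : act 6 n10820 = n22912 := rfl
theorem F35979 : act 4 n22912 = n10822 := d10_1 D22912 (iv6 D10822) D10820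
def n22913 : Q := act 7 n10820
theorem D22913 : act 7 n10820 = n22913 := rfl
theorem F35980 : act 2 n22913 = n10825 := d4_1 D22913 (iv7 F35971) F35970
theorem F35981 : act 4 n22913 = n10823 := d11_1 D22913 (iv7 D10823) D10820
theorem F35982 : act 1 n10825 = n22908 := d15_0 (iv0 D22908) D22913 F35980
def n22914 : Q := act 1 n10821
theorem D22914 : act 1 n10821 = n22914 := rfl
theorem F35983 : act 1 n22914 = n10826 := d15_1 D22914 (iv7 F35973) F35972
theorem F35984 : act 7 n22914 = n22059 := d15_2 (iv0 F34989) D22914 (iv2 F35549)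
theorem F35985 : act 5 n19679 = n22914 := d13_3 F35984 (iv5 D22059) (iv7 F35118)
def n22915 : Q := act 4 n10821
theorem D22915 : act 4 n10821 = n22915 := rfl
def n22916 : Q := act 6 n10821
theorem D22916 : act 6 n10821 = n22916 := rfl
def n22917 : Q := act 7 n10821
theorem D22917 : act 7 n10821 = n22917 := rfl
theorem F35986 : act 2 n22917 = n10826 := d4_1 D22917 (iv7 F35973) F35972
theorem F35987 : act 5 n22917 = n10823 := d13_1 D22917 (iv7 D10823) D10821
def n22918 : Q := act 5 n10822
theorem D22918 : act 5 n10822 = n22918 := rfl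
theorem F35988 : act 0 n22918 = n19472 := d21_1 D22918 (iv5 D19472) (iv6 D9145) (iv1 F6017) D4171 F7147 D9215 (iv5 F17336) (iv6 F35000) F35001
theorem F35989 : act 0 n19697 = n22918 := d21_1 D19697 (iv5 D22918) (iv6 D10822) (iv1 F16610) F16607 (iv5 F14344) (iv1 F14346) D9244 (iv6 F31128) F31129
def n22919 : Q := act 7 n10822
theorem D22919 : act 7 n10822 = n22919 := rfl
def n22920 : Q := act 6 n10823
theorem D22920 : act 6 n10823 = n22920 := rfl
theorem F35990 : act 2 n22920 = n10827 := d3_1 D22920 (iv6 D10827) (iv2 F17371)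
def n22921 : Q := act 0 n10824
theorem D22921 : act 0 n10824 = n22921 := rfl
def n22922 : Q := act 1 n10824
theorem D22922 : act 1 n10824 = n22922 := rfl
def n22923 : Q := act 2 n10824
theorem D22923 : act 2 n10824 = n22923 := rfl
def n22924 : Q := act 4 n10824
theorem D22924 : act 4 n10824 = n22924 := rfl
def n22925 : Q := act 5 n10824
theorem D22925 : act 5 n10824 = n22925 := rfl
theorem F35991 : act 3 n22925 = n10826 := d6_1 D22925 (iv5 D10826) D10824
def n22926 : Q := act 6 n10824
theorem D22926 : act 6 n10824 = n22926 := rfl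
theorem F35992 : act 3 n22926 = n10827 := d7_1 D22926 (iv6 D10827) D10824
def n22927 : Q := act 3 n10825
theorem D22927 : act 3 n10825 = n22927 := rfl
def n22928 : Q := act 5 n10825
theorem D22928 : act 5 n10825 = n22928 := rfl
def n22929 : Q := act 6 n10825
theorem D22929 : act 6 n10825 = n22929 := rfl
theorem F35993 : act 4 n22929 = n10827 := d10_1 D22929 (iv6 D10827) D10825
def n22930 : Q := act 4 n10826
theorem D22930 : act 4 n10826 = n22930 := rfl
def n22931 : Q := act 6 n10826
theorem D22931 : act 6 n10826 = n22931 := rfl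
theorem F35994 : act 0 n19502 = n22931 := d21_4 (iv5 D4131) D4129 D9174 D19502 (iv6 D22931) (iv5 D10826) (iv1 D4935) D4936 F7354 F6956
def n22932 : Q := act 5 n10827
theorem D22932 : act 5 n10827 = n22932 := rfl
theorem F35996 : act 0 n19563 = n22932 := d21_1 D19563 (iv5 D22932) (iv6 D10827) (iv1 D4935) (iv6 D2031) F1893 F6537 (iv5 F7120) D4166 D9205
def n22933 : Q := act 7 n10827
theorem D22933 : act 7 n10827 = n22933 := rfl
def n22934 : Q := act 2 n10828
theorem D22934 : act 2 n10828 = n22934 := rfl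
theorem F35997 : act 7 n10829 = n22934 := d15_2 (iv0 D10828) D10829 (iv2 D22934)
def n22935 : Q := act 3 n10828
theorem D22935 : act 3 n10828 = n22935 := rfl
def n22936 : Q := act 4 n10828
theorem D22936 : act 4 n10828 = n22936 := rfl
def n22937 : Q := act 6 n10828
theorem D22937 : act 6 n10828 = n22937 := rfl
def n22938 : Q := act 7 n10828
theorem D22938 : act 7 n10828 = n22938 := rfl
theorem F35998 : act 2 n22938 = n10829 := d4_1 D22938 F35997 (iv2 D22934)
def n22939 : Q := act 3 n10829
theorem D22939 : act 3 n10829 = n22939 := rfl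
def n22940 : Q := act 4 n10829
theorem D22940 : act 4 n10829 = n22940 := rfl
def n22941 : Q := act 6 n10829
theorem D22941 : act 6 n10829 = n22941 := rfl
def n22942 : Q := act 0 n10830
theorem D22942 : act 0 n10830 = n22942 := rfl
def n22943 : Q := act 1 n10830
theorem D22943 : act 1 n10830 = n22943 := rfl
def n22944 : Q := act 3 n10830
theorem D22944 : act 3 n10830 = n22944 := rfl
theorem F35999 : act 4 n22944 = n11082 := d5_2 D10830 D22944 (iv3 D11082) (iv4 D5063) (iv3 F7353)
theorem F36000 : act 6 n22944 = n10845 := d7_2 (iv6 F17372) D22944 (iv3 D10845)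
def n22945 : Q := act 5 n10830
theorem D22945 : act 5 n10830 = n22945 := rfl
def n22946 : Q := act 5 n10832
theorem D22946 : act 5 n10832 = n22946 := rfl
theorem F36001 : act 3 n22946 = n10833 := d6_1 D22946 (iv5 D10833) D10832
def n22947 : Q := act 4 n10833
theorem D22947 : act 4 n10833 = n22947 := rfl
theorem F36002 : act 2 n22947 = n19516 := d1_1 D22947 (iv4 D19516) (iv2 F17376)
theorem F36003 : act 1 n22947 = n20335 := d18_6 (iv1 D3891) F2866 D2032 D4938 D10833 D22947 (iv4 D20335) (iv0 F17608) (iv5 D8684)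
def n22948 : Q := act 6 n10833
theorem D22948 : act 6 n10833 = n22948 := rfl
theorem F36004 : act 2 n22948 = n19514 := d3_1 D22948 F31249 (iv2 F17376)
theorem F36005 : act 5 n22948 = n19497 := d12_1 D22948 (iv6 D19497) F14311 (iv6 F7357) D10833
def n22949 : Q := act 1 n10835
theorem D22949 : act 1 n10835 = n22949 := rfl
theorem F36006 : act 1 n22949 = n10838 := d15_1 D22949 F17631 (iv2 F17381)
theorem F36007 : act 7 n22949 = n19517 := d15_2 F31944 D22949 (iv2 F31941)
theorem F36008 : act 4 n22949 = n20621 := d18_7 (iv1 F16787) (iv4 F16801) (iv1 F14285) (iv4 D4938) D4939 D10835 D22949 F32727 F31937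
theorem F36009 : act 2 n19518 = n22949 := d1_3 F36008 (iv2 D20621) (iv4 F31252)
def n22950 : Q := act 3 n10835
theorem D22950 : act 3 n10835 = n22950 := rfl
def n22951 : Q := act 5 n10835
theorem D22951 : act 5 n10835 = n22951 := rfl
theorem F36010 : act 2 n22951 = n19520 := d2_1 D22951 (iv5 D19520) (iv2 F17381)
def n22952 : Q := act 6 n10836
theorem D22952 : act 6 n10836 = n22952 := rfl
theorem F36011 : act 3 n22952 = n10839 := d7_1 D22952 (iv6 D10839) (iv3 F17382)
def n22953 : Q := act 4 n10837
theorem D22953 : act 4 n10837 = n22953 := rfl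
theorem F36012 : act 7 n22953 = n19516 := d11_2 (iv7 F17630) D22953 (iv4 D19516)
theorem F36013 : act 0 n22953 = n20335 := d18_2 F31935 D22953 (iv4 D20335) (iv5 D9616) F6232 (iv0 F17449) (iv4 F14251) F17596 D20116
def n22954 : Q := act 6 n10837
theorem D22954 : act 6 n10837 = n22954 := rfl
def n22955 : Q := act 3 n10838
theorem D22955 : act 3 n10838 = n22955 := rfl
theorem F36014 : act 7 n22955 = n19519 := d8_2 (iv7 F17631) D22955 (iv3 D19519)
def n22956 : Q := act 5 n10838
theorem D22956 : act 5 n10838 = n22956 := rfl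
theorem F36015 : act 7 n22956 = n19520 := d13_2 (iv7 F17631) D22956 (iv5 D19520)
def n22957 : Q := act 6 n10838
theorem D22957 : act 6 n10838 = n22957 := rfl
theorem F36016 : act 4 n22957 = n10839 := d10_1 D22957 (iv6 D10839) D10838
def n22958 : Q := act 1 n10839
theorem D22958 : act 1 n10839 = n22958 := rfl
def n22959 : Q := act 6 n10840
theorem D22959 : act 6 n10840 = n22959 := rfl
theorem F36017 : act 3 n22959 = n10842 := d7_1 D22959 (iv6 D10842) D10840
theorem F36018 : act 5 n22959 = n22952 := d12_1 D22959 (iv6 D22952) (iv5 D10836) (iv6 F17573) (iv5 F17632)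
def n22960 : Q := act 3 n10841
theorem D22960 : act 3 n10841 = n22960 := rfl
def n22961 : Q := act 5 n10841
theorem D22961 : act 5 n10841 = n22961 := rfl
def n22962 : Q := act 6 n10841
theorem D22962 : act 6 n10841 = n22962 := rfl
theorem F36019 : act 4 n22962 = n10842 := d10_1 D22962 (iv6 D10842) D10841
def n22963 : Q := act 0 n10842
theorem D22963 : act 0 n10842 = n22963 := rfl
def n22965 : Q := act 7 n10842
theorem D22965 : act 7 n10842 = n22965 := rfl
theorem F36021 : act 2 n22965 = n22475 := d4_1 D22965 F35022 F31238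
theorem F36022 : act 5 n22965 = n22589 := d13_1 D22965 F35128 (iv5 F17635)
theorem F36024 : act 1 n22475 = n22963 := d15_0 (iv0 D22963) D22965 F36021
def n22966 : Q := act 3 n10843
theorem D22966 : act 3 n10843 = n22966 := rfl
def n22967 : Q := act 5 n10843
theorem D22967 : act 5 n10843 = n22967 := rfl
theorem F36025 : act 1 n22967 = n20367 := d17_6 F27459 (iv5 D9492) (iv1 F17516) D16721 F27434 D22967 (iv5 D20367) D20365 (iv4 F32330)
def n22968 : Q := act 6 n10843
theorem D22968 : act 6 n10843 = n22968 := rfl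
theorem F36026 : act 4 n22968 = n22610 := d10_1 D22968 F35147 F27434
def n22969 : Q := act 3 n10844
theorem D22969 : act 3 n10844 = n22969 := rfl
def n22970 : Q := act 5 n10844
theorem D22970 : act 5 n10844 = n22970 := rfl
theorem F36027 : act 0 n22970 = n20367 := d17_2 (iv1 F31142) D22970 (iv5 D20367) (iv4 D9652) (iv5 D4343) D4341 (iv5 F17502) (iv0 F14246) D19474
def n22971 : Q := act 6 n10844
theorem D22971 : act 6 n10844 = n22971 := rfl
def n22972 : Q := act 0 n10845
theorem D22972 : act 0 n10845 = n22972 := rfl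
def n22973 : Q := act 1 n10845
theorem D22973 : act 1 n10845 = n22973 := rfl
def n22974 : Q := act 2 n10845
theorem D22974 : act 2 n10845 = n22974 := rfl
theorem F36028 : act 4 n22974 = n11098 := d1_2 (iv4 F17636) D22974 (iv2 D11098)
def n22975 : Q := act 5 n10845
theorem D22975 : act 5 n10845 = n22975 := rfl
theorem F36029 : act 3 n22975 = n10846 := d6_1 D22975 (iv5 D10846) D10845
def n22976 : Q := act 0 n10846
theorem D22976 : act 0 n10846 = n22976 := rfl
theorem F36030 : act 5 n22976 = n20342 := d17_3 (iv1 D10844) D10846 D22976 F32283 (iv5 D18463) (iv0 F14568) (iv5 F16790) F31647 F31646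
def n22977 : Q := act 1 n10846
theorem D22977 : act 1 n10846 = n22977 := rfl
theorem F36031 : act 5 n22977 = n20343 := d17_7 F17507 (iv5 D4942) (iv1 D2033) D2034 D4945 D10846 D22977 (iv0 F32319) (iv4 D20362)
def n22978 : Q := act 4 n10846
theorem D22978 : act 4 n10846 = n22978 := rfl
def n22979 : Q := act 6 n10846
theorem D22979 : act 6 n10846 = n22979 := rfl
def n22980 : Q := act 0 n10847
theorem D22980 : act 0 n10847 = n22980 := rfl
theorem F36032 : act 1 n10847 = n22980 := d15_0 (iv0 D22980) (iv7 F17703) F17701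
def n22981 : Q := act 6 n10847
theorem D22981 : act 6 n10847 = n22981 := rfl
theorem F36033 : act 3 n22981 = n10849 := d7_1 D22981 (iv6 D10849) D10847
theorem F36034 : act 4 n22981 = n22981 := d10_1 D22981 (iv6 D22981) F17637
def n22982 : Q := act 6 n10848
theorem D22982 : act 6 n10848 = n22982 := rfl
theorem F36035 : act 2 n22982 = n10859 := d3_1 D22982 (iv6 D10859) (iv2 F17638)
def n22983 : Q := act 1 n10849
theorem D22983 : act 1 n10849 = n22983 := rfl
theorem F36036 : act 1 n22983 = n10863 := d15_1 D22983 (iv7 D10863) (iv2 F17641)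
theorem F36037 : act 7 n22983 = n10860 := d15_2 (iv0 F31879) D22983 (iv2 F35764)
theorem F36038 : act 2 n10861 = n22983 := d4_3 F36037 (iv2 F35764) F35763
def n22984 : Q := act 5 n10849
theorem D22984 : act 5 n10849 = n22984 := rfl
theorem F36039 : act 2 n22984 = n10862 := d2_1 D22984 (iv5 D10862) (iv2 F17641)
def n22985 : Q := act 7 n10849
theorem D22985 : act 7 n10849 = n22985 := rfl
theorem F36040 : act 2 n22985 = n10863 := d4_1 D22985 (iv7 D10863) (iv2 F17641)
theorem F36041 : act 4 n22985 = n10853 := d11_1 D22985 (iv7 D10853) (iv4 F17642)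
theorem F36042 : act 1 n10861 = n22985 := d15_1 D10861 (iv7 D22985) F17641
theorem F36043 : act 1 n22985 = n10860 := d15_1 F36042 (iv7 F36037) (iv2 F36038)
def n22986 : Q := act 2 n10850
theorem D22986 : act 2 n10850 = n22986 := rfl
theorem F36044 : act 6 n22986 = n21361 := d3_2 (iv6 F17643) D22986 F33556
theorem F36045 : act 7 n10851 = n22986 := d15_2 (iv0 D10850) D10851 (iv2 D22986)
def n22987 : Q := act 3 n10850
theorem D22987 : act 3 n10850 = n22987 := rfl
theorem F36046 : act 6 n22987 = n21371 := d7_2 (iv6 F17643) D22987 F33566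
def n22988 : Q := act 4 n10850
theorem D22988 : act 4 n10850 = n22988 := rfl
theorem F36047 : act 6 n22988 = n21376 := d10_2 (iv6 F17643) D22988 (iv4 D21376)
def n22989 : Q := act 5 n10850
theorem D22989 : act 5 n10850 = n22989 := rfl
theorem F36048 : act 6 n22989 = n21379 := d12_2 (iv6 F17643) D22989 (iv5 D21379) (iv6 D10190) D10189
theorem F36049 : act 0 n21379 = n21191 := d21_10 (iv5 D21191) (iv1 D10095) D10096 F15952 F13939 (iv6 F17647) (iv5 D10852) D10850 D22989 F36048
theorem F36050 : act 0 n21192 = n21742 := d21_10 (iv5 D21742) F33881 F33877 F16286 (iv1 F15993) D10190 D21379 F36049 (iv5 D21191) D21192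
def n22990 : Q := act 7 n10850
theorem D22990 : act 7 n10850 = n22990 := rfl
def n22991 : Q := act 4 n10851
theorem D22991 : act 4 n10851 = n22991 := rfl
def n22992 : Q := act 5 n10851
theorem D22992 : act 5 n10851 = n22992 := rfl
def n22993 : Q := act 6 n10851
theorem D22993 : act 6 n10851 = n22993 := rfl
theorem F36052 : act 7 n22993 = n21360 := d14_2 (iv7 F36045) D22993 (iv6 D21360) D21361 (iv6 F36044)
def n22994 : Q := act 0 n10852
theorem D22994 : act 0 n10852 = n22994 := rfl
theorem F36053 : act 6 n22994 = n10926 := d21_5 F16900 (iv1 D8963) D8964 (iv6 F17647) D22994 (iv5 D10926) (iv1 D4976) D4977 F7403 D8994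
def n22995 : Q := act 4 n10852
theorem D22995 : act 4 n10852 = n22995 := rfl
theorem F36054 : act 2 n22995 = n10876 := d1_1 D22995 (iv4 D10876) (iv2 F17645)
theorem F36055 : act 6 n22995 = n19117 := d10_2 (iv6 F17647) D22995 (iv4 D19117)
def n22996 : Q := act 7 n10852
theorem D22996 : act 7 n10852 = n22996 := rfl
theorem F36056 : act 2 n22996 = n10877 := d4_1 D22996 (iv7 D10877) (iv2 F17645)
theorem F36058 : act 5 n22996 = n10853 := d13_1 D22996 (iv7 D10853) D10852
theorem F36059 : act 1 n10877 = n22994 := d15_0 (iv0 D22994) D22996 F36056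
theorem F36060 : act 1 n10875 = n22996 := d15_1 D10875 (iv7 D22996) F17645
theorem F36061 : act 1 n22996 = n10874 := d15_0 (iv0 D10874) D10877 (iv2 F36056)
def n22997 : Q := act 0 n10854
theorem D22997 : act 0 n10854 = n22997 := rfl
def n22998 : Q := act 1 n10854
theorem D22998 : act 1 n10854 = n22998 := rfl
theorem F36062 : act 4 n22300 = n22998 := d20_6 (iv4 D4856) (iv1 D2009) D2010 D4861 D10623 D22300 (iv1 D22998) (iv4 F34682) (iv3 D22233) (iv1 F17110)
def n22999 : Q := act 2 n10854
theorem D22999 : act 2 n10854 = n22999 := rfl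
theorem F36063 : act 4 n22999 = n19306 := d1_2 F34682 D22999 (iv2 F34685)
def n23000 : Q := act 6 n10854
theorem D23000 : act 6 n10854 = n23000 := rfl
theorem F36064 : act 3 n23000 = n10855 := d7_1 D23000 (iv6 D10855) D10854
def n23001 : Q := act 0 n10855
theorem D23001 : act 0 n10855 = n23001 := rfl
def n23002 : Q := act 1 n10855
theorem D23002 : act 1 n10855 = n23002 := rfl
def n23003 : Q := act 5 n10855
theorem D23003 : act 5 n10855 = n23003 := rfl
def n23004 : Q := act 7 n10855
theorem D23004 : act 7 n10855 = n23004 := rfl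
theorem F36065 : act 6 n23004 = n11032 := d14_1 D23004 F35643 (iv6 D10909) (iv7 F7397) D10855
def n23005 : Q := act 0 n10856
theorem D23005 : act 0 n10856 = n23005 := rfl
theorem F36066 : act 4 n23005 = n16946 := d18_3 (iv1 D20479) (iv4 F17653) D23005 (iv5 D16946) (iv4 F12595) F12593 D17027 F27899 (iv5 F32550)
def n23006 : Q := act 1 n10856
theorem D23006 : act 1 n10856 = n23006 := rfl
theorem F36067 : act 4 n16943 = n23006 := d20_0 (iv1 D23006) F17653 (iv3 D9723) D9721 D20474 F32532 D22235 F34690 F32606 (iv1 F31840)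
def n23007 : Q := act 2 n10856
theorem D23007 : act 2 n10856 = n23007 := rfl
theorem F36068 : act 4 n23007 = n20480 := d1_2 (iv4 F17653) D23007 (iv2 D20480)
def n23008 : Q := act 6 n10856
theorem D23008 : act 6 n10856 = n23008 := rfl
theorem F36069 : act 3 n23008 = n10857 := d7_1 D23008 (iv6 D10857) D10856
theorem F36070 : act 4 n23008 = n20481 := d10_1 D23008 (iv6 D20481) (iv4 F17653)
def n23009 : Q := act 5 n10857
theorem D23009 : act 5 n10857 = n23009 := rfl
def n23010 : Q := act 3 n10858
theorem D23010 : act 3 n10858 = n23010 := rfl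
def n23011 : Q := act 6 n10858
theorem D23011 : act 6 n10858 = n23011 := rfl
theorem F36071 : act 4 n23011 = n10859 := d10_1 D23011 (iv6 D10859) D10858
def n23012 : Q := act 0 n10859
theorem D23012 : act 0 n10859 = n23012 := rfl
def n23013 : Q := act 1 n10859
theorem D23013 : act 1 n10859 = n23013 := rfl
def n23014 : Q := act 5 n10859
theorem D23014 : act 5 n10859 = n23014 := rfl
theorem F36072 : act 6 n23014 = n10862 := d12_2 D10859 D23014 (iv5 D10862) (iv6 D4951) D4950
def n23015 : Q := act 7 n10859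
theorem D23015 : act 7 n10859 = n23015 := rfl
def n23016 : Q := act 3 n10860
theorem D23016 : act 3 n10860 = n23016 := rfl
def n23017 : Q := act 5 n10860
theorem D23017 : act 5 n10860 = n23017 := rfl
def n23018 : Q := act 6 n10860
theorem D23018 : act 6 n10860 = n23018 := rfl
def n23019 : Q := act 3 n10861
theorem D23019 : act 3 n10861 = n23019 := rfl
def n23020 : Q := act 5 n10861
theorem D23020 : act 5 n10861 = n23020 := rfl
def n23021 : Q := act 6 n10861
theorem D23021 : act 6 n10861 = n23021 := rfl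
def n23022 : Q := act 0 n10862
theorem D23022 : act 0 n10862 = n23022 := rfl
def n23023 : Q := act 1 n10862
theorem D23023 : act 1 n10862 = n23023 := rfl
def n23024 : Q := act 4 n10862
theorem D23024 : act 4 n10862 = n23024 := rfl
def n23025 : Q := act 7 n10862
theorem D23025 : act 7 n10862 = n23025 := rfl
theorem F36073 : act 5 n23025 = n10863 := d13_1 D23025 (iv7 D10863) D10862
def n23028 : Q := act 3 n10864
theorem D23028 : act 3 n10864 = n23028 := rfl
theorem F36076 : act 7 n23028 = n10870 := d8_2 F17656 D23028 (iv3 D10870)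
def n23029 : Q := act 4 n10864
theorem D23029 : act 4 n10864 = n23029 := rfl
theorem F36077 : act 2 n23029 = n10866 := d1_1 D23029 (iv4 D10866) D10864
theorem F36078 : act 7 n23029 = n10871 := d11_2 F17656 D23029 (iv4 D10871)
def n23030 : Q := act 5 n10864
theorem D23030 : act 5 n10864 = n23030 := rfl
theorem F36079 : act 2 n23030 = n10867 := d2_1 D23030 (iv5 D10867) D10864
theorem F36080 : act 7 n23030 = n10872 := d13_2 F17656 D23030 (iv5 D10872)
def n23031 : Q := act 6 n10864
theorem D23031 : act 6 n10864 = n23031 := rfl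
theorem F36081 : act 2 n23031 = n10868 := d3_1 D23031 (iv6 D10868) D10864
theorem F36082 : act 5 n21242 = n23031 := d2_0 F36081 F17657 (iv2 F33469)
theorem F36083 : act 7 n23031 = n21240 := d13_2 D21242 F36082 (iv5 D21240)
def n23032 : Q := act 0 n10865
theorem D23032 : act 0 n10865 = n23032 := rfl
def n23033 : Q := act 1 n10865
theorem D23033 : act 1 n10865 = n23033 := rfl
def n23034 : Q := act 2 n10865
theorem D23034 : act 2 n10865 = n23034 := rfl
def n23035 : Q := act 5 n10865
theorem D23035 : act 5 n10865 = n23035 := rfl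
theorem F36084 : act 3 n23035 = n10867 := d6_1 D23035 (iv5 D10867) D10865
def n23036 : Q := act 6 n10865
theorem D23036 : act 6 n10865 = n23036 := rfl
theorem F36085 : act 3 n23036 = n10868 := d7_1 D23036 (iv6 D10868) D10865
theorem F36086 : act 5 n20799 = n23036 := d6_0 F36085 F17657 F32960
def n23037 : Q := act 7 n10865
theorem D23037 : act 7 n10865 = n23037 := rfl
theorem F36087 : act 3 n23037 = n10869 := d8_1 D23037 (iv7 D10869) D10865
def n23038 : Q := act 0 n10866
theorem D23038 : act 0 n10866 = n23038 := rfl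
theorem F36088 : act 4 n23038 = n20192 := d20_2 D10866 D23038 (iv3 D20192) (iv1 D9535) (iv3 D4307) F14800 (iv1 D2050) F1900 (iv3 F3326) D4952
def n23039 : Q := act 1 n10866
theorem D23039 : act 1 n10866 = n23039 := rfl
theorem F36089 : act 1 n23039 = n10871 := d15_1 D23039 (iv7 F36078) F36077
def n23040 : Q := act 3 n10866
theorem D23040 : act 3 n10866 = n23040 := rfl
def n23041 : Q := act 5 n10866
theorem D23041 : act 5 n10866 = n23041 := rfl
def n23042 : Q := act 6 n10866
theorem D23042 : act 6 n10866 = n23042 := rfl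
theorem F36090 : act 4 n23042 = n10868 := d10_1 D23042 (iv6 D10868) D10866
def n23043 : Q := act 7 n10866
theorem D23043 : act 7 n10866 = n23043 := rfl
theorem F36091 : act 2 n23043 = n10871 := d4_1 D23043 (iv7 F36078) F36077
theorem F36092 : act 4 n23043 = n10869 := d11_1 D23043 (iv7 D10869) D10866
theorem F36093 : act 1 n10871 = n23038 := d15_0 (iv0 D23038) D23043 F36091
def n23044 : Q := act 0 n10867
theorem D23044 : act 0 n10867 = n23044 := rfl
theorem F36094 : act 5 n23044 = n21655 := d21_2 D10867 D23044 (iv6 D21655) (iv1 D10337) (iv6 D4687) F7300 (iv1 D1732) (iv5 F1895) D2039 D4952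
theorem F36095 : act 6 n21624 = n23044 := d12_0 F36094 (iv6 D21655) (iv5 F34037) (iv6 D21625) D21624
theorem F36096 : act 0 n23044 = n10872 := d21_10 (iv5 D10872) (iv1 D4953) D4954 F7374 (iv1 F16776) (iv6 F16433) (iv5 D10330) D10328 D21624 F36095
def n23045 : Q := act 1 n10867
theorem D23045 : act 1 n10867 = n23045 := rfl
theorem F36097 : act 1 n23045 = n10872 := d15_1 D23045 (iv7 F36080) F36079
def n23046 : Q := act 4 n10867
theorem D23046 : act 4 n10867 = n23046 := rfl
def n23047 : Q := act 6 n10867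
theorem D23047 : act 6 n10867 = n23047 := rfl
theorem F36098 : act 5 n23047 = n21244 := d12_1 D23047 (iv6 D21244) (iv5 F17657) (iv6 D10868) D10867
theorem F36099 : act 0 n23047 = n21498 := d21_10 (iv5 D21498) (iv1 D10258) D10259 F16226 F7299 (iv6 F7374) (iv5 D4954) D4952 D10867 D23047
theorem F36100 : act 0 n21651 = n21244 := d21_1 (iv5 F34075) (iv5 F36098) (iv6 D23047) D23044 (iv6 F36095) (iv5 D21624) (iv1 F16436) (iv5 F33508) (iv6 F33801) (iv1 F33803)
theorem F36101 : act 0 n10868 = n21229 := d21_7 (iv5 D21737) F34170 (iv5 D21650) D21651 F36100 (iv6 D21244) (iv5 F17657) (iv5 F33553) (iv6 F33723) F34181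
theorem F36102 : act 5 n21722 = n23045 := d21_6 (iv5 F33553) (iv1 F33558) (iv5 D10189) D10190 D21377 F34171 (iv1 D23045) (iv5 D10867) D10868 F36101
theorem F36103 : act 0 n21493 = n23047 := d21_1 D21493 F36098 (iv6 D21244) (iv1 D10148) (iv6 D4609) (iv5 D1917) (iv1 F1868) D1932 D4655 D10257
def n23048 : Q := act 7 n10867
theorem D23048 : act 7 n10867 = n23048 := rfl
theorem F36104 : act 2 n23048 = n10872 := d4_1 D23048 (iv7 F36080) F36079
theorem F36105 : act 5 n23048 = n10869 := d13_1 D23048 (iv7 D10869) D10867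
def n23049 : Q := act 1 n10868
theorem D23049 : act 1 n10868 = n23049 := rfl
theorem F36106 : act 1 n23049 = n21240 := d15_1 D23049 (iv7 F36083) F36081
theorem F36107 : act 6 n21223 = n23049 := d21_3 (iv5 F16815) D10126 D21223 (iv1 D23049) (iv6 D10868) D10867 D23044 F36094 (iv6 D21655) (iv1 D10337)
def n23050 : Q := act 7 n10868
theorem D23050 : act 7 n10868 = n23050 := rfl
theorem F36109 : act 2 n23050 = n21240 := d4_1 D23050 (iv7 F36083) F36081
theorem F36110 : act 5 n23050 = n21237 := d13_1 D23050 (iv7 F33467) (iv5 F17657)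
theorem F36111 : act 1 n21240 = n21229 := d15_0 (iv0 F36101) D23050 F36109
def n23051 : Q := act 6 n10869
theorem D23051 : act 6 n10869 = n23051 := rfl
theorem F36112 : act 2 n23051 = n10873 := d3_1 D23051 (iv6 D10873) (iv2 F17658)
def n23052 : Q := act 0 n10870
theorem D23052 : act 0 n10870 = n23052 := rfl
theorem F36113 : act 4 n23052 = n20199 := d20_0 (iv1 F32036) (iv4 D20165) F14900 (iv1 F14899) D20192 (iv4 F36088) (iv1 F36093) (iv4 D10871) D10870 D23052
theorem F36114 : act 3 n23052 = n23033 := d20_3 D9537 D20199 (iv4 F36113) (iv1 D23033) (iv3 D10865) D10866 D23038 F36088 (iv3 D20192) (iv1 D9535)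
def n23053 : Q := act 1 n10870
theorem D23053 : act 1 n10870 = n23053 := rfl
def n23054 : Q := act 2 n10870
theorem D23054 : act 2 n10870 = n23054 := rfl
def n23055 : Q := act 4 n10870
theorem D23055 : act 4 n10870 = n23055 := rfl
theorem F36115 : act 0 n20157 = n23055 := d20_1 D20157 (iv4 D23055) (iv3 D10870) (iv1 D4953) F3326 (iv4 F1900) D2049 (iv4 F14798) D4302 D9514
def n23056 : Q := act 5 n10870
theorem D23056 : act 5 n10870 = n23056 := rfl
theorem F36116 : act 3 n23056 = n10872 := d6_1 D23056 (iv5 D10872) D10870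
def n23057 : Q := act 6 n10870
theorem D23057 : act 6 n10870 = n23057 := rfl
theorem F36117 : act 3 n23057 = n10873 := d7_1 D23057 (iv6 D10873) D10870
def n23058 : Q := act 3 n10871
theorem D23058 : act 3 n10871 = n23058 := rfl
def n23059 : Q := act 5 n10871
theorem D23059 : act 5 n10871 = n23059 := rfl
def n23060 : Q := act 6 n10871
theorem D23060 : act 6 n10871 = n23060 := rfl
theorem F36118 : act 4 n23060 = n10873 := d10_1 D23060 (iv6 D10873) D10871
def n23061 : Q := act 4 n10872
theorem D23061 : act 4 n10872 = n23061 := rfl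
def n23062 : Q := act 6 n10872
theorem D23062 : act 6 n10872 = n23062 := rfl
theorem F36119 : act 0 n21506 = n23062 := d21_4 (iv5 D8956) (iv1 F16771) D10269 D21506 (iv6 D23062) (iv5 D10872) (iv1 D4953) D4954 F7374 (iv1 F16776)
def n23063 : Q := act 0 n10873
theorem D23063 : act 0 n10873 = n23063 := rfl
theorem F36120 : act 5 n23063 = n21292 := d21_0 (iv1 F34048) F34044 F16435 (iv1 F16445) D21655 (iv5 F36094) F36096 (iv5 D10872) D10873 D23063
def n23064 : Q := act 1 n10873
theorem D23064 : act 1 n10873 = n23064 := rfl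
def n23065 : Q := act 5 n10873
theorem D23065 : act 5 n10873 = n23065 := rfl
theorem F36121 : act 0 n21624 = n23065 := d21_1 D21624 (iv5 D23065) (iv6 D10873) (iv1 D4953) (iv6 D2039) F1895 D1731 (iv5 F7292) D4682 D10328
def n23066 : Q := act 7 n10873
theorem D23066 : act 7 n10873 = n23066 := rfl
theorem F36122 : act 6 n23066 = n21240 := d14_1 D23066 (iv7 F36083) (iv6 D23031) (iv7 F17656) D10873
theorem F36123 : act 0 n23066 = n21494 := d21_4 F6677 D10147 D21240 (iv6 F36122) (iv6 D21494) D21493 F36103 F36098 (iv6 D21244) (iv1 D10148)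
theorem F36124 : act 1 n23051 = n21494 := d15_0 (iv0 F36123) (iv7 D23066) (iv2 F36112)
def n23067 : Q := act 2 n10874
theorem D23067 : act 2 n10874 = n23067 := rfl
theorem F36125 : act 7 n10875 = n23067 := d15_2 (iv0 D10874) D10875 (iv2 D23067)
def n23068 : Q := act 3 n10874
theorem D23068 : act 3 n10874 = n23068 := rfl
def n23069 : Q := act 4 n10874
theorem D23069 : act 4 n10874 = n23069 := rfl
def n23070 : Q := act 5 n10874
theorem D23070 : act 5 n10874 = n23070 := rfl
def n23071 : Q := act 6 n10874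
theorem D23071 : act 6 n10874 = n23071 := rfl
theorem F36126 : act 5 n23071 = n10905 := d21_6 (iv5 D8974) (iv1 D4002) D4003 (iv6 F7374) D10874 D23071 (iv1 D10905) D10906 F17714 F16813
def n23072 : Q := act 7 n10874
theorem D23072 : act 7 n10874 = n23072 := rfl
theorem F36127 : act 2 n23072 = n10875 := d4_1 D23072 F36125 (iv2 D23067)
def n23073 : Q := act 3 n10875
theorem D23073 : act 3 n10875 = n23073 := rfl
def n23074 : Q := act 4 n10875
theorem D23074 : act 4 n10875 = n23074 := rfl
def n23076 : Q := act 0 n10876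
theorem D23076 : act 0 n10876 = n23076 := rfl
def n23077 : Q := act 1 n10876
theorem D23077 : act 1 n10876 = n23077 := rfl
def n23078 : Q := act 3 n10876
theorem D23078 : act 3 n10876 = n23078 := rfl
theorem F36129 : act 6 n23078 = n19129 := d7_2 (iv6 F17659) D23078 (iv3 D19129)
def n23079 : Q := act 5 n10876
theorem D23079 : act 5 n10876 = n23079 := rfl
def n23080 : Q := act 7 n10876
theorem D23080 : act 7 n10876 = n23080 := rfl
theorem F36130 : act 4 n23080 = n10877 := d11_1 D23080 (iv7 D10877) D10876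
def n23081 : Q := act 6 n10877
theorem D23081 : act 6 n10877 = n23081 := rfl
theorem F36131 : act 3 n23081 = n10900 := d7_1 D23081 (iv6 D10900) (iv3 F17660)
theorem F36132 : act 7 n23081 = n11091 := d14_2 D10877 D23081 (iv6 D11091) F7522 (iv6 F7374)
def n23083 : Q := act 3 n10878
theorem D23083 : act 3 n10878 = n23083 := rfl
theorem F36134 : act 4 n23083 = n20200 := d20_6 (iv4 F1823) D1856 F14807 D4957 D10878 D23083 (iv1 D20200) (iv4 D9537) (iv3 D4307) (iv1 D1822)
def n23084 : Q := act 4 n10878
theorem D23084 : act 4 n10878 = n23084 := rfl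
theorem F36135 : act 0 n23084 = n20074 := d20_1 D23084 (iv4 D20074) (iv3 D9454) (iv1 D4284) F3076 (iv4 F1823) D1856 F14807 D4957 D10878
def n23086 : Q := act 6 n10878
theorem D23086 : act 6 n10878 = n23086 := rfl
def n23088 : Q := act 3 n10879
theorem D23088 : act 3 n10879 = n23088 := rfl
def n23092 : Q := act 4 n10880
theorem D23092 : act 4 n10880 = n23092 := rfl
theorem F36137 : act 2 n23092 = n10881 := d1_1 D23092 (iv4 D10881) D10880
def n23093 : Q := act 5 n10880
theorem D23093 : act 5 n10880 = n23093 := rfl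
theorem F36138 : act 2 n23093 = n10882 := d2_1 D23093 (iv5 D10882) D10880
def n23094 : Q := act 0 n10881
theorem D23094 : act 0 n10881 = n23094 := rfl
def n23095 : Q := act 1 n10881
theorem D23095 : act 1 n10881 = n23095 := rfl
theorem F36140 : act 4 n20187 = n23095 := d20_6 (iv4 F3345) (iv1 F3348) (iv4 F14800) D4307 D9534 D20187 (iv1 D23095) (iv4 D10881) (iv3 D4957) (iv1 F3330)
def n23096 : Q := act 5 n10881
theorem D23096 : act 5 n10881 = n23096 := rfl
theorem F36141 : act 3 n23096 = n20660 := d6_1 D23096 (iv5 D20660) (iv3 F17663)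
def n23097 : Q := act 0 n10882
theorem D23097 : act 0 n10882 = n23097 := rfl
def n23098 : Q := act 1 n10882
theorem D23098 : act 1 n10882 = n23098 := rfl
def n23099 : Q := act 4 n10882
theorem D23099 : act 4 n10882 = n23099 := rfl
def n23100 : Q := act 3 n10883
theorem D23100 : act 3 n10883 = n23100 := rfl
theorem F36142 : act 5 n23100 = n19814 := d6_2 (iv5 F17667) D23100 F31587
theorem F36143 : act 6 n23100 = n20380 := d7_2 (iv6 F17669) D23100 (iv3 D20380)
theorem F36144 : act 7 n23100 = n19813 := d8_2 (iv7 F17666) D23100 F31585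
def n23103 : Q := act 3 n10885
theorem D23103 : act 3 n10885 = n23103 := rfl
theorem F36146 : act 4 n23103 = n20169 := d20_6 (iv4 F3148) (iv1 F3151) F14810 D4961 D10885 D23103 (iv1 D20169) (iv4 D9517) (iv3 D4302) (iv1 F3083)
def n23104 : Q := act 4 n10885
theorem D23104 : act 4 n10885 = n23104 := rfl
def n23108 : Q := act 3 n10886
theorem D23108 : act 3 n10886 = n23108 := rfl
theorem F36148 : act 4 n20056 = n23108 := d20_2 D9450 D20056 (iv3 D23108) (iv1 D10886) (iv3 D4961) (iv4 F14810) (iv1 D1857) F1823 (iv3 F3076) D4283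
def n23111 : Q := act 6 n10886
theorem D23111 : act 6 n10886 = n23111 := rfl
def n23112 : Q := act 4 n10887
theorem D23112 : act 4 n10887 = n23112 := rfl
theorem F36149 : act 2 n23112 = n10888 := d1_1 D23112 (iv4 D10888) D10887
theorem F36150 : act 7 n23112 = n23092 := d11_2 (iv7 F17673) D23112 (iv4 D23092)
theorem F36152 : act 1 n23112 = n23094 := d15_0 (iv0 D23094) (iv7 F17678) (iv2 F36149)
def n23113 : Q := act 5 n10887
theorem D23113 : act 5 n10887 = n23113 := rfl
theorem F36153 : act 2 n23113 = n10889 := d2_1 D23113 (iv5 D10889) D10887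
theorem F36154 : act 3 n23113 = n23113 := d6_1 D23113 (iv5 D23113) F17672
theorem F36155 : act 7 n23113 = n23093 := d13_2 (iv7 F17673) D23113 (iv5 D23093)
theorem F36156 : act 1 n23098 = n23113 := d15_1 D23098 F36155 F36138
theorem F36157 : act 1 n23113 = n23097 := d15_0 (iv0 D23097) (iv7 F17680) (iv2 F36153)
def n23115 : Q := act 0 n10888
theorem D23115 : act 0 n10888 = n23115 := rfl
theorem F36160 : act 1 n23092 = n23115 := d15_0 (iv0 D23115) F17678 (iv2 F36137)
theorem F36161 : act 4 n20071 = n23115 := d20_0 (iv1 F36160) (iv4 D23092) F17662 (iv1 F17675) D23108 (iv4 F36148) (iv1 F31887) (iv4 D9455) D9454 D20071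
theorem F36162 : act 3 n20071 = n20050 := d20_3 D10888 D23115 (iv4 F36161) (iv1 D20050) (iv3 D9449) D9450 D20056 F36148 (iv3 D23108) (iv1 D10886)
def n23116 : Q := act 1 n10888
theorem D23116 : act 1 n10888 = n23116 := rfl
theorem F36164 : act 4 n20156 = n23116 := d20_6 (iv4 F1900) D2049 (iv4 F14798) D4302 D9514 D20156 (iv1 D23116) (iv4 D10888) (iv3 D4961) (iv1 D2041)
def n23117 : Q := act 5 n10888
theorem D23117 : act 5 n10888 = n23117 := rfl
theorem F36165 : act 3 n23117 = n20694 := d6_1 D23117 (iv5 D20694) (iv3 F17677)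
theorem F36166 : act 7 n23117 = n23096 := d13_2 (iv7 F17678) D23117 (iv5 D23096)
def n23118 : Q := act 6 n10888
theorem D23118 : act 6 n10888 = n23118 := rfl
theorem F36167 : act 3 n23118 = n20695 := d7_1 D23118 (iv6 D20695) (iv3 F17677)
def n23121 : Q := act 4 n10889
theorem D23121 : act 4 n10889 = n23121 := rfl
theorem F36171 : act 7 n23121 = n23099 := d11_2 (iv7 F17680) D23121 (iv4 D23099)
def n23122 : Q := act 6 n10889
theorem D23122 : act 6 n10889 = n23122 := rfl
theorem F36172 : act 3 n23122 = n10892 := d7_1 D23122 (iv6 D10892) (iv3 F17679)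
def n23125 : Q := act 5 n10890
theorem D23125 : act 5 n10890 = n23125 := rfl
def n23127 : Q := act 5 n10892
theorem D23127 : act 5 n10892 = n23127 := rfl
theorem F36176 : act 6 n23127 = n10893 := d12_2 D10892 D23127 (iv5 D10893) (iv6 D4964) D4963
theorem F36177 : act 7 n23127 = n10951 := d13_2 F17971 D23127 F17972
def n23129 : Q := act 0 n10894
theorem D23129 : act 0 n10894 = n23129 := rfl
def n23130 : Q := act 1 n10894
theorem D23130 : act 1 n10894 = n23130 := rfl
def n23131 : Q := act 2 n10894
theorem D23131 : act 2 n10894 = n23131 := rfl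
def n23132 : Q := act 4 n10894
theorem D23132 : act 4 n10894 = n23132 := rfl
def n23135 : Q := act 2 n10895
theorem D23135 : act 2 n10895 = n23135 := rfl
theorem F36188 : act 5 n23135 = n21794 := d2_2 (iv5 F17689) D23135 F34246
theorem F36189 : act 7 n23135 = n23131 := d4_2 (iv7 F17690) D23135 (iv2 D23131)
theorem F36190 : act 1 n23135 = n23129 := d15_0 (iv0 D23129) (iv7 F17690) D23135
theorem F36192 : act 1 n23130 = n23135 := d15_1 D23130 F36189 (iv2 D23131)
def n23136 : Q := act 4 n10895
theorem D23136 : act 4 n10895 = n23136 := rfl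
theorem F36193 : act 7 n23136 = n23132 := d11_2 (iv7 F17690) D23136 (iv4 D23132)
def n23137 : Q := act 6 n10895
theorem D23137 : act 6 n10895 = n23137 := rfl
theorem F36195 : act 5 n23137 = n21802 := d12_1 D23137 (iv6 D21802) (iv5 D10406) D10407 (iv5 F17689)
def n23143 : Q := act 4 n10898
theorem D23143 : act 4 n10898 = n23143 := rfl
theorem F36201 : act 5 n23143 = n10956 := d16_3 D4967 D10898 D23143 F17794 F7414 F3345 (iv5 F7382) (iv7 D4968) F3327
theorem F36202 : act 0 n23143 = n20703 := d18_2 F32050 D23143 F32831 F32093 (iv4 D10884) D10883 (iv4 F32015) F32013 D20212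
def n23145 : Q := act 7 n10898
theorem D23145 : act 7 n10898 = n23145 := rfl
theorem F36209 : act 5 n23145 = n10899 := d13_1 D23145 (iv7 D10899) D10898
theorem F36211 : act 1 n20212 = n23145 := d15_1 (iv0 F32050) (iv7 D23145) F17694
def n23146 : Q := act 6 n10899
theorem D23146 : act 6 n10899 = n23146 := rfl
theorem F36212 : act 2 n23146 = n23146 := d3_1 D23146 (iv6 D23146) F17695
theorem F36213 : act 4 n23146 = n10900 := d10_1 D23146 (iv6 D10900) (iv4 F17696)
theorem F36214 : act 7 n23146 = n11093 := d14_2 D10899 D23146 (iv6 D11093) F7526 (iv6 F7380)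
theorem F36215 : act 1 n20333 = n23146 := d15_1 (iv0 F32893) F36214 F17980
def n23147 : Q := act 0 n10901
theorem D23147 : act 0 n10901 = n23147 := rfl
theorem F36216 : act 3 n23147 = n22594 := d20_5 (iv4 D4591) (iv1 F7079) D4969 D10901 D23147 (iv4 D22594) (iv1 D10711) D10713 F17240 (iv1 D10090)
theorem F36217 : act 1 n10901 = n23147 := d15_0 (iv0 D23147) F17703 (iv2 F17701)
def n23148 : Q := act 5 n10901
theorem D23148 : act 5 n10901 = n23148 := rfl
theorem F36218 : act 2 n23148 = n15397 := d2_1 D23148 (iv5 F26946) (iv2 F17701)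
theorem F36219 : act 3 n23148 = n10902 := d6_1 D23148 (iv5 D10902) D10901
theorem F36220 : act 7 n23148 = n15397 := d13_2 (iv7 F17703) D23148 (iv5 F26946)
theorem F36221 : act 4 n15368 = n23148 := d11_3 F36220 (iv4 D15397) (iv7 F26503)
def n23149 : Q := act 6 n10901
theorem D23149 : act 6 n10901 = n23149 := rfl
theorem F36222 : act 2 n23149 = n22981 := d3_1 D23149 (iv6 D22981) (iv2 F17701)
theorem F36223 : act 3 n23149 = n10903 := d7_1 D23149 (iv6 D10903) D10901
theorem F36224 : act 4 n23149 = n23149 := d10_1 D23149 (iv6 D23149) F17702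
def n23150 : Q := act 6 n10902
theorem D23150 : act 6 n10902 = n23150 := rfl
theorem F36225 : act 2 n23150 = n10913 := d3_1 D23150 (iv6 D10913) (iv2 F17704)
theorem F36226 : act 4 n23150 = n18488 := d10_1 D23150 (iv6 D18488) (iv4 F17706)
def n23151 : Q := act 1 n10903
theorem D23151 : act 1 n10903 = n23151 := rfl
theorem F36227 : act 1 n23151 = n10917 := d15_1 D23151 (iv7 D10917) (iv2 F17709)
theorem F36228 : act 7 n23151 = n10914 := d15_2 (iv0 F32655) D23151 (iv2 F35944)
theorem F36229 : act 2 n10915 = n23151 := d4_3 F36228 (iv2 F35944) F35943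
def n23152 : Q := act 5 n10903
theorem D23152 : act 5 n10903 = n23152 := rfl
theorem F36230 : act 2 n23152 = n10916 := d2_1 D23152 (iv5 D10916) (iv2 F17709)
def n23153 : Q := act 7 n10903
theorem D23153 : act 7 n10903 = n23153 := rfl
theorem F36231 : act 2 n23153 = n10917 := d4_1 D23153 (iv7 D10917) (iv2 F17709)
theorem F36232 : act 4 n23153 = n10907 := d11_1 D23153 (iv7 D10907) (iv4 F17710)
theorem F36233 : act 6 n23153 = n22985 := d14_1 D23153 (iv7 D22985) (iv6 D10849) (iv7 F7386) D10903
theorem F36234 : act 1 n10915 = n23153 := d15_1 D10915 (iv7 D23153) F17709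
theorem F36235 : act 1 n23153 = n10914 := d15_1 F36234 (iv7 F36228) (iv2 F36229)
def n23154 : Q := act 2 n10904
theorem D23154 : act 2 n10904 = n23154 := rfl
theorem F36236 : act 7 n10905 = n23154 := d15_2 (iv0 D10904) D10905 (iv2 D23154)
def n23155 : Q := act 3 n10904
theorem D23155 : act 3 n10904 = n23155 := rfl
def n23156 : Q := act 4 n10904
theorem D23156 : act 4 n10904 = n23156 := rfl
def n23157 : Q := act 5 n10904
theorem D23157 : act 5 n10904 = n23157 := rfl
def n23158 : Q := act 7 n10904
theorem D23158 : act 7 n10904 = n23158 := rfl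
theorem F36237 : act 2 n23158 = n10905 := d4_1 D23158 F36236 (iv2 D23154)
def n23159 : Q := act 4 n10905
theorem D23159 : act 4 n10905 = n23159 := rfl
def n23160 : Q := act 6 n10905
theorem D23160 : act 6 n10905 = n23160 := rfl
def n23161 : Q := act 0 n10906
theorem D23161 : act 0 n10906 = n23161 := rfl
def n23162 : Q := act 4 n10906
theorem D23162 : act 4 n10906 = n23162 := rfl
theorem F36238 : act 2 n23162 = n10930 := d1_1 D23162 (iv4 D10930) (iv2 F17712)
theorem F36239 : act 6 n23162 = n19138 := d10_2 (iv6 F17714) D23162 (iv4 D19138)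
def n23163 : Q := act 7 n10906
theorem D23163 : act 7 n10906 = n23163 := rfl
theorem F36240 : act 2 n23163 = n10931 := d4_1 D23163 (iv7 D10931) (iv2 F17712)
theorem F36241 : act 3 n23163 = n23163 := d8_1 D23163 (iv7 D23163) F17713
theorem F36242 : act 5 n23163 = n10907 := d13_1 D23163 (iv7 D10907) D10906
theorem F36243 : act 1 n10931 = n23161 := d15_0 (iv0 D23161) D23163 F36240
theorem F36244 : act 1 n10929 = n23163 := d15_1 D10929 (iv7 D23163) F17712
theorem F36245 : act 1 n23163 = n10928 := d15_0 (iv0 D10928) D10931 (iv2 F36240)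
def n23164 : Q := act 0 n10908
theorem D23164 : act 0 n10908 = n23164 := rfl
theorem F36246 : act 3 n23164 = n23006 := d20_5 (iv4 D9071) (iv1 F14082) F14083 D10908 D23164 (iv4 F36067) F27782 (iv4 F15950) (iv3 D10091) (iv1 F14152)
theorem F36247 : act 1 n22999 = n23164 := d15_0 (iv0 D23164) F17722 D22999
def n23165 : Q := act 1 n10908
theorem D23165 : act 1 n10908 = n23165 := rfl
def n23166 : Q := act 2 n10908
theorem D23166 : act 2 n10908 = n23166 := rfl
theorem F36248 : act 3 n23166 = n23007 := d0_2 D10908 D23166 (iv2 D23007) (iv3 D10856) F7395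
theorem F36249 : act 4 n23166 = n22386 := d1_2 (iv4 F17721) D23166 (iv2 D22386)
theorem F36250 : act 7 n23166 = n22999 := d4_2 (iv7 F17722) D23166 (iv2 D22999)
theorem F36251 : act 1 n23166 = n22997 := d15_0 (iv0 D22997) (iv7 F17722) D23166
theorem F36252 : act 1 n23165 = n22999 := d15_1 D23165 (iv7 F36250) (iv2 D23166)
theorem F36253 : act 1 n22998 = n23166 := d15_1 D22998 F36250 (iv2 D22999)
def n23167 : Q := act 6 n10908
theorem D23167 : act 6 n10908 = n23167 := rfl
theorem F36254 : act 3 n23167 = n10909 := d7_1 D23167 (iv6 D10909) D10908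
theorem F36255 : act 4 n23167 = n22387 := d10_1 D23167 (iv6 D22387) (iv4 F17721)
def n23168 : Q := act 5 n10909
theorem D23168 : act 5 n10909 = n23168 := rfl
theorem F36256 : act 2 n23168 = n23009 := d2_1 D23168 (iv5 D23009) (iv2 F17723)
def n23169 : Q := act 0 n10910
theorem D23169 : act 0 n10910 = n23169 := rfl
theorem F36257 : act 4 n23169 = n15442 := d18_3 F31792 (iv4 F17724) D23169 (iv5 D15442) (iv4 D7290) (iv0 F12641) (iv4 F18061) F20118 D16955
theorem F36258 : act 1 n23007 = n23169 := d15_0 (iv0 D23169) F17725 D23007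
theorem F36259 : act 2 n23006 = n23169 := d1_3 F36257 (iv2 F27781) F36067
theorem F36260 : act 7 n23005 = n23169 := d11_0 F36257 (iv7 F27788) (iv4 F36066)
def n23170 : Q := act 1 n10910
theorem D23170 : act 1 n10910 = n23170 := rfl
theorem F36261 : act 7 n23170 = n23006 := d15_2 (iv0 D23169) D23170 F36259
theorem F36262 : act 4 n20012 = n23170 := d20_0 (iv1 D23170) F17724 (iv3 D9418) (iv1 F7312) D10679 F17222 D10686 F31830 (iv3 F32622) (iv1 F32625)
theorem F36263 : act 2 n23170 = n23005 := d1_1 F36262 F36066 F31837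
theorem F36264 : act 1 n23170 = n23007 := d18_6 F20098 F20096 F10682 D12857 F31838 F36262 F36068 F32556 (iv5 D16952)
theorem F36265 : act 3 n23170 = n22997 := d20_3 F33420 (iv1 F32625) F36262 (iv1 F36251) F36248 F36068 (iv1 F32557) (iv4 F33418) (iv3 F33683) (iv1 F33684)
theorem F36266 : act 7 n22997 = n23164 := d8_2 (iv7 F36261) F36265 F36246
theorem F36267 : act 2 n23164 = n22998 := d15_3 F36253 F36251 F36266
theorem F36268 : act 2 n22997 = n23165 := d15_3 F36252 F36247 (iv7 F36266)
theorem F36269 : act 7 n23165 = n22998 := d4_2 (iv7 F36266) F36268 (iv2 F36267)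
def n23171 : Q := act 2 n10910
theorem D23171 : act 2 n10910 = n23171 := rfl
theorem F36270 : act 3 n23171 = n22999 := d0_2 D10910 D23171 (iv2 D22999) (iv3 D10854) (iv2 F7396)
theorem F36271 : act 4 n23171 = n19954 := d1_2 (iv4 F17724) D23171 (iv2 D19954)
theorem F36272 : act 7 n23171 = n23007 := d4_2 (iv7 F17725) D23171 (iv2 D23007)
theorem F36273 : act 1 n23171 = n23005 := d15_0 (iv0 D23005) (iv7 F17725) D23171
theorem F36274 : act 1 n23006 = n23171 := d15_0 F36273 F36260 (iv2 F36259)
def n23172 : Q := act 6 n10910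
theorem D23172 : act 6 n10910 = n23172 := rfl
theorem F36275 : act 3 n23172 = n10911 := d7_1 D23172 (iv6 D10911) D10910
theorem F36276 : act 4 n23172 = n19956 := d10_1 D23172 (iv6 D19956) (iv4 F17724)
def n23173 : Q := act 0 n10911
theorem D23173 : act 0 n10911 = n23173 := rfl
def n23174 : Q := act 1 n10911
theorem D23174 : act 1 n10911 = n23174 := rfl
theorem F36277 : act 1 n23174 = n23004 := d15_1 D23174 (iv7 D23004) (iv2 F17726)
def n23175 : Q := act 5 n10911
theorem D23175 : act 5 n10911 = n23175 := rfl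
theorem F36278 : act 2 n23175 = n23003 := d2_1 D23175 (iv5 D23003) (iv2 F17726)
def n23176 : Q := act 7 n10911
theorem D23176 : act 7 n10911 = n23176 := rfl
theorem F36279 : act 2 n23176 = n23004 := d4_1 D23176 (iv7 D23004) (iv2 F17726)
theorem F36280 : act 4 n23176 = n19951 := d11_1 D23176 (iv7 D19951) (iv4 F17727)
theorem F36281 : act 6 n23176 = n11066 := d14_1 D23176 F35593 (iv6 D10857) (iv7 F7394) D10911
theorem F36282 : act 1 n23004 = n23173 := d15_0 (iv0 D23173) D23176 F36279
theorem F36283 : act 1 n23002 = n23176 := d15_1 D23002 (iv7 D23176) F17726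
theorem F36284 : act 1 n23176 = n23001 := d15_0 (iv0 D23001) D23004 (iv2 F36279)
def n23177 : Q := act 3 n10912
theorem D23177 : act 3 n10912 = n23177 := rfl
theorem F36285 : act 4 n23177 = n23010 := d5_2 D10912 D23177 (iv3 D23010) (iv4 D10858) (iv3 F7398)
theorem F36286 : act 5 n23177 = n18476 := d6_2 (iv5 F17730) D23177 (iv3 D18476)
theorem F36287 : act 7 n23177 = n23010 := d8_2 (iv7 F17729) D23177 (iv3 D23010)
def n23178 : Q := act 6 n10912
theorem D23178 : act 6 n10912 = n23178 := rfl
theorem F36288 : act 2 n23178 = n18488 := d3_1 D23178 (iv6 D18488) (iv2 F17728)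
theorem F36289 : act 4 n23178 = n10913 := d10_1 D23178 (iv6 D10913) D10912
def n23179 : Q := act 0 n10913
theorem D23179 : act 0 n10913 = n23179 := rfl
def n23180 : Q := act 1 n10913
theorem D23180 : act 1 n10913 = n23180 := rfl
def n23181 : Q := act 5 n10913
theorem D23181 : act 5 n10913 = n23181 := rfl
theorem F36290 : act 3 n23181 = n23014 := d6_1 D23181 (iv5 D23014) (iv3 F17731)
theorem F36291 : act 6 n23181 = n10916 := d12_2 D10913 D23181 (iv5 D10916) (iv6 D4974) D4973
def n23182 : Q := act 7 n10913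
theorem D23182 : act 7 n10913 = n23182 := rfl
theorem F36292 : act 3 n23182 = n23015 := d8_1 D23182 (iv7 D23015) (iv3 F17731)
theorem F36293 : act 6 n23182 = n23015 := d14_1 D23182 (iv7 D23015) (iv6 D10859) (iv7 F7399) D10913
def n23183 : Q := act 3 n10914
theorem D23183 : act 3 n10914 = n23183 := rfl
def n23184 : Q := act 5 n10914
theorem D23184 : act 5 n10914 = n23184 := rfl
def n23185 : Q := act 6 n10914
theorem D23185 : act 6 n10914 = n23185 := rfl
def n23186 : Q := act 3 n10915
theorem D23186 : act 3 n10915 = n23186 := rfl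
def n23187 : Q := act 5 n10915
theorem D23187 : act 5 n10915 = n23187 := rfl
def n23188 : Q := act 6 n10915
theorem D23188 : act 6 n10915 = n23188 := rfl
def n23189 : Q := act 0 n10916
theorem D23189 : act 0 n10916 = n23189 := rfl
def n23190 : Q := act 1 n10916
theorem D23190 : act 1 n10916 = n23190 := rfl
def n23191 : Q := act 4 n10916
theorem D23191 : act 4 n10916 = n23191 := rfl
def n23192 : Q := act 7 n10916
theorem D23192 : act 7 n10916 = n23192 := rfl
theorem F36294 : act 3 n23192 = n23025 := d8_1 D23192 (iv7 D23025) (iv3 F17732)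
theorem F36295 : act 5 n23192 = n10917 := d13_1 D23192 (iv7 D10917) D10916
def n23194 : Q := act 1 n10918
theorem D23194 : act 1 n10918 = n23194 := rfl
theorem F36297 : act 1 n23194 = n10923 := d15_1 D23194 (iv7 D10923) D10918
def n23195 : Q := act 3 n10918
theorem D23195 : act 3 n10918 = n23195 := rfl
theorem F36298 : act 7 n23195 = n10924 := d8_2 F17736 D23195 (iv3 D10924)
def n23196 : Q := act 4 n10918
theorem D23196 : act 4 n10918 = n23196 := rfl
theorem F36299 : act 2 n23196 = n10920 := d1_1 D23196 (iv4 D10920) D10918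
theorem F36300 : act 7 n23196 = n10925 := d11_2 F17736 D23196 (iv4 D10925)
def n23197 : Q := act 5 n10918
theorem D23197 : act 5 n10918 = n23197 := rfl
theorem F36301 : act 2 n23197 = n10921 := d2_1 D23197 (iv5 D10921) D10918
theorem F36302 : act 7 n23197 = n10926 := d13_2 F17736 D23197 (iv5 D10926)
def n23198 : Q := act 6 n10918
theorem D23198 : act 6 n10918 = n23198 := rfl
theorem F36303 : act 2 n23198 = n10922 := d3_1 D23198 (iv6 D10922) D10918
def n23199 : Q := act 0 n10919
theorem D23199 : act 0 n10919 = n23199 := rfl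
def n23200 : Q := act 1 n10919
theorem D23200 : act 1 n10919 = n23200 := rfl
def n23201 : Q := act 2 n10919
theorem D23201 : act 2 n10919 = n23201 := rfl
def n23202 : Q := act 5 n10919
theorem D23202 : act 5 n10919 = n23202 := rfl
theorem F36304 : act 3 n23202 = n10921 := d6_1 D23202 (iv5 D10921) D10919
def n23203 : Q := act 6 n10919
theorem D23203 : act 6 n10919 = n23203 := rfl
theorem F36305 : act 3 n23203 = n10922 := d7_1 D23203 (iv6 D10922) D10919
def n23204 : Q := act 7 n10919
theorem D23204 : act 7 n10919 = n23204 := rfl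
theorem F36306 : act 3 n23204 = n10923 := d8_1 D23204 (iv7 D10923) D10919
def n23205 : Q := act 0 n10920
theorem D23205 : act 0 n10920 = n23205 := rfl
theorem F36307 : act 4 n23205 = n20685 := d20_2 D10920 D23205 (iv3 D20685) (iv1 D9806) (iv3 D4429) F14810 (iv1 D2041) (iv4 F1900) (iv3 F3341) D4975
def n23206 : Q := act 1 n10920
theorem D23206 : act 1 n10920 = n23206 := rfl
theorem F36308 : act 1 n23206 = n10925 := d15_1 D23206 (iv7 F36300) F36299
def n23207 : Q := act 3 n10920
theorem D23207 : act 3 n10920 = n23207 := rfl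
def n23208 : Q := act 5 n10920
theorem D23208 : act 5 n10920 = n23208 := rfl
def n23209 : Q := act 6 n10920
theorem D23209 : act 6 n10920 = n23209 := rfl
theorem F36309 : act 4 n23209 = n10922 := d10_1 D23209 (iv6 D10922) D10920
def n23210 : Q := act 7 n10920
theorem D23210 : act 7 n10920 = n23210 := rfl
theorem F36310 : act 2 n23210 = n10925 := d4_1 D23210 (iv7 F36300) F36299
theorem F36311 : act 4 n23210 = n10923 := d11_1 D23210 (iv7 D10923) D10920
theorem F36312 : act 1 n10925 = n23205 := d15_0 (iv0 D23205) D23210 F36310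
def n23211 : Q := act 0 n10921
theorem D23211 : act 0 n10921 = n23211 := rfl
theorem F36313 : act 5 n23211 = n21291 := d21_2 D10921 D23211 (iv6 D21291) (iv1 D10164) (iv6 D4619) F6930 (iv1 D1740) (iv5 F1897) D2048 D4975
def n23212 : Q := act 1 n10921
theorem D23212 : act 1 n10921 = n23212 := rfl
theorem F36314 : act 1 n23212 = n10926 := d15_1 D23212 (iv7 F36302) F36301
def n23213 : Q := act 4 n10921
theorem D23213 : act 4 n10921 = n23213 := rfl
def n23214 : Q := act 6 n10921
theorem D23214 : act 6 n10921 = n23214 := rfl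
def n23215 : Q := act 7 n10921
theorem D23215 : act 7 n10921 = n23215 := rfl
theorem F36315 : act 2 n23215 = n10926 := d4_1 D23215 (iv7 F36302) F36301
theorem F36316 : act 5 n23215 = n10923 := d13_1 D23215 (iv7 D10923) D10921
theorem F36317 : act 1 n10926 = n23211 := d15_0 (iv0 D23211) D23215 F36315
theorem F36318 : act 0 n10927 = n21223 := d21_10 (iv5 D21223) (iv1 F16180) F16971 (iv6 F16435) (iv1 F16437) D21291 (iv5 F36313) (iv1 F36317) (iv5 D10926) D10927
def n23216 : Q := act 0 n10922
theorem D23216 : act 0 n10922 = n23216 := rfl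
def n23217 : Q := act 1 n10922
theorem D23217 : act 1 n10922 = n23217 := rfl
theorem F36319 : act 6 n23063 = n23217 := d21_3 D10165 D21292 (iv5 F36120) (iv1 D23217) (iv6 D10922) D10921 D23211 F36313 (iv6 D21291) (iv1 D10164)
def n23218 : Q := act 7 n10922
theorem D23218 : act 7 n10922 = n23218 := rfl
def n23219 : Q := act 6 n10923
theorem D23219 : act 6 n10923 = n23219 := rfl
theorem F36320 : act 2 n23219 = n10927 := d3_1 D23219 (iv6 D10927) (iv2 F17737)
def n23220 : Q := act 0 n10924
theorem D23220 : act 0 n10924 = n23220 := rfl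
theorem F36321 : act 4 n23220 = n20692 := d20_0 (iv1 F32817) (iv4 D20655) F15375 (iv1 F15380) D20685 (iv4 F36307) (iv1 F36312) (iv4 D10925) D10924 D23220
theorem F36322 : act 3 n23220 = n23200 := d20_3 D9808 D20692 (iv4 F36321) (iv1 D23200) (iv3 D10919) D10920 D23205 F36307 (iv3 D20685) (iv1 D9806)
def n23221 : Q := act 1 n10924
theorem D23221 : act 1 n10924 = n23221 := rfl
def n23222 : Q := act 2 n10924
theorem D23222 : act 2 n10924 = n23222 := rfl
def n23223 : Q := act 4 n10924
theorem D23223 : act 4 n10924 = n23223 := rfl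
theorem F36323 : act 0 n20647 = n23223 := d20_1 D20647 (iv4 D23223) (iv3 D10924) (iv1 D4976) F3341 F1900 D2040 (iv4 F14807) D4424 D9789
def n23224 : Q := act 5 n10924
theorem D23224 : act 5 n10924 = n23224 := rfl
theorem F36324 : act 3 n23224 = n10926 := d6_1 D23224 (iv5 D10926) D10924
def n23225 : Q := act 6 n10924
theorem D23225 : act 6 n10924 = n23225 := rfl
theorem F36325 : act 3 n23225 = n10927 := d7_1 D23225 (iv6 D10927) D10924
def n23226 : Q := act 3 n10925
theorem D23226 : act 3 n10925 = n23226 := rfl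
def n23227 : Q := act 5 n10925
theorem D23227 : act 5 n10925 = n23227 := rfl
def n23228 : Q := act 6 n10925
theorem D23228 : act 6 n10925 = n23228 := rfl
theorem F36326 : act 4 n23228 = n10927 := d10_1 D23228 (iv6 D10927) D10925
def n23229 : Q := act 4 n10926
theorem D23229 : act 4 n10926 = n23229 := rfl
def n23230 : Q := act 1 n10927
theorem D23230 : act 1 n10927 = n23230 := rfl
def n23231 : Q := act 5 n10927
theorem D23231 : act 5 n10927 = n23231 := rfl
theorem F36327 : act 0 n21261 = n23231 := d21_1 D21261 (iv5 D23231) (iv6 D10927) (iv1 D4976) (iv6 D2048) F1897 D1739 (iv5 F6924) D4614 D10154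
def n23232 : Q := act 7 n10927
theorem D23232 : act 7 n10927 = n23232 := rfl
def n23233 : Q := act 2 n10928
theorem D23233 : act 2 n10928 = n23233 := rfl
theorem F36328 : act 7 n10929 = n23233 := d15_2 (iv0 D10928) D10929 (iv2 D23233)
def n23234 : Q := act 3 n10928
theorem D23234 : act 3 n10928 = n23234 := rfl
def n23235 : Q := act 4 n10928
theorem D23235 : act 4 n10928 = n23235 := rfl
def n23236 : Q := act 5 n10928
theorem D23236 : act 5 n10928 = n23236 := rfl
def n23237 : Q := act 6 n10928
theorem D23237 : act 6 n10928 = n23237 := rfl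
def n23238 : Q := act 7 n10928
theorem D23238 : act 7 n10928 = n23238 := rfl
theorem F36329 : act 2 n23238 = n10929 := d4_1 D23238 F36328 (iv2 D23233)
def n23239 : Q := act 3 n10929
theorem D23239 : act 3 n10929 = n23239 := rfl
def n23240 : Q := act 4 n10929
theorem D23240 : act 4 n10929 = n23240 := rfl
def n23241 : Q := act 6 n10929
theorem D23241 : act 6 n10929 = n23241 := rfl
theorem F36330 : act 5 n23241 = n23066 := d12_1 D23241 F36122 (iv5 D21240) D21241 F33468
theorem F36331 : act 7 n23065 = n23241 := d13_0 F36330 (iv7 D23066) D23065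
theorem F36332 : act 0 n21290 = n23241 := d21_1 D21290 F36330 F36122 (iv1 F36106) (iv6 F36107) (iv5 D21223) (iv1 F16180) F16971 (iv6 F16435) (iv1 F16437)
def n23242 : Q := act 0 n10930
theorem D23242 : act 0 n10930 = n23242 := rfl
def n23243 : Q := act 1 n10930
theorem D23243 : act 1 n10930 = n23243 := rfl
def n23244 : Q := act 3 n10930
theorem D23244 : act 3 n10930 = n23244 := rfl
theorem F36334 : act 6 n23244 = n19146 := d7_2 (iv6 F17738) D23244 (iv3 D19146)
def n23245 : Q := act 5 n10930
theorem D23245 : act 5 n10930 = n23245 := rfl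
def n23246 : Q := act 7 n10930
theorem D23246 : act 7 n10930 = n23246 := rfl
theorem F36335 : act 4 n23246 = n10931 := d11_1 D23246 (iv7 D10931) D10930
def n23247 : Q := act 6 n10931
theorem D23247 : act 6 n10931 = n23247 := rfl
theorem F36336 : act 3 n23247 = n10957 := d7_1 D23247 (iv6 D10957) (iv3 F17739)
theorem F36337 : act 5 n23247 = n23081 := d12_1 D23247 (iv6 D23081) F17661 (iv6 F7405) (iv5 F17740)
theorem F36338 : act 7 n23247 = n11086 := d14_2 D10931 D23247 (iv6 D11086) F7514 (iv6 F7403)
theorem F36339 : act 0 n23062 = n23247 := d21_4 F36058 (iv1 F17651) D10872 D23062 (iv6 D23247) F17740 (iv1 F17711) (iv5 F36126) (iv6 D23071) (iv1 F36061)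
def n23249 : Q := act 3 n10932
theorem D23249 : act 3 n10932 = n23249 := rfl
theorem F36341 : act 4 n23249 = n20693 := d20_6 F1823 D1821 F14798 D4980 D10932 D23249 (iv1 D20693) (iv4 D9808) (iv3 D4429) (iv1 D1857)
def n23250 : Q := act 4 n10932
theorem D23250 : act 4 n10932 = n23250 := rfl
theorem F36342 : act 0 n23250 = n20583 := d20_1 D23250 (iv4 D20583) (iv3 D9756) (iv1 D4406) F3140 F1823 D1821 F14798 D4980 D10932
def n23258 : Q := act 4 n10934
theorem D23258 : act 4 n10934 = n23258 := rfl
theorem F36344 : act 2 n23258 = n10935 := d1_1 D23258 (iv4 D10935) D10934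
def n23259 : Q := act 5 n10934
theorem D23259 : act 5 n10934 = n23259 := rfl
theorem F36345 : act 2 n23259 = n10936 := d2_1 D23259 (iv5 D10936) D10934
def n23260 : Q := act 6 n10934
theorem D23260 : act 6 n10934 = n23260 := rfl
theorem F36347 : act 2 n23260 = n10937 := d3_1 D23260 (iv6 D10937) D10934
theorem F36349 : act 5 n21838 = n23260 := d2_0 F36347 (iv5 F17745) D21838
def n23262 : Q := act 1 n10935
theorem D23262 : act 1 n10935 = n23262 := rfl
theorem F36350 : act 4 n20680 = n23262 := d20_6 F3345 (iv1 F3331) (iv4 F14810) D4429 D9805 D20680 (iv1 D23262) (iv4 D10935) (iv3 D4980) (iv1 F3347)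
def n23263 : Q := act 5 n10935
theorem D23263 : act 5 n10935 = n23263 := rfl
theorem F36351 : act 3 n23263 = n20170 := d6_1 D23263 (iv5 D20170) (iv3 F17742)
def n23264 : Q := act 6 n10935
theorem D23264 : act 6 n10935 = n23264 := rfl
theorem F36352 : act 3 n23264 = n20171 := d7_1 D23264 (iv6 D20171) (iv3 F17742)
theorem F36353 : act 4 n23264 = n10937 := d10_1 D23264 (iv6 D10937) D10935
def n23267 : Q := act 4 n10936
theorem D23267 : act 4 n10936 = n23267 := rfl
def n23268 : Q := act 6 n10936
theorem D23268 : act 6 n10936 = n23268 := rfl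
theorem F36355 : act 5 n23268 = n21840 := d12_1 D23268 (iv6 D21840) F17745 (iv6 D10937) D10936
theorem F36356 : act 7 n23268 = n23137 := d14_2 F17777 D23268 (iv6 D23137) F17690 F17778
def n23271 : Q := act 3 n10938
theorem D23271 : act 3 n10938 = n23271 := rfl
theorem F36357 : act 5 n23271 = n19819 := d6_2 (iv5 F17746) D23271 F31597
def n23272 : Q := act 3 n10939
theorem D23272 : act 3 n10939 = n23272 := rfl
theorem F36358 : act 5 n23272 = n19779 := d6_2 (iv5 F17751) D23272 F31550
theorem F36359 : act 6 n23272 = n11081 := d7_2 F17753 D23272 (iv3 D11081)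
theorem F36360 : act 7 n23272 = n23271 := d8_2 (iv7 F17750) D23272 (iv3 D23271)
def n23275 : Q := act 3 n10942
theorem D23275 : act 3 n10942 = n23275 := rfl
theorem F36364 : act 5 n23275 = n21806 := d6_2 (iv5 F17763) D23275 (iv3 D21806)
theorem F36365 : act 6 n23275 = n11052 := d7_2 F17761 D23275 (iv3 D11052)
def n23277 : Q := act 3 n10943
theorem D23277 : act 3 n10943 = n23277 := rfl
theorem F36368 : act 4 n23277 = n20659 := d20_6 F3148 (iv1 F3084) F14800 D4985 D10943 D23277 (iv1 D20659) (iv4 D9792) (iv3 D4424) (iv1 F3150)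
def n23282 : Q := act 3 n10944
theorem D23282 : act 3 n10944 = n23282 := rfl
theorem F36370 : act 4 n20564 = n23282 := d20_2 D9752 D20564 (iv3 D23282) (iv1 D10944) (iv3 D4985) (iv4 F14800) (iv1 D1822) (iv4 F1823) (iv3 F3140) D4405
def n23286 : Q := act 4 n10945
theorem D23286 : act 4 n10945 = n23286 := rfl
theorem F36371 : act 2 n23286 = n10946 := d1_1 D23286 (iv4 D10946) D10945
theorem F36372 : act 7 n23286 = n23258 := d11_2 (iv7 F17770) D23286 (iv4 D23258)
theorem F36373 : act 0 n23286 = n23262 := d20_1 D23286 (iv4 F36350) (iv3 D20680) (iv1 F15376) F15375 D20655 (iv1 F32818) (iv4 F36341) (iv3 D23249) (iv1 F17771)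
def n23287 : Q := act 5 n10945
theorem D23287 : act 5 n10945 = n23287 := rfl
theorem F36375 : act 2 n23287 = n10947 := d2_1 D23287 (iv5 D10947) D10945
theorem F36377 : act 7 n23287 = n23259 := d13_2 (iv7 F17770) D23287 (iv5 D23259)
theorem F36379 : act 6 n23131 = n23287 := d3_0 F36375 (iv6 F17778) D23131
def n23288 : Q := act 6 n10945
theorem D23288 : act 6 n10945 = n23288 := rfl
theorem F36381 : act 2 n23288 = n10948 := d3_1 D23288 (iv6 D10948) D10945
def n23289 : Q := act 0 n10946
theorem D23289 : act 0 n10946 = n23289 := rfl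
theorem F36383 : act 1 n23258 = n23289 := d15_0 (iv0 D23289) F17775 (iv2 F36344)
theorem F36384 : act 4 n20580 = n23289 := d20_0 (iv1 F36383) (iv4 D23258) F17741 (iv1 F17772) D23282 (iv4 F36370) (iv1 F32663) (iv4 D9757) D9756 D20580
theorem F36385 : act 3 n20580 = n20558 := d20_3 D10946 D23289 (iv4 F36384) (iv1 D20558) (iv3 D9751) D9752 D20564 F36370 (iv3 D23282) (iv1 D10944)
def n23290 : Q := act 1 n10946
theorem D23290 : act 1 n10946 = n23290 := rfl
theorem F36386 : act 1 n23290 = n23258 := d15_1 D23290 (iv7 F36372) F36371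
theorem F36387 : act 4 n20646 = n23290 := d20_6 F1900 D2040 (iv4 F14807) D4424 D9789 D20646 (iv1 D23290) (iv4 D10946) (iv3 D4985) (iv1 D2050)
def n23291 : Q := act 5 n10946
theorem D23291 : act 5 n10946 = n23291 := rfl
theorem F36388 : act 3 n23291 = n20201 := d6_1 D23291 (iv5 D20201) (iv3 F17774)
theorem F36389 : act 7 n23291 = n23263 := d13_2 (iv7 F17775) D23291 (iv5 D23263)
def n23292 : Q := act 6 n10946
theorem D23292 : act 6 n10946 = n23292 := rfl
theorem F36390 : act 3 n23292 = n20202 := d7_1 D23292 (iv6 D20202) (iv3 F17774)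
theorem F36391 : act 4 n23292 = n10948 := d10_1 D23292 (iv6 D10948) D10946
def n23293 : Q := act 0 n10947
theorem D23293 : act 0 n10947 = n23293 := rfl
theorem F36392 : act 1 n23259 = n23293 := d15_0 (iv0 D23293) F17777 (iv2 F36345)
def n23294 : Q := act 1 n10947
theorem D23294 : act 1 n10947 = n23294 := rfl
theorem F36393 : act 1 n23294 = n23259 := d15_1 D23294 (iv7 F36377) F36375
def n23295 : Q := act 4 n10947
theorem D23295 : act 4 n10947 = n23295 := rfl
theorem F36394 : act 6 n23295 = n23132 := d10_2 F17778 D23295 (iv4 D23132)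
theorem F36395 : act 7 n23295 = n23267 := d11_2 (iv7 F17777) D23295 (iv4 D23267)
def n23299 : Q := act 0 n10950
theorem D23299 : act 0 n10950 = n23299 := rfl
def n23301 : Q := act 2 n10950
theorem D23301 : act 2 n10950 = n23301 := rfl
theorem F36398 : act 3 n23301 = n23301 := d0_2 D10950 D23301 (iv2 D23301) (iv3 D10950) F15366
def n23302 : Q := act 4 n10950
theorem D23302 : act 4 n10950 = n23302 := rfl
def n23303 : Q := act 6 n10950
theorem D23303 : act 6 n10950 = n23303 := rfl
theorem F36399 : act 3 n23303 = n10951 := d7_1 D23303 (iv6 D10951) D10950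
def n23304 : Q := act 0 n10952
theorem D23304 : act 0 n10952 = n23304 := rfl
def n23305 : Q := act 1 n10952
theorem D23305 : act 1 n10952 = n23305 := rfl
theorem F36401 : act 5 n23111 = n23305 := d21_6 F33573 (iv1 F16034) D21413 (iv6 F33619) (iv1 F17675) D23111 (iv1 D23305) F17784 (iv6 D10196) D10191
def n23306 : Q := act 2 n10952
theorem D23306 : act 2 n10952 = n23306 := rfl
theorem F36402 : act 3 n23306 = n23306 := d0_2 D10952 D23306 (iv2 D23306) (iv3 D10952) F15364
theorem F36403 : act 5 n23306 = n21391 := d2_2 (iv5 F17784) D23306 F33583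
theorem F36404 : act 7 n23306 = n23301 := d4_2 (iv7 F17785) D23306 (iv2 D23301)
theorem F36405 : act 1 n23306 = n23299 := d15_0 (iv0 D23299) (iv7 F17785) D23306
theorem F36407 : act 5 n23086 = n23299 := d21_6 F33599 (iv1 D10200) D10203 (iv6 F16041) D10878 D23086 (iv1 F36405) F36403 (iv6 D21391) (iv1 F16035)
def n23307 : Q := act 4 n10952
theorem D23307 : act 4 n10952 = n23307 := rfl
theorem F36409 : act 7 n23307 = n23302 := d11_2 (iv7 F17785) D23307 (iv4 D23302)
def n23308 : Q := act 6 n10952
theorem D23308 : act 6 n10952 = n23308 := rfl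
theorem F36411 : act 5 n23308 = n21399 := d12_1 D23308 (iv6 D21399) (iv5 D10195) D10196 (iv5 F17784)
theorem F36412 : act 7 n23125 = n23308 := d13_0 F36411 F33590 D23125
def n23315 : Q := act 6 n10956
theorem D23315 : act 6 n10956 = n23315 := rfl
theorem F36420 : act 4 n23315 = n10957 := d10_1 D23315 (iv6 D10957) (iv4 F17794)
theorem F36422 : act 0 n20213 = n23315 := d21_4 (iv5 F36209) (iv1 F36211) (iv5 D20212) D20213 (iv6 D23315) (iv5 F36201) F36202 (iv5 D20703) F15388 (iv1 F17697)
theorem F36423 : act 1 n23146 = n20328 := d18_6 F14821 (iv4 F32052) F36422 F36420 F17798 (iv4 F36213) (iv4 D20328) (iv0 D9611) (iv5 F6359)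
theorem F36424 : act 1 n20745 = n23315 := d15_0 (iv0 F36422) (iv7 F32891) F32890
theorem F36425 : act 1 n20328 = n11093 := d15_1 F36423 (iv7 F36214) F36212
def n23316 : Q := act 5 n10958
theorem D23316 : act 5 n10958 = n23316 := rfl
theorem F36426 : act 2 n23316 = n19180 := d2_1 D23316 F30822 F17804
theorem F36427 : act 7 n23316 = n19181 := d13_2 (iv7 F17802) D23316 F30825
theorem F36428 : act 0 n23316 = n19065 := d17_2 (iv1 F17801) D23316 (iv5 D19065) (iv4 D8933) F7019 F6417 (iv5 F1901) D2054 D4998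
theorem F36429 : act 1 n23316 = n19073 := d17_6 (iv1 F12150) (iv5 D4740) F6527 D9834 (iv4 F17803) D23316 (iv5 D19073) (iv0 F16002) (iv4 D10158)
def n23317 : Q := act 6 n10958
theorem D23317 : act 6 n10958 = n23317 := rfl
theorem F36430 : act 2 n23317 = n19271 := d3_1 D23317 (iv6 D19271) F17804
theorem F36431 : act 4 n23317 = n20747 := d10_1 D23317 (iv6 D20747) (iv4 F17803)
def n23318 : Q := act 4 n10959
theorem D23318 : act 4 n10959 = n23318 := rfl
theorem F36432 : act 2 n23318 = n18956 := d1_1 D23318 F30264 (iv2 F17805)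
theorem F36433 : act 3 n23318 = n15953 := d5_1 D23318 (iv4 D15953) F35183 (iv4 F35180) F35178
theorem F36434 : act 7 n23318 = n18959 := d11_2 (iv7 F17806) D23318 F30266
theorem F36435 : act 5 n23318 = n13138 := d16_1 D23318 (iv4 D13138) (iv5 F14037) (iv4 D4214) (iv5 F7326) D4998 D10967 F17820 (iv2 F17805)
theorem F36436 : act 0 n23318 = n17682 := d17_0 (iv5 D17682) (iv1 F14057) (iv5 F30284) F30285 (iv5 D9038) F14071 D19171 F30802 D23318
theorem F36437 : act 1 n23318 = n19623 := d18_6 F7047 F3316 D2053 D4994 D10959 D23318 (iv4 D19623) (iv0 F17188) (iv5 D10643)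
def n23319 : Q := act 6 n10959
theorem D23319 : act 6 n10959 = n23319 := rfl
theorem F36438 : act 2 n23319 = n19310 := d3_1 D23319 (iv6 D19310) (iv2 F17805)
def n23320 : Q := act 0 n10960
theorem D23320 : act 0 n10960 = n23320 := rfl
def n23321 : Q := act 1 n10960
theorem D23321 : act 1 n10960 = n23321 := rfl
theorem F36439 : act 1 n23321 = n19314 := d15_1 D23321 (iv7 D19314) (iv2 F17807)
def n23322 : Q := act 5 n10960
theorem D23322 : act 5 n10960 = n23322 := rfl
theorem F36440 : act 2 n23322 = n19313 := d2_1 D23322 (iv5 D19313) (iv2 F17807)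
def n23323 : Q := act 7 n10960
theorem D23323 : act 7 n10960 = n23323 := rfl
theorem F36441 : act 2 n23323 = n19314 := d4_1 D23323 (iv7 D19314) (iv2 F17807)
theorem F36442 : act 4 n23323 = n10964 := d11_1 D23323 (iv7 D10964) (iv4 F17808)
theorem F36443 : act 6 n23323 = n19283 := d14_1 D23323 (iv7 D19283) (iv6 D9065) (iv7 F12317) D10960
theorem F36444 : act 1 n19314 = n23320 := d15_0 (iv0 D23320) D23323 F36441
theorem F36445 : act 1 n19312 = n23323 := d15_1 D19312 (iv7 D23323) F17807
theorem F36446 : act 1 n23323 = n19311 := d15_0 (iv0 D19311) D19314 (iv2 F36441)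
def n23324 : Q := act 2 n10961
theorem D23324 : act 2 n10961 = n23324 := rfl
theorem F36447 : act 7 n10962 = n23324 := d15_2 (iv0 D10961) D10962 (iv2 D23324)
def n23326 : Q := act 4 n10961
theorem D23326 : act 4 n10961 = n23326 := rfl
def n23327 : Q := act 5 n10961
theorem D23327 : act 5 n10961 = n23327 := rfl
def n23328 : Q := act 6 n10961
theorem D23328 : act 6 n10961 = n23328 := rfl
theorem F36448 : act 5 n23328 = n19244 := d21_6 F3042 D1795 (iv5 F7323) D4995 D10961 D23328 (iv1 D19244) (iv5 D9042) (iv6 D4058) F7181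
def n23329 : Q := act 7 n10961
theorem D23329 : act 7 n10961 = n23329 := rfl
def n23331 : Q := act 4 n10962
theorem D23331 : act 4 n10962 = n23331 := rfl
def n23332 : Q := act 5 n10962
theorem D23332 : act 5 n10962 = n23332 := rfl
def n23333 : Q := act 6 n10962
theorem D23333 : act 6 n10962 = n23333 := rfl
def n23334 : Q := act 0 n10963
theorem D23334 : act 0 n10963 = n23334 := rfl
def n23335 : Q := act 1 n10963
theorem D23335 : act 1 n10963 = n23335 := rfl
theorem F36450 : act 1 n23335 = n19328 := d15_1 D23335 (iv7 D19328) (iv2 F17810)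
def n23336 : Q := act 4 n10963
theorem D23336 : act 4 n10963 = n23336 := rfl
theorem F36451 : act 2 n23336 = n19327 := d1_1 D23336 (iv4 D19327) (iv2 F17810)
theorem F36452 : act 6 n23336 = n19410 := d10_2 (iv6 F17811) D23336 (iv4 D19410)
def n23337 : Q := act 7 n10963
theorem D23337 : act 7 n10963 = n23337 := rfl
theorem F36453 : act 2 n23337 = n19328 := d4_1 D23337 (iv7 D19328) (iv2 F17810)
theorem F36454 : act 5 n23337 = n10964 := d13_1 D23337 (iv7 D10964) D10963
theorem F36455 : act 1 n19328 = n23334 := d15_0 (iv0 D23334) D23337 F36453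
theorem F36456 : act 1 n19326 = n23337 := d15_1 D19326 (iv7 D23337) F17810
theorem F36457 : act 1 n23337 = n19325 := d15_0 (iv0 D19325) D19328 (iv2 F36453)
def n23338 : Q := act 0 n10965
theorem D23338 : act 0 n10965 = n23338 := rfl
def n23339 : Q := act 1 n10965
theorem D23339 : act 1 n10965 = n23339 := rfl
def n23340 : Q := act 5 n10965
theorem D23340 : act 5 n10965 = n23340 := rfl
theorem F36458 : act 3 n23340 = n10971 := d6_1 D23340 (iv5 D10971) (iv3 F17817)
theorem F36459 : act 6 n23340 = n19832 := d12_2 D10965 D23340 (iv5 D19832) (iv6 D9329) (iv5 F7421)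
def n23341 : Q := act 7 n10965
theorem D23341 : act 7 n10965 = n23341 := rfl
theorem F36460 : act 3 n23341 = n10972 := d8_1 D23341 (iv7 D10972) (iv3 F17817)
theorem F36461 : act 6 n23341 = n19305 := d14_1 D23341 (iv7 D19305) (iv6 D9072) (iv7 F12299) D10965
def n23342 : Q := act 5 n10966
theorem D23342 : act 5 n10966 = n23342 := rfl
theorem F36462 : act 3 n23342 = n10967 := d6_1 D23342 (iv5 D10967) D10966
theorem F36463 : act 7 n23342 = n19308 := d13_2 (iv7 F17818) D23342 (iv5 D19308)
def n23343 : Q := act 6 n10966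
theorem D23343 : act 6 n10966 = n23343 := rfl
theorem F36464 : act 3 n23343 = n10968 := d7_1 D23343 (iv6 D10968) D10966
def n23344 : Q := act 4 n10967
theorem D23344 : act 4 n10967 = n23344 := rfl
theorem F36465 : act 2 n23344 = n18959 := d1_1 D23344 F30266 (iv2 F17819)
theorem F36466 : act 5 n23344 = n18930 := d9_2 D10967 D23344 F30225 (iv5 D9328) (iv4 D4209) (iv5 F7323) D4994 D10959 D23318 F36435 (iv4 D13138) (iv5 F14037) (iv4 D4214) (iv5 F7326) D4998
theorem F36467 : act 7 n23344 = n18956 := d11_2 (iv7 F17820) D23344 F30264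
theorem F36468 : act 0 n23344 = n19623 := d17_0 F31396 F28065 (iv5 F30288) (iv4 F30297) (iv5 D9014) D9012 D19173 F30805 D23344
theorem F36469 : act 1 n23344 = n17682 := d18_6 (iv1 F7329) (iv4 D4071) (iv1 F3354) D4998 D10967 D23344 (iv4 F30585) F30587 (iv5 D10736)
theorem F36470 : act 0 n21986 = n23342 := d20_4 (iv4 F13545) (iv1 F29493) F29496 (iv3 F34491) F36462 D23344 F36468 (iv4 D19623) F14422 (iv1 F7319)
def n23345 : Q := act 6 n10967
theorem D23345 : act 6 n10967 = n23345 := rfl
theorem F36471 : act 2 n23345 = n19279 := d3_1 D23345 (iv6 D19279) (iv2 F17819)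
def n23346 : Q := act 0 n10968
theorem D23346 : act 0 n10968 = n23346 := rfl
def n23347 : Q := act 1 n10968
theorem D23347 : act 1 n10968 = n23347 := rfl
theorem F36472 : act 1 n23347 = n19283 := d15_1 D23347 (iv7 D19283) (iv2 F17821)
def n23348 : Q := act 5 n10968
theorem D23348 : act 5 n10968 = n23348 := rfl
theorem F36473 : act 2 n23348 = n19282 := d2_1 D23348 (iv5 D19282) (iv2 F17821)
def n23349 : Q := act 7 n10968
theorem D23349 : act 7 n10968 = n23349 := rfl
theorem F36474 : act 2 n23349 = n19283 := d4_1 D23349 (iv7 D19283) (iv2 F17821)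
theorem F36475 : act 4 n23349 = n10972 := d11_1 D23349 (iv7 D10972) (iv4 F17822)
theorem F36476 : act 6 n23349 = n19314 := d14_1 D23349 (iv7 D19314) (iv6 D9075) F12320 D10968
theorem F36477 : act 1 n19283 = n23346 := d15_0 (iv0 D23346) D23349 F36474
theorem F36478 : act 1 n19281 = n23349 := d15_1 D19281 (iv7 D23349) F17821
theorem F36479 : act 1 n23349 = n19280 := d15_0 (iv0 D19280) D19283 (iv2 F36474)
def n23350 : Q := act 2 n10969
theorem D23350 : act 2 n10969 = n23350 := rfl
theorem F36480 : act 7 n10970 = n23350 := d15_2 (iv0 D10969) D10970 (iv2 D23350)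
def n23352 : Q := act 4 n10969
theorem D23352 : act 4 n10969 = n23352 := rfl
def n23353 : Q := act 5 n10969
theorem D23353 : act 5 n10969 = n23353 := rfl
def n23354 : Q := act 7 n10969
theorem D23354 : act 7 n10969 = n23354 := rfl
theorem F36481 : act 2 n23354 = n10970 := d4_1 D23354 F36480 (iv2 D23350)
def n23356 : Q := act 4 n10970
theorem D23356 : act 4 n10970 = n23356 := rfl
def n23357 : Q := act 5 n10970
theorem D23357 : act 5 n10970 = n23357 := rfl
def n23358 : Q := act 6 n10970
theorem D23358 : act 6 n10970 = n23358 := rfl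
def n23359 : Q := act 0 n10971
theorem D23359 : act 0 n10971 = n23359 := rfl
theorem F36482 : act 6 n23359 = n23332 := d21_5 (iv5 D9594) F17525 D9332 (iv6 F17825) D23359 (iv5 D23332) (iv1 D10962) D10963 F17811 F17552
def n23360 : Q := act 1 n10971
theorem D23360 : act 1 n10971 = n23360 := rfl
theorem F36483 : act 1 n23360 = n19297 := d15_1 D23360 (iv7 D19297) (iv2 F17824)
def n23361 : Q := act 4 n10971
theorem D23361 : act 4 n10971 = n23361 := rfl
theorem F36484 : act 2 n23361 = n19296 := d1_1 D23361 (iv4 D19296) (iv2 F17824)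
theorem F36485 : act 6 n23361 = n19834 := d10_2 (iv6 F17825) D23361 (iv4 D19834)
def n23362 : Q := act 7 n10971
theorem D23362 : act 7 n10971 = n23362 := rfl
theorem F36486 : act 2 n23362 = n19297 := d4_1 D23362 (iv7 D19297) (iv2 F17824)
theorem F36487 : act 5 n23362 = n10972 := d13_1 D23362 (iv7 D10972) D10971
theorem F36488 : act 1 n19297 = n23359 := d15_0 (iv0 D23359) D23362 F36486
theorem F36490 : act 1 n23362 = n19294 := d15_0 (iv0 D19294) D19297 (iv2 F36486)
def n23363 : Q := act 2 n10973
theorem D23363 : act 2 n10973 = n23363 := rfl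
theorem F36491 : act 7 n10974 = n23363 := d15_2 (iv0 D10973) D10974 (iv2 D23363)
def n23364 : Q := act 3 n10973
theorem D23364 : act 3 n10973 = n23364 := rfl
def n23365 : Q := act 4 n10973
theorem D23365 : act 4 n10973 = n23365 := rfl
def n23366 : Q := act 5 n10973
theorem D23366 : act 5 n10973 = n23366 := rfl
def n23367 : Q := act 6 n10973
theorem D23367 : act 6 n10973 = n23367 := rfl
theorem F36492 : act 5 n23367 = n19733 := d21_6 (iv5 D1749) D1745 (iv5 F3351) D5000 D10973 D23367 (iv1 D19733) (iv5 D9257) (iv6 D4188) F7180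
def n23369 : Q := act 4 n10974
theorem D23369 : act 4 n10974 = n23369 := rfl
def n23370 : Q := act 5 n10974
theorem D23370 : act 5 n10974 = n23370 := rfl
theorem F36494 : act 6 n20259 = n23370 := d21_5 (iv5 D9332) F17519 D4319 D9578 D20259 (iv5 D23370) (iv1 D10974) D10975 F17834 F14525
def n23371 : Q := act 6 n10974
theorem D23371 : act 6 n10974 = n23371 := rfl
def n23372 : Q := act 0 n10975
theorem D23372 : act 0 n10975 = n23372 := rfl
def n23373 : Q := act 1 n10975
theorem D23373 : act 1 n10975 = n23373 := rfl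
theorem F36495 : act 1 n23373 = n10990 := d15_1 D23373 (iv7 D10990) (iv2 F17832)
theorem F36496 : act 5 n19090 = n23373 := d21_6 F7023 (iv1 D1724) D1726 D3988 D8941 D19090 (iv1 D23373) (iv5 D10975) (iv6 D5000) (iv1 F3355)
def n23374 : Q := act 4 n10975
theorem D23374 : act 4 n10975 = n23374 := rfl
theorem F36497 : act 2 n23374 = n10989 := d1_1 D23374 (iv4 D10989) (iv2 F17832)
theorem F36498 : act 6 n23374 = n19151 := d10_2 (iv6 F17834) D23374 (iv4 D19151)
def n23375 : Q := act 7 n10975
theorem D23375 : act 7 n10975 = n23375 := rfl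
theorem F36499 : act 2 n23375 = n10990 := d4_1 D23375 (iv7 D10990) (iv2 F17832)
theorem F36501 : act 5 n23375 = n10976 := d13_1 D23375 (iv7 D10976) D10975
theorem F36502 : act 1 n10990 = n23372 := d15_0 (iv0 D23372) D23375 F36499
theorem F36503 : act 1 n10988 = n23375 := d15_1 D10988 (iv7 D23375) F17832
theorem F36504 : act 1 n23375 = n10987 := d15_0 (iv0 D10987) D10990 (iv2 F36499)
def n23377 : Q := act 1 n10977
theorem D23377 : act 1 n10977 = n23377 := rfl
theorem F36506 : act 1 n23377 = n10982 := d15_1 D23377 (iv7 D10982) D10977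
def n23378 : Q := act 3 n10977
theorem D23378 : act 3 n10977 = n23378 := rfl
theorem F36507 : act 7 n23378 = n10983 := d8_2 F17841 D23378 (iv3 D10983)
def n23379 : Q := act 4 n10977
theorem D23379 : act 4 n10977 = n23379 := rfl
theorem F36508 : act 2 n23379 = n10979 := d1_1 D23379 (iv4 D10979) D10977
theorem F36509 : act 7 n23379 = n10984 := d11_2 F17841 D23379 (iv4 D10984)
def n23380 : Q := act 5 n10977
theorem D23380 : act 5 n10977 = n23380 := rfl
theorem F36510 : act 2 n23380 = n10980 := d2_1 D23380 (iv5 D10980) D10977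
theorem F36511 : act 7 n23380 = n10985 := d13_2 F17841 D23380 (iv5 D10985)
def n23381 : Q := act 6 n10977
theorem D23381 : act 6 n10977 = n23381 := rfl
theorem F36512 : act 2 n23381 = n10981 := d3_1 D23381 (iv6 D10981) D10977
def n23382 : Q := act 0 n10978
theorem D23382 : act 0 n10978 = n23382 := rfl
def n23383 : Q := act 1 n10978
theorem D23383 : act 1 n10978 = n23383 := rfl
def n23384 : Q := act 2 n10978
theorem D23384 : act 2 n10978 = n23384 := rfl
def n23385 : Q := act 5 n10978
theorem D23385 : act 5 n10978 = n23385 := rfl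
theorem F36513 : act 3 n23385 = n10980 := d6_1 D23385 (iv5 D10980) D10978
def n23386 : Q := act 6 n10978
theorem D23386 : act 6 n10978 = n23386 := rfl
theorem F36514 : act 3 n23386 = n10981 := d7_1 D23386 (iv6 D10981) D10978
def n23387 : Q := act 7 n10978
theorem D23387 : act 7 n10978 = n23387 := rfl
theorem F36515 : act 3 n23387 = n10982 := d8_1 D23387 (iv7 D10982) D10978
def n23388 : Q := act 0 n10979
theorem D23388 : act 0 n10979 = n23388 := rfl
def n23389 : Q := act 1 n10979
theorem D23389 : act 1 n10979 = n23389 := rfl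
theorem F36516 : act 1 n23389 = n10984 := d15_1 D23389 (iv7 F36509) F36508
def n23390 : Q := act 3 n10979
theorem D23390 : act 3 n10979 = n23390 := rfl
def n23391 : Q := act 5 n10979
theorem D23391 : act 5 n10979 = n23391 := rfl
def n23392 : Q := act 6 n10979
theorem D23392 : act 6 n10979 = n23392 := rfl
theorem F36517 : act 4 n23392 = n10981 := d10_1 D23392 (iv6 D10981) D10979
def n23393 : Q := act 7 n10979
theorem D23393 : act 7 n10979 = n23393 := rfl
theorem F36518 : act 2 n23393 = n10984 := d4_1 D23393 (iv7 F36509) F36508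
theorem F36519 : act 4 n23393 = n10982 := d11_1 D23393 (iv7 D10982) D10979
theorem F36520 : act 1 n10984 = n23388 := d15_0 (iv0 D23388) D23393 F36518
def n23394 : Q := act 0 n10980
theorem D23394 : act 0 n10980 = n23394 := rfl
def n23395 : Q := act 1 n10980
theorem D23395 : act 1 n10980 = n23395 := rfl
theorem F36521 : act 1 n23395 = n10985 := d15_1 D23395 (iv7 F36511) F36510
def n23396 : Q := act 4 n10980
theorem D23396 : act 4 n10980 = n23396 := rfl
def n23397 : Q := act 6 n10980
theorem D23397 : act 6 n10980 = n23397 := rfl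
def n23398 : Q := act 7 n10980
theorem D23398 : act 7 n10980 = n23398 := rfl
theorem F36522 : act 2 n23398 = n10985 := d4_1 D23398 (iv7 F36511) F36510
theorem F36523 : act 5 n23398 = n10982 := d13_1 D23398 (iv7 D10982) D10980
theorem F36524 : act 1 n10985 = n23394 := d15_0 (iv0 D23394) D23398 F36522
theorem F36525 : act 6 n19287 = n23394 := d21_9 (iv5 D10985) (iv1 D5002) D5003 F7425 F13898 (iv6 F14147) (iv5 D9068) D9066 D19287 (iv1 F36524)
def n23399 : Q := act 0 n10981
theorem D23399 : act 0 n10981 = n23399 := rfl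
def n23400 : Q := act 1 n10981
theorem D23400 : act 1 n10981 = n23400 := rfl
def n23401 : Q := act 5 n10981
theorem D23401 : act 5 n10981 = n23401 := rfl
theorem F36526 : act 0 n23401 = n19720 := d21_7 F7015 (iv1 F6411) (iv5 F1901) D2056 D5001 D10981 D23401 (iv5 D19720) (iv6 D9254) (iv1 F6088)
theorem F36527 : act 0 n19735 = n23401 := d21_1 (iv5 F31492) (iv5 D23401) (iv6 D10981) (iv1 F17840) F17837 (iv5 F30593) (iv1 F30595) D19094 (iv6 F31476) F31477
theorem F36528 : act 6 n19406 = n23400 := d21_9 D23401 F36526 (iv5 D19720) (iv6 D9254) (iv1 F6088) D8937 F13922 D19075 (iv5 F31035) (iv1 D23400)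
def n23402 : Q := act 7 n10981
theorem D23402 : act 7 n10981 = n23402 := rfl
def n23403 : Q := act 6 n10982
theorem D23403 : act 6 n10982 = n23403 := rfl
theorem F36529 : act 2 n23403 = n10986 := d3_1 D23403 (iv6 D10986) (iv2 F17842)
def n23404 : Q := act 0 n10983
theorem D23404 : act 0 n10983 = n23404 := rfl
def n23405 : Q := act 1 n10983
theorem D23405 : act 1 n10983 = n23405 := rfl
def n23406 : Q := act 2 n10983
theorem D23406 : act 2 n10983 = n23406 := rfl
def n23407 : Q := act 4 n10983
theorem D23407 : act 4 n10983 = n23407 := rfl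
def n23408 : Q := act 5 n10983
theorem D23408 : act 5 n10983 = n23408 := rfl
theorem F36530 : act 3 n23408 = n10985 := d6_1 D23408 (iv5 D10985) D10983
def n23409 : Q := act 6 n10983
theorem D23409 : act 6 n10983 = n23409 := rfl
theorem F36531 : act 3 n23409 = n10986 := d7_1 D23409 (iv6 D10986) D10983
def n23410 : Q := act 3 n10984
theorem D23410 : act 3 n10984 = n23410 := rfl
def n23411 : Q := act 5 n10984
theorem D23411 : act 5 n10984 = n23411 := rfl
def n23412 : Q := act 6 n10984
theorem D23412 : act 6 n10984 = n23412 := rfl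
theorem F36532 : act 4 n23412 = n10986 := d10_1 D23412 (iv6 D10986) D10984
def n23413 : Q := act 4 n10985
theorem D23413 : act 4 n10985 = n23413 := rfl
def n23414 : Q := act 6 n10985
theorem D23414 : act 6 n10985 = n23414 := rfl
theorem F36533 : act 0 n20251 = n23414 := d21_4 (iv5 D8925) F17513 D9571 D20251 (iv6 D23414) (iv5 D10985) (iv1 D5002) D5003 F7425 F13898
def n23415 : Q := act 0 n10986
theorem D23415 : act 0 n10986 = n23415 := rfl
def n23416 : Q := act 1 n10986
theorem D23416 : act 1 n10986 = n23416 := rfl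
def n23417 : Q := act 5 n10986
theorem D23417 : act 5 n10986 = n23417 := rfl
def n23418 : Q := act 7 n10986
theorem D23418 : act 7 n10986 = n23418 := rfl
def n23419 : Q := act 2 n10987
theorem D23419 : act 2 n10987 = n23419 := rfl
theorem F36534 : act 7 n10988 = n23419 := d15_2 (iv0 D10987) D10988 (iv2 D23419)
def n23420 : Q := act 3 n10987
theorem D23420 : act 3 n10987 = n23420 := rfl
def n23421 : Q := act 4 n10987
theorem D23421 : act 4 n10987 = n23421 := rfl
def n23422 : Q := act 5 n10987
theorem D23422 : act 5 n10987 = n23422 := rfl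
theorem F36535 : act 0 n19196 = n23422 := d21_10 (iv5 D23422) (iv1 F36504) F36501 F17837 (iv1 F14137) D9103 D19408 F31040 (iv5 D19195) D19196
def n23423 : Q := act 6 n10987
theorem D23423 : act 6 n10987 = n23423 := rfl
def n23424 : Q := act 7 n10987
theorem D23424 : act 7 n10987 = n23424 := rfl
theorem F36536 : act 2 n23424 = n10988 := d4_1 D23424 F36534 (iv2 D23419)
def n23425 : Q := act 3 n10988
theorem D23425 : act 3 n10988 = n23425 := rfl
def n23426 : Q := act 4 n10988
theorem D23426 : act 4 n10988 = n23426 := rfl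
def n23427 : Q := act 5 n10988
theorem D23427 : act 5 n10988 = n23427 := rfl
theorem F36537 : act 6 n23427 = n19060 := d21_3 (iv5 F36501) (iv1 F36503) D23427 (iv1 F30594) (iv6 F14457) (iv5 F31492) F36527 (iv5 D23401) (iv6 D10981) (iv1 F17840)
def n23428 : Q := act 6 n10988
theorem D23428 : act 6 n10988 = n23428 := rfl
def n23429 : Q := act 0 n10989
theorem D23429 : act 0 n10989 = n23429 := rfl
def n23430 : Q := act 1 n10989
theorem D23430 : act 1 n10989 = n23430 := rfl
def n23431 : Q := act 3 n10989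
theorem D23431 : act 3 n10989 = n23431 := rfl
theorem F36538 : act 4 n23431 = n11016 := d5_2 D10989 D23431 (iv3 D11016) (iv4 D5017) (iv3 F7424)
theorem F36539 : act 6 n23431 = n19420 := d7_2 (iv6 F17843) D23431 (iv3 D19420)
def n23432 : Q := act 5 n10989
theorem D23432 : act 5 n10989 = n23432 := rfl
def n23433 : Q := act 7 n10989
theorem D23433 : act 7 n10989 = n23433 := rfl
theorem F36540 : act 4 n23433 = n10990 := d11_1 D23433 (iv7 D10990) D10989
def n23435 : Q := act 3 n10991
theorem D23435 : act 3 n10991 = n23435 := rfl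
def n23436 : Q := act 4 n10991
theorem D23436 : act 4 n10991 = n23436 := rfl
theorem F36542 : act 0 n23436 = n22924 := d20_1 D23436 (iv4 D22924) (iv3 D10824) (iv1 D4935) F3322 F1909 D1764 F15274 D5006 D10991
def n23444 : Q := act 4 n10993
theorem D23444 : act 4 n10993 = n23444 := rfl
theorem F36544 : act 2 n23444 = n10994 := d1_1 D23444 (iv4 D10994) D10993
def n23445 : Q := act 5 n10993
theorem D23445 : act 5 n10993 = n23445 := rfl
theorem F36545 : act 2 n23445 = n10995 := d2_1 D23445 (iv5 D10995) D10993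
def n23446 : Q := act 6 n10993
theorem D23446 : act 6 n10993 = n23446 := rfl
theorem F36547 : act 2 n23446 = n10996 := d3_1 D23446 (iv6 D10996) D10993
def n23447 : Q := act 0 n10994
theorem D23447 : act 0 n10994 = n23447 := rfl
def n23448 : Q := act 1 n10994
theorem D23448 : act 1 n10994 = n23448 := rfl
def n23449 : Q := act 5 n10994
theorem D23449 : act 5 n10994 = n23449 := rfl
theorem F36549 : act 3 n23449 = n19437 := d6_1 D23449 (iv5 D19437) (iv3 F17847)
def n23450 : Q := act 6 n10994
theorem D23450 : act 6 n10994 = n23450 := rfl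
theorem F36550 : act 3 n23450 = n19438 := d7_1 D23450 (iv6 D19438) (iv3 F17847)
theorem F36551 : act 4 n23450 = n10996 := d10_1 D23450 (iv6 D10996) D10994
def n23451 : Q := act 0 n10995
theorem D23451 : act 0 n10995 = n23451 := rfl
def n23452 : Q := act 1 n10995
theorem D23452 : act 1 n10995 = n23452 := rfl
def n23453 : Q := act 4 n10995
theorem D23453 : act 4 n10995 = n23453 := rfl
def n23454 : Q := act 6 n10995
theorem D23454 : act 6 n10995 = n23454 := rfl
theorem F36552 : act 3 n23454 = n10999 := d7_1 D23454 (iv6 D10999) (iv3 F17848)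
def n23455 : Q := act 0 n10996
theorem D23455 : act 0 n10996 = n23455 := rfl
def n23456 : Q := act 1 n10996
theorem D23456 : act 1 n10996 = n23456 := rfl
def n23457 : Q := act 3 n10997
theorem D23457 : act 3 n10997 = n23457 := rfl
theorem F36553 : act 5 n23457 = n20890 := d6_2 (iv5 F17852) D23457 F33034
theorem F36554 : act 6 n23457 = n20744 := d7_2 F17854 D23457 (iv3 D20744)
def n23458 : Q := act 4 n10997
theorem D23458 : act 4 n10997 = n23458 := rfl
theorem F36557 : act 5 n23458 = n20720 := d9_2 (iv5 F17852) D23458 F32857 F15433 (iv4 F14828) F7455 F14790 (iv5 F14785) (iv4 F32020) (iv5 F32059) (iv4 D20215) (iv5 D9544) (iv4 F14801) (iv5 F14484) (iv4 F15563)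
theorem F36558 : act 6 n23458 = n20745 := d10_2 F17854 D23458 (iv4 D20745)
theorem F36559 : act 7 n23458 = n20185 := d11_2 (iv7 F17851) D23458 F32020
theorem F36561 : act 1 n23458 = n11077 := d18_6 (iv1 F16080) (iv4 D9293) D9291 (iv4 F15563) (iv5 F17852) D23458 (iv4 D11077) (iv0 F16121) (iv5 D10206)
def n23459 : Q := act 1 n10998
theorem D23459 : act 1 n10998 = n23459 := rfl
theorem F36564 : act 5 n23459 = n20726 := d17_7 F15435 F15433 F14827 F14460 D19753 F31525 D23459 (iv0 F32872) (iv4 D19748)
theorem F36565 : act 4 n23459 = n11048 := d17_9 (iv1 D11048) (iv5 D5035) F16091 D5050 D11078 F17950 (iv0 F31527) F31525 D23459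
theorem F36567 : act 6 n20321 = n23459 := d10_0 F36565 F17973 F32249
def n23461 : Q := act 6 n10998
theorem D23461 : act 6 n10998 = n23461 := rfl
theorem F36569 : act 4 n23461 = n10999 := d10_1 D23461 (iv6 D10999) D10998
theorem F36570 : act 1 n20723 = n23461 := d18_6 F15451 (iv4 F32251) (iv1 F32254) (iv4 F32249) (iv5 F17972) (iv4 F32864) F36569 (iv0 F32057) (iv5 D20214)
def n23463 : Q := act 3 n11000
theorem D23463 : act 3 n11000 = n23463 := rfl
def n23468 : Q := act 3 n11001
theorem D23468 : act 3 n11001 = n23468 := rfl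
theorem F36573 : act 4 n22908 = n23468 := d20_2 D10820 D22908 (iv3 D23468) (iv1 D11001) (iv3 D5011) (iv4 F15282) (iv1 D1765) (iv4 F1909) (iv3 F3322) D4934
def n23472 : Q := act 4 n11002
theorem D23472 : act 4 n11002 = n23472 := rfl
theorem F36574 : act 2 n23472 = n11003 := d1_1 D23472 (iv4 D11003) D11002
theorem F36575 : act 7 n23472 = n23444 := d11_2 (iv7 F17860) D23472 (iv4 D23444)
theorem F36576 : act 1 n23448 = n23472 := d15_1 D23448 F36575 F36544
theorem F36577 : act 1 n23472 = n23447 := d15_0 (iv0 D23447) (iv7 F17865) (iv2 F36574)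
def n23473 : Q := act 5 n11002
theorem D23473 : act 5 n11002 = n23473 := rfl
theorem F36578 : act 2 n23473 = n11004 := d2_1 D23473 (iv5 D11004) D11002
theorem F36580 : act 7 n23473 = n23445 := d13_2 (iv7 F17860) D23473 (iv5 D23445)
theorem F36581 : act 1 n23452 = n23473 := d15_1 D23452 F36580 F36545
def n23475 : Q := act 0 n11003
theorem D23475 : act 0 n11003 = n23475 := rfl
theorem F36585 : act 1 n23444 = n23475 := d15_0 (iv0 D23475) F17865 (iv2 F36544)
theorem F36586 : act 4 n22921 = n23475 := d20_0 (iv1 F36585) (iv4 D23444) F17846 (iv1 F17862) D23468 (iv4 F36573) (iv1 F35982) (iv4 D10825) D10824 D22921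
theorem F36587 : act 3 n22921 = n22903 := d20_3 D11003 D23475 (iv4 F36586) (iv1 D22903) (iv3 D10819) D10820 D22908 F36573 (iv3 D23468) (iv1 D11001)
def n23476 : Q := act 1 n11003
theorem D23476 : act 1 n11003 = n23476 := rfl
theorem F36588 : act 1 n23476 = n23444 := d15_1 D23476 (iv7 F36575) F36574
def n23477 : Q := act 5 n11003
theorem D23477 : act 5 n11003 = n23477 := rfl
theorem F36589 : act 3 n23477 = n19461 := d6_1 D23477 (iv5 D19461) (iv3 F17864)
theorem F36590 : act 7 n23477 = n23449 := d13_2 (iv7 F17865) D23477 (iv5 D23449)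
def n23478 : Q := act 6 n11003
theorem D23478 : act 6 n11003 = n23478 := rfl
theorem F36591 : act 3 n23478 = n19462 := d7_1 D23478 (iv6 D19462) (iv3 F17864)
theorem F36592 : act 4 n23478 = n11005 := d10_1 D23478 (iv6 D11005) D11003
def n23479 : Q := act 0 n11004
theorem D23479 : act 0 n11004 = n23479 := rfl
theorem F36593 : act 1 n23445 = n23479 := d15_0 (iv0 D23479) F17867 (iv2 F36545)
def n23480 : Q := act 1 n11004
theorem D23480 : act 1 n11004 = n23480 := rfl
theorem F36594 : act 1 n23480 = n23445 := d15_1 D23480 (iv7 F36580) F36578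
def n23481 : Q := act 4 n11004
theorem D23481 : act 4 n11004 = n23481 := rfl
theorem F36595 : act 7 n23481 = n23453 := d11_2 (iv7 F17867) D23481 (iv4 D23453)
def n23482 : Q := act 0 n11005
theorem D23482 : act 0 n11005 = n23482 := rfl
def n23483 : Q := act 1 n11005
theorem D23483 : act 1 n11005 = n23483 := rfl
def n23485 : Q := act 4 n11008
theorem D23485 : act 4 n11008 = n23485 := rfl
def n23486 : Q := act 6 n11008
theorem D23486 : act 6 n11008 = n23486 := rfl
theorem F36598 : act 5 n23486 = n20299 := d12_1 D23486 (iv6 F35710) (iv5 F33164) (iv6 F33156) (iv5 F35718)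
def n23488 : Q := act 6 n11009
theorem D23488 : act 6 n11009 = n23488 := rfl
theorem F36599 : act 2 n23488 = n23488 := d3_1 D23488 (iv6 D23488) F30673
theorem F36600 : act 4 n23488 = n11010 := d10_1 D23488 (iv6 D11010) D11009
def n23489 : Q := act 1 n11010
theorem D23489 : act 1 n11010 = n23489 := rfl
theorem F36601 : act 1 n23489 = n20298 := d15_1 D23489 F32217 F30676
theorem F36602 : act 5 n20334 = n23489 := d21_0 (iv1 D23489) F17873 (iv6 F15841) (iv1 D9528) D9530 F14785 D9906 F15560 D11010 F32266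
theorem F36603 : act 6 n20329 = n23489 := d21_3 F6359 D9611 D20329 (iv1 D23489) (iv6 D11010) (iv5 F15560) (iv1 F15565) (iv5 F17852) (iv6 F17854) (iv1 D9829)
def n23490 : Q := act 4 n11012
theorem D23490 : act 4 n11012 = n23490 := rfl
theorem F36604 : act 7 n23490 = n23485 := d11_2 (iv7 F30671) D23490 (iv4 D23485)
def n23491 : Q := act 3 n11013
theorem D23491 : act 3 n11013 = n23491 := rfl
def n23492 : Q := act 3 n11014
theorem D23492 : act 3 n11014 = n23492 := rfl
def n23493 : Q := act 6 n11014
theorem D23493 : act 6 n11014 = n23493 := rfl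
theorem F36607 : act 4 n23493 = n11080 := d10_1 D23493 (iv6 D11080) (iv4 F17876)
def n23495 : Q := act 0 n11016
theorem D23495 : act 0 n11016 = n23495 := rfl
def n23496 : Q := act 1 n11016
theorem D23496 : act 1 n11016 = n23496 := rfl
def n23497 : Q := act 2 n11016
theorem D23497 : act 2 n11016 = n23497 := rfl
theorem F36610 : act 6 n23497 = n19467 := d3_2 (iv6 F17881) D23497 (iv2 D19467)
def n23498 : Q := act 5 n11016
theorem D23498 : act 5 n11016 = n23498 := rfl
theorem F36611 : act 3 n23498 = n11017 := d6_1 D23498 (iv5 D11017) D11016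
theorem F36612 : act 7 n19757 = n23498 := d8_0 F36611 F17884 D19757
def n23499 : Q := act 7 n11016
theorem D23499 : act 7 n11016 = n23499 := rfl
theorem F36613 : act 3 n23499 = n11018 := d8_1 D23499 (iv7 D11018) D11016
theorem F36614 : act 5 n23499 = n19757 := d13_1 D23499 F36612 (iv5 D23498)
theorem F36615 : act 6 n23499 = n23498 := d14_1 D23499 (iv7 F36612) F31540 F14541 (iv6 F17881)
def n23500 : Q := act 1 n11021
theorem D23500 : act 1 n11021 = n23500 := rfl
theorem F36616 : act 1 n23500 = n11026 := d15_1 D23500 (iv7 F35379) (iv2 F35385)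
theorem F36617 : act 4 n22760 = n23500 := d20_0 (iv1 D23500) (iv4 D11021) (iv3 F34856) (iv1 D10805) (iv3 D4929) D4930 F35584 (iv4 F30770) (iv3 F30833) F35589
theorem F36618 : act 3 n23500 = n22755 := d5_1 F36617 (iv4 D22755) (iv3 D10759) D10760 D22760
def n23501 : Q := act 3 n11021
theorem D23501 : act 3 n11021 = n23501 := rfl
def n23502 : Q := act 5 n11021
theorem D23502 : act 5 n11021 = n23502 := rfl
def n23503 : Q := act 6 n11021
theorem D23503 : act 6 n11021 = n23503 := rfl
theorem F36619 : act 4 n23503 = n11023 := d10_1 D23503 (iv6 D11023) D11021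
def n23506 : Q := act 5 n11023
theorem D23506 : act 5 n11023 = n23506 := rfl
def n23507 : Q := act 7 n11023
theorem D23507 : act 7 n11023 = n23507 := rfl
def n23508 : Q := act 4 n11025
theorem D23508 : act 4 n11025 = n23508 := rfl
theorem F36620 : act 2 n23508 = n19382 := d1_1 D23508 F34852 (iv2 F35376)
theorem F36621 : act 7 n23508 = n19381 := d11_2 (iv7 F35377) D23508 (iv4 F35319)
theorem F36622 : act 0 n19264 = n23508 := d20_1 D19264 (iv4 D23508) (iv3 D11025) (iv1 D5026) (iv3 D2062) D2063 F16091 F3368 (iv3 F6007) (iv1 F14133)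
theorem F36623 : act 1 n19261 = n23508 := d15_0 (iv0 F36622) F31048 (iv2 F31055)
def n23509 : Q := act 6 n11025
theorem D23509 : act 6 n11025 = n23509 := rfl
theorem F36624 : act 2 n23509 = n22818 := d3_1 D23509 (iv6 D22818) (iv2 F35376)
theorem F36625 : act 3 n23509 = n11028 := d7_1 D23509 (iv6 D11028) D11025
def n23510 : Q := act 3 n11026
theorem D23510 : act 3 n11026 = n23510 := rfl
def n23511 : Q := act 5 n11026
theorem D23511 : act 5 n11026 = n23511 := rfl
def n23512 : Q := act 6 n11026
theorem D23512 : act 6 n11026 = n23512 := rfl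
theorem F36626 : act 4 n23512 = n11028 := d10_1 D23512 (iv6 D11028) D11026
def n23513 : Q := act 0 n11028
theorem D23513 : act 0 n11028 = n23513 := rfl
def n23516 : Q := act 7 n11028
theorem D23516 : act 7 n11028 = n23516 := rfl
def n23517 : Q := act 3 n11029
theorem D23517 : act 3 n11029 = n23517 := rfl
theorem F36627 : act 4 n23517 = n23517 := d5_2 D11029 D23517 (iv3 D23517) (iv4 D11029) F7480
def n23518 : Q := act 5 n11029
theorem D23518 : act 5 n11029 = n23518 := rfl
theorem F36628 : act 2 n23518 = n11035 := d2_1 D23518 (iv5 D11035) (iv2 F17893)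
def n23519 : Q := act 6 n11029
theorem D23519 : act 6 n11029 = n23519 := rfl
theorem F36629 : act 2 n23519 = n11036 := d3_1 D23519 (iv6 D11036) (iv2 F17893)
theorem F36630 : act 4 n23519 = n11031 := d10_1 D23519 (iv6 D11031) D11029
def n23520 : Q := act 4 n11030
theorem D23520 : act 4 n11030 = n23520 := rfl
theorem F36631 : act 2 n23520 = n11039 := d1_1 D23520 (iv4 D11039) (iv2 F17894)
theorem F36632 : act 7 n23520 = n23519 := d11_2 (iv7 F17899) D23520 F36630
def n23521 : Q := act 6 n11030
theorem D23521 : act 6 n11030 = n23521 := rfl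
theorem F36633 : act 2 n23521 = n11040 := d3_1 D23521 (iv6 D11040) (iv2 F17894)
theorem F36635 : act 5 n23521 = n11064 := d12_1 D23521 (iv6 D11064) F17898 (iv6 D11031) D11030
theorem F36636 : act 7 n23521 = n11064 := d14_2 (iv7 F17899) D23521 (iv6 D11064) F7484 D11031
theorem F36637 : act 1 n11071 = n23521 := d15_1 D11071 F36636 F17929
def n23522 : Q := act 3 n11032
theorem D23522 : act 3 n11032 = n23522 := rfl
theorem F36639 : act 7 n23522 = n23167 := d8_2 (iv7 F35643) D23522 F36254
def n23523 : Q := act 4 n11032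
theorem D23523 : act 4 n11032 = n23523 := rfl
theorem F36640 : act 2 n23523 = n19397 := d1_1 D23523 F35314 F35642
theorem F36641 : act 7 n23523 = n19198 := d11_2 (iv7 F35643) D23523 F30834
theorem F36642 : act 3 n23523 = n22758 := d20_3 D5028 D11032 D23523 (iv1 F35307) (iv3 F17290) D19264 F36622 (iv4 D23508) (iv3 D11025) (iv1 D5026)
theorem F36643 : act 0 n19260 = n23523 := d20_10 (iv4 D23523) (iv1 F17928) (iv4 D11063) F7483 (iv1 F7487) D11025 D23508 (iv1 F36623) (iv4 D19261) D19260
theorem F36644 : act 1 n19398 = n23523 := d15_0 (iv0 F36643) F31054 D19398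
def n23524 : Q := act 5 n11032
theorem D23524 : act 5 n11032 = n23524 := rfl
theorem F36645 : act 7 n23524 = n23168 := d13_2 (iv7 F35643) D23524 (iv5 D23168)
def n23525 : Q := act 0 n11034
theorem D23525 : act 0 n11034 = n23525 := rfl
def n23526 : Q := act 1 n11034
theorem D23526 : act 1 n11034 = n23526 := rfl
theorem F36646 : act 4 n23463 = n23526 := d20_6 F3368 (iv1 F3023) F15282 D5011 D11000 D23463 (iv1 D23526) F17900 (iv3 D5034) F16091
def n23527 : Q := act 2 n11034
theorem D23527 : act 2 n11034 = n23527 := rfl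
theorem F36647 : act 4 n23527 = n11045 := d1_2 (iv4 F17900) D23527 (iv2 D11045)
def n23528 : Q := act 5 n11034
theorem D23528 : act 5 n11034 = n23528 := rfl
theorem F36648 : act 3 n23528 = n11035 := d6_1 D23528 (iv5 D11035) D11034
def n23529 : Q := act 6 n11034
theorem D23529 : act 6 n11034 = n23529 := rfl
theorem F36649 : act 3 n23529 = n11036 := d7_1 D23529 (iv6 D11036) D11034
theorem F36650 : act 4 n23529 = n11047 := d10_1 D23529 (iv6 D11047) (iv4 F17900)
def n23530 : Q := act 0 n11035
theorem D23530 : act 0 n11035 = n23530 := rfl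
def n23531 : Q := act 1 n11035
theorem D23531 : act 1 n11035 = n23531 := rfl
def n23532 : Q := act 4 n11035
theorem D23532 : act 4 n11035 = n23532 := rfl
def n23533 : Q := act 6 n11035
theorem D23533 : act 6 n11035 = n23533 := rfl
def n23534 : Q := act 0 n11036
theorem D23534 : act 0 n11036 = n23534 := rfl
theorem F36651 : act 1 n23520 = n23534 := d15_0 (iv0 D23534) (iv7 F17904) (iv2 F36631)
def n23535 : Q := act 1 n11036
theorem D23535 : act 1 n11036 = n23535 := rfl
theorem F36652 : act 1 n23535 = n23520 := d15_1 D23535 F36632 F36629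
def n23536 : Q := act 5 n11036
theorem D23536 : act 5 n11036 = n23536 := rfl
theorem F36653 : act 0 n23536 = n21304 := d21_7 D10278 F16276 F16012 D10857 F35640 D11036 D23536 (iv5 D21304) (iv6 D10169) (iv1 F6748)
def n23537 : Q := act 2 n11037
theorem D23537 : act 2 n11037 = n23537 := rfl
theorem F36654 : act 7 n11038 = n23537 := d15_2 (iv0 D11037) D11038 (iv2 D23537)
def n23538 : Q := act 3 n11037
theorem D23538 : act 3 n11037 = n23538 := rfl
def n23539 : Q := act 4 n11037
theorem D23539 : act 4 n11037 = n23539 := rfl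
def n23540 : Q := act 5 n11037
theorem D23540 : act 5 n11037 = n23540 := rfl
def n23541 : Q := act 6 n11037
theorem D23541 : act 6 n11037 = n23541 := rfl
def n23542 : Q := act 7 n11037
theorem D23542 : act 7 n11037 = n23542 := rfl
theorem F36655 : act 2 n23542 = n11038 := d4_1 D23542 F36654 (iv2 D23537)
def n23543 : Q := act 3 n11038
theorem D23543 : act 3 n11038 = n23543 := rfl
def n23544 : Q := act 4 n11038
theorem D23544 : act 4 n11038 = n23544 := rfl
def n23547 : Q := act 0 n11039
theorem D23547 : act 0 n11039 = n23547 := rfl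
theorem F36656 : act 1 n23519 = n23547 := d15_0 (iv0 D23547) F17904 (iv2 F36629)
def n23548 : Q := act 1 n11039
theorem D23548 : act 1 n11039 = n23548 := rfl
theorem F36657 : act 1 n23548 = n23519 := d15_1 D23548 (iv7 F36632) F36631
def n23549 : Q := act 3 n11039
theorem D23549 : act 3 n11039 = n23549 := rfl
theorem F36658 : act 4 n23549 = n11052 := d5_2 D11039 D23549 (iv3 D11052) (iv4 D5040) (iv3 F7446)
theorem F36659 : act 7 n23549 = n23529 := d8_2 (iv7 F17904) D23549 F36649
def n23550 : Q := act 5 n11039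
theorem D23550 : act 5 n11039 = n23550 := rfl
theorem F36660 : act 7 n23550 = n23536 := d13_2 (iv7 F17904) D23550 (iv5 D23536)
theorem F36661 : act 1 n23550 = n21673 := d17_6 (iv1 F16112) (iv5 F35875) (iv1 D5026) D5029 D11039 D23550 (iv5 D21673) (iv0 F35863) (iv4 D19800)
def n23551 : Q := act 6 n11039
theorem D23551 : act 6 n11039 = n23551 := rfl
theorem F36662 : act 4 n23551 = n11040 := d10_1 D23551 (iv6 D11040) D11039
theorem F36663 : act 7 n23551 = n11069 := d14_2 (iv7 F17904) D23551 (iv6 D11069) F7488 D11036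
def n23552 : Q := act 0 n11040
theorem D23552 : act 0 n11040 = n23552 := rfl
theorem F36664 : act 1 n11064 = n23552 := d15_0 (iv0 D23552) F17907 (iv2 F17929)
def n23553 : Q := act 1 n11040
theorem D23553 : act 1 n11040 = n23553 := rfl
theorem F36665 : act 1 n23553 = n11064 := d15_1 D23553 (iv7 F36636) F36633
def n23554 : Q := act 2 n11041
theorem D23554 : act 2 n11041 = n23554 := rfl
theorem F36666 : act 7 n11042 = n23554 := d15_2 (iv0 D11041) D11042 (iv2 D23554)
def n23555 : Q := act 3 n11041
theorem D23555 : act 3 n11041 = n23555 := rfl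
def n23556 : Q := act 4 n11041
theorem D23556 : act 4 n11041 = n23556 := rfl
def n23557 : Q := act 5 n11041
theorem D23557 : act 5 n11041 = n23557 := rfl
def n23558 : Q := act 6 n11041
theorem D23558 : act 6 n11041 = n23558 := rfl
def n23559 : Q := act 7 n11041
theorem D23559 : act 7 n11041 = n23559 := rfl
theorem F36667 : act 2 n23559 = n11042 := d4_1 D23559 F36666 (iv2 D23554)
def n23560 : Q := act 3 n11042
theorem D23560 : act 3 n11042 = n23560 := rfl
def n23561 : Q := act 4 n11042
theorem D23561 : act 4 n11042 = n23561 := rfl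
def n23562 : Q := act 5 n11042
theorem D23562 : act 5 n11042 = n23562 := rfl
def n23563 : Q := act 6 n11042
theorem D23563 : act 6 n11042 = n23563 := rfl
def n23565 : Q := act 3 n11043
theorem D23565 : act 3 n11043 = n23565 := rfl
theorem F36669 : act 4 n23565 = n23476 := d20_6 F1904 D1025 D2063 D5034 D11043 D23565 (iv1 D23476) (iv4 D11003) (iv3 D5011) (iv1 D2058)
def n23566 : Q := act 4 n11043
theorem D23566 : act 4 n11043 = n23566 := rfl
theorem F36670 : act 0 n23566 = n23407 := d20_1 D23566 (iv4 D23407) (iv3 D10983) (iv1 D5002) F3356 F1904 D1025 D2063 D5034 D11043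
def n23574 : Q := act 5 n11045
theorem D23574 : act 5 n11045 = n23574 := rfl
theorem F36672 : act 2 n23574 = n11046 := d2_1 D23574 (iv5 D11046) D11045
def n23575 : Q := act 6 n11045
theorem D23575 : act 6 n11045 = n23575 := rfl
theorem F36674 : act 2 n23575 = n11047 := d3_1 D23575 (iv6 D11047) D11045
theorem F36675 : act 3 n23575 = n23575 := d7_1 D23575 (iv6 D23575) F17910
def n23577 : Q := act 1 n11046
theorem D23577 : act 1 n11046 = n23577 := rfl
def n23578 : Q := act 4 n11046
theorem D23578 : act 4 n11046 = n23578 := rfl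
def n23579 : Q := act 6 n11046
theorem D23579 : act 6 n11046 = n23579 := rfl
def n23580 : Q := act 0 n11047
theorem D23580 : act 0 n11047 = n23580 := rfl
def n23581 : Q := act 1 n11047
theorem D23581 : act 1 n11047 = n23581 := rfl
def n23582 : Q := act 3 n11048
theorem D23582 : act 3 n11048 = n23582 := rfl
theorem F36678 : act 7 n23582 = n21424 := d8_2 (iv7 F17914) D23582 F33638
def n23587 : Q := act 2 n11051
theorem D23587 : act 2 n11051 = n23587 := rfl
theorem F36684 : act 5 n23587 = n21821 := d2_2 (iv5 F17920) D23587 F34273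
theorem F36685 : act 7 n23587 = n23288 := d4_2 (iv7 F17921) D23587 F36381
def n23588 : Q := act 4 n11051
theorem D23588 : act 4 n11051 = n23588 := rfl
theorem F36689 : act 7 n23588 = n23292 := d11_2 (iv7 F17921) D23588 F36391
def n23590 : Q := act 1 n11052
theorem D23590 : act 1 n11052 = n23590 := rfl
def n23591 : Q := act 2 n11052
theorem D23591 : act 2 n11052 = n23591 := rfl
theorem F36692 : act 7 n23591 = n23575 := d4_2 (iv7 F17922) D23591 F36674
theorem F36693 : act 1 n23591 = n23580 := d15_0 (iv0 D23580) (iv7 F17922) D23591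
theorem F36694 : act 1 n23590 = n23575 := d15_1 D23590 (iv7 F36692) (iv2 D23591)
theorem F36695 : act 1 n23581 = n23591 := d15_1 D23581 F36692 F36674
def n23592 : Q := act 6 n11054
theorem D23592 : act 6 n11054 = n23592 := rfl
theorem F36696 : act 2 n23592 = n22864 := d3_1 D23592 (iv6 D22864) (iv2 F35357)
def n23593 : Q := act 0 n11055
theorem D23593 : act 0 n11055 = n23593 := rfl
theorem F36698 : act 4 n23593 = n19260 := d20_2 D11055 D23593 (iv3 D19260) (iv1 F14136) F6007 (iv4 F3368) F16089 (iv4 D2068) D2067 D5042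
theorem F36699 : act 1 n11060 = n23593 := d15_0 (iv0 D23593) (iv7 F35384) F35385
theorem F36700 : act 2 n23500 = n23593 := d1_3 F36698 (iv2 F35309) F36617
theorem F36701 : act 7 n19399 = n23593 := d11_0 F36698 F31054 D19399
def n23594 : Q := act 1 n11055
theorem D23594 : act 1 n11055 = n23594 := rfl
theorem F36702 : act 1 n23594 = n11060 := d15_1 D23594 F35379 (iv2 F35381)
theorem F36703 : act 7 n23594 = n23500 := d15_2 (iv0 D23593) D23594 F36700
theorem F36704 : act 4 n19398 = n23594 := d20_0 (iv1 D23594) (iv4 D11055) D11054 F34880 (iv3 D10634) D10635 D22339 F35952 (iv3 F36642) (iv1 F36644)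
theorem F36705 : act 2 n23594 = n19399 := d1_1 F36704 (iv4 D19399) D19398
def n23595 : Q := act 3 n11055
theorem D23595 : act 3 n11055 = n23595 := rfl
theorem F36706 : act 7 n23595 = n23501 := d8_2 F35384 D23595 (iv3 D23501)
def n23596 : Q := act 5 n11055
theorem D23596 : act 5 n11055 = n23596 := rfl
theorem F36708 : act 7 n23596 = n23502 := d13_2 F35384 D23596 (iv5 D23502)
def n23597 : Q := act 6 n11055
theorem D23597 : act 6 n11055 = n23597 := rfl
theorem F36710 : act 4 n23597 = n11057 := d10_1 D23597 (iv6 D11057) D11055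
def n23601 : Q := act 7 n11057
theorem D23601 : act 7 n11057 = n23601 := rfl
theorem F36713 : act 2 n23601 = n23516 := d4_1 D23601 (iv7 D23516) (iv2 F35383)
theorem F36714 : act 6 n23601 = n23507 := d14_1 D23601 (iv7 D23507) (iv6 D11023) (iv7 F35371) D11057
theorem F36717 : act 1 n23601 = n23513 := d15_0 (iv0 D23513) D23516 (iv2 F36713)
def n23602 : Q := act 3 n11060
theorem D23602 : act 3 n11060 = n23602 := rfl
theorem F36718 : act 7 n23602 = n23510 := d8_2 (iv7 F35379) D23602 (iv3 D23510)
def n23603 : Q := act 5 n11060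
theorem D23603 : act 5 n11060 = n23603 := rfl
theorem F36719 : act 2 n23603 = n23502 := d2_1 D23603 (iv5 D23502) F35385
theorem F36720 : act 7 n23603 = n23511 := d13_2 (iv7 F35379) D23603 (iv5 D23511)
def n23604 : Q := act 6 n11060
theorem D23604 : act 6 n11060 = n23604 := rfl
def n23607 : Q := act 5 n11062
theorem D23607 : act 5 n11062 = n23607 := rfl
theorem F36724 : act 2 n23607 = n23506 := d2_1 D23607 (iv5 D23506) F35388
theorem F36725 : act 0 n23607 = n11081 := d21_7 (iv5 F35868) (iv1 F7485) F17898 (iv6 D11031) (iv1 F7486) D11062 D23607 F17955 (iv6 D9283) D9278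
def n23608 : Q := act 7 n11062
theorem D23608 : act 7 n11062 = n23608 := rfl
theorem F36727 : act 6 n23608 = n23516 := d14_1 D23608 (iv7 D23516) (iv6 D11028) F35373 D11062
def n23609 : Q := act 3 n11063
theorem D23609 : act 3 n11063 = n23609 := rfl
theorem F36731 : act 4 n23609 = n23609 := d5_2 D11063 D23609 (iv3 D23609) (iv4 D11063) F7483
theorem F36732 : act 7 n23609 = n23517 := d8_2 (iv7 F17926) D23609 (iv3 D23517)
def n23610 : Q := act 5 n11063
theorem D23610 : act 5 n11063 = n23610 := rfl
theorem F36733 : act 2 n23610 = n11068 := d2_1 D23610 (iv5 D11068) (iv2 F17925)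
theorem F36734 : act 7 n23610 = n23518 := d13_2 (iv7 F17926) D23610 (iv5 D23518)
theorem F36735 : act 1 n23531 = n23610 := d15_1 D23531 F36734 F36628
theorem F36736 : act 1 n23610 = n23530 := d15_0 (iv0 D23530) (iv7 F17935) (iv2 F36733)
def n23611 : Q := act 6 n11063
theorem D23611 : act 6 n11063 = n23611 := rfl
theorem F36737 : act 2 n23611 = n11069 := d3_1 D23611 (iv6 D11069) (iv2 F17925)
theorem F36738 : act 4 n23611 = n11064 := d10_1 D23611 (iv6 D11064) D11063
def n23612 : Q := act 3 n11066
theorem D23612 : act 3 n11066 = n23612 := rfl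
theorem F36739 : act 7 n23612 = n23008 := d8_2 (iv7 F35593) D23612 F36069
def n23613 : Q := act 5 n11066
theorem D23613 : act 5 n11066 = n23613 := rfl
theorem F36740 : act 2 n23613 = n23524 := d2_1 D23613 (iv5 D23524) (iv2 F35642)
theorem F36741 : act 7 n23613 = n23009 := d13_2 (iv7 F35593) D23613 (iv5 D23009)
def n23614 : Q := act 0 n11067
theorem D23614 : act 0 n11067 = n23614 := rfl
theorem F36742 : act 1 n23527 = n23614 := d15_0 (iv0 D23614) F17934 D23527
def n23615 : Q := act 1 n11067
theorem D23615 : act 1 n11067 = n23615 := rfl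
theorem F36743 : act 4 n23435 = n23615 := d20_6 F1909 D1764 F15274 D5006 D10991 D23435 (iv1 D23615) F17933 (iv3 D5047) (iv1 F16088)
def n23616 : Q := act 2 n11067
theorem D23616 : act 2 n11067 = n23616 := rfl
theorem F36744 : act 4 n23616 = n11074 := d1_2 (iv4 F17933) D23616 (iv2 D11074)
theorem F36745 : act 7 n23616 = n23527 := d4_2 (iv7 F17934) D23616 (iv2 D23527)
theorem F36747 : act 1 n23615 = n23527 := d15_1 D23615 (iv7 F36745) (iv2 D23616)
theorem F36748 : act 1 n23526 = n23616 := d15_1 D23526 F36745 (iv2 D23527)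
def n23617 : Q := act 5 n11067
theorem D23617 : act 5 n11067 = n23617 := rfl
theorem F36749 : act 3 n23617 = n11068 := d6_1 D23617 (iv5 D11068) D11067
theorem F36750 : act 7 n23617 = n23528 := d13_2 (iv7 F17934) D23617 (iv5 D23528)
def n23618 : Q := act 6 n11067
theorem D23618 : act 6 n11067 = n23618 := rfl
theorem F36751 : act 3 n23618 = n11069 := d7_1 D23618 (iv6 D11069) D11067
theorem F36752 : act 4 n23618 = n11076 := d10_1 D23618 (iv6 D11076) (iv4 F17933)
def n23619 : Q := act 0 n11068
theorem D23619 : act 0 n11068 = n23619 := rfl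
theorem F36753 : act 1 n23518 = n23619 := d15_0 (iv0 D23619) F17935 (iv2 F36628)
def n23620 : Q := act 1 n11068
theorem D23620 : act 1 n11068 = n23620 := rfl
theorem F36754 : act 1 n23620 = n23518 := d15_1 D23620 (iv7 F36734) F36733
theorem F36755 : act 5 n23620 = n21693 := d21_2 D23518 (iv1 F36754) (iv6 D21693) (iv1 D10351) (iv6 D4691) D4690 D10346 F16465 D10909 F35591
def n23621 : Q := act 4 n11068
theorem D23621 : act 4 n11068 = n23621 := rfl
theorem F36756 : act 7 n23621 = n23532 := d11_2 (iv7 F17935) D23621 (iv4 D23532)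
def n23622 : Q := act 6 n11068
theorem D23622 : act 6 n11068 = n23622 := rfl
def n23623 : Q := act 0 n11069
theorem D23623 : act 0 n11069 = n23623 := rfl
def n23624 : Q := act 1 n11069
theorem D23624 : act 1 n11069 = n23624 := rfl
theorem F36757 : act 4 n20054 = n23624 := d20_6 F15315 F15314 F15304 (iv3 F31097) F35611 (iv3 F31881) (iv1 D23624) F17936 F7489 F7457
theorem F36758 : act 6 n23624 = n20052 := d10_2 D20054 F36757 (iv4 D20052)
theorem F36759 : act 2 n23018 = n23624 := d3_3 F36758 F35764 D23018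
theorem F36760 : act 5 n23624 = n21336 := d21_6 D10168 (iv1 F17640) (iv5 D10848) D10849 F31879 (iv6 F36758) (iv1 D21336) (iv5 D10179) (iv6 D4623) D4620
def n23625 : Q := act 5 n11069
theorem D23625 : act 5 n11069 = n23625 := rfl
def n23637 : Q := act 3 n11072
theorem D23637 : act 3 n11072 = n23637 := rfl
theorem F36764 : act 4 n23637 = n23448 := d20_6 F3360 (iv1 F1907) D2068 D5047 D11072 D23637 (iv1 D23448) (iv4 D10994) (iv3 D5006) (iv1 F3362)
def n23638 : Q := act 4 n11072
theorem D23638 : act 4 n11072 = n23638 := rfl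
def n23642 : Q := act 3 n11073
theorem D23642 : act 3 n11073 = n23642 := rfl
theorem F36766 : act 4 n23388 = n23642 := d20_2 D10979 D23388 (iv3 D23642) (iv1 D11073) (iv3 D5047) (iv4 D2068) (iv1 D1026) (iv4 F1904) (iv3 F3356) D5001
theorem F36767 : act 4 n23404 = n23614 := d20_0 (iv1 F36742) F36647 F17910 (iv1 F17941) D23642 (iv4 F36766) (iv1 F36520) (iv4 D10984) D10983 D23404
theorem F36768 : act 3 n23404 = n23383 := d20_3 (iv4 F17933) D23614 (iv4 F36767) (iv1 D23383) (iv3 D10978) D10979 D23388 F36766 (iv3 D23642) (iv1 D11073)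
def n23643 : Q := act 4 n11073
theorem D23643 : act 4 n11073 = n23643 := rfl
def n23646 : Q := act 5 n11074
theorem D23646 : act 5 n11074 = n23646 := rfl
theorem F36769 : act 2 n23646 = n11075 := d2_1 D23646 (iv5 D11075) D11074
theorem F36771 : act 7 n23646 = n23574 := d13_2 (iv7 F17939) D23646 (iv5 D23574)
theorem F36772 : act 1 n23577 = n23646 := d15_1 D23577 F36771 F36672
def n23647 : Q := act 6 n11074
theorem D23647 : act 6 n11074 = n23647 := rfl
theorem F36774 : act 2 n23647 = n11076 := d3_1 D23647 (iv6 D11076) D11074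
def n23648 : Q := act 0 n11075
theorem D23648 : act 0 n11075 = n23648 := rfl
def n23649 : Q := act 1 n11075
theorem D23649 : act 1 n11075 = n23649 := rfl
theorem F36777 : act 1 n23649 = n23574 := d15_1 D23649 (iv7 F36771) F36769
def n23650 : Q := act 4 n11075
theorem D23650 : act 4 n11075 = n23650 := rfl
theorem F36778 : act 7 n23650 = n23578 := d11_2 (iv7 F17944) D23650 (iv4 D23578)
def n23651 : Q := act 0 n11076
theorem D23651 : act 0 n11076 = n23651 := rfl
def n23652 : Q := act 1 n11076
theorem D23652 : act 1 n11076 = n23652 := rfl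
def n23654 : Q := act 3 n11078
theorem D23654 : act 3 n11078 = n23654 := rfl
theorem F36781 : act 7 n23654 = n11082 := d8_2 (iv7 F17949) D23654 (iv3 D11082)
def n23655 : Q := act 0 n11079
theorem D23655 : act 0 n11079 = n23655 := rfl
def n23656 : Q := act 1 n11079
theorem D23656 : act 1 n11079 = n23656 := rfl
def n23657 : Q := act 2 n11079
theorem D23657 : act 2 n11079 = n23657 := rfl
theorem F36782 : act 3 n23657 = n23657 := d0_2 D11079 D23657 (iv2 D23657) (iv3 D11079) F16086
def n23658 : Q := act 4 n11079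
theorem D23658 : act 4 n11079 = n23658 := rfl
def n23659 : Q := act 6 n11079
theorem D23659 : act 6 n11079 = n23659 := rfl
theorem F36783 : act 3 n23659 = n11080 := d7_1 D23659 (iv6 D11080) D11079
theorem F36784 : act 5 n23659 = n20380 := d12_1 D23659 (iv6 F36143) F36142 F31588 F31552
def n23660 : Q := act 0 n11080
theorem D23660 : act 0 n11080 = n23660 := rfl
theorem F36785 : act 1 n20379 = n23660 := d15_0 (iv0 D23660) (iv7 F32357) F32355
def n23661 : Q := act 1 n11080
theorem D23661 : act 1 n11080 = n23661 := rfl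
theorem F36786 : act 1 n23661 = n20379 := d15_1 D23661 F32357 F17953
theorem F36787 : act 5 n23660 = n23661 := d21_0 (iv1 D23661) F17954 (iv6 F17669) (iv1 D10883) (iv6 F16120) (iv5 D10206) (iv1 F16080) F16082 D11080 D23660
theorem F36788 : act 6 n11095 = n23660 := d21_5 (iv5 D4959) (iv1 F3330) (iv5 F7382) D10900 (iv1 F17983) F36787 (iv1 D23661) F17954 (iv6 F17669) (iv1 D10883)
def n23662 : Q := act 0 n11081
theorem D23662 : act 0 n11081 = n23662 := rfl
theorem F36789 : act 1 n23657 = n23662 := d15_0 (iv0 D23662) F17956 D23657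
def n23663 : Q := act 2 n11081
theorem D23663 : act 2 n11081 = n23663 := rfl
theorem F36791 : act 5 n23663 = n19770 := d2_2 (iv5 F17955) D23663 F31546
theorem F36792 : act 7 n23663 = n23657 := d4_2 (iv7 F17956) D23663 (iv2 D23657)
theorem F36793 : act 1 n23663 = n23655 := d15_0 (iv0 D23655) (iv7 F17956) D23663
theorem F36794 : act 1 n23607 = n23657 := d15_1 (iv0 F36725) (iv7 F36792) (iv2 D23663)
theorem F36795 : act 7 n23662 = n23506 := d15_2 F36794 F36789 (iv2 F36724)
theorem F36796 : act 5 n23507 = n23662 := d13_3 F36795 (iv5 D23506) D23507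
theorem E4709 : n23655 = n23506 := ((c21_7 (iv5 F35838) (iv1 D5043) F7448 (iv6 D5030) D5025 D11023 D23506 (iv1 F36793) F36791 (iv6 D19770) (iv1 F16113))).symm
theorem F36797 : act 0 n23506 = n23663 := (sb E4709 (iv1 F36793))
theorem F36798 : act 1 n23506 = n11079 := (sb E4709 (iv0 D23655))
theorem F36799 : act 7 n23656 = n23607 := d15_2 F36798 D23656 F36724
theorem F36800 : act 2 n23662 = n23656 := d4_3 F36799 F36724 (iv7 F36795)
theorem F36801 : act 5 n23608 = n23656 := d13_3 F36799 (iv5 D23607) D23608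
theorem F36802 : act 1 n23656 = n23663 := d15_0 (iv0 F36797) (iv7 F36795) F36800
def n23664 : Q := act 4 n11081
theorem D23664 : act 4 n11081 = n23664 := rfl
theorem F36803 : act 7 n23664 = n23658 := d11_2 (iv7 F17956) D23664 (iv4 D23658)
def n23665 : Q := act 0 n11082
theorem D23665 : act 0 n11082 = n23665 := rfl
def n23666 : Q := act 1 n11082
theorem D23666 : act 1 n11082 = n23666 := rfl
def n23667 : Q := act 2 n11082
theorem D23667 : act 2 n11082 = n23667 := rfl
def n23669 : Q := act 4 n11084
theorem D23669 : act 4 n11084 = n23669 := rfl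
theorem F36809 : act 7 n23669 = n18865 := d11_2 (iv7 F17963) D23669 (iv4 D18865)
def n23670 : Q := act 6 n11084
theorem D23670 : act 6 n11084 = n23670 := rfl
theorem F36810 : act 3 n23670 = n13310 := d7_1 D23670 (iv6 D13310) (iv3 F17962)
def n23671 : Q := act 0 n11085
theorem D23671 : act 0 n11085 = n23671 := rfl
theorem F36811 : act 4 n23671 = n20102 := d18_3 (iv1 F16897) D11085 D23671 (iv5 D20102) (iv4 F14735) (iv0 D7778) F5555 D4002 D8974
theorem F36812 : act 2 n19145 = n23671 := d15_3 (iv0 D23671) (iv0 F32699) F32698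
theorem F36813 : act 1 n19138 = n23671 := d15_0 (iv0 D23671) F17964 (iv2 F30754)
theorem F36814 : act 7 n23671 = n19144 := d15_2 F32700 F36813 (iv2 F32697)
def n23672 : Q := act 3 n11085
theorem D23672 : act 3 n11085 = n23672 := rfl
theorem F36815 : act 4 n23672 = n11087 := d5_2 D11085 D23672 (iv3 D11087) (iv4 D5069) (iv3 F7513)
theorem F36816 : act 7 n23672 = n19146 := d8_2 (iv7 F17964) D23672 (iv3 D19146)
def n23673 : Q := act 5 n11085
theorem D23673 : act 5 n11085 = n23673 := rfl
theorem F36817 : act 7 n23673 = n19147 := d13_2 (iv7 F17964) D23673 (iv5 D19147)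
def n23674 : Q := act 6 n11085
theorem D23674 : act 6 n11085 = n23674 := rfl
theorem F36818 : act 4 n23674 = n11086 := d10_1 D23674 (iv6 D11086) D11085
def n23675 : Q := act 0 n11086
theorem D23675 : act 0 n11086 = n23675 := rfl
theorem F36819 : act 6 n23675 = n22992 := d21_5 (iv5 D8989) F7509 D5068 D11086 D23675 (iv5 D22992) (iv1 D10851) D10852 F17647 (iv1 F16808)
def n23676 : Q := act 1 n11086
theorem D23676 : act 1 n11086 = n23676 := rfl
def n23677 : Q := act 0 n11087
theorem D23677 : act 0 n11087 = n23677 := rfl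
theorem F36820 : act 1 n19150 = n23677 := d15_0 (iv0 D23677) F17967 D19150
def n23678 : Q := act 1 n11087
theorem D23678 : act 1 n11087 = n23678 := rfl
def n23679 : Q := act 2 n11087
theorem D23679 : act 2 n11087 = n23679 := rfl
theorem F36821 : act 3 n23679 = n23679 := d0_2 D11087 D23679 (iv2 D23679) (iv3 D11087) F7515
theorem F36822 : act 5 n23679 = n19133 := d2_2 (iv5 F17966) D23679 (iv2 D19133)
theorem F36823 : act 7 n23679 = n19150 := d4_2 (iv7 F17967) D23679 (iv2 D19150)
theorem F36824 : act 1 n23679 = n19148 := d15_0 (iv0 D19148) (iv7 F17967) D23679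
theorem F36825 : act 1 n23678 = n19150 := d15_1 D23678 (iv7 F36823) (iv2 D23679)
theorem F36826 : act 1 n19149 = n23679 := d15_1 D19149 F36823 (iv2 D19150)
def n23681 : Q := act 3 n11089
theorem D23681 : act 3 n11089 = n23681 := rfl
theorem F36830 : act 7 n23681 = n23122 := d8_2 (iv7 F17971) D23681 F36172
def n23682 : Q := act 0 n11090
theorem D23682 : act 0 n11090 = n23682 := rfl
theorem F36831 : act 4 n23682 = n17883 := d18_3 F16807 D11090 D23682 (iv5 D17883) F13249 (iv0 F16845) (iv4 D5067) (iv0 F7509) D8989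
theorem F36832 : act 2 n19128 = n23682 := d15_3 (iv0 D23682) (iv0 F31694) F31693
theorem F36833 : act 1 n19117 = n23682 := d15_0 (iv0 D23682) F17975 (iv2 F30713)
theorem F36834 : act 7 n23682 = n19127 := d15_2 F31695 F36833 (iv2 F31692)
def n23683 : Q := act 3 n11090
theorem D23683 : act 3 n11090 = n23683 := rfl
theorem F36835 : act 4 n23683 = n11092 := d5_2 D11090 D23683 (iv3 D11092) (iv4 D5072) D5071
theorem F36836 : act 7 n23683 = n19129 := d8_2 (iv7 F17975) D23683 (iv3 D19129)
def n23684 : Q := act 5 n11090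
theorem D23684 : act 5 n11090 = n23684 := rfl
theorem F36837 : act 7 n23684 = n19130 := d13_2 (iv7 F17975) D23684 (iv5 D19130)
def n23685 : Q := act 6 n11090
theorem D23685 : act 6 n11090 = n23685 := rfl
theorem F36838 : act 4 n23685 = n11091 := d10_1 D23685 (iv6 D11091) D11090
def n23686 : Q := act 0 n11091
theorem D23686 : act 0 n11091 = n23686 := rfl
def n23687 : Q := act 1 n11091
theorem D23687 : act 1 n11091 = n23687 := rfl
def n23688 : Q := act 0 n11092
theorem D23688 : act 0 n11092 = n23688 := rfl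
theorem F36839 : act 1 n19133 = n23688 := d15_0 (iv0 D23688) F17979 D19133
def n23689 : Q := act 1 n11092
theorem D23689 : act 1 n11092 = n23689 := rfl
def n23690 : Q := act 2 n11092
theorem D23690 : act 2 n11092 = n23690 := rfl
theorem F36840 : act 3 n23690 = n23690 := d0_2 D11092 D23690 (iv2 D23690) (iv3 D11092) F7524
theorem F36842 : act 7 n23690 = n19133 := d4_2 (iv7 F17979) D23690 (iv2 D19133)
theorem F36843 : act 1 n23690 = n19131 := d15_0 (iv0 D19131) (iv7 F17979) D23690
theorem F36844 : act 1 n23689 = n19133 := d15_1 D23689 (iv7 F36842) (iv2 D23690)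
theorem F36845 : act 1 n19132 = n23690 := d15_1 D19132 F36842 (iv2 D19133)
def n23692 : Q := act 2 n11094
theorem D23692 : act 2 n11094 = n23692 := rfl
theorem F36847 : act 7 n11095 = n23692 := d15_2 (iv0 D11094) D11095 (iv2 D23692)
def n23693 : Q := act 3 n11094
theorem D23693 : act 3 n11094 = n23693 := rfl
def n23694 : Q := act 5 n11094
theorem D23694 : act 5 n11094 = n23694 := rfl
theorem F36848 : act 6 n23694 = n23661 := d21_3 (iv5 F7530) D11094 D23694 (iv1 D23661) (iv6 D11080) (iv5 F16082) F16079 (iv5 F17915) F17973 (iv1 D11089)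
def n23695 : Q := act 6 n11094
theorem D23695 : act 6 n11094 = n23695 := rfl
theorem F36850 : act 5 n23695 = n11095 := d12_1 D23695 F36788 F36787 (iv6 F36848) (iv5 D23694)
def n23696 : Q := act 7 n11094
theorem D23696 : act 7 n11094 = n23696 := rfl
theorem F36852 : act 2 n23696 = n11095 := d4_1 D23696 F36847 (iv2 D23692)
def n23697 : Q := act 3 n11095
theorem D23697 : act 3 n11095 = n23697 := rfl
def n23698 : Q := act 2 n11096
theorem D23698 : act 2 n11096 = n23698 := rfl
theorem F36853 : act 7 n11097 = n23698 := d15_2 (iv0 D11096) D11097 (iv2 D23698)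
def n23699 : Q := act 3 n11096
theorem D23699 : act 3 n11096 = n23699 := rfl
def n23700 : Q := act 4 n11096
theorem D23700 : act 4 n11096 = n23700 := rfl
def n23701 : Q := act 5 n11096
theorem D23701 : act 5 n11096 = n23701 := rfl
def n23703 : Q := act 7 n11096
theorem D23703 : act 7 n11096 = n23703 := rfl
theorem F36854 : act 2 n23703 = n11097 := d4_1 D23703 F36853 (iv2 D23698)
def n23704 : Q := act 3 n11097
theorem D23704 : act 3 n11097 = n23704 := rfl
def n23705 : Q := act 4 n11097
theorem D23705 : act 4 n11097 = n23705 := rfl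
def n23706 : Q := act 5 n11097
theorem D23706 : act 5 n11097 = n23706 := rfl
def n23707 : Q := act 6 n11097
theorem D23707 : act 6 n11097 = n23707 := rfl
def n23708 : Q := act 0 n11101
theorem D23708 : act 0 n11101 = n23708 := rfl
def n23709 : Q := act 1 n11101
theorem D23709 : act 1 n11101 = n23709 := rfl
theorem F36855 : act 1 n23709 = n12072 := d15_1 D23709 (iv7 D12072) (iv2 F17986)
theorem F36856 : act 5 n14158 = n23709 := d21_6 (iv5 D2128) (iv1 F1973) D2144 D5222 (iv1 F22512) D14158 (iv1 D23709) (iv5 D11101) (iv6 D5075) (iv1 F3482)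
theorem F36857 : act 2 n23709 = n12070 := d2_1 F36856 (iv5 F22954) (iv2 F23665)
theorem F36858 : act 3 n23709 = n11560 := d6_1 F36856 (iv5 F18868) (iv3 F23666)
theorem F36859 : act 7 n11606 = n23709 := d8_0 F36858 F22924 D11606
theorem F36860 : act 4 n23709 = n13366 := d20_6 (iv4 F8564) (iv1 F8565) F8252 (iv3 F8215) (iv1 F18867) (iv3 F36858) (iv1 D13366) (iv4 D6337) F4257 D2664
theorem F36861 : act 2 n11606 = n23708 := d15_3 (iv0 D23708) D23709 (iv7 F36859)
theorem F36862 : act 7 n23708 = n12070 := d4_2 (iv7 F36859) F36861 (iv2 F36857)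
theorem E4710 : n12069 = n11606 := ((c15_4 (iv0 D12069) D12070 (iv7 F36862) (iv2 F36861))).symm
theorem F36863 : act 1 n11606 = n5716 := (sb E4710 (iv0 D12069))
theorem F36864 : act 1 n12072 = n23708 := d15_1 F36855 F36862 (iv2 F36857)
theorem F36865 : act 5 n14401 = n23708 := d21_0 (iv1 F36864) F19978 F8819 (iv1 F22460) D13352 F24047 (iv1 D14398) (iv5 D6890) D6891 D14401
theorem F36866 : act 7 n13707 = n14401 := d13_0 F36865 F36862 (iv5 F22954)
theorem F36867 : act 4 n12362 = n14401 := d17_4 (iv1 D2651) D2652 D6335 (iv5 F22196) F36865 (iv0 D23708) (iv5 D11101) (iv0 F22459) (iv4 D6332)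
theorem F36868 : act 4 n23708 = n13365 := d18_5 (iv1 D12363) F9096 D12362 F36867 F36865 (iv0 D13365) (iv4 D6337) D6336 (iv5 F23670)
theorem F36869 : act 0 n12071 = n13358 := d18_2 (iv1 D12070) D12071 (iv4 D13358) (iv5 F22196) F36867 (iv0 D14401) (iv4 F24043) (iv0 F24044) F22954
def n23710 : Q := act 4 n11101
theorem D23710 : act 4 n11101 = n23710 := rfl
theorem F36870 : act 2 n23710 = n12071 := d1_1 D23710 (iv4 D12071) (iv2 F17986)
theorem F36871 : act 6 n23710 = n11110 := d10_2 (iv6 F17988) D23710 (iv4 D11110)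
def n23711 : Q := act 7 n11101
theorem D23711 : act 7 n11101 = n23711 := rfl
theorem F36872 : act 2 n23711 = n12072 := d4_1 D23711 (iv7 D12072) (iv2 F17986)
theorem F36873 : act 3 n23711 = n11653 := d8_1 D23711 (iv7 F22573) (iv3 F17987)
theorem F36874 : act 5 n23711 = n11102 := d13_1 D23711 (iv7 D11102) D11101
theorem F36875 : act 1 n12070 = n23711 := d15_1 D12070 (iv7 D23711) F17986
theorem F36876 : act 1 n23711 = n11606 := d15_1 F36875 F36859 F36857
def n23712 : Q := act 5 n11103
theorem D23712 : act 5 n11103 = n23712 := rfl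
theorem F36877 : act 3 n23712 = n11104 := d6_1 D23712 (iv5 D11104) D11103
theorem F36878 : act 7 n23712 = n12078 := d13_2 (iv7 F17996) D23712 (iv5 D12078)
theorem F36879 : act 0 n23712 = n14408 := d17_2 (iv1 F22445) D23712 (iv5 D14408) F11185 D6898 F22588 (iv5 D11895) F22437 (iv4 F8813)
def n23713 : Q := act 6 n11103
theorem D23713 : act 6 n11103 = n23713 := rfl
theorem F36880 : act 3 n23713 = n11105 := d7_1 D23713 (iv6 D11105) D11103
theorem F36881 : act 5 n23713 = n14267 := d21_6 F4766 (iv1 F3775) D2389 D5709 (iv1 F22445) D23713 (iv1 D14267) (iv5 D6791) (iv6 D3073) (iv1 F4769)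
theorem F36882 : act 3 n14267 = n11312 := d6_1 F36881 (iv5 F18468) (iv3 F36880)
theorem F36883 : act 1 n16501 = n23713 := d18_8 (iv1 D14267) D14268 F23812 (iv4 D13767) (iv5 F19744) F19743 F23857 (iv4 F26093) F36881
theorem F36884 : act 2 n14235 = n14267 := d0_5 F36882 F18469 (iv3 F19297) F19296 D14235
theorem F36885 : act 7 n14266 = n14235 := d15_2 F23828 F23829 F36884
theorem F36886 : act 3 n14210 = n14266 := d8_3 F36885 (iv3 D14235) (iv7 F23729)
def n23714 : Q := act 1 n11104
theorem D23714 : act 1 n11104 = n23714 := rfl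
theorem F36887 : act 1 n23714 = n11106 := d15_1 D23714 F18003 (iv2 F17997)
theorem F36888 : act 7 n23714 = n11985 := d15_2 F18534 D23714 F19800
theorem F36889 : act 5 n23714 = n11986 := d17_7 (iv1 F18327) F18324 (iv1 F11398) (iv5 D5133) (iv4 F9901) D11104 D23714 F19808 F18529
theorem F36890 : act 2 n12073 = n23714 := d2_3 F36889 F19804 (iv5 F19981)
theorem F36891 : act 3 n11629 = n23714 := d6_3 F36889 (iv3 F20325) F20327
def n23715 : Q := act 4 n11104
theorem D23715 : act 4 n11104 = n23715 := rfl
theorem F36892 : act 2 n23715 = n12074 := d1_1 D23715 (iv4 D12074) (iv2 F17997)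
theorem F36893 : act 7 n23715 = n12080 := d11_2 (iv7 F17998) D23715 (iv4 D12080)
def n23716 : Q := act 6 n11104
theorem D23716 : act 6 n11104 = n23716 := rfl
theorem F36894 : act 2 n23716 = n12075 := d3_1 D23716 (iv6 D12075) (iv2 F17997)
def n23717 : Q := act 7 n11105
theorem D23717 : act 7 n11105 = n23717 := rfl
theorem F36895 : act 2 n23717 = n12077 := d4_1 D23717 (iv7 D12077) (iv2 F17999)
theorem F36896 : act 4 n23717 = n11206 := d11_1 D23717 (iv7 D11206) (iv4 F18000)
theorem F36897 : act 5 n23717 = n11303 := d13_1 D23717 F18477 (iv5 F18468)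
theorem F36898 : act 6 n23717 = n11373 := d14_1 D23717 F18568 (iv6 D5722) F7536 D11105
theorem F36899 : act 1 n12076 = n23717 := d15_1 D12076 (iv7 D23717) F17999
theorem F36900 : act 1 n23717 = n12027 := d15_1 F36899 F19900 (iv2 F19986)
theorem F36901 : act 4 n11303 = n13961 := d18_5 F18023 F11983 (iv1 F18194) (iv4 F36896) F36897 (iv0 D13961) (iv4 D6637) D6636 (iv5 F18022)
theorem F36902 : act 3 n11303 = n14272 := d20_3 D6637 D13961 (iv4 F36901) (iv1 F23827) F23813 (iv4 F23838) (iv1 F23881) F23882 (iv3 D13958) (iv1 D6636)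
theorem F36903 : act 2 n14272 = n14266 := d0_1 F36902 (iv3 F36886) (iv2 F23728) (iv3 F19546) F18476
theorem F36904 : act 7 n14272 = n14267 := d8_2 (iv7 F18477) F36902 F36882
theorem E4711 : n14273 = n14235 := ((c15_4 F23822 F23827 F36904 (iv2 F36884))).symm
theorem F36905 : act 0 n14235 = n6795 := (sb E4711 (iv1 D14273))
theorem F36906 : act 1 n14235 = n14269 := (sb E4711 F23822)
def n23718 : Q := act 4 n11106
theorem D23718 : act 4 n11106 = n23718 := rfl
theorem F36907 : act 2 n23718 = n12080 := d1_1 D23718 (iv4 D12080) (iv2 F18002)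
theorem F36908 : act 7 n23718 = n12074 := d11_2 (iv7 F18003) D23718 (iv4 D12074)
def n23719 : Q := act 6 n11106
theorem D23719 : act 6 n11106 = n23719 := rfl
theorem F36909 : act 2 n23719 = n12081 := d3_1 D23719 (iv6 D12081) (iv2 F18002)
def n23720 : Q := act 3 n11108
theorem D23720 : act 3 n11108 = n23720 := rfl
theorem F36910 : act 7 n23720 = n12084 := d8_2 (iv7 F18386) D23720 (iv3 D12084)
def n23721 : Q := act 6 n11108
theorem D23721 : act 6 n11108 = n23721 := rfl
theorem F36911 : act 2 n23721 = n12083 := d3_1 D23721 (iv6 D12083) F18387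
def n23722 : Q := act 6 n11109
theorem D23722 : act 6 n11109 = n23722 := rfl
theorem F36912 : act 2 n23722 = n12086 := d3_1 D23722 (iv6 D12086) (iv2 F18384)
def n23723 : Q := act 0 n11110
theorem D23723 : act 0 n11110 = n23723 := rfl
theorem F36913 : act 4 n23723 = n11217 := d18_3 (iv1 D11109) D11110 D23723 (iv5 F18596) F18597 (iv0 D5656) (iv4 F8681) (iv0 F18389) F18383
theorem F36914 : act 2 n12087 = n23723 := d1_3 F36913 (iv2 F18215) (iv4 F20002)
theorem F36915 : act 7 n12088 = n23723 := d11_0 F36913 (iv7 F18216) (iv4 F20003)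
theorem F36916 : act 1 n12091 = n23723 := d18_6 (iv1 F10162) (iv4 D5080) (iv1 F3398) (iv4 F3788) (iv5 F8821) (iv4 F20004) F36913 (iv0 D11217) (iv5 D5148)
def n23724 : Q := act 1 n11110
theorem D23724 : act 1 n11110 = n23724 := rfl
theorem F36917 : act 1 n23724 = n12091 := d15_1 D23724 (iv7 D12091) (iv2 F18009)
theorem F36918 : act 7 n23724 = n12087 := d15_2 (iv0 D23723) D23724 F36914
theorem F36919 : act 4 n23724 = n11218 := d18_7 (iv1 F10156) (iv4 D2858) (iv1 F4912) (iv4 F3390) D5078 D11110 D23724 F18211 F10405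
theorem F36920 : act 2 n12088 = n23724 := d1_3 F36919 F18213 (iv4 F20003)
def n23725 : Q := act 3 n11110
theorem D23725 : act 3 n11110 = n23725 := rfl
def n23726 : Q := act 5 n11110
theorem D23726 : act 5 n11110 = n23726 := rfl
theorem F36921 : act 2 n23726 = n12090 := d2_1 D23726 (iv5 D12090) (iv2 F18009)
theorem F36922 : act 4 n23726 = n12135 := d16_2 D11110 D23726 F20064 F8855 F3794 (iv4 F3788) (iv5 F8821) (iv7 D5726) (iv2 F7542)
theorem F36923 : act 7 n12133 = n23726 := d11_0 F36922 (iv7 D12135) D12133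
def n23727 : Q := act 7 n11110
theorem D23727 : act 7 n11110 = n23727 := rfl
theorem F36924 : act 2 n23727 = n12091 := d4_1 D23727 (iv7 D12091) (iv2 F18009)
theorem F36925 : act 4 n23727 = n11111 := d11_1 D23727 (iv7 D11111) D11110
theorem F36926 : act 5 n23727 = n12133 := d13_1 D23727 F36923 (iv5 D23726)
theorem F36927 : act 1 n12088 = n23727 := d15_1 D12088 (iv7 D23727) F18009
theorem F36928 : act 1 n23727 = n12087 := d15_1 F36927 (iv7 F36918) (iv2 F36920)
def n23728 : Q := act 6 n11111
theorem D23728 : act 6 n11111 = n23728 := rfl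
theorem F36929 : act 2 n23728 = n12092 := d3_1 D23728 (iv6 D12092) (iv2 F18010)
theorem F36930 : act 5 n23728 = n23728 := d12_1 D23728 (iv6 D23728) F18011 F7545 (iv5 F18011)
def n23729 : Q := act 2 n11112
theorem D23729 : act 2 n11112 = n23729 := rfl
theorem F36931 : act 3 n23729 = n11315 := d0_2 D11112 D23729 F18479 (iv3 D5729) (iv2 F7548)
theorem F36932 : act 4 n23729 = n11848 := d1_2 (iv4 F18015) D23729 F19251
theorem F36933 : act 7 n23729 = n11865 := d4_2 (iv7 F18016) D23729 F19301
theorem F36934 : act 1 n23729 = n11452 := d15_0 F19323 (iv7 F18016) D23729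
theorem F36935 : act 1 n11710 = n23729 := d15_0 F36934 (iv7 F19724) F19722
def n23730 : Q := act 5 n11112
theorem D23730 : act 5 n11112 = n23730 := rfl
theorem F36936 : act 3 n23730 = n11113 := d6_1 D23730 (iv5 D11113) D11112
theorem F36937 : act 7 n23730 = n12104 := d13_2 (iv7 F18016) D23730 (iv5 D12104)
def n23731 : Q := act 6 n11112
theorem D23731 : act 6 n11112 = n23731 := rfl
theorem F36938 : act 3 n23731 = n11114 := d7_1 D23731 (iv6 D11114) D11112
theorem F36939 : act 4 n23731 = n23713 := d10_1 D23731 (iv6 D23713) (iv4 F18015)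
theorem F36940 : act 5 n13958 = n23731 := d6_0 F36938 F18022 D13958
theorem F36941 : act 0 n13958 = n13453 := d21_7 F8397 F8108 F8105 D11396 F19388 D23731 (iv5 F36940) (iv5 D13453) (iv6 D6396) (iv1 F8399)
def n23732 : Q := act 4 n11113
theorem D23732 : act 4 n11113 = n23732 := rfl
theorem F36942 : act 2 n23732 = n12095 := d1_1 D23732 (iv4 D12095) (iv2 F18017)
theorem F36943 : act 7 n23732 = n12106 := d11_2 (iv7 F18018) D23732 (iv4 D12106)
def n23733 : Q := act 6 n11113
theorem D23733 : act 6 n11113 = n23733 := rfl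
theorem F36944 : act 2 n23733 = n12096 := d3_1 D23733 (iv6 D12096) (iv2 F18017)
theorem F36945 : act 5 n23733 = n13960 := d12_1 D23733 (iv6 D13960) (iv5 F18022) (iv6 D11114) D11113
def n23734 : Q := act 7 n11114
theorem D23734 : act 7 n11114 = n23734 := rfl
theorem F36946 : act 2 n23734 = n12097 := d4_1 D23734 (iv7 D12097) (iv2 F18020)
theorem F36947 : act 4 n23734 = n11117 := d11_1 D23734 (iv7 D11117) (iv4 F18021)
theorem F36948 : act 5 n23734 = n11279 := d13_1 D23734 F18373 (iv5 F18022)
theorem F36949 : act 6 n23734 = n11704 := d14_1 D23734 F19035 (iv6 D5742) (iv7 F7549) D11114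
theorem F36950 : act 1 n11375 = n23734 := d15_1 (iv0 F18578) (iv7 D23734) F18020
theorem F36951 : act 1 n23734 = n12023 := d15_1 F36950 (iv7 F22686) F22684
def n23735 : Q := act 3 n11115
theorem D23735 : act 3 n11115 = n23735 := rfl
theorem F36952 : act 7 n23735 = n12108 := d8_2 (iv7 F18025) D23735 (iv3 D12108)
def n23736 : Q := act 5 n11115
theorem D23736 : act 5 n11115 = n23736 := rfl
theorem F36953 : act 2 n23736 = n12101 := d2_1 D23736 (iv5 D12101) (iv2 F18024)
theorem F36954 : act 7 n23736 = n12109 := d13_2 (iv7 F18025) D23736 (iv5 D12109)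
theorem F36955 : act 1 n23736 = n11224 := d17_6 (iv1 F4940) (iv5 D2082) D2080 D5081 D11115 D23736 (iv5 D11224) (iv0 F10519) (iv4 D6451)
def n23737 : Q := act 6 n11115
theorem D23737 : act 6 n11115 = n23737 := rfl
theorem F36956 : act 2 n23737 = n12102 := d3_1 D23737 (iv6 D12102) (iv2 F18024)
theorem F36957 : act 4 n23737 = n11116 := d10_1 D23737 (iv6 D11116) D11115
theorem F36958 : act 0 n23737 = n16953 := d21_4 D11224 (iv1 F36955) (iv5 D23736) D23737 (iv6 D16953) D16952 (iv1 F32556) F32554 (iv6 D13551) F10519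
def n23738 : Q := act 3 n11118
theorem D23738 : act 3 n11118 = n23738 := rfl
theorem F36959 : act 7 n23738 = n12116 := d8_2 (iv7 F18034) D23738 (iv3 D12116)
def n23739 : Q := act 5 n11118
theorem D23739 : act 5 n11118 = n23739 := rfl
theorem F36960 : act 2 n23739 = n12111 := d2_1 D23739 (iv5 D12111) (iv2 F18033)
theorem F36961 : act 7 n23739 = n12117 := d13_2 (iv7 F18034) D23739 (iv5 D12117)
def n23740 : Q := act 6 n11118
theorem D23740 : act 6 n11118 = n23740 := rfl
theorem F36962 : act 2 n23740 = n12112 := d3_1 D23740 (iv6 D12112) (iv2 F18033)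
theorem F36963 : act 4 n23740 = n11119 := d10_1 D23740 (iv6 D11119) D11118
def n23741 : Q := act 3 n11120
theorem D23741 : act 3 n11120 = n23741 := rfl
theorem F36964 : act 4 n23741 = n23738 := d5_2 (iv4 F18038) D23741 (iv3 D23738) (iv4 D11118) F10338
theorem F36965 : act 7 n23741 = n12123 := d8_2 F18040 D23741 (iv3 D12123)
def n23742 : Q := act 5 n11120
theorem D23742 : act 5 n11120 = n23742 := rfl
theorem F36966 : act 2 n23742 = n12121 := d2_1 D23742 (iv5 D12121) F18039
theorem F36967 : act 7 n23742 = n12124 := d13_2 F18040 D23742 (iv5 D12124)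
def n23743 : Q := act 6 n11120
theorem D23743 : act 6 n11120 = n23743 := rfl
theorem F36968 : act 2 n23743 = n12122 := d3_1 D23743 (iv6 D12122) F18039
theorem F36969 : act 4 n23743 = n11208 := d10_1 D23743 (iv6 D11208) (iv4 F18038)
theorem F36970 : act 0 n23743 = n15014 := d20_1 (iv4 F36969) (iv4 D15014) (iv3 D7143) F9127 F26377 (iv4 D3296) (iv1 F10302) D6364 D13403 (iv1 F26923)
def n23744 : Q := act 5 n11121
theorem D23744 : act 5 n11121 = n23744 := rfl
theorem F36971 : act 2 n23744 = n12124 := d2_1 D23744 (iv5 D12124) F18045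
theorem F36972 : act 7 n23744 = n12121 := d13_2 (iv7 F18043) D23744 (iv5 D12121)
def n23745 : Q := act 6 n11121
theorem D23745 : act 6 n11121 = n23745 := rfl
theorem F36973 : act 2 n23745 = n12125 := d3_1 D23745 (iv6 D12125) F18045
theorem F36974 : act 4 n23745 = n11174 := d10_1 D23745 (iv6 D11174) (iv4 F18044)
theorem F36975 : act 5 n20526 = n23745 := d21_2 D15442 (iv1 F32624) (iv6 D23745) (iv1 D11121) F7554 D5091 (iv1 F12478) (iv5 D7881) D7882 F12481
theorem F36976 : act 1 n23745 = n13862 := d17_8 F10889 (iv5 F18686) F21331 (iv5 D12858) D12857 F31838 F32625 F36975 F23130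
theorem F36977 : act 0 n23745 = n17406 := d18_0 (iv4 D17406) (iv1 F20052) F31791 (iv5 D19955) (iv4 F17724) D23170 (iv4 F36262) F32625 F36975
def n23746 : Q := act 1 n11122
theorem D23746 : act 1 n11122 = n23746 := rfl
def n23747 : Q := act 2 n11122
theorem D23747 : act 2 n11122 = n23747 := rfl
theorem F36978 : act 3 n23747 = n12128 := d0_2 D11122 D23747 (iv2 D12128) (iv3 D5751) (iv2 F7553)
theorem F36979 : act 4 n23747 = n11177 := d1_2 (iv4 F18046) D23747 (iv2 D11177)
theorem F36980 : act 6 n23747 = n11135 := d3_2 (iv6 F18047) D23747 (iv2 D11135)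
def n23748 : Q := act 5 n11122
theorem D23748 : act 5 n11122 = n23748 := rfl
theorem F36981 : act 3 n23748 = n11123 := d6_1 D23748 (iv5 D11123) D11122
def n23749 : Q := act 7 n11122
theorem D23749 : act 7 n11122 = n23749 := rfl
theorem F36982 : act 3 n23749 = n11124 := d8_1 D23749 (iv7 D11124) D11122
theorem F36983 : act 4 n23749 = n11179 := d11_1 D23749 (iv7 D11179) (iv4 F18046)
def n23750 : Q := act 0 n11123
theorem D23750 : act 0 n11123 = n23750 := rfl
theorem F36984 : act 5 n23750 = n11204 := d17_3 (iv1 D11121) D11123 D23750 (iv4 D11204) (iv5 D5133) (iv0 D2112) D2114 (iv0 F10270) (iv4 F18044)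
theorem F36985 : act 2 n12131 = n23750 := d2_3 F36984 F18185 (iv5 F20061)
theorem F36986 : act 7 n12132 = n23750 := d13_0 F36984 (iv7 F18224) (iv5 F20062)
theorem F36987 : act 1 n12135 = n23750 := d17_6 (iv1 F10508) (iv5 D5081) (iv1 F3398) (iv5 F3794) (iv4 F8855) (iv5 F20064) F36984 (iv0 F22702) (iv4 D13541)
def n23751 : Q := act 1 n11123
theorem D23751 : act 1 n11123 = n23751 := rfl
theorem F36988 : act 1 n23751 = n12135 := d15_1 D23751 (iv7 D12135) (iv2 F18048)
theorem F36989 : act 7 n23751 = n12131 := d15_2 (iv0 D23750) D23751 F36985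
theorem F36990 : act 5 n23751 = n11172 := d17_7 F10011 (iv5 D2859) (iv1 F4912) D2082 D5084 D11123 D23751 F18134 (iv4 D7071)
theorem F36991 : act 2 n12132 = n23751 := d2_3 F36990 (iv2 F18223) (iv5 F20062)
def n23752 : Q := act 4 n11123
theorem D23752 : act 4 n11123 = n23752 := rfl
theorem F36992 : act 2 n23752 = n12133 := d1_1 D23752 (iv4 D12133) (iv2 F18048)
theorem F36993 : act 5 n23752 = n12091 := d9_2 D11123 D23752 F20004 F8821 F3788 (iv5 F3794) (iv4 F8855) (iv5 F20064) (iv4 F36922) (iv5 D23726) (iv4 D11110) (iv5 D5078) F3390 D2082 D5084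
theorem F36994 : act 7 n12090 = n23752 := d13_0 F36993 (iv7 D12091) D12090
def n23753 : Q := act 6 n11123
theorem D23753 : act 6 n11123 = n23753 := rfl
theorem F36995 : act 2 n23753 = n12134 := d3_1 D23753 (iv6 D12134) (iv2 F18048)
theorem F36996 : act 5 n23753 = n11137 := d12_1 D23753 (iv6 D11137) (iv5 D5091) (iv6 F7554) D11123
def n23754 : Q := act 7 n11123
theorem D23754 : act 7 n11123 = n23754 := rfl
theorem F36997 : act 2 n23754 = n12135 := d4_1 D23754 (iv7 D12135) (iv2 F18048)
theorem F36998 : act 4 n23754 = n12090 := d11_1 D23754 F36994 (iv4 D23752)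
theorem F36999 : act 5 n23754 = n11124 := d13_1 D23754 (iv7 D11124) D11123
theorem F37000 : act 1 n12132 = n23754 := d15_1 D12132 (iv7 D23754) F18048
theorem F37001 : act 1 n23754 = n12131 := d15_1 F37000 (iv7 F36989) (iv2 F36991)
def n23755 : Q := act 0 n11125
theorem D23755 : act 0 n11125 = n23755 := rfl
theorem F37002 : act 3 n23755 = n12932 := d20_5 (iv4 D3666) F3405 D5086 D11125 D23755 (iv4 D12932) (iv1 D6129) (iv4 F9522) (iv3 D6122) (iv1 F5695)
theorem F37003 : act 1 n12156 = n23755 := d15_0 (iv0 D23755) F18054 D12156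
theorem F37004 : act 7 n12154 = n23755 := d8_0 F37002 F27241 (iv3 F20104)
theorem F37005 : act 2 n23755 = n12155 := d15_3 F32467 (iv0 F32466) F37004
def n23756 : Q := act 1 n11125
theorem D23756 : act 1 n11125 = n23756 := rfl
theorem F37006 : act 1 n23756 = n12156 := d15_1 D23756 F32465 F32462
theorem F37007 : act 7 n23756 = n12155 := d15_2 (iv0 D23755) D23756 (iv2 F37005)
theorem F37008 : act 4 n17384 = n23756 := d20_6 (iv4 D3325) F2583 D1614 D3667 D8144 D17384 (iv1 D23756) F18053 (iv3 D7880) F5608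
theorem F37009 : act 3 n23756 = n17395 := d5_1 F37008 F28362 F28341 (iv4 D17385) D17384
theorem F37010 : act 0 n17384 = n20398 := d20_1 (iv4 F37008) (iv4 F32636) F32635 (iv1 D15637) (iv3 F26471) (iv4 D12839) (iv1 F9438) (iv4 F12915) (iv3 F20105) (iv1 F37006)
theorem F37011 : act 2 n12154 = n23756 := d0_5 F37009 (iv2 F28363) F24928 F27246 (iv3 F20104)
def n23757 : Q := act 5 n11125
theorem D23757 : act 5 n11125 = n23757 := rfl
theorem F37012 : act 3 n23757 = n11126 := d6_1 D23757 (iv5 D11126) D11125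
theorem F37013 : act 6 n23757 = n19875 := d12_2 F26934 D23757 (iv5 D19875) (iv6 D9355) D9354
theorem F37014 : act 7 n23757 = n12157 := d13_2 (iv7 F18054) D23757 (iv5 D12157)
def n23758 : Q := act 6 n11126
theorem D23758 : act 6 n11126 = n23758 := rfl
theorem F37015 : act 2 n23758 = n12147 := d3_1 D23758 (iv6 D12147) (iv2 F18055)
theorem F37016 : act 3 n23758 = n19875 := d7_1 D23758 (iv6 F37013) F37012
theorem F37017 : act 4 n23758 = n12921 := d10_1 D23758 (iv6 D12921) (iv4 F18056)
theorem F37018 : act 5 n23758 = n19871 := d12_1 D23758 (iv6 D19871) F26933 (iv6 D11127) D11126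
def n23759 : Q := act 0 n11128
theorem D23759 : act 0 n11128 = n23759 := rfl
theorem F37019 : act 3 n23759 = n12613 := d20_5 (iv4 D2086) D2085 D5088 D11128 D23759 (iv4 D12613) (iv1 D5990) D5992 F9313 F5541
theorem F37020 : act 1 n12172 = n23759 := d15_0 (iv0 D23759) F18063 D12172
theorem F37021 : act 7 n12170 = n23759 := d8_0 F37019 F25546 (iv3 F20171)
def n23760 : Q := act 1 n11128
theorem D23760 : act 1 n11128 = n23760 := rfl
theorem F37022 : act 4 n16035 = n23760 := d20_6 F3813 F2423 D2879 (iv3 F5412) D7499 D16035 (iv1 D23760) (iv4 F18067) (iv3 D11130) (iv1 F7574)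
theorem F37023 : act 3 n23760 = n12654 := d5_1 F37022 F25530 (iv3 F25525) (iv4 D16036) D16035
theorem F37024 : act 0 n12172 = n23760 := d20_7 F20164 (iv1 F9295) D7493 (iv3 F11741) (iv1 F21004) F21001 F20186 (iv4 F37022) (iv3 D16035) (iv1 F20166)
theorem F37025 : act 2 n12170 = n23760 := d15_3 (iv0 F37024) F37020 (iv7 F37021)
theorem F37026 : act 7 n12171 = n23760 := d15_2 (iv0 D12170) D12171 (iv2 F37025)
theorem F37027 : act 2 n23759 = n12171 := d4_3 F37026 (iv2 F37025) F37021
def n23761 : Q := act 2 n11128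
theorem D23761 : act 2 n11128 = n23761 := rfl
theorem F37028 : act 3 n23761 = n12167 := d0_2 D11128 D23761 (iv2 D12167) (iv3 D5768) (iv2 F7568)
theorem F37029 : act 4 n23761 = n15927 := d1_2 F18067 D23761 F25388
theorem F37030 : act 7 n23761 = n12172 := d4_2 (iv7 F18063) D23761 (iv2 D12172)
theorem F37031 : act 1 n23761 = n12170 := d15_0 (iv0 D12170) (iv7 F18063) D23761
theorem F37032 : act 1 n12171 = n23761 := d15_0 F37031 F37021 F37027
def n23762 : Q := act 5 n11128
theorem D23762 : act 5 n11128 = n23762 := rfl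
theorem F37033 : act 3 n23762 = n11129 := d6_1 D23762 (iv5 D11129) D11128
theorem F37034 : act 7 n23762 = n12173 := d13_2 (iv7 F18063) D23762 (iv5 D12173)
def n23763 : Q := act 6 n11129
theorem D23763 : act 6 n11129 = n23763 := rfl
theorem F37035 : act 2 n23763 = n12169 := d3_1 D23763 (iv6 D12169) (iv2 F18064)
theorem F37036 : act 4 n23763 = n16684 := d10_1 D23763 (iv6 D16684) (iv4 F18066)
def n23764 : Q := act 0 n11130
theorem D23764 : act 0 n11130 = n23764 := rfl
theorem F37037 : act 1 n12187 = n23764 := d15_0 (iv0 D23764) F18068 D12187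
def n23765 : Q := act 1 n11130
theorem D23765 : act 1 n11130 = n23765 := rfl
theorem F37038 : act 1 n23765 = n12187 := d15_1 D23765 (iv7 F25389) F25388
def n23766 : Q := act 5 n11130
theorem D23766 : act 5 n11130 = n23766 := rfl
theorem F37039 : act 3 n23766 = n11131 := d6_1 D23766 (iv5 D11131) D11130
theorem F37040 : act 7 n23766 = n12188 := d13_2 (iv7 F18068) D23766 (iv5 D12188)
def n23767 : Q := act 6 n11130
theorem D23767 : act 6 n11130 = n23767 := rfl
theorem F37041 : act 3 n23767 = n11132 := d7_1 D23767 (iv6 D11132) D11130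
theorem F37042 : act 4 n23767 = n12031 := d10_1 D23767 F19914 (iv4 F18067)
def n23768 : Q := act 6 n11131
theorem D23768 : act 6 n11131 = n23768 := rfl
theorem F37043 : act 2 n23768 = n12182 := d3_1 D23768 (iv6 D12182) (iv2 F18069)
theorem F37044 : act 4 n23768 = n13580 := d10_1 D23768 (iv6 D13580) (iv4 F18070)
def n23769 : Q := act 5 n11132
theorem D23769 : act 5 n11132 = n23769 := rfl
theorem F37045 : act 2 n23769 = n12183 := d2_1 D23769 (iv5 D12183) (iv2 F18074)
theorem F37046 : act 0 n23769 = n13811 := d17_2 F19054 D23769 (iv5 D13811) (iv4 D6568) (iv5 D2926) (iv0 F10032) D2380 (iv0 F8274) D11708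
def n23770 : Q := act 3 n11133
theorem D23770 : act 3 n11133 = n23770 := rfl
theorem F37047 : act 4 n23770 = n11288 := d5_2 F26666 D23770 F18405 (iv4 F18801) (iv3 F26667)
theorem F37048 : act 0 n15443 = n23770 := d20_4 (iv4 D3423) D3420 D7488 (iv3 F26942) (iv3 D23770) (iv4 F26666) F26664 (iv4 F25577) (iv3 D16039) (iv1 D7500)
theorem F37049 : act 6 n11287 = n23770 := d10_0 F37047 (iv6 D11288) D11287
def n23771 : Q := act 5 n11133
theorem D23771 : act 5 n11133 = n23771 := rfl
def n23772 : Q := act 6 n11133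
theorem D23772 : act 6 n11133 = n23772 := rfl
theorem F37050 : act 3 n23772 = n11287 := d7_1 D23772 F37049 (iv3 D23770)
theorem F37051 : act 4 n23772 = n11497 := d10_1 D23772 F26668 F26666
theorem F37052 : act 0 n13889 = n23772 := d20_7 (iv4 D6696) F4719 D3501 (iv3 F26451) (iv1 F4742) D6603 D13889 F37051 (iv3 D11497) (iv1 F10909)
def n23773 : Q := act 3 n11134
theorem D23773 : act 3 n11134 = n23773 := rfl
def n23774 : Q := act 5 n11134
theorem D23774 : act 5 n11134 = n23774 := rfl
def n23775 : Q := act 6 n11134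
theorem D23775 : act 6 n11134 = n23775 := rfl
def n23776 : Q := act 5 n11135
theorem D23776 : act 5 n11135 = n23776 := rfl
theorem F37053 : act 2 n23776 = n11136 := d2_1 D23776 (iv5 D11136) D11135
theorem F37054 : act 3 n23776 = n12206 := d6_1 D23776 (iv5 D12206) (iv3 F18077)
def n23777 : Q := act 0 n11136
theorem D23777 : act 0 n11136 = n23777 := rfl
def n23778 : Q := act 1 n11136
theorem D23778 : act 1 n11136 = n23778 := rfl
def n23779 : Q := act 4 n11136
theorem D23779 : act 4 n11136 = n23779 := rfl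
def n23780 : Q := act 6 n11136
theorem D23780 : act 6 n11136 = n23780 := rfl
theorem F37055 : act 3 n23780 = n11137 := d7_1 D23780 (iv6 D11137) (iv3 F18079)
def n23781 : Q := act 0 n11137
theorem D23781 : act 0 n11137 = n23781 := rfl
def n23782 : Q := act 1 n11137
theorem D23782 : act 1 n11137 = n23782 := rfl
theorem F37056 : act 1 n23782 = n12219 := d15_1 D23782 (iv7 D12219) (iv2 F18080)
def n23783 : Q := act 7 n11137
theorem D23783 : act 7 n11137 = n23783 := rfl
theorem F37057 : act 2 n23783 = n12219 := d4_1 D23783 (iv7 D12219) (iv2 F18080)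
theorem F37058 : act 1 n12219 = n23781 := d15_0 (iv0 D23781) D23783 F37057
theorem F37059 : act 1 n12218 = n23783 := d15_1 D12218 (iv7 D23783) F18080
theorem F37060 : act 1 n23783 = n12217 := d15_0 (iv0 D12217) D12219 (iv2 F37057)
def n23784 : Q := act 5 n11138
theorem D23784 : act 5 n11138 = n23784 := rfl
theorem F37061 : act 2 n23784 = n13318 := d2_1 D23784 (iv5 D13318) (iv2 F18081)
def n23785 : Q := act 4 n11141
theorem D23785 : act 4 n11141 = n23785 := rfl
theorem F37062 : act 6 n23785 = n13457 := d10_2 (iv6 F18083) D23785 (iv4 D13457)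
def n23786 : Q := act 4 n11145
theorem D23786 : act 4 n11145 = n23786 := rfl
theorem F37063 : act 2 n23786 = n23785 := d1_1 D23786 (iv4 D23785) (iv2 F18086)
theorem F37064 : act 6 n23786 = n13466 := d10_2 (iv6 F18087) D23786 (iv4 D13466)
def n23787 : Q := act 5 n11147
theorem D23787 : act 5 n11147 = n23787 := rfl
theorem F37065 : act 2 n23787 = n11154 := d2_1 D23787 (iv5 D11154) (iv2 F18949)
theorem F37066 : act 3 n23787 = n11577 := d6_1 D23787 (iv5 D11577) (iv3 F18093)
theorem F37067 : act 7 n23787 = n11158 := d13_2 (iv7 F18950) D23787 (iv5 D11158)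
theorem F37068 : act 0 n23787 = n11998 := d17_2 D11147 D23787 (iv5 D11998) (iv4 F10130) (iv5 F19641) F19640 (iv5 D11622) (iv0 F10116) (iv4 F7583)
theorem E4712 : n14815 = n11154 := ((c15_4 (iv0 D14815) (iv0 F20328) (iv7 F37067) F37065)).symm
theorem F37069 : act 1 n11154 = n7060 := (sb E4712 (iv0 D14815))
def n23788 : Q := act 5 n11148
theorem D23788 : act 5 n11148 = n23788 := rfl
theorem F37070 : act 2 n23788 = n11158 := d2_1 D23788 (iv5 D11158) (iv2 F18945)
theorem F37071 : act 3 n23788 = n13488 := d6_1 D23788 (iv5 D13488) F18096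
theorem F37072 : act 7 n23788 = n11154 := d13_2 (iv7 F18946) D23788 (iv5 D11154)
theorem F37073 : act 0 n11998 = n23788 := d21_7 (iv5 F22321) (iv1 F22324) (iv5 D11989) F19384 (iv1 D5660) D5663 D11998 (iv5 D23788) (iv6 F20274) (iv1 F19853)
theorem F37074 : act 1 n14816 = n23788 := d15_0 (iv0 F37073) (iv7 F19835) D14816
theorem F37075 : act 1 n23787 = n14816 := d15_0 F37074 F37072 (iv2 F37065)
def n23789 : Q := act 0 n11149
theorem D23789 : act 0 n11149 = n23789 := rfl
def n23790 : Q := act 1 n11149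
theorem D23790 : act 1 n11149 = n23790 := rfl
theorem F37076 : act 1 n23790 = n11163 := d15_1 D23790 (iv7 D11163) (iv2 F18097)
theorem F37077 : act 3 n14464 = n23790 := d20_3 (iv4 F23939) (iv1 F23941) D14464 (iv1 D23790) F18098 D13473 F24080 (iv4 D14427) (iv3 D6901) (iv1 F11098)
theorem F37078 : act 5 n11414 = n23790 := d21_6 (iv5 F3754) (iv1 D1287) (iv5 F1986) D2169 D5304 D11414 (iv1 D23790) (iv5 D11149) (iv6 D5095) (iv1 F3415)
theorem F37079 : act 2 n23790 = n11161 := d2_1 F37078 (iv5 F24295) (iv2 F24294)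
theorem F37080 : act 0 n11999 = n11414 := d17_0 F37078 (iv1 D23790) (iv5 D11149) F7583 D6844 (iv0 F11099) (iv5 F10419) (iv0 F20329) F20326
theorem F37081 : act 1 n11991 = n11414 := d15_0 (iv0 F37080) (iv7 D11999) (iv2 F19827)
theorem F37082 : act 0 n14845 = n11413 := d21_1 D14845 (iv5 D11413) D11414 (iv1 F37081) (iv6 D11991) D11990 (iv1 F19825) (iv5 F20281) F24497 (iv1 D14843)
def n23791 : Q := act 4 n11149
theorem D23791 : act 4 n11149 = n23791 := rfl
theorem F37083 : act 2 n23791 = n11162 := d1_1 D23791 (iv4 D11162) (iv2 F18097)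
def n23792 : Q := act 7 n11149
theorem D23792 : act 7 n11149 = n23792 := rfl
theorem F37084 : act 2 n23792 = n11163 := d4_1 D23792 (iv7 D11163) (iv2 F18097)
theorem F37085 : act 3 n23792 = n13474 := d8_1 D23792 (iv7 D13474) (iv3 F18098)
theorem F37086 : act 5 n23792 = n11150 := d13_1 D23792 (iv7 D11150) D11149
theorem F37087 : act 1 n11163 = n23789 := d15_0 (iv0 D23789) D23792 F37084
theorem F37088 : act 1 n11161 = n23792 := d15_1 D11161 (iv7 D23792) F18097
theorem F37089 : act 7 n23789 = n11161 := d15_2 F37076 F37087 (iv2 F37079)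
theorem F37090 : act 2 n23789 = n11160 := d15_3 (iv0 D11160) D11161 (iv7 F37089)
theorem F37091 : act 7 n11160 = n23790 := d4_2 (iv7 F37089) F37090 F37079
theorem F37092 : act 1 n23792 = n11160 := d15_1 F37088 F37091 F37079
theorem F37093 : act 5 n11160 = n11996 := d17_7 F11437 F10365 (iv1 F20250) (iv5 D11621) (iv4 F18101) (iv5 F37086) F37092 (iv0 D11996) (iv4 F10130)
theorem F37094 : act 7 n11996 = n11414 := d13_2 (iv7 F37091) F37093 F37078
def n23793 : Q := act 5 n11152
theorem D23793 : act 5 n11152 = n23793 := rfl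
theorem F37095 : act 2 n23793 = n13478 := d2_1 D23793 (iv5 D13478) (iv2 F18947)
theorem F37096 : act 3 n23793 = n11154 := d6_1 D23793 (iv5 D11154) D11152
theorem F37097 : act 7 n23793 = n13488 := d13_2 F18944 D23793 (iv5 D13488)
theorem F37098 : act 0 n23793 = n14922 := d17_2 (iv1 F19117) D23793 F24581 F20030 (iv5 F24002) (iv0 D14372) (iv5 D6874) (iv0 F11148) (iv4 F19115)
def n23794 : Q := act 6 n11152
theorem D23794 : act 6 n11152 = n23794 := rfl
theorem F37099 : act 2 n23794 = n13479 := d3_1 D23794 (iv6 D13479) (iv2 F18947)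
theorem F37100 : act 3 n23794 = n11155 := d7_1 D23794 (iv6 D11155) D11152
theorem F37101 : act 4 n23794 = n13469 := d10_1 D23794 (iv6 D13469) (iv4 F18109)
theorem E4713 : n13990 = n13469 := ((c20_7 F4945 F4439 F5077 D7069 (iv1 F24502) (iv3 F37100) F37101 (iv1 D13990) F10796 F10649 (iv1 F5473))).symm
theorem F37102 : act 0 n13469 = n6652 := (sb E4713 (iv1 D13990))
def n23795 : Q := act 5 n11153
theorem D23795 : act 5 n11153 = n23795 := rfl
def n23796 : Q := act 6 n11153
theorem D23796 : act 6 n11153 = n23796 := rfl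
theorem F37103 : act 4 n23796 = n11155 := d10_1 D23796 (iv6 D11155) D11153
def n23797 : Q := act 0 n11154
theorem D23797 : act 0 n11154 = n23797 := rfl
theorem F37104 : act 5 n23797 = n11991 := d17_3 D5096 D11154 D23797 (iv4 F20283) F20284 (iv0 D11628) (iv5 D5402) (iv0 F10163) F4826
theorem F37105 : act 2 n11998 = n23797 := d15_3 (iv0 D23797) F37069 F19835
theorem F37106 : act 1 n11158 = n23797 := d15_0 (iv0 D23797) (iv7 F37072) F37070
theorem F37107 : act 7 n23797 = n14816 := d15_2 (iv0 F20328) F37106 (iv2 D14816)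
theorem F37108 : act 3 n23797 = n13480 := d0_2 (iv3 F19834) F37105 (iv2 F22626) (iv3 D7057) (iv2 F8711)
def n23798 : Q := act 4 n11154
theorem D23798 : act 4 n11154 = n23798 := rfl
def n23799 : Q := act 6 n11154
theorem D23799 : act 6 n11154 = n23799 := rfl
def n23800 : Q := act 5 n11155
theorem D23800 : act 5 n11155 = n23800 := rfl
theorem F37109 : act 2 n23800 = n11420 := d2_1 D23800 (iv5 F24314) (iv2 F24313)
theorem F37110 : act 7 n23800 = n11419 := d13_2 (iv7 F23264) D23800 F23265
theorem F37111 : act 0 n23800 = n11408 := d17_2 (iv1 F24502) D23800 (iv5 D11408) F7918 D5796 (iv0 F11039) F11037 D11633 (iv4 F18972)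
theorem F37112 : act 0 n11422 = n23800 := d21_1 (iv5 F18665) (iv5 D23800) (iv6 D11155) (iv1 F18107) F18102 (iv5 F37086) (iv1 F37088) (iv5 F24295) F24291 (iv1 F18656)
def n23801 : Q := act 5 n11157
theorem D23801 : act 5 n11157 = n23801 := rfl
theorem F37113 : act 2 n23801 = n11597 := d2_1 D23801 (iv5 D11597) (iv2 F18919)
theorem F37114 : act 3 n23801 = n11158 := d6_1 D23801 (iv5 D11158) D11157
theorem F37115 : act 7 n23801 = n11577 := d13_2 (iv7 F18920) D23801 (iv5 D11577)
def n23802 : Q := act 6 n11157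
theorem D23802 : act 6 n11157 = n23802 := rfl
theorem F37116 : act 2 n23802 = n11598 := d3_1 D23802 (iv6 D11598) (iv2 F18919)
theorem F37117 : act 3 n23802 = n11159 := d7_1 D23802 (iv6 D11159) D11157
theorem F37118 : act 4 n23802 = n11558 := d10_1 D23802 (iv6 D11558) (iv4 F18113)
def n23803 : Q := act 4 n11158
theorem D23803 : act 4 n11158 = n23803 := rfl
def n23804 : Q := act 6 n11158
theorem D23804 : act 6 n11158 = n23804 := rfl
def n23805 : Q := act 3 n11160
theorem D23805 : act 3 n11160 = n23805 := rfl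
theorem F37119 : act 7 n23805 = n14464 := d8_2 (iv7 F37091) D23805 F37077
theorem F37120 : act 4 n23805 = n14326 := d20_6 D5843 F8996 (iv4 D5102) (iv3 F7584) D11160 D23805 (iv1 F23940) F11189 F4840 (iv1 F3830)

end Cfsg.Agent.Helper17.ONTC
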