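import Cfsg.Agent.Helper17.ONTC.Facts49

set_option autoImplicit false
set_option linter.all false

noncomputable section

namespace Cfsg.Agent.Helper17.ONTC

theorem F415361 : act 3 n195381 = n200169 := d20_9 (iv4 F179626) F346465 F87041 (iv3 D26695) D26693 D55243 F319214 (iv1 F162122) (iv4 F396882) (iv1 D200169)
theorem F415362 : act 2 n200169 = n189187 := d0_1 F415361 (iv3 D189187) F329896 (iv3 F321640) (iv2 F396881)
theorem F415363 : act 4 n200169 = n156205 := d5_2 (iv4 F396882) F415361 F245478 (iv4 F175911) F175910
theorem F415364 : act 6 n200169 = n197123 := d7_2 (iv6 F396884) F415361 F403146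
theorem F415365 : act 3 n137038 = n119634 := d20_5 (iv4 D64416) (iv1 D30332) D30333 D64419 D137038 (iv4 F409543) (iv1 F415359) F415363 F245478 (iv1 F111510)
def n200170 : Q := act 5 n112733
theorem D200170 : act 5 n112733 = n200170 := rfl
theorem F415366 : act 2 n200170 = n198848 := d2_1 D200170 (iv5 D198848) F175490
theorem F415367 : act 3 n200170 = n163046 := d6_1 D200170 (iv5 F348414) F348412
theorem F415368 : act 7 n200170 = n198849 := d13_2 F175491 D200170 (iv5 D198849)
theorem F415369 : act 0 n200170 = n125983 := d17_2 D112733 D200170 (iv5 D125983) (iv4 D58988) D58989 (iv0 F166178) (iv5 D68299) (iv0 F166177) (iv4 F82233)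
theorem F415370 : act 1 n200170 = n125988 := d17_6 F327216 (iv5 F327225) F245306 F245305 (iv4 F175489) D200170 (iv5 D125988) F202661 F202660
theorem F415371 : act 0 n193212 = n195407 := d17_2 (iv1 F405268) (iv5 F389192) (iv5 F404838) (iv4 F409572) F409573 F175492 D200170 F415370 (iv4 F405265)
def n200171 : Q := act 3 n112734
theorem D200171 : act 3 n112734 = n200171 := rfl
theorem F415372 : act 4 n200171 = n177498 := d5_2 (iv4 F175495) D200171 F351060 (iv4 D111883) (iv3 F173801)
theorem F415373 : act 6 n200171 = n198915 := d7_2 F175497 D200171 (iv3 D198915)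
theorem F415374 : act 7 n200171 = n198847 := d8_2 (iv7 F175494) D200171 (iv3 D198847)
def n200172 : Q := act 0 n112735
theorem D200172 : act 0 n112735 = n200172 := rfl
theorem F415375 : act 5 n200172 = n166640 := d17_1 D200172 F338337 F403113 F403111 D197685 F405357 (iv5 D163187) D163185 (iv4 F403551)
theorem F415376 : act 2 n198850 = n200172 := d15_3 (iv0 D200172) (iv0 F403550) F409561
theorem F415377 : act 7 n200172 = n195059 := d4_2 F409561 F415376 (iv2 F403549)
theorem F415378 : act 3 n166646 = n200172 := d8_3 F415377 F395603 F341868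
theorem F415379 : act 1 n198852 = n200172 := d15_1 F409574 F415377 (iv2 F403549)
def n200173 : Q := act 7 n112735
theorem D200173 : act 7 n112735 = n200173 := rfl
theorem F415380 : act 2 n200173 = n198852 := d4_1 D200173 (iv7 D198852) (iv2 F175498)
theorem F415381 : act 3 n200173 = n124494 := d8_1 D200173 (iv7 F415356) F415354
theorem F415382 : act 5 n200173 = n112736 := d13_1 D200173 (iv7 D112736) D112735
theorem F415383 : act 1 n195059 = n200173 := d15_1 (iv0 F395604) (iv7 D200173) F175498
theorem F415384 : act 1 n200173 = n198850 := d15_1 F415383 (iv7 F409561) F403549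
def n200174 : Q := act 3 n112740
theorem D200174 : act 3 n112740 = n200174 := rfl
theorem F415385 : act 7 n200174 = n198867 := d8_2 (iv7 F373696) D200174 (iv3 D198867)
theorem F415386 : act 0 n189181 = n200174 := d20_4 (iv4 F262477) (iv1 F354856) F343344 (iv3 F375972) (iv3 D200174) (iv4 F402668) (iv1 F402669) (iv4 F395530) (iv3 F409821) F409823
def n200175 : Q := act 1 n112742
theorem D200175 : act 1 n112742 = n200175 := rfl
theorem F415387 : act 1 n200175 = n174576 := d15_1 D200175 (iv7 D174576) (iv2 F328393)
theorem F415388 : act 7 n200175 = n113181 := d15_2 (iv0 F401975) D200175 (iv2 F401971)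
theorem F415389 : act 5 n200175 = n113173 := d17_7 (iv1 F173410) D113476 (iv1 F228498) F175387 F82645 D112742 D200175 F381046 F82600
theorem F415390 : act 4 n200175 = n195926 := d18_7 F386887 (iv4 D191671) (iv1 F360360) (iv4 F393142) F393141 (iv4 F328394) D200175 F401986 (iv5 F400228)
theorem F415391 : act 2 n113176 = n200175 := d1_3 F415390 (iv2 F401987) F401988
theorem F415392 : act 6 n193340 = n200175 := d21_5 (iv5 D101826) (iv1 F308346) F308348 (iv6 F343421) D193340 F415389 F381045 (iv5 F170797) F327893 (iv1 F156778)
theorem F415393 : act 4 n196833 = n193340 := d10_3 F415392 F415390 (iv6 F401962)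
theorem F415394 : act 7 n196830 = n193340 := d14_0 F415392 F415388 (iv6 F392266) (iv7 F359123) D196830
theorem F415395 : act 3 n193340 = n166217 := d8_1 F415394 (iv7 F264135) (iv3 F401943)
theorem F415396 : act 3 n189179 = n200175 := d7_3 (iv6 F415392) F415395 (iv6 F375971)
theorem F415397 : act 4 n184313 = n189179 := d20_2 F329733 D184313 F415396 (iv1 D200175) F175521 (iv4 F84027) F84028 (iv4 F165977) (iv3 F402883) F402887
theorem F415398 : act 3 n184313 = n141262 := d20_3 (iv4 F143975) D189179 (iv4 F415397) (iv1 D141262) (iv3 D66255) (iv4 F101844) (iv1 D51120) (iv4 F80638) (iv3 F360196) (iv1 D93354)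
theorem F415399 : act 7 n194701 = n184313 := d8_0 F415398 F410455 F410450
theorem F415400 : act 2 n184313 = n194700 := d15_3 (iv0 D194700) D194701 F415399
theorem F415401 : act 2 n194701 = n184314 := d15_3 F394155 F394156 (iv7 F415399)
theorem F415402 : act 6 n184314 = n141175 := d3_2 F410448 F415401 (iv2 F410447)
theorem F415403 : act 7 n184314 = n194700 := d4_2 (iv7 F415399) F415401 (iv2 F415400)
def n200176 : Q := act 3 n112746
theorem D200176 : act 3 n112746 = n200176 := rfl
theorem F415404 : act 2 n200176 = n199506 := d0_1 D200176 F412449 F338759 F344644 F344699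
theorem F415405 : act 4 n200176 = n198857 := d5_2 F344702 D200176 F409601 (iv4 F380621) F380620
theorem F415406 : act 6 n200176 = n190693 := d7_2 (iv6 F344701) D200176 (iv3 D190693)
theorem F415407 : act 7 n200176 = n198871 := d8_2 F344700 D200176 (iv3 D198871)
theorem F415408 : act 0 n200176 = n198835 := d19_4 (iv1 F390508) F158560 F344702 D200176 F409481 (iv4 F394294) (iv3 D194735) F329313 (iv5 F329159) (iv4 F316680) F316679 (iv1 F230096) D146755 (iv4 F368234) F368235 (iv1 F156993) F156989 (iv4 F156979) (iv3 F390504)
theorem F415409 : act 1 n163841 = n198871 := d15_1 (iv0 F412450) (iv7 F415407) F415404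
def n200177 : Q := act 6 n112748
theorem D200177 : act 6 n112748 = n200177 := rfl
theorem F415410 : act 2 n200177 = n112750 := d3_1 D200177 (iv6 D112750) D112748
theorem F415411 : act 3 n200177 = n167782 := d7_1 D200177 (iv6 F357787) (iv3 F175529)
theorem F415412 : act 4 n200177 = n198402 := d10_1 D200177 (iv6 D198402) (iv4 F175530)
theorem F415413 : act 5 n200177 = n193131 := d12_1 D200177 (iv6 D193131) F155934 D189203 (iv5 F376066)
theorem F415414 : act 7 n200177 = n167765 := d14_2 (iv7 F175531) D200177 (iv6 D167765) F123757 (iv6 F328793)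
theorem F415415 : act 1 n112750 = n177511 := d15_0 (iv0 F409903) (iv7 F415414) F415410
def n200178 : Q := act 0 n112750
theorem D200178 : act 0 n112750 = n200178 := rfl
def n200179 : Q := act 7 n112750
theorem D200179 : act 7 n112750 = n200179 := rfl
theorem F415416 : act 2 n200179 = n167765 := d4_1 D200179 (iv7 F415414) F415410
theorem F415417 : act 3 n200179 = n112753 := d8_1 D200179 (iv7 D112753) (iv3 F175537)
theorem F415418 : act 4 n200179 = n198404 := d11_1 D200179 (iv7 D198404) (iv4 F175538)
theorem F415419 : act 6 n200179 = n167760 := d14_1 D200179 (iv7 F344632) (iv6 D110406) (iv7 F82250) D112750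
theorem F415420 : act 1 n167765 = n200178 := d15_0 (iv0 D200178) D200179 F415416
def n200180 : Q := act 5 n112766
theorem D200180 : act 5 n112766 = n200180 := rfl
theorem F415421 : act 3 n200180 = n162540 := d6_1 D200180 F366952 F359756
theorem F415422 : act 7 n200180 = n153800 := d13_2 (iv7 F359755) D200180 F360260
theorem F415423 : act 4 n200180 = n153804 := d19_2 D112766 D200180 F241662 (iv1 F109252) D73132 D154390 F354900 D175532 (iv5 F371449) F371447 (iv3 F374745) (iv1 F398343) (iv5 D195823) (iv4 F313057) F227743 (iv1 F105973) (iv5 F105964) (iv4 F321475) F175565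
theorem F415424 : act 4 n197122 = n123818 := d18_1 F403144 (iv1 F241665) (iv4 F415423) (iv5 D200180) F357049 (iv0 D115676) (iv4 F168812) D197984 F406389
theorem F415425 : act 0 n148828 = n200180 := d21_10 (iv5 D200180) (iv1 F415294) F415291 (iv6 D198714) F355561 (iv6 F353676) F353675 (iv1 D75137) (iv5 F106153) D148828
theorem F415426 : act 2 n123818 = n153801 := d1_1 F415424 F355103 (iv2 F403141)
theorem F415427 : act 7 n153802 = n123818 := d15_2 (iv0 D153801) D153802 F415426
theorem F415428 : act 7 n123819 = n153801 := d15_2 (iv0 D123818) D123819 (iv2 F415426)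
theorem F415429 : act 2 n153802 = n123819 := d4_3 F415428 (iv2 F415426) (iv7 F415427)
def n200181 : Q := act 0 n112768
theorem D200181 : act 0 n112768 = n200181 := rfl
theorem F415430 : act 4 n200181 = n186836 := d20_0 F369513 F184086 F105341 D69095 D147388 F334590 F112525 (iv4 F312484) F366008 D200181
theorem F415431 : act 6 n200181 = n161651 := d21_5 (iv5 D112579) F82032 D52051 (iv6 F175570) D200181 (iv5 D161651) (iv1 F303161) (iv5 F368984) F414905 (iv1 D200072)
theorem F415432 : act 3 n172847 = n200181 := d7_3 F415431 F255670 D172847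
theorem F415433 : act 7 n178621 = n200181 := d14_0 F415431 (iv7 F383780) F383779 F187921 D178621
theorem F415434 : act 0 n200181 = n198714 := d21_4 (iv5 D77642) D77640 D161651 (iv6 F415431) (iv6 D198714) F169908 (iv1 F323159) D180606 (iv6 F359776) F337066
theorem F415435 : act 5 n155880 = n200181 := d21_0 F415434 (iv5 F415291) F415292 (iv1 F409518) F359976 (iv5 D74132) (iv1 D34007) D34009 D74138 D155880
theorem F415436 : act 7 n179317 = n155880 := d13_0 F415435 (iv7 F415433) F347856
theorem F415437 : act 2 n155880 = n179318 := d15_3 F279205 F279204 F415436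
theorem F415438 : act 2 n179317 = n155881 := d15_3 F279167 F279168 (iv7 F415436)
theorem F415439 : act 7 n155881 = n179318 := d4_2 (iv7 F415436) F415438 (iv2 F415437)
theorem F415440 : act 0 n147806 = n172847 := d20_4 (iv4 F162526) (iv1 F308722) (iv4 F310864) D147806 F415432 F415430 F369513 F184086 F105341 D69095
def n200182 : Q := act 1 n112768
theorem D200182 : act 1 n112768 = n200182 := rfl
theorem F415441 : act 1 n200182 = n198714 := d15_1 D200182 F415287 F415283
theorem F415442 : act 5 n155881 = n200182 := d21_0 (iv1 D200182) (iv5 D112768) (iv6 D52049) (iv1 F40123) D52246 (iv5 F347903) (iv1 F192213) F192210 D179244 (iv1 F279167)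
theorem F415443 : act 6 n157076 = n200182 := d21_3 (iv5 D85021) (iv1 F131855) (iv5 F349779) (iv1 D200182) F175570 (iv5 D52051) D52050 D112771 (iv6 F353672) (iv1 D178550)
theorem F415444 : act 2 n200182 = n178621 := d3_1 F415443 (iv6 D178621) (iv2 F349776)
theorem F415445 : act 3 n200182 = n176474 := d7_1 F415443 (iv6 D176474) (iv3 F349777)
theorem F415446 : act 4 n200182 = n199351 := d10_1 F415443 (iv6 D199351) (iv4 F349778)
def n200183 : Q := act 4 n112768
theorem D200183 : act 4 n112768 = n200183 := rfl
theorem F415447 : act 6 n200183 = n112774 := d10_2 (iv6 F175570) D200183 (iv4 D112774)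
theorem F415448 : act 0 n175408 = n200183 := d20_1 (iv4 F274460) (iv4 D200183) (iv3 F366008) (iv1 F323514) F323515 F226387 (iv1 F316508) (iv4 F105498) (iv3 F231090) F364023
theorem F415449 : act 1 n188123 = n200183 := d15_0 (iv0 F415448) (iv7 F383393) F383391
def n200184 : Q := act 7 n112768
theorem D200184 : act 7 n112768 = n200184 := rfl
theorem F415450 : act 2 n200184 = n198714 := d4_1 D200184 F415287 F415283
theorem F415451 : act 3 n200184 = n180619 := d8_1 D200184 F281142 F366008
theorem F415452 : act 5 n200184 = n112769 := d13_1 D200184 (iv7 D112769) D112768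
theorem F415453 : act 6 n200184 = n180611 := d14_1 D200184 (iv7 D180611) F132222 F326508 (iv6 F175570)
theorem F415454 : act 1 n178621 = n200184 := d15_1 (iv0 F415286) (iv7 D200184) (iv2 F415283)
def n200185 : Q := act 4 n112771
theorem D200185 : act 4 n112771 = n200185 := rfl
theorem F415455 : act 2 n200185 = n123783 := d1_1 D200185 (iv4 F356460) (iv2 F358628)
theorem F415456 : act 3 n200185 = n123698 := d5_1 D200185 (iv4 F343392) (iv3 F343393) F298225 F332155
theorem F415457 : act 6 n200185 = n175317 := d10_2 F353672 D200185 F278251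
theorem F415458 : act 7 n200185 = n154321 := d11_2 (iv7 F175573) D200185 (iv4 F356988)
theorem F415459 : act 1 n200185 = n123099 := d18_6 F80451 F79629 D50254 (iv4 F161138) D112771 D200185 F197296 F353498 (iv5 D110602)
def n200186 : Q := act 4 n112772
theorem D200186 : act 4 n112772 = n200186 := rfl
theorem F415460 : act 3 n200186 = n154219 := d5_1 D200186 (iv4 F347343) F315043 D172857 F334602
theorem F415461 : act 1 n200186 = n197988 := d18_6 F407727 F407725 F364887 F257449 (iv5 F326510) D200186 (iv4 D197988) D197987 (iv5 F406403)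
theorem F415462 : act 6 n154216 = n200186 := d7_0 F415460 (iv6 D154219) D154216
def n200187 : Q := act 6 n112772
theorem D200187 : act 6 n112772 = n200187 := rfl
theorem F415463 : act 2 n200187 = n125090 := d3_1 D200187 (iv6 F350820) F364890
theorem F415464 : act 3 n200187 = n160725 := d7_1 D200187 F352333 F334602
theorem F415465 : act 4 n200187 = n154216 := d10_1 D200187 F415462 (iv4 D200186)
theorem F415466 : act 5 n200187 = n125087 := d12_1 D200187 F352301 (iv5 D78426) D78427 (iv5 F326510)
theorem F415467 : act 0 n200187 = n157079 := d21_4 (iv5 D166145) F332171 (iv5 F326510) D200187 (iv6 D157079) (iv5 D74685) D74683 F313593 (iv6 F348459) (iv1 F361331)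
theorem F415468 : act 0 n158983 = n200187 := d21_4 F90858 D60177 D128054 F306221 (iv6 D200187) F326510 D163140 (iv5 F409891) F409892 (iv1 D123709)
theorem F415469 : act 7 n200187 = n125085 := d15_2 (iv0 F352310) (iv0 F415467) (iv2 F352307)
def n200188 : Q := act 4 n112773
theorem D200188 : act 4 n112773 = n200188 := rfl
theorem F415470 : act 0 n200188 = n197988 := d18_2 F332148 D200188 (iv4 D197988) (iv5 D108836) F79629 D50255 (iv4 F82031) (iv0 F326501) D121740
def n200189 : Q := act 6 n112773
theorem D200189 : act 6 n112773 = n200189 := rfl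
theorem F415471 : act 2 n200189 = n129726 := d3_1 D200189 F364894 (iv2 F364889)
theorem F415472 : act 3 n200189 = n185248 := d7_1 D200189 (iv6 F368153) F368156
theorem F415473 : act 5 n200189 = n129705 := d12_1 D200189 F361186 (iv5 F332142) F332143 (iv5 F332138)
theorem F415474 : act 7 n200189 = n129731 := d14_2 F364888 D200189 (iv6 F352308) (iv7 F350812) (iv6 F350820)
def n200190 : Q := act 0 n112774
theorem D200190 : act 0 n112774 = n200190 := rfl
def n200191 : Q := act 1 n112774
theorem D200191 : act 1 n112774 = n200191 := rfl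
theorem F415475 : act 4 n200191 = n178363 := d18_7 (iv1 F168817) F82009 F39684 (iv4 F39865) D52051 D112774 D200191 (iv0 F407056) F406410
def n200192 : Q := act 5 n112774
theorem D200192 : act 5 n112774 = n200192 := rfl
def n200193 : Q := act 4 n112777
theorem D200193 : act 4 n112777 = n200193 := rfl
theorem F415476 : act 3 n200193 = n195846 := d5_1 D200193 (iv4 D195846) F334815 (iv4 F340920) F353491
theorem F415477 : act 7 n200193 = n198913 := d11_2 (iv7 F175576) D200193 (iv4 D198913)
theorem F415478 : act 0 n200193 = n187062 := d18_2 (iv1 F414866) D200193 (iv4 F414907) F414904 F332135 (iv0 F175027) (iv4 F202715) (iv0 F363261) (iv5 F414863)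
def n200194 : Q := act 3 n112780
theorem D200194 : act 3 n112780 = n200194 := rfl
theorem F415479 : act 4 n200194 = n136809 := d5_2 D112780 D200194 (iv3 D136809) (iv4 F175578) (iv3 D112779)
def n200195 : Q := act 5 n112780
theorem D200195 : act 5 n112780 = n200195 := rfl
theorem F415480 : act 0 n200195 = n197335 := d17_2 F203881 D200195 (iv5 D197335) F167170 D156109 (iv0 F245295) (iv5 D139659) F169269 (iv4 F169262)
theorem F415481 : act 1 n200195 = n197337 := d17_6 (iv1 F166966) F166173 F175582 (iv5 D112781) D112780 D200195 (iv5 D197337) F403663 F403661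
def n200196 : Q := act 4 n112781
theorem D200196 : act 4 n112781 = n200196 := rfl
theorem F415482 : act 2 n200196 = n125989 := d1_1 D200196 F202668 (iv2 F202470)
theorem F415483 : act 3 n200196 = n194849 := d5_1 D200196 (iv4 F408796) F408795 (iv4 F408799) F408798
theorem F415484 : act 6 n200196 = n125959 := d10_2 (iv6 F175580) D200196 (iv4 D125959)
theorem F415485 : act 7 n200196 = n126019 := d11_2 F202467 D200196 F202715
theorem F415486 : act 1 n200196 = n198833 := d18_6 (iv1 D109272) (iv4 F169262) F203881 (iv4 D112780) D112781 D200196 F409472 (iv0 F245300) F169264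
def n200197 : Q := act 3 n112784
theorem D200197 : act 3 n112784 = n200197 := rfl
theorem F415487 : act 4 n200197 = n140480 := d5_2 D112784 D200197 (iv3 D140480) F168653 F180074
def n200198 : Q := act 5 n112784
theorem D200198 : act 5 n112784 = n200198 := rfl
theorem F415488 : act 0 n200198 = n197337 := d17_2 (iv1 F396797) D200198 (iv5 D197337) F171181 D156110 (iv0 F245300) F169264 F169263 (iv4 F396795)
theorem F415489 : act 1 n200198 = n197335 := d17_6 D49928 D108102 F175588 (iv5 D112785) D112784 D200198 (iv5 D197335) (iv0 D108097) F78973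
theorem F415490 : act 3 n192307 = n200198 := d19_19 F415488 (iv5 D197337) F171181 F168827 (iv1 D52205) (iv5 F40161) (iv4 F82647) (iv3 F328006) F151640 (iv5 F270684) F270685 (iv3 F323359) (iv1 F201503) (iv5 F342099) F354009 (iv3 F354008) (iv1 D100043) D100044 D192307
theorem F415491 : act 4 n200198 = n192320 := d5_2 D192307 F415490 (iv3 D192320) (iv4 D100058) (iv3 F153974)
theorem F415492 : act 5 n200197 = n192307 := d6_0 F415490 (iv5 D200198) D200197
def n200199 : Q := act 3 n112786
theorem D200199 : act 3 n112786 = n200199 := rfl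
theorem F415493 : act 4 n200199 = n145318 := d5_2 (iv4 F175589) D200199 (iv3 D145318) F165715 D107065
theorem F415494 : act 6 n200199 = n198149 := d7_2 F402143 D200199 (iv3 F406989)
theorem F415495 : act 0 n196595 = n200199 := d20_7 F165724 (iv1 F78374) D68137 D145325 (iv1 F410816) (iv3 F410788) F410789 F415493 (iv3 D145318) (iv1 F165727)
def n200200 : Q := act 5 n112786
theorem D200200 : act 5 n112786 = n200200 := rfl
theorem F415496 : act 0 n200200 = n197343 := d17_2 D112786 D200200 (iv5 D197343) (iv4 D108101) D108102 (iv0 F175581) (iv5 D112781) (iv0 D52055) D52057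
theorem F415497 : act 1 n200200 = n197344 := d17_6 F169195 F169194 F364887 F332172 (iv4 F175589) D200200 (iv5 D197344) F245289 F245287
def n200201 : Q := act 5 n112787
theorem D200201 : act 5 n112787 = n200201 := rfl
theorem F415498 : act 0 n200201 = n197344 := d17_2 (iv1 F396758) D200201 (iv5 D197344) (iv4 D108103) F166173 (iv0 F175585) (iv5 D112785) F162052 (iv4 F396756)
theorem F415499 : act 1 n200201 = n197343 := d17_6 D111201 D199331 F411741 F174619 (iv4 F175590) D200201 (iv5 D197343) F167180 (iv4 F80905)
def n200202 : Q := act 4 n112788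
theorem D200202 : act 4 n112788 = n200202 := rfl
def n200203 : Q := act 6 n112788
theorem D200203 : act 6 n112788 = n200203 := rfl
theorem F415500 : act 5 n200203 = n112790 := d12_1 D200203 (iv6 D112790) (iv5 D52059) (iv6 F82272) D112788
def n200204 : Q := act 0 n112790
theorem D200204 : act 0 n112790 = n200204 := rfl
theorem F415501 : act 6 n200204 = n196594 := d21_5 F81577 F40771 D52059 D112790 D200204 F404249 (iv1 D197246) F166978 (iv6 D105518) F81580
theorem F415502 : act 3 n196595 = n200204 := d7_3 F415501 (iv3 D196594) D196595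
def n200205 : Q := act 1 n112790
theorem D200205 : act 1 n112790 = n200205 := rfl
def n200206 : Q := act 7 n112790
theorem D200206 : act 7 n112790 = n200206 := rfl
theorem F415503 : act 4 n200206 = n199904 := d11_1 D200206 (iv7 D199904) (iv4 F175593)
theorem F415504 : act 6 n200206 = n144436 := d14_1 D200206 (iv7 D144436) (iv6 D67681) (iv7 F82277) D112790
def n200207 : Q := act 3 n112837
theorem D200207 : act 3 n112837 = n200207 := rfl
theorem F415505 : act 4 n200207 = n156585 := d5_2 D112837 D200207 F246251 (iv4 F336687) (iv3 F101581)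
theorem F415506 : act 6 n200207 = n125630 := d7_2 (iv6 F175692) D200207 F202074
theorem F415507 : act 7 n200207 = n125534 := d8_2 (iv7 F175693) D200207 F201912
theorem F415508 : act 0 n200207 = n127355 := d19_4 F168054 F82307 D112837 D200207 F350089 F122427 (iv3 D36336) D36334 F316308 (iv4 D68526) D68525 (iv1 F243112) (iv5 D105758) (iv4 F162412) F340850 (iv1 F317149) F317151 F79948 D52082
theorem F415509 : act 5 n163459 = n200207 := d17_1 (iv1 F373666) F415508 F350089 F122427 D79789 F338189 (iv5 F334017) (iv0 F334030) D178284
def n200208 : Q := act 5 n112837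
theorem D200208 : act 5 n112837 = n200208 := rfl
theorem F415510 : act 2 n200208 = n125699 := d2_1 D200208 F202176 (iv2 F175691)
theorem F415511 : act 3 n200208 = n163459 := d6_1 D200208 F415509 (iv3 D200207)
theorem F415512 : act 6 n200208 = n163457 := d12_2 (iv6 F175692) D200208 F376762 (iv6 F376760) F202089
theorem F415513 : act 7 n200208 = n125537 := d13_2 (iv7 F175693) D200208 (iv5 D125537)
theorem F415514 : act 1 n200208 = n125696 := d17_6 F103480 (iv5 F168056) F168054 F82307 D112837 D200208 F202175 F202448 F202447
theorem F415515 : act 0 n200208 = n125694 := d18_0 F202172 F364565 (iv4 F356053) (iv5 D113205) F82616 (iv0 F76500) (iv4 F93073) (iv0 F175694) D200208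
theorem F415516 : act 4 n194282 = n200208 := d20_6 F100446 (iv1 F93035) F326926 D174692 F395546 F392645 F415515 F202172 F169319 F100447
def n200209 : Q := act 5 n112839
theorem D200209 : act 5 n112839 = n200209 := rfl
theorem F415517 : act 2 n200209 = n181007 := d2_1 D200209 F345715 F175702
theorem F415518 : act 3 n200209 = n181229 := d6_1 D200209 (iv5 F356068) F355922
theorem F415519 : act 6 n200209 = n181696 := d12_2 F175705 D200209 (iv5 F382506) (iv6 F409808) (iv5 D198901)
theorem F415520 : act 7 n200209 = n113205 := d13_2 (iv7 F175704) D200209 (iv5 D113205)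
theorem F415521 : act 0 n200209 = n194279 := d17_2 D112839 D200209 F392631 (iv4 F326906) (iv5 D116989) F85028 F82307 (iv0 D52079) D52081
theorem F415522 : act 4 n200209 = n186300 := d19_2 D112839 D200209 (iv3 F392201) (iv1 F392204) F379125 (iv4 D190227) F147442 D95770 F317111 F94413 F45988 (iv1 F37193) (iv5 F37194) F27578 (iv3 F27575) D34735 (iv5 F116804) (iv4 F129613) F326097
def n200210 : Q := act 0 n112840
theorem D200210 : act 0 n112840 = n200210 := rfl
theorem F415523 : act 5 n200210 = n126305 := d17_1 D200210 (iv1 F203080) F395120 F395117 F160605 (iv0 F395612) (iv5 F394511) F395247 F394810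
theorem F415524 : act 2 n189790 = n200210 := d15_3 (iv0 D200210) (iv0 F362942) (iv7 F377760)
theorem F415525 : act 1 n113249 = n200210 := d15_0 (iv0 D200210) F175706 (iv2 F176448)
theorem F415526 : act 7 n200210 = n198900 := d15_2 (iv0 F362283) F415525 (iv2 F409800)
def n200211 : Q := act 5 n112841
theorem D200211 : act 5 n112841 = n200211 := rfl
theorem F415527 : act 2 n200211 = n144067 := d2_1 D200211 (iv5 D144067) (iv2 F175707)
theorem F415528 : act 3 n200211 = n187236 := d6_1 D200211 (iv5 F408449) F408446
theorem F415529 : act 7 n200211 = n144069 := d13_2 (iv7 F175708) D200211 (iv5 D144069)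
theorem F415530 : act 4 n200211 = n187238 := d16_2 D112841 D200211 F369599 (iv4 F392630) F392631 (iv4 F326906) (iv5 D116989) (iv7 F93329) F168074
theorem F415531 : act 0 n200211 = n197474 := d17_2 F175709 D200211 (iv5 D197474) F175748 D113061 (iv0 F176149) (iv5 F168366) F168365 (iv4 F85050)
theorem F415532 : act 1 n200211 = n197476 := d17_6 (iv1 F82352) (iv5 F93175) F103480 (iv5 F168056) D112841 D200211 (iv5 D197476) (iv0 F295864) F295867
def n200212 : Q := act 4 n112842
theorem D200212 : act 4 n112842 = n200212 := rfl
theorem F415533 : act 2 n200212 = n196396 := d1_1 D200212 F400582 (iv2 F358268)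
theorem F415534 : act 5 n200212 = n199733 := d17_5 (iv1 D110999) F295476 D97386 (iv5 F355504) D200212 F413292 F405693 F400657 F400655
def n200213 : Q := act 6 n112842
theorem D200213 : act 6 n112842 = n200213 := rfl
theorem F415535 : act 3 n200213 = n136277 := d7_1 D200213 (iv6 F355468) F335867
theorem F415536 : act 5 n200213 = n136275 := d12_1 D200213 (iv6 F361139) (iv5 F382582) (iv6 D191207) (iv5 F355504)
theorem F415537 : act 7 n200213 = n194590 := d14_2 (iv7 F358253) D200213 (iv6 D194590) F393332 F393329
theorem F415538 : act 0 n200213 = n194601 := d21_10 F393789 (iv1 F378312) (iv5 F373310) (iv6 D188402) F292229 F295524 F295476 D97386 (iv5 F355504) D200213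
theorem F415539 : act 0 n190631 = n200213 := d17_2 F340378 D190631 F415536 (iv4 F359863) (iv5 D97197) (iv0 D45421) D45423 D97205 F340379
def n200214 : Q := act 3 n112843
theorem D200214 : act 3 n112843 = n200214 := rfl
theorem F415540 : act 4 n200214 = n156186 := d5_2 (iv4 F407690) D200214 (iv3 F407696) (iv4 D198345) (iv3 F407688)
theorem F415541 : act 5 n200214 = n191087 := d6_2 (iv5 F358271) D200214 (iv3 F382163)
theorem F415542 : act 6 n200214 = n194587 := d7_2 F358272 D200214 (iv3 D194587)
def n200215 : Q := act 4 n112846
theorem D200215 : act 4 n112846 = n200215 := rfl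
theorem F415543 : act 2 n200215 = n164383 := d1_1 D200215 (iv4 F350590) (iv2 F175714)
theorem F415544 : act 3 n200215 = n144977 := d5_1 D200215 (iv4 F356608) F228569 (iv4 F334494) (iv3 F360261)
theorem F415545 : act 5 n200215 = n127804 := d9_2 D112846 D200215 (iv4 F360289) F172245 F80807 (iv5 F79018) (iv4 F167279) (iv5 F404375) F404374 (iv5 D196779) (iv4 D107315) (iv5 D49583) (iv4 F37979) (iv5 F39942) (iv4 F82328)
theorem F415546 : act 6 n200215 = n114037 := d10_2 F350612 D200215 F261859
theorem F415547 : act 0 n200215 = n164385 := d18_2 F401701 D200215 (iv4 F353121) (iv5 D137505) F165335 (iv0 D59659) (iv4 F94053) F165333 D196756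
theorem F415548 : act 1 n200215 = n114155 := d18_6 (iv1 F175728) (iv4 D112849) (iv1 D52089) (iv4 F82328) D112846 D200215 (iv4 F353123) F220706 F209161
theorem F415549 : act 7 n200215 = n164384 := d15_2 F401770 (iv0 F415547) (iv2 F401765)
def n200216 : Q := act 7 n112846
theorem D200216 : act 7 n112846 = n200216 := rfl
theorem F415550 : act 2 n200216 = n197448 := d4_1 D200216 (iv7 D197448) (iv2 F175714)
theorem F415551 : act 3 n200216 = n127636 := d8_1 D200216 F334493 (iv3 F360261)
theorem F415552 : act 4 n200216 = n164384 := d11_1 D200216 (iv7 F415549) (iv4 D200215)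
theorem F415553 : act 5 n200216 = n112847 := d13_1 D200216 (iv7 D112847) D112846
theorem F415554 : act 6 n200216 = n191107 := d14_1 D200216 (iv7 D191107) (iv6 D97285) (iv7 F288180) F350612
theorem F415555 : act 1 n127117 = n200216 := d15_1 (iv0 F204368) (iv7 D200216) F175714
theorem F415556 : act 1 n200216 = n127114 := d15_1 F415555 (iv7 F401700) F401698
def n200217 : Q := act 3 n112848
theorem D200217 : act 3 n112848 = n200217 := rfl
theorem F415557 : act 4 n200217 = n156062 := d5_2 D112848 D200217 (iv3 D156062) F166212 (iv3 F166210)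
theorem F415558 : act 5 n200217 = n149212 := d6_2 (iv5 F350601) D200217 F234600
theorem F415559 : act 6 n200217 = n144030 := d7_2 (iv6 F175721) D200217 (iv3 D144030)
theorem F415560 : act 7 n200217 = n130586 := d8_2 (iv7 F175722) D200217 (iv3 D130586)
theorem F415561 : act 0 n156062 = n192160 := d20_7 (iv4 D22332) D22330 D46608 (iv3 F329596) (iv1 F175724) D200217 F415557 (iv4 D192160) (iv3 D99808) (iv1 D46614)
theorem F415562 : act 0 n193689 = n156062 := d20_1 D193689 (iv4 F415557) (iv3 D200217) F175723 (iv3 F209153) F346779 (iv1 F346780) (iv4 F346782) (iv3 F234624) (iv1 F359293)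
theorem F415563 : act 0 n149199 = n200217 := d20_4 (iv4 F153487) D192095 (iv4 F414402) F414398 (iv3 D200217) (iv4 D112848) (iv1 F82337) (iv4 F167279) F346758 (iv1 D99811)
theorem F415564 : act 1 n149180 = n200217 := d17_6 (iv1 D32501) (iv5 D15383) D15381 D32493 D70011 D149180 F415558 F234597 (iv4 D70040)
def n200218 : Q := act 6 n112849
theorem D200218 : act 6 n112849 = n200218 := rfl
theorem F415565 : act 2 n200218 = n130588 := d3_1 D200218 (iv6 D130588) (iv2 F175725)
theorem F415566 : act 4 n200218 = n112850 := d10_1 D200218 (iv6 D112850) D112849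
theorem F415567 : act 7 n200218 = n144034 := d14_2 (iv7 F175726) D200218 (iv6 D144034) F103490 (iv6 F165092)
theorem F415568 : act 0 n200218 = n138262 := d21_10 F365015 (iv1 F365014) (iv5 D116967) (iv6 D53907) (iv1 F46311) D60458 D128536 F339729 F339730 D200218
theorem F415569 : act 0 n144294 = n200218 := d21_4 D195542 (iv1 F408097) F408094 F226992 (iv6 D200218) (iv5 F339730) F357127 F329744 (iv6 F206730) (iv1 F206731)
def n200219 : Q := act 3 n112855
theorem D200219 : act 3 n112855 = n200219 := rfl
theorem F415570 : act 4 n200219 = n138642 := d5_2 (iv4 F175743) D200219 (iv3 D138642) (iv4 D65098) (iv3 F161366)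
theorem F415571 : act 6 n200219 = n127116 := d7_2 F175744 D200219 (iv3 D127116)
theorem F415572 : act 7 n200219 = n197475 := d8_2 F175745 D200219 (iv3 D197475)
theorem F415573 : act 2 n194054 = n200219 := d3_3 F415571 F385938 D194054
theorem F415574 : act 0 n200219 = n192869 := d21_4 (iv5 F137244) D187079 (iv5 F369047) (iv6 F415571) (iv6 D192869) (iv5 D100864) (iv1 F157783) (iv5 F365283) F368777 (iv1 D102245)
theorem F415575 : act 4 n199305 = n194054 := d1_0 F415573 F415570 F411575
theorem F415576 : act 1 n113069 = n197475 := d15_1 (iv0 F391893) (iv7 F415572) (iv2 F415573)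
theorem F415577 : act 6 n194052 = n199305 := d10_0 F415575 (iv6 D194054) D194052
def n200220 : Q := act 5 n112855
theorem D200220 : act 5 n112855 = n200220 := rfl
theorem F415578 : act 2 n200220 = n197474 := d2_1 D200220 (iv5 D197474) (iv2 F175747)
theorem F415579 : act 6 n200220 = n164449 := d12_2 F175744 D200220 F259089 F339972 (iv5 D127117)
theorem F415580 : act 7 n200220 = n197476 := d13_2 F175745 D200220 (iv5 D197476)
theorem F415581 : act 0 n200220 = n144069 := d17_2 D112855 D200220 (iv5 D144069) (iv4 D67503) (iv5 F93120) (iv0 F175766) (iv5 D112860) (iv0 D52093) (iv4 F82344)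
theorem F415582 : act 1 n200220 = n144067 := d17_6 D113206 F176370 F176218 (iv5 D113102) (iv4 F175743) D200220 (iv5 D144067) F169268 F82625
theorem F415583 : act 4 n190281 = n200220 := d10_3 F415579 F259090 D190281
theorem F415584 : act 0 n198420 = n190281 := d18_0 F415583 F415581 F361798 (iv5 F160605) (iv4 F395117) F395121 F356053 (iv0 F364565) D198420
def n200221 : Q := act 3 n112856
theorem D200221 : act 3 n112856 = n200221 := rfl
theorem F415585 : act 4 n200221 = n197336 := d5_2 (iv4 F175752) D200221 (iv3 D197336) F171181 F168827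
theorem F415586 : act 7 n200221 = n197473 := d8_2 (iv7 F175751) D200221 (iv3 D197473)
theorem F415587 : act 0 n192419 = n200221 := d20_4 F331349 F392488 F392485 (iv3 F386694) (iv3 D200221) F175752 (iv1 D52205) (iv4 F82436) (iv3 F175936) (iv1 F331347)
def n200222 : Q := act 5 n112856
theorem D200222 : act 5 n112856 = n200222 := rfl
theorem F415588 : act 2 n200222 = n197476 := d2_1 D200222 (iv5 D197476) F175753
theorem F415589 : act 7 n200222 = n197474 := d13_2 (iv7 F175751) D200222 (iv5 D197474)
theorem F415590 : act 0 n200222 = n144067 := d17_2 (iv1 F175750) D200222 (iv5 D144067) (iv4 D67499) D67500 (iv0 F103360) F93413 F82347 (iv4 F167334)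
theorem F415591 : act 1 n200222 = n144069 := d17_6 (iv1 F169547) (iv5 F395462) F395464 F161230 (iv4 F175752) D200222 (iv5 D144069) F182930 F182928
def n200223 : Q := act 6 n112856
theorem D200223 : act 6 n112856 = n200223 := rfl
theorem F415592 : act 2 n200223 = n197477 := d3_1 D200223 (iv6 D197477) F175753
theorem F415593 : act 4 n200223 = n113103 := d10_1 D200223 (iv6 D113103) (iv4 F175752)
theorem F415594 : act 7 n200223 = n127115 := d14_2 (iv7 F175751) D200223 (iv6 D127115) (iv7 F165331) (iv6 F175749)
theorem F415595 : act 5 n200223 = n117026 := d21_6 D67568 (iv1 F295945) F323025 F321405 (iv1 F175750) D200223 (iv1 F394724) F394720 F165839 (iv1 F103336)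
theorem F415596 : act 0 n126178 = n200223 := d21_4 (iv5 F357170) F357168 (iv5 D127339) (iv6 F202908) (iv6 D200223) D200222 F415590 (iv5 D144067) D144068 F226781
theorem F415597 : act 1 n126175 = n200223 := d15_0 (iv0 F415596) F202909 (iv2 F202901)
def n200224 : Q := act 4 n112857
theorem D200224 : act 4 n112857 = n200224 := rfl
theorem F415598 : act 2 n200224 = n187336 := d1_1 D200224 F369869 (iv2 F175754)
theorem F415599 : act 3 n200224 = n160679 := d5_1 D200224 F253819 (iv3 F262417) (iv4 F369896) F369895
theorem F415600 : act 5 n200224 = n194869 := d9_2 D112857 D200224 F394810 (iv5 D112840) (iv4 D52081) (iv5 F79065) (iv4 F167334) (iv5 F404501) F404500 F369648 (iv4 F355925) (iv5 D113249) F82655 (iv5 F45254) (iv4 F82344)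
theorem F415601 : act 6 n200224 = n160678 := d10_2 F402356 D200224 (iv4 F402358)
theorem F415602 : act 0 n190040 = n160678 := d21_4 (iv5 D44643) D44641 D95575 D190040 (iv6 F415601) F415600 (iv1 F395247) F394511 (iv6 D190046) (iv1 D95582)
def n200225 : Q := act 3 n112859
theorem D200225 : act 3 n112859 = n200225 := rfl
theorem F415603 : act 4 n200225 = n156120 := d5_2 D112859 D200225 (iv3 D156120) F166290 (iv3 F166289)
theorem F415604 : act 6 n200225 = n127126 := d7_2 (iv6 F175761) D200225 (iv3 D127126)
theorem F415605 : act 7 n200225 = n197485 := d8_2 (iv7 F175762) D200225 (iv3 D197485)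
def n200226 : Q := act 5 n112859
theorem D200226 : act 5 n112859 = n200226 := rfl
theorem F415606 : act 2 n200226 = n197482 := d2_1 D200226 (iv5 D197482) (iv2 F175760)
theorem F415607 : act 6 n200226 = n164381 := d12_2 (iv6 F175761) D200226 (iv5 D164381) (iv6 F352675) (iv5 D127127)
theorem F415608 : act 7 n200226 = n197486 := d13_2 (iv7 F175762) D200226 (iv5 D197486)
theorem F415609 : act 0 n200226 = n144062 := d17_2 (iv1 F175771) D200226 (iv5 D144062) F175997 (iv5 F176399) (iv0 F176402) (iv5 D113061) (iv0 D52182) (iv4 F82358)
theorem F415610 : act 1 n200226 = n144060 := d17_6 D31363 D67500 F175767 (iv5 D112860) D112859 D200226 (iv5 D144060) (iv0 D67494) F49631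
theorem F415611 : act 4 n190046 = n200226 := d18_7 (iv1 F182889) F182886 (iv1 F85033) D67503 D144069 F361798 (iv0 F395612) F415610 (iv5 D144060)
def n200227 : Q := act 4 n112860
theorem D200227 : act 4 n112860 = n200227 := rfl
theorem F415612 : act 2 n200227 = n197483 := d1_1 D200227 (iv4 D197483) (iv2 F175763)
theorem F415613 : act 3 n200227 = n128940 := d5_1 D200227 F362282 F160586 D194266 F392580
theorem F415614 : act 6 n200227 = n128932 := d10_2 (iv6 F175764) D200227 (iv4 F352198)
theorem F415615 : act 7 n200227 = n125948 := d11_2 (iv7 F175765) D200227 F202447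
theorem F415616 : act 5 n200227 = n128929 := d17_5 (iv1 F82305) (iv5 F45254) D52093 D112860 D200227 F395242 (iv5 D125695) (iv0 F175694) (iv4 D112837)
theorem F415617 : act 0 n200227 = n125785 := d17_0 F345727 F345730 (iv5 D125537) F92905 F45157 D31364 (iv5 F93120) (iv0 F175766) D200227
theorem F415618 : act 1 n200227 = n195063 := d18_6 (iv1 D52183) (iv4 F82358) (iv1 F175771) (iv4 D112859) D112860 D200227 F395621 (iv0 F168369) F82763
def n200228 : Q := act 3 n112861
theorem D200228 : act 3 n112861 = n200228 := rfl
theorem F415619 : act 4 n200228 = n156593 := d5_2 D112861 D200228 (iv3 D156593) (iv4 F171750) (iv3 F171749)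
theorem F415620 : act 7 n200228 = n197481 := d8_2 (iv7 F175769) D200228 (iv3 D197481)
def n200229 : Q := act 5 n112861
theorem D200229 : act 5 n112861 = n200229 := rfl
theorem F415621 : act 2 n200229 = n197486 := d2_1 D200229 (iv5 D197486) (iv2 F175768)
theorem F415622 : act 7 n200229 = n197482 := d13_2 (iv7 F175769) D200229 (iv5 D197482)
theorem F415623 : act 4 n200229 = n190258 := d16_2 D112861 D200229 F395244 F395240 (iv5 F415616) (iv4 D200227) (iv5 D112860) F166439 F166438
theorem F415624 : act 0 n200229 = n144060 := d17_2 (iv1 F175943) D200229 (iv5 D144060) F168415 F168366 (iv0 F168369) F82763 F82547 (iv4 F175941)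
theorem F415625 : act 1 n200229 = n144062 := d17_6 (iv1 F85033) (iv5 F93120) F93414 F93413 D112861 D200229 (iv5 D144062) F182888 F182886
def n200230 : Q := act 3 n112863
theorem D200230 : act 3 n112863 = n200230 := rfl
theorem F415626 : act 2 n200230 = n194632 := d0_1 D200230 (iv3 D194632) F393359 (iv3 F393360) F352941
theorem F415627 : act 4 n200230 = n195517 := d5_2 F352942 D200230 F397200 (iv4 D136573) F352943
theorem F415628 : act 6 n200230 = n194059 := d7_2 (iv6 F352940) D200230 (iv3 D194059)
theorem F415629 : act 7 n200230 = n196590 := d8_2 F352952 D200230 (iv3 D196590)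
def n200231 : Q := act 5 n112865
theorem D200231 : act 5 n112865 = n200231 := rfl
theorem F415630 : act 3 n200231 = n112866 := d6_1 D200231 (iv5 D112866) (iv3 F175777)
def n200232 : Q := act 4 n112866
theorem D200232 : act 4 n112866 = n200232 := rfl
theorem F415631 : act 5 n200232 = n194850 := d16_3 (iv4 F82358) D112866 D200232 F394749 (iv5 D125693) F93069 (iv5 F82619) (iv7 D52206) F40079
theorem F415632 : act 0 n200232 = n144135 := d18_2 (iv1 F226776) D200232 (iv4 D144135) (iv5 D67527) F82625 (iv0 F169546) (iv4 F182881) F182879 (iv5 F226775)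
theorem F415633 : act 3 n187270 = n200232 := d6_3 F415631 (iv3 D194850) F369919
def n200233 : Q := act 5 n112877
theorem D200233 : act 5 n112877 = n200233 := rfl
theorem F415634 : act 2 n200233 = n112880 := d2_1 D200233 (iv5 D112880) D112877
theorem F415635 : act 3 n200233 = n181907 := d6_1 D200233 (iv5 F294975) (iv3 F357660)
theorem F415636 : act 7 n200233 = n112885 := d13_2 F175801 D200233 (iv5 D112885)
theorem F415637 : act 0 n200233 = n131135 := d21_1 D200233 F210039 (iv6 F202911) (iv1 F332885) (iv6 D144040) (iv5 F325796) (iv1 F176120) F331481 F95011 (iv1 F357659)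
theorem F415638 : act 6 n144093 = n200233 := d21_5 (iv5 D30344) F40136 D31369 D67514 D144093 (iv5 D200233) F357658 (iv5 F82492) F331485 F49611
theorem F415639 : act 3 n187403 = n144093 := d7_3 F415638 F415635 (iv6 F370201)
theorem F415640 : act 7 n187400 = n144093 := d14_0 F415638 F415636 F357656 (iv7 F138313) D187400
theorem F415641 : act 1 n112880 = n130551 := d15_0 F343135 (iv7 F415636) F415634
def n200234 : Q := act 6 n112877
theorem D200234 : act 6 n112877 = n200234 := rfl
theorem F415642 : act 2 n200234 = n112881 := d3_1 D200234 (iv6 D112881) D112877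
theorem F415643 : act 3 n200234 = n194479 := d7_1 D200234 F393379 (iv3 F357660)
theorem F415644 : act 4 n200234 = n197573 := d10_1 D200234 (iv6 D197573) (iv4 F357661)
theorem F415645 : act 7 n200234 = n188872 := d14_2 F175801 D200234 (iv6 D188872) F143257 F357657
theorem F415646 : act 0 n200234 = n197481 := d20_7 F111767 (iv1 F79271) D108451 D197556 F404884 (iv3 F404877) (iv4 F415644) F404511 F225008 F167339
def n200235 : Q := act 5 n112878
theorem D200235 : act 5 n112878 = n200235 := rfl
theorem F415647 : act 2 n200235 = n199303 := d2_1 D200235 (iv5 D199303) (iv2 F357671)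
theorem F415648 : act 3 n200235 = n112880 := d6_1 D200235 (iv5 D112880) D112878
theorem F415649 : act 7 n200235 = n199306 := d13_2 F357667 D200235 (iv5 D199306)
def n200236 : Q := act 6 n112878
theorem D200236 : act 6 n112878 = n200236 := rfl
theorem F415650 : act 2 n200236 = n194641 := d3_1 D200236 F393922 (iv2 F357671)
theorem F415651 : act 3 n200236 = n112881 := d7_1 D200236 (iv6 D112881) D112878
theorem F415652 : act 4 n200236 = n199300 := d10_1 D200236 (iv6 D199300) F357670
theorem F415653 : act 7 n200236 = n192848 := d14_2 F357667 D200236 (iv6 D192848) (iv7 F375519) F375518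
theorem F415654 : act 1 n194639 = n200236 := d15_1 D194639 F415653 F388007
theorem F415655 : act 1 n194641 = n173858 := d15_0 (iv0 F388009) (iv7 F415653) F415650
theorem F415656 : act 0 n194638 = n200236 := d20_10 F415652 (iv1 F411558) (iv4 F415570) (iv3 D200219) (iv1 F175746) F319664 F107785 D71293 D151281 F393911
theorem F415657 : act 0 n200228 = n112881 := d20_4 F167334 (iv1 F82347) D112861 D200228 (iv3 F415651) F415652 (iv1 F411558) (iv4 F415570) (iv3 D200219) (iv1 F175746)
theorem F415658 : act 1 n200228 = n188872 := d15_1 (iv0 F415657) (iv7 F415645) F415642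
def n200237 : Q := act 3 n112879
theorem D200237 : act 3 n112879 = n200237 := rfl
theorem F415659 : act 2 n200237 = n197571 := d0_1 D200237 (iv3 D197571) (iv2 D108470) D108471 F357662
theorem F415660 : act 4 n200237 = n189039 := d5_2 D112879 D200237 F375535 F357670 (iv3 D112878)
theorem F415661 : act 0 n200237 = n197558 := d20_4 F48142 D52101 D112879 D200237 (iv3 D197558) F343125 (iv1 F315168) F343128 (iv3 D134853) (iv1 D63376)
theorem F415662 : act 0 n187963 = n200237 := d20_4 F349769 (iv1 F349773) (iv4 F405281) (iv3 F405283) (iv3 D200237) (iv4 D112879) D112876 (iv4 F217036) (iv3 F345281) F345278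
theorem F415663 : act 7 n200237 = n188923 := d15_2 (iv0 F404816) (iv0 F415661) F375210
def n200238 : Q := act 5 n112879
theorem D200238 : act 5 n112879 = n200238 := rfl
theorem F415664 : act 2 n200238 = n192646 := d2_1 D200238 F387341 F357662
theorem F415665 : act 0 n200238 = n188982 := d21_1 D200238 F375324 F363392 (iv1 F165851) D196979 F402521 (iv1 D114329) D114331 (iv6 F405177) (iv1 F405179)
theorem F415666 : act 1 n200238 = n199187 := d15_1 (iv0 F415665) F411083 F410879
def n200239 : Q := act 6 n112879
theorem D200239 : act 6 n112879 = n200239 := rfl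
theorem F415667 : act 2 n200239 = n197573 := d3_1 D200239 (iv6 D197573) F357662
theorem F415668 : act 4 n200239 = n112881 := d10_1 D200239 (iv6 D112881) D112879
def n200240 : Q := act 7 n112879
theorem D200240 : act 7 n112879 = n200240 := rfl
theorem F415669 : act 2 n200240 = n112884 := d4_1 D200240 F357649 F357662
theorem F415670 : act 3 n200240 = n188923 := d8_1 D200240 (iv7 F415663) (iv3 D200237)
theorem F415671 : act 4 n200240 = n112882 := d11_1 D200240 (iv7 D112882) D112879
theorem F415672 : act 1 n124867 = n200240 := d15_1 (iv0 F314695) (iv7 D200240) (iv2 F357662)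
theorem F415673 : act 1 n200240 = n197566 := d15_1 F415672 (iv7 F405178) F405176
theorem F415674 : act 6 n154742 = n200240 := d21_3 (iv5 F379914) (iv1 D188921) (iv5 F365331) (iv1 F415672) F322931 (iv5 F340006) D127790 (iv5 F339976) (iv6 F379911) F379913
def n200241 : Q := act 0 n112880
theorem D200241 : act 0 n112880 = n200241 := rfl
theorem F415675 : act 5 n200241 = n133354 := d17_3 D52101 D112880 D200241 (iv4 F245635) (iv5 F401142) (iv0 F401144) (iv5 D134850) (iv0 D63375) F48142
theorem F415676 : act 2 n131135 = n200241 := d15_3 (iv0 D200241) F415641 (iv7 F210040)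
theorem F415677 : act 0 n200241 = n112885 := d21_7 F360294 (iv1 F373243) (iv5 F373245) (iv6 F388045) (iv1 F415162) F415160 (iv5 F415675) (iv5 D112885) (iv6 F357657) D103865
def n200242 : Q := act 4 n112880
theorem D200242 : act 4 n112880 = n200242 := rfl
theorem F415678 : act 5 n200242 = n112997 := d17_5 (iv1 D112891) (iv5 D52104) D52101 D112880 D200242 F175971 (iv5 F331504) F331502 (iv4 F365012)
theorem F415679 : act 0 n191222 = n200242 := d21_10 F415678 (iv1 D112997) (iv5 F95045) (iv6 D60475) D60474 (iv6 F331293) (iv5 D45495) D45492 D97415 D191222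
theorem F415680 : act 6 n144055 = n200242 := d21_5 F95039 F48670 D31361 D67493 D144055 F415678 (iv1 D112997) (iv5 F95045) (iv6 D60475) D60474
def n200243 : Q := act 6 n112880
theorem D200243 : act 6 n112880 = n200243 := rfl
theorem F415681 : act 2 n200243 = n144093 := d3_1 D200243 F415638 F415634
theorem F415682 : act 4 n200243 = n144055 := d10_1 D200243 F415680 (iv4 D200242)
theorem F415683 : act 0 n116973 = n200243 := d21_4 F95018 F48765 D53909 D116973 (iv6 D200243) (iv5 D112880) D112876 (iv5 F176106) F331496 (iv1 F95017)
theorem F415684 : act 7 n144094 = n200243 := d4_0 F415681 (iv7 F415640) F370185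
theorem F415685 : act 1 n144096 = n200243 := d15_1 F370188 (iv7 F415684) (iv2 F370185)
def n200244 : Q := act 7 n112880
theorem D200244 : act 7 n112880 = n200244 := rfl
theorem F415686 : act 2 n200244 = n112885 := d4_1 D200244 (iv7 F415636) F415634
theorem F415687 : act 3 n200244 = n199306 := d8_1 D200244 (iv7 F415649) F415648
theorem F415688 : act 5 n200244 = n112882 := d13_1 D200244 (iv7 D112882) D112880
theorem F415689 : act 6 n200244 = n181897 := d14_1 D200244 (iv7 F370178) F370181 F415684 (iv6 D200243)
theorem F415690 : act 0 n131135 = n200244 := d21_7 F375095 F367119 D188387 (iv6 F373252) F362761 F202911 (iv5 F210039) F415688 F357653 (iv1 F375093)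
def n200245 : Q := act 0 n112881
theorem D200245 : act 0 n112881 = n200245 := rfl
theorem F415691 : act 2 n197481 = n200245 := d15_3 (iv0 D200245) (iv0 F415657) F415620
theorem F415692 : act 4 n200245 = n178160 := d1_2 (iv4 F404511) F415691 F360080
def n200246 : Q := act 5 n112881
theorem D200246 : act 5 n112881 = n200246 := rfl
def n200247 : Q := act 7 n112881
theorem D200247 : act 7 n112881 = n200247 := rfl
theorem F415693 : act 2 n200247 = n188872 := d4_1 D200247 (iv7 F415645) F415642
theorem F415694 : act 3 n200247 = n192848 := d8_1 D200247 (iv7 F415653) F415651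
theorem F415695 : act 6 n200247 = n188869 := d14_1 D200247 F375083 (iv6 F357653) (iv7 D112882) D112881
theorem F415696 : act 1 n188872 = n200245 := d15_0 (iv0 D200245) D200247 F415693
theorem F415697 : act 0 n197481 = n200247 := d20_4 F79063 D49981 D108223 D197481 F415694 F388008 F411482 F411477 (iv3 D197475) (iv1 D108219)
def n200248 : Q := act 5 n112884
theorem D200248 : act 5 n112884 = n200248 := rfl
theorem F415698 : act 3 n200248 = n191947 := d6_1 D200248 F384950 F357648
theorem F415699 : act 7 n200248 = n192646 := d13_2 (iv7 F357649) D200248 F387341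
theorem F415700 : act 1 n200248 = n188982 := d17_8 D188983 F375325 (iv1 D112958) (iv5 F94516) (iv4 F178380) F405180 F405181 D200248 F375323
theorem F415701 : act 0 n200248 = n199187 := d21_7 (iv5 F172199) (iv1 F207054) (iv5 F401492) (iv6 F401495) (iv1 F372092) (iv6 F357663) D200248 F411082 (iv6 D196765) (iv1 F172197)
def n200249 : Q := act 4 n112885
theorem D200249 : act 4 n112885 = n200249 := rfl
theorem F415702 : act 3 n200249 = n191220 := d5_1 D200249 F382631 (iv3 F373539) F257754 (iv3 F357655)
theorem F415703 : act 6 n200249 = n181900 := d10_2 (iv6 F357656) D200249 (iv4 D181900)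
theorem F415704 : act 5 n200249 = n112996 := d17_5 (iv1 F176108) F176106 (iv1 F175800) D112885 D200249 (iv0 D112996) (iv5 F95045) D128581 (iv4 F340029)
theorem F415705 : act 0 n200249 = n191222 := d20_7 (iv4 F385130) (iv1 F352919) F352915 F377491 (iv1 D181906) (iv3 F357655) D200249 F382639 F276233 D176865
def n200250 : Q := act 4 n112889
theorem D200250 : act 4 n112889 = n200250 := rfl
theorem F415706 : act 2 n200250 = n112892 := d1_1 D200250 (iv4 D112892) (iv2 F175809)
theorem F415707 : act 5 n200250 = n113125 := d9_2 D112889 D200250 (iv4 F178454) (iv5 F248608) (iv4 F351259) F216927 F98683 (iv5 F82492) (iv4 F331489) F103447 (iv4 F97667) F97668 (iv4 F178598) F331542 F98680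
theorem F415708 : act 6 n200250 = n144210 := d10_2 F365013 D200250 F226902
theorem F415709 : act 7 n200250 = n113101 := d11_2 F176107 D200250 (iv4 F331495)
theorem F415710 : act 0 n200250 = n144217 := d17_0 (iv5 F410021) F377270 (iv5 F377268) F377263 (iv5 D130551) D130549 F415163 F176109 D200250
theorem F415711 : act 1 n200250 = n144216 := d15_0 (iv0 D144216) (iv7 F331507) (iv2 F415706)
theorem F415712 : act 4 n144216 = n144207 := d18_7 F372106 F372104 F360561 F98680 D112889 D200250 F415711 (iv0 D144207) D144209
def n200251 : Q := act 3 n112890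
theorem D200251 : act 3 n112890 = n200251 := rfl
def n200252 : Q := act 6 n112890
theorem D200252 : act 6 n112890 = n200252 := rfl
theorem F415713 : act 5 n159520 = n200252 := d21_2 (iv5 D159522) D159520 (iv6 D200252) (iv1 F176108) F331496 (iv5 D53906) (iv1 F46311) D60457 D128535 F365051
def n200253 : Q := act 3 n112891
theorem D200253 : act 3 n112891 = n200253 := rfl
theorem F415714 : act 0 n200253 = n194633 := d20_10 F393884 (iv1 F164260) (iv4 F340426) (iv3 F340428) (iv1 F340433) F226900 F103444 D128580 (iv4 F365012) D200253
theorem F415715 : act 1 n200253 = n194634 := d15_1 (iv0 F415714) (iv7 F399079) F399077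
def n200254 : Q := act 6 n112891
theorem D200254 : act 6 n112891 = n200254 := rfl
def n200255 : Q := act 0 n112892
theorem D200255 : act 0 n112892 = n200255 := rfl
theorem F415716 : act 1 n113101 = n200255 := d15_0 (iv0 D200255) F331507 (iv2 F176213)
def n200256 : Q := act 1 n112892
theorem D200256 : act 1 n112892 = n200256 := rfl
theorem F415717 : act 1 n200256 = n113101 := d15_1 D200256 (iv7 F415709) F415706
def n200257 : Q := act 6 n112892
theorem D200257 : act 6 n112892 = n200257 := rfl
theorem F415718 : act 2 n200257 = n144210 := d3_1 D200257 (iv6 F415708) F415706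
theorem F415719 : act 3 n200257 = n193698 := d7_1 D200257 (iv6 F390718) F176084
theorem F415720 : act 4 n200257 = n112893 := d10_1 D200257 (iv6 D112893) D112892
theorem F415721 : act 7 n200257 = n117018 := d14_2 (iv7 F331507) D200257 (iv6 D117018) F85063 D67557
theorem F415722 : act 1 n144208 = n200257 := d15_1 D144208 F415721 F182958
theorem F415723 : act 0 n144207 = n200257 := d18_2 D144216 F415712 F415720 F331504 (iv4 F176139) F176142 (iv4 F364996) (iv0 D113083) (iv5 F103447)
def n200258 : Q := act 5 n112895
theorem D200258 : act 5 n112895 = n200258 := rfl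
theorem F415724 : act 2 n200258 = n200249 := d2_1 D200258 F415704 (iv2 F365007)
theorem F415725 : act 7 n200258 = n200242 := d13_2 (iv7 F365002) D200258 F415678
theorem F415726 : act 4 n200258 = n200244 := d17_4 (iv1 D128558) F95020 D112895 D200258 F415688 F357651 (iv5 F82492) D113042 F365011
def n200259 : Q := act 6 n112895
theorem D200259 : act 6 n112895 = n200259 := rfl
def n200260 : Q := act 3 n112896
theorem D200260 : act 3 n112896 = n200260 := rfl
def n200261 : Q := act 5 n112896
theorem D200261 : act 5 n112896 = n200261 := rfl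
theorem F415727 : act 2 n200261 = n200242 := d2_1 D200261 F415678 F365006
theorem F415728 : act 7 n200261 = n200249 := d13_2 F365009 D200261 F415704
theorem F415729 : act 4 n200261 = n200233 := d17_4 (iv1 F206815) F206812 (iv1 F175976) D200261 (iv5 D200233) F357659 D112889 F176104 F340022
def n200262 : Q := act 6 n112896
theorem D200262 : act 6 n112896 = n200262 := rfl
def n200263 : Q := act 5 n112898
theorem D200263 : act 5 n112898 = n200263 := rfl
theorem F415730 : act 2 n200263 = n143992 := d2_1 D200263 (iv5 D143992) (iv2 F175816)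
theorem F415731 : act 3 n200263 = n194613 := d6_1 D200263 (iv5 F393823) F389968
theorem F415732 : act 7 n200263 = n143995 := d13_2 (iv7 F175814) D200263 (iv5 D143995)
theorem F415733 : act 0 n200263 = n194615 := d17_2 (iv1 F175813) D200263 F393837 F226737 (iv5 F175730) (iv0 F175733) (iv5 F168089) (iv0 F168096) (iv4 F85008)
def n200264 : Q := act 6 n112898
theorem D200264 : act 6 n112898 = n200264 := rfl
theorem F415734 : act 2 n200264 = n143993 := d3_1 D200264 (iv6 D143993) (iv2 F175816)
theorem F415735 : act 3 n200264 = n128231 := d7_1 D200264 (iv6 F389970) F389968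
theorem F415736 : act 4 n200264 = n113088 := d10_1 D200264 (iv6 D113088) F175815
theorem F415737 : act 0 n196589 = n200264 := d21_4 (iv5 F331261) F350536 F350537 D196589 (iv6 D200264) D200263 F415733 F393837 (iv6 D144034) (iv1 F111361)
theorem F415738 : act 1 n199160 = n200264 := d15_0 (iv0 F415737) F401178 (iv2 F410943)
theorem F415739 : act 3 n128865 = n188392 := d20_3 F410944 F172161 D128865 (iv1 D188392) F352784 (iv4 F340386) (iv1 D128230) D128231 (iv3 F415735) (iv1 F415738)
theorem F415740 : act 7 n188392 = n194563 := d8_2 (iv7 F226657) F415739 (iv3 F393699)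
theorem F415741 : act 2 n194563 = n188391 := d15_3 (iv0 D188391) D188392 F415740
theorem F415742 : act 2 n188392 = n194564 := d15_3 F393701 (iv0 F393700) (iv7 F415740)
theorem F415743 : act 7 n194564 = n188391 := d4_2 (iv7 F415740) F415742 (iv2 F415741)
def n200265 : Q := act 3 n112901
theorem D200265 : act 3 n112901 = n200265 := rfl
theorem F415744 : act 2 n200265 = n199086 := d0_1 D200265 F410601 F174521 (iv3 F352908) F352934
theorem F415745 : act 5 n200265 = n187380 := d6_2 (iv5 F352935) D200265 (iv3 F370079)
theorem F415746 : act 6 n200265 = n200000 := d7_2 (iv6 F352936) D200265 F414557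
theorem F415747 : act 7 n200265 = n193657 := d8_2 (iv7 F352937) D200265 (iv3 D193657)
theorem F415748 : act 4 n200265 = n125476 := d20_6 (iv4 D29591) (iv1 F23455) D25300 D52110 D112901 D200265 (iv1 D125476) F92818 (iv3 D52144) (iv1 F47502)
def n200266 : Q := act 7 n112909
theorem D200266 : act 7 n112909 = n200266 := rfl
theorem F415749 : act 2 n200266 = n191710 := d4_1 D200266 F384227 F247668
theorem F415750 : act 3 n200266 = n112911 := d8_1 D200266 (iv7 D112911) (iv3 F175834)
theorem F415751 : act 4 n200266 = n151945 := d11_1 D200266 (iv7 F355755) F355758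
theorem F415752 : act 5 n200266 = n200143 := d13_1 D200266 (iv7 D200143) (iv5 F175835)
theorem F415753 : act 6 n200266 = n159687 := d14_1 D200266 (iv7 D159687) F114535 (iv7 F82379) D112909
theorem F415754 : act 1 n189621 = n200266 := d15_1 (iv0 F377149) (iv7 D200266) (iv2 F247668)
theorem F415755 : act 1 n200266 = n187175 := d15_1 F415754 F369356 (iv2 F377145)
def n200267 : Q := act 4 n112910
theorem D200267 : act 4 n112910 = n200267 := rfl
theorem F415756 : act 2 n200267 = n130634 := d1_1 D200267 (iv4 D130634) F175838
theorem F415757 : act 7 n200267 = n130632 := d11_2 (iv7 F175837) D200267 (iv4 D130632)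
theorem F415758 : act 5 n200267 = n198736 := d16_1 D200267 F409025 (iv5 D160644) (iv4 F125354) D169913 (iv4 F364701) (iv5 F364696) (iv7 F157673) F175838
theorem F415759 : act 0 n200267 = n112972 := d18_2 (iv1 F175836) D200267 F175926 (iv5 F82906) (iv4 F176447) (iv0 F415239) (iv4 D200147) F175391 F103899
theorem F415760 : act 0 n157240 = n200267 := d20_1 (iv4 F247454) (iv4 D200267) F238575 (iv1 D151693) (iv3 F238568) F363169 (iv1 F380436) (iv4 F380437) F377650 (iv1 F176093)
theorem F415761 : act 3 n198737 = n200267 := d6_3 F415758 (iv3 D198736) D198737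
def n200268 : Q := act 6 n112910
theorem D200268 : act 6 n112910 = n200268 := rfl
theorem F415762 : act 2 n200268 = n130636 := d3_1 D200268 (iv6 D130636) F175838
def n200269 : Q := act 0 n112915
theorem D200269 : act 0 n112915 = n200269 := rfl
theorem F415763 : act 5 n200269 = n186037 := d17_3 (iv1 F178359) (iv5 F175847) D200269 (iv4 D186037) (iv5 F335768) (iv0 D94140) (iv5 D44016) D44015 D94137
theorem F415764 : act 4 n200269 = n189617 := d18_1 D200269 (iv1 F377129) F363535 F144571 F68910 F69262 D94132 (iv0 F178358) (iv5 F175847)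
theorem F415765 : act 3 n200269 = n186663 := d20_5 D93965 F295132 F294548 (iv3 F175846) D200269 (iv4 F379790) (iv1 D190447) F331359 F145411 F157806
theorem F415766 : act 6 n200269 = n159593 := d21_5 F77977 F77561 D52118 D112915 D200269 (iv5 D159593) (iv1 D76351) (iv5 F77982) (iv6 D49322) D49319
theorem F415767 : act 1 n185702 = n200269 := d15_0 (iv0 D200269) (iv7 F348098) (iv2 F348101)
theorem F415768 : act 2 n191316 = n200269 := d3_3 F415766 F335868 (iv6 F383020)
theorem F415769 : act 7 n191315 = n200269 := d15_2 F383021 (iv0 F383018) (iv2 F415768)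
def n200270 : Q := act 1 n112915
theorem D200270 : act 1 n112915 = n200270 := rfl
theorem F415770 : act 1 n200270 = n185702 := d15_1 D200270 F373817 F373813
theorem F415771 : act 7 n200270 = n191316 := d15_2 (iv0 D200269) D200270 F415768
theorem F415772 : act 5 n200270 = n186042 := d17_7 F151160 D191315 F383018 (iv5 D188529) F142153 (iv5 F175847) D200270 (iv0 F288977) F288975
theorem F415773 : act 4 n200270 = n189618 := d17_9 (iv1 D189618) D189619 (iv1 F381669) (iv5 F383026) F383027 (iv5 D189604) (iv0 F178358) (iv5 F175847) D200270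
theorem F415774 : act 3 n151945 = n200270 := d19_19 (iv1 D200270) F175847 (iv4 F142153) F142152 F178338 D43940 D94013 D189511 (iv1 F382786) F382785 (iv4 F323703) F213411 (iv1 F330893) (iv5 D130820) D130819 (iv3 F396385) F415222 (iv5 F415752) F415751
theorem F415775 : act 2 n200270 = n191315 := d0_1 F415774 F383015 (iv2 F376706) (iv3 F367589) (iv2 F355752)
def n200271 : Q := act 6 n112919
theorem D200271 : act 6 n112919 = n200271 := rfl
theorem F415776 : act 2 n200271 = n112936 := d3_1 D200271 (iv6 D112936) (iv2 F175852)
theorem F415777 : act 3 n200271 = n189298 := d7_1 D200271 (iv6 D189298) (iv3 F175853)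
theorem F415778 : act 5 n200271 = n119611 := d12_1 D200271 (iv6 D119611) (iv5 D55036) (iv6 F82393) D112919
def n200272 : Q := act 3 n112920
theorem D200272 : act 3 n112920 = n200272 := rfl
def n200273 : Q := act 6 n112921
theorem D200273 : act 6 n112921 = n200273 := rfl
theorem F415779 : act 2 n200273 = n112923 := d3_1 D200273 (iv6 D112923) (iv2 F175857)
theorem F415780 : act 3 n200273 = n195995 := d7_1 D200273 (iv6 D195995) (iv3 F175858)
theorem F415781 : act 4 n200273 = n199832 := d10_1 D200273 F413713 F379455
theorem F415782 : act 5 n200273 = n119100 := d12_1 D200273 (iv6 D119100) (iv5 D54806) (iv6 F82398) (iv5 F175859)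
theorem F415783 : act 7 n200273 = n189758 := d14_2 D112921 D200273 (iv6 D189758) F293700 (iv6 F294492)
def n200274 : Q := act 7 n112925
theorem D200274 : act 7 n112925 = n200274 := rfl
theorem F415784 : act 2 n200274 = n112935 := d4_1 D200274 (iv7 D112935) (iv2 F175866)
theorem F415785 : act 3 n200274 = n186170 := d8_1 D200274 F343307 F176071
theorem F415786 : act 4 n200274 = n142360 := d11_1 D200274 (iv7 F227352) (iv4 F331684)
theorem F415787 : act 5 n200274 = n114196 := d13_1 D200274 (iv7 D114196) (iv5 F175867)
theorem F415788 : act 1 n112934 = n200274 := d15_1 D112934 (iv7 D200274) F175866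
theorem F415789 : act 1 n200274 = n112933 := d15_1 F415788 F359851 (iv2 F330358)
def n200275 : Q := act 3 n112926
theorem D200275 : act 3 n112926 = n200275 := rfl
theorem F415790 : act 5 n200275 = n154189 := d6_2 F336410 D200275 F242306
theorem F415791 : act 6 n200275 = n190211 := d7_2 (iv6 F336411) D200275 F379092
def n200276 : Q := act 1 n112927
theorem D200276 : act 1 n112927 = n200276 := rfl
theorem F415792 : act 1 n200276 = n189766 := d15_1 D200276 (iv7 F381705) F381702
theorem F415793 : act 7 n200276 = n189760 := d15_2 (iv0 F175871) D200276 F377649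
theorem F415794 : act 4 n200276 = n183237 := d18_7 (iv1 F150149) (iv4 F268360) F268361 F147425 D95735 F364263 D200276 (iv0 F382621) (iv5 D191217)
theorem F415795 : act 3 n112940 = n200276 := d20_3 (iv4 F209202) (iv1 F214428) (iv4 F365043) (iv1 D200276) (iv3 F376297) (iv4 F376894) (iv1 D189396) F144769 (iv3 F144766) (iv1 F175839)
theorem F415796 : act 5 n135520 = n200276 := d21_0 (iv1 D200276) F175870 (iv6 D68849) F82882 F325469 (iv5 D61424) (iv1 F46720) D30073 D63720 D135520
theorem E103803 : n195643 = n146854 := ((c21_5 (iv5 D52496) (iv1 F40277) D32023 D68846 D146854 F398246 F415796 (iv1 D200276) F175870 (iv6 D68849) F82882)).symm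
theorem F415797 : act 3 n146854 = n106125 := (sb E103803 (iv3 D195643))
theorem F415798 : act 6 n146854 = n135520 := (sb E103803 F398246)
theorem F415799 : act 7 n146854 = n195802 := (sb E103803 (iv7 F398248))
theorem F415800 : act 2 n200276 = n189767 := d2_1 F415796 F377676 (iv2 F371150)
def n200277 : Q := act 6 n112928
theorem D200277 : act 6 n112928 = n200277 := rfl
theorem F415801 : act 4 n200277 = n112929 := d10_1 D200277 (iv6 D112929) D112928
theorem F415802 : act 7 n200277 = n190377 := d14_2 F381698 D200277 (iv6 D190377) F157641 (iv6 F381697)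
theorem F415803 : act 0 n200277 = n198967 := d21_4 (iv5 D95908) D95904 (iv5 F342258) D200277 F410098 (iv5 D111870) F173537 D199832 F413713 (iv1 D190337)
theorem F415804 : act 0 n190476 = n200277 := d18_2 (iv1 F410060) F379859 F415801 F175874 (iv4 F187338) (iv0 F261876) (iv4 D120111) F178658 (iv5 F410059)
def n200278 : Q := act 1 n112929
theorem D200278 : act 1 n112929 = n200278 := rfl
theorem F415805 : act 7 n200278 = n147241 := d15_2 (iv0 F399044) D200278 F399043
theorem F415806 : act 5 n200278 = n147242 := d17_7 (iv1 F183347) (iv5 F310976) F310972 F333593 F187338 (iv5 F175874) D200278 F230838 (iv4 D117197)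
theorem F415807 : act 6 n135261 = n200278 := d21_3 F214066 (iv1 F99081) (iv5 F217463) (iv1 D200278) (iv6 D112929) (iv5 F82402) F51517 D62556 D133291 F328274
def n200279 : Q := act 7 n112929
theorem D200279 : act 7 n112929 = n200279 := rfl
theorem F415808 : act 4 n200279 = n190377 := d11_1 D200279 (iv7 F415802) F415801
theorem F415809 : act 5 n200279 = n119069 := d13_1 D200279 (iv7 D119069) (iv5 F175874)
theorem F415810 : act 6 n200279 = n189766 := d14_1 D200279 (iv7 F381705) F381704 F175864 D112929
theorem F415811 : act 0 n147241 = n200279 := d17_2 (iv1 D147240) D147241 F415809 (iv4 F334455) F280336 (iv0 F234420) F106445 D117184 F230828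
def n200280 : Q := act 1 n112930
theorem D200280 : act 1 n112930 = n200280 := rfl
def n200281 : Q := act 2 n112930
theorem D200281 : act 2 n112930 = n200281 := rfl
theorem F415812 : act 4 n200281 = n112944 := d1_2 (iv4 F175875) D200281 (iv2 D112944)
theorem F415813 : act 5 n200281 = n198549 := d2_2 (iv5 F351357) D200281 F408315
theorem F415814 : act 7 n200281 = n198548 := d4_2 F175968 D200281 F408311
theorem F415815 : act 1 n200280 = n198548 := d15_1 D200280 (iv7 F415814) (iv2 D200281)
def n200282 : Q := act 6 n112930
theorem D200282 : act 6 n112930 = n200282 := rfl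
theorem F415816 : act 3 n200282 = n112932 := d7_1 D200282 (iv6 D112932) D112930
theorem F415817 : act 4 n200282 = n112945 := d10_1 D200282 (iv6 D112945) (iv4 F175875)
theorem F415818 : act 5 n200282 = n142357 := d12_1 D200282 F390454 (iv5 F390456) F383424 (iv5 F351357)
theorem F415819 : act 7 n200282 = n198467 := d14_2 F175968 D200282 F408115 (iv7 F174298) F336224
def n200283 : Q := act 6 n112935
theorem D200283 : act 6 n112935 = n200283 := rfl
theorem F415820 : act 3 n200283 = n112956 := d7_1 D200283 (iv6 D112956) (iv3 F175877)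
theorem F415821 : act 4 n200283 = n198630 := d10_1 D200283 F408626 F330336
theorem F415822 : act 5 n200283 = n152529 := d12_1 D200283 (iv6 D152529) F108442 (iv6 F83307) (iv5 F175878)
theorem F415823 : act 7 n200283 = n112936 := d14_2 D112935 D200283 (iv6 D112936) (iv7 D52130) D52129
def n200284 : Q := act 0 n112936
theorem D200284 : act 0 n112936 = n200284 := rfl
def n200285 : Q := act 1 n112936
theorem D200285 : act 1 n112936 = n200285 := rfl
def n200286 : Q := act 0 n112938
theorem D200286 : act 0 n112938 = n200286 := rfl
theorem F415824 : act 3 n200286 = n188162 := d20_5 D130634 F376519 F112210 (iv3 F175886) D200286 (iv4 D188162) F292419 (iv4 F415751) F415750 (iv1 F175842)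
theorem F415825 : act 4 n200286 = n158066 := d20_8 F59896 (iv1 F292610) F292611 (iv3 F120004) (iv1 F254241) (iv3 F276247) F356894 D200286 (iv3 D158066) (iv1 F112887)
theorem F415826 : act 6 n200286 = n189226 := d21_5 (iv5 D49311) (iv1 F77409) (iv5 F82408) D112938 D200286 (iv5 D189226) (iv1 F178354) D188529 F373815 F163358
theorem F415827 : act 2 n196187 = n200286 := d3_3 F415826 (iv2 F377106) (iv6 F399785)
theorem F415828 : act 7 n191712 = n200286 := d14_0 F415826 (iv7 F377086) (iv6 F377089) (iv7 F379852) (iv6 F384234)
theorem F415829 : act 0 n200286 = n196186 := d21_4 (iv5 F369259) F369261 D189226 (iv6 F415826) (iv6 D196186) F164517 (iv1 F230920) (iv5 F335864) (iv6 F383020) F383023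
def n200287 : Q := act 1 n112938
theorem D200287 : act 1 n112938 = n200287 := rfl
theorem F415830 : act 1 n200287 = n196186 := d15_1 D200287 F399784 (iv2 F175885)
theorem F415831 : act 7 n200287 = n196187 := d15_2 (iv0 D200286) D200287 F415827
theorem F415832 : act 2 n191712 = n200287 := d4_3 F415831 F415827 (iv7 F415828)
theorem F415833 : act 6 n190471 = n200287 := d14_5 F415831 F399785 F377108 (iv6 F379847) (iv7 F379850)
theorem F415834 : act 4 n200287 = n191719 := d10_1 F415833 F384253 (iv4 F384255)
def n200288 : Q := act 7 n112938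
theorem D200288 : act 7 n112938 = n200288 := rfl
theorem F415835 : act 2 n200288 = n196186 := d4_1 D200288 F399784 (iv2 F175885)
theorem F415836 : act 3 n200288 = n112941 := d8_1 D200288 (iv7 D112941) (iv3 F175886)
theorem F415837 : act 5 n200288 = n197020 := d13_1 D200288 (iv7 D197020) (iv5 F175887)
theorem F415838 : act 6 n200288 = n196173 := d14_1 D200288 (iv7 D196173) (iv6 D106723) (iv7 F82409) D112938
theorem F415839 : act 1 n191712 = n200288 := d15_1 (iv0 F384235) (iv7 D200288) F175885
theorem F415840 : act 1 n200288 = n196187 := d15_1 F415839 (iv7 F415831) (iv2 F415832)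
def n200289 : Q := act 6 n112940
theorem D200289 : act 6 n112940 = n200289 := rfl
theorem F415841 : act 2 n200289 = n189742 := d3_1 D200289 F377591 F331432
theorem F415842 : act 7 n200289 = n189737 := d14_2 (iv7 F331431) D200289 (iv6 D189737) F331417 (iv6 F331420)
theorem F415843 : act 1 n189740 = n200289 := d15_1 D189740 F415842 F377580
theorem F415844 : act 1 n200289 = n189739 := d15_0 (iv0 D189739) D189742 (iv2 F415841)
def n200290 : Q := act 3 n112942
theorem D200290 : act 3 n112942 = n200290 := rfl
theorem F415845 : act 2 n200290 = n200019 := d0_1 D200290 F414651 (iv2 F279039) F355492 (iv2 F245137)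
theorem F415846 : act 5 n200290 = n197270 := d6_2 (iv5 F211372) D200290 F403797
theorem F415847 : act 7 n200290 = n200021 := d8_2 (iv7 F245135) D200290 F414654
theorem F415848 : act 1 n142368 = n200021 := d15_1 F414653 (iv7 F415847) F415845
def n200291 : Q := act 6 n112943
theorem D200291 : act 6 n112943 = n200291 := rfl
theorem F415849 : act 5 n200291 = n149200 := d12_1 D200291 (iv6 D149200) D149199 (iv6 F414404) F245143
def n200292 : Q := act 6 n112946
theorem D200292 : act 6 n112946 = n200292 := rfl
theorem F415850 : act 2 n200292 = n158121 := d3_1 D200292 (iv6 F332882) F176124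
theorem F415851 : act 3 n200292 = n190026 := d7_1 D200292 F378603 (iv3 F340456)
theorem F415852 : act 4 n200292 = n114414 := d10_1 D200292 (iv6 D114414) (iv4 F176125)
theorem F415853 : act 7 n200292 = n189387 := d14_2 F340455 D200292 (iv6 D189387) F144765 D96069
theorem F415854 : act 5 n200292 = n186083 := d21_6 F47691 (iv1 F40002) F40000 D52134 D112946 D200292 (iv1 F288745) F332879 (iv6 D130553) F95729
theorem F415855 : act 1 n191354 = n158068 := d17_8 (iv1 F210021) (iv5 F251359) (iv1 F251362) (iv5 F233519) (iv4 F415852) F415854 F288744 D191354 (iv4 F390840)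
theorem F415856 : act 1 n191358 = n200292 := d18_8 (iv1 F288745) D191356 F395233 F395232 F160670 F294060 F399049 F399047 F415854
theorem F415857 : act 1 n200292 = n191357 := d15_0 (iv0 D191357) (iv7 F249058) (iv2 F415850)
theorem F415858 : act 5 n191357 = n164139 := d17_7 D182328 F359046 (iv1 F380851) F380848 (iv4 F288742) (iv5 F415854) F415857 (iv0 F258689) (iv4 F133657)
theorem F415859 : act 3 n164140 = n191357 := d6_3 F415858 (iv3 D164139) D164140
def n200293 : Q := act 6 n112951
theorem D200293 : act 6 n112951 = n200293 := rfl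
theorem F415860 : act 2 n200293 = n191180 := d3_1 D200293 F382493 F176129
theorem F415861 : act 3 n200293 = n186422 := d7_1 D200293 (iv6 F362555) (iv3 F340510)
theorem F415862 : act 4 n200293 = n112952 := d10_1 D200293 (iv6 D112952) D112951
theorem F415863 : act 7 n200293 = n191176 := d14_2 F176134 D200293 (iv6 D191176) F294058 F366998
theorem F415864 : act 1 n191179 = n200293 := d15_1 D191179 F415863 F382485
theorem F415865 : act 1 n200293 = n191178 := d15_0 (iv0 D191178) D191180 (iv2 F415860)
theorem F415866 : act 7 n191178 = n194215 := d15_2 F415864 F415865 (iv2 F399041)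
theorem F415867 : act 3 n172106 = n191178 := d8_3 F415866 (iv3 D194215) (iv7 F413688)
def n200294 : Q := act 1 n112952
theorem D200294 : act 1 n112952 = n200294 := rfl
theorem F415868 : act 1 n200294 = n186190 := d15_1 D200294 F331434 F176131
theorem F415869 : act 4 n200294 = n191357 := d17_9 (iv1 F415857) F415854 (iv1 F288745) F332879 F209138 (iv5 F106102) D148780 (iv5 F233582) D200294
theorem F415870 : act 6 n190468 = n200294 := d21_3 (iv5 F163715) D195945 F398804 (iv1 D200294) (iv6 D112952) (iv5 F163447) (iv1 F163514) (iv5 F396214) (iv6 F396216) (iv1 D107480)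
theorem F415871 : act 5 n135524 = n200294 := d21_6 (iv5 D114026) (iv1 F83143) (iv5 F114425) D159558 (iv1 F399934) (iv6 F399938) (iv1 D200294) F233582 (iv6 F358368) (iv1 F332583)
theorem F415872 : act 3 n200294 = n135262 := d6_1 F415871 F217467 D135524
def n200295 : Q := act 7 n112952
theorem D200295 : act 7 n112952 = n200295 := rfl
theorem F415873 : act 2 n200295 = n186190 := d4_1 D200295 F331434 F176131
theorem F415874 : act 4 n200295 = n191176 := d11_1 D200295 (iv7 F415863) F415862
theorem F415875 : act 5 n200295 = n159860 := d13_1 D200295 F252030 (iv5 F233582)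
theorem F415876 : act 6 n200295 = n186181 := d14_1 D200295 F288936 (iv6 F292580) (iv7 F161685) D112952
def n200296 : Q := act 6 n112957
theorem D200296 : act 6 n112957 = n200296 := rfl
theorem F415877 : act 2 n200296 = n189739 := d3_1 D200296 (iv6 F377584) (iv2 F364986)
theorem F415878 : act 3 n200296 = n190472 := d7_1 D200296 F379846 F364982
theorem F415879 : act 5 n200296 = n195871 := d12_1 D200296 (iv6 F398550) (iv5 D183161) (iv6 F284729) (iv5 F364983)
theorem F415880 : act 7 n200296 = n189740 := d14_2 (iv7 F364984) D200296 (iv6 F377585) (iv7 F147654) (iv6 F356946)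
theorem F415881 : act 0 n189737 = n200296 := d21_4 F82471 F205487 D94399 D189737 (iv6 D200296) F364983 F364999 F292041 (iv6 D88711) (iv1 F291605)
theorem F415882 : act 1 n189742 = n200296 := d15_0 (iv0 F415881) (iv7 F415842) F415841
def n200297 : Q := act 5 n112959
theorem D200297 : act 5 n112959 = n200297 := rfl
theorem F415883 : act 2 n200297 = n194266 := d2_1 D200297 F392577 F175896
theorem F415884 : act 3 n200297 = n134841 := d6_1 D200297 (iv5 D134841) (iv3 F175895)
theorem F415885 : act 7 n200297 = n194268 := d13_2 F175897 D200297 F392583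
theorem F415886 : act 0 n200297 = n126364 := d17_2 D112959 D200297 F203192 (iv4 F182857) D139653 (iv0 F245342) (iv5 D156129) F161389 (iv4 F82417)
theorem F415887 : act 4 n200297 = n194262 := d17_4 (iv1 F93046) F82843 D112959 D200297 (iv5 D194262) (iv0 D103084) F321138 D111817 (iv4 F173602)
theorem F415888 : act 0 n186485 = n199941 := d18_2 F414498 F369578 (iv4 D199941) (iv5 F380384) F380385 (iv0 F415886) F415887 F392556 D199988
def n200298 : Q := act 3 n112963
theorem D200298 : act 3 n112963 = n200298 := rfl
theorem F415889 : act 2 n200298 = n135912 := d0_1 D200298 (iv3 F247049) F318295 (iv3 F130525) (iv2 F320581)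
theorem F415890 : act 5 n200298 = n156118 := d6_2 (iv5 F320582) D200298 F319279
theorem F415891 : act 7 n200298 = n135917 := d8_2 F247037 D200298 (iv3 F245307)
theorem F415892 : act 4 n200298 = n135910 := d20_6 (iv4 F39983) (iv1 D25318) D25319 D52141 D112963 D200298 F410578 (iv4 F111035) F111034 (iv1 F53415)
theorem F415893 : act 0 n200298 = n137061 := d20_1 (iv4 F415892) (iv4 F344868) (iv3 F403949) F403951 F222288 F101030 F210263 (iv4 F48631) (iv3 F99401) (iv1 F410579)
def n200299 : Q := act 4 n112963
theorem D200299 : act 4 n112963 = n200299 := rfl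
theorem F415894 : act 2 n200299 = n113066 := d1_1 D200299 F320583 (iv2 F320581)
theorem F415895 : act 7 n200299 = n194440 := d11_2 F247037 D200299 F393226
theorem F415896 : act 1 n200299 = n194570 := d18_6 D155998 F359957 F351392 (iv4 F130524) (iv5 F320582) D200299 F393713 F245494 (iv5 D156001)
def n200300 : Q := act 6 n112963
theorem D200300 : act 6 n112963 = n200300 := rfl
theorem F415897 : act 2 n200300 = n178801 := d3_1 D200300 (iv6 D178801) (iv2 F320581)
def n200301 : Q := act 5 n112965
theorem D200301 : act 5 n112965 = n200301 := rfl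
theorem F415898 : act 2 n200301 = n112966 := d2_1 D200301 (iv5 D112966) D112965
theorem F415899 : act 4 n200301 = n197073 := d9_1 D200301 (iv5 F403129) F403126 (iv5 F351357) F175875 (iv5 F82441) (iv4 F111143) (iv5 F336199) F179636 (iv5 F166933) (iv4 F169517) D198548 F408313 (iv5 D112990) (iv4 F175915)
theorem F415900 : act 7 n200301 = n196528 := d13_2 F245313 D200301 (iv5 F400977)
theorem F415901 : act 0 n200301 = n178652 := d18_0 F278461 F351337 (iv4 F176356) (iv5 F347954) (iv4 F410899) (iv0 F410902) F320583 (iv0 F320580) D200301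
def n200302 : Q := act 0 n112966
theorem D200302 : act 0 n112966 = n200302 := rfl
theorem F415902 : act 5 n200302 = n193692 := d17_1 D200302 (iv1 F390705) F366396 (iv4 F344864) F403023 (iv0 D197095) (iv5 D107642) D107640 (iv4 F175917)
theorem F415903 : act 4 n200302 = n119599 := d20_0 F347851 F170804 (iv3 F180035) F355490 (iv3 D74332) (iv4 F78964) D108064 F167079 (iv3 F175916) D200302
theorem F415904 : act 1 n196528 = n200302 := d15_0 (iv0 D200302) (iv7 F336200) (iv2 F400975)
theorem F415905 : act 2 n178652 = n200302 := d1_3 F415903 F351332 (iv4 F278461)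
theorem F415906 : act 6 n119598 = n200302 := d10_0 F415903 (iv6 D119599) D119598
theorem E103804 : n200214 = n193694 := (c18_2 (iv1 F355488) (iv4 F415540) (iv1 D193694) (iv4 F390703) (iv5 F415902) F415903 F347855 (iv4 F403849) (iv0 D197289) F167100)
theorem F415907 : act 3 n193694 = n112843 := (sb E103804 (iv3 D200214))
theorem F415908 : act 4 n193694 = n156186 := (sb E103804 F415540)
theorem F415909 : act 5 n193694 = n191087 := (sb E103804 F415541)
theorem F415910 : act 6 n193694 = n194587 := (sb E103804 F415542)
def n200303 : Q := act 1 n112966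
theorem D200303 : act 1 n112966 = n200303 := rfl
theorem F415911 : act 1 n200303 = n196528 := d15_1 D200303 (iv7 F415900) F415898
theorem F415912 : act 7 n200303 = n178652 := d15_2 (iv0 D200302) D200303 F415905
theorem F415913 : act 4 n200303 = n124958 := d17_9 (iv1 F351331) (iv5 F347939) (iv1 F192208) (iv5 D85553) (iv4 F130524) (iv5 F320582) (iv0 D112963) D112966 D200303
theorem F415914 : act 3 n124956 = n200303 := d19_19 (iv1 D200303) (iv5 D112966) F82421 (iv3 D25324) D25323 (iv5 F80265) (iv4 D50879) (iv3 F46852) (iv1 F77707) (iv5 D49209) F37545 (iv3 D11440) F8096 D6042 D12774 D26721 (iv1 F309123) (iv5 F92252) D124956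
def n200304 : Q := act 6 n112966
theorem D200304 : act 6 n112966 = n200304 := rfl
theorem F415915 : act 3 n200304 = n112967 := d7_1 D200304 (iv6 D112967) (iv3 F175916)
theorem F415916 : act 4 n200304 = n197094 := d10_1 D200304 (iv6 D197094) (iv4 F175917)
theorem F415917 : act 7 n200304 = n128564 := d14_2 F336200 D200304 (iv6 D128564) F95025 D115357
theorem F415918 : act 0 n152796 = n200304 := d18_2 (iv1 F351489) (iv4 F365961) F415916 (iv5 F403019) F333434 (iv0 F308521) (iv4 F310625) (iv0 F351485) (iv5 D115695)
def n200305 : Q := act 0 n112967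
theorem D200305 : act 0 n112967 = n200305 := rfl
theorem F415919 : act 4 n200305 = n197435 := d20_2 F403812 D200305 (iv3 F404304) F401567 F401565 (iv4 F169682) D198609 F408512 (iv3 F397004) F403815
theorem F415920 : act 3 n200305 = n115403 := d20_5 (iv4 F388839) (iv1 F403021) (iv4 F415916) F415915 D200305 F179707 D200115 (iv4 F415079) F179544 D115289
theorem F415921 : act 6 n200305 = n115233 := d21_5 (iv5 D30338) (iv1 F39985) D52142 D112967 D200305 F341180 (iv1 F360855) F360856 (iv6 F336208) (iv1 D64431)
theorem F415922 : act 2 n115234 = n200305 := d3_3 F415921 (iv2 D115233) D115234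
def n200306 : Q := act 1 n112967
theorem D200306 : act 1 n112967 = n200306 := rfl
theorem F415923 : act 7 n200306 = n115234 := d15_2 (iv0 D200305) D200306 F415922
theorem F415924 : act 3 n115237 = n200306 := d19_19 (iv1 D200306) (iv5 F206790) F206789 F361256 (iv1 F316746) (iv5 D101618) (iv4 F316744) (iv3 F190646) (iv1 F308074) F149052 F71184 (iv3 F56786) F116812 F325042 F80373 D51596 F161263 (iv5 F83966) (iv4 F179462)
theorem F415925 : act 4 n200306 = n197436 := d5_2 (iv4 F179462) F415924 (iv3 F404309) F183136 F165102
theorem F415926 : act 6 n200306 = n115355 := d7_2 (iv6 F179463) F415924 F179634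
def n200307 : Q := act 7 n112967
theorem D200307 : act 7 n112967 = n200307 := rfl
theorem F415927 : act 3 n200307 = n128564 := d8_1 D200307 (iv7 F415917) F415915
theorem F415928 : act 5 n200307 = n200304 := d13_1 D200307 F415917 F206790
theorem F415929 : act 6 n200307 = n128563 := d14_1 D200307 F206787 F336196 (iv7 F111088) D112967
theorem F415930 : act 0 n115234 = n200307 := d21_4 (iv5 F409707) (iv1 D198877) F170805 D115234 F415929 (iv5 D128563) D128560 (iv5 F330555) (iv6 D115460) (iv1 F179475)
def n200308 : Q := act 4 n112968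
theorem D200308 : act 4 n112968 = n200308 := rfl
theorem F415931 : act 2 n200308 = n198343 := d1_1 D200308 (iv4 F407690) (iv2 F358267)
theorem F415932 : act 7 n200308 = n200212 := d11_2 F358253 D200308 (iv4 D200212)
theorem F415933 : act 5 n200308 = n198244 := d16_5 D128628 F358317 F348084 (iv5 F358248) D200308 (iv4 F407329) (iv5 D128634) F206918 (iv2 D128626)
def n200309 : Q := act 3 n112969
theorem D200309 : act 3 n112969 = n200309 := rfl
theorem F415934 : act 5 n200309 = n176890 := d6_2 (iv5 F358269) D200309 F362562
theorem F415935 : act 7 n200309 = n193694 := d8_2 (iv7 F358270) D200309 F415907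
theorem F415936 : act 2 n200309 = n193693 := d15_3 (iv0 D193693) D193694 (iv7 F415935)
theorem F415937 : act 6 n176893 = n200309 := d3_0 F415936 (iv6 F390707) F349838
theorem F415938 : act 0 n193690 = n200309 := d21_4 F353168 (iv1 F369161) F369159 D193690 (iv6 F415937) (iv5 D176893) (iv1 F334027) (iv5 F344567) (iv6 D102496) D102493
def n200310 : Q := act 6 n112969
theorem D200310 : act 6 n112969 = n200310 := rfl
theorem F415939 : act 2 n200310 = n200213 := d3_1 D200310 (iv6 D200213) F358268
theorem F415940 : act 3 n200310 = n176893 := d7_1 D200310 F415937 (iv3 D200309)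
theorem F415941 : act 5 n200310 = n176888 := d12_1 D200310 (iv6 D176888) D176887 (iv6 F362561) (iv5 F358269)
theorem F415942 : act 0 n189937 = n200310 := d17_2 F358003 D189937 F415941 F358424 (iv5 D95862) (iv0 D44759) D44761 D95870 F358000
def n200311 : Q := act 5 n112972
theorem D200311 : act 5 n112972 = n200311 := rfl
theorem F415943 : act 2 n200311 = n157239 := d2_1 D200311 (iv5 D157239) (iv2 F175925)
theorem F415944 : act 3 n200311 = n185739 := d6_1 D200311 (iv5 D185739) (iv3 F358275)
theorem F415945 : act 6 n200311 = n112973 := d12_2 D112972 D200311 (iv5 D112973) (iv6 D52146) D52145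
def n200312 : Q := act 0 n112973
theorem D200312 : act 0 n112973 = n200312 := rfl
theorem F415946 : act 5 n200312 = n195537 := d17_3 F85042 D112973 D200312 F397269 (iv5 D133386) (iv0 D62603) (iv5 D29601) D29600 (iv4 F85041)
theorem F415947 : act 2 n157243 = n200312 := d15_3 (iv0 D200312) (iv0 F381687) (iv7 F410897)
theorem F415948 : act 1 n157246 = n200312 := d15_0 (iv0 D200312) (iv7 F226822) (iv2 F247462)
theorem F415949 : act 7 n200312 = n157244 := d15_2 F381688 F415948 F410896
def n200313 : Q := act 4 n112973
theorem D200313 : act 4 n112973 = n200313 := rfl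
theorem F415950 : act 2 n200313 = n157245 := d1_1 D200313 (iv4 D157245) (iv2 F175927)
theorem F415951 : act 7 n200313 = n174705 := d11_2 F226822 D200313 F366957
theorem F415952 : act 5 n200313 = n186297 := d16_1 D200313 (iv4 F341767) (iv5 F207167) F207047 F95188 (iv4 F112217) (iv5 F247463) (iv7 D157246) (iv2 F175927)
theorem F415953 : act 3 n173333 = n200313 := d6_3 F415952 (iv3 D186297) (iv5 F271771)
def n200314 : Q := act 5 n112977
theorem D200314 : act 5 n112977 = n200314 := rfl
theorem F415954 : act 2 n200314 = n194422 := d2_1 D200314 F393133 (iv2 F331345)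
theorem F415955 : act 3 n200314 = n112978 := d6_1 D200314 (iv5 D112978) (iv3 F175936)
theorem F415956 : act 6 n200314 = n194751 := d12_2 D112977 D200314 F394347 F379956 F170570
theorem F415957 : act 7 n200314 = n190164 := d13_2 F331344 D200314 F379017
theorem F415958 : act 0 n190853 = n194751 := d21_4 F147359 (iv1 F71436) D96989 D190853 (iv6 F415956) (iv5 D200314) (iv1 F331347) (iv5 F381344) (iv6 D190856) (iv1 F149585)
theorem F415959 : act 1 n194421 = n200314 := d15_1 D194421 F415957 F379016
theorem F415960 : act 1 n200314 = n194420 := d15_0 (iv0 D194420) D194422 (iv2 F415954)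
def n200315 : Q := act 1 n112978
theorem D200315 : act 1 n112978 = n200315 := rfl
theorem F415961 : act 1 n200315 = n144063 := d15_1 D200315 (iv7 F226774) (iv2 F175938)
theorem F415962 : act 7 n200315 = n116986 := d15_2 (iv0 F175939) D200315 F182883
theorem F415963 : act 5 n200315 = n116987 := d17_7 (iv1 F175996) F175993 (iv1 F82626) F40161 (iv4 F82436) D112978 D200315 F182889 F168415
theorem F415964 : act 2 n144065 = n200315 := d2_3 F415963 F182885 (iv5 F226775)
def n200316 : Q := act 4 n112978
theorem D200316 : act 4 n112978 = n200316 := rfl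
theorem F415965 : act 2 n200316 = n200232 := d1_1 D200316 (iv4 D200232) (iv2 F175938)
theorem F415966 : act 5 n198681 = n200316 := d2_0 F415965 F415631 (iv2 F408853)
theorem F415967 : act 3 n200316 = n198684 := d6_1 F415966 (iv5 D198684) (iv3 F408854)
def n200317 : Q := act 7 n112978
theorem D200317 : act 7 n112978 = n200317 := rfl
theorem F415968 : act 2 n200317 = n144063 := d4_1 D200317 (iv7 F226774) (iv2 F175938)
theorem F415969 : act 3 n200317 = n190164 := d8_1 D200317 (iv7 F415957) F415955
theorem F415970 : act 5 n200317 = n112979 := d13_1 D200317 (iv7 D112979) D112978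
theorem F415971 : act 6 n200317 = n187910 := d14_1 D200317 F371825 D194749 (iv7 F409416) F409415
theorem F415972 : act 1 n144065 = n200317 := d15_1 F226776 (iv7 D200317) F175938
theorem F415973 : act 1 n200317 = n116986 := d15_1 F415972 (iv7 F415962) (iv2 F415964)
def n200318 : Q := act 6 n112980
theorem D200318 : act 6 n112980 = n200318 := rfl
theorem F415974 : act 2 n200318 = n112995 := d3_1 D200318 (iv6 D112995) F175945
theorem F415975 : act 3 n200318 = n116967 := d7_1 D200318 (iv6 F362324) (iv3 F175946)
theorem F415976 : act 4 n200318 = n196649 := d10_1 D200318 F401334 F245312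
theorem F415977 : act 5 n200318 = n116965 := d12_1 D200318 (iv6 D116965) D116964 F365022 (iv5 F175947)
def n200319 : Q := act 5 n112981
theorem D200319 : act 5 n112981 = n200319 := rfl
theorem F415978 : act 2 n200319 = n112983 := d2_1 D200319 (iv5 D112983) D112981
theorem F415979 : act 3 n200319 = n178876 := d6_1 D200319 F278745 (iv3 F319047)
theorem F415980 : act 7 n200319 = n112988 := d13_2 F175951 D200319 (iv5 D112988)
theorem F415981 : act 0 n200319 = n130559 := d17_2 (iv1 F175953) D200319 (iv5 D130559) D130558 F320576 (iv0 D85197) D85200 (iv0 F320580) F175915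
def n200320 : Q := act 6 n112981
theorem D200320 : act 6 n112981 = n200320 := rfl
theorem F415982 : act 2 n200320 = n112984 := d3_1 D200320 (iv6 D112984) D112981
theorem F415983 : act 3 n200320 = n179092 := d7_1 D200320 (iv6 D179092) (iv3 F319047)
theorem F415984 : act 4 n200320 = n156216 := d10_1 D200320 (iv6 D156216) (iv4 F175950)
def n200321 : Q := act 2 n112982
theorem D200321 : act 2 n112982 = n200321 := rfl
theorem F415985 : act 3 n200321 = n125043 := d0_2 D112982 D200321 F201187 (iv3 F319047) (iv2 D112981)
theorem F415986 : act 4 n200321 = n113089 := d1_2 (iv4 F175954) D200321 (iv2 F176177)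
theorem F415987 : act 5 n200321 = n200022 := d2_2 (iv5 F367386) D200321 (iv2 F414659)
theorem F415988 : act 7 n179093 = n200321 := d15_2 (iv0 F393881) (iv0 F393882) (iv2 D200321)
theorem F415989 : act 0 n200230 = n200321 := d18_2 (iv1 F404137) (iv4 F415627) F415986 F176179 (iv4 F218594) F218596 D136573 (iv0 F394185) D197397
def n200322 : Q := act 6 n112982
theorem D200322 : act 6 n112982 = n200322 := rfl
theorem F415990 : act 3 n200322 = n112984 := d7_1 D200322 (iv6 D112984) D112982
theorem F415991 : act 4 n200322 = n197323 := d10_1 D200322 (iv6 D197323) (iv4 F175954)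
def n200323 : Q := act 7 n112982
theorem D200323 : act 7 n112982 = n200323 := rfl
theorem F415992 : act 2 n200323 = n179093 := d4_1 D200323 F415988 (iv2 D200321)
theorem F415993 : act 3 n200323 = n112985 := d8_1 D200323 (iv7 D112985) D112982
theorem F415994 : act 4 n200323 = n113090 := d11_1 D200323 F176180 (iv4 F175954)
theorem F415995 : act 5 n200323 = n200023 := d13_1 D200323 F414658 (iv5 F367386)
theorem F415996 : act 1 n200230 = n200323 := d15_1 (iv0 F415989) (iv7 D200323) D200321
theorem F415997 : act 6 n184199 = n200323 := d12_0 F415995 (iv6 F414656) (iv5 D190642) F370110 D184199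
theorem F415998 : act 7 n200322 = n199939 := d14_4 F358513 F415997 (iv7 D200323) D200322 (iv6 D199939)
def n200324 : Q := act 0 n112983
theorem D200324 : act 0 n112983 = n200324 := rfl
theorem F415999 : act 5 n200324 = n130557 := d17_1 D200324 (iv1 F211376) F245143 (iv4 F382155) (iv5 D191083) (iv0 D97257) D97261 (iv0 F382165) (iv4 F367383)
theorem F416000 : act 2 n130559 = n200324 := d15_3 (iv0 D200324) (iv0 F210036) F210035
theorem F416001 : act 3 n200324 = n200241 := d0_2 (iv3 F209143) F416000 (iv2 F415676) (iv3 D131135) (iv2 F96052)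
theorem F416002 : act 1 n112988 = n200324 := d17_6 (iv1 F355488) (iv5 D156186) (iv1 F245081) (iv5 F245083) (iv4 D112987) D112988 F415999 F211371 F211370
def n200325 : Q := act 7 n112983
theorem D200325 : act 7 n112983 = n200325 := rfl
theorem F416003 : act 2 n200325 = n112988 := d4_1 D200325 (iv7 F415980) F415978
theorem F416004 : act 3 n200325 = n200023 := d8_1 D200325 F414658 F367384
theorem F416005 : act 5 n200325 = n112985 := d13_1 D200325 (iv7 D112985) D112983
theorem F416006 : act 0 n130559 = n200325 := d19_0 F416005 F245088 F245086 F111018 (iv5 D64423) (iv4 D30335) F24031 F11239 (iv5 D3478) F5458 F10260 (iv1 F3508) (iv5 F7754) (iv4 F18355) (iv3 F27010) (iv1 F23056) D29007 (iv4 F95732) (iv3 F209143)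
def n200326 : Q := act 0 n112984
theorem D200326 : act 0 n112984 = n200326 := rfl
def n200327 : Q := act 1 n112984
theorem D200327 : act 1 n112984 = n200327 := rfl
def n200328 : Q := act 5 n112984
theorem D200328 : act 5 n112984 = n200328 := rfl
def n200329 : Q := act 7 n112984
theorem D200329 : act 7 n112984 = n200329 := rfl
theorem F416007 : act 3 n200329 = n199939 := d8_1 D200329 (iv7 F415998) F415990
theorem F416008 : act 6 n200329 = n194441 := d14_1 D200329 F393231 (iv6 F392425) (iv7 D112985) D112984
def n200330 : Q := act 5 n112986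
theorem D200330 : act 5 n112986 = n200330 := rfl
theorem F416009 : act 2 n200330 = n178877 := d2_1 D200330 F278746 (iv2 F316039)
theorem F416010 : act 3 n200330 = n112988 := d6_1 D200330 (iv5 D112988) D112986
theorem F416011 : act 6 n200330 = n190485 := d12_2 (iv6 F316040) D200330 F379872 F372686 F329975
theorem F416012 : act 7 n200330 = n178876 := d13_2 F316687 D200330 F278745
theorem F416013 : act 0 n200330 = n178828 := d17_2 (iv1 F316038) D200330 (iv5 D178828) (iv4 D85247) (iv5 D39399) F199843 (iv5 F313578) F313577 D58463
theorem F416014 : act 1 n200330 = n124997 := d17_6 (iv1 F280165) (iv5 D86792) (iv1 F155121) (iv5 F314597) F245518 D200330 (iv5 D124997) D124995 (iv4 F201202)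
def n200331 : Q := act 6 n112987
theorem D200331 : act 6 n112987 = n200331 := rfl
theorem F416015 : act 3 n200331 = n119619 := d7_1 D200331 F316171 F175959
theorem F416016 : act 4 n200331 = n112989 := d10_1 D200331 (iv6 D112989) D112987
theorem F416017 : act 1 n194327 = n200331 := d18_6 F379908 F378378 (iv1 F350173) F137997 (iv5 F158460) D194327 F416016 (iv0 F393842) F393841
theorem F416018 : act 5 n152867 = n200331 := d6_0 F416015 F188671 D152867
theorem F416019 : act 0 n194450 = n152867 := d17_2 (iv1 D194448) D194450 F416018 F416016 F366637 (iv0 F176036) D190582 (iv0 F380207) (iv4 F393253)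
def n200332 : Q := act 6 n112988
theorem D200332 : act 6 n112988 = n200332 := rfl
theorem F416020 : act 3 n200332 = n190485 := d7_1 D200332 (iv6 F416011) F416010
theorem F416021 : act 5 n200332 = n182848 := d12_1 D200332 F363047 (iv5 F366637) (iv6 D112989) D112988
theorem F416022 : act 4 n189971 = n200332 := d18_3 (iv1 F293079) D188445 (iv1 F378381) F416021 (iv4 D182848) (iv0 D87289) F61663 D87290 (iv5 F343042)
theorem F416023 : act 0 n200332 = n190029 := d21_7 (iv5 F96256) (iv1 F120159) F120156 D96216 F176036 (iv6 F363047) (iv5 F416021) (iv5 D190029) (iv6 D95565) F70189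
theorem F416024 : act 6 n191085 = n189971 := d10_0 F416022 (iv6 D200332) (iv4 F392696)
def n200333 : Q := act 4 n112991
theorem D200333 : act 4 n112991 = n200333 := rfl
theorem F416025 : act 2 n200333 = n191083 := d1_1 D200333 F382155 (iv2 F245136)
theorem F416026 : act 7 n200333 = n190962 := d11_2 F245135 D200333 F381725
theorem F416027 : act 5 n200333 = n190768 := d16_7 (iv4 F328856) (iv5 D107642) (iv4 F166055) (iv5 F245130) (iv4 F245132) (iv5 F245134) D200333 F380975 F149796
theorem F416028 : act 0 n200333 = n190777 := d17_0 F381013 D194292 (iv5 F392695) F392696 (iv5 D112988) F175949 F175947 F175965 D200333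
theorem F416029 : act 1 n200333 = n191114 := d18_8 (iv1 F392700) (iv4 F403120) F403121 (iv4 F408317) (iv5 F415813) F415812 F175965 D200333 F382287
theorem F416030 : act 3 n189656 = n200333 := d6_3 F416027 (iv3 F380976) F377278
theorem F416031 : act 6 n200333 = n189654 := d7_2 D189656 F416030 (iv3 D189654)
def n200334 : Q := act 6 n112991
theorem D200334 : act 6 n112991 = n200334 := rfl
theorem F416032 : act 2 n200334 = n200291 := d3_1 D200334 (iv6 D200291) (iv2 F245136)
theorem F416033 : act 4 n200334 = n189654 := d10_1 D200334 (iv6 F416031) (iv4 D200333)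
def n200335 : Q := act 0 n112993
theorem D200335 : act 0 n112993 = n200335 := rfl
theorem F416034 : act 5 n200335 = n190613 := d17_3 F391642 (iv5 F336225) D200335 F380289 F243736 (iv0 F351330) (iv5 F175186) F339812 D179299
theorem F416035 : act 4 n200335 = n193695 := d18_3 (iv1 D112992) D112993 D200335 (iv5 D193695) (iv4 F390703) (iv0 F390704) (iv4 D130558) D130556 F245141
theorem F416036 : act 3 n200335 = n190618 := d20_5 F381696 (iv1 F175863) F171450 (iv3 F175967) D200335 F380313 (iv1 F364052) F356912 D189988 (iv1 F381699)
theorem F416037 : act 1 n200281 = n200335 := d15_0 (iv0 D200335) F175968 D200281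
theorem F416038 : act 6 n198966 = n200335 := d7_0 F416036 F380315 (iv3 F410091)
theorem F416039 : act 7 n190612 = n200335 := d8_0 F416036 (iv7 D190618) (iv3 F380285)
theorem F416040 : act 2 n200335 = n200280 := d15_3 F415815 (iv0 F408314) F416039
def n200336 : Q := act 1 n112993
theorem D200336 : act 1 n112993 = n200336 := rfl
theorem F416041 : act 1 n200336 = n200281 := d15_1 D200336 F415814 F408311
theorem F416042 : act 7 n200336 = n200280 := d15_2 (iv0 D200335) D200336 (iv2 F416040)
theorem F416043 : act 6 n190810 = n200336 := d21_3 (iv5 D190482) F149506 D190810 (iv1 D200336) (iv6 F336224) (iv5 D112104) F173500 (iv5 F379924) (iv6 D190500) F379867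
theorem F416044 : act 5 n190609 = n200336 := d21_6 (iv5 D50528) (iv1 F39311) (iv5 F80043) (iv6 F321625) (iv1 F148019) D190609 (iv1 D200336) F336225 (iv6 D111845) (iv1 F81400)
theorem F416045 : act 2 n200336 = n190612 := d2_1 F416044 (iv5 D190612) (iv2 F380280)
theorem F416046 : act 3 n200336 = n190671 := d6_1 F416044 (iv5 D190671) (iv3 F380281)
def n200337 : Q := act 0 n112994
theorem D200337 : act 0 n112994 = n200337 := rfl
theorem F416047 : act 4 n200337 = n198365 := d20_8 (iv4 D189699) (iv1 D94343) (iv4 F145476) (iv3 F377412) F410075 F410071 (iv4 F336223) D200337 (iv3 F407774) F377450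
theorem F416048 : act 1 n128577 = n200337 := d15_0 (iv0 D200337) (iv7 F408635) F408633
def n200338 : Q := act 1 n112994
theorem D200338 : act 1 n112994 = n200338 := rfl
theorem F416049 : act 1 n200338 = n128577 := d15_1 D200338 (iv7 F408961) F408958
theorem F416050 : act 4 n200338 = n198364 := d18_7 D109248 F169205 F172682 F81959 D112104 (iv4 F336223) D200338 (iv0 D198364) (iv5 D109250)
def n200339 : Q := act 0 n112995
theorem D200339 : act 0 n112995 = n200339 := rfl
def n200340 : Q := act 1 n112995
theorem D200340 : act 1 n112995 = n200340 := rfl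
theorem F416051 : act 4 n200340 = n115718 := d18_7 (iv1 F111049) (iv4 F166386) (iv1 F168108) (iv4 F84104) D115445 F336204 D200340 F245154 (iv5 D156034)
theorem F416052 : act 3 n115668 = n115718 := d20_5 (iv4 D53366) (iv1 D25859) (iv4 F40843) (iv3 F84183) D115668 (iv4 F416051) (iv1 D200340) (iv4 F336204) F336203 F168101
theorem F416053 : act 7 n115718 = n156297 := d8_2 F359988 F416052 (iv3 F351507)
theorem F416054 : act 2 n156297 = n115717 := d15_3 (iv0 D115717) D115718 F416053
theorem F416055 : act 2 n115718 = n156296 := d15_3 (iv0 D156296) D156297 (iv7 F416053)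
theorem F416056 : act 7 n156296 = n115717 := d4_2 (iv7 F416053) F416055 (iv2 F416054)
def n200341 : Q := act 5 n112995
theorem D200341 : act 5 n112995 = n200341 := rfl
theorem F416057 : act 2 n200341 = n116965 := d2_1 D200341 (iv5 F415977) F415974
theorem F416058 : act 3 n200341 = n112999 := d6_1 D200341 (iv5 D112999) (iv3 F175970)
theorem F416059 : act 6 n200341 = n116963 := d12_2 D112995 D200341 F365024 (iv6 D112945) (iv5 F82441)
theorem F416060 : act 7 n200341 = n200318 := d13_2 F182830 D200341 F415977
theorem F416061 : act 4 n200341 = n137058 := d16_2 F336204 D200341 (iv5 D137058) (iv4 F167000) F167001 F167000 D137058 (iv7 F401335) F401332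
theorem F416062 : act 1 n200340 = n200341 := d15_1 D200340 F416060 F415974
theorem F416063 : act 1 n200341 = n200339 := d15_0 (iv0 D200339) (iv7 F182830) (iv2 F416057)
theorem F416064 : act 4 n200339 = n115717 := d18_7 D53356 (iv4 F175399) (iv1 F175401) F167000 D137058 (iv4 F416061) F416063 (iv0 D115717) (iv5 D53358)
def n200342 : Q := act 3 n112996
theorem D200342 : act 3 n112996 = n200342 := rfl
theorem F416065 : act 2 n200342 = n196167 := d0_1 D200342 F399680 (iv2 F399531) F340021 F365007
theorem F416066 : act 4 n200342 = n196163 := d5_2 (iv4 F365008) D200342 F399670 (iv4 F403389) (iv3 F403392)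
theorem F416067 : act 5 n200342 = n191220 := d6_2 F415704 D200342 (iv3 F415702)
theorem F416068 : act 7 n200342 = n200260 := d8_2 (iv7 F365009) D200342 (iv3 D200260)
theorem F416069 : act 6 n196160 = n200342 := d12_0 F416067 (iv6 F382632) (iv5 D176726) D176727 (iv5 F399657)
def n200343 : Q := act 6 n112996
theorem D200343 : act 6 n112996 = n200343 := rfl
theorem F416070 : act 2 n200343 = n200259 := d3_1 D200343 (iv6 D200259) F365007
theorem F416071 : act 3 n200343 = n196160 := d7_1 D200343 F416069 (iv3 D200342)
theorem F416072 : act 4 n200343 = n197172 := d10_1 D200343 F403393 (iv4 F365008)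
theorem F416073 : act 7 n196157 = n200343 := d8_0 F416071 (iv7 D196160) D196157
theorem F416074 : act 1 n200259 = n189738 := d15_0 (iv0 F399649) F416073 F416070
def n200344 : Q := act 6 n112997
theorem D200344 : act 6 n112997 = n200344 := rfl
theorem F416075 : act 2 n200344 = n200262 := d3_1 D200344 (iv6 D200262) (iv2 F365006)
theorem F416076 : act 3 n200344 = n176739 := d7_1 D200344 F399538 (iv3 F399536)
def n200345 : Q := act 0 n113004
theorem D200345 : act 0 n113004 = n200345 := rfl
theorem F416077 : act 5 n200345 = n195543 := d17_3 F85017 D113004 D200345 F397294 F162265 (iv0 D61848) F46951 (iv0 F41229) (iv4 F85016)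
theorem F416078 : act 1 n133383 = n200345 := d15_0 (iv0 D200345) (iv7 F226813) F226812
theorem F416079 : act 2 n133380 = n200345 := d2_3 F416077 (iv2 F410943) F410946
theorem F416080 : act 7 n133381 = n200345 := d13_0 F416077 (iv7 F401178) F401177
def n200346 : Q := act 1 n113004
theorem D200346 : act 1 n113004 = n200346 := rfl
theorem F416081 : act 1 n200346 = n133383 := d15_1 D200346 (iv7 D133383) (iv2 F175989)
theorem F416082 : act 7 n200346 = n133380 := d15_2 (iv0 D200345) D200346 F416079
theorem F416083 : act 5 n194394 = n200346 := d21_6 D61257 F95733 (iv5 D52099) F331328 D103305 D194394 (iv1 D200346) (iv5 D113004) (iv6 D52157) (iv1 F46632)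
theorem F416084 : act 6 n159816 = n200346 := d21_9 (iv5 D113004) (iv1 F103412) (iv5 F226819) (iv6 F381279) F381274 (iv6 D187215) (iv5 D89819) (iv1 F114617) D159816 (iv1 D200346)
theorem F416085 : act 2 n200346 = n133381 := d3_1 F416084 F378635 (iv2 F251853)
def n200347 : Q := act 3 n113006
theorem D200347 : act 3 n113006 = n200347 := rfl
theorem F416086 : act 7 n200347 = n133429 := d8_2 (iv7 F396352) D200347 (iv3 D133429)
theorem F416087 : act 0 n189301 = n200347 := d20_4 (iv4 F380011) (iv1 F380013) (iv4 F379775) F379777 (iv3 D200347) (iv4 F399031) (iv1 F399032) F382226 (iv3 F399703) (iv1 F399706)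
theorem F416088 : act 5 n200347 = n194144 := d17_3 F374961 (iv5 F376374) F416087 (iv4 F411584) F411581 F245968 (iv5 F356544) (iv0 F352979) F352982
theorem F416089 : act 0 n200347 = n189401 := d21_7 (iv5 F355334) (iv1 F371225) F371222 (iv6 F377177) (iv1 F377178) D194144 (iv5 F416088) F376574 (iv6 F376576) F335032
theorem F416090 : act 1 n197042 = n189401 := d15_0 (iv0 F416089) F416086 (iv2 F402799)
def n200348 : Q := act 5 n113006
theorem D200348 : act 5 n113006 = n200348 := rfl
theorem F416091 : act 2 n200348 = n133426 := d2_1 D200348 (iv5 D133426) (iv2 F396351)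
theorem F416092 : act 3 n200348 = n194144 := d6_1 D200348 (iv5 F416088) (iv3 D200347)
theorem F416093 : act 7 n200348 = n133431 := d13_2 (iv7 F396352) D200348 (iv5 D133431)
theorem F416094 : act 6 n200348 = n194142 := d21_3 (iv5 F82469) D113006 D200348 F392183 (iv6 D189293) (iv5 F193571) (iv1 F371816) F371813 (iv6 D164497) (iv1 D78999)
theorem F416095 : act 0 n114862 = n200348 := d21_10 (iv5 D200348) (iv1 F176003) (iv5 F177959) F177960 (iv1 F120358) F193533 F193532 F177479 F83720 D114862
def n200349 : Q := act 6 n113006
theorem D200349 : act 6 n113006 = n200349 := rfl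
theorem F416096 : act 2 n200349 = n133427 := d3_1 D200349 (iv6 D133427) (iv2 F396351)
theorem F416097 : act 5 n200349 = n133664 := d21_6 (iv5 D29011) (iv1 F23066) D25330 D52161 D113006 D200349 (iv1 D133664) (iv5 D62736) (iv6 D29673) (iv1 F46648)
def n200350 : Q := act 6 n113007
theorem D200350 : act 6 n113007 = n200350 := rfl
theorem F416098 : act 2 n200350 = n133432 := d3_1 D200350 (iv6 D133432) (iv2 F396346)
theorem F416099 : act 4 n200350 = n191179 := d10_1 D200350 (iv6 F399039) F399037
theorem F416100 : act 0 n195205 = n200350 := d21_4 (iv5 D53065) D53063 F161758 D195205 (iv6 D200350) (iv5 F396345) F396350 F178930 (iv6 D114398) F83766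
theorem F416101 : act 1 n189388 = n200350 := d15_0 (iv0 F416100) F396249 F383187
def n200351 : Q := act 6 n113014
theorem D200351 : act 6 n113014 = n200351 := rfl
theorem F416102 : act 2 n200351 = n196937 := d3_1 D200351 (iv6 D196937) (iv2 F176054)
theorem F416103 : act 5 n200351 = n113714 := d12_1 D200351 (iv6 F398486) F398485 (iv6 D190463) (iv5 F376735)
theorem F416104 : act 7 n200351 = n195679 := d14_2 (iv7 F176053) D200351 F397829 (iv7 F396213) (iv6 F396216)
def n200352 : Q := act 3 n113015
theorem D200352 : act 3 n113015 = n200352 := rfl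
theorem F416105 : act 2 n200352 = n199863 := d0_1 D200352 (iv3 F413854) (iv2 F373655) F364666 (iv2 F176048)
theorem F416106 : act 5 n200352 = n190464 := d6_2 F376745 D200352 (iv3 D190464)
theorem F416107 : act 7 n200352 = n196935 := d8_2 F176055 D200352 (iv3 D196935)
theorem F416108 : act 4 n200352 = n158117 := d20_6 F373808 (iv1 F370265) (iv4 F376732) F376731 (iv1 F176046) D200352 (iv1 F327735) (iv4 F333567) F215052 D133663
theorem F416109 : act 0 n186370 = n200352 := d18_2 (iv1 F413868) F413866 F416108 F365718 (iv4 F202245) F202243 (iv4 F174621) (iv0 D112266) D112268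
theorem F416110 : act 1 n200273 = n200352 := d18_6 D75305 F326929 F201998 (iv4 F173536) D199832 (iv4 F415781) F416108 (iv0 D158117) (iv5 D75308)
def n200353 : Q := act 3 n113017
theorem D200353 : act 3 n113017 = n200353 := rfl
theorem F416111 : act 4 n200353 = n189427 := d5_2 D113017 D200353 (iv3 F387426) (iv4 D119099) F86719
theorem F416112 : act 5 n128557 = n200353 := d17_3 (iv1 D112896) (iv5 F95020) D128557 F416111 F376587 (iv0 D114536) (iv5 F97668) D133413 (iv4 F365010)
theorem F416113 : act 0 n186225 = n200353 := d18_2 (iv1 D186228) (iv4 F288996) F416111 F376587 (iv4 F387436) (iv0 F387437) F178382 D114372 F367248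
def n200354 : Q := act 5 n113017
theorem D200354 : act 5 n113017 = n200354 := rfl
theorem F416114 : act 3 n200354 = n128557 := d6_1 D200354 F416112 (iv3 D200353)
theorem F416115 : act 0 n200354 = n189640 := d17_2 (iv1 F176058) D200354 (iv5 D189640) (iv4 D94267) (iv5 D44070) F68997 (iv5 F144703) F144705 D94269
theorem F416116 : act 1 n200354 = n189636 := d17_6 F144709 (iv5 D93873) (iv1 F69003) D52166 D113017 D200354 (iv5 D189636) (iv0 F176073) (iv4 D113023)
def n200355 : Q := act 6 n113017
theorem D200355 : act 6 n113017 = n200355 := rfl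
theorem F416117 : act 4 n200355 = n113018 := d10_1 D200355 (iv6 D113018) D113017
theorem F416118 : act 7 n200355 = n176721 := d14_2 F360838 D200355 (iv6 D176721) F129327 D158069
theorem F416119 : act 0 n188520 = n200355 := d21_4 F378565 (iv1 D144500) D144502 F377161 (iv6 D200355) D200354 F416115 (iv5 D189640) D189641 (iv1 F378568)
theorem F416120 : act 1 n188525 = n200355 := d15_1 (iv0 F373811) F416118 F276100
def n200356 : Q := act 6 n113020
theorem D200356 : act 6 n113020 = n200356 := rfl
theorem F416121 : act 2 n200356 = n113025 := d3_1 D200356 (iv6 D113025) (iv2 F176067)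
theorem F416122 : act 3 n200356 = n133716 := d7_1 D200356 F334831 (iv3 F176068)
theorem F416123 : act 4 n200356 = n196165 := d10_1 D200356 (iv6 F399674) F399529
theorem F416124 : act 5 n200356 = n114096 := d12_1 D200356 (iv6 D114096) (iv5 D52666) D52667 F176066
theorem F416125 : act 0 n196009 = n200356 := d20_4 (iv4 F209155) (iv1 F214535) (iv4 F288203) D196009 F416122 F215219 (iv1 F167454) (iv4 F340670) F350609 (iv1 F176005)
theorem F416126 : act 1 n196009 = n175980 := d15_1 (iv0 F416125) F365941 (iv2 F416121)
def n200357 : Q := act 3 n113021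
theorem D200357 : act 3 n113021 = n200357 := rfl
theorem F416127 : act 4 n200357 = n198960 := d5_2 D113021 D200357 (iv3 D198960) F171447 (iv3 F82481)
theorem F416128 : act 6 n200357 = n191154 := d7_2 (iv6 F356090) D200357 F382420
theorem F416129 : act 0 n200357 = n190746 := d20_4 F399529 (iv1 D113020) D113021 D200357 F380893 F379861 F349639 D196098 F399394 D196128
theorem E103805 : n198968 = n133408 := (c19_4 F416129 F380895 (iv4 F379859) D198968 (iv1 D133408) F97662 (iv4 F120189) (iv3 F259255) (iv1 F336413) (iv5 D120128) (iv4 D55280) (iv3 F52358) (iv1 F52357) (iv5 D15977) D15976 D33131 F52366 D52167 D113021 D200357)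
theorem F416130 : act 3 n133408 = n110767 := (sb E103805 (iv3 D198968))
def n200358 : Q := act 3 n113023
theorem D200358 : act 3 n113023 = n200358 := rfl
theorem F416131 : act 2 n200358 = n200260 := d0_1 D200358 (iv3 D200260) (iv2 F365006) F399536 (iv2 F399537)
theorem F416132 : act 4 n200358 = n196169 := d5_2 D113023 D200358 F399683 F238197 F166717
theorem F416133 : act 7 n200358 = n196167 := d8_2 (iv7 F399532) D200358 F399680
theorem F416134 : act 1 n200260 = n190504 := d15_0 (iv0 F399682) (iv7 F416133) F416131
def n200359 : Q := act 5 n113023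
theorem D200359 : act 5 n113023 = n200359 := rfl
theorem F416135 : act 1 n200359 = n191245 := d17_6 F138536 (iv5 D61277) D61276 (iv5 F139270) D113023 D200359 F382730 (iv0 F360837) (iv4 F292218)
def n200360 : Q := act 5 n113024
theorem D200360 : act 5 n113024 = n200360 := rfl
theorem F416136 : act 3 n200360 = n200258 := d6_1 D200360 (iv5 D200258) (iv3 F340021)
theorem F416137 : act 0 n200360 = n191245 := d17_2 (iv1 F176076) D200360 F382730 (iv4 D106486) (iv5 D49206) (iv0 F114354) D76302 (iv0 F114400) D94265
def n200361 : Q := act 6 n113024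
theorem D200361 : act 6 n113024 = n200361 := rfl
theorem F416138 : act 2 n200361 = n196165 := d3_1 D200361 (iv6 F399674) (iv2 F399531)
theorem F416139 : act 3 n200361 = n200259 := d7_1 D200361 (iv6 D200259) (iv3 F340021)
theorem F416140 : act 4 n200361 = n113025 := d10_1 D200361 (iv6 D113025) D113024
theorem F416141 : act 0 n200361 = n197050 := d20_7 (iv4 F171472) (iv1 F177834) (iv4 D106761) D106760 F340666 (iv3 F176077) (iv4 F416140) (iv4 D197050) (iv3 D107570) (iv1 F80542)
def n200362 : Q := act 0 n113025
theorem D200362 : act 0 n113025 = n200362 := rfl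
def n200363 : Q := act 1 n113025
theorem D200363 : act 1 n113025 = n200363 := rfl
def n200364 : Q := act 3 n113026
theorem D200364 : act 3 n113026 = n200364 := rfl
theorem F416142 : act 4 n200364 = n198631 := d5_2 (iv4 F176079) D200364 (iv3 F408629) F399709 F398283
theorem F416143 : act 0 n200364 = n198531 := d19_4 (iv1 F77926) (iv5 F164382) (iv4 F176079) D200364 F408245 (iv4 D198366) (iv3 F382304) (iv1 F382306) F211639 (iv4 D131540) F96320 D61727 F96323 (iv4 D61658) (iv3 F78753) (iv1 F78751) (iv5 D34287) D34286 (iv3 F77697)
theorem F416144 : act 5 n200051 = n200364 := d17_1 (iv1 F414791) F416143 F408245 (iv4 D198366) (iv5 D109250) D109249 D198363 (iv0 F408188) F414781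
theorem F416145 : act 0 n198530 = n130546 := d20_10 F209133 D130604 (iv4 F399720) (iv3 D196176) D196174 F408629 (iv4 F416142) F416143 (iv4 D198531) (iv3 F408244)
theorem F416146 : act 1 n200364 = n198366 := d15_1 (iv0 F416143) (iv7 F413669) F413667
def n200365 : Q := act 5 n113026
theorem D200365 : act 5 n113026 = n200365 := rfl
theorem F416147 : act 2 n200365 = n189658 := d2_1 D200365 F377284 F377211
theorem F416148 : act 3 n200365 = n200051 := d6_1 D200365 F416144 (iv3 D200364)
theorem F416149 : act 7 n200365 = n189657 := d13_2 F251187 D200365 F377280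
theorem F416150 : act 0 n200365 = n189655 := d17_2 D113026 D200365 (iv5 D189655) F214472 (iv5 D133395) F97631 (iv5 F139270) (iv0 D52168) D52170
theorem F416151 : act 1 n200365 = n189652 := d17_6 D44072 F82956 (iv1 F77926) (iv5 F164382) (iv4 F176079) D200365 (iv5 D189652) (iv0 D94273) (iv4 D44074)
def n200366 : Q := act 6 n113027
theorem D200366 : act 6 n113027 = n200366 := rfl
theorem F416152 : act 3 n200366 = n164079 := d7_1 D200366 (iv6 F367173) F376412
theorem F416153 : act 4 n200366 = n195201 := d10_1 D200366 F396225 (iv4 F176080)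
theorem F416154 : act 5 n200366 = n164077 := d12_1 D200366 (iv6 D164077) F293691 (iv6 F145405) (iv5 F376411)
def n200367 : Q := act 3 n113032
theorem D200367 : act 3 n113032 = n200367 := rfl
theorem F416155 : act 2 n200367 = n144940 := d0_1 D200367 F227914 (iv2 F104607) (iv3 F229113) F324136
theorem F416156 : act 5 n200367 = n144939 := d6_2 F343308 D200367 (iv3 F229108)
theorem F416157 : act 7 n200367 = n186416 := d8_2 (iv7 F291600) D200367 F289202
theorem F416158 : act 0 n159900 = n200367 := d20_4 (iv4 F379926) F379927 (iv4 F353548) (iv3 F252153) (iv3 D200367) (iv4 F378564) F378567 (iv4 F355655) D191322 F383038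
def n200368 : Q := act 6 n113033
theorem D200368 : act 6 n113033 = n200368 := rfl
theorem F416159 : act 3 n200368 = n113055 := d7_1 D200368 (iv6 D113055) (iv3 F176086)
theorem F416160 : act 7 n200368 = n113034 := d14_2 D113033 D200368 (iv6 D113034) (iv7 D52172) D52171
theorem F416161 : act 1 n189005 = n200368 := d15_1 F377605 F416160 (iv2 F376365)
theorem F416162 : act 1 n200368 = n133404 := d15_1 F416161 F214504 (iv2 F375384)
def n200369 : Q := act 5 n113035
theorem D200369 : act 5 n113035 = n200369 := rfl
theorem F416163 : act 2 n200369 = n194004 := d2_1 D200369 F391727 F331429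
theorem F416164 : act 3 n200369 = n133216 := d6_1 D200369 (iv5 F377651) F377650
theorem F416165 : act 6 n200369 = n188713 := d12_2 (iv6 F331420) D200369 F374525 (iv6 D187161) (iv5 F331405)
theorem F416166 : act 7 n200369 = n195645 := d13_2 F331431 D200369 F397714
def n200370 : Q := act 3 n113038
theorem D200370 : act 3 n113038 = n200370 := rfl
theorem F416167 : act 7 n200370 = n196009 := d8_2 (iv7 F331586) D200370 (iv3 D196009)
def n200371 : Q := act 5 n113038
theorem D200371 : act 5 n113038 = n200371 := rfl
theorem F416168 : act 2 n200371 = n164408 := d2_1 D200371 F290526 F331584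
theorem F416169 : act 7 n200371 = n164409 := d13_2 (iv7 F331586) D200371 F398531
theorem F416170 : act 6 n200371 = n195666 := d21_3 (iv5 F82491) D113038 D200371 (iv1 F397792) (iv6 D188544) (iv5 F288167) (iv1 F288169) F288171 (iv6 D164461) (iv1 D78983)
theorem F416171 : act 0 n114174 = n200371 := d21_10 (iv5 D200371) (iv1 F176101) (iv5 F177527) F177528 (iv1 F346179) F346182 F178020 (iv1 D114228) F83309 D114174
theorem F416172 : act 4 n200371 = n198528 := d20_2 F381252 F416171 F408243 (iv1 F392700) (iv3 F392706) (iv4 F368734) F411612 (iv4 F413796) F413800 (iv1 F397732)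
theorem F416173 : act 1 n164411 = n200371 := d15_1 (iv0 F397761) F416169 F398530
def n200372 : Q := act 3 n113039
theorem D200372 : act 3 n113039 = n200372 := rfl
theorem F416174 : act 5 n200372 = n195657 := d6_2 F176097 D200372 F397756
theorem F416175 : act 7 n200372 = n196008 := d8_2 F331581 D200372 (iv3 D196008)
theorem F416176 : act 4 n200372 = n198965 := d20_6 (iv4 F177802) (iv1 F164556) F163788 (iv3 F163779) (iv1 F176096) D200372 (iv1 D198965) F171453 F80528 D51070
theorem F416177 : act 0 n200279 = n200372 := d18_0 F416176 (iv1 D198965) F171453 F80529 (iv4 F87466) (iv0 F230420) (iv4 F258973) F258972 (iv5 F415809)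
theorem F416178 : act 2 n200278 = n200372 := d15_3 (iv0 F416177) (iv0 F415811) (iv7 F415805)
theorem F416179 : act 1 n164346 = n200372 := d15_0 (iv0 F416177) (iv7 D200279) (iv2 F259002)
theorem F416180 : act 6 n133222 = n200372 := d21_3 F217945 (iv1 F99086) D133222 (iv1 F416179) F259004 (iv5 D78932) (iv1 F76665) D55278 D120123 F327994
def n200373 : Q := act 6 n113039
theorem D200373 : act 6 n113039 = n200373 := rfl
theorem F416181 : act 2 n200373 = n196010 := d3_1 D200373 (iv6 D196010) (iv2 F331583)
theorem F416182 : act 3 n200373 = n133222 := d7_1 D200373 F416180 (iv3 D200372)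
theorem F416183 : act 5 n200373 = n133221 := d12_1 D200373 (iv6 F363882) (iv5 D106142) D106143 F176097
theorem F416184 : act 7 n200373 = n200294 := d14_2 F331581 D200373 (iv6 F415870) F398812 F395354
theorem F416185 : act 0 n113051 = n200373 := d21_4 (iv5 D106190) D106188 F163180 D113051 (iv6 D200373) (iv5 F176097) F397762 (iv5 F178012) (iv6 D114226) F163182
theorem F416186 : act 1 n200295 = n200373 := d15_0 (iv0 F416185) (iv7 F331434) (iv2 F415873)
def n200374 : Q := act 3 n113041
theorem D200374 : act 3 n113041 = n200374 := rfl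
theorem F416187 : act 7 n200374 = n200251 := d8_2 F415173 D200374 (iv3 D200251)
def n200375 : Q := act 6 n113041
theorem D200375 : act 6 n113041 = n200375 := rfl
theorem F416188 : act 2 n200375 = n200254 := d3_1 D200375 (iv6 D200254) F415172
theorem F416189 : act 0 n200375 = n191225 := d21_4 (iv5 D130551) D130548 F405865 D200375 (iv6 D191225) F360348 (iv1 D86876) D86878 (iv6 F357656) (iv1 F343135)
def n200376 : Q := act 3 n113042
theorem D200376 : act 3 n113042 = n200376 := rfl
theorem F416190 : act 7 n200376 = n200253 := d8_2 (iv7 F415170) D200376 (iv3 D200253)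
theorem F416191 : act 0 n200376 = n191243 := d20_10 F382726 (iv1 F164259) (iv4 F382217) F382216 (iv1 F247445) F340016 F226902 (iv1 F206814) (iv4 F365011) D200376
theorem F416192 : act 6 n190619 = n200376 := d21_9 F393367 (iv1 D194475) F294901 (iv6 D89992) (iv1 F294079) (iv6 F148032) (iv5 D96248) D96246 D190619 F416191
theorem F416193 : act 1 n200376 = n196016 := d15_1 (iv0 F416191) F399079 F393891
theorem F416194 : act 6 n200253 = n190649 := d14_3 (iv7 F380319) F416192 F416190 F382693 F382691
theorem F416195 : act 3 n190649 = n200254 := d7_1 F416194 (iv6 D200254) D200253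
def n200377 : Q := act 6 n113042
theorem D200377 : act 6 n113042 = n200377 := rfl
theorem F416196 : act 2 n200377 = n200252 := d3_1 D200377 (iv6 D200252) (iv2 F415166)
theorem F416197 : act 3 n200377 = n190619 := d7_1 D200377 F416192 (iv3 D200376)
theorem F416198 : act 5 n150006 = n200377 := d21_2 F365070 F335184 (iv6 D200377) (iv1 D113042) F331485 (iv5 D31349) F24420 D30415 D64630 D137500
def n200378 : Q := act 1 n113051
theorem D200378 : act 1 n113051 = n200378 := rfl
theorem F416199 : act 1 n200378 = n200295 := d15_1 D200378 (iv7 D200295) (iv2 F176131)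
theorem F416200 : act 7 n200378 = n196010 := d15_2 (iv0 F416185) D200378 (iv2 F416181)
theorem F416201 : act 3 n186408 = n200378 := d20_3 (iv4 F126987) (iv1 F365428) F365429 (iv1 D200378) F331449 F332822 (iv1 F202930) (iv4 F347537) (iv3 F347539) (iv1 D89690)
theorem F416202 : act 6 n190010 = n200378 := d21_3 (iv5 F348091) D195000 F395350 (iv1 D200378) (iv6 D113051) (iv5 F163180) (iv1 F163456) F178008 F178009 (iv1 D113015)
theorem F416203 : act 2 n200378 = n200294 := d3_1 F416202 (iv6 F415870) (iv2 F398813)
def n200379 : Q := act 5 n113056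
theorem D200379 : act 5 n113056 = n200379 := rfl
theorem F416204 : act 2 n200379 = n183113 := d2_1 D200379 (iv5 F364983) F364986
theorem F416205 : act 3 n200379 = n196015 := d6_1 D200379 (iv5 D196015) (iv3 F364987)
theorem F416206 : act 7 n200379 = n188983 := d13_2 (iv7 F364988) D200379 F375325
theorem F416207 : act 4 n200379 = n134850 := d16_4 F392220 (iv5 F392221) (iv4 F364995) D200379 (iv5 D134850) D134849 (iv5 F379765) (iv7 D190437) (iv2 F379756)
theorem F416208 : act 0 n200379 = n188979 := d21_1 D200379 F375312 (iv6 D186212) (iv1 F292447) (iv6 D52120) (iv5 D25306) (iv1 F19919) (iv5 F40051) D52180 D113056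
theorem F416209 : act 0 n188984 = n200379 := d21_10 (iv5 D200379) (iv1 F176143) (iv5 F205569) (iv6 D127795) (iv1 F94480) D114327 F178302 D164383 F259036 (iv6 F375329)
theorem F416210 : act 6 n183160 = n200379 := d3_0 F416204 F284729 D183160
def n200380 : Q := act 5 n113057
theorem D200380 : act 5 n113057 = n200380 := rfl
theorem F416211 : act 2 n200380 = n188983 := d2_1 D200380 F375325 (iv2 F364985)
theorem F416212 : act 3 n200380 = n183115 := d6_1 D200380 (iv5 F356675) F356941
theorem F416213 : act 6 n200380 = n196148 := d12_2 (iv6 F356946) D200380 F399614 F395357 F147656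
theorem F416214 : act 7 n200380 = n183113 := d13_2 F364984 D200380 (iv5 F364983)
theorem F416215 : act 4 n200380 = n134855 := d16_2 F351258 D200380 (iv5 D134855) D134854 (iv5 F379757) F392220 (iv5 F392221) F364993 (iv2 F364991)
theorem F416216 : act 0 n200380 = n188984 := d21_1 D200380 F375328 (iv6 F331427) (iv1 F290528) F290530 (iv5 D105390) (iv1 F76720) (iv5 F82415) D112956 (iv1 F176144)
theorem F416217 : act 0 n188979 = n200380 := d21_10 (iv5 D200380) (iv1 D113057) (iv5 F83378) (iv6 D52781) (iv1 F46034) D60021 F94505 F176018 D92961 D188979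
def n200381 : Q := act 3 n113058
theorem D200381 : act 3 n113058 = n200381 := rfl
theorem F416218 : act 4 n200381 = n115442 := d5_2 F224203 D200381 F330552 D115485 (iv3 F365195)
theorem F416219 : act 0 n200381 = n196771 := d20_4 F181718 D141183 F224203 D200381 (iv3 D196771) (iv4 F165368) (iv1 F172273) D111081 (iv3 F222472) F222474
theorem F416220 : act 6 n116583 = n200381 := d10_0 F416218 F330556 D116583
def n200382 : Q := act 5 n113058
theorem D200382 : act 5 n113058 = n200382 := rfl
theorem F416221 : act 2 n200382 = n144148 := d2_1 D200382 (iv5 F386896) F345460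
theorem F416222 : act 7 n200382 = n144147 := d13_2 F345463 D200382 F385934
theorem F416223 : act 4 n200382 = n194198 := d17_4 F355624 F103445 D113058 D200382 F392356 (iv0 F355642) (iv5 D103010) (iv0 D47759) (iv4 F75019)
theorem F416224 : act 0 n200382 = n144145 := d21_1 D200382 (iv5 D144145) D144146 (iv1 F390735) F390733 F396280 (iv1 D113079) (iv5 D52191) (iv6 F82505) D113058
theorem F416225 : act 6 n200382 = n176840 := d21_3 F103445 D113058 D200382 (iv1 D176840) (iv6 D84304) (iv5 D38875) (iv1 F54666) F54664 D47758 F355624
theorem F416226 : act 1 n200382 = n117000 := d15_1 (iv0 F416224) F182920 (iv2 F226854)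
def n200383 : Q := act 6 n113058
theorem D200383 : act 6 n113058 = n200383 := rfl
theorem F416227 : act 2 n200383 = n199706 := d3_1 D200383 F413193 F345460
theorem F416228 : act 3 n200383 = n116583 := d7_1 D200383 F416220 (iv3 D200381)
theorem F416229 : act 7 n200383 = n199708 := d14_2 F345463 D200383 F413203 F385927 (iv6 F345462)
theorem F416230 : act 0 n200383 = n136286 := d21_4 D117000 (iv1 F416226) (iv5 D200382) D200383 (iv6 F387959) F387962 F384401 F390857 (iv6 F390858) (iv1 D116998)
theorem F416231 : act 5 n200383 = n136264 := d21_6 F396280 (iv1 D113079) (iv5 D52191) (iv6 F82505) D113058 D200383 (iv1 D136264) D136266 F349536 (iv1 F214376)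
theorem F416232 : act 1 n200383 = n195535 := d15_1 (iv0 F416230) F397260 (iv2 F364297)
def n200384 : Q := act 4 n113061
theorem D200384 : act 4 n113061 = n200384 := rfl
theorem F416233 : act 2 n200384 = n169898 := d1_1 D200384 (iv4 F362938) F176215
theorem F416234 : act 3 n200384 = n166172 := d5_1 D200384 (iv4 D166172) D166171 (iv4 F411740) F411736
theorem F416235 : act 6 n200384 = n196440 := d10_2 (iv6 F176147) D200384 (iv4 D196440)
theorem F416236 : act 7 n200384 = n126305 := d11_2 (iv7 F176148) D200384 F203078
theorem F416237 : act 5 n200384 = n198900 := d17_5 (iv1 F93065) F76499 D52182 D113061 D200384 (iv0 D198900) (iv5 D110501) D110500 F170994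
theorem F416238 : act 0 n200384 = n169899 := d17_0 (iv5 F392631) F392632 (iv5 D125670) F93051 (iv5 F48771) D64437 (iv5 F176399) (iv0 F176402) D200384
theorem F416239 : act 1 n200384 = n126177 := d18_6 (iv1 D49982) (iv4 F79063) D108218 F175748 D113061 D200384 F202905 (iv0 F103480) F93175
def n200385 : Q := act 3 n113065
theorem D200385 : act 3 n113065 = n200385 := rfl
theorem F416240 : act 7 n200385 = n113071 := d8_2 F176163 D200385 (iv3 D113071)
theorem F416241 : act 5 n189711 = n200385 := d13_3 F416240 F385119 F379485
theorem F416242 : act 1 n200385 = n156869 := d17_8 (iv1 D135883) D135885 (iv1 F352854) (iv5 D102184) D102183 (iv5 F353357) (iv0 F377494) F416241 F246876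
def n200386 : Q := act 4 n113065
theorem D200386 : act 4 n113065 = n200386 := rfl
theorem F416243 : act 2 n200386 = n113067 := d1_1 D200386 (iv4 D113067) D113065
theorem F416244 : act 7 n200386 = n113072 := d11_2 F176163 D200386 (iv4 D113072)
theorem F416245 : act 0 n200386 = n156694 := d20_1 D200386 F246468 (iv3 D138897) (iv1 F315161) D179093 (iv4 F315165) F176186 F176185 F82549 (iv1 F387957)
theorem F416246 : act 3 n200386 = n156684 := d20_3 (iv4 F82516) (iv1 F387957) D200386 (iv1 F246443) (iv3 F338245) F338246 (iv1 F171998) D110952 (iv3 F357629) F357627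
theorem F416247 : act 5 n193813 = n200386 := d6_0 F416246 F360940 (iv3 F391066)
theorem F416248 : act 6 n200386 = n193814 := d12_2 D193813 F416247 (iv5 D193814) (iv6 D102362) D102361
def n200387 : Q := act 5 n113065
theorem D200387 : act 5 n113065 = n200387 := rfl
theorem F416249 : act 2 n200387 = n113068 := d2_1 D200387 (iv5 D113068) D113065
theorem F416250 : act 3 n200387 = n189711 := d6_1 D200387 F416241 (iv3 D200385)
theorem F416251 : act 7 n200387 = n113073 := d13_2 F176163 D200387 (iv5 D113073)
theorem F416252 : act 0 n200387 = n131129 := d17_2 (iv1 F387957) D200387 F210022 (iv4 F111654) (iv5 F329102) (iv0 F411550) (iv5 D199299) F357669 (iv4 F82516)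
theorem F416253 : act 0 n189736 = n200387 := d21_10 (iv5 D200387) F387956 (iv5 F161798) (iv6 F396251) (iv1 F396254) (iv6 D194223) (iv5 F248917) (iv1 F248921) (iv5 F377568) D189736
def n200388 : Q := act 6 n113065
theorem D200388 : act 6 n113065 = n200388 := rfl
theorem F416254 : act 2 n200388 = n113069 := d3_1 D200388 (iv6 D113069) D113065
theorem F416255 : act 4 n200388 = n193814 := d10_1 D200388 (iv6 F416248) (iv4 D200386)
def n200389 : Q := act 5 n113066
theorem D200389 : act 5 n113066 = n200389 := rfl
theorem F416256 : act 3 n200389 = n113068 := d6_1 D200389 (iv5 D113068) D113066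
theorem F416257 : act 7 n200389 = n190762 := d13_2 (iv7 F392432) D200389 (iv5 F392430)
theorem F416258 : act 0 n200389 = n191087 := d17_2 F392860 D200389 (iv5 F415909) F415908 (iv5 D156186) (iv0 D74299) D74303 D156200 (iv4 F392859)
def n200390 : Q := act 6 n113066
theorem D200390 : act 6 n113066 = n200390 := rfl
theorem F416259 : act 3 n200390 = n113069 := d7_1 D200390 (iv6 D113069) D113066
theorem F416260 : act 4 n200390 = n178801 := d10_1 D200390 (iv6 D178801) (iv4 F320583)
theorem F416261 : act 7 n200390 = n194444 := d14_2 (iv7 F392432) D200390 (iv6 D194444) F158939 D194231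
theorem F416262 : act 1 n194583 = n200390 := d15_1 (iv0 F393758) F416261 F393239
theorem F416263 : act 0 n178801 = n156120 := d20_7 F175941 (iv1 F82547) F167332 D197475 (iv1 F415576) (iv3 F416259) F416260 (iv4 F415603) (iv3 D200225) (iv1 F175944)
def n200391 : Q := act 0 n113067
theorem D200391 : act 0 n113067 = n200391 := rfl
theorem F416264 : act 4 n200391 = n194399 := d20_2 D113067 D200391 (iv3 D194399) (iv1 D103321) F331329 F39950 (iv1 D12036) D12037 D25348 D52188
theorem F416265 : act 3 n200391 = n179157 := d20_5 F320585 (iv1 D85203) D85204 (iv3 F366394) D200391 F279109 (iv1 F336301) (iv4 F335396) F335395 (iv1 F172511)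
theorem F416266 : act 2 n156694 = n200391 := d15_3 (iv0 D200391) (iv0 F222100) (iv7 F246469)
theorem F416267 : act 0 n200391 = n113072 := d19_4 D128106 F345969 (iv4 F279109) (iv3 F416265) (iv5 F352978) (iv4 D159595) (iv3 D76354) (iv1 F83157) F83153 (iv4 F163788) F340416 (iv1 F340415) (iv5 D131817) (iv4 F97682) (iv3 D62630) (iv1 F93576) (iv5 F328436) (iv4 F120211) F120210
def n200392 : Q := act 5 n113067
theorem D200392 : act 5 n113067 = n200392 := rfl
theorem F416268 : act 2 n200392 = n193813 := d2_1 D200392 F416247 F416243
theorem F416269 : act 3 n200392 = n175169 := d6_1 D200392 F274187 (iv3 F366394)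
theorem F416270 : act 4 n200392 = n114261 := d18_5 (iv1 D51278) (iv4 F40058) D52188 D113067 D200392 F178099 F336380 (iv0 F361679) (iv5 D111176)
theorem F416271 : act 0 n200392 = n114265 := d18_0 (iv4 F251185) (iv1 F376580) (iv4 F411571) F411572 (iv4 F388003) (iv0 F393052) (iv4 F416264) (iv0 D200391) D200392
theorem F416272 : act 6 n187098 = n200392 := d21_3 F290881 (iv1 F137256) D187098 F416271 (iv6 D114265) F87743 F90544 F90542 F76687 D90147
theorem F416273 : act 7 n200392 = n175167 := d15_2 (iv0 F251382) (iv0 F416271) F360779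
def n200393 : Q := act 6 n113067
theorem D200393 : act 6 n113067 = n200393 := rfl
theorem F416274 : act 2 n200393 = n193814 := d3_1 D200393 (iv6 F416248) F416243
theorem F416275 : act 3 n200393 = n178811 := d7_1 D200393 (iv6 D178811) (iv3 F366394)
theorem F416276 : act 4 n200393 = n113069 := d10_1 D200393 (iv6 D113069) D113067
theorem F416277 : act 5 n200393 = n187093 := d12_1 D200393 F369062 D187098 F416272 (iv5 D200392)
def n200394 : Q := act 7 n113067
theorem D200394 : act 7 n113067 = n200394 := rfl
theorem F416278 : act 2 n200394 = n113072 := d4_1 D200394 (iv7 F416244) F416243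
theorem F416279 : act 3 n200394 = n156958 := d8_1 D200394 F320444 (iv3 F366394)
theorem F416280 : act 4 n200394 = n113070 := d11_1 D200394 (iv7 D113070) D113067
theorem F416281 : act 5 n200394 = n175167 := d13_1 D200394 (iv7 F416273) (iv5 D200392)
theorem F416282 : act 6 n184320 = n200394 := d12_0 F416281 F378908 (iv5 D190116) D190117 (iv5 F378911)
theorem F416283 : act 0 n156694 = n200394 := d19_0 F416281 (iv4 F349787) F258959 (iv1 F120067) (iv5 F239641) (iv4 F403343) (iv3 D197163) (iv1 F360281) (iv5 F370761) F370760 F313757 (iv1 F201029) (iv5 F315116) (iv4 F222366) (iv3 F314309) F232637 F232449 (iv4 F314654) D156694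
def n200395 : Q := act 0 n113068
theorem D200395 : act 0 n113068 = n200395 := rfl
theorem F416284 : act 5 n200395 = n133341 := d17_3 D52188 D113068 D200395 (iv4 F245964) (iv5 F356544) (iv0 F352979) (iv5 D111171) (iv0 D51277) (iv4 F40058)
theorem F416285 : act 2 n131129 = n200395 := d15_3 (iv0 D200395) (iv0 F366395) (iv7 F210023)
theorem F416286 : act 7 n200395 = n189736 := d4_2 (iv7 F210023) F416285 F377577
theorem F416287 : act 1 n113073 = n200395 := d15_1 F361680 F416286 F377577
theorem F416288 : act 6 n164107 = n200395 := d21_9 (iv5 D113073) (iv1 D52189) D52191 (iv6 F331491) F355625 F258635 (iv5 D78840) D78838 D164107 (iv1 F416287)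
def n200396 : Q := act 4 n113068
theorem D200396 : act 4 n113068 = n200396 := rfl
theorem F416289 : act 5 n200396 = n189452 := d16_1 D200396 F376619 (iv5 D159596) D159595 F352978 (iv4 D113072) D113073 (iv7 F416251) F416249
theorem F416290 : act 7 n189451 = n200396 := d13_0 F416289 (iv7 D189452) D189451
def n200397 : Q := act 6 n113068
theorem D200397 : act 6 n113068 = n200397 := rfl
def n200398 : Q := act 7 n113068
theorem D200398 : act 7 n113068 = n200398 := rfl
theorem F416291 : act 2 n200398 = n113073 := d4_1 D200398 (iv7 F416251) F416249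
theorem F416292 : act 3 n200398 = n190762 := d8_1 D200398 (iv7 F416257) F416256
theorem F416293 : act 4 n200398 = n189451 := d11_1 D200398 F416290 (iv4 D200396)
theorem F416294 : act 5 n200398 = n113070 := d13_1 D200398 (iv7 D113070) D113068
theorem F416295 : act 1 n189736 = n200398 := d15_1 (iv0 F416253) (iv7 D200398) (iv2 F416249)
theorem F416296 : act 1 n200398 = n131129 := d15_1 F416295 F210023 (iv2 F377577)
theorem F416297 : act 6 n190760 = n200398 := d21_3 F376512 F370102 (iv5 F380944) (iv1 F416295) (iv6 D189736) F377568 (iv1 D82421) D82423 D172109 F376514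
def n200399 : Q := act 5 n113069
theorem D200399 : act 5 n113069 = n200399 := rfl
def n200400 : Q := act 2 n113071
theorem D200400 : act 2 n113071 = n200400 := rfl
theorem F416298 : act 3 n200400 = n194440 := d0_2 D113071 D200400 F393225 F392428 F176164
theorem F416299 : act 4 n200400 = n135916 := d1_2 (iv4 F391919) D200400 F413525
theorem F416300 : act 5 n200400 = n189715 := d2_2 (iv5 F385119) D200400 F379483
theorem F416301 : act 6 n200400 = n194438 := d3_2 (iv6 F385118) D200400 F393216
theorem F416302 : act 4 n199795 = n188832 := d16_4 F416299 (iv5 F413522) F413521 (iv5 F413534) F375030 D189711 F416241 F416240 D200400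
theorem F416303 : act 6 n193968 = n135916 := d10_2 F416301 F393220 (iv4 F416299)
theorem F416304 : act 3 n135919 = n193968 := d7_3 F416303 (iv3 D135916) D135919
theorem F416305 : act 1 n156869 = n200400 := d18_8 F377498 F292436 (iv1 F353356) F215043 F97860 (iv4 F99370) D135883 (iv4 F246876) F416300
def n200401 : Q := act 4 n113073
theorem D200401 : act 4 n113073 = n200401 := rfl
theorem F416306 : act 2 n200401 = n189451 := d1_1 D200401 (iv4 F416293) F416291
theorem F416307 : act 5 n200401 = n189257 := d9_2 D113073 D200401 F376244 (iv5 F362430) (iv4 F416270) (iv5 D200392) (iv4 D113067) D113068 D200396 F416289 F376619 (iv5 D159596) D159595 F352978 (iv4 D113072)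
def n200402 : Q := act 4 n113077
theorem D200402 : act 4 n113077 = n200402 := rfl
theorem F416308 : act 2 n200402 = n113080 := d1_1 D200402 (iv4 D113080) (iv2 F176167)
def n200403 : Q := act 3 n113078
theorem D200403 : act 3 n113078 = n200403 := rfl
theorem F416309 : act 2 n200403 = n193695 := d0_1 D200403 F390708 (iv2 F385804) F396274 F396276
theorem F416310 : act 5 n200403 = n193690 := d6_2 (iv5 F377579) D200403 F390698
theorem F416311 : act 4 n200403 = n200280 := d20_6 F47520 (iv1 F47553) (iv4 F47557) (iv3 F82517) D113078 D200403 (iv1 D200280) F175875 (iv3 D52133) (iv1 F47522)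
theorem F416312 : act 6 n189949 = n200403 := d12_0 F416310 (iv6 D193690) (iv5 F369159) (iv6 F369163) D189949
def n200404 : Q := act 4 n113078
theorem D200404 : act 4 n113078 = n200404 := rfl
def n200405 : Q := act 6 n113078
theorem D200405 : act 6 n113078 = n200405 := rfl
theorem F416313 : act 3 n200405 = n189949 := d7_1 D200405 F416312 (iv3 D200403)
theorem F416314 : act 0 n194218 = n200405 := d21_4 (iv5 F293691) D164074 F413684 D194218 (iv6 D200405) F377579 (iv1 F214372) (iv5 F377578) (iv6 D189736) (iv1 D94364)
theorem F416315 : act 5 n189947 = n200405 := d6_0 F416313 (iv5 D189949) D189947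
def n200406 : Q := act 3 n113079
theorem D200406 : act 3 n113079 = n200406 := rfl
theorem F416316 : act 5 n200406 = n192159 := d6_2 F396280 D200406 F385808
theorem F416317 : act 7 n200406 = n192158 := d8_2 (iv7 F396278) D200406 F396274
theorem F416318 : act 4 n189638 = n200406 := d20_2 (iv4 F356094) (iv1 F377225) (iv3 D200406) (iv1 D113079) F82517 F47557 (iv1 D29613) D29614 D62622 D133415
theorem F416319 : act 2 n200406 = n193699 := d1_1 F416318 F390720 F377228
theorem F416320 : act 1 n200406 = n193697 := d18_8 F385121 F391919 (iv1 D194063) F352942 F352897 (iv4 F352954) D189638 F416318 F390713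
theorem F416321 : act 0 n200406 = n193698 := d20_1 F416318 F390716 F176088 D113056 F364987 (iv4 F341618) (iv1 F382356) (iv4 F382353) (iv3 F356096) (iv1 F377225)
def n200407 : Q := act 4 n113079
theorem D200407 : act 4 n113079 = n200407 := rfl
def n200408 : Q := act 6 n113079
theorem D200408 : act 6 n113079 = n200408 := rfl
def n200409 : Q := act 0 n113080
theorem D200409 : act 0 n113080 = n200409 := rfl
def n200410 : Q := act 1 n113080
theorem D200410 : act 1 n113080 = n200410 := rfl
theorem F416322 : act 4 n200374 = n200410 := d20_6 F79013 (iv1 D25341) D25342 D52175 D113041 D200374 (iv1 D200410) (iv4 D113080) F82517 (iv1 F79015)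
def n200411 : Q := act 3 n113083
theorem D200411 : act 3 n113083 = n200411 := rfl
theorem F416323 : act 4 n200411 = n189956 := d5_2 (iv4 F364996) D200411 F378364 F356674 F364982
theorem F416324 : act 5 n200411 = n198967 := d6_2 (iv5 F379760) D200411 F410097
theorem F416325 : act 7 n200411 = n189955 := d8_2 (iv7 F364992) D200411 F378362
theorem F416326 : act 0 n200411 = n200357 := d20_4 F82443 D112957 (iv4 F364996) D200411 (iv3 D200357) (iv4 D113021) D113019 (iv4 F399535) (iv3 F399536) (iv1 D112997)
theorem F416327 : act 6 n199873 = n200411 := d21_3 (iv5 F413719) (iv1 F413722) D199873 F416326 F416128 (iv5 F382418) (iv1 F347191) D195513 F397191 D198364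
def n200412 : Q := act 6 n113083
theorem D200412 : act 6 n113083 = n200412 := rfl
theorem F416328 : act 3 n200412 = n199873 := d7_1 D200412 F416327 (iv3 D200411)
theorem F416329 : act 4 n200412 = n200296 := d10_1 D200412 (iv6 D200296) (iv4 F364996)
theorem F416330 : act 5 n200412 = n186310 := d12_1 D200412 (iv6 D186310) (iv5 F360327) D190435 (iv5 F379760)
def n200413 : Q := act 3 n113084
theorem D200413 : act 3 n113084 = n200413 := rfl
theorem F416331 : act 2 n200413 = n190477 := d0_1 D200413 (iv3 F380893) F380892 F378362 F364991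
theorem F416332 : act 4 n200413 = n132038 := d5_2 (iv4 F364990) D200413 (iv3 F382357) F382358 (iv3 F364989)
theorem F416333 : act 7 n200413 = n190480 := d8_2 F364993 D200413 F392223
theorem F416334 : act 5 n190013 = n200413 := d13_3 F416333 (iv5 D190480) F379220
def n200414 : Q := act 5 n113084
theorem D200414 : act 5 n113084 = n200414 := rfl
theorem F416335 : act 3 n200414 = n190013 := d6_1 D200414 F416334 (iv3 D200413)
theorem F416336 : act 7 n200414 = n190478 := d13_2 F364993 D200414 (iv5 F392221)
theorem F416337 : act 0 n190394 = n200414 := d21_10 (iv5 D200414) (iv1 D113084) (iv5 F103447) (iv6 D67557) (iv1 D31385) D31387 D67562 (iv1 F305032) D95996 D190394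
theorem F416338 : act 6 n144130 = n200414 := d21_5 (iv5 D14794) D14791 D31374 D67525 D144130 (iv5 D200414) (iv1 D113084) (iv5 F103447) (iv6 D67557) (iv1 D31385)
def n200415 : Q := act 6 n113084
theorem D200415 : act 6 n113084 = n200415 := rfl
theorem F416339 : act 2 n200415 = n189972 := d3_1 D200415 F378383 F364991
theorem F416340 : act 4 n200415 = n190012 := d10_1 D200415 F378557 (iv4 F364990)
def n200416 : Q := act 0 n113086
theorem D200416 : act 0 n113086 = n200416 := rfl
theorem F416341 : act 5 n200416 = n127340 := d17_3 (iv1 F168337) D113086 D200416 (iv4 D127340) (iv5 D59799) (iv0 F168092) F40004 F49613 D67462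
theorem F416342 : act 1 n143972 = n200416 := d15_0 (iv0 D200416) (iv7 F204363) (iv2 F226623)
def n200417 : Q := act 1 n113086
theorem D200417 : act 1 n113086 = n200417 := rfl
theorem F416343 : act 1 n200417 = n143972 := d15_1 D200417 F226624 F176243
theorem F416344 : act 5 n200417 = n144002 := d17_7 F176172 (iv5 D113087) (iv1 D52196) F40063 (iv4 F82520) D113086 D200417 F226712 F226710
theorem F416345 : act 4 n200417 = n145429 := d17_9 F340482 F345303 (iv1 F340483) (iv5 F401480) F401479 (iv5 D127339) (iv0 F168322) D113086 D200417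
theorem F416346 : act 6 n145428 = n200417 := d10_0 F416345 (iv6 D145429) D145428
def n200418 : Q := act 4 n113086
theorem D200418 : act 4 n113086 = n200418 := rfl
theorem F416347 : act 3 n200418 = n193187 := d5_1 D200418 (iv4 D193187) F286540 D101773 (iv3 F365321)
theorem F416348 : act 6 n200418 = n196322 := d10_2 F396260 D200418 F400324
theorem F416349 : act 1 n200418 = n145399 := d18_6 (iv1 F175813) (iv4 F175815) (iv1 D52196) (iv4 F82520) D113086 D200418 F401269 F365021 (iv5 D116967)
def n200419 : Q := act 6 n113089
theorem D200419 : act 6 n113089 = n200419 := rfl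
theorem F416350 : act 2 n200419 = n197323 := d3_1 D200419 (iv6 D197323) F176177
theorem F416351 : act 3 n200419 = n197489 := d7_1 D200419 (iv6 D197489) (iv3 F176176)
theorem F416352 : act 0 n197336 = n200419 := d20_4 F168824 (iv1 F168825) (iv4 F171181) D197336 F416351 F404533 F317345 D138712 F221862 F168828
def n200420 : Q := act 6 n113092
theorem D200420 : act 6 n113092 = n200420 := rfl
theorem F416353 : act 3 n200420 = n113095 := d7_1 D200420 (iv6 D113095) (iv3 F176188)
theorem F416354 : act 4 n200420 = n113122 := d10_1 D200420 (iv6 D113122) (iv4 F176189)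
theorem F416355 : act 7 n200420 = n198385 := d14_2 D113092 D200420 (iv6 D198385) F169247 F99691
def n200421 : Q := act 1 n113093
theorem D200421 : act 1 n113093 = n200421 := rfl
theorem F416356 : act 1 n200421 = n195558 := d15_1 D200421 F397343 (iv2 F176192)
theorem F416357 : act 7 n200421 = n199339 := d15_2 F404256 D200421 (iv2 F411769)
theorem F416358 : act 3 n145066 = n200421 := d19_19 (iv1 D200421) (iv5 F219383) F219382 F336219 (iv1 F182824) F365024 (iv4 F415817) F415816 F330352 (iv5 D117061) (iv4 D53946) D53945 (iv1 F320135) (iv5 D31297) F24407 (iv3 F24527) D31643 D67998 D145066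
theorem F416359 : act 2 n200421 = n144120 := d0_1 F416358 F226833 (iv2 F162185) (iv3 F396786) F396785
theorem F416360 : act 5 n200421 = n144115 := d6_2 (iv5 F396783) F416358 (iv3 F396778)
theorem F416361 : act 4 n197426 = n200421 := d9_15 F416360 (iv4 D144115) D144116 (iv4 F365102) F365103 (iv4 F222799) (iv5 F404222) F404223 (iv5 D195353) F162061 D116993 (iv4 F365098) F365099 D144078 F404253
def n200422 : Q := act 7 n113093
theorem D200422 : act 7 n113093 = n200422 := rfl
theorem F416362 : act 2 n200422 = n195558 := d4_1 D200422 F397343 (iv2 F176192)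
theorem F416363 : act 5 n200422 = n136312 := d13_1 D200422 F364293 F219383
theorem F416364 : act 1 n144120 = n200422 := d15_1 (iv0 F336197) (iv7 D200422) F176192
theorem F416365 : act 1 n200422 = n199339 := d15_1 F416364 (iv7 F416357) F416359
def n200423 : Q := act 6 n113094
theorem D200423 : act 6 n113094 = n200423 := rfl
theorem F416366 : act 2 n200423 = n197275 := d3_1 D200423 (iv6 D197275) (iv2 F176193)
theorem F416367 : act 4 n200423 = n156057 := d10_1 D200423 (iv6 D156057) (iv4 F176194)
theorem F416368 : act 5 n197411 = n200423 := d16_1 (iv4 F404179) F416367 F245197 F179638 F362017 (iv4 F338965) (iv5 D143545) (iv7 F338986) F361583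
def n200424 : Q := act 5 n113095
theorem D200424 : act 5 n113095 = n200424 := rfl
theorem F416369 : act 2 n200424 = n197317 := d2_1 D200424 (iv5 D197317) (iv2 F176198)
theorem F416370 : act 6 n200424 = n197411 := d12_2 D113095 D200424 F416368 (iv6 D200423) F176195
theorem F416371 : act 7 n200424 = n198387 := d13_2 (iv7 F176200) D200424 (iv5 D198387)
theorem F416372 : act 0 n200424 = n145669 := d17_2 F176202 D200424 (iv5 F404345) (iv4 D197444) (iv5 D108160) (iv0 D49955) F38175 D49956 D108164
theorem F416373 : act 1 n200424 = n179926 := d17_6 D139599 F222745 F168293 F82533 (iv4 F176199) D200424 (iv5 F404349) F404353 F222744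
def n200425 : Q := act 6 n113100
theorem D200425 : act 6 n113100 = n200425 := rfl
theorem F416374 : act 2 n200425 = n200357 := d3_1 D200425 F416128 F382419
theorem F416375 : act 3 n200425 = n113101 := d7_1 D200425 (iv6 D113101) (iv3 F176211)
theorem F416376 : act 5 n200425 = n113121 := d12_1 D200425 (iv6 D113121) (iv5 D52210) (iv6 F82538) D113100
theorem F416377 : act 0 n200425 = n189955 := d20_4 (iv4 F340029) (iv1 F176108) F331495 (iv3 F416375) F378362 F351258 (iv1 D113057) F82503 (iv3 F175810) F331501
def n200426 : Q := act 5 n113105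
theorem D200426 : act 5 n113105 = n200426 := rfl
theorem F416378 : act 2 n200426 = n113108 := d2_1 D200426 (iv5 D113108) D113105
theorem F416379 : act 3 n200426 = n190007 := d6_1 D200426 F378548 (iv3 F355246)
theorem F416380 : act 7 n200426 = n113113 := d13_2 F176228 D200426 (iv5 D113113)
theorem F416381 : act 0 n200426 = n130544 := d17_2 (iv1 F360552) D200426 (iv5 D130544) (iv4 F167060) (iv5 F167126) (iv0 D108089) D108092 F176187 F176185
theorem F416382 : act 6 n190412 = n200426 := d21_5 (iv5 D53927) D53924 (iv5 F181606) D142481 (iv1 F379710) (iv5 D200426) F360551 (iv5 F83400) (iv6 F178448) F355185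
def n200427 : Q := act 6 n113105
theorem D200427 : act 6 n113105 = n200427 := rfl
theorem F416383 : act 2 n200427 = n113109 := d3_1 D200427 (iv6 D113109) D113105
theorem F416384 : act 3 n200427 = n194250 := d7_1 D200427 F392495 (iv3 F355246)
theorem F416385 : act 7 n200427 = n192419 := d14_2 F176228 D200427 (iv6 D192419) F154118 F355171
theorem F416386 : act 1 n113109 = n200221 := d15_0 (iv0 F415587) (iv7 F416385) F416383
theorem F416387 : act 0 n200427 = n197473 := d20_4 (iv4 F392916) (iv1 F392930) (iv4 F392494) (iv3 F416384) (iv3 D197473) F175748 F82548 (iv4 F175941) F331346 D194258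
def n200428 : Q := act 1 n113106
theorem D200428 : act 1 n113106 = n200428 := rfl
theorem F416388 : act 1 n200428 = n188014 := d15_1 D200428 (iv7 F372107) (iv2 F360560)
theorem F416389 : act 5 n200428 = n200257 := d18_9 (iv1 F415722) F379761 (iv1 D144217) F331489 F82492 (iv4 F98683) (iv0 F360557) F360559 D200428
theorem F416390 : act 3 n136510 = n200428 := d20_9 (iv4 F360559) F360557 F98683 F82365 (iv1 F39953) D49485 F78228 D64176 D136510 (iv1 D200428)
theorem F416391 : act 2 n200428 = n138934 := d0_1 F416390 (iv3 D138934) F221942 D156869 (iv2 F246878)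
theorem F416392 : act 4 n200428 = n197646 := d5_2 D136510 F416390 (iv3 D197646) (iv4 F219621) (iv3 D136509)
theorem F416393 : act 6 n200428 = n137517 := d7_2 (iv6 F326614) F416390 (iv3 D137517)
def n200429 : Q := act 5 n113106
theorem D200429 : act 5 n113106 = n200429 := rfl
theorem F416394 : act 2 n200429 = n190437 := d2_1 D200429 F379765 (iv2 F360560)
theorem F416395 : act 3 n200429 = n113108 := d6_1 D200429 (iv5 D113108) D113106
theorem F416396 : act 7 n200429 = n190434 := d13_2 F360556 D200429 F379757
theorem F416397 : act 0 n200429 = n190436 := d17_2 (iv1 D200428) D200429 (iv5 F404371) F404366 (iv5 F375324) (iv0 F415665) (iv5 D200238) F405179 (iv4 F416392)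
theorem F416398 : act 4 n200429 = n200414 := d17_4 F415723 (iv5 F416389) (iv1 D200428) D200429 (iv5 D200414) F176241 (iv5 F415707) F415711 F415712
theorem F416399 : act 1 n200429 = n176860 := d17_8 F415679 F415678 (iv1 D112997) (iv5 F95045) (iv4 F103444) D144209 F339997 D200429 (iv4 F382639)
theorem F416400 : act 6 n144154 = n200429 := d21_5 F49654 (iv1 F37949) D31377 D67534 D144154 (iv5 D200429) (iv1 F339997) (iv5 D144209) (iv6 D67555) (iv1 F49656)
theorem F416401 : act 4 n144130 = n144154 := d10_3 F416400 F416398 (iv6 F416338)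
def n200430 : Q := act 6 n113106
theorem D200430 : act 6 n113106 = n200430 := rfl
theorem F416402 : act 2 n200430 = n194349 := d3_1 D200430 F392895 (iv2 F360560)
theorem F416403 : act 3 n200430 = n113109 := d7_1 D200430 (iv6 D113109) D113106
theorem F416404 : act 7 n200430 = n194339 := d14_2 F360556 D200430 (iv6 D194339) (iv7 F372079) F372081
theorem F416405 : act 1 n194347 = n200430 := d15_1 D194347 F416404 F392873
theorem F416406 : act 1 n200430 = n194346 := d15_0 (iv0 D194346) D194349 (iv2 F416402)
def n200431 : Q := act 0 n113107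
theorem D200431 : act 0 n113107 = n200431 := rfl
theorem F416407 : act 4 n200431 = n196590 := d20_2 D113107 D200431 (iv3 D196590) (iv1 D107116) (iv3 D49485) (iv4 D24150) F18516 D12043 D25357 D52207
theorem F416408 : act 1 n113112 = n200431 := d15_0 (iv0 D200431) (iv7 F404131) F404134
theorem F416409 : act 7 n200431 = n195517 := d15_2 F404068 F416408 (iv2 F404064)
def n200432 : Q := act 6 n113107
theorem D200432 : act 6 n113107 = n200432 := rfl
theorem F416410 : act 4 n200432 = n113109 := d10_1 D200432 (iv6 D113109) D113107
def n200433 : Q := act 0 n113108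
theorem D200433 : act 0 n113108 = n200433 := rfl
theorem F416411 : act 5 n200433 = n130543 := d17_3 D52207 D113108 D200433 (iv4 F403764) F403765 F204013 (iv5 F176179) (iv0 D113089) F82523
theorem F416412 : act 2 n130544 = n200433 := d15_3 (iv0 D200433) (iv0 F245705) F210013
theorem F416413 : act 3 n200433 = n200395 := d0_2 (iv3 F209130) F416412 (iv2 F416285) (iv3 D131129) F96037
def n200434 : Q := act 4 n113108
theorem D200434 : act 4 n113108 = n200434 := rfl
theorem F416414 : act 3 n200434 = n189223 := d5_1 D200434 F379212 (iv3 F416335) (iv4 F416398) F416395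
theorem F416415 : act 6 n189218 = n200434 := d7_0 F416414 (iv6 D189223) (iv3 F376135)
def n200435 : Q := act 6 n113108
theorem D200435 : act 6 n113108 = n200435 := rfl
theorem F416416 : act 2 n200435 = n190412 := d3_1 D200435 F416382 F416378
theorem F416417 : act 3 n200435 = n144154 := d7_1 D200435 F416400 F416395
theorem F416418 : act 4 n200435 = n189218 := d10_1 D200435 F416415 (iv4 D200434)
theorem F416419 : act 0 n144173 = n200435 := d21_4 (iv5 D117009) (iv1 F85057) D67542 D144173 (iv6 D200435) (iv5 D113108) D113104 (iv5 F178457) F355184 (iv1 F182946)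
theorem F416420 : act 1 n189762 = n200435 := d15_0 (iv0 F416419) F359562 (iv2 F377660)
theorem F416421 : act 7 n200435 = n190408 := d15_2 F377662 F416420 F379694
theorem F416422 : act 0 n176914 = n144088 := d20_4 (iv4 D189762) (iv1 D94446) D94447 F291650 F226806 (iv4 F103419) D144130 F416401 (iv3 F416417) (iv1 F416420)
def n200436 : Q := act 7 n113108
theorem D200436 : act 7 n113108 = n200436 := rfl
theorem F416423 : act 2 n200436 = n113113 := d4_1 D200436 (iv7 F416380) F416378
theorem F416424 : act 3 n200436 = n190434 := d8_1 D200436 (iv7 F416396) F416395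
theorem F416425 : act 5 n200436 = n113110 := d13_1 D200436 (iv7 D113110) D113108
theorem F416426 : act 6 n200436 = n190002 := d14_1 D200436 F378524 D190408 (iv7 F416421) (iv6 D200435)
theorem F416427 : act 1 n113113 = n200433 := d15_0 (iv0 D200433) D200436 F416423
theorem F416428 : act 0 n130544 = n200436 := d17_2 (iv1 D130542) D130544 F416425 (iv4 F404132) (iv5 D197397) (iv0 F366313) (iv5 F397098) F414645 F414641
def n200437 : Q := act 0 n113109
theorem D200437 : act 0 n113109 = n200437 := rfl
theorem F416429 : act 6 n200437 = n136308 := d21_5 (iv5 F210012) F245705 (iv5 D113108) D113109 D200437 F379517 (iv1 D190339) D190340 (iv6 F379502) (iv1 D133346)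
theorem F416430 : act 2 n197473 = n200437 := d15_3 (iv0 D200437) F416386 F415586
theorem F416431 : act 3 n200437 = n194054 := d0_2 D197473 F416430 F415573 (iv3 D200219) F175747
theorem F416432 : act 0 n200437 = n192419 := d20_4 F393921 D199305 F415575 (iv3 F416431) F386694 (iv4 F392485) (iv1 F393126) (iv4 D194418) (iv3 F370070) (iv1 F415655)
def n200438 : Q := act 5 n113109
theorem D200438 : act 5 n113109 = n200438 := rfl
def n200439 : Q := act 7 n113109
theorem D200439 : act 7 n113109 = n200439 := rfl
theorem F416433 : act 2 n200439 = n192419 := d4_1 D200439 (iv7 F416385) F416383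
theorem F416434 : act 3 n200439 = n194339 := d8_1 D200439 (iv7 F416404) F416403
theorem F416435 : act 6 n200439 = n192414 := d14_1 D200439 F386678 (iv6 F355180) (iv7 D113110) D113109
theorem F416436 : act 1 n200439 = n197473 := d15_0 (iv0 F416387) F416385 (iv2 F416433)
def n200440 : Q := act 4 n113113
theorem D200440 : act 4 n113113 = n200440 := rfl
theorem F416437 : act 6 n200440 = n190003 := d10_2 (iv6 F355182) D200440 (iv4 D190003)
def n200441 : Q := act 4 n113117
theorem D200441 : act 4 n113117 = n200441 := rfl
theorem F416438 : act 2 n200441 = n113120 := d1_1 D200441 (iv4 D113120) (iv2 F176232)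
theorem F416439 : act 7 n200441 = n151703 := d11_2 F178458 D200441 F238579
theorem F416440 : act 0 n200441 = n151702 := d18_2 (iv1 F178456) D200441 F414655 (iv5 D200021) F403769 F403768 F403764 F214386 F361841
theorem F416441 : act 1 n200441 = n151701 := d18_6 F401181 (iv4 F315165) F176186 F176185 D113117 D200441 (iv4 F414652) F414653 (iv5 F401179)
theorem F416442 : act 5 n200441 = n192796 := d21_0 (iv1 D192796) F154813 (iv6 D88787) D88784 D186390 (iv5 F359554) (iv1 F179357) (iv5 F214065) F362777 (iv1 F416441)
theorem F416443 : act 3 n195997 = n200441 := d0_0 F416438 F176234 (iv2 F165928) D197033 (iv2 F411626)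
theorem F416444 : act 3 n192796 = n189549 := d6_3 (iv5 F411627) F416443 F416442
def n200442 : Q := act 6 n113117
theorem D200442 : act 6 n113117 = n200442 := rfl
theorem F416445 : act 2 n200442 = n113121 := d3_1 D200442 (iv6 D113121) (iv2 F176232)
theorem F416446 : act 3 n200442 = n189660 := d7_1 D200442 (iv6 F377290) (iv3 F176233)
theorem F416447 : act 5 n200442 = n200357 := d12_1 D200442 F416128 (iv5 F382418) F176210 D113117
def n200443 : Q := act 6 n113119
theorem D200443 : act 6 n113119 = n200443 := rfl
theorem F416448 : act 3 n200443 = n189614 := d7_1 D200443 (iv6 F379521) F379518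
theorem F416449 : act 0 n200443 = n135529 := d19_4 D88614 (iv5 F335768) D189614 (iv3 F416448) (iv5 F379152) (iv4 F379153) F326916 F122805 (iv5 D78455) (iv4 D35751) (iv3 F32114) F32116 (iv5 D17120) F12782 (iv3 D4937) (iv1 F6023) D9146 D19474 D41359
def n200444 : Q := act 1 n113120
theorem D200444 : act 1 n113120 = n200444 := rfl
theorem F416450 : act 1 n200444 = n151703 := d15_1 D200444 (iv7 F416439) F416438
theorem F416451 : act 7 n200444 = n151702 := d15_2 F355202 D200444 F355204
theorem F416452 : act 4 n200290 = n200444 := d20_6 (iv4 D49223) F37556 D25314 D52133 D112942 D200290 (iv1 D200444) (iv4 D113120) F82550 (iv1 F77744)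
theorem F416453 : act 6 n135528 = n200444 := d21_3 F217469 (iv1 F179352) (iv5 F217941) (iv1 D200444) (iv6 F392238) F392237 (iv1 F397760) (iv5 F416174) (iv6 F416180) (iv1 F217471)
theorem F416454 : act 2 n200444 = n151701 := d3_1 F416453 (iv6 F362777) F217942
def n200445 : Q := act 5 n113120
theorem D200445 : act 5 n113120 = n200445 := rfl
theorem F416455 : act 2 n200445 = n192796 := d2_1 D200445 (iv5 F416442) F416438
theorem F416456 : act 3 n200445 = n151510 := d6_1 D200445 F238378 (iv3 F176234)
theorem F416457 : act 7 n200445 = n151704 := d13_2 (iv7 F176235) D200445 (iv5 D151704)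
theorem F416458 : act 0 n200445 = n136585 := d21_1 D200445 F367396 (iv6 D186385) (iv1 F291647) (iv6 F359563) F217469 (iv1 F179352) (iv5 F217941) F416453 (iv1 D200444)
theorem F416459 : act 0 n192797 = n200445 := d19_0 (iv5 D200445) (iv4 D113120) F82550 (iv1 F77744) F77742 (iv4 D25290) F19863 F22970 (iv5 D13719) (iv4 F22965) (iv3 F22966) (iv1 F24189) F24187 D24422 D50073 D108442 (iv5 F372020) F372019 (iv3 F387814)
def n200446 : Q := act 0 n113121
theorem D200446 : act 0 n113121 = n200446 := rfl
theorem F416460 : act 4 n200446 = n120107 := d18_3 D194169 (iv4 F392240) D200446 (iv5 D120107) D120106 (iv0 F333599) F187338 D119068 (iv5 F367082)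
def n200447 : Q := act 1 n113121
theorem D200447 : act 1 n113121 = n200447 := rfl
def n200448 : Q := act 0 n113122
theorem D200448 : act 0 n113122 = n200448 := rfl
theorem F416461 : act 5 n200448 = n192132 := d17_3 F407919 F355199 D200448 F385690 F314879 (iv0 F317090) F320424 D116475 (iv4 F407918)
def n200449 : Q := act 1 n113122
theorem D200449 : act 1 n113122 = n200449 := rfl
theorem F416462 : act 5 n192131 = n200449 := d21_0 (iv1 D200449) (iv5 F355199) (iv6 D116491) (iv1 D53687) D53689 (iv5 F346742) F346746 F137114 (iv6 F153533) D192131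
def n200450 : Q := act 6 n113123
theorem D200450 : act 6 n113123 = n200450 := rfl
theorem F416463 : act 2 n200450 = n200412 := d3_1 D200450 (iv6 D200412) F364994
theorem F416464 : act 3 n200450 = n187389 := d7_1 D200450 (iv6 F379865) F392223
theorem F416465 : act 4 n200450 = n189739 := d10_1 D200450 (iv6 F377584) F364995
theorem F416466 : act 5 n200450 = n194162 := d12_1 D200450 (iv6 D194162) F377512 (iv6 F392218) (iv5 F392221)
theorem F416467 : act 0 n191177 = n200450 := d21_4 F292594 (iv1 F135862) (iv5 F293468) D191177 (iv6 D200450) F392221 F392222 F377268 (iv6 D189426) F295132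
theorem F416468 : act 7 n187422 = n200450 := d8_0 F416464 (iv7 F370126) D187422
def n200451 : Q := act 5 n113124
theorem D200451 : act 5 n113124 = n200451 := rfl
theorem F416469 : act 2 n200451 = n200414 := d2_1 D200451 (iv5 D200414) (iv2 F364991)
theorem F416470 : act 4 n200451 = n190437 := d9_1 D200451 F379765 (iv4 D134849) D134850 (iv4 F416207) (iv5 D200379) F364995 F392221 (iv4 F392220) F379757 (iv4 D134854) D134855 (iv4 F416215) (iv5 D200380) (iv4 F351258)
theorem F416471 : act 7 n200451 = n190435 := d13_2 F364992 D200451 (iv5 F379760)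
theorem F416472 : act 1 n200451 = n189651 := d17_8 (iv1 F415641) (iv5 D112880) D112876 (iv5 F176106) F331495 F176214 D113124 D200451 F377263
def n200452 : Q := act 0 n113126
theorem D200452 : act 0 n113126 = n200452 := rfl
theorem F416473 : act 5 n200452 = n144068 := d17_3 (iv1 F168290) D113126 D200452 F226778 F103385 (iv0 D52108) F39954 F168095 D105743
theorem F416474 : act 4 n200452 = n141865 := d18_1 D200452 (iv1 F345306) F345302 (iv5 D116967) F85008 F82368 D112900 (iv0 F175821) D113126
theorem F416475 : act 1 n127108 = n200452 := d15_0 (iv0 D200452) (iv7 F226624) F226623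
theorem F416476 : act 7 n200417 = n200452 := d11_0 F416474 F345309 (iv4 F416345)
theorem F416477 : act 2 n200452 = n200416 := d15_3 (iv0 D200416) D200417 F416476
theorem F416478 : act 3 n194605 = n200452 := d6_3 F416473 F406830 D194605
def n200453 : Q := act 1 n113126
theorem D200453 : act 1 n113126 = n200453 := rfl
theorem F416479 : act 1 n200453 = n127108 := d15_1 D200453 F204363 (iv2 F176243)
theorem F416480 : act 7 n200453 = n200416 := d15_2 (iv0 D200452) D200453 (iv2 F416477)
theorem F416481 : act 5 n200453 = n144257 := d17_7 F202881 (iv5 D113128) (iv1 D52215) F40086 (iv4 F82554) D113126 D200453 (iv0 D144257) (iv4 F202878)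
theorem F416482 : act 4 n200453 = n141866 := d17_9 (iv1 D141866) D141867 (iv1 F345308) F398665 (iv4 D193542) (iv5 F357176) (iv0 F175821) D113126 D200453
theorem F416483 : act 6 n196991 = n200453 := d21_3 D196982 (iv1 F402544) (iv5 F402585) (iv1 D200453) (iv6 F178449) (iv5 D114418) (iv1 F176136) (iv5 F339983) F402535 (iv1 D196981)
theorem F416484 : act 2 n200453 = n200417 := d3_1 F416483 (iv6 F416346) (iv2 F402583)
theorem F416485 : act 3 n200448 = n200453 := d20_5 (iv4 F168374) (iv1 D52215) (iv4 F82554) (iv3 F176237) D200448 F416482 (iv1 D141866) (iv4 F103316) F103315 D67457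
def n200454 : Q := act 4 n113126
theorem D200454 : act 4 n113126 = n200454 := rfl
theorem F416486 : act 2 n200454 = n200418 := d1_1 D200454 (iv4 D200418) (iv2 F176243)
theorem F416487 : act 3 n200454 = n116133 := d5_1 D200454 F180928 (iv3 F180922) (iv4 F181805) (iv3 F355200)
theorem F416488 : act 6 n200454 = n116131 := d10_2 F178449 D200454 (iv4 F339993)
theorem F416489 : act 1 n200454 = n196634 := d18_6 D67457 (iv4 F168374) (iv1 D52215) (iv4 F82554) D113126 D200454 F401271 (iv0 D143996) (iv5 D67459)
def n200455 : Q := act 4 n113127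
theorem D200455 : act 4 n113127 = n200455 := rfl
theorem F416490 : act 2 n200455 = n138262 := d1_1 D200455 (iv4 D138262) (iv2 F176244)
theorem F416491 : act 6 n200455 = n116984 := d10_2 F176371 D200455 F182875
theorem F416492 : act 7 n200455 = n144294 := d11_2 (iv7 F176245) D200455 F226991
theorem F416493 : act 5 n200455 = n143997 := d16_7 (iv4 F401271) (iv5 F401272) F389198 (iv5 D143995) (iv4 F168205) D113127 D200455 (iv7 F365018) (iv2 F365019)
theorem F416494 : act 0 n200455 = n144034 := d17_0 (iv5 F393837) F393838 (iv5 D138260) (iv4 D64945) D64946 (iv0 F175832) (iv5 F202879) (iv0 F202882) D200455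
theorem F416495 : act 1 n200455 = n130588 := d18_6 (iv1 F49613) (iv4 F82445) (iv1 F103318) (iv4 F168205) D113127 D200455 F209159 (iv0 F103483) (iv5 D67463)
theorem F416496 : act 3 n200455 = n194393 := d19_3 D52214 D113127 D200455 (iv1 D194393) (iv5 F159273) (iv4 F393818) F393817 (iv1 F405624) F405626 F172870 F101606 (iv1 F82239) (iv5 F162211) (iv4 F397051) F397050 (iv1 F416373) (iv5 D200424) F176199 F82532
theorem E103806 : n194393 = n193511 := (c0_1 F416496 (iv2 D193511) (iv3 D101846) (iv2 F156404) (iv3 F357415) (iv2 F416490))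
theorem F416497 : act 0 n193511 = n103295 := (sb E103806 (iv1 D194393))
theorem F416498 : act 3 n193511 = n200455 := (sb E103806 (iv3 F416496))
def n200456 : Q := act 4 n113131
theorem D200456 : act 4 n113131 = n200456 := rfl
theorem F416499 : act 2 n200456 = n128361 := d1_1 D200456 F206483 (iv2 F320629)
theorem F416500 : act 6 n200456 = n128390 := d10_2 (iv6 F320631) D200456 F206508
theorem F416501 : act 7 n200456 = n125500 := d11_2 (iv7 F320632) D200456 F366485
theorem F416502 : act 5 n200456 = n197783 := d16_1 D200456 F405784 F395313 F355120 F355118 F236565 (iv5 F130684) F130685 (iv2 F320629)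
theorem F416503 : act 0 n200456 = n179254 := d18_2 F345560 D200456 (iv4 D179254) D179255 (iv4 F350628) (iv0 D175978) F128959 D83975 D175990
theorem F416504 : act 3 n200456 = n125504 := d20_3 F398589 F345560 D200456 F219724 F92849 (iv4 F171646) (iv1 F246456) (iv4 F398594) (iv3 D195883) D195881
def n200457 : Q := act 5 n113131
theorem D200457 : act 5 n113131 = n200457 := rfl
theorem F416505 : act 2 n200457 = n128484 := d2_1 D200457 (iv5 D128484) (iv2 F320629)
theorem F416506 : act 3 n200457 = n181800 := d6_1 D200457 (iv5 D181800) (iv3 F320630)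
theorem F416507 : act 6 n200457 = n114822 := d12_2 (iv6 F320631) D200457 F353789 (iv6 F347643) (iv5 D128510)
theorem F416508 : act 7 n200457 = n150321 := d13_2 (iv7 F320632) D200457 (iv5 F279063)
theorem F416509 : act 0 n200457 = n150320 := d17_2 F345560 D200457 (iv5 F345572) F209073 (iv5 F227054) (iv0 F398629) (iv5 D195890) F398592 F398589
theorem F416510 : act 1 n200457 = n150319 := d17_8 F396398 F367181 (iv1 D102938) (iv5 F293283) F324718 (iv5 F342695) D113131 D200457 (iv4 F396397)
def n200458 : Q := act 0 n113135
theorem D200458 : act 0 n113135 = n200458 := rfl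
theorem F416511 : act 5 n200458 = n164289 := d17_1 D200458 (iv1 F374894) F374892 F258907 F319018 (iv0 F319015) D164337 (iv0 F346154) F214667
theorem F416512 : act 4 n200458 = n114711 := d18_1 D200458 F383063 F383058 (iv5 D135326) (iv4 F337840) (iv0 F337829) (iv4 F213537) (iv0 F338462) (iv5 F176266)
theorem F416513 : act 1 n197619 = n200458 := d15_0 (iv0 D200458) (iv7 F375144) (iv2 F405043)
theorem F416514 : act 7 n197618 = n200458 := d11_0 F416512 F325989 (iv4 F405040)
theorem F416515 : act 2 n200458 = n197617 := d15_3 (iv0 D197617) D197618 F416514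
def n200459 : Q := act 1 n113135
theorem D200459 : act 1 n113135 = n200459 := rfl
theorem F416516 : act 1 n200459 = n197619 := d15_1 D200459 (iv7 D197619) (iv2 F176265)
theorem F416517 : act 7 n200459 = n197617 := d15_2 (iv0 D200458) D200459 (iv2 F416515)
theorem F416518 : act 5 n200459 = n164290 := d17_7 (iv1 F242746) (iv5 F242747) F388459 F388457 F218746 (iv5 F176266) D200459 F374895 F374891
theorem F416519 : act 4 n200459 = n114716 := d17_9 F363906 (iv5 F338537) F233173 (iv5 F338602) F338601 F338581 (iv0 F338462) (iv5 F176266) D200459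
theorem F416520 : act 6 n151621 = n200459 := d21_3 F403158 F205312 F346402 (iv1 D200459) (iv6 D113135) (iv5 D52217) F45710 D49744 D107676 D197126
theorem F416521 : act 2 n200459 = n197618 := d3_1 F416520 (iv6 F405041) (iv2 F346403)
def n200460 : Q := act 5 n113137
theorem D200460 : act 5 n113137 = n200460 := rfl
theorem F416522 : act 2 n200460 = n147674 := d2_1 D200460 (iv5 F346277) (iv2 F176272)
theorem F416523 : act 3 n200460 = n124481 := d6_1 D200460 (iv5 F402009) F402007
theorem F416524 : act 6 n200460 = n194957 := d12_2 D113137 D200460 F395179 F335996 F176269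
theorem F416525 : act 7 n200460 = n124487 := d13_2 (iv7 F176274) D200460 F336030
theorem F416526 : act 4 n200460 = n180642 := d16_2 (iv4 F176273) D200460 F362313 (iv4 F351044) F351045 F93940 F48643 (iv7 F79318) (iv2 F82566)
theorem F416527 : act 0 n200460 = n147664 := d17_2 (iv1 F176276) D200460 (iv5 F349865) F227096 F103659 (iv0 D49773) F38036 D49774 D107755
theorem F416528 : act 1 n200460 = n147676 := d17_6 F219831 (iv5 D136699) (iv1 F100042) F82568 (iv4 F176273) D200460 (iv5 F403269) F403273 F219982
def n200461 : Q := act 6 n113138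
theorem D200461 : act 6 n113138 = n200461 := rfl
theorem F416529 : act 3 n200461 = n158801 := d7_1 D200461 (iv6 F390372) F390371
theorem F416530 : act 4 n200461 = n174231 := d10_1 D200461 (iv6 F408649) F408648
theorem F416531 : act 5 n200461 = n158792 := d12_1 D200461 F298789 (iv5 F339823) D193587 F390368
theorem F416532 : act 0 n200461 = n173213 := d21_4 D112749 F390369 F390368 D200461 (iv6 F345769) F253648 (iv1 D86279) D86281 (iv6 F344697) (iv1 D112747)
theorem F416533 : act 0 n126327 = n200461 := d21_4 F344689 (iv1 F264188) F242270 (iv6 F344714) (iv6 D200461) (iv5 F390368) F390367 F347145 F328793 (iv1 F344688)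
theorem F416534 : act 7 n200461 = n158791 := d15_2 (iv0 F364967) (iv0 F416532) F364964
def n200462 : Q := act 6 n113139
theorem D200462 : act 6 n113139 = n200462 := rfl
theorem F416535 : act 3 n200462 = n126947 := d7_1 D200462 F204200 (iv3 F355461)
theorem F416536 : act 4 n200462 = n165766 := d10_1 D200462 F408580 F408578
theorem F416537 : act 5 n200462 = n126938 := d12_1 D200462 (iv6 D126938) (iv5 D59574) D59575 (iv5 F355462)
theorem F416538 : act 0 n200462 = n194840 := d21_4 (iv5 F347145) (iv1 D126940) (iv5 F355462) D200462 (iv6 D194840) (iv5 F368155) (iv1 F369432) F369430 (iv6 F344701) (iv1 F175528)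
def n200463 : Q := act 4 n113140
theorem D200463 : act 4 n113140 = n200463 := rfl
theorem F416539 : act 2 n200463 = n125553 := d1_1 D200463 F202629 F351026
theorem F416540 : act 6 n200463 = n177612 := d10_2 (iv6 F363877) D200463 F277078
theorem F416541 : act 7 n200463 = n180673 := d11_2 (iv7 F330678) D200463 F281208
theorem F416542 : act 1 n200463 = n125800 := d18_6 (iv1 F343318) F343320 D151422 F334762 F232038 D200463 F353848 (iv0 D125404) (iv5 F130074)
def n200464 : Q := act 3 n113141
theorem D200464 : act 3 n113141 = n200464 := rfl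
theorem F416543 : act 2 n200464 = n159302 := d0_1 D200464 F250779 F254280 (iv3 F132263) (iv2 F330675)
theorem F416544 : act 5 n200464 = n150244 := d6_2 (iv5 F232043) D200464 (iv3 F347993)
theorem F416545 : act 6 n200464 = n159300 := d7_2 (iv6 F330676) D200464 F254314
theorem F416546 : act 4 n166598 = n200464 := d10_3 F416545 F254299 D166598
theorem F416547 : act 5 n183144 = n135727 := d16_5 F416546 F416544 F347996 F359696 (iv4 F284750) (iv4 F401536) F401537 F395674 F353614
theorem F416548 : act 0 n126377 = n166598 := d18_2 F320733 (iv4 F320735) F416546 F416544 F347996 (iv0 F316670) (iv4 D147595) F202964 (iv5 D126203)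
theorem F416549 : act 0 n200464 = n113382 := d20_1 F416546 (iv4 D113382) D113381 F244987 (iv3 D110138) (iv4 D50793) F322499 (iv4 F322497) D126377 F416548
theorem F416550 : act 0 n166598 = n113443 := d20_7 (iv4 F94410) (iv1 F173480) F173477 (iv3 F202631) (iv1 F202636) D200464 (iv4 F416546) F202958 (iv3 F202960) (iv1 D69093)
theorem F416551 : act 0 n113387 = n200464 := d18_0 (iv4 F416546) F416550 F202958 (iv5 F227723) (iv4 F230276) (iv0 F362988) F275807 D176494 (iv5 F359773)
theorem F416552 : act 1 n126377 = n195075 := d15_1 (iv0 F416548) F395674 F353614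
theorem F416553 : act 1 n195075 = n113443 := d15_1 F416552 (iv7 F231448) F231446
theorem F416554 : act 3 n135728 = n183144 := d6_3 F416547 (iv3 D135727) D135728
theorem F416555 : act 6 n183143 = n135728 := d7_0 F416554 (iv6 D183144) D183143
theorem F416556 : act 4 n114340 = n183146 := d20_6 (iv4 F363772) (iv1 F410372) F410370 F354427 (iv1 D114344) (iv3 F178312) (iv1 D183146) (iv4 F284750) (iv3 F416554) (iv1 F363769)
theorem F416557 : act 6 n183146 = n114339 := d10_2 D114340 F416556 (iv4 D114339)
theorem F416558 : act 6 n135790 = n183133 := d12_4 F416555 (iv5 D135728) (iv6 F214595) (iv5 F218379) (iv5 F284749)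
theorem F416559 : act 3 n183134 = n135790 := d7_3 F416558 (iv3 D183133) D183134
def n200465 : Q := act 4 n113141
theorem D200465 : act 4 n113141 = n200465 := rfl
theorem F416560 : act 2 n200465 = n180673 := d1_1 D200465 F281208 (iv2 F330675)
theorem F416561 : act 6 n200465 = n180669 := d10_2 (iv6 F330676) D200465 (iv4 D180669)
theorem F416562 : act 7 n200465 = n125553 := d11_2 F351028 D200465 F202629
theorem F416563 : act 0 n200465 = n125800 := d18_2 (iv1 F202636) D200465 F353848 F353633 D175936 F353839 F129198 F343354 (iv5 F202633)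
theorem F416564 : act 3 n200465 = n125557 := d20_3 (iv4 F202632) (iv1 F202636) D200465 F342907 F92932 F45275 F169958 D59045 F169959 D113217
def n200466 : Q := act 5 n113143
theorem D200466 : act 5 n113143 = n200466 := rfl
theorem F416565 : act 2 n200466 = n126688 := d2_1 D200466 (iv5 D126688) (iv2 F176280)
theorem F416566 : act 6 n200466 = n115678 := d12_2 D113143 D200466 (iv5 D115678) (iv6 D53347) (iv5 F82575)
theorem F416567 : act 7 n200466 = n140260 := d13_2 F176284 D200466 (iv5 D140260)
theorem F416568 : act 0 n200466 = n137031 := d17_2 F176282 D200466 (iv5 D137031) (iv4 D64413) (iv5 F84067) (iv0 D53229) (iv5 D25811) D25810 D53227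
theorem F416569 : act 1 n200466 = n137034 := d17_6 (iv1 F175914) F165795 F165799 F98679 (iv4 F176281) D200466 (iv5 D137034) F111510 (iv4 F175911)
def n200467 : Q := act 5 n113145
theorem D200467 : act 5 n113145 = n200467 := rfl
theorem F416570 : act 2 n200467 = n180476 := d2_1 D200467 (iv5 D180476) (iv2 F324601)
theorem F416571 : act 7 n200467 = n194699 := d13_2 (iv7 F324603) D200467 F394147
theorem F416572 : act 0 n200467 = n197064 := d21_1 D200467 (iv5 D197064) F341933 (iv1 D121797) (iv6 F299594) D79789 F338188 F330051 (iv6 F341861) (iv1 F324600)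
theorem F416573 : act 4 n194702 = n200467 := d11_3 F416571 F394146 D194702
def n200468 : Q := act 1 n113147
theorem D200468 : act 1 n113147 = n200468 := rfl
theorem F416574 : act 1 n200468 = n147783 := d15_1 D200468 (iv7 F363242) (iv2 F336628)
theorem F416575 : act 3 n178938 = n200468 := d19_19 (iv1 D200468) (iv5 D113147) (iv4 F92952) (iv3 D58798) (iv1 F45214) D58804 F92968 (iv3 F169387) F202360 F202359 F324004 F70026 F254940 (iv5 F322511) F81761 D112241 D200009 F414600 F366161
theorem F416576 : act 5 n113154 = n200468 := d21_0 (iv1 D200468) (iv5 D113147) F328216 (iv1 D55885) F297047 F324074 D132371 F338375 D165726 (iv1 F360214)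
theorem F416577 : act 6 n124964 = n200468 := d21_3 D107691 F336345 F278847 (iv1 D200468) (iv6 F336627) (iv5 D160993) (iv1 F336339) D78384 (iv6 F313852) F321287
theorem F416578 : act 2 n200468 = n124965 := d3_1 F416577 (iv6 D124965) D124964
theorem E103807 : n125897 = n125802 := (c17_7 (iv1 F360214) F416576 (iv1 D200468) (iv5 D113147) (iv4 F92952) (iv5 F93155) D125897 (iv5 D125802) F176382 F360213)
theorem F416579 : act 0 n125802 = n58950 := (sb E103807 (iv1 D125897))
def n200469 : Q := act 4 n113147
theorem D200469 : act 4 n113147 = n200469 := rfl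
theorem F416580 : act 2 n200469 = n182525 := d1_1 D200469 (iv4 F360195) (iv2 F336628)
theorem F416581 : act 3 n200469 = n115683 := d5_1 D200469 (iv4 D115683) (iv3 D53348) (iv4 F82580) (iv3 F176292)
theorem F416582 : act 6 n200469 = n184685 := d10_2 F336627 D200469 F388856
theorem F416583 : act 7 n200469 = n154528 := d11_2 F402912 D200469 F402914
theorem F416584 : act 0 n200469 = n154294 := d17_0 (iv5 F389044) F389046 (iv5 D189184) F360197 F338382 F360215 D200037 (iv0 F414723) D200469
theorem F416585 : act 5 n182326 = n200469 := d19_1 (iv1 F283858) (iv4 D200469) F176292 F82581 (iv5 D50884) (iv4 D24747) (iv3 F38729) (iv1 F38731) (iv5 F24601) F24600 F23819 (iv1 F18330) D11352 D24168 D49513 D107168 (iv5 F350006) (iv4 F352437) F284012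
def n200470 : Q := act 0 n113149
theorem D200470 : act 0 n113149 = n200470 := rfl
theorem F416586 : act 4 n200470 = n198878 := d18_1 D200470 (iv1 F409718) (iv4 F409516) F409517 F323598 (iv0 F344883) D174108 (iv0 F359604) F336630
theorem F416587 : act 2 n177658 = n200470 := d1_3 F416586 (iv2 F409715) (iv4 F409581)
theorem F416588 : act 6 n200470 = n119503 := d3_2 (iv6 F363849) F416587 (iv2 F240160)
def n200471 : Q := act 1 n113149
theorem D200471 : act 1 n113149 = n200471 := rfl
theorem F416589 : act 7 n200471 = n177658 := d15_2 (iv0 D200470) D200471 F416587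
theorem F416590 : act 4 n200471 = n198879 := d18_7 F351566 (iv4 F351465) F404601 F404599 F359985 (iv4 F176294) D200471 F409711 F351565
theorem F416591 : act 3 n177654 = n200471 := d5_5 F416590 (iv3 F409713) (iv4 D160331) (iv3 F324286) (iv4 F342326)
def n200472 : Q := act 7 n113149
theorem D200472 : act 7 n113149 = n200472 := rfl
theorem F416592 : act 3 n200472 = n147385 := d8_1 D200472 (iv7 F336619) (iv3 F336629)
theorem F416593 : act 4 n200472 = n115688 := d11_1 D200472 (iv7 D115688) (iv4 F176294)
theorem F416594 : act 5 n200472 = n147376 := d13_1 D200472 F359276 F336630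
theorem F416595 : act 6 n200472 = n147379 := d14_1 D200472 (iv7 F402920) (iv6 D197072) F165991 D113149
theorem F416596 : act 0 n177658 = n200472 := d21_1 F363850 F416594 (iv6 D147376) (iv1 F352285) (iv6 D131511) (iv5 D61717) (iv1 F79184) (iv5 F96327) D131551 F366646
def n200473 : Q := act 5 n113155
theorem D200473 : act 5 n113155 = n200473 := rfl
theorem F416597 : act 2 n200473 = n113156 := d2_1 D200473 (iv5 D113156) D113155
theorem F416598 : act 3 n200473 = n126643 := d6_1 D200473 (iv5 F402869) F402867
theorem F416599 : act 6 n200473 = n126895 := d12_2 (iv6 F360211) D200473 (iv5 F353100) F311949 F311611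
theorem F416600 : act 7 n200473 = n126640 := d13_2 F360212 D200473 F338382
theorem F416601 : act 4 n200473 = n141286 := d16_2 (iv4 F176308) D200473 (iv5 F365358) F216836 D195957 F398850 (iv5 D113210) F82627 D58914
theorem F416602 : act 0 n200473 = n200467 := d21_1 D200473 (iv5 D200467) F354039 (iv1 F354042) (iv6 D113292) D113291 (iv1 F360210) (iv5 F350802) (iv6 F323947) (iv1 F176309)
theorem F416603 : act 0 n120044 = n200473 := d21_1 (iv5 F318577) (iv5 D200473) F360211 F319345 (iv6 D79984) (iv5 F57241) (iv1 F57245) (iv5 F254065) (iv6 F328216) F323180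
def n200474 : Q := act 3 n113165
theorem D200474 : act 3 n113165 = n200474 := rfl
theorem F416604 : act 2 n200474 = n125796 := d0_1 D200474 (iv3 F387408) F387407 F352288 (iv2 F361326)
theorem F416605 : act 6 n200474 = n149040 := d7_2 (iv6 F361327) D200474 F234365
theorem F416606 : act 7 n200474 = n125801 := d8_2 (iv7 F361328) D200474 (iv3 F202671)
theorem F416607 : act 4 n200474 = n113208 := d20_6 (iv4 D24240) (iv1 F22323) (iv4 F40120) D52237 D113165 D200474 (iv1 D113208) (iv4 F165974) (iv3 D107581) (iv1 D49701)
def n200475 : Q := act 4 n113165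
theorem D200475 : act 4 n113165 = n200475 := rfl
theorem F416608 : act 2 n200475 = n131511 := d1_1 D200475 F352286 (iv2 F361326)
theorem F416609 : act 6 n200475 = n131430 := d10_2 (iv6 F361327) D200475 F210661
theorem F416610 : act 7 n200475 = n147374 := d11_2 (iv7 F361328) D200475 (iv4 F231093)
theorem F416611 : act 5 n200475 = n147137 := d17_5 (iv1 D110353) D110355 D198836 F409486 D200475 (iv0 F354810) (iv5 F354806) F354858 (iv4 F350840)
theorem F416612 : act 0 n200475 = n127619 := d17_0 F205186 D147049 F354823 (iv4 D163842) (iv5 F353032) F359357 F320642 (iv0 F324590) D200475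
theorem F416613 : act 3 n200475 = n177677 := d20_3 F93176 D113165 D200475 (iv1 F319464) (iv3 F321442) (iv4 F280915) F359055 (iv4 F359054) (iv3 D180599) F323158
theorem F416614 : act 0 n147371 = n200475 := d20_10 (iv4 D200475) F324590 F132220 F60739 (iv1 F88510) D86237 (iv4 F324000) F180031 F180030 (iv3 F231088)
def n200476 : Q := act 4 n113167
theorem D200476 : act 4 n113167 = n200476 := rfl
theorem F416615 : act 3 n200476 = n115506 := d5_1 D200476 (iv4 D115506) F84124 (iv4 F82595) (iv3 F176327)
theorem F416616 : act 5 n200476 = n196789 := d9_2 D113167 D200476 (iv4 F401805) (iv5 F391510) (iv4 D180610) (iv5 D86266) (iv4 F132220) (iv5 F320642) (iv4 F223443) (iv5 F401801) F401798 (iv5 F408965) F408964 F169908 F93176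
theorem F416617 : act 7 n200476 = n134735 := d11_2 F202675 D200476 (iv4 F350842)
theorem F416618 : act 0 n196294 = n200476 := d20_7 F80321 F49188 (iv4 F79702) F330505 D59525 D126854 (iv4 F400258) (iv4 D200476) F176327 F82596
def n200477 : Q := act 0 n113169
theorem D200477 : act 0 n113169 = n200477 := rfl
theorem F416619 : act 6 n200477 = n155881 := d21_5 (iv5 D25376) D25374 D52238 D113169 D200477 F415442 (iv1 D200182) (iv5 D112768) (iv6 D52049) (iv1 F40123)
theorem F416620 : act 5 n200477 = n119301 := d21_0 (iv1 F187790) D119313 F320679 F351337 (iv6 D52246) (iv5 D25376) D25374 D52238 D113169 D200477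
theorem F416621 : act 2 n119558 = n200477 := d15_3 (iv0 D200477) F359935 (iv7 F188544)
theorem F416622 : act 7 n200477 = n119335 := d4_2 (iv7 F188544) F416621 F187922
theorem F416623 : act 3 n174387 = n200477 := d8_3 F416622 F187923 D174387
theorem F416624 : act 1 n126324 = n200477 := d15_1 (iv0 F326826) F416622 F187922
theorem F416625 : act 4 n200477 = n115596 := d5_2 F391485 F416623 (iv3 F391490) (iv4 D193948) D193947
def n200478 : Q := act 5 n113169
theorem D200478 : act 5 n113169 = n200478 := rfl
theorem F416626 : act 2 n200478 = n117661 := d2_1 D200478 F316279 (iv2 F176329)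
theorem F416627 : act 3 n200478 = n172502 := d6_1 D200478 (iv5 F383152) F383153
theorem F416628 : act 6 n200478 = n113170 := d12_2 D113169 D200478 (iv5 D113170) (iv6 D52239) D52238
theorem F416629 : act 4 n200478 = n117520 := d17_4 F184665 D84898 (iv1 F359935) D200478 (iv5 D117520) (iv0 D54149) F41602 D26558 D54907
theorem F416630 : act 0 n200478 = n132475 := d21_1 D200478 F317292 (iv6 F353040) F357004 F326220 (iv5 D77748) F316557 D161685 F255694 (iv1 F359935)
theorem F416631 : act 0 n119233 = n200478 := d21_10 (iv5 D200478) D200477 F416620 (iv6 F187793) F131854 D85032 (iv5 F321017) (iv1 F322771) (iv5 D119232) D119233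
theorem F416632 : act 0 n148855 = n118232 := d18_0 (iv4 F187667) F416631 F416629 (iv5 D117520) D117519 F227960 F227957 (iv0 F233836) (iv5 F233873)
theorem F416633 : act 7 n200478 = n117666 := d15_2 D132475 (iv0 F416630) F316284
def n200479 : Q := act 7 n113169
theorem D200479 : act 7 n113169 = n200479 := rfl
theorem F416634 : act 2 n200479 = n126324 := d4_1 D200479 (iv7 D126324) (iv2 F176329)
theorem F416635 : act 4 n200479 = n115515 := d11_1 D200479 (iv7 D115515) (iv4 F176330)
theorem F416636 : act 5 n200479 = n117666 := d13_1 D200479 (iv7 F416633) (iv5 D200478)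
theorem F416637 : act 6 n200479 = n126991 := d14_1 D200479 (iv7 F350847) (iv6 D125997) F93209 D113169
theorem F416638 : act 1 n119335 = n200479 := d15_1 (iv0 F366627) (iv7 D200479) F176329
theorem F416639 : act 1 n200479 = n119558 := d15_1 F416638 F188544 (iv2 F187922)
def n200480 : Q := act 3 n113173
theorem D200480 : act 3 n113173 = n200480 := rfl
theorem F416640 : act 4 n200480 = n195688 := d5_2 (iv4 F381047) D200480 (iv3 D195688) (iv4 D106209) D106208
theorem F416641 : act 5 n200480 = n189179 := d6_2 F415389 D200480 F415396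
theorem F416642 : act 6 n200480 = n150251 := d7_2 (iv6 F381048) D200480 F345738
theorem F416643 : act 7 n200480 = n113179 := d8_2 F176341 D200480 (iv3 D113179)
theorem F416644 : act 0 n200480 = n125796 := d20_4 (iv4 F397863) (iv1 D195687) (iv4 F381047) D200480 (iv3 F387408) F387409 (iv1 F409277) F409274 F175403 (iv1 F176671)
theorem F416645 : act 1 n200480 = n125801 := d15_1 (iv0 F416644) (iv7 F416606) F416604
def n200481 : Q := act 5 n113174
theorem D200481 : act 5 n113174 = n200481 := rfl
theorem F416646 : act 3 n200481 = n113176 := d6_1 D200481 (iv5 D113176) D113174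
theorem F416647 : act 7 n200481 = n126662 := d13_2 F409070 D200481 (iv5 F409071)
theorem F416648 : act 4 n200481 = n142737 := d16_2 (iv4 F176342) D200481 (iv5 D142737) (iv4 D66914) D66915 D142739 (iv5 F225648) (iv7 F225652) F225653
theorem F416649 : act 0 n200481 = n198874 := d17_2 F407089 D200481 (iv5 D198874) F170787 F182588 F319625 D190321 F379383 (iv4 F407086)
theorem F416650 : act 1 n200481 = n126863 := d17_6 (iv1 F173626) F169498 (iv1 F225889) F225888 (iv4 F176342) D200481 (iv5 F346327) F351014 (iv4 F351016)
def n200482 : Q := act 0 n113175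
theorem D200482 : act 0 n113175 = n200482 := rfl
theorem F416651 : act 5 n200482 = n191666 := d17_1 D200482 F397679 (iv5 F402667) F402668 (iv5 F352468) (iv0 F386503) F386501 (iv0 D113172) D113175
theorem F416652 : act 4 n200482 = n198161 := d20_2 D113175 D200482 (iv3 D198161) (iv1 D108972) (iv3 D50316) (iv4 D24540) F38138 D12057 D25375 D52240
theorem F416653 : act 2 n113386 = n200482 := d15_3 (iv0 D200482) (iv0 F353618) (iv7 F352266)
theorem F416654 : act 3 n200482 = n197766 := d0_2 D113386 F416653 F405687 (iv3 F169079) (iv2 F352262)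
theorem F416655 : act 6 n200482 = n128839 := d3_2 F342144 F416653 (iv2 F333044)
theorem F416656 : act 7 n200482 = n195687 := d4_2 (iv7 F352266) F416653 F397862
theorem F416657 : act 1 n113180 = n200482 := d15_1 F381055 F416656 F397862
def n200483 : Q := act 3 n113175
theorem D200483 : act 3 n113175 = n200483 := rfl
theorem F416658 : act 2 n200483 = n195684 := d0_1 D200483 (iv3 D195684) (iv2 D106207) D106208 F381054
theorem F416659 : act 4 n200483 = n189828 := d5_2 D113175 D200483 F377903 (iv4 F176342) (iv3 D113174)
theorem F416660 : act 0 n200483 = n113333 := d20_4 (iv4 F40122) D52240 D113175 D200483 (iv3 D113333) D113334 F176537 F173423 (iv3 D52388) (iv1 D25430)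
theorem F416661 : act 0 n195694 = n200483 := d20_4 D105252 (iv1 F395694) F395695 (iv3 F397880) (iv3 D200483) (iv4 D113175) D113172 F176338 (iv3 F161197) (iv1 F161200)
theorem F416662 : act 3 n113454 = n200046 := d20_3 (iv4 F416659) F416660 F176639 (iv1 D200046) (iv3 D112487) (iv4 D51897) D51894 F81931 D109879 (iv1 F377904)
theorem F416663 : act 6 n125739 = n200483 := d21_3 (iv5 D196992) (iv1 F165881) D125739 F416660 (iv6 F354371) (iv5 D128774) (iv1 D60563) D60565 (iv6 F364836) (iv1 F402592)
theorem F416664 : act 7 n200483 = n195695 := d15_2 (iv0 F377902) (iv0 F416660) (iv2 D195695)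
def n200484 : Q := act 5 n113175
theorem D200484 : act 5 n113175 = n200484 := rfl
theorem F416665 : act 2 n200484 = n191542 := d2_1 D200484 F383727 F381054
theorem F416666 : act 4 n200484 = n186692 := d16_2 D113175 D200484 F367696 (iv4 F386612) F386613 (iv4 F392267) (iv5 D113181) F176341 (iv2 D113173)
theorem F416667 : act 6 n200484 = n186691 := d21_9 (iv5 D124618) D124615 F352205 D191560 F383810 (iv6 F384092) F384088 F353618 D200484 F367694
def n200485 : Q := act 6 n113175
theorem D200485 : act 6 n113175 = n200485 := rfl
theorem F416668 : act 2 n200485 = n177442 := d3_1 D200485 F355889 F381054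
theorem F416669 : act 3 n200485 = n125739 := d7_1 D200485 F416663 (iv3 D200483)
theorem F416670 : act 4 n200485 = n113177 := d10_1 D200485 (iv6 D113177) D113175
theorem F416671 : act 5 n200485 = n125738 := d12_1 D200485 (iv6 F389607) F389603 (iv6 F416667) (iv5 D200484)
theorem F416672 : act 7 n177446 = n200485 := d13_0 F416671 F341720 D177446
theorem F416673 : act 0 n174830 = n200485 := d17_0 F416671 F341716 (iv5 F276871) (iv4 F342117) (iv5 F347440) F347436 F342109 F334673 D174830
theorem F416674 : act 1 n174817 = n200485 := d17_6 (iv1 F334653) D177603 F346575 (iv5 F333804) (iv4 F276715) (iv5 F346595) F416671 F341717 F129709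
def n200486 : Q := act 7 n113175
theorem D200486 : act 7 n113175 = n200486 := rfl
theorem F416675 : act 2 n200486 = n113180 := d4_1 D200486 F381044 F381054
theorem F416676 : act 3 n200486 = n195695 := d8_1 D200486 (iv7 F416664) (iv3 D200483)
theorem F416677 : act 4 n200486 = n113178 := d11_1 D200486 (iv7 D113178) D113175
theorem F416678 : act 1 n195687 = n200486 := d15_1 D195687 (iv7 D200486) (iv2 F381054)
theorem F416679 : act 1 n200486 = n113386 := d15_1 F416678 F352266 (iv2 F397862)
def n200487 : Q := act 6 n113176
theorem D200487 : act 6 n113176 = n200487 := rfl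
theorem F416680 : act 2 n200487 = n193340 := d3_1 D200487 F415392 (iv2 F415391)
theorem F416681 : act 4 n200487 = n195933 := d10_1 D200487 (iv6 F401989) F401988
theorem F416682 : act 7 n200487 = n193341 := d14_2 (iv7 F401978) D200487 (iv6 F389514) F359113 D196836
theorem F416683 : act 0 n174495 = n200487 := d21_4 (iv5 D192109) (iv1 F310444) F310445 D174495 (iv6 D200487) (iv5 D113176) D113172 (iv5 F386501) (iv6 D192338) (iv1 F385597)
theorem F416684 : act 1 n193343 = n200487 := d15_1 F401946 F416682 (iv2 F401942)
def n200488 : Q := act 5 n113177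
theorem D200488 : act 5 n113177 = n200488 := rfl
theorem F416685 : act 2 n200488 = n150250 := d2_1 D200488 (iv5 F345740) (iv2 F381049)
theorem F416686 : act 3 n200488 = n152174 := d6_1 D200488 F330174 (iv3 F381050)
theorem F416687 : act 7 n200488 = n152167 := d13_2 (iv7 F381051) D200488 (iv5 F355886)
theorem F416688 : act 0 n200488 = n153589 := d17_2 F355865 D200488 (iv5 F355872) F355870 (iv5 F339193) (iv0 D177612) (iv5 F341730) (iv0 F355856) (iv4 F345734)
def n200489 : Q := act 6 n113178
theorem D200489 : act 6 n113178 = n200489 := rfl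
theorem F416689 : act 2 n200489 = n113182 := d3_1 D200489 (iv6 D113182) (iv2 F176344)
theorem F416690 : act 3 n200489 = n138142 := d7_1 D200489 F409073 (iv3 F409075)
def n200490 : Q := act 0 n113179
theorem D200490 : act 0 n113179 = n200490 := rfl
theorem F416691 : act 4 n200490 = n113207 := d20_0 (iv1 F176377) (iv4 F176308) (iv3 F402867) (iv1 F402872) D198161 (iv4 F416652) (iv1 F416657) (iv4 D113180) D113179 D200490
theorem F416692 : act 2 n125801 = n200490 := d1_3 F416691 F359806 D125801
theorem F416693 : act 6 n113382 = n200490 := d10_0 F416691 F358987 D113382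
theorem F416694 : act 7 n125796 = n200490 := d11_0 F416691 F359807 D125796
theorem F416695 : act 1 n113179 = n200474 := d15_1 (iv0 D200490) F416606 F416692
def n200491 : Q := act 2 n113179
theorem D200491 : act 2 n113179 = n200491 := rfl
theorem F416696 : act 3 n200491 = n198706 := d0_2 D113179 D200491 (iv2 F409074) (iv3 F409075) F176344
theorem F416697 : act 1 n200491 = n125796 := d15_0 (iv0 F416644) F416643 D200491
theorem F416698 : act 1 n125801 = n200491 := d15_0 F416697 F416694 (iv2 F416692)
theorem F416699 : act 4 n200491 = n195029 := d20_2 D125796 (iv1 F416697) (iv3 D195029) (iv1 D105175) (iv3 D48633) (iv4 D23710) D23708 F36868 D28006 D58912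
theorem F416700 : act 5 n200491 = n189180 := d18_9 (iv1 D189180) F143975 D93353 F354214 (iv5 D113156) F82587 D58913 D125801 F416698
theorem F416701 : act 6 n190664 = n200491 := d7_0 F416696 F408946 (iv3 F380488)
theorem E103808 : n195029 = n190665 := (c10_2 F416701 F416699 (iv6 D190665) D190664)
theorem F416702 : act 0 n190665 = n198747 := (sb E103808 F409059)
theorem F416703 : act 3 n190665 = n105175 := (sb E103808 (iv3 D195029))
theorem F416704 : act 4 n190665 = n200491 := (sb E103808 (iv4 F416699))
theorem E103809 : n195032 = n190663 := (c7_3 D190665 F416703 D195032 (iv3 D190663))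
theorem F416705 : act 0 n190663 = n144780 := (sb E103809 (iv1 F395495))
theorem F416706 : act 1 n190663 = n157792 := (sb E103809 F408178)
theorem F416707 : act 5 n190663 = n113549 := (sb E103809 F395494)
theorem F416708 : act 6 n190663 = n105175 := (sb E103809 (iv6 D195032))
theorem F416709 : act 3 n113549 = n132999 := d6_1 F416707 F338378 D190663
theorem F416710 : act 6 n132999 = n113546 := d7_2 D113549 F416709 (iv3 D113546)
def n200492 : Q := act 4 n113179
theorem D200492 : act 4 n113179 = n200492 := rfl
theorem F416711 : act 2 n200492 = n190665 := d1_1 D200492 F416704 (iv2 D200491)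
theorem F416712 : act 3 n200492 = n195689 := d5_1 D200492 F397866 F381042 (iv4 D113180) D113179
theorem F416713 : act 7 n200492 = n195688 := d11_2 F416643 D200492 (iv4 F416640)
theorem F416714 : act 0 n200492 = n125762 := d20_7 (iv4 D136272) (iv1 F169201) (iv4 F202689) F202688 (iv1 F176340) D113179 D200492 F202278 (iv3 F358201) (iv1 F351976)
theorem F416715 : act 0 n126035 = n200492 := d20_10 (iv4 D200492) D200490 F416691 (iv3 F412153) F412152 (iv3 D112442) (iv4 D51874) (iv1 F169981) (iv4 F93242) D126035
theorem F416716 : act 6 n190662 = n200492 := d14_5 F416713 F397864 F330167 (iv6 F341945) D190662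
def n200493 : Q := act 5 n113179
theorem D200493 : act 5 n113179 = n200493 := rfl
theorem F416717 : act 2 n200493 = n189180 := d2_1 D200493 (iv5 F416700) (iv2 D200491)
theorem F416718 : act 3 n200493 = n113181 := d6_1 D200493 (iv5 D113181) D113179
theorem F416719 : act 7 n200493 = n189179 := d13_2 F416643 D200493 (iv5 F416641)
theorem F416720 : act 4 n200493 = n194701 := d18_5 F174858 (iv4 F202737) F416715 (iv4 D200492) D200493 F394150 (iv4 F348158) (iv0 F348172) (iv5 D113156)
theorem F416721 : act 0 n200493 = n189170 := d18_0 F375935 F365360 (iv4 F416601) (iv5 D200473) F176308 F176377 (iv4 F416691) (iv0 D200490) D200493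
theorem F416722 : act 1 n200493 = n174455 := d15_1 (iv0 F416721) (iv7 F358755) (iv2 F375933)
theorem F416723 : act 4 n184314 = n189180 := d1_2 F416720 F415401 (iv2 F416717)
theorem F416724 : act 6 n195922 = n200493 := d10_0 F416720 (iv6 F410448) F410442
theorem F416725 : act 4 n182514 = n190714 := d18_7 (iv1 F394155) F416723 (iv1 D189180) F143975 F294771 (iv4 F133720) D182514 F380754 (iv5 F394152)
def n200494 : Q := act 6 n113179
theorem D200494 : act 6 n113179 = n200494 := rfl
theorem F416726 : act 2 n200494 = n190664 := d3_1 D200494 F416701 (iv2 D200491)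
theorem F416727 : act 3 n200494 = n113182 := d7_1 D200494 (iv6 D113182) D113179
theorem F416728 : act 4 n200494 = n190662 := d10_1 D200494 F416716 (iv4 D200492)
theorem F416729 : act 7 n200494 = n190661 := d14_2 F416643 D200494 F380485 F248373 (iv6 F416642)
theorem E103810 : n190662 = n165684 := ((c20_2 (iv4 F122203) D165684 (iv4 F416728) F416727 F363989 (iv3 D126009) (iv4 F168163) (iv1 F168974) (iv4 F363222) (iv3 D165728) (iv1 D79597))).symm
theorem F416730 : act 2 n165684 = n96345 := (sb E103810 F380487)
theorem F416731 : act 4 n165684 = n200494 := (sb E103810 (iv4 F416728))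
theorem F416732 : act 6 n165684 = n200492 := (sb E103810 F416716)
theorem F416733 : act 7 n165684 = n96344 := (sb E103810 (iv7 D190662))
theorem E103811 : n190659 = n165685 := (c15_4 F260958 F260953 F416733 D190659)
theorem F416734 : act 2 n165685 = n96344 := (sb E103811 (iv2 D190659))
theorem F416735 : act 6 n165685 = n181144 := (sb E103811 F380482)
theorem F416736 : act 7 n165685 = n96345 := (sb E103811 (iv7 F380483))
theorem F416737 : act 0 n180590 = n200494 := d20_10 (iv4 F416731) (iv1 F260953) (iv4 F194394) F194393 (iv1 F122328) F254183 F254182 (iv1 D157819) F132216 D180590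
def n200495 : Q := act 5 n113180
theorem D200495 : act 5 n113180 = n200495 := rfl
theorem F416738 : act 3 n200495 = n195692 := d6_1 D200495 F397872 F381042
theorem F416739 : act 7 n200495 = n191542 := d13_2 (iv7 F381044) D200495 F383727
theorem F416740 : act 4 n200495 = n191546 := d16_6 (iv4 F386612) F386613 (iv4 F392267) (iv5 D113181) D113180 D200495 F411380 F411378 F383755
def n200496 : Q := act 6 n113180
theorem D200496 : act 6 n113180 = n200496 := rfl
theorem F416741 : act 3 n200496 = n190782 := d7_1 D200496 (iv6 F381043) F381042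
theorem F416742 : act 4 n200496 = n113182 := d10_1 D200496 (iv6 D113182) D113180
theorem F416743 : act 0 n177636 = n200496 := d20_10 F416742 F363989 F202702 (iv3 D113410) F165616 (iv3 F365122) (iv4 F365123) (iv1 F407334) F407336 F364115
theorem F416744 : act 5 n196234 = n200496 := d6_0 F416741 F381037 D196234
def n200497 : Q := act 1 n113182
theorem D200497 : act 1 n113182 = n200497 := rfl
theorem F416745 : act 4 n113503 = n200497 := d20_0 (iv1 D200497) (iv4 F416742) F416741 (iv1 D190782) (iv3 D96652) (iv4 D45136) F33909 (iv4 F56468) D78602 (iv1 F327272)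
theorem F416746 : act 5 n200497 = n113682 := d9_2 F382778 F416745 F176880 (iv5 F164431) (iv4 F376406) (iv5 F376824) F382783 F382780 (iv4 F202702) F363988 F363987 D194006 F391736 (iv5 F376289) (iv4 F382777)
def n200498 : Q := act 5 n113182
theorem D200498 : act 5 n113182 = n200498 := rfl
theorem F416747 : act 6 n200498 = n195923 := d12_2 D113182 D200498 (iv5 D195923) F392266 (iv5 D113181)
def n200499 : Q := act 7 n113182
theorem D200499 : act 7 n113182 = n200499 := rfl
theorem F416748 : act 3 n200499 = n190661 := d8_1 D200499 (iv7 F416729) F416727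
theorem F416749 : act 6 n200499 = n193447 := d14_1 D200499 F389868 (iv6 F381048) (iv7 F176341) D113182
def n200500 : Q := act 4 n113185
theorem D200500 : act 4 n113185 = n200500 := rfl
theorem F416750 : act 2 n200500 = n113188 := d1_1 D200500 (iv4 D113188) (iv2 F176349)
theorem F416751 : act 1 n200500 = n192504 := d15_0 (iv0 F409699) F409698 (iv2 F416750)
def n200501 : Q := act 4 n113186
theorem D200501 : act 4 n113186 = n200501 := rfl
theorem F416752 : act 7 n200501 = n192409 := d11_2 F409637 D200501 (iv4 F409638)
theorem F416753 : act 5 n200501 = n192410 := d16_1 D200501 F386661 (iv5 F383744) (iv4 F397676) (iv5 F402667) F402668 (iv5 F352468) (iv7 F409665) F409664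
theorem F416754 : act 0 n200501 = n145395 := d17_0 (iv5 F411005) F411008 F386613 (iv4 F392267) (iv5 D113181) F176340 (iv5 F386501) (iv0 F386504) D200501
theorem F416755 : act 0 n194427 = n113188 := d18_0 (iv4 D113188) D113186 D200501 F416753 F386661 F357513 (iv4 F393142) (iv0 D194425) D194427
def n200502 : Q := act 6 n113186
theorem D200502 : act 6 n113186 = n200502 := rfl
theorem F416756 : act 3 n200502 = n160588 := d7_1 D200502 (iv6 F373711) F373710
theorem F416757 : act 5 n200502 = n160582 := d12_1 D200502 (iv6 D160582) (iv5 F250816) (iv6 F360147) (iv5 F373684)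
def n200503 : Q := act 3 n113187
theorem D200503 : act 3 n113187 = n200503 := rfl
theorem F416758 : act 5 n200503 = n200174 := d6_2 (iv5 F352468) D200503 (iv3 D200174)
theorem F416759 : act 6 n200503 = n147808 := d7_2 F352469 D200503 F409647
def n200504 : Q := act 4 n113187
theorem D200504 : act 4 n113187 = n200504 := rfl
theorem F416760 : act 2 n200504 = n192409 := d1_1 D200504 (iv4 F409638) F409636
theorem F416761 : act 5 n200504 = n191671 := d9_2 (iv5 F352468) D200504 (iv4 D191671) (iv5 D98623) (iv4 F152018) D191668 F384094 (iv5 F373684) D200501 F416753 F386661 (iv5 F383744) (iv4 F397676) (iv5 F402667) F402668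
theorem F416762 : act 0 n145395 = n200504 := d20_10 (iv4 D200504) (iv1 D113187) D113188 (iv3 F407682) F407685 F353084 F227028 F165685 (iv4 F104319) (iv3 F228429)
def n200505 : Q := act 0 n113188
theorem D200505 : act 0 n113188 = n200505 := rfl
theorem F416763 : act 4 n200505 = n124497 := d18_3 (iv1 D113187) D113188 D200505 F199126 (iv4 F160849) F324563 F82645 D112740 (iv5 F352468)
theorem F416764 : act 3 n177290 = n200505 := d5_5 F416763 F199125 F311378 (iv3 F311377) (iv4 F276669)
theorem F416765 : act 6 n124496 = n200505 := d10_0 F416763 (iv6 D124497) D124496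
theorem F416766 : act 7 n192504 = n200505 := d11_0 F416763 F313778 (iv4 F386869)
theorem F416767 : act 5 n192505 = n200505 := d16_1 (iv4 F386871) F416763 F199126 (iv4 F160849) F352457 (iv4 F352456) (iv5 F295239) D103455 F158762
def n200506 : Q := act 5 n113188
theorem D200506 : act 5 n113188 = n200506 := rfl
theorem F416768 : act 3 n200506 = n134203 := d6_1 D200506 (iv5 F407684) F407682
theorem F416769 : act 6 n200506 = n140485 := d12_2 F407655 D200506 (iv5 F407659) (iv6 D198338) D198337
theorem F416770 : act 4 n200506 = n191670 := d16_2 D113188 D200506 (iv5 D191670) (iv4 F383736) F161561 (iv4 F176338) (iv5 F386501) F386502 F176349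
theorem F416771 : act 1 n200506 = n192386 := d17_6 (iv1 F362990) (iv5 D113181) (iv1 D52241) D52243 D113188 D200506 (iv5 F410001) (iv0 F410002) F273433
theorem F416772 : act 1 n197534 = n200506 := d15_0 F416771 (iv7 F405110) F405108
def n200507 : Q := act 1 n113189
theorem D200507 : act 1 n113189 = n200507 := rfl
theorem F416773 : act 1 n200507 = n174488 := d15_1 D200507 F343367 F230890
theorem F416774 : act 7 n200507 = n174519 := d15_2 (iv0 F362989) D200507 (iv2 F359161)
theorem F416775 : act 4 n197449 = n200507 := d20_0 (iv1 D200507) F407654 F407652 F337403 (iv3 D74242) (iv4 D34059) D34058 (iv4 F79035) D108191 D197449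
theorem F416776 : act 3 n153914 = n200507 := d20_3 (iv4 F326221) D154105 F362135 (iv1 D200507) F176350 (iv4 F176356) (iv1 F403859) F403856 (iv3 D179061) (iv1 D85432)
theorem F416777 : act 5 n153907 = n200507 := d21_0 (iv1 D200507) (iv5 F230889) (iv6 D147275) (iv1 F230553) F343351 F328234 D88536 (iv5 F291386) (iv6 F392262) F392264
theorem F416778 : act 6 n153910 = n200507 := d21_3 F389519 F306724 D153910 (iv1 D200507) (iv6 D113189) (iv5 D52243) D52240 D113176 D200487 (iv1 F416684)
def n200508 : Q := act 0 n113191
theorem D200508 : act 0 n113191 = n200508 := rfl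
theorem F416779 : act 5 n200508 = n115299 := d17_1 D200508 (iv1 F400900) F400898 (iv4 D116114) (iv5 D53513) D53512 D116110 (iv0 F407685) F407683
theorem F416780 : act 4 n200508 = n116123 := d18_3 (iv1 F407686) F407683 D200508 (iv5 D116123) (iv4 D53521) F78104 (iv4 F164725) F164728 D116108
theorem F416781 : act 1 n115279 = n200508 := d15_0 (iv0 D200508) F176354 (iv2 F179542)
theorem F416782 : act 2 n115281 = n200508 := d1_3 F416780 (iv2 F400276) (iv4 F400895)
theorem F416783 : act 7 n115280 = n200508 := d11_0 F416780 (iv7 F400265) F400266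
def n200509 : Q := act 1 n113191
theorem D200509 : act 1 n113191 = n200509 := rfl
theorem F416784 : act 7 n200509 = n115281 := d15_2 (iv0 D200508) D200509 F416782
theorem F416785 : act 5 n200509 = n115300 := d17_7 (iv1 F218682) (iv5 F350340) (iv1 D127038) F94025 (iv4 F84002) (iv5 F176353) D200509 F400901 F400897
theorem F416786 : act 2 n115280 = n200509 := d2_3 F416785 F415020 (iv5 F400891)
theorem F416787 : act 0 n115279 = n200509 := d17_0 F416785 (iv1 D115300) D115302 (iv4 F364941) (iv5 F364939) F164728 D116108 F415108 F415104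
theorem F416788 : act 4 n200509 = n116117 := d18_3 F415107 F415104 F416787 (iv5 D116117) (iv4 D53517) (iv0 D25923) (iv4 F40978) D53512 D116110
def n200510 : Q := act 2 n113191
theorem D200510 : act 2 n113191 = n200510 := rfl
theorem F416789 : act 3 n200510 = n115610 := d0_2 D113191 D200510 F179936 F84181 (iv2 F82604)
theorem F416790 : act 4 n200510 = n196398 := d1_2 F407683 D200510 (iv2 F407681)
theorem F416791 : act 5 n200510 = n115266 := d2_2 (iv5 F176353) D200510 (iv2 F179531)
theorem F416792 : act 6 n200510 = n196397 := d3_2 (iv6 F407680) D200510 (iv2 F407676)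
theorem F416793 : act 7 n200510 = n115279 := d4_2 (iv7 F176354) D200510 F179542
theorem F416794 : act 1 n200510 = n115280 := d15_0 (iv0 D115280) (iv7 F176354) D200510
theorem F416795 : act 1 n115281 = n200510 := d15_0 F416794 F416783 (iv2 F416782)
def n200511 : Q := act 4 n113193
theorem D200511 : act 4 n113193 = n200511 := rfl
theorem F416796 : act 2 n200511 = n200303 := d1_1 D200511 F415913 F351346
theorem F416797 : act 3 n200511 = n156050 := d5_1 D200511 (iv4 F361298) (iv3 F361293) F351348 (iv3 F351347)
theorem F416798 : act 7 n200511 = n200302 := d11_2 (iv7 F351345) D200511 F415903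
theorem F416799 : act 0 n200511 = n200301 := d17_0 (iv5 D200301) F320580 (iv5 D85200) F60326 D39491 D85555 (iv5 F351342) F351338 D200511
theorem F416800 : act 1 n200511 = n115357 := d18_8 D156112 (iv4 F393226) F393228 F392859 (iv5 F347949) (iv4 F351341) F351338 D200511 F336199
theorem F416801 : act 5 n156044 = n200511 := d17_1 D156044 F416799 (iv5 D200301) F175915 D112990 F175964 F211372 (iv0 D131916) (iv4 F111078)
theorem F416802 : act 6 n198043 = n200511 := d7_0 F416797 F361299 D198043
def n200512 : Q := act 5 n113193
theorem D200512 : act 5 n113193 = n200512 := rfl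
theorem F416803 : act 2 n200512 = n155004 := d2_1 D200512 F243736 F351346
theorem F416804 : act 3 n200512 = n157079 := d6_1 D200512 F361291 (iv3 F351347)
theorem F416805 : act 7 n200512 = n179264 := d13_2 (iv7 F351345) D200512 F347850
theorem F416806 : act 1 n200512 = n179268 := d17_6 F220228 F220226 D156044 F416801 (iv4 D200511) D200512 F279189 (iv0 F351393) (iv4 F318282)
theorem F416807 : act 0 n200512 = n179249 := d18_0 (iv4 F352643) (iv1 F350616) (iv4 F328856) (iv5 D107642) (iv4 F166055) (iv0 F347950) (iv4 F351341) F351338 D200512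
theorem F416808 : act 6 n200512 = n118548 := d21_3 F347903 D113193 D200512 F342239 (iv6 D147813) D147812 F358571 (iv5 F130725) (iv6 D85557) D85554
def n200513 : Q := act 6 n113193
theorem D200513 : act 6 n113193 = n200513 := rfl
theorem F416809 : act 2 n200513 = n174509 := d3_1 D200513 F344767 F351346
theorem F416810 : act 3 n200513 = n157082 := d7_1 D200513 (iv6 F361289) (iv3 F351347)
theorem F416811 : act 4 n200513 = n198043 := d10_1 D200513 F416802 (iv4 D200511)
theorem F416812 : act 5 n200513 = n118549 := d12_1 D200513 (iv6 D118549) D118548 (iv6 F416808) (iv5 D200512)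
theorem F416813 : act 7 n200513 = n174508 := d14_2 (iv7 F351345) D200513 F344770 F187795 D119599
theorem F416814 : act 0 n200513 = n128060 := d21_4 (iv5 F279189) (iv1 F416806) (iv5 D200512) D200513 F360256 F360259 F347967 F233684 (iv6 D85558) F351393
theorem F416815 : act 0 n173299 = n200513 := d21_4 F324974 F350855 D129528 F350869 (iv6 D200513) D200512 F416807 (iv5 D179249) (iv6 F351363) (iv1 D126006)
def n200514 : Q := act 3 n113199
theorem D200514 : act 3 n113199 = n200514 := rfl
theorem F416816 : act 4 n200514 = n125575 := d20_6 F45218 (iv1 F24052) D25379 D52250 D113199 D200514 (iv1 D125575) F92943 (iv3 D27967) D27965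
theorem F416817 : act 0 n200514 = n181703 := d20_1 (iv4 F416816) (iv4 F409183) F409182 (iv1 F174180) D199944 F414259 (iv1 F414039) F414035 (iv3 F410323) (iv1 F410328)
def n200515 : Q := act 4 n113199
theorem D200515 : act 4 n113199 = n200515 := rfl
theorem F416818 : act 2 n200515 = n163846 := d1_1 D200515 (iv4 F363243) F375977
theorem F416819 : act 0 n200515 = n164128 := d20_1 D200515 (iv4 F373495) F413738 (iv1 D125598) (iv3 D58809) F45218 (iv1 F24052) D25379 D52250 D113199
theorem F416820 : act 6 n158323 = n200515 := d21_3 (iv5 D75484) D75482 D158323 F416819 (iv6 D164128) F254071 (iv1 F254382) F254383 D121214 F344719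
theorem F416821 : act 1 n200515 = n200174 := d15_1 (iv0 F416819) F415385 F409653
def n200516 : Q := act 5 n113199
theorem D200516 : act 5 n113199 = n200516 := rfl
theorem F416822 : act 4 n200516 = n182515 := d16_2 (iv4 D200515) D200516 (iv5 D182515) F133720 (iv5 F294771) (iv4 F143975) D189181 F375973 (iv2 F416818)
def n200517 : Q := act 6 n113199
theorem D200517 : act 6 n113199 = n200517 := rfl
theorem F416823 : act 2 n200517 = n113312 := d3_1 D200517 (iv6 F363257) F375977
theorem F416824 : act 4 n200517 = n158323 := d10_1 D200517 F416820 (iv4 D200515)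
theorem F416825 : act 7 n113311 = n200517 := d11_0 F416824 F275817 F354043
theorem F416826 : act 0 n113314 = n200517 := d18_2 F341880 (iv4 F348163) F416824 (iv5 D158323) (iv4 F239874) F344396 (iv4 F306580) (iv0 F340791) (iv5 F354002)
theorem F416827 : act 1 n113306 = n200517 := d18_6 (iv1 F278522) F346980 D193461 F389923 (iv5 F348167) F348166 F416824 (iv0 F303728) F303730
theorem E103812 : n200516 = n125806 := ((c21_2 D58915 D125806 (iv5 D200516) D200517 (iv1 F416827) (iv6 D113306) D113305 (iv1 F359804) (iv5 D126197) (iv6 F359805) (iv1 D58913))).symm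
theorem F416828 : act 4 n125806 = n182515 := (sb E103812 F416822)
theorem F416829 : act 5 n125806 = n113199 := (sb E103812 (iv5 D200516))
def n200518 : Q := act 3 n113200
theorem D200518 : act 3 n113200 = n200518 := rfl
theorem F416830 : act 4 n200518 = n174845 := d5_2 F375974 D200518 F343342 F343344 (iv3 F375972)
theorem F416831 : act 0 n200518 = n200066 := d20_10 (iv4 D200066) (iv1 F175145) (iv4 F202057) (iv3 F382092) (iv1 F382095) (iv3 F413738) F373495 F375976 F375974 D200518
theorem F416832 : act 6 n174843 = n200518 := d21_3 (iv5 D177442) D177438 F342128 F416831 F414876 F303745 F129200 F127226 D172537 F342132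
theorem F416833 : act 1 n200518 = n200068 := d15_1 (iv0 F416831) F414883 (iv2 F414875)
def n200519 : Q := act 6 n113200
theorem D200519 : act 6 n113200 = n200519 := rfl
theorem F416834 : act 3 n200519 = n174843 := d7_1 D200519 F416832 (iv3 D200518)
theorem F416835 : act 0 n200519 = n198895 := d19_4 F334765 F300660 D174843 (iv3 F416834) (iv5 F412569) F412568 (iv3 F412563) F412566 (iv5 D142806) F102892 F102244 D66340 (iv5 F320989) (iv4 F309378) F54502 D34347 (iv5 F310929) (iv4 F97335) (iv3 F213755)
def n200520 : Q := act 5 n113201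
theorem D200520 : act 5 n113201 = n200520 := rfl
theorem F416836 : act 2 n200520 = n113202 := d2_1 D200520 (iv5 D113202) D113201
theorem F416837 : act 3 n200520 = n125882 := d6_1 D200520 F356041 F202148
theorem F416838 : act 6 n200520 = n125880 := d12_2 F341864 D200520 (iv5 F408190) F408191 (iv5 F356026)
theorem F416839 : act 7 n200520 = n125898 := d13_2 F202008 D200520 F202387
theorem F416840 : act 1 n200520 = n125797 := d17_6 F174858 D200037 F414722 F341865 F341859 D200520 (iv5 D125797) (iv0 D58912) (iv4 F82587)
theorem F416841 : act 0 n200520 = n125802 := d21_7 D59165 (iv1 F231077) (iv5 D113298) D113299 (iv1 F395542) F341864 D200520 (iv5 D125802) F359805 (iv1 D59162)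
theorem E103813 : n125896 = n125797 := ((c15_1 F416840 (iv0 D125896) (iv7 F176367) (iv2 F416836))).symm
theorem F416842 : act 1 n125797 = n58950 := (sb E103813 (iv0 D125896))
def n200521 : Q := act 0 n113202
theorem D200521 : act 0 n113202 = n200521 := rfl
theorem F416843 : act 5 n200521 = n113207 := d21_8 D126200 (iv1 F202952) F176589 D195041 F395545 (iv6 D113203) D113202 D200521 F358987 (iv1 F93354)
theorem F416844 : act 1 n125898 = n200521 := d15_0 (iv0 D200521) F176367 D125898
theorem F416845 : act 2 n125802 = n200521 := d2_3 F416843 F359806 D125802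
theorem F416846 : act 7 n125797 = n200521 := d13_0 F416843 F359807 D125797
def n200522 : Q := act 1 n113202
theorem D200522 : act 1 n113202 = n200522 := rfl
theorem F416847 : act 1 n200522 = n125898 := d15_1 D200522 (iv7 F416839) F416836
theorem F416848 : act 7 n200522 = n125802 := d15_2 (iv0 D200521) D200522 F416845
theorem F416849 : act 2 n125797 = n200522 := d4_3 F416848 F416845 (iv7 F416846)
theorem F416850 : act 5 n113208 = n200522 := d13_3 F416848 (iv5 D125802) (iv7 F359809)
def n200523 : Q := act 4 n113202
theorem D200523 : act 4 n113202 = n200523 := rfl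
theorem F416851 : act 7 n200523 = n125899 := d11_2 (iv7 F176367) D200523 (iv4 D125899)
theorem F416852 : act 5 n200523 = n182524 := d16_1 D200523 (iv4 D182524) D182525 (iv4 F360195) (iv5 D163508) (iv4 F329024) (iv5 F202387) (iv7 F416839) F416836
theorem F416853 : act 6 n197834 = n200523 := d12_0 F416852 (iv6 F360193) F220873 (iv6 F397279) (iv5 F405955)
def n200524 : Q := act 6 n113202
theorem D200524 : act 6 n113202 = n200524 := rfl
theorem F416854 : act 2 n200524 = n125880 := d3_1 D200524 (iv6 F416838) F416836
theorem F416855 : act 3 n200524 = n113204 := d7_1 D200524 (iv6 D113204) (iv3 F176366)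
theorem F416856 : act 4 n200524 = n197834 := d10_1 D200524 F416853 (iv4 D200523)
def n200525 : Q := act 0 n113203
theorem D200525 : act 0 n113203 = n200525 := rfl
theorem F416857 : act 4 n200525 = n166489 := d20_2 (iv4 F356018) D200525 F358924 (iv1 F358927) (iv3 F358930) (iv4 D95364) (iv1 D44541) D44542 (iv3 F321872) (iv1 F130052)
theorem F416858 : act 6 n200525 = n162905 := d21_5 F416850 (iv1 D200522) (iv5 D113202) D113203 D200525 (iv5 D162905) (iv1 D78312) D78314 (iv6 F330159) (iv1 F176381)
theorem F416859 : act 2 n166490 = n200525 := d15_3 (iv0 D200525) (iv0 F395545) F395540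
theorem F416860 : act 1 n147797 = n200525 := d15_0 (iv0 D200525) F355924 (iv2 F355923)
theorem F416861 : act 7 n200525 = n113299 := d15_2 (iv0 F395543) F416860 (iv2 F395537)
def n200526 : Q := act 5 n113203
theorem D200526 : act 5 n113203 = n200526 := rfl
theorem F416862 : act 2 n200526 = n181231 := d2_1 D200526 (iv5 F356026) F356022
theorem F416863 : act 3 n200526 = n113205 := d6_1 D200526 (iv5 D113205) (iv3 F176368)
theorem F416864 : act 7 n200526 = n181229 := d13_2 (iv7 F355924) D200526 (iv5 F356068)
theorem F416865 : act 4 n200526 = n147907 := d16_2 (iv4 F356018) D200526 (iv5 D147907) (iv4 D69295) (iv5 D32210) (iv4 F51142) D69239 (iv7 F330050) F335058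
theorem F416866 : act 0 n172568 = n200526 := d19_0 (iv5 D200526) F356018 (iv3 F356023) F168779 D112777 D200193 F415476 F398438 (iv5 D193481) (iv4 D101786) (iv3 F156625) F355376 (iv5 D98161) F72420 F34460 F118894 D37933 D82611 D172568
theorem F416867 : act 1 n181228 = n200526 := d15_1 D181228 F416864 (iv2 D181229)
theorem F416868 : act 3 n181228 = n200525 := d20_5 F202172 F364565 (iv4 F356053) (iv3 F416863) (iv1 F416867) F416857 F373664 F373662 (iv3 F415511) F415515
def n200527 : Q := act 0 n113204
theorem D200527 : act 0 n113204 = n200527 := rfl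
theorem F416869 : act 4 n200527 = n197839 := d18_1 D200527 (iv1 F405975) F202391 F413734 F413731 (iv0 D190594) D190596 F380253 (iv5 F356060)
theorem F416870 : act 5 n200527 = n125849 := d19_1 D200527 (iv4 F414272) (iv3 D199946) (iv1 D112088) F337310 D95474 F337316 F312516 (iv5 F312519) F316315 (iv3 F280899) F348159 F338382 (iv4 F360213) F176378 (iv1 F168915) (iv5 F405955) (iv4 F416856) F416855
theorem F416871 : act 6 n125851 = n198893 := d21_3 F416870 (iv1 D125849) D125851 (iv1 D198893) (iv6 D110466) (iv5 D50938) (iv1 F40128) D52251 D113204 D200527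
theorem F416872 : act 3 n198893 = n125721 := d7_1 F416871 F360427 (iv3 F202351)
theorem F416873 : act 2 n125909 = n200527 := d2_3 F416870 (iv2 F408240) (iv5 F411038)
theorem F416874 : act 1 n125877 = n200527 := d17_6 (iv1 F169468) (iv5 F110943) (iv1 F359233) (iv5 D137287) D137286 (iv5 F220430) F416870 F408239 (iv4 D198527)
theorem F416875 : act 2 n197839 = n125901 := d1_3 F411043 F416873 F416869
theorem F416876 : act 7 n125910 = n200527 := d15_2 (iv0 D125909) D125910 (iv2 F416873)
theorem F416877 : act 7 n197839 = n125902 := d11_2 F416876 F416869 (iv4 F405977)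
theorem F416878 : act 2 n125902 = n197840 := d15_3 F405970 F405975 F416877
theorem F416879 : act 7 n125901 = n197840 := d4_2 (iv7 F416877) F416875 (iv2 F416878)
def n200528 : Q := act 1 n113204
theorem D200528 : act 1 n113204 = n200528 := rfl
theorem F416880 : act 1 n200528 = n125877 := d15_1 D200528 F356046 (iv2 F176369)
theorem F416881 : act 7 n200528 = n125909 := d15_2 (iv0 D200527) D200528 F416873
theorem F416882 : act 5 n200528 = n125828 := d17_7 (iv1 D109513) D109515 (iv1 F364560) (iv5 D137284) D137283 (iv5 F356060) D200528 F405756 F169469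
theorem F416883 : act 4 n200528 = n197840 := d18_7 (iv1 D196102) F164274 D106671 (iv4 F342979) F342980 F201893 D200528 F405970 F399418
theorem F416884 : act 2 n125910 = n200528 := d1_3 F416883 (iv2 F416878) (iv4 F405977)
theorem F416885 : act 3 n200528 = n125829 := d20_3 (iv4 F202391) (iv1 F405970) (iv4 F416883) F355982 (iv3 D58952) (iv4 F45282) D58820 F92996 (iv3 F161093) (iv1 F399419)
def n200529 : Q := act 7 n113204
theorem D200529 : act 7 n113204 = n200529 := rfl
theorem F416886 : act 2 n200529 = n125877 := d4_1 D200529 F356046 (iv2 F176369)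
theorem F416887 : act 5 n200529 = n199837 := d13_1 D200529 F413748 (iv5 F356060)
theorem F416888 : act 6 n200529 = n125904 := d14_1 D200529 (iv7 D125904) (iv6 D58951) (iv7 F82613) D113204
theorem F416889 : act 1 n125910 = n200529 := d15_1 D125910 (iv7 D200529) F176369
theorem F416890 : act 1 n200529 = n125909 := d15_1 F416889 (iv7 F416881) (iv2 F416884)
def n200530 : Q := act 3 n113208
theorem D200530 : act 3 n113208 = n200530 := rfl
theorem F416891 : act 4 n200530 = n177677 := d5_2 F416607 D200530 (iv3 F416613) (iv4 D200475) D200474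
theorem F416892 : act 7 n200530 = n125800 := d8_2 (iv7 F359809) D200530 (iv3 D125800)
theorem F416893 : act 6 n128838 = n200530 := d14_5 F416892 (iv6 F359811) (iv7 F352266) (iv6 F342144) (iv7 F333048)
theorem F416894 : act 1 n180673 = n200530 := d15_1 (iv0 F413273) F416892 (iv2 F413269)
theorem F416895 : act 1 n200530 = n125553 := d15_1 F416894 (iv7 F416562) F416560
def n200531 : Q := act 6 n113208
theorem D200531 : act 6 n113208 = n200531 := rfl
theorem F416896 : act 2 n200531 = n125798 := d3_1 D200531 (iv6 D125798) (iv2 F359808)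
theorem F416897 : act 3 n200531 = n128838 := d7_1 D200531 F416893 (iv3 D200530)
theorem F416898 : act 4 n200531 = n149040 := d10_1 D200531 (iv6 F416605) F416607
theorem F416899 : act 7 n200531 = n113389 := d14_2 (iv7 F359809) D200531 (iv6 D113389) (iv7 F352265) (iv6 F359805)
theorem F416900 : act 5 n200531 = n134125 := d21_6 (iv5 D162905) (iv1 D78312) D78314 (iv6 F330159) (iv1 F176381) D200531 (iv1 F359791) D190733 F380855 F357897
theorem F416901 : act 0 n130233 = n200531 := d17_2 (iv1 D130231) D130233 F416900 (iv4 D134125) (iv5 F336386) F198104 (iv5 F329918) F168764 F208750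
theorem F416902 : act 1 n113568 = n200531 := d17_6 (iv1 F329742) F345951 (iv1 F199535) F347342 F400043 F400041 F416900 (iv0 F359790) F220925
def n200532 : Q := act 5 n113209
theorem D200532 : act 5 n113209 = n200532 := rfl
theorem F416903 : act 2 n200532 = n113210 := d2_1 D200532 (iv5 D113210) D113209
theorem F416904 : act 3 n200532 = n125831 := d6_1 D200532 (iv5 D125831) (iv3 F176378)
theorem F416905 : act 7 n200532 = n125804 := d13_2 (iv7 F176379) D200532 (iv5 D125804)
theorem F416906 : act 0 n200532 = n125807 := d17_2 (iv1 F176380) D200532 (iv5 F358966) (iv4 F375974) (iv5 D189181) D189180 (iv5 F416700) F416697 (iv4 D125796)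
theorem F416907 : act 1 n200532 = n125806 := d17_6 F321498 D180476 F348159 F338382 (iv4 F360213) D200532 F416829 (iv0 D113199) (iv4 F168774)
def n200533 : Q := act 0 n113210
theorem D200533 : act 0 n113210 = n200533 := rfl
theorem F416908 : act 3 n200533 = n126047 := d20_5 F93089 F92982 F92912 (iv3 F176383) D200533 F407487 F407486 (iv4 D125722) F93086 D58870
theorem F416909 : act 1 n125804 = n200533 := d15_0 (iv0 D200533) F176384 (iv2 F202316)
theorem F416910 : act 5 n200533 = n125581 := d17_7 F323180 (iv5 F318577) F416603 (iv5 D200473) F176308 D125804 F416909 (iv0 D125581) F92952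
theorem F416911 : act 2 n125807 = n200533 := d2_3 F416910 (iv2 F375978) F358966
theorem F416912 : act 7 n125806 = n200533 := d13_0 F416910 F375979 (iv5 F416829)
theorem F416913 : act 6 n126042 = n200533 := d7_0 F416908 (iv6 D126047) (iv3 F202746)
def n200534 : Q := act 1 n113210
theorem D200534 : act 1 n113210 = n200534 := rfl
theorem F416914 : act 1 n200534 = n125804 := d15_1 D200534 (iv7 F416905) F416903
theorem F416915 : act 7 n200534 = n125807 := d15_2 (iv0 D200533) D200534 F416911
theorem F416916 : act 5 n200534 = n125582 := d17_7 (iv1 F324600) D200467 F416572 (iv5 D197064) F165974 D113210 D200534 F202010 (iv4 F341859)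
theorem F416917 : act 2 n125806 = n200534 := d2_3 F416916 F375977 (iv5 F416829)
theorem F416918 : act 4 n126088 = n200534 := d16_2 (iv4 F201663) (iv5 F366132) F416916 F363243 F358757 F358753 F295240 (iv7 D87133) (iv2 F133644)
theorem F416919 : act 6 n200534 = n126087 := d10_2 D126088 F416918 (iv4 D126087)
def n200535 : Q := act 6 n113210
theorem D200535 : act 6 n113210 = n200535 := rfl
theorem F416920 : act 3 n200535 = n113212 := d7_1 D200535 (iv6 D113212) (iv3 F176383)
def n200536 : Q := act 0 n113211
theorem D200536 : act 0 n113211 = n200536 := rfl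
theorem F416921 : act 3 n200536 = n189809 := d20_5 F174555 F168185 (iv4 F82632) (iv3 F176385) D200536 (iv4 F413304) (iv1 F413317) (iv4 F413337) F413336 (iv1 F201962)
def n200537 : Q := act 5 n113217
theorem D200537 : act 5 n113217 = n200537 := rfl
theorem F416922 : act 2 n200537 = n113231 := d2_1 D200537 F176418 F176403
theorem F416923 : act 7 n200537 = n113226 := d13_2 (iv7 F176404) D200537 (iv5 D113226)
theorem F416924 : act 0 n200537 = n113228 := d17_2 D113217 D200537 F355839 (iv4 F343345) (iv5 D173649) D173648 F342095 (iv0 D177677) (iv4 F318605)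
theorem F416925 : act 1 n200537 = n113227 := d17_6 D110618 F343348 (iv1 D147072) (iv5 F202633) F202632 D200537 (iv5 F356086) (iv0 D125604) F92985
def n200538 : Q := act 5 n113218
theorem D200538 : act 5 n113218 = n200538 := rfl
theorem F416926 : act 2 n200538 = n113220 := d2_1 D200538 (iv5 D113220) D113218
theorem F416927 : act 7 n200538 = n113224 := d13_2 (iv7 F176407) D200538 (iv5 D113224)
theorem F416928 : act 0 n200538 = n125607 := d17_2 (iv1 F176408) D200538 (iv5 D125607) F92985 D110621 F171215 (iv5 F351027) (iv0 F202630) (iv4 F105261)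
def n200539 : Q := act 0 n113220
theorem D200539 : act 0 n113220 = n200539 := rfl
theorem F416929 : act 5 n200539 = n125606 := d17_3 D52262 D113220 D200539 F202057 (iv5 F171210) D147321 F232038 (iv0 D113140) F82571
theorem F416930 : act 2 n125607 = n200539 := d15_3 (iv0 D200539) (iv0 F364296) F202227
theorem F416931 : act 1 n113224 = n200539 := d15_0 (iv0 D200539) (iv7 F202789) F202787
def n200540 : Q := act 4 n113220
theorem D200540 : act 4 n113220 = n200540 := rfl
def n200541 : Q := act 6 n113220
theorem D200541 : act 6 n113220 = n200541 := rfl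
def n200542 : Q := act 5 n113222
theorem D200542 : act 5 n113222 = n200542 := rfl
theorem F416932 : act 2 n200542 = n198288 := d2_1 D200542 (iv5 D198288) (iv2 F176411)
theorem F416933 : act 3 n200542 = n113224 := d6_1 D200542 (iv5 D113224) D113222
theorem F416934 : act 0 n200542 = n197887 := d17_2 (iv1 F202206) D200542 (iv5 D197887) (iv4 D108758) D108759 F386119 (iv5 D108641) D108639 (iv4 F202203)
theorem F416935 : act 0 n197900 = n200542 := d21_1 D197900 (iv5 D200542) (iv6 F380476) (iv1 F380480) F380706 (iv5 D166314) F297614 (iv5 F341736) F362998 F203223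
def n200543 : Q := act 4 n113224
theorem D200543 : act 4 n113224 = n200543 := rfl
def n200544 : Q := act 6 n113224
theorem D200544 : act 6 n113224 = n200544 := rfl
def n200545 : Q := act 5 n113225
theorem D200545 : act 5 n113225 = n200545 := rfl
theorem F416936 : act 2 n200545 = n125378 := d2_1 D200545 (iv5 D125378) (iv2 F323110)
theorem F416937 : act 3 n200545 = n182511 := d6_1 D200545 (iv5 F380475) F380473
theorem F416938 : act 4 n200545 = n137162 := d9_1 D200545 F345434 (iv4 D180411) (iv5 D86163) F60684 F30114 (iv4 F54630) D75184 D157803 (iv5 F385177) F385176 (iv5 D157926) F112777 (iv5 F92784) (iv4 F323111)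
theorem F416939 : act 7 n200545 = n157800 := d13_2 (iv7 F323112) D200545 (iv5 D157800)
theorem F416940 : act 0 n200545 = n157802 := d17_2 (iv1 F323109) D200545 F248690 (iv4 F160840) (iv5 F194346) D80032 (iv5 F254313) F254407 F254402
theorem F416941 : act 1 n200545 = n157801 := d17_6 D58705 F194349 (iv1 F60688) (iv5 F92784) (iv4 F323111) D200545 F280673 (iv0 D104965) F76343
theorem F416942 : act 6 n113522 = n200545 := d21_5 (iv5 D52390) (iv1 D25430) D25432 D52398 D113522 (iv5 D200545) F323108 (iv5 F332755) F355852 (iv1 F176681)
theorem F416943 : act 5 n200544 = n113522 := d12_5 F416942 (iv5 D200545) (iv6 D113225) D113224 D200544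
theorem F416944 : act 0 n194073 = n200544 := d21_7 F248690 (iv1 D104966) (iv5 F332749) (iv6 D98654) (iv1 F74852) (iv6 F157831) D194073 F416943 F416942 F416940
theorem F416945 : act 0 n200544 = n196040 := d21_7 (iv5 F362894) (iv1 F399272) (iv5 D196065) (iv6 F354699) (iv1 F416941) (iv6 F416942) (iv5 F416943) (iv5 D196040) (iv6 D106573) D106569
def n200546 : Q := act 0 n113226
theorem D200546 : act 0 n113226 = n200546 := rfl
theorem F416946 : act 5 n200546 = n200070 := d17_3 (iv1 F93258) D113226 D200546 F414892 F414839 F272134 (iv5 F353633) (iv0 D125404) (iv4 F319469)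
theorem F416947 : act 1 n113231 = n200546 := d15_0 (iv0 D200546) (iv7 F416923) F416922
theorem F416948 : act 2 n113227 = n200546 := d2_3 F416946 (iv2 F414893) F356086
theorem F416949 : act 7 n113228 = n200546 := d13_0 F416946 F414891 (iv5 F355839)
def n200547 : Q := act 1 n113226
theorem D200547 : act 1 n113226 = n200547 := rfl
theorem F416950 : act 1 n200547 = n113231 := d15_1 D200547 (iv7 D113231) (iv2 F176414)
theorem F416951 : act 7 n200547 = n113227 := d15_2 (iv0 D200546) D200547 F416948
theorem F416952 : act 5 n200547 = n175943 := d17_7 D112572 F226692 (iv1 D69038) D69040 (iv4 F105261) D113226 D200547 (iv0 F342088) (iv4 D112574)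
theorem F416953 : act 2 n113228 = n200547 := d2_3 F416952 (iv2 F343346) (iv5 F355839)
theorem F416954 : act 3 n180038 = n200547 := d6_3 F416952 F323363 D180038
theorem F416955 : act 6 n113228 = n200547 := d12_0 F416952 F275294 (iv5 F270684) (iv6 F343347) (iv5 F355839)
def n200548 : Q := act 4 n113226
theorem D200548 : act 4 n113226 = n200548 := rfl
theorem F416956 : act 2 n200548 = n113229 := d1_1 D200548 (iv4 D113229) (iv2 F176414)
def n200549 : Q := act 6 n113226
theorem D200549 : act 6 n113226 = n200549 := rfl
theorem F416957 : act 2 n200549 = n113230 := d3_1 D200549 (iv6 D113230) (iv2 F176414)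
theorem F416958 : act 5 n200549 = n113507 := d12_1 D200549 (iv6 D113507) (iv5 D52394) (iv6 F82637) D113226
def n200550 : Q := act 4 n113227
theorem D200550 : act 4 n113227 = n200550 := rfl
def n200551 : Q := act 6 n113227
theorem D200551 : act 6 n113227 = n200551 := rfl
def n200552 : Q := act 3 n113228
theorem D200552 : act 3 n113228 = n200552 := rfl
theorem F416959 : act 5 n200552 = n180035 := d6_2 (iv5 F355839) D200552 F362995
theorem F416960 : act 6 n200552 = n180038 := d7_2 (iv6 F416955) D200552 F416954
theorem F416961 : act 0 n126047 = n200039 := d21_4 F360438 (iv1 D59055) D59057 D126047 (iv6 F414734) (iv5 F202218) (iv1 F366141) (iv5 F416959) F416960 F360441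
theorem F416962 : act 0 n125625 = n200552 := d21_7 F280416 F297529 (iv5 F347414) (iv6 D128997) D128994 F348808 F202205 F416959 (iv6 D180035) D180033
def n200553 : Q := act 4 n113228
theorem D200553 : act 4 n113228 = n200553 := rfl
theorem F416963 : act 5 n200553 = n189367 := d16_1 D200553 F376481 (iv5 D188557) F342080 (iv5 F323364) F356082 F356086 (iv7 F416951) (iv2 F416953)
def n200554 : Q := act 0 n113229
theorem D200554 : act 0 n113229 = n200554 := rfl
def n200555 : Q := act 1 n113229
theorem D200555 : act 1 n113229 = n200555 := rfl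
def n200556 : Q := act 3 n113229
theorem D200556 : act 3 n113229 = n200556 := rfl
theorem F416964 : act 4 n200556 = n113231 := d5_2 D113229 D200556 F176417 (iv4 D52267) (iv3 F82638)
theorem F416965 : act 7 n113229 = n200556 := d11_0 F416964 (iv7 D113231) D113229
def n200557 : Q := act 5 n113229
theorem D200557 : act 5 n113229 = n200557 := rfl
def n200558 : Q := act 6 n113229
theorem D200558 : act 6 n113229 = n200558 := rfl
theorem F416966 : act 4 n200558 = n113230 := d10_1 D200558 (iv6 D113230) D113229
def n200559 : Q := act 0 n113230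
theorem D200559 : act 0 n113230 = n200559 := rfl
theorem F416967 : act 5 n200559 = n137137 := d17_3 (iv1 D113523) (iv5 F176416) D200559 (iv4 D137137) (iv5 D64469) (iv0 D30356) D30359 D64479 (iv4 F395994)
def n200560 : Q := act 1 n113230
theorem D200560 : act 1 n113230 = n200560 := rfl
theorem F416968 : act 5 n137146 = n200560 := d21_0 (iv1 D200560) F176416 (iv6 D52398) D52395 (iv6 F352458) (iv5 F72697) (iv1 F74852) (iv5 F147810) D190537 F380032
def n200561 : Q := act 7 n113230
theorem D200561 : act 7 n113230 = n200561 := rfl
theorem F416969 : act 3 n200561 = n113236 := d8_1 D200561 (iv7 D113236) (iv3 F176415)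
theorem F416970 : act 5 n200561 = n113524 := d13_1 D200561 (iv7 D113524) (iv5 F176416)
def n200562 : Q := act 6 n113231
theorem D200562 : act 6 n113231 = n200562 := rfl
theorem F416971 : act 3 n200562 = n113233 := d7_1 D200562 (iv6 D113233) (iv3 F176417)
def n200563 : Q := act 0 n113232
theorem D200563 : act 0 n113232 = n200563 := rfl
theorem F416972 : act 4 n200563 = n158426 := d18_3 (iv1 F327356) F202638 D200563 F249615 F113413 F91585 D46294 F155165 D75488
theorem F416973 : act 5 n200563 = n129006 := d19_1 D200563 (iv4 F347402) (iv3 F347390) (iv1 D108517) D108519 (iv4 F385111) F385110 (iv1 F153265) (iv5 F136837) F310376 (iv3 F333445) F232875 F333437 (iv4 F170607) (iv3 D105270) (iv1 F76559) F40155 (iv4 F82643) (iv3 F176419)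
theorem F416974 : act 3 n200563 = n126138 := d20_5 F161241 (iv1 F76559) (iv4 F82643) (iv3 F176419) D200563 (iv4 D126138) (iv1 D59107) (iv4 F93275) F93274 D59203
theorem F416975 : act 6 n200563 = n163622 := d21_5 (iv5 F416946) (iv1 F416947) F176418 D113232 D200563 (iv5 F361241) (iv1 F272847) (iv5 F352205) F352206 (iv1 F414890)
theorem F416976 : act 2 n113526 = n200563 := d15_3 (iv0 D200563) F327546 (iv7 F327542)
theorem F416977 : act 1 n113473 = n200563 := d15_0 (iv0 D200563) F176420 (iv2 F176653)
theorem F416978 : act 7 n200563 = n113525 := d15_2 (iv0 F327543) F416977 F326204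
def n200564 : Q := act 5 n113232
theorem D200564 : act 5 n113232 = n200564 := rfl
theorem F416979 : act 3 n200564 = n113237 := d6_1 D200564 (iv5 D113237) (iv3 F176419)
theorem F416980 : act 7 n200564 = n113527 := d13_2 (iv7 F176420) D200564 (iv5 D113527)
theorem F416981 : act 4 n200564 = n188183 := d16_2 F202638 D200564 (iv5 D188183) F295470 (iv5 F73853) (iv4 F154032) F249455 F275015 (iv2 F327357)
theorem F416982 : act 6 n137554 = n200564 := d21_5 F72675 (iv1 F147800) F147798 (iv6 F329771) D137554 (iv5 D200564) D200563 F416973 F347403 F136894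
theorem F416983 : act 5 n200562 = n137554 := d12_5 F416982 (iv5 D200564) (iv6 D113232) (iv5 F176418) D200562
def n200565 : Q := act 0 n113233
theorem D200565 : act 0 n113233 = n200565 := rfl
theorem F416984 : act 6 n200565 = n125564 := d21_5 (iv5 D58776) F45162 (iv5 F82640) D113233 D200565 (iv5 D125564) (iv1 F342902) F361379 (iv6 D125602) F92982
theorem F416985 : act 2 n125568 = n200565 := d3_3 F416984 F201976 D125568
theorem F416986 : act 3 n125876 = n200565 := d7_3 F416984 F201977 D125876
theorem F416987 : act 5 n195703 = n200565 := d12_5 F416984 (iv5 D125564) F92934 D106219 D195703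
theorem F416988 : act 7 n125928 = n200565 := d14_0 F416984 (iv7 F202399) (iv6 F362925) (iv7 F398863) F398865
theorem F416989 : act 4 n200565 = n125570 := d11_1 F416988 F399527 D125928
def n200566 : Q := act 1 n113233
theorem D200566 : act 1 n113233 = n200566 := rfl
theorem F416990 : act 7 n200566 = n125568 := d15_2 (iv0 D200565) D200566 F416985
theorem F416991 : act 4 n200566 = n125571 := d18_7 (iv1 F163231) F383821 (iv1 D105369) F76655 (iv5 F82642) (iv4 F176421) D200566 F201983 (iv5 F93404)
theorem F416992 : act 6 n131898 = n200566 := d21_3 (iv5 D61891) D61889 D131898 (iv1 D200566) (iv6 D113233) F82640 F45170 D58780 D125546 F342982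
theorem F416993 : act 2 n200566 = n125928 := d3_1 F416992 (iv6 F398865) F398861
theorem F416994 : act 3 n200566 = n125572 := d7_1 F416992 (iv6 F202406) (iv3 F362929)
theorem F416995 : act 5 n200566 = n195714 := d12_1 F416992 F397921 F211440 (iv6 D131899) D131898
def n200567 : Q := act 5 n113233
theorem D200567 : act 5 n113233 = n200567 := rfl
theorem F416996 : act 3 n200567 = n137554 := d6_1 D200567 (iv5 F416983) F416971
theorem F416997 : act 6 n200567 = n113237 := d12_2 D113233 D200567 (iv5 D113237) (iv6 D52269) (iv5 F82640)
def n200568 : Q := act 7 n113233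
theorem D200568 : act 7 n113233 = n200568 := rfl
theorem F416998 : act 4 n200568 = n113236 := d11_1 D200568 (iv7 D113236) (iv4 F176421)
theorem F416999 : act 6 n200568 = n113236 := d14_1 D200568 (iv7 D113236) (iv6 D52268) F82641 D113233
theorem F417000 : act 1 n125928 = n200568 := d15_1 (iv0 F377847) (iv7 D200568) (iv2 F202077)
theorem F417001 : act 1 n200568 = n125568 := d15_1 F417000 (iv7 F416990) F416993
def n200569 : Q := act 3 n113234
theorem D200569 : act 3 n113234 = n200569 := rfl
def n200570 : Q := act 5 n113234
theorem D200570 : act 5 n113234 = n200570 := rfl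
theorem F417002 : act 2 n200570 = n131889 := d2_1 D200570 F395515 F395517
theorem F417003 : act 7 n200570 = n131890 := d13_2 (iv7 F395519) D200570 F395502
theorem F417004 : act 0 n131884 = n200570 := d21_10 (iv5 D200570) (iv1 F395520) F395506 F161219 (iv1 F161567) (iv6 F342949) (iv5 F398881) (iv1 F398899) F349637 D131884
theorem F417005 : act 1 n131892 = n200570 := d15_0 (iv0 F417004) F391967 F391965
def n200571 : Q := act 6 n113234
theorem D200571 : act 6 n113234 = n200571 := rfl
def n200572 : Q := act 3 n113235
theorem D200572 : act 3 n113235 = n200572 := rfl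
theorem F417006 : act 0 n125567 = n200572 := d20_4 F360445 (iv1 F202365) (iv4 F202382) F202381 (iv3 D200572) (iv4 F395509) (iv1 D125918) F93161 (iv3 F93150) D125889
def n200573 : Q := act 6 n113235
theorem D200573 : act 6 n113235 = n200573 := rfl
theorem F417007 : act 4 n200573 = n131907 := d10_1 D200573 F360463 F395509
theorem F417008 : act 5 n200573 = n199157 := d12_1 D200573 F410931 (iv5 D128769) D128770 F365649
theorem F417009 : act 3 n200573 = n125910 := d19_3 F96479 D131907 (iv4 F417007) (iv1 D125910) D125911 (iv4 F356049) (iv3 F324438) (iv1 F324537) (iv5 F321616) F321615 (iv3 D67170) D67168 (iv5 F226001) F375925 F375923 F365360 (iv5 F365358) F216836 F163719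
theorem F417010 : act 6 n125910 = n200572 := d7_2 D200573 F417009 (iv3 D200572)
def n200574 : Q := act 4 n113237
theorem D200574 : act 4 n113237 = n200574 := rfl
theorem F417011 : act 7 n200574 = n113563 := d11_2 (iv7 F176423) D200574 (iv4 D113563)
theorem F417012 : act 5 n200574 = n195107 := d16_1 D200574 (iv4 D195107) (iv5 D105268) F76558 F36930 (iv4 F76558) D105268 (iv7 F202199) F202198
theorem F417013 : act 3 n200574 = n135474 := d20_3 (iv4 F395784) (iv1 F395785) D200574 (iv1 D135474) (iv3 D63685) (iv4 D30056) D30055 F48278 D60705 D129123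
theorem F417014 : act 7 n135474 = n134929 := d8_2 (iv7 F417011) F417013 (iv3 F358343)
theorem F417015 : act 2 n134929 = n135473 := d15_3 (iv0 D135473) D135474 F417014
theorem F417016 : act 2 n135474 = n134928 := d15_3 (iv0 D134928) D134929 (iv7 F417014)
theorem F417017 : act 7 n134928 = n135473 := d4_2 (iv7 F417014) F417016 (iv2 F417015)
def n200575 : Q := act 3 n113239
theorem D200575 : act 3 n113239 = n200575 := rfl
theorem F417018 : act 2 n200575 = n126054 := d0_1 D200575 (iv3 D126054) (iv2 F322533) F322534 F176431
theorem F417019 : act 5 n200575 = n113514 := d6_2 (iv5 F352467) D200575 (iv3 D113514)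
theorem F417020 : act 7 n200575 = n196645 := d8_2 F176432 D200575 (iv3 D196645)
theorem F417021 : act 0 n200575 = n189797 := d20_10 F377790 (iv1 F172626) (iv4 F82656) (iv3 F161109) (iv1 F161113) D113301 (iv4 F366129) (iv1 F360742) (iv4 F360726) D200575
theorem F417022 : act 1 n200575 = n113580 := d15_1 (iv0 F417021) F203752 (iv2 F377789)
def n200576 : Q := act 6 n113239
theorem D200576 : act 6 n113239 = n200576 := rfl
theorem F417023 : act 2 n200576 = n124619 := d3_1 D200576 (iv6 F344707) F176431
theorem F417024 : act 4 n200576 = n124648 := d10_1 D200576 F360730 (iv4 F360726)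
theorem F417025 : act 5 n200576 = n193356 := d12_1 D200576 F389559 F384014 (iv6 D113517) (iv5 F352467)
theorem F417026 : act 7 n200576 = n124617 := d14_2 F176432 D200576 F199308 (iv7 F160843) (iv6 F345241)
theorem F417027 : act 0 n200576 = n113326 := d21_4 (iv5 F161561) (iv1 F161565) (iv5 F352467) D200576 (iv6 F358034) F342135 (iv1 D177613) (iv5 F341730) (iv6 D52386) D52381
theorem F417028 : act 0 n124615 = n200576 := d21_4 D113220 D200539 F416929 (iv6 F352206) (iv6 D200576) F352467 (iv1 D52396) (iv5 D25432) (iv6 F40153) D52262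
def n200577 : Q := act 0 n113242
theorem D200577 : act 0 n113242 = n200577 := rfl
theorem F417029 : act 5 n200577 = n197483 := d17_3 (iv1 F93075) D113242 D200577 (iv4 D197483) (iv5 D108224) (iv0 D49981) (iv5 F38789) F45257 (iv4 F93074)
theorem F417030 : act 4 n200577 = n194868 := d18_1 D200577 (iv1 D194868) (iv4 F394788) (iv5 F394791) (iv4 D112838) F82312 (iv4 F92905) (iv0 F92906) D113242
theorem F417031 : act 2 n128929 = n200577 := d1_3 F417030 F395246 F395240
theorem F417032 : act 6 n200577 = n128920 := d3_2 D128929 F417031 F207146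
def n200578 : Q := act 1 n113242
theorem D200578 : act 1 n113242 = n200578 := rfl
theorem F417033 : act 7 n200578 = n128929 := d15_2 (iv0 D200577) D200578 F417031
theorem F417034 : act 3 n128941 = n200578 := d20_3 F341624 (iv1 F362307) (iv4 F207165) (iv1 D200578) (iv3 F365496) F151600 (iv1 D75501) D75502 (iv3 F324890) D128850
theorem F417035 : act 5 n125948 = n200578 := d21_6 (iv5 F40209) (iv1 F40211) (iv5 F36926) D48668 (iv1 F161343) D125948 (iv1 D200578) (iv5 D113242) (iv6 D52271) F40158
theorem F417036 : act 4 n200578 = n190600 := d18_5 F416238 (iv4 F326906) F182898 (iv4 F202447) F417035 (iv0 F380264) (iv4 F394788) F409801 (iv5 F416237)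
theorem F417037 : act 6 n190599 = n200578 := d10_0 F417036 (iv6 D190600) D190599
def n200579 : Q := act 4 n113242
theorem D200579 : act 4 n113242 = n200579 := rfl
theorem F417038 : act 3 n200579 = n189884 := d5_1 D200579 F378091 F302488 (iv4 F151600) F365496
theorem F417039 : act 6 n200579 = n160642 := d10_2 F415225 D200579 F415227
theorem F417040 : act 7 n200579 = n194850 := d11_2 F202171 D200579 F394749
def n200580 : Q := act 4 n113243
theorem D200580 : act 4 n113243 = n200580 := rfl
theorem F417041 : act 2 n200580 = n129073 := d1_1 D200580 (iv4 F395223) F395222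
theorem F417042 : act 3 n200580 = n163456 := d5_1 D200580 F409655 (iv3 D198867) D198868 F409661
theorem F417043 : act 6 n200580 = n128648 := d10_2 F377923 D200580 F358307
theorem F417044 : act 7 n200580 = n197008 := d11_2 F395226 D200580 (iv4 D197008)
theorem F417045 : act 0 n200580 = n197886 := d20_1 D200580 F406118 (iv3 D127356) (iv1 D59821) (iv3 D28379) (iv4 D13539) D13538 (iv4 F40164) D52272 D113243
theorem F417046 : act 0 n125617 = n200580 := d20_10 (iv4 D200580) (iv1 F176437) (iv4 F202018) F202017 (iv1 F170857) D198516 F408189 F202068 (iv4 D125618) D125617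
def n200581 : Q := act 3 n113244
theorem D200581 : act 3 n113244 = n200581 := rfl
theorem F417047 : act 5 n200581 = n195705 := d6_2 (iv5 F361400) D200581 (iv3 D195705)
theorem F417048 : act 7 n200581 = n197010 := d8_2 (iv7 F395225) D200581 (iv3 D197010)
theorem F417049 : act 4 n200581 = n198544 := d20_6 F148457 F323113 (iv4 F104367) (iv3 F165901) (iv1 F176441) D200581 (iv1 D198544) F169501 F347424 (iv1 F347422)
theorem F417050 : act 1 n190319 = n200581 := d18_6 F259558 (iv4 D127780) (iv1 F178287) F86797 D95857 D190319 F417049 F408292 F377913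
theorem F417051 : act 0 n113251 = n200581 := d20_10 F417049 (iv1 D198544) F169501 F347424 (iv1 F347422) (iv3 F380719) F380720 F359303 (iv4 D113252) D113251
theorem F417052 : act 0 n199177 = n196119 := d17_2 (iv1 F417050) F411031 (iv5 F399505) F414333 F414329 (iv0 D189823) F318877 D198544 (iv4 F417049)
def n200582 : Q := act 4 n113244
theorem D200582 : act 4 n113244 = n200582 := rfl
theorem F417053 : act 2 n200582 = n197008 := d1_1 D200582 (iv4 D197008) (iv2 F395227)
theorem F417054 : act 7 n200582 = n129073 := d11_2 (iv7 F395225) D200582 (iv4 F395223)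
theorem F417055 : act 3 n200582 = n125597 := d20_3 F202018 (iv1 F176441) D200582 (iv1 F382096) F382092 F202057 (iv1 F175146) D200068 F414884 (iv1 F405909)
theorem F417056 : act 0 n197886 = n200582 := d20_10 (iv4 D200582) (iv1 D113244) (iv4 F168629) (iv3 D108693) (iv1 D50185) D50186 F79534 D50216 D108758 D197886
theorem F417057 : act 5 n125683 = n200582 := d6_0 F417055 F366352 (iv3 F202165)
theorem F417058 : act 6 n125686 = n200582 := d7_0 F417055 F366353 (iv3 F202166)
theorem F417059 : act 1 n125617 = n200582 := d15_1 (iv0 F417046) F417054 (iv2 F417041)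
def n200583 : Q := act 6 n113244
theorem D200583 : act 6 n113244 = n200583 := rfl
theorem F417060 : act 2 n200583 = n197009 := d3_1 D200583 (iv6 D197009) (iv2 F395227)
theorem F417061 : act 4 n200583 = n125686 := d10_1 D200583 F417058 (iv4 D200582)
theorem F417062 : act 5 n200583 = n127406 := d12_1 D200583 (iv6 F204757) F397904 (iv6 D195707) (iv5 F361400)
theorem F417063 : act 1 n113319 = n200583 := d18_6 D189792 F377769 F160666 D104658 D194864 (iv4 F394795) F417061 (iv0 F377783) (iv5 D189795)
def n200584 : Q := act 6 n113246
theorem D200584 : act 6 n113246 = n200584 := rfl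
theorem F417064 : act 3 n200584 = n113248 := d7_1 D200584 (iv6 D113248) (iv3 F176443)
theorem F417065 : act 5 n200584 = n194969 := d12_1 D200584 (iv6 D194969) (iv5 F356067) (iv6 D113247) D113246
def n200585 : Q := act 1 n113247
theorem D200585 : act 1 n113247 = n200585 := rfl
theorem F417066 : act 1 n200585 = n170641 := d15_1 D200585 (iv7 F280404) F361372
theorem F417067 : act 5 n200585 = n194278 := d17_7 (iv1 F160598) (iv5 F283805) (iv1 D97358) (iv5 F76222) D104820 (iv5 F356067) D200585 (iv0 F395096) (iv4 D194938)
theorem F417068 : act 3 n194278 = n200585 := d19_19 (iv1 D200585) F356067 (iv4 D104820) (iv3 D48460) (iv1 D23620) (iv5 D11068) (iv4 D5045) (iv3 D2067) (iv1 D1026) (iv5 F1764) (iv4 F3045) (iv3 F6089) D9255 D19725 D41904 D89718 (iv1 F367178) (iv5 F377896) (iv4 F392627)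
theorem F417069 : act 6 n200585 = n196251 := d21_3 (iv5 F395094) F395096 (iv5 F417067) (iv1 D196251) (iv6 D106817) (iv5 D49355) F45212 D28773 D60594 D128850
def n200586 : Q := act 7 n113248
theorem D200586 : act 7 n113248 = n200586 := rfl
theorem F417070 : act 2 n200586 = n197022 := d4_1 D200586 (iv7 D197022) (iv2 F176446)
theorem F417071 : act 4 n200586 = n113715 := d11_1 D200586 (iv7 D113715) (iv4 F176447)
theorem F417072 : act 5 n200586 = n189812 := d13_1 D200586 F383831 F364823
theorem F417073 : act 6 n200586 = n197014 := d14_1 D200586 (iv7 D197014) (iv6 D107532) (iv7 F82651) D113248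
theorem F417074 : act 1 n144786 = n200586 := d15_1 F376520 (iv7 D200586) F176446
theorem F417075 : act 1 n200586 = n144783 := d15_1 F417074 (iv7 F415238) F415236
theorem F417076 : act 6 n181140 = n189812 := d21_5 (iv5 D128765) F95184 (iv5 F342874) F342875 (iv1 F358233) (iv5 F417072) (iv1 F417074) (iv5 F364802) D189806 (iv1 F377807)
def n200587 : Q := act 1 n113251
theorem D200587 : act 1 n113251 = n200587 := rfl
theorem F417077 : act 4 n200587 = n198540 := d18_7 D189823 F377878 (iv1 F178288) (iv4 F357975) F357978 (iv4 F176823) D200587 (iv0 F408282) (iv5 F318877)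
theorem F417078 : act 3 n191668 = n200587 := d20_9 F176823 (iv1 D113644) F82844 (iv3 D25467) (iv1 F40159) D52270 F82645 D112739 (iv4 F384094) (iv1 D200587)
theorem F417079 : act 2 n200587 = n197010 := d0_1 F417078 (iv3 D197010) F395222 (iv3 F409661) F409658
theorem F417080 : act 5 n200587 = n191665 := d6_2 D191668 F417078 F384085
theorem F417081 : act 0 n190319 = n200587 := d20_4 (iv4 F394528) F409918 (iv4 F411036) F411033 (iv3 F417078) F384094 (iv1 F175515) F170761 (iv3 F175377) (iv1 F204595)
def n200588 : Q := act 2 n113251
theorem D200588 : act 2 n113251 = n200588 := rfl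
theorem F417082 : act 3 n200588 = n196244 := d0_2 D113251 D200588 F400032 F360825 F349674
theorem F417083 : act 4 n200588 = n137275 := d1_2 (iv4 F176823) D200588 (iv2 F357979)
theorem F417084 : act 7 n200588 = n190319 := d4_2 F395562 D200588 F395564
theorem F417085 : act 1 n200588 = n197010 := d15_0 (iv0 F412426) F395562 D200588
theorem F417086 : act 5 n196243 = n200588 := d13_3 F417084 F411031 F411030
theorem F417087 : act 0 n195696 = n196243 := d17_2 F377902 D195696 F417086 F417083 (iv5 F357962) (iv0 F357965) (iv5 D113455) D113454 (iv4 F176639)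
def n200589 : Q := act 5 n113251
theorem D200589 : act 5 n113251 = n200589 := rfl
theorem F417088 : act 2 n200589 = n196243 := d2_1 D200589 F417086 (iv2 D200588)
theorem F417089 : act 3 n200589 = n113253 := d6_1 D200589 (iv5 D113253) D113251
theorem F417090 : act 7 n200589 = n190796 := d13_2 F395562 D200589 (iv5 F395560)
theorem F417091 : act 6 n200589 = n196242 := d21_9 (iv5 F395753) F362934 (iv5 D128620) D128621 F365710 D191665 (iv5 F417080) (iv1 D200587) D200589 (iv1 F400030)
theorem F417092 : act 0 n196119 = n200589 := d21_10 (iv5 D200589) F417051 F417047 (iv6 F397908) (iv1 D132023) (iv6 D61952) F322879 (iv1 F177832) (iv5 F341608) D196119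
theorem F417093 : act 4 n200589 = n146879 := d18_1 F417092 (iv1 D146879) F105042 F94258 (iv4 F110921) D155949 (iv4 F244963) F414334 F399505
theorem F417094 : act 5 n146879 = n128517 := d16_1 F417093 F206686 F94988 F86797 D95857 D190319 F411031 F411030 (iv2 F417088)
def n200590 : Q := act 6 n113251
theorem D200590 : act 6 n113251 = n200590 := rfl
theorem F417095 : act 3 n200590 = n113254 := d7_1 D200590 (iv6 D113254) D113251
theorem F417096 : act 4 n200590 = n137263 := d10_1 D200590 (iv6 F357981) (iv4 F176823)
theorem F417097 : act 0 n145444 = n113254 := d20_4 F165160 (iv1 F82163) (iv4 F104342) D145444 (iv3 F417095) F417096 (iv1 F395134) (iv4 F402618) (iv3 D196998) F165887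
theorem F417098 : act 0 n113254 = n163021 := d19_4 (iv1 D137261) D137263 (iv4 F417096) F417095 (iv5 D163021) F119595 (iv3 D35730) (iv1 F41762) D27700 F309181 (iv3 F309180) F299117 (iv5 D80457) F57558 F28752 D35192 D77056 (iv4 F300620) (iv3 F365884)
def n200591 : Q := act 0 n113252
theorem D200591 : act 0 n113252 = n200591 := rfl
theorem F417099 : act 5 n200591 = n199766 := d17_3 D199761 F413376 D200591 F413405 F363660 (iv0 F329344) D194745 F394327 F220863
theorem F417100 : act 4 n200591 = n200575 := d20_2 D113252 D200591 (iv3 D200575) (iv1 D113239) (iv3 D52270) (iv4 D25390) (iv1 D12073) D12074 D25393 D52275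
theorem F417101 : act 2 n199500 = n200591 := d15_3 (iv0 D200591) (iv0 F359303) (iv7 F412424)
theorem F417102 : act 1 n113257 = n200591 := d15_0 (iv0 D200591) (iv7 F395567) F395565
theorem F417103 : act 3 n200167 = n200591 := d20_9 (iv4 D113257) (iv1 D52276) F40166 (iv3 D24976) D24974 D51368 (iv4 F82227) D112727 D200167 (iv1 F417102)
def n200592 : Q := act 3 n113252
theorem D200592 : act 3 n113252 = n200592 := rfl
theorem F417104 : act 4 n200592 = n137267 := d5_2 D113252 D200592 (iv3 F357980) (iv4 F176823) (iv3 D113251)
theorem F417105 : act 0 n200592 = n198536 := d20_4 (iv4 F40166) D52275 D113252 D200592 (iv3 F408263) D199487 F412350 (iv4 F406127) (iv3 D111396) (iv1 D51375)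
theorem F417106 : act 1 n200592 = n198533 := d15_1 (iv0 F417105) (iv7 F413757) F413756
theorem F417107 : act 6 n137266 = n200592 := d10_0 F417104 (iv6 D137267) D137266
def n200593 : Q := act 6 n113252
theorem D200593 : act 6 n113252 = n200593 := rfl
theorem F417108 : act 3 n200593 = n137266 := d7_1 D200593 F417107 (iv3 D200592)
theorem F417109 : act 4 n200593 = n113254 := d10_1 D200593 (iv6 D113254) D113252
theorem F417110 : act 5 n194595 = n200593 := d18_4 (iv1 D198118) (iv4 F393827) (iv1 F393831) (iv4 F406838) F417109 (iv0 F417097) (iv4 F412405) (iv0 F412408) F406906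
theorem F417111 : act 0 n160359 = n200593 := d19_0 (iv5 F417110) F406838 F389973 D193473 F389975 F156803 (iv3 F383631) (iv1 F383633) (iv5 D153304) F310201 (iv3 D34354) (iv1 D16632) F12032 (iv4 F5649) (iv3 F12747) D17053 D35124 D76865 D160359
def n200594 : Q := act 5 n113254
theorem D200594 : act 5 n113254 = n200594 := rfl
theorem F417112 : act 2 n200594 = n129056 := d2_1 D200594 (iv5 F395572) F395570
theorem F417113 : act 6 n200594 = n129054 := d12_2 D113254 D200594 F207291 F349677 (iv5 D113253)
theorem F417114 : act 4 n200594 = n177525 := d16_6 F357909 D193472 (iv4 F406838) F417110 F417109 D200594 (iv5 F403246) F403248 F357889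
theorem F417115 : act 1 n200594 = n162908 := d17_8 (iv1 F193011) F348414 (iv1 D163046) (iv5 D78399) (iv4 F119595) D163021 (iv0 F417098) D200594 F257224
theorem F417116 : act 0 n200594 = n121030 := d20_1 (iv4 F417114) F192996 (iv3 D55831) (iv1 F54995) D76151 (iv4 F250664) F351539 (iv4 F393025) (iv3 F393026) F407477
theorem F417117 : act 7 n162907 = n200594 := d15_2 F395573 D162907 F417112
theorem F417118 : act 6 n170252 = n162907 := d14_5 F417117 F417113 (iv7 F339665) (iv6 D170251) D170252
def n200595 : Q := act 7 n113254
theorem D200595 : act 7 n113254 = n200595 := rfl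
theorem F417119 : act 5 n200595 = n162907 := d13_1 D200595 F417117 (iv5 D200594)
theorem F417120 : act 6 n200595 = n181233 := d14_1 D200595 F350075 (iv6 F345927) F349672 D113254
theorem F417121 : act 1 n177560 = n200595 := d15_1 (iv0 F395574) (iv7 D200595) (iv2 F395570)
theorem F417122 : act 1 n200595 = n196641 := d15_1 F417121 F401299 F357895
def n200596 : Q := act 4 n113256
theorem D200596 : act 4 n113256 = n200596 := rfl
theorem F417123 : act 2 n200596 = n190325 := d1_1 D200596 (iv4 F411036) F411032
theorem F417124 : act 5 n200596 = n196685 := d9_2 F360823 D200596 F401483 F165355 F112134 F78132 (iv4 F164604) D196244 (iv4 F413989) F413987 F401486 (iv5 F165356) F165132 F78295 D107224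
theorem F417125 : act 6 n200596 = n194283 := d10_2 (iv6 F360822) D200596 F392647
theorem F417126 : act 0 n200596 = n198445 := d18_2 F380725 D200596 F408032 F362276 D113939 F342858 D195905 F398682 F398154
theorem F417127 : act 1 n200596 = n190604 := d18_6 D60568 F163669 (iv1 F163667) D107224 F360823 D200596 (iv4 F380270) (iv0 D112691) F328854
def n200597 : Q := act 6 n113260
theorem D200597 : act 6 n113260 = n200597 := rfl
theorem F417128 : act 2 n200597 = n113265 := d3_1 D200597 (iv6 D113265) (iv2 F176451)
theorem F417129 : act 4 n200597 = n137672 := d10_1 D200597 (iv6 D137672) (iv4 F176460)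
theorem F417130 : act 0 n200597 = n128965 := d21_10 F342947 F360392 (iv5 F377812) (iv6 D189807) F146897 D96680 F345925 (iv1 F161125) D113260 D200597
theorem F417131 : act 7 n128963 = n200597 := d15_2 F360820 D128963 F417128
theorem F417132 : act 6 n184751 = n128963 := d14_5 F417131 (iv6 D200597) (iv7 F203058) (iv6 F345943) (iv7 F362138)
def n200598 : Q := act 1 n113261
theorem D200598 : act 1 n113261 = n200598 := rfl
theorem F417133 : act 1 n200598 = n113269 := d15_1 D200598 (iv7 D113269) (iv2 F176452)
theorem F417134 : act 7 n200598 = n113266 := d15_2 (iv0 F399377) D200598 (iv2 F399470)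
theorem F417135 : act 4 n200598 = n157859 := d18_7 F412616 F407344 F407349 F412612 (iv5 D199545) (iv4 F176453) D200598 (iv0 D157859) D157862
theorem F417136 : act 2 n113267 = n200598 := d1_3 F417135 (iv2 F399476) F365757
def n200599 : Q := act 5 n113261
theorem D200599 : act 5 n113261 = n200599 := rfl
theorem F417137 : act 2 n200599 = n113268 := d2_1 D200599 (iv5 D113268) (iv2 F176452)
theorem F417138 : act 0 n200599 = n197021 := d18_0 F402714 (iv1 D190555) F147848 F294455 F125353 D157860 F399375 (iv0 F399377) D200599
def n200600 : Q := act 7 n113261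
theorem D200600 : act 7 n113261 = n200600 := rfl
theorem F417139 : act 2 n200600 = n113269 := d4_1 D200600 (iv7 D113269) (iv2 F176452)
theorem F417140 : act 4 n200600 = n199546 := d11_1 D200600 (iv7 D199546) (iv4 F176453)
theorem F417141 : act 1 n113267 = n200600 := d15_1 D113267 (iv7 D200600) F176452
theorem F417142 : act 1 n200600 = n113266 := d15_1 F417141 (iv7 F417134) (iv2 F417136)
theorem F417143 : act 1 n132004 = n196094 := d17_6 (iv1 F412620) D199556 F412658 (iv5 F405661) F405660 F360394 F399475 F417141 F417140
theorem F417144 : act 1 n196087 = n132004 := d15_0 F417143 (iv7 D196094) (iv2 F399361)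
def n200601 : Q := act 3 n113262
theorem D200601 : act 3 n113262 = n200601 := rfl
theorem F417145 : act 5 n200601 = n113333 := d6_2 (iv5 F219256) D200601 (iv3 D113333)
theorem F417146 : act 1 n195705 = n200601 := d17_6 F377905 (iv5 D127488) D127485 (iv5 F408294) (iv4 F417049) F417047 F417145 (iv0 F416660) F416659
theorem F417147 : act 0 n191665 = n200601 := d19_0 F417145 F176639 F416662 (iv1 D200046) F381992 (iv4 F409845) (iv3 F409846) (iv1 D146759) (iv5 D68806) (iv4 F104909) (iv3 D68720) F321260 (iv5 D66363) (iv4 F101826) (iv3 F224107) F357511 (iv5 D98623) (iv4 F152018) (iv3 F384085)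
def n200602 : Q := act 4 n113262
theorem D200602 : act 4 n113262 = n200602 := rfl
theorem F417148 : act 5 n200602 = n136849 := d17_5 (iv1 D113345) (iv5 D52315) D52312 (iv5 F219256) D200602 F401348 D137128 F349665 (iv4 F345918)
theorem F417149 : act 0 n200602 = n143066 := d17_0 (iv5 D143066) (iv1 F345469) (iv5 F294262) F138496 (iv5 F349670) F161130 (iv5 F203057) F203059 D200602
theorem F417150 : act 1 n200602 = n137159 := d18_8 (iv1 F220510) F220508 F219090 (iv4 D136119) D136120 F219098 F203059 D200602 F221251
theorem F417151 : act 3 n200602 = n136851 := d19_3 D52312 (iv5 F219256) D200602 F220043 F100312 F48822 F39064 F19213 F18540 (iv4 D11339) (iv3 F18503) F18505 F11219 (iv4 F18527) F18526 D11351 F18528 D12082 D25408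
theorem F417152 : act 6 n136849 = n193165 := d21_3 (iv5 F221251) (iv1 F417150) F417148 (iv1 D193165) (iv6 D101256) F74419 (iv1 F35257) D22705 D47200 (iv1 F345470)
theorem F417153 : act 3 n193165 = n136852 := d7_1 F417152 (iv6 D136852) D136849
theorem F417154 : act 0 n182135 = n193293 := d21_7 (iv5 F417148) F417149 (iv5 D143066) F339064 (iv1 F307576) D193138 F388882 (iv5 D193293) F360829 (iv1 F401348)
def n200603 : Q := act 6 n113262
theorem D200603 : act 6 n113262 = n200603 := rfl
theorem F417155 : act 2 n200603 = n129086 := d3_1 D200603 (iv6 F355995) F355961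
theorem F417156 : act 0 n200603 = n128955 := d21_4 (iv5 D52315) D52312 (iv5 F219256) D200603 (iv6 D128955) D128954 F347506 F95269 (iv6 F345919) (iv1 D113345)
theorem F417157 : act 0 n113994 = n200603 := d21_4 (iv5 F164267) F399278 (iv5 D196066) F365924 (iv6 D200603) F219256 (iv1 F93375) D126225 (iv6 F349652) (iv1 D106659)
def n200604 : Q := act 6 n113264
theorem D200604 : act 6 n113264 = n200604 := rfl
theorem F417158 : act 2 n200604 = n137672 := d3_1 D200604 (iv6 D137672) F176459
theorem F417159 : act 3 n200604 = n113920 := d7_1 D200604 (iv6 D113920) (iv3 F176454)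
theorem F417160 : act 4 n200604 = n113265 := d10_1 D200604 (iv6 D113265) D113264
theorem F417161 : act 7 n200604 = n138152 := d14_2 (iv7 F176455) D200604 F412615 (iv7 F345932) (iv6 D137660)
theorem F417162 : act 0 n200604 = n138154 := d21_10 F380789 (iv1 D184103) F134786 (iv6 D87576) F294457 (iv6 F328986) (iv5 D64015) D64012 F176456 D200604
theorem F417163 : act 0 n134374 = n200604 := d21_4 (iv5 F345949) (iv1 F199541) F347345 D134374 (iv6 D200604) (iv5 F176456) (iv1 F99597) D64720 (iv6 F329741) (iv1 F148595)
def n200605 : Q := act 0 n113265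
theorem D200605 : act 0 n113265 = n200605 := rfl
theorem F417164 : act 4 n200605 = n195015 := d20_0 F395426 (iv4 F336400) (iv3 D98625) (iv1 F72690) (iv3 F152023) F332864 (iv1 D52596) (iv4 F82660) (iv3 F176465) D200605
theorem F417165 : act 2 n128965 = n200605 := d15_3 (iv0 D200605) F360820 D128965
theorem F417166 : act 7 n200605 = n128957 := d4_2 D128965 F417165 F207174
theorem F417167 : act 1 n200597 = n128957 := d15_1 (iv0 F417130) (iv7 F417166) (iv2 F417165)
theorem F417168 : act 1 n128963 = n200605 := d15_1 D128963 F417166 F207174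
theorem F417169 : act 6 n195013 = n200605 := d10_0 F417164 (iv6 D195015) D195013
theorem F417170 : act 3 n191663 = n200605 := d20_5 F72684 (iv1 F64203) D46102 D98619 D191663 F417164 F395426 (iv4 F336400) (iv3 D98625) (iv1 F72690)
def n200606 : Q := act 7 n113265
theorem D200606 : act 7 n113265 = n200606 := rfl
theorem F417171 : act 2 n200606 = n128963 := d4_1 D200606 F417131 F417128
theorem F417172 : act 3 n200606 = n113273 := d8_1 D200606 (iv7 D113273) (iv3 F176465)
theorem F417173 : act 4 n200606 = n138152 := d11_1 D200606 (iv7 F417161) F417160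
theorem F417174 : act 5 n200606 = n196032 := d13_1 D200606 F399131 (iv5 F360821)
theorem F417175 : act 6 n200606 = n183457 := d14_1 D200606 F345933 (iv6 D126288) F93401 D113265
theorem F417176 : act 1 n128957 = n200606 := d15_1 F417167 (iv7 D200606) (iv2 F417128)
theorem F417177 : act 1 n200606 = n128965 := d15_1 F417176 (iv7 D128965) (iv2 F207174)
def n200607 : Q := act 3 n113266
theorem D200607 : act 3 n113266 = n200607 := rfl
theorem F417178 : act 4 n200607 = n194153 := d5_2 (iv4 F334363) D200607 (iv3 D194153) D194154 (iv3 F392199)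
theorem F417179 : act 0 n194153 = n199865 := d20_7 (iv4 D52291) (iv1 D25397) (iv4 F40170) (iv3 F82658) D113266 D200607 F417178 F413861 (iv3 F359044) (iv1 F165649)
def n200608 : Q := act 6 n113266
theorem D200608 : act 6 n113266 = n200608 := rfl
def n200609 : Q := act 0 n113268
theorem D200609 : act 0 n113268 = n200609 := rfl
theorem F417180 : act 5 n200609 = n125836 := d17_3 (iv1 D113267) D113268 D200609 F364837 (iv5 F386113) F386114 F248832 D170827 F365757
theorem F417181 : act 4 n200609 = n190538 := d18_1 D200609 (iv1 F380131) F380129 F377705 F267334 F268408 (iv4 F334363) (iv0 D113266) D113268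
theorem F417182 : act 4 n191689 = n189895 := d18_5 F399468 (iv4 F328353) D200609 F417181 (iv5 F389059) (iv0 D189895) (iv4 F377811) (iv0 F377813) D196113
theorem F417183 : act 6 n200609 = n126246 := d21_5 (iv5 D128964) (iv1 F360820) F360821 (iv6 F328354) D200609 (iv5 F324559) F324555 (iv5 F170286) D195788 F398178
theorem F417184 : act 2 n197021 = n200609 := d3_3 F417183 (iv2 F203026) D197021
theorem F417185 : act 2 n190538 = n190555 := d1_3 (iv4 F402714) F417184 F417181
theorem F417186 : act 2 n182770 = n191689 := d2_3 F389059 F417185 F380127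
theorem F417187 : act 7 n190554 = n190538 := d15_2 F380132 F380126 F417185
theorem F417188 : act 7 n190539 = n190555 := d15_2 (iv0 D190538) D190539 (iv2 F417185)
theorem F417189 : act 2 n190554 = n190539 := d4_3 F417188 (iv2 F417185) (iv7 F417187)
theorem F417190 : act 7 n182770 = n191690 := d13_2 F417188 F380127 F384162
theorem F417191 : act 2 n191690 = n182771 := d15_3 F367852 F367853 F417190
theorem F417192 : act 7 n191689 = n182771 := d4_2 (iv7 F417190) F417186 (iv2 F417191)
theorem F417193 : act 7 n183476 = n189895 := d11_2 F417192 (iv4 F394246) (iv4 F417182)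
theorem F417194 : act 2 n189895 = n183475 := d15_3 (iv0 D183475) D183476 F417193
theorem F417195 : act 2 n183476 = n189896 := d15_3 F378147 F378150 (iv7 F417193)
theorem F417196 : act 4 n189896 = n191690 := d1_2 (iv4 F394246) F417195 F417191
theorem F417197 : act 7 n189896 = n183475 := d4_2 (iv7 F417193) F417195 (iv2 F417194)
def n200610 : Q := act 1 n113268
theorem D200610 : act 1 n113268 = n200610 := rfl
theorem F417198 : act 7 n200610 = n197021 := d15_2 (iv0 D200609) D200610 F417184
theorem F417199 : act 3 n197022 = n200610 := d19_19 (iv1 D200610) (iv5 D113268) F82659 F81104 D51382 (iv5 F169012) (iv4 F343087) F289710 (iv1 F343088) (iv5 D91094) D91093 (iv3 F283165) (iv1 F283170) D190643 (iv4 F380437) F377650 (iv1 F176093) F175888 (iv4 F402717)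
theorem F417200 : act 4 n190539 = n200610 := d20_0 (iv1 D200610) F328353 (iv3 D131859) (iv1 F164306) (iv3 F399483) F399484 F332741 (iv4 F284338) (iv3 F380128) (iv1 F380134)
theorem F417201 : act 6 n128673 = n200610 := d21_9 (iv5 D113268) D113266 F399469 (iv6 D196087) F330446 (iv6 F95093) D128638 (iv1 F207302) (iv5 F358266) (iv1 D200610)
theorem F417202 : act 5 n200610 = n125837 := d18_4 (iv1 F377707) (iv4 F380129) (iv1 F380134) F417200 (iv4 F365754) F281401 F281397 F360458 (iv5 F358301)
def n200611 : Q := act 7 n113268
theorem D200611 : act 7 n113268 = n200611 := rfl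
theorem F417203 : act 3 n200611 = n113280 := d8_1 D200611 (iv7 D113280) (iv3 F176466)
theorem F417204 : act 4 n200611 = n196032 := d11_1 D200611 F399131 (iv4 F328353)
theorem F417205 : act 5 n200611 = n113269 := d13_1 D200611 (iv7 D113269) D113268
theorem F417206 : act 0 n197021 = n200611 := d19_0 F417205 F176468 F172892 (iv1 F170839) (iv5 F376101) F376102 F356244 (iv1 F370947) (iv5 D187593) (iv4 F283179) F283178 (iv1 F283169) F367090 (iv4 F415794) (iv3 F415795) (iv1 D112940) F82413 (iv4 F165921) (iv3 F402713)
def n200612 : Q := act 3 n113271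
theorem D200612 : act 3 n113271 = n200612 := rfl
theorem F417207 : act 7 n200612 = n191641 := d8_2 (iv7 F332875) D200612 (iv3 F383994)
theorem F417208 : act 0 n200612 = n186732 := d20_4 F176700 (iv1 F94251) (iv4 F332873) D200612 (iv3 D186732) (iv4 D89072) (iv1 D41603) D41604 D89076 F332868
theorem F417209 : act 6 n113559 = n200612 := d21_3 (iv5 D125707) (iv1 F93084) D113559 F417208 (iv6 F367825) (iv5 F377922) (iv1 F176437) D197011 F402677 (iv1 F202201)
theorem F417210 : act 1 n200612 = n191642 := d15_1 (iv0 F417208) F397691 F397688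
theorem F417211 : act 2 n200612 = n191640 := d3_1 F417209 F384036 F202432
def n200613 : Q := act 6 n113271
theorem D200613 : act 6 n113271 = n200613 := rfl
theorem F417212 : act 2 n200613 = n128632 := d3_1 D200613 (iv6 F342945) (iv2 F332872)
theorem F417213 : act 3 n200613 = n113559 := d7_1 D200613 F417209 (iv3 D200612)
theorem F417214 : act 4 n200613 = n127400 := d10_1 D200613 (iv6 D127400) (iv4 F332873)
theorem F417215 : act 5 n200613 = n113558 := d12_1 D200613 F352202 F207168 (iv6 F206910) (iv5 F332874)
theorem F417216 : act 0 n200613 = n128947 := d21_4 (iv5 D128905) (iv1 F206912) (iv5 F332874) D200613 F339690 (iv5 F382359) F382362 F343629 F343625 (iv1 F207139)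
theorem F417217 : act 0 n113978 = n200613 := d21_4 (iv5 F400082) (iv1 F400084) (iv5 D113977) D113978 (iv6 D200613) F332874 (iv1 F206911) D128908 (iv6 F361702) D195241
def n200614 : Q := act 6 n113280
theorem D200614 : act 6 n113280 = n200614 := rfl
theorem F417218 : act 2 n200614 = n128749 := d3_1 D200614 (iv6 D128749) (iv2 F328350)
theorem F417219 : act 4 n200614 = n113601 := d10_1 D200614 (iv6 D113601) (iv4 F328351)
theorem F417220 : act 7 n200614 = n196033 := d14_2 D113280 D200614 (iv6 D196033) F163832 F328356
theorem F417221 : act 0 n200614 = n196240 := d21_4 F327648 F164131 (iv5 F176477) D200614 F400018 F358175 F358174 (iv5 D132639) F97024 F168041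
theorem F417222 : act 1 n200614 = n196239 := d15_1 (iv0 F417221) (iv7 F400130) F400128
def n200615 : Q := act 0 n113281
theorem D200615 : act 0 n113281 = n200615 := rfl
theorem F417223 : act 3 n200615 = n129066 := d20_5 F40170 D25396 D52287 D113281 D200615 F400061 (iv1 D196251) F358303 (iv3 D113274) (iv1 D52282)
theorem F417224 : act 5 n200615 = n144778 := d21_2 (iv5 F332802) D200615 F396123 (iv1 F396425) F396422 (iv5 F402670) F402671 (iv5 F391724) (iv6 F391729) (iv1 D131987)
theorem F417225 : act 1 n180350 = n200615 := d15_0 (iv0 D200615) (iv7 F395555) F395552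
def n200616 : Q := act 3 n113283
theorem D200616 : act 3 n113283 = n200616 := rfl
theorem F417226 : act 4 n200616 = n133231 := d5_2 D113283 D200616 (iv3 D133231) (iv4 D62521) (iv3 F165642)
theorem F417227 : act 5 n200616 = n113593 := d6_2 (iv5 F332776) D200616 F176751
theorem F417228 : act 7 n200616 = n113592 := d8_2 (iv7 F332777) D200616 F176750
def n200617 : Q := act 6 n113283
theorem D200617 : act 6 n113283 = n200617 := rfl
theorem F417229 : act 2 n200617 = n128739 := d3_1 D200617 (iv6 D128739) (iv2 F176479)
theorem F417230 : act 4 n200617 = n113284 := d10_1 D200617 (iv6 D113284) D113283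
theorem F417231 : act 7 n200617 = n195944 := d14_2 (iv7 F332777) D200617 (iv6 D195944) F165631 F332787
theorem F417232 : act 0 n200617 = n132169 := d21_10 F366018 (iv1 D132023) (iv5 F325499) (iv6 D49370) (iv1 F37733) D49261 (iv5 F332801) F165601 (iv5 F332776) D200617
theorem F417233 : act 1 n200617 = n132163 := d15_1 (iv0 F417232) F211688 (iv2 F211707)
theorem F417234 : act 0 n113543 = n191617 := d20_4 F417230 F176486 D196269 (iv3 F400134) F383977 F151992 D98598 (iv4 F384028) F384027 (iv1 F417233)
def n200618 : Q := act 5 n113287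
theorem D200618 : act 5 n113287 = n200618 := rfl
theorem F417235 : act 6 n200618 = n131967 := d12_2 D113287 D200618 F211441 (iv6 F164191) F332789
theorem F417236 : act 0 n200618 = n125941 := d17_2 F203117 D200618 (iv5 D125941) (iv4 D58965) D58966 (iv0 F164063) F82112 F164081 D126317
theorem F417237 : act 1 n200618 = n125947 := d17_6 D48669 D105272 (iv1 F168647) F168644 (iv4 F176489) D200618 (iv5 D125947) F161343 F76558
def n200619 : Q := act 5 n113290
theorem D200619 : act 5 n113290 = n200619 := rfl
theorem F417238 : act 2 n200619 = n113291 := d2_1 D200619 (iv5 D113291) D113290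
theorem F417239 : act 3 n200619 = n173517 := d6_1 D200619 (iv5 F354831) (iv3 F176500)
theorem F417240 : act 6 n200619 = n173512 := d12_2 F348168 D200619 (iv5 D173512) (iv6 F341888) (iv5 F348167)
theorem F417241 : act 1 n200619 = n163930 := d17_6 D59161 D126192 F358830 (iv5 D113305) (iv4 F176501) D200619 (iv5 D163930) (iv0 F320733) (iv4 D59164)
theorem F417242 : act 0 n200619 = n144815 := d21_1 D200619 F227723 (iv6 F358199) (iv1 D113154) F330144 (iv5 F330139) (iv1 F206092) (iv5 F316546) (iv6 F319442) (iv1 F176502)
def n200620 : Q := act 6 n113291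
theorem D200620 : act 6 n113291 = n200620 := rfl
theorem F417243 : act 2 n200620 = n173512 := d3_1 D200620 (iv6 F417240) F417238
theorem F417244 : act 3 n200620 = n113293 := d7_1 D200620 (iv6 D113293) (iv3 F176504)
theorem F417245 : act 4 n200620 = n186843 := d10_1 D200620 (iv6 F368227) (iv4 F361988)
theorem F417246 : act 5 n200620 = n131357 := d12_1 D200620 (iv6 F213666) F341892 (iv6 D113292) D113291
theorem F417247 : act 0 n200620 = n166390 := d21_4 F176498 (iv1 D113289) D113291 D200620 (iv6 D166390) (iv5 D79889) F340628 D163332 (iv6 F328756) (iv1 D147355)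
def n200621 : Q := act 1 n113296
theorem D200621 : act 1 n113296 = n200621 := rfl
theorem F417248 : act 4 n197873 = n200621 := d20_6 (iv4 D200061) (iv1 F175124) F171193 (iv3 F223540) (iv1 F223548) D197873 (iv1 D200621) F176727 F358897 (iv1 F414848)
theorem F417249 : act 3 n199909 = n200621 := d20_9 F176727 (iv1 D113574) F82769 (iv3 D25446) (iv1 F39800) D52015 F82173 D111978 D199909 (iv1 D200621)
theorem F417250 : act 2 n200621 = n198899 := d0_1 F417249 (iv3 D198899) F170978 D145453 (iv2 F414097)
def n200622 : Q := act 5 n113296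
theorem D200622 : act 5 n113296 = n200622 := rfl
theorem F417251 : act 3 n200622 = n113298 := d6_1 D200622 (iv5 D113298) D113296
theorem F417252 : act 1 n200622 = n128797 := d17_6 (iv1 F168571) D197769 F405706 (iv5 F203751) (iv4 F176727) D200622 (iv5 F341763) F358845 (iv4 D109075)
theorem F417253 : act 0 n200622 = n126255 := d18_0 (iv4 F204041) (iv1 F204142) (iv4 F204141) (iv5 F203754) (iv4 F168701) D197882 F406104 (iv0 F408442) D200622
def n200623 : Q := act 6 n113296
theorem D200623 : act 6 n113296 = n200623 := rfl
theorem F417254 : act 2 n200623 = n172568 := d3_1 D200623 F359818 F358912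
theorem F417255 : act 3 n200623 = n113299 := d7_1 D200623 (iv6 D113299) D113296
theorem F417256 : act 4 n200623 = n140564 := d10_1 D200623 F345108 (iv4 F176727)
theorem F417257 : act 0 n200623 = n181231 := d21_10 (iv5 F356026) F262039 F355918 F355914 F299621 D177428 F341763 (iv1 F417252) (iv5 D200622) D200623
theorem F417258 : act 0 n125880 = n199727 := d21_7 F341763 (iv1 F417252) (iv5 D200622) D200623 F417257 (iv6 F408191) F408190 (iv5 D199727) (iv6 F363309) (iv1 F358845)
theorem F417259 : act 1 n200623 = n181229 := d15_1 (iv0 F417257) (iv7 F416864) F416862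
theorem F417260 : act 7 n181228 = n200623 := d8_0 F417255 (iv7 F416861) (iv3 F416868)
def n200624 : Q := act 0 n113297
theorem D200624 : act 0 n113297 = n200624 := rfl
theorem F417261 : act 4 n200624 = n200139 := d18_1 D200624 F415212 F409937 (iv5 F311877) F206189 (iv0 F316668) (iv4 F232031) F353610 F353600
theorem F417262 : act 3 n200624 = n148209 := d20_5 (iv4 F413913) F413917 (iv4 F358895) F358899 D200624 F232047 (iv1 F174075) (iv4 F175074) F175073 (iv1 F175129)
theorem F417263 : act 2 n200067 = n200624 := d15_3 (iv0 D200624) (iv0 F353620) (iv7 F414879)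
theorem F417264 : act 1 n113302 = n200624 := d15_0 (iv0 D200624) F353641 (iv2 F353636)
theorem F417265 : act 6 n165868 = n200624 := d7_0 F417262 F357450 D165868
def n200625 : Q := act 6 n113297
theorem D200625 : act 6 n113297 = n200625 := rfl
theorem F417266 : act 2 n200625 = n166460 := d3_1 D200625 F395536 F395533
theorem F417267 : act 3 n200625 = n166466 := d7_1 D200625 F358879 F358899
theorem F417268 : act 4 n200625 = n113299 := d10_1 D200625 (iv6 D113299) D113297
theorem F417269 : act 7 n200625 = n166489 := d14_2 (iv7 F353641) D200625 F358925 F300888 (iv6 F236446)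
theorem F417270 : act 0 n147439 = n200625 := d21_4 (iv5 F254383) (iv1 F344723) F344727 (iv6 F344729) (iv6 D200625) (iv5 F353600) (iv1 F353610) (iv5 F349825) (iv6 D159302) (iv1 F254267)
theorem F417271 : act 1 n166399 = n200625 := d15_1 (iv0 F355921) F417269 (iv2 D166489)
def n200626 : Q := act 4 n113298
theorem D200626 : act 4 n113298 = n200626 := rfl
theorem F417272 : act 7 n200626 = n135823 := d11_2 (iv7 F358943) D200626 (iv4 F359051)
theorem F417273 : act 5 n200626 = n187943 := d16_1 D200626 F371901 (iv5 D120437) (iv4 F191881) F353609 (iv4 D113302) D113303 F358946 F358947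
theorem F417274 : act 0 n200626 = n130656 := d18_2 (iv1 F231077) D200626 F209227 (iv5 F342868) F353615 F353612 (iv4 D126191) (iv0 D59161) D59165
theorem F417275 : act 3 n200626 = n187945 := d19_3 D52299 D113298 D200626 F371904 F363675 F363673 F180059 F84196 (iv5 D49387) (iv4 F46300) (iv3 F46302) (iv1 F37087) F18116 F10120 (iv3 F10119) (iv1 F7546) D5721 D12080 D25402
def n200627 : Q := act 6 n113298
theorem D200627 : act 6 n113298 = n200627 := rfl
theorem F417276 : act 5 n189809 = n200627 := d21_8 (iv5 D113390) (iv1 F93355) D126197 (iv6 F398035) (iv1 F398033) D195756 (iv5 F398056) (iv1 F377822) (iv6 D200627) F231076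
def n200628 : Q := act 5 n113299
theorem D200628 : act 5 n113299 = n200628 := rfl
theorem F417277 : act 6 n200628 = n189809 := d12_2 D113299 D200628 F417276 (iv6 D200627) (iv5 D113298)
def n200629 : Q := act 2 n113301
theorem D200629 : act 2 n113301 = n200629 := rfl
theorem F417278 : act 4 n200629 = n172572 := d1_2 F366129 D200629 F360732
theorem F417279 : act 7 n200629 = n172569 := d4_2 F395529 D200629 (iv2 F395528)
theorem F417280 : act 1 n200629 = n191668 := d15_0 (iv0 F395532) F395529 D200629
theorem F417281 : act 1 n197007 = n200629 := d15_0 F417280 (iv7 F409632) F409631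
theorem F417282 : act 6 n200629 = n174849 := d21_5 D157826 (iv1 F354676) (iv5 F354673) (iv6 F384093) (iv1 F417280) (iv5 D174849) D174846 F342135 (iv6 F358039) (iv1 D157824)
def n200630 : Q := act 5 n113301
theorem D200630 : act 5 n113301 = n200630 := rfl
theorem F417283 : act 3 n200630 = n113303 := d6_1 D200630 (iv5 D113303) D113301
theorem F417284 : act 4 n200630 = n193358 := d16_2 F366129 D200630 (iv5 F389565) (iv4 F386879) (iv5 F400226) F332390 F128659 D172572 F360732
theorem F417285 : act 0 n200630 = n200484 := d17_2 (iv1 F409663) D200630 (iv5 D200484) (iv4 D113175) D113176 F355866 (iv5 D110397) D110395 D198868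
theorem F417286 : act 1 n200630 = n200495 := d17_8 (iv1 F383758) F360363 (iv1 F360362) (iv5 F360367) (iv4 F384095) (iv5 F409634) (iv0 F409635) D200630 F416740
def n200631 : Q := act 6 n113301
theorem D200631 : act 6 n113301 = n200631 := rfl
theorem F417287 : act 2 n200631 = n174849 := d3_1 D200631 (iv6 F417282) (iv2 D200629)
theorem F417288 : act 3 n200631 = n113304 := d7_1 D200631 (iv6 D113304) D113301
theorem F417289 : act 4 n200631 = n162799 := d10_1 D200631 (iv6 F360740) F366129
theorem F417290 : act 7 n200631 = n170683 := d14_2 F395529 D200631 (iv6 D170683) (iv7 F195933) (iv6 F395531)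
theorem F417291 : act 5 n160490 = n200631 := d13_3 F417290 (iv5 F339176) (iv7 F253519)
def n200632 : Q := act 4 n113303
theorem D200632 : act 4 n113303 = n200632 := rfl
theorem F417292 : act 2 n200632 = n135823 := d1_1 D200632 (iv4 F359051) (iv2 F358948)
theorem F417293 : act 6 n200632 = n130907 := d10_2 (iv6 F359050) D200632 F333456
theorem F417294 : act 1 n200632 = n130656 := d18_6 (iv1 F415213) (iv4 F417261) (iv1 F417264) (iv4 D113302) D113303 D200632 F209227 D196701 (iv5 F401531)
def n200633 : Q := act 4 n113305
theorem D200633 : act 4 n113305 = n200633 := rfl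
theorem F417295 : act 2 n200633 = n113309 := d1_1 D200633 (iv4 D113309) (iv2 F176512)
theorem F417296 : act 7 n200633 = n195780 := d11_2 F203039 D200633 F398145
theorem F417297 : act 0 n200633 = n195720 := d17_0 F397941 F356663 F356634 F183741 (iv5 D59165) D59162 D126197 F359804 D200633
theorem F417298 : act 1 n200633 = n195779 := d15_1 (iv0 F417297) F398143 (iv2 F397939)
theorem F417299 : act 1 n126279 = n195720 := d15_0 (iv0 F417297) F417296 (iv2 F398146)
def n200634 : Q := act 6 n113305
theorem D200634 : act 6 n113305 = n200634 := rfl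
theorem F417300 : act 2 n200634 = n113310 := d3_1 D200634 (iv6 D113310) (iv2 F176512)
theorem F417301 : act 3 n200634 = n183452 := d7_1 D200634 F345943 F203056
theorem F417302 : act 0 n185856 = n200634 := d20_4 F394693 (iv1 F346115) (iv4 F354361) (iv3 F354360) F417301 (iv4 D183452) F310388 (iv4 F362900) F213562 D132948
theorem F417303 : act 0 n200634 = n187694 := d20_10 (iv4 D187694) (iv1 F288283) (iv4 F399968) F400085 (iv1 F400084) F347556 (iv4 D87568) D87566 D183452 (iv3 F417301)
def n200635 : Q := act 0 n113306
theorem D200635 : act 0 n113306 = n200635 := rfl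
theorem F417304 : act 4 n200635 = n158325 := d18_3 D165611 F348166 D200635 (iv5 D158325) (iv4 F239419) F344413 (iv4 F270505) (iv0 F344411) F320006
theorem F417305 : act 2 n113311 = n200635 := d15_3 (iv0 D200635) F416827 (iv7 F416825)
theorem F417306 : act 3 n200635 = n191572 := d0_2 F365985 F417305 F383872 F347461 (iv2 F276429)
theorem F417307 : act 5 n200635 = n191571 := d2_2 F395398 F417305 (iv2 F395396)
theorem F417308 : act 7 n200635 = n113312 := d4_2 (iv7 F416825) F417305 (iv2 F416823)
theorem F417309 : act 1 n113314 = n200635 := d15_1 (iv0 F416826) F417308 (iv2 F416823)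
def n200636 : Q := act 5 n113306
theorem D200636 : act 5 n113306 = n200636 := rfl
theorem F417310 : act 2 n200636 = n113313 := d2_1 D200636 (iv5 D113313) (iv2 F176513)
def n200637 : Q := act 7 n113306
theorem D200637 : act 7 n113306 = n200637 := rfl
theorem F417311 : act 2 n200637 = n113314 := d4_1 D200637 (iv7 D113314) (iv2 F176513)
theorem F417312 : act 4 n200637 = n167935 := d11_1 D200637 (iv7 F348169) F348166
theorem F417313 : act 1 n113312 = n200637 := d15_1 D113312 (iv7 D200637) F176513
theorem F417314 : act 1 n200637 = n113311 := d15_1 F417313 F416825 F416823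
def n200638 : Q := act 3 n113307
theorem D200638 : act 3 n113307 = n200638 := rfl
theorem F417315 : act 2 n200638 = n198240 := d0_1 D200638 F407317 (iv2 F384091) (iv3 F384089) F352269
theorem F417316 : act 5 n200638 = n113381 := d6_2 (iv5 F351739) D200638 (iv3 D113381)
theorem F417317 : act 7 n200638 = n198242 := d8_2 F359801 D200638 F407325
theorem F417318 : act 0 n200638 = n195786 := d21_1 (iv5 F417316) F398169 F366015 F280703 F364523 (iv5 F382706) (iv1 F288014) (iv5 F358842) (iv6 F358840) (iv1 F358841)
def n200639 : Q := act 4 n113307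
theorem D200639 : act 4 n113307 = n200639 := rfl
theorem F417319 : act 3 n200639 = n185879 := d19_3 D52340 (iv5 F351739) D200639 (iv1 F288351) (iv5 F370741) F370740 F164785 (iv1 F98558) F98560 (iv4 D48804) F37114 F20328 (iv5 F19837) (iv4 F20326) F20325 (iv1 F19807) F18329 D12085 D25417
theorem F417320 : act 6 n187787 = n200639 := d7_0 F417319 F288344 (iv3 F371494)
def n200640 : Q := act 6 n113307
theorem D200640 : act 6 n113307 = n200640 := rfl
theorem F417321 : act 2 n200640 = n195746 := d3_1 D200640 F398035 F352269
theorem F417322 : act 4 n200640 = n187787 := d10_1 D200640 F417320 (iv4 D200639)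
theorem F417323 : act 7 n195747 = n200640 := d11_0 F417322 F371495 F398037
theorem F417324 : act 0 n195716 = n200640 := d18_2 D106239 (iv4 F397924) F417322 (iv5 D187787) F139391 (iv0 F82953) (iv4 F77492) F77490 D49098
theorem F417325 : act 1 n195736 = n200640 := d18_6 (iv1 F227632) (iv4 F227635) (iv1 F164474) F164471 F163271 D195736 F417322 F371497 F177121
def n200641 : Q := act 3 n113308
theorem D200641 : act 3 n113308 = n200641 := rfl
theorem F417326 : act 5 n200641 = n113386 := d6_2 (iv5 F204837) D200641 (iv3 D113386)
theorem F417327 : act 7 n200641 = n191667 := d8_2 (iv7 F352268) D200641 (iv3 F384089)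
theorem F417328 : act 4 n182488 = n200641 := d20_2 (iv4 F352456) D182488 (iv3 D200641) (iv1 D113308) F82680 F40182 (iv1 F37001) F36998 (iv3 F40207) D52395
theorem F417329 : act 2 n200641 = n191666 := d1_1 F417328 F384086 F346641
theorem F417330 : act 1 n200641 = n186733 := d18_8 (iv1 F409663) (iv4 F366129) (iv1 F360742) (iv4 F360726) F352467 D113515 F352462 F417328 (iv5 F409660)
theorem F417331 : act 0 n200641 = n191669 := d20_1 F417328 F384095 (iv3 F384081) (iv1 F384082) (iv3 F380757) (iv4 F416725) (iv1 D182514) F133720 (iv3 F133717) D182488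
def n200642 : Q := act 4 n113308
theorem D200642 : act 4 n113308 = n200642 := rfl
theorem F417332 : act 3 n200642 = n194774 := d20_3 F398145 (iv1 F203042) D200642 (iv1 D194774) F251770 F377845 (iv1 D59201) (iv4 F77535) (iv3 F163290) D195780
theorem F417333 : act 6 n135843 = n200642 := d7_0 F417332 (iv6 F394414) F363736
def n200643 : Q := act 6 n113308
theorem D200643 : act 6 n113308 = n200643 := rfl
theorem F417334 : act 2 n200643 = n154235 := d3_1 D200643 (iv6 F358874) (iv2 F359802)
theorem F417335 : act 4 n200643 = n135843 := d10_1 D200643 F417333 (iv4 D200642)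
theorem F417336 : act 5 n200643 = n123679 := d12_1 D200643 F359793 (iv5 F359779) (iv6 D113389) (iv5 F204837)
theorem F417337 : act 0 n200643 = n113976 := d21_4 (iv5 D126200) (iv1 F93356) (iv5 F204837) D200643 F347554 F330404 (iv1 F297402) (iv5 F333454) F358955 (iv1 F202953)
theorem F417338 : act 0 n195777 = n200643 := d21_4 (iv5 D191130) (iv1 F332556) F359035 (iv6 F398132) (iv6 D200643) F204837 (iv1 D52341) D52343 D113394 F382345
theorem F417339 : act 0 n200627 = n189801 := d21_4 (iv5 D52302) D52299 D113298 D200627 F398356 F398355 F242046 (iv5 F417336) (iv6 D200643) (iv1 D113308)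
def n200644 : Q := act 1 n113309
theorem D200644 : act 1 n113309 = n200644 := rfl
theorem F417340 : act 1 n200644 = n195780 := d15_1 D200644 (iv7 F417296) F417295
theorem F417341 : act 7 n200644 = n195720 := d15_2 (iv0 F377850) D200644 F397939
theorem F417342 : act 2 n195779 = n200644 := d4_3 F417341 F397939 (iv7 F398143)
theorem F417343 : act 6 n195744 = n200644 := d14_5 F417341 (iv6 D195720) F163243 D106242 D195744
def n200645 : Q := act 5 n113309
theorem D200645 : act 5 n113309 = n200645 := rfl
theorem F417344 : act 3 n200645 = n113895 := d6_1 D200645 (iv5 D113895) (iv3 F176514)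
def n200646 : Q := act 5 n113310
theorem D200646 : act 5 n113310 = n200646 := rfl
theorem F417345 : act 3 n200646 = n113317 := d6_1 D200646 (iv5 D113317) (iv3 F176515)
theorem F417346 : act 6 n200646 = n113313 := d12_2 D113310 D200646 (iv5 D113313) (iv6 D52303) D52302
def n200647 : Q := act 7 n113310
theorem D200647 : act 7 n113310 = n200647 := rfl
theorem F417347 : act 3 n200647 = n113318 := d8_1 D200647 (iv7 D113318) (iv3 F176515)
theorem F417348 : act 1 n185856 = n200647 := d15_1 (iv0 F417302) (iv7 D200647) (iv2 F417300)
theorem F417349 : act 1 n200647 = n187694 := d15_1 F417348 (iv7 F374773) F374772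
def n200648 : Q := act 5 n113312
theorem D200648 : act 5 n113312 = n200648 := rfl
theorem F417350 : act 3 n200648 = n128843 := d6_1 D200648 F361729 F341642
theorem F417351 : act 6 n200648 = n195766 := d12_2 F363257 D200648 (iv5 F398085) (iv6 F416919) F416916
theorem F417352 : act 7 n200648 = n191571 := d13_2 F417308 D200648 (iv5 F417307)
theorem F417353 : act 0 n200648 = n196082 := d17_2 (iv1 F417313) D200648 (iv5 F399347) (iv4 D163673) D163674 F354003 F353999 (iv0 F354038) (iv4 F417312)
theorem F417354 : act 1 n195008 = n196082 := d15_0 (iv0 F417353) F417352 (iv2 F395396)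
def n200649 : Q := act 0 n113313
theorem D200649 : act 0 n113313 = n200649 := rfl
def n200650 : Q := act 4 n113313
theorem D200650 : act 4 n113313 = n200650 := rfl
theorem F417355 : act 3 n200650 = n195178 := d19_3 (iv1 D113312) D113313 D200650 (iv1 F396125) F177302 F83106 (iv3 F83089) F327341 D63884 (iv4 F326599) (iv3 D73562) (iv1 F310932) F85174 (iv4 F181016) D146732 (iv1 F336448) (iv5 D124652) D124651 F341642
theorem F417356 : act 5 n195856 = n200650 := d6_0 F417355 F396115 D195856
def n200651 : Q := act 7 n113313
theorem D200651 : act 7 n113313 = n200651 := rfl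
theorem F417357 : act 3 n200651 = n113325 := d8_1 D200651 (iv7 D113325) (iv3 F176516)
theorem F417358 : act 5 n200651 = n113314 := d13_1 D200651 (iv7 D113314) D113313
def n200652 : Q := act 6 n113315
theorem D200652 : act 6 n113315 = n200652 := rfl
theorem F417359 : act 2 n200652 = n196075 := d3_1 D200652 (iv6 F399326) F395848
theorem F417360 : act 3 n200652 = n136331 := d7_1 D200652 F396111 (iv3 F396107)
theorem F417361 : act 4 n200652 = n195120 := d10_1 D200652 (iv6 D195120) (iv4 F395842)
theorem F417362 : act 7 n196088 = n200652 := d11_0 F417361 (iv7 F397711) (iv4 F399362)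
theorem F417363 : act 1 n113996 = n200652 := d17_8 (iv1 F395840) F332601 D126547 F364674 F343643 (iv5 F382352) F382356 F363064 F417361
theorem F417364 : act 0 n135793 = n200652 := d18_0 F417361 (iv1 F395840) F332600 (iv5 F398881) (iv4 D195967) (iv0 D106483) (iv4 F96580) (iv0 F358377) (iv5 F356954)
def n200653 : Q := act 3 n113316
theorem D200653 : act 3 n113316 = n200653 := rfl
theorem F417365 : act 2 n200653 = n196086 := d0_1 D200653 F399357 F396099 F396109 F395849
theorem F417366 : act 7 n200653 = n196076 := d8_2 F395847 D200653 F399330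
theorem F417367 : act 0 n200653 = n195785 := d20_4 F176705 (iv1 F161461) (iv4 F362902) D200653 F398166 (iv4 D106592) (iv1 D49256) (iv4 F77820) (iv3 F164148) F362100
theorem F417368 : act 0 n196085 = n200653 := d20_4 F97277 D62393 (iv4 F354354) (iv3 F399355) (iv3 D200653) F362902 (iv1 D105303) (iv4 F94224) (iv3 F204668) F362097
theorem F417369 : act 5 n130228 = n200653 := d13_3 F417366 F399331 (iv7 F354046)
theorem F417370 : act 6 n196094 = n200653 := d14_5 F417366 (iv6 D196076) (iv7 F164251) D106638 D196094
def n200654 : Q := act 5 n113316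
theorem D200654 : act 5 n113316 = n200654 := rfl
theorem F417371 : act 2 n200654 = n113948 := d2_1 D200654 (iv5 F396110) F395849
theorem F417372 : act 3 n200654 = n130228 := d6_1 D200654 F417369 (iv3 D200653)
theorem F417373 : act 6 n130226 = n200654 := d7_0 F417372 (iv6 D130228) D130226
def n200655 : Q := act 6 n113316
theorem D200655 : act 6 n113316 = n200655 := rfl
theorem F417374 : act 3 n200655 = n196094 := d7_1 D200655 F417370 (iv3 D200653)
theorem F417375 : act 4 n200655 = n195123 := d10_1 D200655 (iv6 D195123) (iv4 F362902)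
theorem F417376 : act 7 n200655 = n196089 := d14_2 F395847 D200655 (iv6 D196089) (iv7 F399325) (iv6 F399326)
theorem F417377 : act 5 n200655 = n190652 := d21_6 F398791 (iv1 F164041) (iv5 F343623) (iv6 F203068) (iv1 F203070) D200655 (iv1 F380455) F415241 F415237 (iv1 F398793)
theorem F417378 : act 0 n195645 = n195123 := d20_1 (iv4 F397713) (iv4 F417375) F417374 (iv1 F417143) (iv3 D132004) (iv4 D61947) (iv1 D29343) (iv4 F46999) (iv3 F96534) D131986
theorem F417379 : act 1 n194004 = n195123 := d15_0 (iv0 F417378) (iv7 F416166) F416163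
def n200656 : Q := act 0 n113317
theorem D200656 : act 0 n113317 = n200656 := rfl
def n200657 : Q := act 1 n113317
theorem D200657 : act 1 n113317 = n200657 := rfl
def n200658 : Q := act 4 n113317
theorem D200658 : act 4 n113317 = n200658 := rfl
theorem F417380 : act 6 n200658 = n113324 := d10_2 (iv6 F176518) D200658 (iv4 D113324)
def n200659 : Q := act 7 n113317
theorem D200659 : act 7 n113317 = n200659 := rfl
theorem F417381 : act 5 n200659 = n113318 := d13_1 D200659 (iv7 D113318) D113317
def n200660 : Q := act 0 n113319
theorem D200660 : act 0 n113319 = n200660 := rfl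
theorem F417382 : act 4 n200660 = n129078 := d20_8 F261912 (iv1 F130052) (iv4 F356018) F176368 F175700 (iv3 F394793) (iv4 F394795) D200660 (iv3 F362484) (iv1 F277847)
theorem F417383 : act 5 n127405 = n200660 := d9_0 F417382 F395112 (iv4 D194941) (iv5 F160601) F147495 F161497 (iv4 F204755) (iv5 F417062) F417061 (iv5 D125686) (iv4 F355932) (iv5 F370032) F370028 F251827 (iv4 F204760)
theorem F417384 : act 6 n129076 = n200660 := d10_0 F417382 (iv6 D129078) D129076
theorem F417385 : act 7 n200660 = n197009 := d14_2 (iv7 F358309) F417384 (iv6 D197009) F395226 (iv6 F377923)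
def n200661 : Q := act 5 n113319
theorem D200661 : act 5 n113319 = n200661 := rfl
theorem F417386 : act 2 n200661 = n194003 := d2_1 D200661 F391724 F366000
theorem F417387 : act 3 n200661 = n113320 := d6_1 D200661 (iv5 D113320) D113319
theorem F417388 : act 7 n200661 = n113554 := d13_2 F176858 D200661 F366362
theorem F417389 : act 4 n200661 = n188713 := d16_2 (iv4 F394795) D200661 F374525 F369265 (iv5 F160661) D194968 (iv5 F395219) F280404 (iv2 F394792)
theorem F417390 : act 1 n200661 = n128601 := d17_8 D188791 F374902 (iv1 F251830) F251827 (iv4 F204760) F417383 (iv0 D200660) D200661 (iv4 F333515)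
theorem F417391 : act 0 n200661 = n186698 := d21_1 D200661 (iv5 F367718) (iv6 D125657) (iv1 F95147) (iv6 F343595) F163213 (iv1 F163226) (iv5 F361400) D200583 (iv1 F417063)
def n200662 : Q := act 4 n113320
theorem D200662 : act 4 n113320 = n200662 := rfl
theorem F417392 : act 2 n200662 = n198931 := d1_1 D200662 (iv4 D198931) (iv2 F176520)
theorem F417393 : act 5 n200662 = n196458 := d16_1 D200662 (iv4 D196458) (iv5 D107004) F78162 (iv5 F39719) (iv4 F82077) D112618 F175228 (iv2 F176520)
def n200663 : Q := act 6 n113320
theorem D200663 : act 6 n113320 = n200663 := rfl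
theorem F417394 : act 2 n200663 = n198932 := d3_1 D200663 (iv6 D198932) (iv2 F176520)
theorem F417395 : act 0 n200663 = n196227 := d21_4 (iv5 D52306) D52305 D113320 D200663 (iv6 D196227) F358364 (iv1 F164550) D196199 F399840 (iv1 D113323)
def n200664 : Q := act 4 n113323
theorem D200664 : act 4 n113323 = n200664 := rfl
theorem F417396 : act 3 n200664 = n132453 := d5_1 D200664 F212552 (iv3 F212544) F348875 (iv3 F365868)
theorem F417397 : act 6 n200664 = n132452 := d10_2 F399840 D200664 (iv4 F399839)
theorem F417398 : act 0 n200664 = n127376 := d18_2 (iv1 F395600) D200664 (iv4 D127376) (iv5 D59827) F45881 (iv0 F39720) (iv4 F82077) F161136 (iv5 F395599)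
def n200665 : Q := act 0 n113324
theorem D200665 : act 0 n113324 = n200665 := rfl
theorem F417399 : act 4 n200665 = n113664 := d18_3 (iv1 D113323) D113324 D200665 F202234 F202232 (iv0 F165043) (iv4 F176715) (iv0 F326807) F326810
def n200666 : Q := act 1 n113324
theorem D200666 : act 1 n113324 = n200666 := rfl
theorem F417400 : act 4 n200666 = n113665 := d18_7 (iv1 F94236) (iv4 D52311) (iv1 D25406) (iv4 F40185) D52306 D113324 D200666 F204694 F204693
theorem F417401 : act 6 n196121 = n200666 := d10_0 F417400 F363270 D196121
def n200667 : Q := act 3 n113324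
theorem D200667 : act 3 n113324 = n200667 := rfl
theorem F417402 : act 4 n200667 = n195178 := d5_2 D113324 D200667 (iv3 F417355) (iv4 D200650) F176516
theorem F417403 : act 0 n200667 = n195844 := d19_4 F82078 D52306 D113324 D200667 (iv5 D195844) (iv4 D106344) (iv3 F163396) (iv1 F234663) (iv5 D149294) (iv4 D70088) F51597 D32524 F51600 F51488 (iv3 F55875) (iv1 F116850) F116846 D58179 (iv3 F326670)
theorem F417404 : act 0 n195793 = n200667 := d20_4 (iv4 F371466) F371467 F209518 (iv3 F398199) (iv3 D200667) (iv4 D113324) D113322 F395590 F230269 D146884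
theorem F417405 : act 5 n200667 = n115025 := d17_3 (iv1 F251158) (iv5 F398201) F417404 (iv4 D115025) (iv5 D53076) F40666 (iv5 F83739) F83773 D115029
theorem F417406 : act 0 n128676 = n200650 := d20_4 (iv4 D128685) (iv1 D60521) (iv4 F95136) (iv3 F206974) F417355 (iv4 F417402) F417403 F398427 F397693 (iv1 F211331)
def n200668 : Q := act 5 n113324
theorem D200668 : act 5 n113324 = n200668 := rfl
theorem F417407 : act 3 n200668 = n115025 := d6_1 D200668 (iv5 F417405) (iv3 D200667)
theorem F417408 : act 4 n200668 = n145357 := d16_2 D113324 D200668 F228401 F104301 F82127 (iv4 F161134) (iv5 F395599) (iv7 D195057) F161132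
theorem F417409 : act 7 n200668 = n145356 := d16_8 (iv4 D196546) (iv5 D107062) F78209 F37843 (iv4 F40185) D52306 D113324 D200668 (iv2 F401034)
theorem F417410 : act 1 n196436 = n200668 := d15_1 F401036 F417409 (iv2 F401034)
def n200669 : Q := act 7 n113324
theorem D200669 : act 7 n113324 = n200669 := rfl
theorem F417411 : act 4 n200669 = n113325 := d11_1 D200669 (iv7 D113325) D113324
theorem F417412 : act 5 n200669 = n145356 := d13_1 D200669 (iv7 F417409) (iv5 D200668)
def n200670 : Q := act 6 n113325
theorem D200670 : act 6 n113325 = n200670 := rfl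
theorem F417413 : act 5 n200670 = n128749 := d12_1 D200670 (iv6 D128749) (iv5 F328123) F161119 (iv5 F176526)
theorem F417414 : act 0 n200670 = n132152 := d21_10 (iv5 D132152) (iv1 F96584) D128651 (iv6 F207305) F409955 (iv6 D198932) (iv5 D110729) F82686 (iv5 F176526) D200670
theorem F417415 : act 1 n200670 = n132155 := d15_1 (iv0 F417414) F211674 (iv2 F211666)
def n200671 : Q := act 0 n113327
theorem D200671 : act 0 n113327 = n200671 := rfl
theorem F417416 : act 5 n200671 = n125942 := d17_3 (iv1 F94228) D113327 D200671 F202435 F93171 F80701 F78636 F45884 (iv4 F40266)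
theorem F417417 : act 3 n200671 = n195013 := d20_5 F361722 (iv1 F136730) D98556 F352188 D200671 (iv4 D195013) (iv1 F361742) (iv4 F361734) (iv3 F361733) F361724
theorem F417418 : act 2 n128933 = n200671 := d15_3 (iv0 D200671) F352201 D128933
theorem F417419 : act 1 n113331 = n200671 := d15_0 (iv0 D200671) (iv7 F202063) F202062
theorem F417420 : act 7 n200671 = n128921 := d15_2 (iv0 F352200) F417419 F207147
theorem F417421 : act 6 n191663 = n200671 := d7_0 F417417 F417169 (iv3 F417170)
theorem F417422 : act 5 n191640 = n191663 := d12_5 F417421 F417416 (iv6 D125942) D125941 (iv6 F384036)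
def n200672 : Q := act 4 n113327
theorem D200672 : act 4 n113327 = n200672 := rfl
theorem F417423 : act 3 n200672 = n191565 := d5_1 D200672 (iv4 D191565) (iv3 D98555) D98556 F352188
theorem F417424 : act 5 n200672 = n196436 := d16_1 D200672 (iv4 D196436) (iv5 D106980) F78158 F40187 D52311 D113331 (iv7 F204683) F204682
def n200673 : Q := act 6 n113327
theorem D200673 : act 6 n113327 = n200673 := rfl
theorem F417425 : act 2 n200673 = n190790 := d3_1 D200673 F381083 F204682
theorem F417426 : act 3 n200673 = n191567 := d7_1 D200673 (iv6 D191567) F352188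
theorem F417427 : act 5 n200673 = n180813 := d12_1 D200673 (iv6 F358040) (iv5 F176627) (iv6 D113328) D113327
theorem F417428 : act 0 n200673 = n180331 := d21_4 (iv5 D52480) (iv1 F94228) D113327 D200673 (iv6 F362857) (iv5 F341594) (iv1 F177834) F322877 (iv6 F363270) (iv1 D113665)
theorem F417429 : act 1 n200673 = n196074 := d15_1 (iv0 F417428) (iv7 D196074) (iv2 F362856)
theorem F417430 : act 7 n190791 = n200673 := d13_0 F417427 F281467 D190791
def n200674 : Q := act 3 n113329
theorem D200674 : act 3 n113329 = n200674 := rfl
theorem F417431 : act 4 n200674 = n197371 := d5_2 D113329 D200674 F404072 F168824 F168820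
theorem F417432 : act 5 n200674 = n124155 := d6_2 F228359 D200674 F371923
theorem F417433 : act 6 n200674 = n196448 := d7_2 (iv6 F176530) D200674 F400709
theorem F417434 : act 7 n200674 = n125487 := d8_2 (iv7 F176531) D200674 F201822
theorem F417435 : act 0 n200674 = n140661 := d20_4 (iv4 D106983) (iv1 F82691) D113329 D200674 F350191 (iv4 D153719) F315361 (iv4 F111981) F111980 (iv1 F171954)
theorem F417436 : act 0 n196732 = n200674 := d21_4 (iv5 D140620) (iv1 F223487) (iv5 F363143) D196732 F417433 F400710 (iv1 D153776) (iv5 D72747) (iv6 F109214) (iv1 F363350)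
def n200675 : Q := act 5 n113330
theorem D200675 : act 5 n113330 = n200675 := rfl
theorem F417437 : act 2 n200675 = n191559 := d2_1 D200675 F383805 (iv2 F359833)
theorem F417438 : act 3 n200675 = n113331 := d6_1 D200675 (iv5 D113331) D113330
def n200676 : Q := act 4 n113331
theorem D200676 : act 4 n113331 = n200676 := rfl
def n200677 : Q := act 6 n113331
theorem D200677 : act 6 n113331 = n200677 := rfl
theorem F417439 : act 5 n200677 = n125729 := d12_1 D200677 (iv6 D125729) F93088 (iv6 F82692) D113331
def n200678 : Q := act 2 n113333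
theorem D200678 : act 2 n113333 = n200678 := rfl
theorem F417440 : act 3 n200678 = n199179 := d0_2 D113333 D200678 (iv2 F411047) (iv3 D126222) F355956
theorem F417441 : act 4 n200678 = n155948 := d1_2 (iv4 F176639) D200678 (iv2 F355950)
theorem F417442 : act 6 n200678 = n128883 := d3_2 F354371 D200678 (iv2 F362261)
theorem F417443 : act 7 n200678 = n195694 := d4_2 F355951 D200678 (iv2 F397881)
theorem F417444 : act 1 n200678 = n195684 := d15_0 (iv0 F397850) F355951 D200678
theorem F417445 : act 1 n195695 = n200678 := d15_0 F417444 F397849 D195695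
def n200679 : Q := act 3 n113334
theorem D200679 : act 3 n113334 = n200679 := rfl
theorem F417446 : act 2 n200679 = n199436 := d0_1 D200679 (iv3 D199436) F355967 D111603 F355966
theorem F417447 : act 4 n200679 = n200046 := d5_2 D113334 D200679 (iv3 F416662) (iv4 F176639) (iv3 D113333)
theorem F417448 : act 7 n200679 = n199455 := d8_2 F355987 D200679 (iv3 F412268)
theorem F417449 : act 0 n200679 = n198704 := d20_4 (iv4 F40189) D52312 D113334 D200679 F408938 F361211 (iv1 F400768) F400766 (iv3 D111507) (iv1 D51428)
theorem F417450 : act 1 n200679 = n198702 := d15_1 (iv0 F417449) (iv7 F414295) F414292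
def n200680 : Q := act 5 n113334
theorem D200680 : act 5 n113334 = n200680 := rfl
theorem F417451 : act 2 n200680 = n199691 := d2_1 D200680 (iv5 D199691) F355966
theorem F417452 : act 7 n200680 = n199759 := d13_2 F355987 D200680 (iv5 D199759)
theorem F417453 : act 4 n200680 = n199551 := d16_2 D113334 D200680 F412640 (iv4 F223848) F360192 F360190 F220873 (iv7 F355957) F355956
theorem F417454 : act 0 n200680 = n199766 := d17_2 F176538 D200680 (iv5 F417099) F417100 F417019 F352470 (iv5 F176605) (iv0 F176604) (iv4 F170516)
theorem F417455 : act 1 n200680 = n198801 := d17_6 (iv1 D52276) D52278 D113262 F219256 D113334 D200680 F409313 (iv0 F380724) (iv4 D113257)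
def n200681 : Q := act 6 n113334
theorem D200681 : act 6 n113334 = n200681 := rfl
theorem F417456 : act 2 n200681 = n199692 := d3_1 D200681 (iv6 D199692) F355966
theorem F417457 : act 4 n200681 = n113336 := d10_1 D200681 (iv6 D113336) D113334
theorem F417458 : act 0 n200681 = n197467 := d21_4 (iv5 F409313) (iv1 F417455) (iv5 D200680) D200681 (iv6 F404461) (iv5 F383310) (iv1 D154716) D154717 (iv6 F350074) F380724
theorem F417459 : act 5 n200681 = n156773 := d21_6 (iv5 F412175) (iv1 D199433) (iv5 F362847) (iv6 F365963) F176538 D200681 (iv1 D156773) (iv5 F208895) F333024 D174901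
theorem F417460 : act 0 n197469 = n200681 := d17_0 F417459 (iv1 D156773) (iv5 F208895) (iv4 D129028) (iv5 F211935) F211934 (iv5 F246740) F246743 (iv4 F404467)
def n200682 : Q := act 4 n113338
theorem D200682 : act 4 n113338 = n200682 := rfl
theorem F417461 : act 2 n200682 = n195081 := d1_1 D200682 F395695 (iv2 F355994)
theorem F417462 : act 3 n200682 = n199434 := d5_1 D200682 (iv4 D199434) (iv3 F176540) (iv4 D113339) D113338
theorem F417463 : act 5 n200682 = n199168 := d9_2 F398680 D200682 (iv4 D199168) (iv5 D111030) (iv4 F102172) D106419 (iv4 F211669) (iv5 F411046) (iv4 F414553) F414550 (iv4 F340044) (iv5 D111028) (iv4 F95186) D106418 D195905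
theorem F417464 : act 7 n200682 = n195080 := d11_2 (iv7 F355958) D200682 F395691
theorem F417465 : act 0 n200682 = n195076 := d17_0 (iv5 F398667) (iv1 F410999) F410997 (iv4 F411036) (iv5 D199178) F172209 (iv5 F342874) F203211 D200682
theorem F417466 : act 1 n200682 = n195084 := d18_6 D52598 (iv4 F329449) F164820 D195905 F398680 D200682 F395707 F342897 F76554
def n200683 : Q := act 5 n113339
theorem D200683 : act 5 n113339 = n200683 := rfl
theorem F417467 : act 2 n200683 = n199759 := d2_1 D200683 (iv5 D199759) (iv2 F355988)
theorem F417468 : act 3 n200683 = n199435 := d6_1 D200683 (iv5 D199435) (iv3 F176540)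
theorem F417469 : act 7 n200683 = n199691 := d13_2 (iv7 F355959) D200683 (iv5 D199691)
theorem F417470 : act 1 n200683 = n199766 := d17_6 (iv1 F161128) (iv5 F203057) (iv1 F203061) F220873 D113339 D200683 (iv5 F417099) (iv0 D200591) (iv4 D113252)
theorem F417471 : act 0 n200683 = n198801 := d18_0 F409312 (iv1 F400489) (iv4 F411997) F411996 (iv4 F176603) (iv0 F176604) (iv4 F170516) (iv0 F203209) D200683
theorem F417472 : act 4 n199552 = n200683 := d17_9 F417471 F409313 F359303 (iv5 F413376) F413377 (iv5 D193254) F345472 F219088 D199552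
def n200684 : Q := act 6 n113342
theorem D200684 : act 6 n113342 = n200684 := rfl
theorem F417473 : act 2 n200684 = n113346 := d3_1 D200684 (iv6 D113346) (iv2 F176541)
theorem F417474 : act 4 n200684 = n188799 := d10_1 D200684 F374943 F219143
theorem F417475 : act 7 n200684 = n195954 := d14_2 F202993 D200684 (iv6 D195954) (iv7 F364690) F349652
theorem F417476 : act 1 n200684 = n127366 := d15_0 (iv0 F399451) F399450 (iv2 F417473)
def n200685 : Q := act 0 n113343
theorem D200685 : act 0 n113343 = n200685 := rfl
theorem F417477 : act 4 n200685 = n123336 := d20_8 F413186 F300933 (iv4 F272941) (iv3 F351053) (iv1 F353976) (iv3 F353978) (iv4 F176543) D200685 F413313 (iv1 F413190)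
theorem F417478 : act 6 n200685 = n125837 := d21_5 D113253 F219099 (iv5 D113342) D113343 D200685 (iv5 F417202) (iv1 D200610) (iv5 D113268) (iv6 D52279) D52275
theorem F417479 : act 0 n200685 = n113350 := d20_7 F172698 (iv1 F173188) F81263 (iv3 F81254) D111623 (iv3 F413313) (iv4 F417477) F176548 F173045 (iv1 F172697)
def n200686 : Q := act 1 n113343
theorem D200686 : act 1 n113343 = n200686 := rfl
theorem F417480 : act 1 n200686 = n113350 := d15_1 D200686 (iv7 D113350) (iv2 F176542)
theorem F417481 : act 4 n123335 = n200686 := d20_0 (iv1 D200686) F176543 F353978 (iv1 D171068) (iv3 D81993) (iv4 D37558) F297482 D27481 D57438 D123335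
theorem F417482 : act 6 n170642 = n200686 := d21_3 F354276 F298486 D170642 (iv1 D200686) (iv6 D113343) D113342 F349669 (iv5 F349670) (iv6 F349673) (iv1 F354274)
theorem F417483 : act 2 n200686 = n113348 := d3_1 F417482 (iv6 F345928) F276733
theorem F417484 : act 3 n200686 = n197002 := d7_1 F417482 F402638 F361716
theorem F417485 : act 5 n200686 = n197001 := d12_1 F417482 F402632 (iv5 D176998) F129436 D170642
theorem F417486 : act 7 n113347 = n200686 := d13_0 F417485 F402633 (iv5 F406044)
theorem F417487 : act 2 n113347 = n200685 := d15_3 (iv0 D200685) D200686 (iv7 F417486)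
theorem F417488 : act 7 n200685 = n113348 := d4_2 (iv7 F417486) F417487 (iv2 F417483)
def n200687 : Q := act 5 n113343
theorem D200687 : act 5 n113343 = n200687 := rfl
theorem F417489 : act 2 n200687 = n113349 := d2_1 D200687 (iv5 D113349) (iv2 F176542)
theorem F417490 : act 3 n200687 = n177013 := d6_1 D200687 F365983 F202955
theorem F417491 : act 0 n125727 = n200687 := d19_0 (iv5 D200687) F176543 F353978 (iv1 D171068) (iv5 F341307) F223550 F169333 (iv1 F173566) (iv5 F359482) (iv4 D117078) F320587 F318337 (iv5 D14942) F11438 (iv3 F11425) D14929 (iv5 F45264) (iv4 F93100) (iv3 F202221)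
theorem F417492 : act 4 n200687 = n199633 := d20_0 (iv1 D199633) F363327 (iv3 D166627) F297451 F326255 (iv4 D59237) (iv1 F100258) (iv4 F93100) (iv3 F202221) F417491
theorem F417493 : act 1 n125719 = n200687 := d15_0 (iv0 F417491) (iv7 D125727) (iv2 F202216)
theorem F417494 : act 3 n199633 = n196868 := d5_1 F417492 (iv4 D196868) (iv3 F402071) (iv4 F365958) (iv3 F417490)
def n200688 : Q := act 7 n113343
theorem D200688 : act 7 n113343 = n200688 := rfl
theorem F417495 : act 2 n200688 = n113350 := d4_1 D200688 (iv7 D113350) (iv2 F176542)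
theorem F417496 : act 3 n200688 = n163035 := d8_1 D200688 F338327 F202955
theorem F417497 : act 4 n200688 = n199622 := d11_1 D200688 (iv7 D199622) (iv4 F176543)
theorem F417498 : act 6 n200688 = n163648 := d14_1 D200688 (iv7 F328513) (iv6 D126226) F93374 D113343
theorem F417499 : act 1 n113348 = n200688 := d15_1 D113348 (iv7 D200688) F176542
theorem F417500 : act 1 n200688 = n113347 := d15_1 F417499 F417486 F417483
theorem F417501 : act 5 n200688 = n125724 := d17_7 D199432 F412170 (iv1 D174902) D174904 (iv4 F333030) (iv5 F362140) F417499 (iv0 D125724) (iv4 F172761)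
theorem F417502 : act 7 n125724 = n200687 := d13_2 D200688 F417501 (iv5 D200687)
def n200689 : Q := act 0 n113346
theorem D200689 : act 0 n113346 = n200689 := rfl
theorem F417503 : act 1 n195954 = n200689 := d15_0 (iv0 D200689) (iv7 F399450) F399447
def n200690 : Q := act 1 n113346
theorem D200690 : act 1 n113346 = n200690 := rfl
theorem F417504 : act 1 n200690 = n195954 := d15_1 D200690 (iv7 F417475) F417473
theorem F417505 : act 3 n131802 = n200690 := d20_3 (iv4 D62605) D62603 (iv4 F211189) (iv1 D200690) F176544 F82697 D52538 (iv4 F204763) (iv3 F363900) F207419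
theorem F417506 : act 2 n200690 = n127366 := d0_1 F417505 F204669 F94232 (iv3 F176853) F358164
theorem F417507 : act 5 n200690 = n127359 := d6_2 (iv5 F358175) F417505 F204609
theorem F417508 : act 7 n200689 = n127366 := d15_2 F417504 F417503 (iv2 F417506)
theorem F417509 : act 3 n127377 = n200689 := d8_3 F417508 F204669 D127377
theorem F417510 : act 5 n127367 = n200689 := d13_3 F417508 (iv5 D127366) D127367
def n200691 : Q := act 5 n113346
theorem D200691 : act 5 n113346 = n200691 := rfl
theorem F417511 : act 3 n200691 = n113353 := d6_1 D200691 (iv5 D113353) (iv3 F176544)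
theorem F417512 : act 6 n200691 = n113349 := d12_2 D113346 D200691 (iv5 D113349) (iv6 D52316) D52315
def n200692 : Q := act 4 n113347
theorem D200692 : act 4 n113347 = n200692 := rfl
theorem F417513 : act 2 n200692 = n123336 := d1_1 D200692 (iv4 F417477) (iv2 F417487)
theorem F417514 : act 7 n200692 = n123335 := d11_2 (iv7 F417486) D200692 F417481
theorem F417515 : act 0 n123339 = n200692 := d20_10 (iv4 D200692) (iv1 F417500) F417497 F412880 F329865 F119606 (iv4 D39059) (iv1 F120663) (iv4 F90622) (iv3 F197651)
theorem F417516 : act 1 n123337 = n200692 := d15_0 (iv0 F417515) (iv7 D123339) D123337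
theorem F417517 : act 6 n180777 = n200692 := d3_0 F417513 F413315 (iv2 F386125)
def n200693 : Q := act 6 n113347
theorem D200693 : act 6 n113347 = n200693 := rfl
theorem F417518 : act 2 n200693 = n125837 := d3_1 D200693 (iv6 F417478) (iv2 F417487)
theorem F417519 : act 4 n200693 = n180777 := d10_1 D200693 F417517 (iv4 D200692)
theorem F417520 : act 7 n200693 = n125836 := d14_2 (iv7 F417486) D200693 (iv6 F386116) F280405 F417482
theorem F417521 : act 0 n125839 = n200693 := d20_10 F417519 (iv1 F281395) (iv4 F380474) F380473 F323108 (iv3 F327555) (iv4 F165609) F161089 F161084 (iv3 F202338)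
theorem F417522 : act 0 n200693 = n125832 := d20_1 (iv4 F417519) (iv4 F405642) F405641 F327610 (iv3 D56644) (iv4 D27232) F30158 D39967 D86342 D180777
def n200694 : Q := act 4 n113348
theorem D200694 : act 4 n113348 = n200694 := rfl
theorem F417523 : act 2 n200694 = n123335 := d1_1 D200694 F417481 F417483
theorem F417524 : act 3 n200694 = n174130 := d5_1 D200694 F272932 (iv3 F273037) (iv4 F411041) F411040
theorem F417525 : act 7 n200694 = n123336 := d11_2 F417488 D200694 (iv4 F417477)
theorem F417526 : act 0 n200694 = n123339 := d17_0 F362847 D199432 F412170 F407490 (iv5 D125726) (iv0 F360478) (iv5 D113349) D113348 D200694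
theorem F417527 : act 0 n123337 = n200694 := d20_10 (iv4 D200694) (iv1 D113348) F82696 F81202 D51435 D111529 F327953 F300916 D160788 (iv3 F364318)
theorem F417528 : act 5 n174129 = n200694 := d13_3 F417525 F413314 F353653
def n200695 : Q := act 1 n113349
theorem D200695 : act 1 n113349 = n200695 := rfl
theorem F417529 : act 1 n200695 = n125724 := d15_1 D200695 F417502 F417489
theorem F417530 : act 7 n200695 = n125719 := d15_2 (iv0 F360478) D200695 F202216
theorem F417531 : act 2 n125727 = n200695 := d4_3 F417530 F202216 D125727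
theorem F417532 : act 3 n200695 = n177422 := d0_2 (iv3 F202221) F417531 (iv2 F377860) F377856 F165877
def n200696 : Q := act 4 n113349
theorem D200696 : act 4 n113349 = n200696 := rfl
theorem F417533 : act 2 n200696 = n199633 := d1_1 D200696 (iv4 F417492) F417489
theorem F417534 : act 0 n124278 = n200696 := d20_10 (iv4 D200696) F360478 (iv4 F172761) F172760 F100284 (iv3 F326254) (iv4 D77342) (iv1 F326968) F326971 (iv3 F198772)
theorem F417535 : act 3 n199620 = n200696 := d20_5 (iv4 D50651) (iv1 F168265) (iv4 F81215) (iv3 F173045) (iv1 F412876) (iv4 D200696) F360478 (iv4 F172761) F172760 F100284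
theorem F417536 : act 7 n200696 = n197892 := d8_2 F412888 F417535 F412909
theorem F417537 : act 5 n197893 = n200696 := d13_3 F417536 (iv5 D197892) D197893
theorem F417538 : act 0 n199877 = n197893 := d19_0 F417537 (iv4 D200696) F176546 (iv1 F170874) (iv5 D110469) F80355 F38772 D24774 (iv5 F78644) (iv4 F100902) F318617 D66124 F101758 (iv4 D51761) (iv3 F168222) F172401 F172398 D111881 D199877
theorem F417539 : act 0 n200696 = n199621 := d21_1 F417537 (iv5 D199621) (iv6 D111512) (iv1 F172722) F348768 (iv5 D74572) D74570 F208888 (iv6 F413928) F417538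
def n200697 : Q := act 7 n113349
theorem D200697 : act 7 n113349 = n200697 := rfl
theorem F417540 : act 2 n200697 = n125724 := d4_1 D200697 F417502 F417489
theorem F417541 : act 3 n200697 = n113361 := d8_1 D200697 (iv7 D113361) (iv3 F176546)
theorem F417542 : act 4 n200697 = n197892 := d11_1 D200697 (iv7 F417536) (iv4 D200696)
theorem F417543 : act 5 n200697 = n113350 := d13_1 D200697 (iv7 D113350) D113349
theorem F417544 : act 1 n125727 = n200697 := d15_1 (iv0 F417491) (iv7 D200697) (iv2 F417489)
theorem F417545 : act 1 n200697 = n125719 := d15_1 F417544 (iv7 F417530) (iv2 F417531)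
def n200698 : Q := act 3 n113351
theorem D200698 : act 3 n113351 = n200698 := rfl
theorem F417546 : act 0 n200698 = n131800 := d19_4 F369266 (iv5 D127410) (iv4 F178281) D200698 (iv5 F348750) F257871 F119801 (iv1 F340266) F205991 F94698 (iv3 F94683) (iv1 F305693) D118814 (iv4 F334864) (iv3 F371273) F371275 F157417 F152550 (iv3 F369264)
theorem F417547 : act 1 n200698 = n198756 := d15_1 (iv0 F417546) F409105 (iv2 F348751)
def n200699 : Q := act 5 n113351
theorem D200699 : act 5 n113351 = n200699 := rfl
theorem F417548 : act 6 n200699 = n129081 := d21_3 (iv5 D113353) D113351 D200699 (iv1 D129081) (iv6 D60680) F46436 (iv1 F46346) D60493 D128622 F365653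
def n200700 : Q := act 6 n113351
theorem D200700 : act 6 n113351 = n200700 := rfl
theorem F417549 : act 4 n200700 = n127411 := d10_1 D200700 (iv6 D127411) (iv4 F178281)
theorem F417550 : act 5 n200700 = n200657 := d21_6 (iv5 D23945) (iv1 F19998) D25409 D52317 D113351 D200700 (iv1 D200657) (iv5 D113317) (iv6 D52304) F40183
def n200701 : Q := act 3 n113352
theorem D200701 : act 3 n113352 = n200701 := rfl
theorem F417551 : act 6 n200701 = n131963 := d7_2 (iv6 F396436) D200701 (iv3 F396438)
theorem F417552 : act 0 n200701 = n191541 := d19_4 F283793 F138557 (iv4 F176549) D200701 (iv5 F394715) (iv4 D194843) (iv3 D104636) (iv1 D48388) (iv5 D23528) F17900 (iv3 D5034) F16091 F291045 F15278 (iv3 F14189) D19443 (iv5 F61512) D87039 D182290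
theorem F417553 : act 5 n190603 = n200701 := d17_1 (iv1 F380268) F417552 (iv5 F394715) (iv4 D194843) F160340 D187281 (iv5 F393407) (iv0 F393411) F321136
def n200702 : Q := act 5 n113352
theorem D200702 : act 5 n113352 = n200702 := rfl
theorem F417554 : act 3 n200702 = n190603 := d6_1 D200702 F417553 (iv3 D200701)
theorem F417555 : act 6 n200702 = n200138 := d12_2 (iv6 F396436) D200702 F415203 F365421 F396437
def n200703 : Q := act 4 n113353
theorem D200703 : act 4 n113353 = n200703 := rfl
theorem F417556 : act 2 n200703 = n128938 := d1_1 D200703 (iv4 F362292) F202973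
theorem F417557 : act 6 n200703 = n113360 := d10_2 (iv6 F176550) D200703 (iv4 D113360)
theorem F417558 : act 7 n200703 = n128939 := d11_2 F341622 D200703 F358178
theorem F417559 : act 5 n200703 = n180024 := d16_3 (iv4 F82697) D113353 D200703 F299405 (iv5 F356000) F146952 (iv5 F161500) (iv7 D105319) F76626
theorem F417560 : act 1 n200703 = n128614 := d18_8 (iv1 D189793) (iv4 F151324) F347482 F347479 (iv5 F325918) (iv4 F207180) (iv0 F362303) D200703 (iv5 F377777)
theorem F417561 : act 3 n200703 = n180025 := d20_3 (iv4 F206906) F365653 D200703 (iv1 F359324) (iv3 D166088) (iv4 F297487) (iv1 D45157) D45158 D96673 (iv1 F362305)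
theorem F417562 : act 1 n128941 = n200703 := d17_6 (iv1 F160599) (iv5 D104790) (iv1 F76200) D103117 (iv4 F377769) F377770 F417559 (iv0 F355999) (iv4 F355936)
def n200704 : Q := act 0 n113355
theorem D200704 : act 0 n113355 = n200704 := rfl
theorem F417563 : act 5 n200704 = n125593 := d17_3 D52318 D113355 D200704 F202031 F165151 (iv0 F165153) (iv5 D52325) (iv0 D25411) (iv4 F40191)
theorem F417564 : act 1 n113357 = n200704 := d15_0 (iv0 D200704) (iv7 F202903) F202902
theorem F417565 : act 2 n129048 = n200704 := d2_3 F417563 (iv2 F202032) (iv5 F355903)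
theorem F417566 : act 7 n129049 = n200704 := d13_0 F417563 F202030 F365655
def n200705 : Q := act 1 n113355
theorem D200705 : act 1 n113355 = n200705 := rfl
theorem F417567 : act 1 n200705 = n113357 := d15_1 D200705 F328361 (iv2 F328357)
theorem F417568 : act 7 n200705 = n129048 := d15_2 (iv0 D200704) D200705 F417565
theorem F417569 : act 5 n200705 = n125592 := d17_7 D58806 (iv5 F167346) (iv1 F168064) (iv5 D59000) (iv4 F168061) D113355 D200705 (iv0 D125592) F92972
theorem F417570 : act 3 n127357 = n200705 := d19_19 (iv1 D200705) (iv5 D113355) F168061 (iv3 D28035) (iv1 F22333) F22329 (iv4 F47798) D30914 (iv1 F318497) F52045 (iv4 F316109) (iv3 F40937) (iv1 F40939) (iv5 D25005) (iv4 F39240) (iv3 F81202) D111517 F412910 F406113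
theorem F417571 : act 6 n200705 = n127356 := d7_2 D127357 F417570 (iv3 D127356)
theorem F417572 : act 2 n129049 = n200705 := d3_3 F417571 (iv2 F412567) F412572
def n200706 : Q := act 5 n113356
theorem D200706 : act 5 n113356 = n200706 := rfl
theorem F417573 : act 2 n200706 = n200133 := d2_1 D200706 F415178 (iv2 F343935)
theorem F417574 : act 3 n200706 = n113357 := d6_1 D200706 (iv5 D113357) D113356
theorem F417575 : act 4 n200706 = n117031 := d9_1 D200706 (iv5 D117031) (iv4 D53935) F78431 (iv4 F82739) F331155 F299386 D170246 F332911 (iv5 D117034) (iv4 D53938) (iv5 F41252) (iv4 F76542) D105232 F332907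
theorem F417576 : act 7 n200706 = n129047 := d13_2 F202898 D200706 F343934
theorem F417577 : act 0 n200706 = n200134 := d17_2 (iv1 F343936) D200706 F415183 (iv4 F328358) (iv5 D113355) (iv0 D52318) D52320 D113359 (iv4 F343937)
theorem F417578 : act 1 n200706 = n200135 := d17_8 (iv1 F414111) (iv5 D117024) (iv1 F165841) (iv5 F394720) F394719 (iv5 F355898) F355896 D200706 F415187
def n200707 : Q := act 6 n113357
theorem D200707 : act 6 n113357 = n200707 := rfl
theorem F417579 : act 2 n200707 = n129060 := d3_1 D200707 F365652 F202902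
theorem F417580 : act 4 n200707 = n195062 := d10_1 D200707 F395619 (iv4 F328360)
theorem F417581 : act 7 n200707 = n128647 := d14_2 (iv7 F328361) D200707 (iv6 D128647) F95103 D60672
theorem F417582 : act 1 n129058 = n200707 := d15_1 D129058 F417581 F206940
theorem F417583 : act 0 n129057 = n200707 := d18_2 D129048 (iv4 F355905) F417580 (iv5 D195062) (iv4 D105217) F76528 (iv4 F82698) (iv0 F163191) (iv5 F327965)
def n200708 : Q := act 3 n113359
theorem D200708 : act 3 n113359 = n200708 := rfl
theorem F417584 : act 5 n200708 = n128786 := d6_2 (iv5 F176553) D200708 (iv3 F402647)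
theorem F417585 : act 7 n200708 = n195028 := d8_2 F202035 D200708 F395485
theorem F417586 : act 0 n200708 = n177440 := d20_10 (iv4 F394719) F394722 (iv4 F346882) F202352 (iv1 F326455) D84524 F299386 D170243 F343937 D200708
theorem F417587 : act 0 n117028 = n200708 := d20_4 F79669 D50287 (iv4 F165565) (iv3 F346879) (iv3 D200708) (iv4 F343937) (iv1 F343936) (iv4 F332907) (iv3 F332904) (iv1 D108910)
def n200709 : Q := act 6 n113359
theorem D200709 : act 6 n113359 = n200709 := rfl
theorem F417588 : act 2 n200709 = n190660 := d3_1 D200709 F380484 (iv2 F202983)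
theorem F417589 : act 4 n200709 = n190781 := d10_1 D200709 F397859 F343937
theorem F417590 : act 5 n200709 = n200663 := d12_1 D200709 (iv6 D200663) (iv5 D113320) D113321 (iv5 F176553)
theorem F417591 : act 7 n200709 = n195699 := d14_2 F202035 D200709 (iv6 D195699) F395469 F395477
theorem F417592 : act 0 n129082 = n200663 := d21_1 D129082 (iv5 F417590) (iv6 D200709) (iv1 D113359) (iv6 F176550) (iv5 D113353) D113351 D200699 F417548 (iv1 D129081)
def n200710 : Q := act 1 n113360
theorem D200710 : act 1 n113360 = n200710 := rfl
theorem F417593 : act 4 n200710 = n113440 := d18_7 (iv1 F168361) (iv4 D52328) (iv1 D25412) (iv4 F40191) D52320 D113360 D200710 F332912 F332899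
theorem F417594 : act 3 n163018 = n200710 := d5_5 F417593 (iv3 F358037) F358041 F357779 (iv4 F357782)
theorem F417595 : act 6 n163599 = n200710 := d10_0 F417593 F358040 (iv4 F281466)
theorem F417596 : act 5 n137100 = n200710 := d16_3 (iv4 F48774) D64445 D137100 F417593 (iv5 F176627) F176528 F82706 F82705 F48767
def n200711 : Q := act 3 n113360
theorem D200711 : act 3 n113360 = n200711 := rfl
theorem F417597 : act 2 n200711 = n199630 := d0_1 D200711 F412917 (iv2 F331149) F362296 F202984
theorem F417598 : act 4 n200711 = n199620 := d5_2 D113360 D200711 F417535 (iv4 D200696) F176546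
theorem F417599 : act 6 n200711 = n180025 := d7_2 F417557 D200711 (iv3 F417561)
theorem F417600 : act 0 n200711 = n126383 := d20_4 F343937 (iv1 D113359) D113360 D200711 F203216 F93518 (iv1 F326196) D37317 D81648 D170243
theorem F417601 : act 5 n177457 = n200711 := d12_5 F417599 (iv5 D180025) (iv6 F276591) F276592 D177457
theorem F417602 : act 7 n199628 = n200711 := d14_0 F417599 (iv7 F299803) (iv6 F380706) (iv7 F380710) F412911
def n200712 : Q := act 5 n113360
theorem D200712 : act 5 n113360 = n200712 := rfl
theorem F417603 : act 2 n200712 = n167709 := d2_1 D200712 (iv5 F362295) F202984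
theorem F417604 : act 3 n200712 = n177457 := d6_1 D200712 F417601 (iv3 D200711)
theorem F417605 : act 4 n200712 = n117024 := d16_2 D113360 D200712 (iv5 D117024) F165827 F82702 (iv4 F93367) (iv5 F202986) (iv7 D126216) F93365
theorem F417606 : act 6 n177456 = n200712 := d7_0 F417604 (iv6 D177457) D177456
def n200713 : Q := act 7 n113360
theorem D200713 : act 7 n113360 = n200713 := rfl
theorem F417607 : act 3 n200713 = n199628 := d8_1 D200713 F417602 (iv3 D200711)
theorem F417608 : act 4 n200713 = n113361 := d11_1 D200713 (iv7 D113361) D113360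
def n200714 : Q := act 6 n113361
theorem D200714 : act 6 n113361 = n200714 := rfl
theorem F417609 : act 0 n200714 = n132149 := d21_10 (iv5 D132149) (iv1 D61993) F47015 (iv6 D28799) D28796 D60672 F327965 F163191 (iv5 F176554) D200714
theorem F417610 : act 1 n200714 = n132144 := d15_1 (iv0 F417609) (iv7 F399430) F399427
def n200715 : Q := act 0 n113362
theorem D200715 : act 0 n113362 = n200715 := rfl
def n200716 : Q := act 1 n113362
theorem D200716 : act 1 n113362 = n200716 := rfl
def n200717 : Q := act 5 n113362
theorem D200717 : act 5 n113362 = n200717 := rfl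
theorem F417611 : act 3 n200717 = n113363 := d6_1 D200717 (iv5 D113363) D113362
theorem F417612 : act 6 n200717 = n128588 := d12_2 F202300 D200717 (iv5 D128588) (iv6 F202307) F364822
theorem F417613 : act 0 n200590 = n200717 := d21_4 F399505 F417092 (iv5 D200589) D200590 F417612 (iv5 D128588) D128585 (iv5 F362262) (iv6 F417442) (iv1 F417445)
theorem F417614 : act 0 n200717 = n194945 := d21_4 F362255 (iv1 D128586) D128588 (iv6 F417612) (iv6 D194945) D194944 F395126 F325918 (iv6 F270670) (iv1 F362253)
def n200718 : Q := act 5 n113364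
theorem D200718 : act 5 n113364 = n200718 := rfl
theorem F417615 : act 2 n200718 = n194952 := d2_1 D200718 (iv5 F395609) F395605
theorem F417616 : act 0 n200718 = n137097 := d17_2 F409786 D200718 (iv5 D137097) F100366 (iv5 F78429) F77454 D59141 (iv0 F170880) D198897
theorem F417617 : act 1 n200718 = n126180 := d17_6 (iv1 D52331) (iv5 D25413) D25411 D52325 D113364 D200718 (iv5 D126180) (iv0 F176564) (iv4 D113370)
theorem F417618 : act 6 n194951 = n200718 := d3_0 F417615 (iv6 D194952) D194951
def n200719 : Q := act 6 n113364
theorem D200719 : act 6 n113364 = n200719 := rfl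
theorem F417619 : act 3 n200719 = n198465 := d7_1 D200719 F408105 F390033
theorem F417620 : act 4 n200719 = n113365 := d10_1 D200719 (iv6 D113365) D113364
theorem F417621 : act 7 n200719 = n143993 := d14_2 (iv7 F221458) D200719 (iv6 D143993) F168112 D138261
theorem F417622 : act 0 n200719 = n196589 := d21_4 D126180 (iv1 F417617) (iv5 D200718) D200719 (iv6 D196589) (iv5 F350537) F345200 (iv5 F345191) F219903 F176564
theorem F417623 : act 0 n199160 = n200719 := d21_4 (iv5 F349537) F408090 F408088 D199160 (iv6 D200719) D200718 F417616 (iv5 D137097) (iv6 F211367) (iv1 F211368)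
def n200720 : Q := act 5 n113366
theorem D200720 : act 5 n113366 = n200720 := rfl
theorem F417624 : act 3 n200720 = n113367 := d6_1 D200720 (iv5 D113367) D113366
theorem F417625 : act 6 n200720 = n177450 := d12_2 (iv6 F345732) D200720 (iv5 F363868) (iv6 D167778) F301020
theorem F417626 : act 7 n200720 = n128724 := d13_2 F345735 D200720 (iv5 F345741)
theorem F417627 : act 4 n200720 = n167779 := d16_2 F345734 D200720 (iv5 F357891) (iv4 D101735) (iv5 D47294) D47293 D101730 F334391 (iv2 F249465)
theorem F417628 : act 0 n200720 = n200631 := d17_2 (iv1 F358033) D200720 (iv5 F417291) F253518 F316549 D83497 (iv5 F333785) F333784 F354490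
def n200721 : Q := act 6 n113367
theorem D200721 : act 6 n113367 = n200721 := rfl
theorem F417629 : act 2 n200721 = n128789 := d3_1 D200721 (iv6 F395619) F395615
theorem F417630 : act 3 n200721 = n177450 := d7_1 D200721 (iv6 F417625) F417624
theorem F417631 : act 4 n200721 = n126176 := d10_1 D200721 (iv6 F365652) (iv4 F364831)
theorem F417632 : act 7 n200721 = n128595 := d14_2 (iv7 F364832) D200721 (iv6 D128595) F95060 D60538
theorem F417633 : act 0 n128786 = n200721 := d21_4 (iv5 F362306) (iv1 F417390) (iv5 D200661) F402648 (iv6 D200721) (iv5 D113367) F168360 D52368 (iv6 F176624) (iv1 F362307)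
theorem F417634 : act 1 n128787 = n200721 := d15_0 (iv0 F417633) (iv7 F402649) (iv2 F348395)
def n200722 : Q := act 3 n113369
theorem D200722 : act 3 n113369 = n200722 := rfl
theorem F417635 : act 4 n200722 = n155134 := d5_2 D113369 D200722 (iv3 D155134) (iv4 F321761) F176320
theorem F417636 : act 6 n200722 = n143994 := d7_2 (iv6 F176561) D200722 (iv3 D143994)
theorem F417637 : act 7 n200722 = n194953 := d8_2 F395606 D200722 F395608
theorem F417638 : act 5 n194954 = n200722 := d13_3 F417637 (iv5 D194953) D194954
def n200723 : Q := act 5 n113369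
theorem D200723 : act 5 n113369 = n200723 := rfl
theorem F417639 : act 3 n200723 = n194954 := d6_1 D200723 F417638 (iv3 D200722)
theorem F417640 : act 6 n200723 = n199888 := d12_2 (iv6 F176561) D200723 F413987 (iv6 F401487) (iv5 D143995)
theorem F417641 : act 7 n200723 = n194952 := d13_2 F395606 D200723 (iv5 F395609)
theorem F417642 : act 0 n200723 = n126180 := d17_2 (iv1 F220700) D200723 (iv5 D126180) (iv4 D59147) (iv5 D28095) D28094 D59145 (iv0 F170887) (iv4 F220698)
theorem F417643 : act 1 n200723 = n137097 := d17_6 D30346 F82702 (iv1 F76532) D52329 D113369 D200723 (iv5 D137097) (iv0 D64444) F48774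
def n200724 : Q := act 5 n113370
theorem D200724 : act 5 n113370 = n200724 := rfl
theorem F417644 : act 2 n200724 = n137101 := d2_1 D200724 F220262 (iv2 F176562)
theorem F417645 : act 3 n200724 = n173851 := d6_1 D200724 (iv5 F370066) F370064
theorem F417646 : act 6 n200724 = n187284 := d12_2 F219903 D200724 (iv5 D187284) (iv6 F138126) (iv5 F345191)
theorem F417647 : act 7 n200724 = n137074 := d13_2 (iv7 F176563) D200724 (iv5 D137074)
theorem F417648 : act 0 n200724 = n137099 := d17_2 F176565 D200724 (iv5 F220261) F204376 F94074 F92973 F80357 F78426 (iv4 F100366)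
theorem F417649 : act 1 n200724 = n137098 := d17_6 (iv1 F176223) F176220 (iv1 F100379) F82706 D113370 D200724 F404525 F404527 F221457
def n200725 : Q := act 2 n113371
theorem D200725 : act 2 n113371 = n200725 := rfl
theorem F417650 : act 4 n200725 = n192831 := d1_2 (iv4 F356138) D200725 (iv2 F387942)
theorem F417651 : act 5 n200725 = n121049 := d2_2 (iv5 F356139) D200725 F193036
theorem F417652 : act 6 n200725 = n133341 := d3_2 (iv6 F176567) D200725 (iv2 D133341)
theorem F417653 : act 7 n200725 = n158862 := d4_2 F402400 D200725 (iv2 F402398)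
theorem F417654 : act 1 n200725 = n158812 := d15_0 (iv0 F402401) F402400 D200725
theorem F417655 : act 1 n144144 = n200725 := d15_0 F417654 F250039 (iv2 F356124)
def n200726 : Q := act 4 n113372
theorem D200726 : act 4 n113372 = n200726 := rfl
theorem F417656 : act 3 n200726 = n145446 := d5_1 D200726 F326465 (iv3 D78211) D78212 (iv3 F357440)
theorem F417657 : act 7 n200726 = n167709 := d11_2 F402406 D200726 (iv4 F402407)
theorem F417658 : act 6 n163489 = n200726 := d7_0 F417656 F326467 D163489
def n200727 : Q := act 6 n113372
theorem D200727 : act 6 n113372 = n200727 := rfl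
theorem F417659 : act 3 n200727 = n121154 := d7_1 D200727 F193221 (iv3 F357440)
theorem F417660 : act 4 n200727 = n163489 := d10_1 D200727 F417658 (iv4 D200726)
theorem F417661 : act 5 n200727 = n131130 := d12_1 D200727 (iv6 D131130) F96038 (iv6 F82708) D113372
theorem F417662 : act 7 n200727 = n164109 := d14_2 F402406 D200727 F366955 F365885 (iv6 F402409)
theorem F417663 : act 0 n194162 = n200727 := d21_4 D176855 F377513 (iv5 F377512) D194162 (iv6 D200727) (iv5 D113372) F82709 D53932 (iv6 F346867) F360322
theorem F417664 : act 0 n200727 = n198512 := d20_4 F112905 (iv1 F296279) D121154 (iv3 F417659) F408179 F169371 (iv1 F161303) D110325 F327057 F258666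
def n200728 : Q := act 0 n113376
theorem D200728 : act 0 n113376 = n200728 := rfl
theorem F417665 : act 5 n200728 = n163726 := d17_1 D200728 F346958 (iv5 F393601) (iv4 D194529) (iv5 F352735) F346761 (iv5 F382179) (iv0 F382180) F220436
theorem F417666 : act 4 n200728 = n166525 := d18_1 D200728 (iv1 F363700) (iv4 F363695) (iv5 D166457) F324252 (iv0 F324251) D165657 F360229 (iv5 F360224)
theorem F417667 : act 1 n199655 = n200728 := d15_0 (iv0 D200728) (iv7 F373444) (iv2 F413025)
theorem F417668 : act 2 n199652 = n200728 := d1_3 F417666 F363712 (iv4 F413014)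
theorem F417669 : act 7 n199653 = n200728 := d11_0 F417666 (iv7 F363711) F413018
def n200729 : Q := act 1 n113376
theorem D200729 : act 1 n113376 = n200729 := rfl
theorem F417670 : act 1 n200729 = n199655 := d15_1 D200729 (iv7 D199655) (iv2 F176573)
theorem F417671 : act 7 n200729 = n199652 := d15_2 (iv0 D200728) D200729 F417668
theorem F417672 : act 4 n200729 = n166526 := d17_9 (iv1 D166526) (iv5 F339839) D178713 (iv5 F366579) (iv4 F278238) F352227 F360229 (iv5 F360224) D200729
theorem F417673 : act 5 n200729 = n177610 := d18_9 (iv1 F368264) F368261 F240158 F344889 (iv5 F342274) (iv4 F382178) (iv0 F382180) F220436 D200729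
theorem F417674 : act 3 n177625 = n200729 := d19_19 (iv1 D200729) F360224 F360226 (iv3 F393475) F393479 (iv5 F344922) F270322 F316272 F125775 (iv5 D39854) F41677 (iv3 F91311) F301737 (iv5 D27058) D27057 (iv3 F301946) (iv1 F113379) D158386 F336432
theorem F417675 : act 6 n197095 = n200729 := d21_3 (iv5 D107672) D107669 F403023 (iv1 D200729) (iv6 D113376) (iv5 D52335) F40197 D49884 D108015 F355513
theorem F417676 : act 2 n199653 = n200729 := d1_3 F417672 (iv2 F363709) F413018
def n200730 : Q := act 0 n113382
theorem D200730 : act 0 n113382 = n200730 := rfl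
theorem F417677 : act 4 n200730 = n195075 := d18_3 D52340 D113382 D200730 (iv5 F401537) F401536 (iv0 F401538) (iv4 F359051) (iv0 D113392) (iv5 D52343)
theorem F417678 : act 1 n113387 = n200730 := d15_0 (iv0 D200730) (iv7 F359769) F359770
theorem F417679 : act 7 n200730 = n159302 := d15_2 (iv0 F416551) F417678 (iv2 F416543)
theorem F417680 : act 3 n159318 = n200730 := d20_9 (iv4 D113387) (iv1 D52341) (iv4 F82715) (iv3 D52334) F40197 D49883 (iv4 F79979) D109707 (iv4 F351034) (iv1 F417678)
theorem F417681 : act 5 n150243 = n200730 := d21_0 (iv1 F417678) F359773 F359775 (iv1 D153215) (iv6 D72335) (iv5 D33384) F25738 D32788 D70725 D150243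
theorem F417682 : act 6 n200730 = n180628 := d7_2 (iv6 F254490) F417680 F281164
def n200731 : Q := act 3 n113382
theorem D200731 : act 3 n113382 = n200731 := rfl
theorem F417683 : act 2 n200731 = n180599 := d0_1 D200731 (iv3 D180599) (iv2 F352270) F203162 (iv2 F359768)
theorem F417684 : act 4 n200731 = n180491 := d5_2 D113382 D200731 F366133 (iv4 F176585) (iv3 D113381)
theorem F417685 : act 7 n200731 = n174040 := d8_2 F359769 D200731 (iv3 F358634)
theorem F417686 : act 0 n200731 = n160737 := d19_4 D113307 F351739 D113382 D200731 (iv5 D160737) (iv4 F347977) (iv3 D116914) F84959 F54576 (iv4 D26151) (iv3 F41450) F41452 F24705 (iv4 F40237) (iv3 D25451) F20016 (iv5 F20061) (iv4 F40182) (iv3 F82680)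
theorem F417687 : act 0 n125449 = n200731 := d20_4 (iv4 F412123) (iv1 F412127) F349854 (iv3 F201730) (iv3 D200731) (iv4 D113382) (iv1 F93354) D126199 (iv3 F403530) (iv1 F403535)
def n200732 : Q := act 1 n113389
theorem D200732 : act 1 n113389 = n200732 := rfl
theorem F417688 : act 1 n200732 = n125798 := d15_1 D200732 F359810 (iv2 F359777)
theorem F417689 : act 7 n200732 = n130233 := d15_2 (iv0 F359780) D200732 F349816
theorem F417690 : act 5 n200732 = n130235 := d17_7 (iv1 F168768) F349804 (iv1 D123672) D123673 F329133 (iv5 F359779) D200732 (iv0 F216263) (iv4 D134220)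
theorem F417691 : act 4 n200732 = n163670 := d17_9 F348428 F348426 (iv1 F342746) (iv5 D163532) D163531 (iv5 F380861) F380864 (iv5 F359779) D200732
theorem F417692 : act 3 n130240 = n200732 := d20_3 (iv4 F348813) F348810 (iv4 F246738) (iv1 D200732) F359778 F319379 (iv1 D83775) D83776 (iv3 F347405) (iv1 F212203)
theorem F417693 : act 2 n200732 = n113568 := d0_1 F417692 (iv3 D113568) F161332 (iv3 F343555) (iv2 F208756)
theorem F417694 : act 6 n163668 = n200732 := d10_0 F417691 (iv6 D163670) D163668
def n200733 : Q := act 3 n113392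
theorem D200733 : act 3 n113392 = n200733 := rfl
theorem F417695 : act 5 n200733 = n140409 := d6_2 F231075 D200733 F223564
theorem F417696 : act 6 n200733 = n132265 := d7_2 F358955 D200733 (iv3 F218470)
theorem F417697 : act 7 n200733 = n200622 := d8_2 F358943 D200733 F417251
theorem F417698 : act 0 n127089 = n200733 := d20_4 F95182 (iv1 F46405) D59641 D127089 (iv3 D200733) F359051 F401538 (iv4 F401536) F401535 (iv1 F165251)
theorem F417699 : act 1 n198754 = n200733 := d15_0 (iv0 F417698) (iv7 F207045) (iv2 F409094)
def n200734 : Q := act 3 n113393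
theorem D200734 : act 3 n113393 = n200734 := rfl
theorem F417700 : act 5 n200734 = n195039 := d6_2 (iv5 F176589) D200734 (iv3 D195039)
theorem F417701 : act 7 n200734 = n200630 := d8_2 F358946 D200734 F417283
theorem F417702 : act 4 n200734 = n190543 := d20_6 (iv4 D137679) (iv1 F219141) F219143 (iv3 F202950) (iv1 F202952) D200734 (iv1 F386665) (iv4 D113500) (iv3 F176686) (iv1 F220846)
theorem F417703 : act 6 n157844 = n200734 := d10_0 F417702 (iv6 D190543) (iv4 F345231)
theorem F417704 : act 0 n191542 = n200734 := d18_0 F417702 (iv1 F386665) (iv4 D113500) (iv5 D52390) D52389 F176676 F176670 (iv0 F395685) (iv5 F383727)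
def n200735 : Q := act 4 n113393
theorem D200735 : act 4 n113393 = n200735 := rfl
theorem F417705 : act 2 n200735 = n200626 := d1_1 D200735 (iv4 D200626) (iv2 F358947)
theorem F417706 : act 7 n200735 = n200632 := d11_2 F358946 D200735 (iv4 D200632)
theorem F417707 : act 5 n200735 = n188904 := d16_1 D200735 F375177 (iv5 D154213) F109588 D150245 (iv4 F353643) F231075 (iv7 F358943) (iv2 F358947)
theorem F417708 : act 0 n135727 = n200735 := d20_10 (iv4 D200735) (iv1 D113393) (iv4 F104875) (iv3 D68664) F327872 F99186 F48383 D30109 D63817 D135727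
theorem F417709 : act 3 n188905 = n200735 := d6_3 F417707 (iv3 D188904) D188905
def n200736 : Q := act 6 n113393
theorem D200736 : act 6 n113393 = n200736 := rfl
theorem F417710 : act 2 n200736 = n200627 := d3_1 D200736 (iv6 D200627) (iv2 F358947)
theorem F417711 : act 3 n200736 = n157844 := d7_1 D200736 F417703 (iv3 D200734)
theorem F417712 : act 5 n157843 = n200736 := d21_8 (iv5 D52343) D52340 (iv5 F351739) D200640 (iv1 F417325) (iv6 F397993) (iv5 D169919) F248748 (iv6 D200736) (iv1 D113393)
theorem F417713 : act 0 n169936 = n200736 := d20_4 (iv4 D45049) (iv1 F294458) F294460 D169936 F417711 F345231 (iv1 F152090) F345229 F132099 (iv1 F70911)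
def n200737 : Q := act 5 n113394
theorem D200737 : act 5 n113394 = n200737 := rfl
theorem F417714 : act 2 n200737 = n191092 := d2_1 D200737 (iv5 F399453) F399452
theorem F417715 : act 3 n200737 = n113401 := d6_1 D200737 (iv5 D113401) (iv3 F176590)
theorem F417716 : act 6 n200737 = n113397 := d12_2 D113394 D200737 (iv5 D113397) (iv6 D52344) D52343
theorem F417717 : act 4 n200737 = n190245 := d16_4 (iv4 F180979) (iv5 F335879) F229795 D200737 (iv5 D190245) F317110 D127503 F350185 F180952
theorem F417718 : act 7 n191094 = n200737 := d11_0 F417717 F379175 D191094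
def n200738 : Q := act 7 n113394
theorem D200738 : act 7 n113394 = n200738 := rfl
theorem F417719 : act 2 n200738 = n195952 := d4_1 D200738 (iv7 F399455) F399452
theorem F417720 : act 3 n200738 = n113402 := d8_1 D200738 (iv7 D113402) (iv3 F176590)
theorem F417721 : act 5 n200738 = n191094 := d13_1 D200738 F417718 (iv5 D200737)
theorem F417722 : act 1 n195952 = n191130 := d15_0 (iv0 F382345) D200738 F417719
def n200739 : Q := act 6 n113395
theorem D200739 : act 6 n113395 = n200739 := rfl
theorem F417723 : act 4 n200739 = n180253 := d10_1 D200739 F345774 (iv4 F328088)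
theorem F417724 : act 0 n163673 = n200739 := d18_2 (iv1 F258001) D163673 F417723 F345773 F346980 (iv0 F366647) F213661 D133007 (iv5 F341918)
theorem F417725 : act 1 n163668 = n200739 := d18_6 (iv1 F249434) (iv4 F344389) F344386 (iv4 F249087) F341884 D163668 F417723 (iv0 F345777) F249453
def n200740 : Q := act 3 n113396
theorem D200740 : act 3 n113396 = n200740 := rfl
theorem F417726 : act 2 n200740 = n177636 := d0_1 D200740 (iv3 F364115) (iv2 F262249) (iv3 F262246) (iv2 F328091)
theorem F417727 : act 4 n200740 = n132882 := d5_2 (iv4 F328092) D200740 F337541 (iv4 D78679) (iv3 F119835)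
theorem F417728 : act 6 n200740 = n177617 := d7_2 F358956 D200740 (iv3 F341712)
def n200741 : Q := act 0 n113397
theorem D200741 : act 0 n113397 = n200741 := rfl
theorem F417729 : act 5 n200741 = n163502 := d17_3 (iv1 D113396) D113397 D200741 F258255 (iv5 F281158) F281156 F254301 (iv0 F254300) (iv4 F328092)
theorem F417730 : act 3 n200741 = n166611 := d20_5 F96535 D106502 F349633 (iv3 F176591) D200741 (iv4 F380448) (iv1 D190649) (iv4 F380443) F380442 (iv1 D131991)
theorem F417731 : act 1 n163649 = n200741 := d15_0 (iv0 D200741) F328097 F262269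
def n200742 : Q := act 4 n113397
theorem D200742 : act 4 n113397 = n200742 := rfl
theorem F417732 : act 2 n200742 = n191093 := d1_1 D200742 (iv4 F382196) (iv2 F328096)
theorem F417733 : act 6 n200742 = n190245 := d10_2 F417716 D200742 (iv4 F417717)
theorem F417734 : act 7 n200742 = n187275 := d11_2 (iv7 F328097) D200742 F369682
theorem F417735 : act 5 n200742 = n187265 := d16_1 D200742 F369657 (iv5 F358132) (iv4 D121158) (iv5 F250810) D78625 D163649 (iv7 F262254) (iv2 F328096)
theorem F417736 : act 0 n200742 = n163464 := d18_2 F358967 D200742 (iv4 D163464) (iv5 D78554) F56455 D35793 D78576 F254258 (iv5 F358969)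
theorem F417737 : act 1 n200742 = n187424 := d18_6 (iv1 F122744) F122742 (iv1 F57200) (iv4 F327622) D113397 D200742 F370275 F347525 F262194
def n200743 : Q := act 3 n113399
theorem D200743 : act 3 n113399 = n200743 := rfl
theorem F417738 : act 5 n200743 = n131957 := d6_2 (iv5 F341619) D200743 F341614
theorem F417739 : act 6 n200743 = n191594 := d7_2 (iv6 F341620) D200743 (iv3 F395882)
theorem F417740 : act 4 n200743 = n129444 := d20_6 F382322 F360948 F229795 F176590 D113399 D200743 (iv1 F211835) (iv4 F214456) F214455 (iv1 F382324)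
theorem F417741 : act 5 n129444 = n136340 := d17_5 (iv1 F399220) (iv5 F399224) (iv1 F399226) (iv5 F417738) F417740 (iv0 D136340) (iv5 D64099) D64097 D136336
theorem F417742 : act 0 n195701 = n200743 := d21_4 (iv5 F163213) (iv1 F163215) D106215 D195701 F417739 F395883 F367729 (iv5 F367820) (iv6 F367825) (iv1 F163225)
def n200744 : Q := act 6 n113400
theorem D200744 : act 6 n113400 = n200744 := rfl
theorem F417743 : act 4 n200744 = n195129 := d10_1 D200744 (iv6 D195129) F343643
theorem F417744 : act 0 n200744 = n125924 := d21_10 (iv5 D125924) (iv1 F201988) F201985 F163234 F177631 D113996 (iv5 F363064) (iv1 F382356) F382352 D200744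
def n200745 : Q := act 0 n113401
theorem D200745 : act 0 n113401 = n200745 := rfl
theorem F417745 : act 5 n200745 = n196088 := d17_1 D200745 (iv1 F399364) (iv5 F382359) F382358 (iv5 F372189) (iv0 D188040) D188042 F398990 F398987
theorem F417746 : act 6 n200745 = n189702 := d21_5 (iv5 D113406) (iv1 D52347) D52348 (iv6 F176593) D200745 F377457 (iv1 D181695) (iv5 F294062) D191184 F382513
theorem F417747 : act 2 n189705 = n200745 := d3_3 F417746 F377456 D189705
theorem F417748 : act 4 n189703 = n200745 := d10_3 F417746 (iv4 D189702) D189703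
def n200746 : Q := act 1 n113401
theorem D200746 : act 1 n113401 = n200746 := rfl
theorem F417749 : act 7 n200746 = n189705 := d15_2 (iv0 D200745) D200746 F417747
theorem F417750 : act 5 n200746 = n196075 := d17_7 (iv1 D63754) D63756 (iv1 F322884) (iv5 D52526) (iv4 F82729) D113401 D200746 (iv0 F399328) F211528
theorem F417751 : act 4 n200746 = n164206 := d17_9 F398928 F398927 (iv1 D115042) F83783 (iv4 F96580) (iv5 F341619) (iv0 D113399) D113401 D200746
theorem F417752 : act 3 n191205 = n200746 := d20_9 (iv4 F398987) (iv1 F398990) (iv4 F372199) (iv3 F399269) F399271 (iv3 F382602) F382603 (iv1 F370086) F382570 (iv1 D200746)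
theorem F417753 : act 6 n164205 = n200746 := d21_3 D106536 (iv1 F363070) (iv5 F363068) (iv1 D200746) F176593 (iv5 D52348) D52346 D113404 (iv6 F347536) (iv1 D106535)
def n200747 : Q := act 7 n113401
theorem D200747 : act 7 n113401 = n200747 := rfl
theorem F417754 : act 3 n200747 = n191094 := d8_1 D200747 F417718 F417715
theorem F417755 : act 5 n200747 = n113402 := d13_1 D200747 (iv7 D113402) D113401
theorem F417756 : act 0 n189705 = n200747 := d17_0 F417755 (iv1 F343638) F343640 F211657 (iv5 F179157) F250842 (iv5 F377473) (iv0 D189706) (iv4 F377467)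
def n200748 : Q := act 5 n113403
theorem D200748 : act 5 n113403 = n200748 := rfl
theorem F417757 : act 2 n200748 = n190783 := d2_1 D200748 (iv5 D190783) (iv2 F364788)
theorem F417758 : act 3 n200748 = n113404 := d6_1 D200748 (iv5 D113404) D113403
theorem F417759 : act 6 n200748 = n131982 := d21_3 (iv5 F348402) (iv1 F364790) D200748 (iv1 F399199) F399195 (iv5 D132009) (iv1 F164232) (iv5 F341594) F171473 (iv1 F164649)
def n200749 : Q := act 6 n113403
theorem D200749 : act 6 n113403 = n200749 := rfl
theorem F417760 : act 2 n200749 = n128892 := d3_1 D200749 F362298 (iv2 F364788)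
theorem F417761 : act 3 n200749 = n113405 := d7_1 D200749 (iv6 D113405) D113403
theorem F417762 : act 4 n200749 = n128851 := d10_1 D200749 F392622 F364789
theorem F417763 : act 5 n200749 = n127408 := d12_1 D200749 (iv6 F325756) (iv5 F211470) (iv6 F417759) (iv5 D200748)
theorem F417764 : act 7 n200749 = n127407 := d14_2 F202938 D200749 F204769 F332908 (iv6 F202937)
theorem F417765 : act 1 n125657 = n200749 := d15_1 (iv0 F364828) F417764 F204768
theorem F417766 : act 1 n200749 = n128894 := d15_1 F417765 (iv7 D128894) (iv2 F202134)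
def n200750 : Q := act 6 n113409
theorem D200750 : act 6 n113409 = n200750 := rfl
theorem F417767 : act 3 n200750 = n191189 := d7_1 D200750 F382531 F365683
theorem F417768 : act 4 n200750 = n196144 := d10_1 D200750 (iv6 D196144) F343626
theorem F417769 : act 0 n200750 = n129072 := d21_10 (iv5 D129072) (iv1 F206947) F206944 F164278 (iv1 F164550) (iv6 F347535) (iv5 D126186) F163884 (iv5 F176598) D200750
theorem F417770 : act 0 n129077 = n200750 := d21_4 F373525 (iv1 F373489) (iv5 F358378) (iv6 F358222) (iv6 D200750) F176598 (iv1 F163887) D126189 (iv6 F362869) (iv1 F373528)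
def n200751 : Q := act 0 n113419
theorem D200751 : act 0 n113419 = n200751 := rfl
theorem F417771 : act 5 n200751 = n128626 := d17_1 D200751 F358349 (iv5 F95271) (iv4 F207274) F207275 F201790 (iv5 F409341) (iv0 D196464) F343553
theorem F417772 : act 4 n200751 = n199733 := d18_3 (iv1 D196465) F343553 D200751 (iv5 F415534) (iv4 D200212) (iv0 D112842) F82326 D110923 (iv5 F400759)
theorem F417773 : act 2 n113555 = n200751 := d15_3 (iv0 D200751) (iv0 F348764) F202431
theorem F417774 : act 1 n128934 = n200751 := d15_0 (iv0 D200751) F343550 F343548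
theorem F417775 : act 7 n200751 = n128634 := d15_2 F348765 F417774 (iv2 F358324)
def n200752 : Q := act 4 n113421
theorem D200752 : act 4 n113421 = n200752 := rfl
theorem F417776 : act 2 n200752 = n125714 := d1_1 D200752 (iv4 F395684) F395683
theorem F417777 : act 3 n200752 = n126040 := d5_1 D200752 (iv4 F202740) (iv3 F176612) (iv4 D113422) D113421
theorem F417778 : act 6 n200752 = n195078 := d10_2 (iv6 F343543) D200752 F395684
theorem F417779 : act 7 n200752 = n128691 := d11_2 (iv7 F343539) D200752 F206986
theorem F417780 : act 0 n200752 = n195025 := d20_1 D200752 F395467 D195684 (iv1 F417444) F417440 (iv4 F414553) F414554 F395707 F342898 (iv1 F342906)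
theorem F417781 : act 0 n195689 = n200752 := d20_10 (iv4 D200752) F201970 (iv4 D125554) D125553 (iv1 F416895) (iv3 D200530) (iv4 F416607) (iv1 F416695) D200492 F416712
def n200753 : Q := act 5 n113421
theorem D200753 : act 5 n113421 = n200753 := rfl
theorem F417782 : act 3 n200753 = n113423 := d6_1 D200753 (iv5 D113423) D113421
theorem F417783 : act 0 n113933 = n200753 := d21_1 F415203 (iv5 D200753) F343543 F202213 F355901 (iv5 D110469) D110467 F365655 (iv6 F412572) F415205
def n200754 : Q := act 5 n113422
theorem D200754 : act 5 n113422 = n200754 := rfl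
theorem F417784 : act 2 n200754 = n198759 := d2_1 D200754 (iv5 D198759) (iv2 F204665)
theorem F417785 : act 3 n200754 = n197728 := d6_1 D200754 F405541 (iv3 F176612)
theorem F417786 : act 6 n200754 = n192225 := d12_2 (iv6 F343546) D200754 (iv5 F412642) F412644 F405547
theorem F417787 : act 7 n200754 = n188403 := d13_2 (iv7 F204631) D200754 (iv5 F373316)
theorem F417788 : act 4 n200754 = n126776 := d16_2 D113422 D200754 (iv5 D126776) F93902 D59503 (iv4 F176609) (iv5 D113418) (iv7 F204618) F204617
theorem F417789 : act 1 n200754 = n197590 := d17_6 (iv1 F94217) D127358 (iv1 F204623) (iv5 D113423) D113422 D200754 F404940 F204599 (iv4 D113581)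
def n200755 : Q := act 4 n113423
theorem D200755 : act 4 n113423 = n200755 := rfl
theorem F417790 : act 2 n200755 = n126625 := d1_1 D200755 (iv4 F204614) (iv2 F204619)
theorem F417791 : act 5 n200755 = n126624 := d9_2 D113423 D200755 (iv4 F329618) F143965 (iv4 F286584) F361217 (iv4 D113417) D113418 F176609 (iv5 D59503) (iv4 F93902) D126776 (iv4 F417788) (iv5 D200754) (iv4 D113422)
theorem F417792 : act 7 n200755 = n126793 := d11_2 F204620 D200755 F204624
theorem F417793 : act 0 n200755 = n126796 := d17_0 F336591 (iv1 D59547) D59549 (iv4 F176741) (iv5 D113582) (iv0 D52426) (iv5 F82757) (iv0 F204622) D200755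
theorem F417794 : act 1 n200755 = n126795 := d18_6 F358834 (iv4 F170312) F176613 (iv4 D113422) D113423 D200755 F204049 (iv0 F409799) (iv5 D198242)
theorem F417795 : act 6 n194383 = n200755 := d21_3 (iv5 F354110) F355178 D194383 F417793 F336592 F321981 D79206 (iv5 F336560) (iv6 F336574) (iv1 F212645)
theorem F417796 : act 3 n126735 = n200755 := d6_3 F417791 F203699 D126735
def n200756 : Q := act 6 n113423
theorem D200756 : act 6 n113423 = n200756 := rfl
theorem F417797 : act 4 n200756 = n194383 := d10_1 D200756 F417795 (iv4 D200755)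
theorem F417798 : act 0 n200756 = n113546 := d21_4 (iv5 D195067) (iv1 F161180) D113423 D200756 (iv6 F416710) F338378 (iv1 D96345) D96347 (iv6 F338381) (iv1 F395640)
def n200757 : Q := act 4 n113425
theorem D200757 : act 4 n113425 = n200757 := rfl
theorem F417799 : act 2 n200757 = n113429 := d1_1 D200757 (iv4 D113429) (iv2 F176615)
theorem F417800 : act 5 n200757 = n199008 := d9_2 D113425 D200757 (iv4 D199008) F171679 (iv4 D109087) (iv5 D50362) (iv4 F76543) D105237 D195069 F395652 F220264 D199010 F410308 (iv5 D197769) F168569
theorem F417801 : act 6 n200757 = n188732 := d10_2 F331159 D200757 F374624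
theorem F417802 : act 7 n200757 = n129314 := d11_2 F395639 D200757 (iv4 F395643)
theorem F417803 : act 3 n200757 = n129323 := d20_3 (iv4 F176741) (iv1 F176745) D200757 (iv1 F350885) F95418 F46515 (iv1 F23019) D28310 D59655 (iv1 F325894)
theorem F417804 : act 0 n141791 = n200757 := d21_4 (iv5 D82504) F311919 (iv5 F311925) (iv6 F359165) F417801 F374625 F310253 F348865 (iv6 D128992) F314447
def n200758 : Q := act 3 n113428
theorem D200758 : act 3 n113428 = n200758 := rfl
theorem F417805 : act 5 n200758 = n127356 := d6_2 F203754 D200758 (iv3 D127356)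
theorem F417806 : act 6 n200758 = n125936 := d7_2 (iv6 F359786) D200758 (iv3 F359798)
theorem F417807 : act 0 n131825 = n200758 := d20_4 F172211 (iv1 D106421) (iv4 F96432) (iv3 F211240) (iv3 D200758) F204141 F325314 (iv4 F207044) (iv3 D128797) (iv1 F172209)
def n200759 : Q := act 0 n113429
theorem D200759 : act 0 n113429 = n200759 := rfl
theorem F417808 : act 1 n129314 = n200759 := d15_0 (iv0 D200759) (iv7 F395651) F395649
def n200760 : Q := act 1 n113429
theorem D200760 : act 1 n113429 = n200760 := rfl
theorem F417809 : act 1 n200760 = n129314 := d15_1 D200760 (iv7 F417802) F417799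
theorem F417810 : act 4 n200760 = n200733 := d18_7 (iv1 F358841) F176585 (iv1 D108651) F79502 D52363 D113429 D200760 (iv0 F417698) (iv5 F358839)
theorem F417811 : act 5 n200760 = n196828 := d18_9 F401934 F204205 (iv1 D110854) (iv4 F93774) D126639 (iv4 F203740) (iv0 D113427) D113429 D200760
theorem F417812 : act 6 n129531 = n200760 := d21_3 F313635 F311277 F215416 (iv1 D200760) (iv6 F176618) F331165 (iv1 F337892) (iv5 D135289) (iv6 D63603) (iv1 F207718)
theorem F417813 : act 2 n200760 = n141791 := d3_1 F417812 F359165 F311922
theorem F417814 : act 3 n200760 = n196829 := d7_1 F417812 (iv6 F401940) (iv3 F212509)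
theorem F417815 : act 7 n200759 = n141791 := d15_2 F417809 F417808 (iv2 F417813)
theorem F417816 : act 3 n129591 = n200759 := d8_3 F417815 (iv3 D141791) (iv7 F359097)
def n200761 : Q := act 3 n113431
theorem D200761 : act 3 n113431 = n200761 := rfl
theorem F417817 : act 4 n200761 = n199619 := d5_2 F402054 D200761 (iv3 F412884) (iv4 D196864) (iv3 F402052)
theorem F417818 : act 5 n200761 = n167722 := d6_2 (iv5 F331146) D200761 (iv3 D167722)
theorem F417819 : act 7 n200761 = n199630 := d8_2 (iv7 F331147) D200761 F412917
theorem F417820 : act 0 n126383 = n200761 := d20_4 F149085 (iv1 F327013) (iv4 F93518) (iv3 F203216) (iv3 D200761) (iv4 F402054) F402055 F325520 F324401 (iv1 F298907)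
theorem F417821 : act 6 n200761 = n157752 := d21_5 (iv5 F220845) (iv1 F220882) (iv5 D126382) D126383 F417820 F380715 (iv1 F377703) (iv5 F380701) (iv6 F401313) F401314
theorem F417822 : act 2 n199628 = n200761 := d15_3 (iv0 F417820) (iv0 F417600) (iv7 F417602)
def n200762 : Q := act 6 n113431
theorem D200762 : act 6 n113431 = n200762 := rfl
theorem F417823 : act 2 n200762 = n199742 := d3_1 D200762 (iv6 F413335) (iv2 F331145)
theorem F417824 : act 3 n200762 = n157752 := d7_1 D200762 (iv6 F417821) (iv3 D200761)
theorem F417825 : act 4 n200762 = n160433 := d10_1 D200762 F412088 F402054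
theorem F417826 : act 7 n200762 = n199741 := d14_2 (iv7 F331147) D200762 F413333 (iv7 F277852) F360412
theorem F417827 : act 0 n200762 = n189816 := d21_4 (iv5 D84509) F300168 (iv5 F331146) D200762 F377863 D199734 F413299 F360426 (iv6 F360410) F326458
theorem F417828 : act 1 n200762 = n199743 := d15_1 (iv0 F417827) (iv7 D199743) (iv2 F377862)
def n200763 : Q := act 4 n113432
theorem D200763 : act 4 n113432 = n200763 := rfl
theorem F417829 : act 2 n200763 = n143828 := d1_1 D200763 F358853 (iv2 F331149)
theorem F417830 : act 3 n200763 = n198103 := d5_1 D200763 (iv4 F406807) F202970 D126215 (iv3 F362296)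
theorem F417831 : act 5 n200763 = n142765 := d9_2 (iv5 F331150) D200763 (iv4 D142765) (iv5 F322205) (iv4 D36697) D36698 D80486 (iv5 F331146) (iv4 F402054) (iv5 D196860) F165441 (iv5 F318313) (iv4 D36692) D36693 D80480
theorem F417832 : act 7 n200763 = n198114 := d11_2 (iv7 F331151) D200763 F406891
theorem F417833 : act 0 n200763 = n167690 := d17_0 (iv5 D167690) D167687 (iv5 F400875) (iv4 F400876) F360407 F297452 (iv5 F331139) D113432 D200763
theorem F417834 : act 1 n200763 = n160386 := d18_6 F326480 (iv4 D120872) F297855 D80480 (iv5 F331150) D200763 F325520 D166620 (iv5 F326483)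
def n200764 : Q := act 6 n113432
theorem D200764 : act 6 n113432 = n200764 := rfl
theorem F417835 : act 2 n200764 = n178289 := d3_1 D200764 F360412 (iv2 F331149)
theorem F417836 : act 3 n200764 = n128938 := d7_1 D200764 F362294 (iv3 F362296)
theorem F417837 : act 5 n200764 = n178284 := d12_1 D200764 (iv6 F381122) F381119 F192982 (iv5 F331150)
def n200765 : Q := act 5 n113435
theorem D200765 : act 5 n113435 = n200765 := rfl
theorem F417838 : act 2 n200765 = n200660 := d2_1 D200765 (iv5 F417383) (iv2 F204762)
theorem F417839 : act 7 n200765 = n200583 := d13_2 (iv7 F204764) D200765 F417062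
theorem F417840 : act 1 n200765 = n124606 := d17_8 (iv1 F417066) F417067 (iv1 D194278) (iv5 F392621) (iv4 F417762) F417763 F204774 D200765 (iv4 F299401)
theorem F417841 : act 0 n200765 = n113668 := d21_1 D200765 (iv5 F366362) (iv6 D113554) (iv1 D52405) (iv6 D25436) (iv5 D12090) D12087 D25424 D52365 D113435
theorem F417842 : act 6 n200765 = n180328 := d21_3 (iv5 D113437) D113435 D200765 (iv1 F327652) F358304 F164621 (iv1 F78031) D58838 D125657 F364828
def n200766 : Q := act 6 n113435
theorem D200766 : act 6 n113435 = n200766 := rfl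
theorem F417843 : act 3 n200766 = n132275 := d7_1 D200766 F211979 F363900
theorem F417844 : act 4 n200766 = n113783 := d10_1 D200766 (iv6 D113783) (iv4 F204763)
def n200767 : Q := act 3 n113436
theorem D200767 : act 3 n113436 = n200767 := rfl
theorem F417845 : act 2 n200767 = n191537 := d0_1 D200767 F383696 (iv2 F211195) F363887 (iv2 F204756)
theorem F417846 : act 6 n200767 = n190559 := d7_2 F396422 D200767 (iv3 F396426)
theorem F417847 : act 7 n200767 = n191535 := d8_2 F204761 D200767 F383692
theorem F417848 : act 0 n200767 = n113488 := d19_4 (iv1 D159804) F114614 (iv4 F176623) D200767 (iv5 F352529) F277080 (iv3 F277076) (iv1 F368264) (iv5 D186850) F136968 (iv3 D41767) D41765 (iv5 F64405) (iv4 D22885) (iv3 F35579) D47585 D102593 D194017 F391786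
theorem F417849 : act 4 n186690 = n200767 := d20_2 (iv4 D186693) (iv1 F367687) (iv3 D200767) (iv1 D113436) (iv3 F176619) F176620 F348858 (iv4 D124622) (iv3 F199309) (iv1 F367701)
theorem F417850 : act 1 n200767 = n131832 := d18_6 F338117 F249714 (iv1 F273720) F273721 F367689 F417849 F352506 F368059 F368058
def n200768 : Q := act 3 n113439
theorem D200768 : act 3 n113439 = n200768 := rfl
theorem F417851 : act 4 n200768 = n174239 := d5_2 F395687 D200768 (iv3 F395703) F395704 (iv3 F395686)
theorem F417852 : act 5 n200768 = n125601 := d6_2 (iv5 F176626) D200768 F202049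
def n200769 : Q := act 5 n113443
theorem D200769 : act 5 n113443 = n200769 := rfl
theorem F417853 : act 2 n200769 = n195776 := d2_1 D200769 (iv5 F398129) (iv2 F395722)
theorem F417854 : act 3 n200769 = n113445 := d6_1 D200769 (iv5 D113445) D113443
theorem F417855 : act 4 n200769 = n195720 := d18_5 (iv1 F93351) F328514 (iv1 F328753) (iv4 F202958) D200769 (iv0 F417297) (iv4 D200633) (iv0 F358830) (iv5 D126192)
theorem F417856 : act 0 n200769 = n113938 := d21_1 D200769 (iv5 F415206) (iv6 F415211) (iv1 D180344) (iv6 F296235) D91691 (iv1 F341797) F341799 D166598 F416550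
theorem F417857 : act 6 n195719 = n200769 := d21_9 (iv5 F415206) F415212 (iv5 F409940) F401529 (iv1 F360027) (iv6 F397945) (iv5 F397949) (iv1 F398103) F398101 F417856
def n200770 : Q := act 4 n113445
theorem D200770 : act 4 n113445 = n200770 := rfl
def n200771 : Q := act 6 n113445
theorem D200771 : act 6 n113445 = n200771 := rfl
theorem F417858 : act 3 n200771 = n195719 := d7_1 D200771 F417857 F417854
theorem F417859 : act 0 n113551 = n200771 := d21_4 F176526 (iv1 F82857) D113669 (iv6 F366364) (iv6 D200771) (iv5 D113445) (iv1 F161162) (iv5 F204748) F395585 (iv1 F395587)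
theorem F417860 : act 4 n195710 = n200771 := d5_0 F417858 (iv4 D195719) F163242 D113730 (iv3 F397916)
theorem F417861 : act 7 n195739 = n200771 := d8_0 F417858 F397936 D195739
theorem F417862 : act 6 n200770 = n195710 := d10_0 F417860 (iv6 D200771) D200770
def n200772 : Q := act 6 n113447
theorem D200772 : act 6 n113447 = n200772 := rfl
theorem F417863 : act 2 n200772 = n126379 := d3_1 D200772 (iv6 D126379) F176633
theorem F417864 : act 3 n200772 = n113449 := d7_1 D200772 (iv6 D113449) D113447
theorem F417865 : act 4 n200772 = n163421 := d10_1 D200772 (iv6 D163421) (iv4 F323930)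
theorem F417866 : act 7 n200772 = n180133 := d14_2 (iv7 F176631) D200772 (iv6 F333467) F202281 (iv6 F326413)
theorem F417867 : act 0 n200772 = n126133 := d21_4 D104973 D195003 F395365 D200772 F325653 (iv5 F359326) F359323 (iv5 D79866) D79867 (iv1 F301036)
theorem F417868 : act 0 n126138 = n200772 := d21_4 D124613 (iv1 F299824) (iv5 D163623) (iv6 F325644) (iv6 D200772) (iv5 F395365) (iv1 F395369) (iv5 D126055) (iv6 F325188) F297506
def n200773 : Q := act 4 n113448
theorem D200773 : act 4 n113448 = n200773 := rfl
def n200774 : Q := act 6 n113448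
theorem D200774 : act 6 n113448 = n200774 := rfl
theorem F417869 : act 0 n200774 = n113948 := d21_10 (iv5 F396110) F395856 D126291 F203065 D195054 (iv6 F395585) F204748 (iv1 F161164) D113448 D200774
def n200775 : Q := act 1 n113449
theorem D200775 : act 1 n113449 = n200775 := rfl
def n200776 : Q := act 6 n113450
theorem D200776 : act 6 n113450 = n200776 := rfl
theorem F417870 : act 2 n200776 = n113456 := d3_1 D200776 (iv6 D113456) (iv2 F176636)
theorem F417871 : act 4 n200776 = n113452 := d10_1 D200776 (iv6 D113452) D113450
def n200777 : Q := act 4 n113451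
theorem D200777 : act 4 n113451 = n200777 := rfl
theorem F417872 : act 2 n200777 = n113459 := d1_1 D200777 (iv4 D113459) (iv2 F176637)
theorem F417873 : act 3 n200777 = n129317 := d5_1 D200777 F207516 (iv3 F207507) (iv4 F395643) F395638
theorem F417874 : act 6 n200777 = n129315 := d10_2 F399088 D200777 (iv4 F399089)
theorem F417875 : act 7 n200777 = n146880 := d11_2 F204749 D200777 F230267
theorem F417876 : act 0 n200777 = n146879 := d18_2 (iv1 F176847) D200777 (iv4 F417093) (iv5 D200589) F176823 F220422 F220418 F161405 D113654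
theorem F417877 : act 0 n146878 = n200777 := d20_7 F204141 F325314 (iv4 F207044) (iv3 D128797) (iv1 F172209) D199177 F411028 (iv4 D200777) (iv3 F395638) F395641
def n200778 : Q := act 5 n113454
theorem D200778 : act 5 n113454 = n200778 := rfl
theorem F417878 : act 2 n200778 = n194539 := d2_1 D200778 F393641 (iv2 F355950)
theorem F417879 : act 3 n200778 = n157698 := d6_1 D200778 F414761 (iv3 F416662)
theorem F417880 : act 7 n200778 = n194535 := d13_2 (iv7 F355948) D200778 F393623
theorem F417881 : act 0 n200778 = n113646 := d17_2 (iv1 F244969) D200778 (iv5 D113646) F82844 (iv5 F82759) (iv0 F230613) (iv5 D113448) F161164 (iv4 F244966)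
theorem F417882 : act 1 n200778 = n194538 := d17_6 F417081 F417080 F417147 F417145 F176639 D200778 F393636 (iv0 F354592) D190319
def n200779 : Q := act 1 n113456
theorem D200779 : act 1 n113456 = n200779 := rfl
def n200780 : Q := act 5 n113456
theorem D200780 : act 5 n113456 = n200780 := rfl
theorem F417883 : act 3 n200780 = n126184 := d6_1 D200780 (iv5 D126184) (iv3 F176641)
theorem F417884 : act 6 n200780 = n190271 := d12_2 D113456 D200780 (iv5 F382250) (iv6 F382248) (iv5 D113455)
def n200781 : Q := act 3 n113457
theorem D200781 : act 3 n113457 = n200781 := rfl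
theorem F417885 : act 2 n200781 = n196700 := d0_1 D200781 (iv3 F409945) F409944 (iv3 F203221) F357993
theorem F417886 : act 5 n200781 = n195113 := d6_2 (iv5 F357994) D200781 (iv3 D195113)
theorem F417887 : act 7 n200781 = n196701 := d8_2 (iv7 F357995) D200781 F401532
theorem F417888 : act 0 n196702 = n200781 := d17_2 F416548 (iv5 F401533) F417886 F395825 (iv5 F176498) D147355 F328755 (iv0 F328754) (iv4 F320735)
def n200782 : Q := act 4 n113457
theorem D200782 : act 4 n113457 = n200782 := rfl
theorem F417889 : act 5 n200782 = n115047 := d16_1 D200782 F179164 (iv5 F107032) (iv4 F146949) F318877 F169501 (iv5 F357989) (iv7 F357991) F357993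
def n200783 : Q := act 6 n113457
theorem D200783 : act 6 n113457 = n200783 := rfl
def n200784 : Q := act 3 n113458
theorem D200784 : act 3 n113458 = n200784 := rfl
theorem F417890 : act 5 n200784 = n166315 := d6_2 (iv5 F357989) D200784 (iv3 F347424)
theorem F417891 : act 7 n200784 = n126385 := d8_2 F357991 D200784 (iv3 F203221)
theorem F417892 : act 2 n126384 = n200784 := d4_3 F417891 (iv2 F409944) F409946
theorem F417893 : act 1 n126114 = n200784 := d15_1 F409948 F417891 (iv2 F409944)
theorem F417894 : act 1 n200784 = n113478 := d15_1 F417893 F176666 (iv2 F202804)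
theorem F417895 : act 6 n189775 = n200784 := d21_9 (iv5 D126114) (iv1 F174755) F360440 (iv6 D126272) D126270 F380736 (iv5 F380475) (iv1 F380480) (iv5 F380133) (iv1 F417893)
def n200785 : Q := act 4 n113458
theorem D200785 : act 4 n113458 = n200785 := rfl
def n200786 : Q := act 6 n113458
theorem D200786 : act 6 n113458 = n200786 := rfl
theorem F417896 : act 3 n200786 = n189775 := d7_1 D200786 F417895 (iv3 D200784)
def n200787 : Q := act 0 n113459
theorem D200787 : act 0 n113459 = n200787 := rfl
theorem F417897 : act 4 n200787 = n196243 := d18_3 (iv1 D113458) D113459 D200787 F417086 F417083 (iv0 D137275) F100449 D105285 (iv5 F357989)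
theorem F417898 : act 5 n200787 = n115084 := d19_1 D200787 F179201 (iv3 F179198) (iv1 F362020) F231785 F114766 (iv3 D34976) (iv1 F51418) F51415 (iv4 D32372) (iv3 F51410) F85409 (iv5 D54107) F77050 F77052 (iv1 D25478) D25480 D52499 (iv3 F176643)
theorem F417899 : act 3 n200787 = n115090 := d20_5 (iv4 D113699) (iv1 D52498) D52499 (iv3 F176643) D200787 F179209 (iv1 F98733) (iv4 F207377) (iv3 F350887) F177079
theorem F417900 : act 1 n146880 = n200787 := d15_0 (iv0 D200787) F176644 D146880
theorem F417901 : act 6 n115089 = n200787 := d7_0 F417899 (iv6 D115090) D115089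
theorem F417902 : act 7 n146878 = n200787 := d8_0 F417899 (iv7 F204110) (iv3 F365735)
theorem F417903 : act 2 n200787 = n146879 := d15_3 (iv0 F417876) (iv0 F417877) F417902
def n200788 : Q := act 1 n113459
theorem D200788 : act 1 n113459 = n200788 := rfl
theorem F417904 : act 1 n200788 = n146880 := d15_1 D200788 (iv7 F417875) F417872
theorem F417905 : act 7 n200788 = n146879 := d15_2 (iv0 D200787) D200788 (iv2 F417903)
theorem F417906 : act 4 n190796 = n200788 := d20_6 F78266 (iv1 F40327) (iv4 F40190) (iv3 F82694) (iv1 F345924) (iv3 F381099) (iv1 D200788) (iv4 D113459) F82741 (iv1 F78268)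
theorem F417907 : act 2 n200788 = n146878 := d1_1 F417906 (iv4 F411028) F411027
theorem F417908 : act 6 n200788 = n190795 := d10_2 D190796 F417906 (iv4 D190795)
def n200789 : Q := act 5 n113459
theorem D200789 : act 5 n113459 = n200789 := rfl
theorem F417909 : act 3 n200789 = n113702 := d6_1 D200789 (iv5 D113702) (iv3 F176643)
theorem F417910 : act 7 n200789 = n146881 := d13_2 (iv7 F176644) D200789 (iv5 D146881)
def n200790 : Q := act 0 n113460
theorem D200790 : act 0 n113460 = n200790 := rfl
theorem F417911 : act 5 n200790 = n196263 := d17_1 D200790 F400100 F363068 F213555 F203589 (iv0 D126514) (iv5 F99050) (iv0 F207332) (iv4 F327330)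
theorem F417912 : act 1 n196199 = n200790 := d15_0 (iv0 D200790) (iv7 F399097) (iv2 F399837)
theorem F417913 : act 3 n131815 = n200790 := d6_3 F417911 F400098 F382327
def n200791 : Q := act 1 n113460
theorem D200791 : act 1 n113460 = n200791 := rfl
theorem F417914 : act 1 n200791 = n196199 := d15_1 D200791 F399841 F399086
def n200792 : Q := act 3 n113469
theorem D200792 : act 3 n113469 = n200792 := rfl
theorem F417915 : act 5 n200792 = n125638 := d6_2 (iv5 F176650) D200792 (iv3 D125638)
theorem F417916 : act 7 n200792 = n191211 := d8_2 (iv7 F332841) D200792 (iv3 F382599)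
theorem F417917 : act 0 n200792 = n163470 := d20_4 (iv4 F349633) (iv1 F164438) F349630 D200792 (iv3 D163470) F119743 (iv1 F133289) F293597 F343662 (iv1 F328929)
theorem F417918 : act 2 n200792 = n189447 := d15_3 (iv0 F376867) D191211 (iv7 F417916)
theorem F417919 : act 4 n189446 = n200792 := d1_0 F417918 (iv4 D189447) D189446
theorem F417920 : act 0 n185911 = n189559 := d17_2 D189530 F376823 F376883 F417919 F417915 F334370 (iv5 F382785) F382786 F376769
theorem F417921 : act 1 n185911 = n189266 := d15_1 (iv0 F417920) F376266 D189559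
def n200793 : Q := act 6 n113472
theorem D200793 : act 6 n113472 = n200793 := rfl
theorem F417922 : act 2 n200793 = n190646 := d3_1 D200793 (iv6 F380441) F332837
theorem F417923 : act 3 n200793 = n126189 := d7_1 D200793 (iv6 F362869) F362865
theorem F417924 : act 4 n200793 = n195977 := d10_1 D200793 (iv6 D195977) F332830
theorem F417925 : act 5 n200793 = n126188 := d12_1 D200793 F202937 F332899 F161169 (iv5 F176652)
theorem F417926 : act 7 n200793 = n200748 := d14_2 D113472 D200793 F417759 (iv7 F327334) F176648
def n200794 : Q := act 5 n113473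
theorem D200794 : act 5 n113473 = n200794 := rfl
theorem F417927 : act 2 n200794 = n113527 := d2_1 D200794 (iv5 D113527) (iv2 F176653)
theorem F417928 : act 3 n200794 = n128666 := d6_1 D200794 (iv5 F395669) F395668
theorem F417929 : act 4 n200794 = n188180 := d9_1 D200794 (iv5 D188180) F295469 D98976 (iv4 F275031) (iv5 F327358) F202638 D200564 F416981 (iv5 D188183) F295470 (iv5 F73853) (iv4 F154032) F249455 (iv4 F327544)
def n200795 : Q := act 6 n113474
theorem D200795 : act 6 n113474 = n200795 := rfl
theorem F417930 : act 2 n200795 = n126383 := d3_1 D200795 (iv6 D126383) (iv2 F176654)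
theorem F417931 : act 3 n200795 = n113477 := d7_1 D200795 (iv6 D113477) D113474
theorem F417932 : act 0 n200795 = n199628 := d21_4 F176743 D137701 F220914 D200795 (iv6 F412911) (iv5 F380716) (iv1 D182767) (iv5 F148454) D190708 (iv1 F380723)
theorem F417933 : act 0 n199630 = n200795 := d21_4 F341736 (iv1 F297618) D121709 (iv6 F412919) (iv6 D200795) (iv5 F220914) F349684 (iv5 F377791) (iv6 D189797) (iv1 F341734)
def n200796 : Q := act 1 n113475
theorem D200796 : act 1 n113475 = n200796 := rfl
theorem F417934 : act 1 n200796 = n113484 := d15_1 D200796 (iv7 D113484) (iv2 F176658)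
theorem F417935 : act 7 n200796 = n113480 := d15_2 (iv0 F407044) D200796 (iv2 F407043)
theorem F417936 : act 4 n200796 = n126195 := d18_7 (iv1 F417286) F417284 (iv1 D193358) F352517 (iv5 D113476) D113475 D200796 F381055 D200495
theorem F417937 : act 6 n125404 = n200796 := d21_3 (iv5 D83959) D83957 (iv5 F353633) (iv1 D200796) F360715 (iv5 F342109) (iv1 F347436) F347440 (iv6 F347780) F347779
theorem F417938 : act 2 n200796 = n113481 := d3_1 F417937 F342151 (iv2 F353632)
def n200797 : Q := act 4 n113478
theorem D200797 : act 4 n113478 = n200797 := rfl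
theorem F417939 : act 2 n200797 = n126386 := d1_1 D200797 (iv4 D126386) (iv2 F176664)
theorem F417940 : act 7 n200797 = n126418 := d11_2 (iv7 F176666) D200797 (iv4 D126418)
theorem F417941 : act 5 n200797 = n125883 := d16_1 D200797 F366142 (iv5 D185561) F135383 F324417 D59097 D126114 F202805 (iv2 F176664)
theorem F417942 : act 0 n200797 = n197015 := d18_2 F409947 D200797 F402700 F165919 F80392 F322531 (iv4 F160854) (iv0 F323045) D198928
def n200798 : Q := act 6 n113478
theorem D200798 : act 6 n113478 = n200798 := rfl
theorem F417943 : act 2 n200798 = n126387 := d3_1 D200798 (iv6 D126387) (iv2 F176664)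
theorem F417944 : act 3 n200798 = n113488 := d7_1 D200798 (iv6 D113488) (iv3 F176665)
theorem F417945 : act 7 n200798 = n193359 := d14_2 (iv7 F176666) D200798 (iv6 F399135) F399136 (iv6 D126419)
theorem E103814 : n200649 = n126387 := ((c15_4 (iv0 D200649) (iv0 F389568) (iv7 F417945) F417943)).symm
theorem F417946 : act 1 n126387 = n113313 := (sb E103814 (iv0 D200649))
theorem F417947 : act 0 n200798 = n200651 := d19_4 D41657 D89180 (iv4 F352525) (iv3 F417944) F417358 F348163 (iv3 F348162) (iv1 D112723) D112724 (iv4 F337177) F209475 F105920 F315608 (iv4 F43127) D28482 (iv1 F155380) F85148 (iv4 F64279) F64278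
def n200799 : Q := act 5 n113481
theorem D200799 : act 5 n113481 = n200799 := rfl
theorem F417948 : act 3 n200799 = n130514 := d6_1 D200799 (iv5 F402861) F402863
theorem F417949 : act 6 n200799 = n130513 := d12_2 (iv6 F342151) D200799 F345572 (iv6 F345563) (iv5 F342092)
theorem F417950 : act 0 n200799 = n124497 := d17_2 (iv1 F176671) D200799 F199126 (iv4 F160849) F352457 (iv0 D52395) (iv5 D25432) D25430 D52389
theorem F417951 : act 4 n157151 = n200799 := d10_3 F417949 F209073 D157151
theorem F417952 : act 4 n192906 = n196762 := d16_2 (iv4 F417328) (iv5 F388174) F401714 F417951 (iv5 D200799) (iv4 F397863) F397860 F384087 (iv2 F417329)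
theorem F417953 : act 0 n192913 = n196762 := d17_2 (iv1 D196837) (iv5 F388198) F401714 F417951 (iv5 D200799) F176671 D113498 (iv0 F355855) F401982
theorem F417954 : act 0 n192409 = n157151 := d18_0 F417951 F417950 (iv4 F416763) (iv5 F416767) F386871 F158765 (iv4 F386879) (iv0 D192407) D192409
def n200800 : Q := act 4 n113482
theorem D200800 : act 4 n113482 = n200800 := rfl
theorem F417955 : act 3 n200800 = n147513 := d5_1 D200800 F231300 (iv3 F206500) (iv4 F189610) (iv3 F344751)
theorem F417956 : act 0 n200800 = n174573 := d18_2 F346497 D200800 F273433 F128536 (iv4 F328794) F176429 (iv4 F344706) (iv0 F339188) (iv5 F346501)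
theorem F417957 : act 1 n200800 = n196288 := d18_6 (iv1 D52241) F40122 D25429 D52384 D113482 D200800 F400222 (iv0 F355863) (iv5 D113181)
theorem F417958 : act 5 n197534 = n200800 := d19_1 (iv1 F416772) (iv4 D200800) F344751 F316314 (iv5 D86190) (iv4 F319493) D50965 (iv1 F323181) (iv5 F57170) (iv4 F323932) (iv3 F341782) F341781 (iv5 F398680) (iv4 D195905) F163648 F168738 F168736 D134203 (iv3 F416768)
def n200801 : Q := act 7 n113487
theorem D200801 : act 7 n113487 = n200801 := rfl
theorem F417959 : act 2 n200801 = n113500 := d4_1 D200801 F352520 (iv2 F352518)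
theorem F417960 : act 4 n200801 = n113489 := d11_1 D200801 (iv7 D113489) D113487
theorem F417961 : act 5 n200801 = n192907 := d13_1 D200801 (iv7 D192907) (iv5 F352526)
theorem F417962 : act 6 n200801 = n131835 := d14_1 D200801 F352500 (iv6 D101523) (iv7 F156757) F352523
theorem F417963 : act 1 n193358 = n200801 := d15_1 D193358 (iv7 D200801) F352518
theorem F417964 : act 1 n200801 = n191694 := d15_1 F417963 (iv7 F386882) (iv2 F389566)
def n200802 : Q := act 0 n113488
theorem D200802 : act 0 n113488 = n200802 := rfl
theorem F417965 : act 4 n200802 = n123447 := d18_1 D200802 (iv1 F343479) D186693 (iv5 F389612) F389613 (iv0 D172170) (iv4 F347466) F347464 F352529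
theorem F417966 : act 2 n191535 = n200802 := d15_3 (iv0 D200802) (iv0 F417848) F417847
theorem F417967 : act 1 n131832 = n200802 := d15_0 (iv0 D200802) (iv7 F352528) F352513
theorem F417968 : act 7 n200802 = n191537 := d15_2 F417850 F417967 (iv2 F417845)
theorem F417969 : act 3 n131808 = n200802 := d20_9 F352506 (iv1 F368062) (iv4 F383720) F383722 (iv1 F276857) F341761 F207047 (iv1 F96409) D131808 (iv1 F417967)
def n200803 : Q := act 5 n113490
theorem D200803 : act 5 n113490 = n200803 := rfl
theorem F417970 : act 2 n200803 = n128724 := d2_1 D200803 (iv5 F345741) (iv2 F355857)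
theorem F417971 : act 4 n200803 = n167780 := d9_1 D200803 F354776 (iv4 F219292) F354504 F321040 F334400 F345734 D200720 F417627 (iv5 F357891) (iv4 D101735) (iv5 D47294) D47293 D101730 (iv4 F355858)
theorem F417972 : act 6 n200803 = n128719 := d12_2 (iv6 F355859) D200803 (iv5 D128719) D128720 F332752
theorem F417973 : act 1 n200803 = n200631 := d17_6 (iv1 F389508) (iv5 D193338) F351755 D101730 (iv4 F355858) D200803 (iv5 F417291) F414901 F414898
def n200804 : Q := act 5 n113495
theorem D200804 : act 5 n113495 = n200804 := rfl
theorem F417974 : act 2 n200804 = n136223 := d2_1 D200804 F219255 F204652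
theorem F417975 : act 4 n200804 = n136222 := d9_1 D200804 (iv5 F406414) F406413 (iv5 F400488) (iv4 F411997) F411996 (iv4 F176603) F176605 (iv4 D64879) (iv5 F93833) (iv4 F167961) (iv5 F216774) (iv4 F411987) F411988 (iv4 F176684)
theorem F417976 : act 7 n200804 = n138060 := d13_2 F204648 D200804 F221304
theorem F417977 : act 0 n200804 = n138063 := d17_2 D113495 D200804 (iv5 F380721) F380720 (iv5 F409313) (iv0 F417471) (iv5 D200683) (iv0 F203212) F173423
theorem F417978 : act 1 n200804 = n113514 := d17_6 (iv1 D111282) D111284 D199400 F411988 (iv4 F176684) D200804 (iv5 F417019) F417022 F176740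
theorem F417979 : act 6 n200804 = n182514 := d21_3 (iv5 D113496) D113495 D200804 (iv1 D182514) (iv6 D87130) F70736 (iv1 D44986) D44988 D96348 F329351
def n200805 : Q := act 5 n113500
theorem D200805 : act 5 n113500 = n200805 := rfl
theorem F417980 : act 2 n200805 = n192907 := d2_1 D200805 (iv5 F417961) F417959
theorem F417981 : act 4 n200805 = n197534 := d9_1 D200805 F417958 (iv4 D200800) (iv5 D113482) (iv4 D52384) D52385 D113487 F352526 (iv4 F386622) (iv5 F410001) F410000 (iv5 D113498) (iv4 D52389) D52390 D113500
theorem F417982 : act 7 n200805 = n191980 := d13_2 (iv7 F352520) D200805 F385080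
theorem F417983 : act 1 n200805 = n192906 := d17_6 (iv1 F161563) F161561 (iv1 F82747) D52390 D113500 D200805 F388174 (iv0 D182488) F352456
theorem F417984 : act 0 n200805 = n137174 := d21_1 D200805 (iv5 D137174) (iv6 D64481) D64478 D137162 F345434 (iv1 F380037) (iv5 D190542) D190543 (iv1 F386665)
theorem F417985 : act 6 n192903 = n200805 := d21_3 F294169 D186575 (iv5 F388161) F417984 F220344 (iv5 D64484) D64482 D137179 F375528 (iv1 D189038)
def n200806 : Q := act 0 n113504
theorem D200806 : act 0 n113504 = n200806 := rfl
def n200807 : Q := act 1 n113504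
theorem D200807 : act 1 n113504 = n200807 := rfl
theorem F417986 : act 1 n200807 = n163470 := d15_1 D200807 (iv7 F294897) (iv2 F348772)
theorem F417987 : act 5 n200807 = n163439 := d17_7 (iv1 F299413) F324228 (iv1 F214238) (iv5 F342146) F176688 D113504 D200807 (iv0 D163439) (iv4 F297298)
theorem F417988 : act 3 n188044 = n200807 := d20_3 (iv4 F372205) (iv1 D188043) D188044 (iv1 D200807) (iv3 F348771) F341830 (iv1 D158061) D158062 F249007 F358227
theorem F417989 : act 6 n196065 = n200807 := d21_3 F367308 (iv1 F164178) D196065 (iv1 D200807) F362895 F362894 (iv1 F163836) D131838 F364672 D131840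
theorem F417990 : act 2 n200807 = n191211 := d3_1 F417989 F382600 (iv2 F399268)
theorem F417991 : act 7 n189447 = n200807 := d4_0 F417990 (iv7 F417916) F417918
theorem F417992 : act 4 n200807 = n188072 := d11_1 F417991 F372238 D189447
theorem E103815 : n200806 = n200792 := ((c15_4 (iv0 D200806) D200807 (iv7 F417991) (iv2 F417918))).symm
theorem F417993 : act 1 n200792 = n113504 := (sb E103815 (iv0 D200806))
def n200808 : Q := act 4 n113504
theorem D200808 : act 4 n113504 = n200808 := rfl
theorem F417994 : act 2 n200808 = n191212 := d1_1 D200808 (iv4 D191212) (iv2 F348772)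
def n200809 : Q := act 7 n113504
theorem D200809 : act 7 n113504 = n200809 := rfl
theorem F417995 : act 2 n200809 = n163470 := d4_1 D200809 (iv7 F294897) (iv2 F348772)
theorem F417996 : act 3 n200809 = n191209 := d8_1 D200809 F382593 F348771
theorem F417997 : act 5 n200809 = n113505 := d13_1 D200809 (iv7 D113505) D113504
theorem F417998 : act 1 n191211 = n200809 := d15_1 D191211 (iv7 D200809) F348772
theorem F417999 : act 1 n200809 = n189447 := d15_1 F417998 F417991 F417990
def n200810 : Q := act 5 n113506
theorem D200810 : act 5 n113506 = n200810 := rfl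
theorem F418000 : act 2 n200810 = n113520 := d2_1 D200810 (iv5 D113520) (iv2 F176689)
theorem F418001 : act 3 n200810 = n138282 := d6_1 D200810 F332956 (iv3 F350311)
theorem F418002 : act 7 n200810 = n191670 := d13_2 F383741 D200810 (iv5 D191670)
theorem F418003 : act 0 n200810 = n191545 := d17_2 (iv1 F360365) D200810 (iv5 D191545) (iv4 F383726) F383727 D195687 F397860 (iv0 F384096) F384095
theorem F418004 : act 6 n200810 = n191919 := d21_3 (iv5 F360367) (iv1 F360365) D200810 (iv1 F384836) (iv6 F384851) F384850 (iv1 F359445) D191846 (iv6 F384582) (iv1 F360362)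
theorem F418005 : act 0 n192381 = n200810 := d21_10 (iv5 D200810) (iv1 F360364) F136773 (iv6 D46748) (iv1 F64497) (iv6 F137324) (iv5 D89578) D89576 F356538 (iv6 F386614)
def n200811 : Q := act 0 n113507
theorem D200811 : act 0 n113507 = n200811 := rfl
theorem F418006 : act 4 n200811 = n135967 := d18_3 (iv1 F399729) (iv4 F350314) D200811 F225340 (iv4 F181789) (iv0 F333110) F153748 D99857 (iv5 F367709)
theorem F418007 : act 6 n200811 = n125378 := d21_5 F176680 F173406 D52394 D113507 D200811 (iv5 D125378) D125376 (iv5 F383935) F383932 F228497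
theorem F418008 : act 2 n113522 = n200811 := d3_3 F418007 (iv2 F416936) (iv6 F416942)
theorem F418009 : act 3 n125380 = n200811 := d7_3 F418007 F201658 D125380
theorem F418010 : act 7 n113523 = n200811 := d14_0 F418007 F201659 (iv6 F345248) F361731 (iv6 F395995)
def n200812 : Q := act 1 n113507
theorem D200812 : act 1 n113507 = n200812 := rfl
theorem F418011 : act 1 n200812 = n113524 := d15_1 D200812 (iv7 D113524) (iv2 F176690)
theorem F418012 : act 7 n200812 = n113522 := d15_2 (iv0 D200811) D200812 F418008
theorem F418013 : act 4 n135966 = n200812 := d20_0 (iv1 D200812) F350314 (iv3 D136199) (iv1 D64038) F48564 (iv4 F45801) (iv1 F93812) F93815 (iv3 F99446) D135966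
theorem F418014 : act 2 n200812 = n113523 := d1_1 F418013 F395994 (iv2 F225342)
theorem F418015 : act 6 n200812 = n128843 := d10_2 (iv6 F345436) F418013 (iv4 F361727)
theorem F418016 : act 3 n200812 = n195766 := d19_3 D63964 (iv5 F225343) F418013 (iv1 F398083) (iv5 D125886) (iv4 D58946) F45276 D28017 F45279 (iv4 D27960) F22203 (iv1 F38477) (iv5 F38479) F37863 F19638 F23931 (iv5 D14320) D14319 D30166
theorem F418017 : act 1 n113524 = n200811 := d15_1 F418011 (iv7 F418010) (iv2 F418014)
def n200813 : Q := act 7 n113507
theorem D200813 : act 7 n113507 = n200813 := rfl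
theorem F418018 : act 2 n200813 = n113524 := d4_1 D200813 (iv7 D113524) (iv2 F176690)
theorem F418019 : act 3 n200813 = n129095 := d8_1 D200813 (iv7 F395729) F395727
theorem F418020 : act 4 n200813 = n191562 := d11_1 D200813 (iv7 F383815) (iv4 F350314)
theorem F418021 : act 6 n200813 = n129093 := d14_1 D200813 (iv7 F211684) (iv6 F365452) F161562 D113507
theorem F418022 : act 1 n113523 = n200813 := d15_1 D113523 (iv7 D200813) F176690
theorem F418023 : act 1 n200813 = n113522 := d15_1 F418022 (iv7 F418012) F418014
def n200814 : Q := act 2 n113514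
theorem D200814 : act 2 n113514 = n200814 := rfl
theorem F418024 : act 3 n200814 = n126055 := d0_2 D113514 D200814 (iv2 F395370) F395371 F352459
theorem F418025 : act 4 n200814 = n184747 := d1_2 (iv4 F352471) D200814 (iv2 F345438)
theorem F418026 : act 5 n200814 = n126054 := d2_2 F417019 D200814 (iv2 F417018)
theorem F418027 : act 6 n200814 = n183459 := d3_2 F389049 D200814 (iv2 F389048)
theorem F418028 : act 7 n200814 = n138063 := d4_2 F396080 D200814 (iv2 F396078)
theorem F418029 : act 1 n200814 = n138060 := d15_0 (iv0 F396081) F396080 D200814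
theorem F418030 : act 1 n136223 = n200814 := d15_0 F418029 (iv7 F417976) F417974
def n200815 : Q := act 3 n113519
theorem D200815 : act 3 n113519 = n200815 := rfl
theorem F418031 : act 5 n200815 = n192403 := d6_2 (iv5 F383744) D200815 F386648
theorem F418032 : act 6 n200815 = n191639 := d7_2 (iv6 F383745) D200815 F383993
theorem F418033 : act 7 n200815 = n186731 := d8_2 (iv7 F383746) D200815 F367818
def n200816 : Q := act 4 n113520
theorem D200816 : act 4 n113520 = n200816 := rfl
theorem F418034 : act 6 n200816 = n192463 := d10_2 F383748 D200816 (iv4 D192463)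
theorem F418035 : act 0 n200816 = n192386 := d17_0 (iv5 F410001) F410003 (iv5 D196288) F164716 D141140 (iv0 F367697) F367696 (iv0 F383819) D200816
theorem F418036 : act 1 n200816 = n197534 := d18_6 (iv1 F352462) (iv4 D113515) (iv1 D52396) D52397 D113520 D200816 (iv4 F417981) F417983 F388174
def n200817 : Q := act 5 n113521
theorem D200817 : act 5 n113521 = n200817 := rfl
theorem F418037 : act 3 n200817 = n139434 := d6_1 D200817 (iv5 F395997) F395991
theorem F418038 : act 6 n200817 = n192464 := d12_2 D113521 D200817 (iv5 D192464) F383748 (iv5 D113520)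
theorem F418039 : act 4 n200817 = n137131 := d17_4 (iv1 F153755) (iv5 F151936) (iv1 F383816) D200817 F390838 (iv0 F396288) (iv5 D137530) F220715 (iv4 F333092)
def n200818 : Q := act 7 n113521
theorem D200818 : act 7 n113521 = n200818 := rfl
theorem F418040 : act 2 n200818 = n191562 := d4_1 D200818 (iv7 F383815) (iv2 F350313)
theorem F418041 : act 4 n200818 = n113524 := d11_1 D200818 (iv7 D113524) (iv4 F176693)
theorem F418042 : act 1 n186695 = n200818 := d15_1 F399729 (iv7 D200818) F350313
theorem F418043 : act 1 n200818 = n191563 := d15_1 F418042 (iv7 D191563) (iv2 F367707)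
theorem F418044 : act 3 n195712 = n137168 := d20_5 F374585 (iv1 D106126) (iv4 F77471) (iv3 F163229) D195712 F383838 (iv1 F418043) F418041 F176694 (iv1 F161216)
def n200819 : Q := act 3 n113523
theorem D200819 : act 3 n113523 = n200819 := rfl
theorem F418045 : act 2 n200819 = n182516 := d0_1 D200819 F380738 F398082 (iv3 F418016) F418014
theorem F418046 : act 4 n200819 = n182327 := d5_2 (iv4 F395994) D200819 F352442 (iv4 F221256) (iv3 D137164)
theorem F418047 : act 6 n200819 = n157811 := d7_2 (iv6 F395995) D200819 (iv3 F361733)
theorem F418048 : act 7 n200819 = n125380 := d8_2 (iv7 F418010) D200819 F418009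
theorem F418049 : act 1 n182514 = n200819 := d15_1 D182514 F418048 F201662
theorem F418050 : act 0 n182513 = n200819 := d20_1 (iv4 F380752) F418046 F352442 (iv1 F221260) D138002 F221266 F162398 F162400 (iv3 F363445) D190713
def n200820 : Q := act 5 n113523
theorem D200820 : act 5 n113523 = n200820 := rfl
theorem F418051 : act 0 n200820 = n194073 := d17_2 (iv1 F418022) D200820 (iv5 D194073) (iv4 D102631) (iv5 D47597) D47596 (iv5 F151936) D191562 (iv4 F418020)
theorem F418052 : act 1 n200820 = n196040 := d17_6 (iv1 F218908) (iv5 D136036) (iv1 F99533) F221259 (iv4 F395994) D200820 (iv5 D196040) (iv0 F333065) F333063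
def n200821 : Q := act 0 n113527
theorem D200821 : act 0 n113527 = n200821 := rfl
theorem F418053 : act 5 n200821 = n161298 := d17_3 (iv1 D113526) D113527 D200821 (iv4 D161298) (iv5 D77436) D77435 (iv5 F303271) F249610 (iv4 F327541)
theorem F418054 : act 3 n164178 = n200821 := d6_3 F418053 F320977 D164178
theorem F418055 : act 6 n200630 = n200821 := d12_0 F418053 F320978 F417291 (iv6 D200631) D200630
def n200822 : Q := act 1 n113527
theorem D200822 : act 1 n113527 = n200822 := rfl
theorem F418056 : act 4 n200822 = n190546 := d17_9 (iv1 F380088) F345384 (iv1 F143804) (iv5 F352557) F332693 F332707 (iv0 D113525) D113527 D200822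
theorem F418057 : act 3 n132266 = n200822 := d19_19 (iv1 D200822) (iv5 D113527) F327014 F326654 F170611 F332176 (iv4 F309450) (iv3 D131253) F311982 (iv5 D40181) (iv4 D18977) D18976 (iv1 F296699) D36365 (iv4 F297362) D75713 F311275 (iv5 F211048) F211918
theorem F418058 : act 6 n157826 = n200822 := d21_9 (iv5 D113527) D113525 (iv5 F332707) (iv6 F361251) (iv1 F184677) D191567 F383849 (iv1 D157824) D157826 (iv1 D200822)
def n200823 : Q := act 4 n113529
theorem D200823 : act 4 n113529 = n200823 := rfl
theorem F418059 : act 2 n200823 = n113530 := d1_1 D200823 (iv4 D113530) D113529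
theorem F418060 : act 5 n200823 = n199018 := d9_2 (iv5 F176696) D200823 (iv4 D199018) F171710 (iv4 D109194) F79760 F49300 D59823 D127362 (iv5 F204667) F204205 (iv5 F373322) (iv4 F405881) F405882 F176728
theorem F418061 : act 1 n200823 = n127027 := d18_6 F409797 (iv4 D140404) (iv1 F176730) F176728 (iv5 F176696) D200823 (iv4 F407318) (iv0 F407320) (iv5 F409794)
theorem F418062 : act 3 n200823 = n200080 := d20_3 (iv4 F204614) (iv1 F204610) D200823 F414940 (iv3 D127094) (iv4 D59654) F47226 (iv4 F97051) (iv3 F212944) F336302
theorem F418063 : act 6 n200078 = n200823 := d7_0 F418062 (iv6 D200080) D200078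
theorem F418064 : act 0 n129011 = n200078 := d21_4 (iv5 D125160) D125159 F312118 D129011 F418063 F418060 F410344 (iv5 F417811) (iv6 F417812) (iv1 F316703)
theorem F418065 : act 0 n163149 = n174461 := d21_4 (iv5 F331751) (iv1 F418061) F418060 (iv6 F410345) (iv6 D174461) F128505 (iv1 F128480) D174395 (iv6 F354163) F358794
def n200824 : Q := act 6 n113529
theorem D200824 : act 6 n113529 = n200824 := rfl
theorem F418066 : act 2 n200824 = n113531 := d3_1 D200824 (iv6 D113531) D113529
theorem F418067 : act 4 n200824 = n200078 := d10_1 D200824 F418063 (iv4 D200823)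
theorem F418068 : act 0 n200824 = n130308 := d21_4 (iv5 F203742) (iv1 F94214) (iv5 F176696) D200824 F354364 (iv5 D163633) F299098 (iv5 F331164) (iv6 D113430) D113427
theorem F418069 : act 7 n130306 = n200824 := d11_0 F418067 F414933 F364577
theorem F418070 : act 0 n130245 = n200824 := d18_2 (iv1 F334293) (iv4 F208761) F418067 F414932 (iv4 F394699) F394703 (iv4 D165769) (iv0 D79617) (iv5 F322726)
def n200825 : Q := act 0 n113530
theorem D200825 : act 0 n113530 = n200825 := rfl
theorem F418071 : act 3 n200825 = n126672 := d20_5 (iv4 D113679) (iv1 D52489) D52490 (iv3 F176697) D200825 F338720 (iv1 F218838) (iv4 F362705) (iv3 F362703) F342169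
theorem F418072 : act 6 n134686 = n200825 := d7_0 F418071 F338718 D134686
theorem F418073 : act 7 n127027 = n200825 := d8_0 F418071 F338721 (iv3 F204267)
def n200826 : Q := act 1 n113530
theorem D200826 : act 1 n113530 = n200826 := rfl
theorem F418074 : act 5 n200826 = n189165 := d17_7 (iv1 F329615) F143965 D184594 F345621 (iv4 F220439) F220437 D200826 (iv0 F375915) (iv4 F354174)
theorem F418075 : act 4 n200638 = n200826 := d20_6 (iv4 D12133) D12131 (iv4 F40182) (iv3 F82680) D113307 D200638 (iv1 D200826) (iv4 D113530) (iv3 D52400) (iv1 F40211)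
theorem F418076 : act 6 n127025 = n200826 := d21_9 (iv5 F220437) (iv1 F401935) (iv5 F359167) F359165 F311921 (iv6 F347130) F333077 (iv1 F218786) (iv5 F204265) (iv1 D200826)
theorem F418077 : act 2 n200826 = n127027 := d3_1 F418076 (iv6 D127027) D127025
def n200827 : Q := act 6 n113530
theorem D200827 : act 6 n113530 = n200827 := rfl
theorem F418078 : act 2 n200827 = n200078 := d3_1 D200827 F418063 F418059
theorem F418079 : act 3 n200827 = n113682 := d7_1 D200827 (iv6 D113682) (iv3 F176697)
theorem F418080 : act 4 n200827 = n113531 := d10_1 D200827 (iv6 D113531) D113530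
theorem F418081 : act 0 n200827 = n186802 := d20_7 (iv4 D46098) (iv1 F64205) (iv4 F72684) (iv3 F152023) F332861 (iv3 F176698) (iv4 F418080) F368053 (iv3 D89194) F72666
theorem F418082 : act 1 n128898 = n130307 := d18_8 (iv1 F359788) (iv4 F418080) F418081 F368053 D186813 (iv4 F368101) (iv0 F364361) F216462 (iv5 D130307)
def n200828 : Q := act 0 n113531
theorem D200828 : act 0 n113531 = n200828 := rfl
theorem F418083 : act 3 n200828 = n138155 := d20_5 (iv4 D113691) (iv1 D52493) (iv4 F82758) (iv3 F176698) D200828 (iv4 D138155) D138152 (iv4 F417173) F417172 (iv1 F288402)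
theorem F418084 : act 4 n200828 = n129950 := d20_8 (iv4 F342183) (iv1 D134602) F98486 (iv3 F98485) (iv1 F327765) (iv3 F418079) F418080 D200828 F333895 (iv1 F351698)
theorem F418085 : act 6 n200828 = n130244 := d21_5 (iv5 D113587) (iv1 D52427) (iv5 F82757) D113531 D200828 F341974 (iv1 F299385) D177400 F331159 (iv1 F203748)
theorem F418086 : act 2 n130308 = n200828 := d15_3 (iv0 D200828) F359788 D130308
theorem F418087 : act 7 n200828 = n130245 := d4_2 D130308 F418086 F208760
theorem F418088 : act 1 n130306 = n200828 := d15_1 D130306 F418087 F208760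
def n200829 : Q := act 7 n113531
theorem D200829 : act 7 n113531 = n200829 := rfl
theorem F418089 : act 2 n200829 = n130306 := d4_1 D200829 F418069 F418066
theorem F418090 : act 3 n200829 = n113535 := d8_1 D200829 (iv7 D113535) (iv3 F176698)
theorem F418091 : act 5 n200829 = n195943 := d13_1 D200829 F398799 F364797
theorem F418092 : act 1 n130245 = n200829 := d15_1 (iv0 F418070) (iv7 D200829) (iv2 F418066)
theorem F418093 : act 1 n200829 = n130308 := d15_1 F418092 (iv7 D130308) (iv2 F208760)
def n200830 : Q := act 4 n113538
theorem D200830 : act 4 n113538 = n200830 := rfl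
theorem F418094 : act 2 n200830 = n113539 := d1_1 D200830 (iv4 D113539) D113538
def n200831 : Q := act 0 n113539
theorem D200831 : act 0 n113539 = n200831 := rfl
theorem F418095 : act 4 n200831 = n196692 := d18_3 F230613 D113539 D200831 F401499 F397879 (iv0 D113453) (iv4 D52373) D52371 D113448
theorem F418096 : act 3 n196687 = n200831 := d5_5 F418095 (iv3 D196692) (iv4 D107217) (iv3 F165229) D196687
def n200832 : Q := act 1 n113539
theorem D200832 : act 1 n113539 = n200832 := rfl
theorem F418097 : act 4 n200832 = n200601 := d18_7 (iv1 D200587) F176823 (iv1 D113644) F82844 (iv5 F82759) D113539 D200832 (iv0 F417147) (iv5 F417080)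
def n200833 : Q := act 5 n113539
theorem D200833 : act 5 n113539 = n200833 := rfl
theorem F418098 : act 3 n200833 = n113620 := d6_1 D200833 (iv5 D113620) (iv3 F176702)
theorem F418099 : act 1 n200833 = n128517 := d17_6 (iv1 F357984) (iv5 D113657) (iv1 D52475) (iv5 F82759) D113539 D200833 (iv5 F417094) (iv0 F417876) (iv4 D200777)
theorem F418100 : act 4 n159345 = n200833 := d16_0 (iv5 D200833) (iv4 D113539) F82759 (iv4 F82844) D113646 F354601 F250850 (iv7 F250859) (iv2 F250858)
def n200834 : Q := act 6 n113539
theorem D200834 : act 6 n113539 = n200834 := rfl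
theorem F418101 : act 3 n200834 = n113621 := d7_1 D200834 (iv6 D113621) (iv3 F176702)
theorem F418102 : act 4 n200834 = n113540 := d10_1 D200834 (iv6 D113540) D113539
theorem F418103 : act 0 n200834 = n126579 := d21_4 F417094 (iv1 F418099) (iv5 D200833) D200834 (iv6 D126579) D126578 (iv1 F207330) F207510 (iv6 F417874) F417876
def n200835 : Q := act 5 n113542
theorem D200835 : act 5 n113542 = n200835 := rfl
theorem F418104 : act 2 n200835 = n128913 := d2_1 D200835 F396543 (iv2 F391700)
theorem F418105 : act 3 n200835 = n196060 := d6_1 D200835 F399251 (iv3 F391701)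
theorem F418106 : act 7 n200835 = n196051 := d13_2 (iv7 F391704) D200835 (iv5 D196051)
theorem F418107 : act 6 n128618 = n200835 := d21_5 F202234 (iv1 F403289) F403287 (iv6 D128921) (iv1 F206900) (iv5 D200835) (iv1 D113542) D113543 F176704 D113664
theorem F418108 : act 1 n132151 = n196051 := d15_1 (iv0 F396544) (iv7 F418106) F418104
def n200836 : Q := act 1 n113543
theorem D200836 : act 1 n113543 = n200836 := rfl
theorem F418109 : act 6 n190793 = n200836 := d21_3 (iv5 D180331) D180328 F400119 (iv1 D200836) F176704 (iv5 D52480) (iv1 F94228) D113327 D200673 F417428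
theorem F418110 : act 5 n200766 = n200836 := d21_6 (iv5 D12090) D12087 D25424 D52365 D113435 D200766 (iv1 D200836) (iv5 D113543) (iv6 D52403) (iv1 D25435)
def n200837 : Q := act 4 n113543
theorem D200837 : act 4 n113543 = n200837 := rfl
theorem F418111 : act 6 n200837 = n113666 := d10_2 (iv6 F176704) D200837 (iv4 D113666)
def n200838 : Q := act 7 n113543
theorem D200838 : act 7 n113543 = n200838 := rfl
theorem F418112 : act 3 n200838 = n196239 := d8_1 D200838 (iv7 F400130) (iv3 F400134)
theorem F418113 : act 5 n200838 = n113544 := d13_1 D200838 (iv7 D113544) D113543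
def n200839 : Q := act 0 n113546
theorem D200839 : act 0 n113546 = n200839 := rfl
theorem F418114 : act 3 n200839 = n182513 := d20_5 (iv4 F77535) D106277 F395521 D113546 D200839 F380752 F380753 F377852 (iv3 D126299) (iv1 D59201)
def n200840 : Q := act 2 n113546
theorem D200840 : act 2 n113546 = n200840 := rfl
def n200841 : Q := act 4 n113546
theorem D200841 : act 4 n113546 = n200841 := rfl
theorem F418115 : act 7 n200841 = n126927 := d11_2 F395776 D200841 (iv4 F395756)
theorem F418116 : act 5 n126651 = n200841 := d13_3 F418115 (iv5 D126927) (iv7 F359998)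
theorem F418117 : act 2 n200841 = n126922 := d15_3 F382339 (iv0 F355419) (iv7 F418115)
theorem F418118 : act 4 n126922 = n200840 := d1_2 D200841 F418117 (iv2 D200840)
theorem F418119 : act 0 n200841 = n126676 := d17_2 (iv1 F203809) F418116 F203843 (iv4 F100356) (iv5 F331279) F294707 F339724 F206737 (iv4 D126929)
theorem F418120 : act 1 n200841 = n127025 := d17_6 (iv1 D103270) (iv5 F291961) D187414 (iv5 F392734) F392737 F418116 F204265 F218786 F367017
def n200842 : Q := act 5 n113546
theorem D200842 : act 5 n113546 = n200842 := rfl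
theorem F418121 : act 3 n200842 = n113548 := d6_1 D200842 (iv5 D113548) D113546
def n200843 : Q := act 1 n113548
theorem D200843 : act 1 n113548 = n200843 := rfl
theorem F418122 : act 1 n200843 = n113553 := d15_1 D200843 F395770 (iv2 F395774)
theorem F418123 : act 6 n196045 = n200843 := d21_3 (iv5 D131898) (iv1 F163852) (iv5 F399172) (iv1 D200843) F395493 (iv5 D195031) (iv1 D105175) D105177 D195034 (iv1 F395499)
theorem F418124 : act 5 n200843 = n194072 := d12_1 F418123 F391966 F365693 (iv6 F163850) (iv5 F399172)
theorem F418125 : act 3 n194073 = n200843 := d6_3 F418124 (iv3 D194072) D194073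
def n200844 : Q := act 4 n113548
theorem D200844 : act 4 n113548 = n200844 := rfl
def n200845 : Q := act 1 n113551
theorem D200845 : act 1 n113551 = n200845 := rfl
theorem F418126 : act 3 n195767 = n200845 := d20_3 (iv4 D126265) (iv1 F163298) (iv4 F398086) (iv1 D200845) (iv3 D113551) (iv4 F360472) (iv1 D106278) F77535 (iv3 F93394) (iv1 F360437)
theorem F418127 : act 5 n125567 = n200845 := d21_6 (iv5 D28010) (iv1 D13366) D13368 D28020 D58956 (iv6 F398107) (iv1 D200845) (iv5 F366365) (iv6 D125815) (iv1 F93135)
theorem F418128 : act 2 n200845 = n195739 := d0_1 F418126 (iv3 D195739) F163274 D106250 D195767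
def n200846 : Q := act 4 n113551
theorem D200846 : act 4 n113551 = n200846 := rfl
theorem F418129 : act 5 n200846 = n195700 := d16_3 (iv4 F202325) F366365 D200846 (iv4 D195700) (iv5 D106215) D106214 D195698 F397889 F202022
def n200847 : Q := act 4 n113553
theorem D200847 : act 4 n113553 = n200847 := rfl
theorem F418130 : act 6 n200847 = n200092 := d10_2 F366360 D200847 F414979
def n200848 : Q := act 0 n113554
theorem D200848 : act 0 n113554 = n200848 := rfl
theorem F418131 : act 4 n200848 = n188772 := d18_3 (iv1 F398260) F398257 D200848 (iv5 D188772) F143096 F76199 F75101 F135437 (iv5 F176890)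
theorem F418132 : act 6 n200848 = n128599 := d21_5 D131891 (iv1 F395782) (iv5 D113553) D113554 D200848 F362252 (iv1 F362253) F362255 F362256 (iv1 D131890)
theorem F418133 : act 2 n128601 = n200848 := d15_3 (iv0 D200848) (iv0 F377921) (iv7 F332866)
theorem F418134 : act 1 n194003 = n200848 := d15_0 (iv0 D200848) (iv7 F417388) F417386
theorem F418135 : act 7 n200848 = n186698 := d15_2 (iv0 F391725) F418134 F367715
theorem F418136 : act 3 n128837 = n200848 := d20_3 (iv4 D98551) (iv1 F136731) (iv4 F361722) (iv1 F418134) F391723 (iv4 F348862) F342192 F342193 F342194 (iv1 F272847)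
theorem F418137 : act 0 n169915 = n195013 := d20_10 (iv4 D195013) (iv1 F361742) (iv4 F361734) (iv3 F361733) F361724 F418136 F418131 F374834 D189392 F376525
def n200849 : Q := act 6 n113555
theorem D200849 : act 6 n113555 = n200849 := rfl
theorem F418138 : act 3 n200849 = n113557 := d7_1 D200849 (iv6 D113557) D113555
theorem F418139 : act 4 n200849 = n199814 := d10_1 D200849 (iv6 D199814) (iv4 F176708)
theorem F418140 : act 0 n200849 = n178289 := d21_4 (iv5 D60498) D60495 (iv5 F358330) D200849 F360412 (iv5 F326472) (iv1 D145447) D145449 (iv6 F358259) (iv1 D128640)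
theorem F418141 : act 5 n200849 = n166091 := d21_6 (iv5 F176696) (iv1 F204611) (iv5 F204629) F343534 (iv1 F343601) D200849 (iv1 D166091) (iv5 F350089) (iv6 D127355) (iv1 F94214)
theorem F418142 : act 6 n163611 = n166091 := d12_4 (iv6 D200849) F358330 D128630 (iv5 F358321) (iv5 F418141)
def n200850 : Q := act 0 n113556
theorem D200850 : act 0 n113556 = n200850 := rfl
theorem F418143 : act 5 n200850 = n195044 := d17_1 D200850 F395558 (iv5 F395783) F395784 F217904 F99346 F99344 D129640 (iv4 F358341)
theorem F418144 : act 1 n113559 = n200850 := d15_0 (iv0 D200850) (iv7 F202433) F202432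
theorem F418145 : act 6 n196060 = n200850 := d21_9 (iv5 D113559) (iv1 D52408) D52409 (iv6 F161569) D195178 (iv6 F396117) (iv5 D131961) (iv1 F164161) (iv5 F399251) (iv1 F418144)
theorem F418146 : act 2 n200850 = n200618 := d3_1 F418145 F417235 (iv2 F399250)
theorem F418147 : act 3 n200850 = n128618 := d7_1 F418145 F418107 F418105
theorem F418148 : act 7 n200850 = n128915 := d14_2 D196060 F418145 F396539 F399218 F399217
def n200851 : Q := act 1 n113556
theorem D200851 : act 1 n113556 = n200851 := rfl
theorem F418149 : act 1 n200851 = n113559 := d15_1 D200851 (iv7 F202445) F202444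
theorem F418150 : act 7 n200851 = n200618 := d15_2 (iv0 D200850) D200851 (iv2 F418146)
theorem F418151 : act 5 n200851 = n125639 := d17_7 (iv1 F164064) F82112 F164080 (iv5 D59209) (iv4 F161391) D113556 D200851 (iv0 F203118) (iv4 D125949)
theorem F418152 : act 3 n129004 = n200851 := d19_19 (iv1 D200851) (iv5 D113556) F161391 D59207 F166162 F49112 (iv4 F81197) (iv3 F173028) (iv1 F358642) F227056 F112136 (iv3 D65032) F48965 (iv5 F79285) F79286 D63520 (iv1 F332682) (iv5 D135088) (iv4 F207255)
theorem F418153 : act 6 n200851 = n196077 := d7_2 F354754 F418152 (iv3 F399336)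
theorem F418154 : act 2 n128915 = n200851 := d3_3 F418153 F399337 (iv6 F396539)
def n200852 : Q := act 6 n113556
theorem D200852 : act 6 n113556 = n200852 := rfl
theorem F418155 : act 3 n200852 = n128630 := d7_1 D200852 (iv6 D128630) (iv3 F358340)
theorem F418156 : act 5 n194796 = n200852 := d21_2 (iv5 F394715) F394712 (iv6 D200852) D200850 (iv6 F418145) F399251 (iv1 F164160) D131963 (iv6 F417551) F417552
theorem F418157 : act 1 n200852 = n191559 := d17_6 (iv1 F160244) (iv5 D96222) (iv1 F76032) D104586 D194796 F418156 F383805 D194502 F393460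
def n200853 : Q := act 5 n113557
theorem D200853 : act 5 n113557 = n200853 := rfl
theorem F418158 : act 2 n200853 = n200578 := d2_1 D200853 (iv5 F417035) F202446
theorem F418159 : act 3 n200853 = n166091 := d6_1 D200853 (iv5 F418141) F418138
theorem F418160 : act 4 n200853 = n194797 := d9_1 D200853 F394511 F415611 (iv5 D200226) (iv4 D112859) D112860 D200227 F415616 (iv4 F395240) (iv5 F395244) (iv4 F415623) (iv5 D200229) (iv4 D112861) (iv5 F93413) (iv4 F176709)
theorem F418161 : act 6 n200853 = n194796 := d12_2 D113557 D200853 F418156 (iv6 D200852) (iv5 D113556)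
theorem F418162 : act 7 n200853 = n200577 := d13_2 F404516 D200853 F417029
theorem F418163 : act 0 n200853 = n125695 := d17_2 (iv1 F202298) D200853 (iv5 D125695) F93073 F76499 D52183 (iv5 F82763) (iv0 F176401) (iv4 F202296)
theorem F418164 : act 1 n200853 = n125693 := d17_6 (iv1 F50047) (iv5 F79065) (iv1 F82347) (iv5 F93413) (iv4 F176709) D200853 (iv5 D125693) (iv0 D58856) F45252
theorem F418165 : act 6 n200615 = n194502 := d21_9 (iv5 F383805) (iv1 F418157) (iv5 F418156) (iv6 F418161) F418163 (iv6 F227656) (iv5 D144780) D144778 (iv5 F417224) (iv1 D194502)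
theorem F418166 : act 4 n194800 = n200615 := d10_3 F418165 F393460 D194800
def n200854 : Q := act 2 n113558
theorem D200854 : act 2 n113558 = n200854 := rfl
theorem F418167 : act 3 n200854 = n128634 := d0_2 D113558 D200854 (iv2 F358324) (iv3 D125940) (iv2 F166435)
theorem F418168 : act 5 n200854 = n128632 := d2_2 F417215 D200854 (iv2 F417212)
def n200855 : Q := act 6 n113562
theorem D200855 : act 6 n113562 = n200855 := rfl
theorem F418169 : act 3 n200855 = n200586 := d7_1 D200855 F417073 F402696
theorem F418170 : act 7 n200855 = n200584 := d14_2 (iv7 F395789) D200855 (iv6 D200584) F176444 F395788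
theorem F418171 : act 0 n200855 = n191596 := d21_4 (iv5 F413892) F413894 F203116 D200855 (iv6 D191596) (iv5 F152017) D191663 (iv5 F417422) F384036 F413895
def n200856 : Q := act 0 n113563
theorem D200856 : act 0 n113563 = n200856 := rfl
theorem F418172 : act 4 n200856 = n125936 := d18_3 (iv1 D113562) D113563 D200856 F202421 (iv4 D113567) (iv0 F82762) (iv4 F176489) (iv0 F203117) F203116
theorem F418173 : act 3 n129300 = n200856 := d5_5 F418172 (iv3 F359798) (iv4 D129229) (iv3 F313019) (iv4 F315450)
theorem F418174 : act 5 n196248 = n200856 := d16_1 D196248 F418172 F202421 (iv4 D113567) (iv5 D52413) D52412 (iv5 F343570) F208387 (iv2 F218489)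
def n200857 : Q := act 1 n113563
theorem D200857 : act 1 n113563 = n200857 := rfl
theorem F418175 : act 4 n200857 = n125935 := d18_7 (iv1 F161331) (iv4 D52417) (iv1 D25439) (iv4 F40215) D52409 D113563 D200857 (iv0 D125935) (iv5 D58962)
theorem F418176 : act 3 n129114 = n200857 := d5_5 F418175 (iv3 F347328) F148591 (iv3 F148581) F347315
theorem F418177 : act 5 n196245 = n200857 := d9_0 F418175 F202418 (iv4 D113571) (iv5 D52418) D52417 (iv5 F343567) D196248 F418174 F418172 F202421 (iv4 D113567) (iv5 D52413) D52412 (iv5 F343570) D196245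
theorem F418178 : act 6 n190726 = n200857 := d10_0 F418175 F347329 (iv4 F380817)
def n200858 : Q := act 5 n113563
theorem D200858 : act 5 n113563 = n200858 := rfl
theorem F418179 : act 2 n200858 = n200574 := d2_1 D200858 F417012 F395795
theorem F418180 : act 7 n200858 = n195107 := d13_2 F417011 D200858 (iv5 F417012)
theorem F418181 : act 4 n200858 = n125707 := d16_2 D113563 D200858 (iv5 D125707) F93082 F76488 (iv4 F93082) D125707 F202199 F161225
theorem F418182 : act 0 n200858 = n200857 := d17_2 (iv1 D200857) D200858 (iv5 F418177) (iv4 D196245) F343570 F161321 D106228 F202419 (iv4 F418175)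
theorem F418183 : act 1 n200858 = n200856 := d17_8 (iv1 D125936) (iv5 D58962) (iv1 F161331) (iv5 F343567) D196248 F418174 (iv0 D200856) D200858 F418172
def n200859 : Q := act 3 n113567
theorem D200859 : act 3 n113567 = n200859 := rfl
theorem F418184 : act 4 n200859 = n129032 := d5_2 D113567 D200859 (iv3 F337395) (iv4 D111773) F161355
theorem F418185 : act 5 n200859 = n129229 := d6_2 F202421 D200859 F359798
theorem F418186 : act 0 n200859 = n130229 := d19_4 D25438 D52413 D113567 D200859 (iv5 D130229) (iv4 F207733) (iv3 F98950) (iv1 F317501) (iv5 D38798) (iv4 D18444) (iv3 F29603) (iv1 F296576) (iv5 F91402) F116619 (iv3 F130123) (iv1 F333688) (iv5 D113196) F82609 F40126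
theorem F418187 : act 0 n130227 = n200859 := d17_2 D61129 D130227 F418185 (iv4 D129229) F208879 F47847 F47843 (iv0 D28958) D28961
def n200860 : Q := act 6 n113568
theorem D200860 : act 6 n113568 = n200860 := rfl
theorem F418188 : act 2 n200860 = n163668 := d3_1 D200860 F417694 F417693
theorem F418189 : act 3 n200860 = n113570 := d7_1 D200860 (iv6 D113570) D113568
theorem F418190 : act 4 n200860 = n163662 := d10_1 D200860 F414816 F414812
theorem F418191 : act 7 n163673 = n200860 := d11_0 F418190 F363240 D163673
def n200861 : Q := act 4 n113573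
theorem D200861 : act 4 n113573 = n200861 := rfl
theorem F418192 : act 2 n200861 = n140409 := d1_1 D200861 (iv4 D140409) (iv2 F358902)
theorem F418193 : act 3 n200861 = n200629 := d5_1 D200861 F417278 F344748 D197979 F406365
theorem F418194 : act 7 n200861 = n140404 := d11_2 (iv7 F358903) D200861 (iv4 D140404)
theorem F418195 : act 0 n200861 = n200621 := d20_1 D200861 (iv4 F417248) (iv3 D197873) (iv1 D108749) (iv3 D50213) F40220 (iv1 D25440) D25441 D52421 D113573
theorem F418196 : act 0 n145455 = n200861 := d20_10 (iv4 D200861) (iv1 F176726) F101594 F94215 (iv1 F161406) F347424 F261907 F296343 (iv4 F324449) D145455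
def n200862 : Q := act 6 n113573
theorem D200862 : act 6 n113573 = n200862 := rfl
theorem F418197 : act 2 n200862 = n140411 := d3_1 D200862 (iv6 D140411) (iv2 F358902)
theorem F418198 : act 5 n200862 = n200692 := d12_1 D200862 (iv6 F417517) (iv5 F407346) (iv6 D198250) F358906
theorem F418199 : act 0 n199876 = n200862 := d21_4 (iv5 F413353) (iv1 F360014) F351101 (iv6 F413924) (iv6 D200862) (iv5 F358906) (iv1 F405705) (iv5 D197769) (iv6 F331158) F413355
def n200863 : Q := act 6 n113575
theorem D200863 : act 6 n113575 = n200863 := rfl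
theorem F418200 : act 2 n200863 = n113576 := d3_1 D200863 (iv6 D113576) D113575
theorem F418201 : act 4 n200863 = n113589 := d10_1 D200863 (iv6 D113589) (iv4 F176728)
def n200864 : Q := act 0 n113576
theorem D200864 : act 0 n113576 = n200864 := rfl
theorem F418202 : act 4 n200864 = n180375 := d20_2 (iv4 F176734) D200864 (iv3 D180375) (iv1 F280684) (iv3 F341795) (iv4 D129076) (iv1 D60678) (iv4 F95273) (iv3 F341835) (iv1 D113591)
theorem F418203 : act 3 n200864 = n180373 := d20_5 (iv4 F169240) (iv1 D52424) (iv4 F82771) (iv3 F176733) D200864 (iv4 D180373) (iv1 F258423) (iv4 D163960) (iv3 F326832) (iv1 F168446)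
def n200865 : Q := act 1 n113576
theorem D200865 : act 1 n113576 = n200865 := rfl
theorem F418204 : act 4 n190655 = n200865 := d20_0 (iv1 D200865) F176734 F82774 (iv1 F165638) D113281 (iv4 F365834) (iv1 F257537) (iv4 F380457) F380456 (iv1 F380467)
theorem F418205 : act 3 n120291 = n200865 := d20_3 F406237 (iv1 F362640) F261369 (iv1 D200865) F176733 F82771 D52423 F168448 D108785 D197935
def n200866 : Q := act 5 n113576
theorem D200866 : act 5 n113576 = n200866 := rfl
theorem F418206 : act 3 n200866 = n113577 := d6_1 D200866 (iv5 D113577) (iv3 F176733)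
theorem F418207 : act 7 n200866 = n190432 := d13_2 F406281 D200866 F406282
theorem F418208 : act 4 n200866 = n190433 := d16_6 (iv4 F378513) (iv5 F378515) (iv4 F332784) (iv5 D113592) (iv4 F176734) D200866 F379755 (iv7 D96026) (iv2 F147169)
theorem F418209 : act 0 n200866 = n199748 := d17_2 (iv1 D200865) D200866 (iv5 D199748) F364838 F417712 (iv0 F417713) F267356 D190655 F418204
theorem F418210 : act 4 n199748 = n194750 := d18_1 F418209 (iv1 D194750) (iv4 F389423) (iv5 F389424) (iv4 F377796) F377798 (iv4 F418202) (iv0 D200864) D200866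
theorem F418211 : act 0 n199750 = n200866 := d21_7 (iv5 F358906) (iv1 F405705) (iv5 D197769) (iv6 F331158) F413355 (iv6 D199751) D199750 (iv5 D200866) (iv6 D113576) D113573
def n200867 : Q := act 4 n113577
theorem D200867 : act 4 n113577 = n200867 := rfl
theorem F418212 : act 0 n200867 = n197948 := d17_0 F406262 F409243 F409241 F253431 (iv5 F343773) F172783 D111593 (iv0 F176735) D200867
theorem F418213 : act 1 n200867 = n197950 := d18_6 (iv1 F168446) (iv4 F169240) (iv1 D52424) (iv4 F82771) D113577 D200867 (iv4 D197950) F405507 F405506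
def n200868 : Q := act 6 n113580
theorem D200868 : act 6 n113580 = n200868 := rfl
theorem F418214 : act 2 n200868 = n199536 := d3_1 D200868 (iv6 D199536) F203771
theorem F418215 : act 3 n200868 = n113583 := d7_1 D200868 (iv6 D113583) D113580
theorem F418216 : act 4 n200868 = n196872 := d10_1 D200868 F402104 (iv4 F176740)
theorem F418217 : act 5 n162949 = n200868 := d16_1 D162949 F418216 (iv5 F406834) (iv4 D194604) D194605 F393792 (iv5 D162955) (iv7 F348413) F348411
theorem F418218 : act 0 n177331 = n200868 := d20_10 F418216 F402101 (iv4 F401297) (iv3 D196641) F165142 (iv3 F325923) (iv4 D38962) D38960 D84480 D177331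
def n200869 : Q := act 1 n113581
theorem D200869 : act 1 n113581 = n200869 := rfl
theorem F418219 : act 1 n200869 = n113586 := d15_1 D200869 F203756 (iv2 F203774)
theorem F418220 : act 7 n200869 = n197873 := d15_2 F204599 D200869 F406074
theorem F418221 : act 2 n197882 = n200869 := d4_3 F418220 F406074 (iv7 F406106)
theorem F418222 : act 3 n140397 = n200869 := d8_3 F418220 (iv3 D197873) F223546
def n200870 : Q := act 3 n113581
theorem D200870 : act 3 n113581 = n200870 := rfl
theorem F418223 : act 2 n200870 = n197724 := d0_1 D200870 (iv3 D197724) F203759 D108757 (iv2 F203774)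
theorem F418224 : act 4 n200870 = n196873 := d5_2 D113581 D200870 (iv3 F402103) (iv4 F176740) (iv3 D113580)
theorem F418225 : act 5 n200870 = n151247 := d6_2 (iv5 F409124) D200870 F409122
theorem F418226 : act 7 n200870 = n197896 := d8_2 F204598 D200870 F406126
theorem F418227 : act 0 n200870 = n197864 := d20_4 F82769 D52426 D113581 D200870 (iv3 D197864) (iv4 F355094) (iv1 F355097) F358895 (iv3 F358897) (iv1 D113574)
theorem F418228 : act 1 n200870 = n197894 := d15_1 (iv0 F418227) (iv7 F412348) F412346
theorem F418229 : act 6 n174151 = n200870 := d21_5 (iv5 D107392) (iv1 F78352) D107042 F346361 (iv1 F346366) F418225 F411079 F411076 F402078 (iv1 D196855)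
def n200871 : Q := act 6 n113581
theorem D200871 : act 6 n113581 = n200871 := rfl
theorem F418230 : act 2 n200871 = n197884 := d3_1 D200871 (iv6 D197884) (iv2 F203774)
theorem F418231 : act 3 n200871 = n174151 := d7_1 D200871 F418229 (iv3 D200870)
theorem F418232 : act 4 n200871 = n113583 := d10_1 D200871 (iv6 D113583) D113581
theorem F418233 : act 5 n200871 = n199619 := d12_1 D200871 F412875 F412666 (iv6 F412665) (iv5 F409124)
theorem F418234 : act 7 n199631 = n200871 := d13_0 F418233 F412885 D199631
def n200872 : Q := act 0 n113583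
theorem D200872 : act 0 n113583 = n200872 := rfl
theorem F418235 : act 6 n200872 = n129062 := d21_5 D105237 F176744 (iv5 D113582) D113583 D200872 (iv5 F358266) (iv1 D128673) D128675 (iv6 F343534) (iv1 D105235)
theorem F418236 : act 2 n145436 = n200872 := d15_3 (iv0 D200872) (iv0 F402635) F402633
theorem F418237 : act 5 n200872 = n200685 := d2_2 F406044 F418236 (iv2 F417487)
theorem F418238 : act 7 n200872 = n177346 := d4_2 F402633 F418236 F402634
theorem F418239 : act 6 n200697 = n195072 := d21_3 F418237 F417479 (iv5 F417543) (iv1 D195072) (iv6 D105238) D105237 F176744 (iv5 D113582) D113583 D200872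
theorem F418240 : act 3 n195072 = n200714 := d7_1 F418239 (iv6 D200714) (iv3 F417541)
def n200873 : Q := act 5 n113583
theorem D200873 : act 5 n113583 = n200873 := rfl
theorem F418241 : act 3 n200873 = n162949 := d6_1 D200873 F418217 F418215
theorem F418242 : act 1 n200873 = n125726 := d17_6 F417539 (iv5 D199621) D199619 (iv5 F418233) F418232 D200873 (iv5 D125726) (iv0 F360478) D200696
theorem F418243 : act 4 n200873 = n197890 := d19_2 F402635 D200873 F413932 (iv1 D177499) (iv5 F341340) F408728 F408725 (iv1 D112094) D112095 F339843 F101784 (iv1 F101778) (iv5 F101779) (iv4 D59239) (iv3 F93443) F100266 F80814 D107524 D197001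
def n200874 : Q := act 7 n113583
theorem D200874 : act 7 n113583 = n200874 := rfl
theorem F418244 : act 4 n200874 = n199631 := d11_1 D200874 F418234 F418232
theorem F418245 : act 1 n177346 = n200874 := d15_1 (iv0 F365130) (iv7 D200874) (iv2 F204602)
theorem F418246 : act 1 n200874 = n145436 := d15_1 F418245 (iv7 F402633) (iv2 F402634)
def n200875 : Q := act 0 n113585
theorem D200875 : act 0 n113585 = n200875 := rfl
theorem F418247 : act 4 n200875 = n197824 := d20_0 (iv1 F405909) F202018 F165901 (iv1 F170923) D198899 F409793 F176747 (iv4 D113586) D113585 D200875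
theorem F418248 : act 1 n199535 = n200875 := d15_0 (iv0 D200875) (iv7 F204601) (iv2 F412567)
theorem F418249 : act 6 n129065 = n200875 := d10_0 F418247 (iv6 F405910) F400050
def n200876 : Q := act 1 n113585
theorem D200876 : act 1 n113585 = n200876 := rfl
def n200877 : Q := act 2 n113585
theorem D200877 : act 2 n113585 = n200877 := rfl
theorem F418250 : act 3 n200877 = n189797 := d0_2 D113585 D200877 F377789 (iv3 F172887) F203743
theorem F418251 : act 7 n200877 = n199535 := d4_2 F204601 D200877 F412567
theorem E103816 : n200876 = n200138 := (c15_1 D200876 (iv0 F415205) (iv7 F418251) (iv2 D200877))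
theorem F418252 : act 0 n200138 = n113585 := (sb E103816 (iv1 D200876))
theorem F418253 : act 4 n125617 = n200877 := d5_0 F418250 F377790 F202069 (iv4 D125618) D125617
theorem F418254 : act 5 n189821 = n200877 := d6_0 F418250 F377791 (iv3 F377874)
theorem F418255 : act 6 n189795 = n200877 := d7_0 F418250 (iv6 D189797) (iv3 F377782)
def n200878 : Q := act 4 n113585
theorem D200878 : act 4 n113585 = n200878 := rfl
theorem F418256 : act 2 n200878 = n125617 := d1_1 D200878 F418253 (iv2 D200877)
theorem F418257 : act 3 n200878 = n197722 := d5_1 D200878 (iv4 D197722) F176748 (iv4 D113586) D113585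
theorem F418258 : act 7 n200878 = n197886 := d11_2 F204601 D200878 F406118
theorem F418259 : act 0 n200878 = n129073 := d20_1 D200878 (iv4 F395223) D197010 (iv1 F417085) F417082 (iv4 F413989) F413990 (iv4 F380270) D200138 F418252
theorem F418260 : act 0 n197008 = n200878 := d20_1 D197008 (iv4 D200878) (iv3 D113585) (iv1 D52427) (iv3 D25446) (iv4 D12095) (iv1 F18604) D24224 D49673 D107528
theorem F418261 : act 5 n200878 = n198892 := d17_1 F418260 (iv1 F409774) (iv5 D195698) (iv4 D106214) D106215 F397873 F397870 F176440 D197008
def n200879 : Q := act 5 n113585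
theorem D200879 : act 5 n113585 = n200879 := rfl
theorem F418262 : act 2 n200879 = n189821 := d2_1 D200879 F418254 (iv2 D200877)
theorem F418263 : act 3 n200879 = n113587 := d6_1 D200879 (iv5 D113587) D113585
theorem F418264 : act 7 n200879 = n200758 := d13_2 F204601 D200879 F417805
theorem F418265 : act 1 n200879 = n128790 := d17_6 F202213 (iv5 F355902) D198892 (iv5 F418261) (iv4 D200878) D200879 (iv5 F342904) D195078 F395684
theorem F418266 : act 6 n200879 = n189818 := d21_9 (iv5 F380844) (iv1 D180337) F295378 (iv6 F347557) F347558 (iv6 F365421) (iv5 F415203) F418252 D200879 (iv1 F380846)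
def n200880 : Q := act 6 n113585
theorem D200880 : act 6 n113585 = n200880 := rfl
theorem F418267 : act 2 n200880 = n189795 := d3_1 D200880 F418255 (iv2 D200877)
theorem F418268 : act 3 n200880 = n113588 := d7_1 D200880 (iv6 D113588) D113585
theorem F418269 : act 5 n200880 = n189794 := d12_1 D200880 F377780 D189818 (iv6 F418266) (iv5 D200879)
def n200881 : Q := act 1 n113588
theorem D200881 : act 1 n113588 = n200881 := rfl
theorem F418270 : act 5 n200881 = n178287 := d17_7 F335062 (iv5 D69239) D69237 (iv5 F337755) (iv4 F261503) F350090 D200881 (iv0 D178287) (iv4 D84848)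
theorem F418271 : act 3 n194941 = n200881 := d19_19 (iv1 D200881) (iv5 F350090) F261503 (iv3 F328293) (iv1 F328691) (iv5 F329087) F136969 F64349 (iv1 F35336) (iv5 D22769) (iv4 F35322) (iv3 F62461) F62976 (iv5 F133570) F133571 D89929 (iv1 F283794) F160601 D194941
theorem F418272 : act 2 n200881 = n200207 := d0_1 F418271 (iv3 D200207) F175691 (iv3 F202167) (iv2 F395108)
def n200882 : Q := act 7 n113588
theorem D200882 : act 7 n113588 = n200882 := rfl
theorem F418273 : act 1 n200207 = n200882 := d15_1 (iv0 F415508) (iv7 D200882) (iv2 F204600)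
def n200883 : Q := act 0 n113589
theorem D200883 : act 0 n113589 = n200883 := rfl
def n200884 : Q := act 1 n113589
theorem D200884 : act 1 n113589 = n200884 := rfl
theorem F418274 : act 1 n200884 = n113593 := d15_1 D200884 (iv7 D113593) (iv2 F176749)
theorem F418275 : act 6 n129063 = n200884 := d21_3 F358330 D128625 (iv5 F207299) (iv1 D200884) (iv6 D113589) (iv5 F176696) (iv1 F204611) (iv5 F204629) F343534 (iv1 F343601)
theorem F418276 : act 2 n200884 = n113591 := d3_1 F418275 F341837 D129063
theorem F418277 : act 3 n200884 = n169907 := d7_1 F418275 F362853 (iv3 F207297)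
theorem F418278 : act 4 n200884 = n196489 := d10_1 F418275 (iv6 D196489) (iv4 F207298)
theorem F418279 : act 7 n113590 = n200884 := d11_0 F418278 (iv7 F400821) (iv4 F365833)
theorem E103817 : n200883 = n196230 := ((c15_4 (iv0 D200883) D200884 (iv7 F418279) (iv2 F399984))).symm
theorem F418280 : act 1 n196230 = n113589 := (sb E103817 (iv0 D200883))
theorem E103818 : n196228 = n195765 := (c21_2 (iv5 D196230) D196228 F398079 (iv6 D111655) D111652 (iv6 F343545) F204616 (iv1 F204610) F176696 D113589 (iv1 F418280))
theorem F418281 : act 1 n195765 = n106792 := (sb E103818 (iv0 D196228))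
def n200885 : Q := act 5 n113589
theorem D200885 : act 5 n113589 = n200885 := rfl
theorem F418282 : act 2 n200885 = n113592 := d2_1 D200885 (iv5 D113592) (iv2 F176749)
theorem F418283 : act 3 n200885 = n189819 := d6_1 D200885 (iv5 F377947) F359018
theorem F418284 : act 4 n200885 = n190421 := d16_2 F418201 D200885 (iv5 D190421) F147648 D96025 D190432 F406282 F406281 (iv2 F418200)
def n200886 : Q := act 7 n113589
theorem D200886 : act 7 n113589 = n200886 := rfl
theorem F418285 : act 2 n200886 = n113593 := d4_1 D200886 (iv7 D113593) (iv2 F176749)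
theorem F418286 : act 3 n200886 = n180337 := d8_1 D200886 F359041 F359018
theorem F418287 : act 1 n113591 = n200886 := d15_1 D113591 (iv7 D200886) F176749
theorem F418288 : act 1 n200886 = n113590 := d15_1 F418287 F418279 F418276
def n200887 : Q := act 0 n113592
theorem D200887 : act 0 n113592 = n200887 := rfl
def n200888 : Q := act 1 n113592
theorem D200888 : act 1 n113592 = n200888 := rfl
theorem F418289 : act 5 n199742 = n200888 := d21_6 D113582 (iv1 F176745) (iv5 D113425) F331156 D177395 F413335 (iv1 D200888) (iv5 D113592) (iv6 D52429) D52426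
theorem F418290 : act 6 n128694 = n200888 := d21_9 (iv5 D113592) D113590 F399974 (iv6 D196225) F358354 (iv6 F99175) D135690 F330383 (iv5 F333461) (iv1 D200888)
def n200889 : Q := act 5 n113605
theorem D200889 : act 5 n113605 = n200889 := rfl
theorem F418291 : act 3 n200889 = n127477 := d6_1 D200889 (iv5 F359578) (iv3 F328469)
theorem F418292 : act 4 n200889 = n127489 := d19_2 D113605 D200889 F204924 D127491 (iv5 F382797) F382796 F211229 F96424 (iv5 D49253) (iv4 D24037) D24036 (iv1 F45610) F45587 F22396 (iv3 F22387) (iv1 F22390) D13712 D28755 (iv3 F328047)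
theorem F418293 : act 6 n200889 = n127475 := d21_3 (iv5 F82800) D113605 D200889 F393626 (iv6 D121346) (iv5 F178431) (iv1 F233495) F233492 (iv6 F193535) (iv1 D70568)
theorem F418294 : act 0 n190034 = n127489 := d18_2 F398215 (iv4 F378623) (iv4 F418292) (iv5 D200889) (iv4 F402689) (iv0 D145460) F104369 D113712 (iv5 F251089)
theorem F418295 : act 0 n115123 = n200889 := d21_10 (iv5 D200889) (iv1 F177011) F177007 F120362 (iv1 F177956) F369497 F369495 F235287 F193580 (iv6 F333518)
def n200890 : Q := act 6 n113605
theorem D200890 : act 6 n113605 = n200890 := rfl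
theorem F418296 : act 3 n200890 = n146317 := d7_1 D200890 (iv6 F335896) (iv3 F328469)
theorem F418297 : act 0 n200890 = n195132 := d21_4 D115123 F418295 (iv5 D200889) D200890 (iv6 D195132) F333521 (iv1 F218104) (iv5 F213200) (iv6 F333512) (iv1 D115121)
theorem F418298 : act 5 n200890 = n159368 := d21_6 F20062 (iv1 F20017) D25452 D52446 D113605 D200890 (iv1 D159368) F114220 (iv6 D48709) (iv1 F37000)
def n200891 : Q := act 3 n113606
theorem D200891 : act 3 n113606 = n200891 := rfl
theorem F418299 : act 4 n200891 = n153957 := d5_2 (iv4 F336927) D200891 F241977 (iv4 F339644) F336928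
theorem F418300 : act 0 n200891 = n137371 := d19_4 F395630 F395629 (iv4 F336927) D200891 F324637 (iv4 F324635) F109356 D72868 D153986 F349808 F349814 (iv1 F343604) (iv5 F343611) F176474 (iv3 F175325) F175328 (iv5 D59214) (iv4 F161334) D113558
theorem F418301 : act 5 n186965 = n200891 := d21_0 F418300 F324637 (iv6 F324638) F86646 (iv6 F355646) (iv5 D103010) (iv1 F151170) (iv5 F377176) F377177 (iv1 F368699)
theorem F418302 : act 6 n200891 = n153971 := d21_3 F371222 (iv1 F368699) F418301 F374922 F374915 F371439 (iv1 F272039) (iv5 F275061) F355336 (iv1 F371225)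
def n200892 : Q := act 5 n113606
theorem D200892 : act 5 n113606 = n200892 := rfl
theorem F418303 : act 3 n200892 = n186965 := d6_1 D200892 F418301 (iv3 D200891)
theorem F418304 : act 4 n200892 = n137502 := d16_2 (iv4 F336927) D200892 (iv5 D137502) (iv4 F206728) (iv5 F408645) F408644 (iv5 F349556) (iv7 F402691) (iv2 F402694)
theorem F418305 : act 0 n200892 = n115123 := d17_2 (iv1 F177010) D200892 (iv5 D115123) (iv4 F95064) D128600 F362254 (iv5 D128774) F206825 F336929
theorem F418306 : act 6 n200892 = n137509 := d21_9 F193577 (iv1 F205653) F335531 F335533 (iv1 F177961) (iv6 F120362) (iv5 F177007) (iv1 F177010) D200892 F335530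
def n200893 : Q := act 6 n113606
theorem D200893 : act 6 n113606 = n200893 := rfl
theorem F418307 : act 3 n200893 = n153971 := d7_1 D200893 (iv6 F418302) (iv3 D200891)
theorem F418308 : act 4 n200893 = n154023 := d10_1 D200893 F339646 (iv4 F336927)
theorem F418309 : act 0 n195133 = n200893 := d21_4 F374902 (iv1 F251830) F251827 D195133 (iv6 D200893) D200892 F418305 (iv5 D115123) (iv6 F333516) D188791
theorem F418310 : act 1 n195239 = n200893 := d15_0 (iv0 F418309) F395903 (iv2 F396417)
def n200894 : Q := act 5 n113608
theorem D200894 : act 5 n113608 = n200894 := rfl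
theorem F418311 : act 2 n200894 = n175822 := d2_1 D200894 (iv5 F355241) (iv2 F343527)
theorem F418312 : act 3 n200894 = n145926 := d6_1 D200894 (iv5 F355405) F355404
theorem F418313 : act 7 n200894 = n159452 := d13_2 (iv7 F347578) D200894 F251089
theorem F418314 : act 1 n200894 = n114085 := d17_6 (iv1 D128598) D128600 (iv1 F362260) (iv5 D128769) (iv4 F343528) D200894 (iv5 F374535) (iv0 F374538) F213418
theorem F418315 : act 6 n200894 = n164428 := d21_3 (iv5 F82802) D113608 D200894 (iv1 D164428) (iv6 D78970) D78969 (iv1 F251286) F251283 F178025 (iv1 D76320)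
def n200895 : Q := act 6 n113608
theorem D200895 : act 6 n113608 = n200895 := rfl
theorem F418316 : act 3 n200895 = n135222 := d7_1 D200895 (iv6 F371308) F355404
theorem F418317 : act 4 n200895 = n128770 := d10_1 D200895 (iv6 D128770) (iv4 F343528)
theorem F418318 : act 0 n200895 = n195129 := d21_4 F374535 (iv1 F418314) (iv5 D200894) D200895 (iv6 D195129) (iv5 F364674) (iv1 F216443) F216441 (iv6 F342930) F374538
theorem F418319 : act 5 n200895 = n195806 := d21_6 (iv5 D12109) (iv1 F20018) D25453 D52447 D113608 D200895 (iv1 D195806) (iv5 D106279) (iv6 D49110) (iv1 F37414)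
def n200896 : Q := act 6 n113609
theorem D200896 : act 6 n113609 = n200896 := rfl
theorem F418320 : act 3 n200896 = n130680 := d7_1 D200896 (iv6 D130680) (iv3 F355238)
theorem F418321 : act 4 n200896 = n128775 := d10_1 D200896 (iv6 D128775) (iv4 F355239)
theorem F418322 : act 0 n127411 = n200896 := d21_4 F374525 F369266 (iv5 D127410) D127411 (iv6 D200896) (iv5 F355236) F335164 (iv5 F374535) (iv6 D188716) D188713
theorem F418323 : act 1 n195855 = n200896 := d15_0 (iv0 F418322) (iv7 F397801) (iv2 F398475)
def n200897 : Q := act 3 n113611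
theorem D200897 : act 3 n113611 = n200897 := rfl
theorem F418324 : act 5 n200897 = n148136 := d6_2 (iv5 F176783) D200897 (iv3 D148136)
def n200898 : Q := act 6 n113611
theorem D200898 : act 6 n113611 = n200898 := rfl
theorem F418325 : act 2 n200898 = n113621 := d3_1 D200898 (iv6 D113621) (iv2 F176782)
theorem F418326 : act 4 n200898 = n113612 := d10_1 D200898 (iv6 D113612) D113611
theorem F418327 : act 5 n200898 = n132307 := d12_1 D200898 (iv6 D132307) D132306 F351931 (iv5 F176783)
theorem F418328 : act 0 n200898 = n126608 := d21_4 (iv5 F231957) (iv1 D148135) (iv5 F176783) D200898 (iv6 D126608) F93723 F48311 D60694 (iv6 F327153) (iv1 F106057)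
def n200899 : Q := act 5 n113612
theorem D200899 : act 5 n113612 = n200899 := rfl
theorem F418329 : act 2 n200899 = n113624 := d2_1 D200899 (iv5 D113624) (iv2 F176786)
theorem F418330 : act 6 n200899 = n113613 := d12_2 D113612 D200899 (iv5 D113613) (iv6 D52452) D52451
theorem F418331 : act 0 n188049 = n200899 := d21_10 (iv5 D200899) F363940 D135719 F218217 D135723 F354421 (iv5 F369200) (iv1 F369204) F145583 D188049
theorem F418332 : act 0 n200899 = n152509 := d21_4 D71948 (iv1 F108452) D113613 (iv6 F418330) (iv6 D152509) (iv5 D71933) (iv1 D33235) D33236 F52468 D33242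
def n200900 : Q := act 4 n113613
theorem D200900 : act 4 n113613 = n200900 := rfl
theorem F418333 : act 2 n200900 = n113626 := d1_1 D200900 (iv4 D113626) (iv2 F176787)
theorem F418334 : act 7 n200900 = n114810 := d11_2 (iv7 F176788) D200900 F178880
theorem F418335 : act 0 n200900 = n114543 := d18_2 (iv1 F176789) D200900 (iv4 D114543) (iv5 D52870) F40558 F27017 (iv4 F25513) D33203 D71844
theorem F418336 : act 1 n200900 = n113892 := d18_6 (iv1 F114657) (iv4 D72103) (iv1 F52519) (iv4 F82813) D113613 D200900 (iv4 D113892) D113891 F177191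
theorem F418337 : act 3 n198075 = n200900 := d20_9 (iv4 D114543) (iv1 F177189) (iv4 F239712) (iv3 F387689) F387691 F222640 (iv4 F172863) D199501 F413258 F418335
def n200901 : Q := act 3 n113614
theorem D200901 : act 3 n113614 = n200901 := rfl
theorem F418338 : act 4 n200901 = n199209 := d5_2 D113614 D200901 F411178 (iv4 F177263) F139180
theorem F418339 : act 7 n200901 = n146845 := d8_2 (iv7 F176792) D200901 (iv3 D146845)
theorem F418340 : act 0 n200901 = n199068 := d19_4 D25477 (iv5 F82818) D113614 D200901 (iv5 D199068) (iv4 D110902) F80659 F39018 (iv5 D14548) (iv4 D6952) F4856 D3144 (iv5 F4881) F4880 F10006 D5545 F8452 D5744 D12110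
theorem F418341 : act 1 n200901 = n136949 := d15_1 (iv0 F418340) (iv7 F409980) (iv2 F410526)
theorem F418342 : act 5 n199223 = n200901 := d17_5 F344197 F361546 F102247 D111084 D199223 F418341 F338277 F388587 F388584
def n200902 : Q := act 5 n113614
theorem D200902 : act 5 n113614 = n200902 := rfl
theorem F418343 : act 2 n200902 = n146852 := d2_1 D200902 (iv5 D146852) (iv2 F176791)
theorem F418344 : act 3 n200902 = n199223 := d6_1 D200902 F418342 (iv3 D200901)
theorem F418345 : act 7 n200902 = n146846 := d13_2 (iv7 F176792) D200902 (iv5 D146846)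
theorem F418346 : act 4 n200902 = n117255 := d16_2 D113614 D200902 F183490 (iv4 F85546) F85143 F41329 (iv5 F82814) (iv7 F82816) F82817
def n200903 : Q := act 6 n113614
theorem D200903 : act 6 n113614 = n200903 := rfl
theorem F418347 : act 2 n200903 = n146853 := d3_1 D200903 (iv6 D146853) (iv2 F176791)
theorem F418348 : act 4 n200903 = n113615 := d10_1 D200903 (iv6 D113615) D113614
def n200904 : Q := act 0 n113615
theorem D200904 : act 0 n113615 = n200904 := rfl
theorem F418349 : act 6 n200904 = n133215 := d21_5 (iv5 D25480) D25477 (iv5 F82818) D113615 D200904 (iv5 F377676) (iv1 F381707) F381708 (iv6 D113700) (iv1 D52498)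
theorem F418350 : act 2 n146854 = n200904 := d15_3 (iv0 D200904) (iv0 F398250) (iv7 F415799)
theorem F418351 : act 3 n200904 = n194002 := d0_2 (iv3 F415797) F418350 F398236 (iv3 D195799) (iv2 F395771)
theorem F418352 : act 7 n200904 = n146855 := d4_2 (iv7 F415799) F418350 (iv2 F398247)
theorem F418353 : act 1 n146856 = n200904 := d15_1 (iv0 F398251) F418352 (iv2 F398247)
def n200905 : Q := act 5 n113615
theorem D200905 : act 5 n113615 = n200905 := rfl
theorem F418354 : act 2 n200905 = n119214 := d2_1 D200905 F187583 (iv2 F176793)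
theorem F418355 : act 3 n200905 = n114282 := d6_1 D200905 (iv5 F371120) F371119
theorem F418356 : act 6 n200905 = n113694 := d12_2 D113615 D200905 (iv5 D113694) (iv6 D52495) (iv5 F82818)
def n200906 : Q := act 7 n113615
theorem D200906 : act 7 n113615 = n200906 := rfl
theorem F418357 : act 2 n200906 = n146856 := d4_1 D200906 (iv7 D146856) (iv2 F176793)
theorem F418358 : act 6 n200906 = n146850 := d14_1 D200906 (iv7 D146850) (iv6 D68844) (iv7 F82819) D113615
theorem F418359 : act 1 n146855 = n200906 := d15_1 D146855 (iv7 D200906) F176793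
theorem F418360 : act 1 n200906 = n146854 := d15_1 F418359 F415799 F398247
def n200907 : Q := act 3 n113616
theorem D200907 : act 3 n113616 = n200907 := rfl
theorem F418361 : act 7 n200907 = n146851 := d8_2 (iv7 F176795) D200907 (iv3 D146851)
def n200908 : Q := act 5 n113616
theorem D200908 : act 5 n113616 = n200908 := rfl
theorem F418362 : act 2 n200908 = n146846 := d2_1 D200908 (iv5 D146846) (iv2 F176794)
theorem F418363 : act 4 n200908 = n117254 := d9_1 D200908 F183484 (iv4 F104077) F104078 F50119 (iv5 F82818) D113614 D200902 F418346 F183490 (iv4 F85546) F85143 F41329 (iv5 F82814) D113616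
theorem F418364 : act 7 n200908 = n146852 := d13_2 (iv7 F176795) D200908 (iv5 D146852)
def n200909 : Q := act 3 n113618
theorem D200909 : act 3 n113618 = n200909 := rfl
theorem F418365 : act 4 n200909 = n146178 := d5_2 (iv4 F176798) D200909 (iv3 D146178) (iv4 D68547) (iv3 F85241)
theorem F418366 : act 7 n200909 = n146769 := d8_2 F176800 D200909 (iv3 D146769)
def n200910 : Q := act 5 n113618
theorem D200910 : act 5 n113618 = n200910 := rfl
theorem F418367 : act 2 n200910 = n146788 := d2_1 D200910 F230150 F176799
theorem F418368 : act 7 n200910 = n146770 := d13_2 F176800 D200910 (iv5 D146770)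
theorem F418369 : act 4 n200910 = n117236 := d16_2 (iv4 F176798) D200910 (iv5 D117236) (iv4 D54034) (iv5 D26141) D26140 D54033 F85249 (iv2 F85240)
theorem F418370 : act 0 n200910 = n117256 := d17_2 D113618 D200910 F183493 (iv4 D68832) (iv5 D32016) F40272 (iv5 F82818) (iv0 D52453) D52455
theorem F418371 : act 1 n200910 = n113702 := d17_6 F327583 (iv5 F327588) F83025 D54030 (iv4 F176798) D200910 (iv5 D113702) D113701 F176920
theorem E103819 : n188322 = n146824 := (c20_5 (iv4 D91230) (iv1 D42705) (iv4 F66921) (iv3 F140258) D188322 F230171 (iv4 F176924) (iv1 F418371) F418369 (iv3 F346316) (iv1 F372989))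
theorem F418372 : act 1 n146824 = n91218 := (sb E103819 (iv0 D188322))
def n200911 : Q := act 6 n113618
theorem D200911 : act 6 n113618 = n200911 := rfl
theorem F418373 : act 2 n200911 = n146797 := d3_1 D200911 (iv6 D146797) F176799
theorem F418374 : act 4 n200911 = n117226 := d10_1 D200911 (iv6 D117226) (iv4 F176798)
def n200912 : Q := act 3 n113619
theorem D200912 : act 3 n113619 = n200912 := rfl
theorem F418375 : act 7 n200912 = n146796 := d8_2 (iv7 F176801) D200912 (iv3 D146796)
def n200913 : Q := act 5 n113619
theorem D200913 : act 5 n113619 = n200913 := rfl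
theorem F418376 : act 2 n200913 = n146770 := d2_1 D200913 (iv5 D146770) (iv2 F176803)
theorem F418377 : act 4 n200913 = n117229 := d9_1 D200913 (iv5 D117229) (iv4 D54031) (iv5 D26139) D26138 D54030 (iv4 F176798) D200910 F418369 (iv5 D117236) (iv4 D54034) (iv5 D26141) D26140 D54033 F176802
theorem F418378 : act 7 n200913 = n146788 := d13_2 (iv7 F176801) D200913 F230150
theorem F418379 : act 0 n200913 = n113702 := d17_2 F204699 D200913 (iv5 D113702) (iv4 D52499) (iv5 D25480) D25478 (iv5 F82814) (iv0 F94243) D127378
theorem F418380 : act 1 n200913 = n117256 := d17_6 D69689 F106046 F77080 D54033 F176802 D200913 F183493 (iv0 F106056) (iv4 D69691)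
theorem F418381 : act 6 n191864 = n200913 := d10_0 F418377 F346314 D191864
def n200914 : Q := act 1 n113621
theorem D200914 : act 1 n113621 = n200914 := rfl
theorem F418382 : act 7 n200914 = n126608 := d15_2 (iv0 F365935) D200914 F203650
theorem F418383 : act 3 n187778 = n200914 := d19_19 (iv1 D200914) (iv5 F357335) F207678 F316782 D154348 F369516 (iv4 F369508) (iv3 D187208) (iv1 F369120) F369117 F151037 D99938 (iv1 F382967) (iv5 D191305) F151052 (iv3 F135559) (iv1 F135567) D90561 D187778
theorem F418384 : act 4 n200914 = n135651 := d20_6 F46530 D28888 D60913 D129677 (iv1 F371465) F418383 (iv1 F339345) (iv4 F363936) F363935 (iv1 D60908)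
theorem F418385 : act 6 n190727 = n200914 := d10_0 F418384 F218144 F380820
def n200915 : Q := act 7 n113621
theorem D200915 : act 7 n113621 = n200915 := rfl
theorem F418386 : act 4 n200915 = n113625 := d11_1 D200915 (iv7 D113625) (iv4 F176806)
theorem F418387 : act 0 n126608 = n200915 := d20_7 (iv4 F362902) (iv1 D113316) F82682 (iv3 F83101) D113897 F363812 (iv4 F203652) F418386 F176809 (iv1 F161461)
def n200916 : Q := act 3 n113623
theorem D200916 : act 3 n113623 = n200916 := rfl
theorem F418388 : act 7 n200916 = n135712 := d8_2 (iv7 F366031) D200916 F218211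
def n200917 : Q := act 5 n113623
theorem D200917 : act 5 n113623 = n200917 := rfl
theorem F418389 : act 7 n200917 = n135719 := d13_2 (iv7 F366031) D200917 (iv5 D135719)
def n200918 : Q := act 0 n113624
theorem D200918 : act 0 n113624 = n200918 := rfl
theorem F418390 : act 4 n200918 = n192716 := d20_8 F411222 (iv1 D194687) F159477 F75655 D91373 D188425 F391167 D200918 F387588 (iv1 F384988)
theorem F418391 : act 6 n200918 = n152277 := d21_5 F108297 (iv1 D52458) D52459 (iv6 F176808) D200918 (iv5 D152277) (iv1 D71840) D71841 F108283 D71845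
theorem F418392 : act 2 n152509 = n200918 := d15_3 (iv0 D200918) (iv0 F375397) F375396
theorem F418393 : act 7 n200918 = n188049 := d4_2 F375396 F418392 (iv2 F375393)
theorem F418394 : act 3 n188052 = n200918 := d8_3 F418393 F372220 D188052
def n200919 : Q := act 7 n113624
theorem D200919 : act 7 n113624 = n200919 := rfl
theorem F418395 : act 3 n200919 = n113640 := d8_1 D200919 (iv7 D113640) (iv3 F176807)
theorem F418396 : act 5 n200919 = n113625 := d13_1 D200919 (iv7 D113625) D113624
theorem F418397 : act 1 n188049 = n200919 := d15_1 (iv0 F418331) (iv7 D200919) (iv2 F418329)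
theorem F418398 : act 1 n200919 = n152509 := d15_1 F418397 (iv7 F375396) F375393
theorem F418399 : act 4 n114809 = n192714 := d18_5 F363938 F345881 F345877 F363936 F339340 (iv0 D192714) (iv4 F372221) F418397 F418396
theorem F418400 : act 6 n192714 = n114808 := d10_2 D114809 F418399 (iv4 D114808)
def n200920 : Q := act 5 n113626
theorem D200920 : act 5 n113626 = n200920 := rfl
theorem F418401 : act 3 n200920 = n193841 := d6_1 D200920 (iv5 F391161) (iv3 F391163)
theorem F418402 : act 4 n200920 = n119621 := d9_1 D200920 (iv5 D119621) (iv4 D55039) (iv5 F46705) (iv4 F95889) (iv5 F108445) (iv4 F178880) (iv5 F364655) (iv4 F364657) (iv5 D119627) (iv4 D55041) (iv5 F42604) (iv4 F40249) D52459 D113626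
def n200921 : Q := act 1 n113628
theorem D200921 : act 1 n113628 = n200921 := rfl
def n200922 : Q := act 5 n113628
theorem D200922 : act 5 n113628 = n200922 := rfl
theorem F418403 : act 3 n200922 = n113630 := d6_1 D200922 (iv5 D113630) D113628
def n200923 : Q := act 5 n113629
theorem D200923 : act 5 n113629 = n200923 := rfl
theorem F418404 : act 2 n200923 = n195176 := d2_1 D200923 F396108 (iv2 F395848)
theorem F418405 : act 3 n200923 = n132935 := d6_1 D200923 (iv5 F399331) F399330
theorem F418406 : act 6 n200923 = n132933 := d12_2 (iv6 F399326) D200923 (iv5 F363068) F417753 F417750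
theorem F418407 : act 7 n200923 = n200654 := d13_2 (iv7 F395847) D200923 (iv5 D200654)
theorem F418408 : act 1 n200774 = n200923 := d15_1 (iv0 F417869) F418407 F417371
def n200924 : Q := act 0 n113630
theorem D200924 : act 0 n113630 = n200924 := rfl
theorem F418409 : act 5 n200924 = n200896 := d21_2 D113630 D200924 (iv6 D200896) (iv1 D113609) (iv6 D52447) (iv5 D25453) (iv1 D12099) D12101 D25459 D52460
theorem F418410 : act 1 n113635 = n200924 := d15_0 (iv0 D200924) (iv7 F395863) F395862
theorem F418411 : act 0 n113636 = n200369 := d21_4 (iv5 F418409) (iv1 F418410) (iv5 D113635) D113636 F416165 F374525 F369266 (iv5 D127410) D127411 F418322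
theorem F418412 : act 1 n113636 = n195801 := d15_1 (iv0 F418411) F398242 (iv2 F416163)
def n200925 : Q := act 1 n113630
theorem D200925 : act 1 n113630 = n200925 := rfl
theorem F418413 : act 1 n200925 = n113635 := d15_1 D200925 F395855 (iv2 F395860)
def n200926 : Q := act 4 n113630
theorem D200926 : act 4 n113630 = n200926 := rfl
def n200927 : Q := act 6 n113630
theorem D200927 : act 6 n113630 = n200927 := rfl
def n200928 : Q := act 4 n113633
theorem D200928 : act 4 n113633 = n200928 := rfl
def n200929 : Q := act 5 n113633
theorem D200929 : act 5 n113633 = n200929 := rfl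
theorem F418414 : act 3 n200929 = n113635 := d6_1 D200929 (iv5 D113635) D113633
theorem F418415 : act 6 n200929 = n159375 := d21_3 (iv5 F252010) (iv1 F395852) D200929 (iv1 F250923) (iv6 F206693) F206692 (iv1 F178173) D195649 (iv6 F398559) (iv1 F398568)
theorem F418416 : act 0 n114950 = n200929 := d21_10 (iv5 D200929) F395851 (iv5 F163527) (iv6 D106391) (iv1 D49157) (iv6 F77602) (iv5 D49144) F177626 D53040 D114950
def n200930 : Q := act 6 n113633
theorem D200930 : act 6 n113633 = n200930 := rfl
theorem F418417 : act 3 n200930 = n113636 := d7_1 D200930 (iv6 D113636) D113633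
theorem F418418 : act 0 n200930 = n134500 := d21_10 F365945 (iv1 F164573) D196213 F399919 (iv1 F177522) D159552 F251289 F418416 (iv5 D200929) D200930
theorem F418419 : act 1 n200930 = n196026 := d15_1 (iv0 F418418) (iv7 F399926) F399923
def n200931 : Q := act 6 n113634
theorem D200931 : act 6 n113634 = n200931 := rfl
theorem F418420 : act 2 n200931 = n200655 := d3_1 D200931 (iv6 D200655) (iv2 F395849)
theorem F418421 : act 4 n200931 = n113636 := d10_1 D200931 (iv6 D113636) D113634
theorem F418422 : act 5 n200931 = n189804 := d21_6 F399489 (iv1 F164305) (iv5 F329264) F203051 (iv1 F395857) D200931 (iv1 D189804) F364802 F398787 (iv1 F399491)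
theorem F418423 : act 1 n169913 = n200931 := d18_8 (iv1 D189804) F146893 D163246 F365834 F332802 (iv4 F99320) D135802 F364701 F418422
theorem F418424 : act 0 n126297 = n200931 := d20_1 (iv4 F377839) F418421 (iv3 F418417) F418418 (iv3 D134500) (iv4 F171904) (iv1 D61929) (iv4 F48424) (iv3 F99319) (iv1 F364717)
def n200932 : Q := act 4 n113635
theorem D200932 : act 4 n113635 = n200932 := rfl
theorem F418425 : act 6 n200932 = n134860 := d10_2 F178383 D200932 F364997
def n200933 : Q := act 5 n113636
theorem D200933 : act 5 n113636 = n200933 := rfl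
theorem F418426 : act 6 n200933 = n186227 := d12_2 D113636 D200933 F367231 F178383 (iv5 D113635)
theorem F418427 : act 1 n200933 = n195679 := d17_6 (iv1 F376521) (iv5 F380458) (iv1 F380463) (iv5 F418422) F418421 D200933 (iv5 D195679) (iv0 F163179) (iv4 F165921)
theorem F418428 : act 0 n200933 = n196937 := d21_7 F398481 (iv1 F164438) F164434 (iv6 F161465) (iv1 F161467) D113636 D200933 F402362 (iv6 F397806) (iv1 F398479)
def n200934 : Q := act 7 n113636
theorem D200934 : act 7 n113636 = n200934 := rfl
theorem F418429 : act 6 n200934 = n195642 := d14_1 D200934 F397711 (iv6 D195120) F395844 D113636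
theorem F418430 : act 1 n195645 = n200934 := d15_1 (iv0 F417378) (iv7 D200934) (iv2 F395869)
theorem F418431 : act 1 n200934 = n194004 := d15_1 F418430 (iv7 F398242) F398239
def n200935 : Q := act 3 n113637
theorem D200935 : act 3 n113637 = n200935 := rfl
theorem F418432 : act 6 n200935 = n114318 := d7_2 (iv6 F176814) D200935 F178201
theorem F418433 : act 4 n136560 = n200935 := d10_3 F418432 (iv4 F358479) F358539
def n200936 : Q := act 4 n113637
theorem D200936 : act 4 n113637 = n200936 := rfl
theorem F418434 : act 3 n200936 = n136569 := d5_1 D200936 (iv4 D136569) (iv3 F219650) F418433 (iv3 D200935)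
theorem F418435 : act 6 n200936 = n114320 := d10_2 (iv6 F176814) D200936 (iv4 D114320)
theorem F418436 : act 7 n200936 = n196580 := d11_2 F375318 D200936 F401134
theorem F418437 : act 0 n141942 = n200936 := d21_4 F83363 (iv1 F94183) (iv5 F163118) F362685 F418435 F331551 (iv1 F180865) F331532 F112696 (iv1 F83364)
def n200937 : Q := act 4 n113638
theorem D200937 : act 4 n113638 = n200937 := rfl
theorem F418438 : act 2 n200937 = n196580 := d1_1 D200937 F401134 F375316
theorem F418439 : act 6 n200937 = n126164 := d10_2 (iv6 F374391) D200937 (iv4 F374386)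
theorem F418440 : act 0 n200937 = n141942 := d18_2 (iv1 F395874) D200937 F362690 (iv5 D105343) (iv4 F93403) (iv0 F395856) (iv4 D113634) F161467 (iv5 F395873)
def n200938 : Q := act 0 n113639
theorem D200938 : act 0 n113639 = n200938 := rfl
theorem F418441 : act 3 n200938 = n187917 := d20_5 F140511 D91373 D188426 (iv3 F391166) D200938 F371836 (iv1 F370843) (iv4 F372348) F373426 (iv1 D188423)
theorem F418442 : act 6 n200938 = n114502 := d21_5 (iv5 F83394) (iv1 F161473) F161471 (iv6 F176815) D200938 F340033 (iv1 F340002) (iv5 D114331) F83354 D52776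
theorem F418443 : act 4 n113911 = n200938 := d10_3 F418442 (iv4 D114502) (iv6 F177204)
theorem F418444 : act 7 n199145 = n200938 := d14_0 F418442 (iv7 F248566) (iv6 F340039) F172037 D199145
def n200939 : Q := act 5 n113639
theorem D200939 : act 5 n113639 = n200939 := rfl
def n200940 : Q := act 7 n113639
theorem D200940 : act 7 n113639 = n200940 := rfl
theorem F418445 : act 4 n200940 = n113640 := d11_1 D200940 (iv7 D113640) D113639
theorem F418446 : act 1 n199145 = n200940 := d15_1 (iv0 F410876) (iv7 D200940) (iv2 F395870)
def n200941 : Q := act 0 n113641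
theorem D200941 : act 0 n113641 = n200941 := rfl
theorem F418447 : act 4 n200941 = n185292 := d18_3 F407363 (iv4 F391164) D200941 (iv5 D185292) F135190 D88285 (iv4 F373380) F373378 (iv5 F407362)
theorem F418448 : act 5 n196375 = n200941 := d17_3 (iv1 D127824) (iv5 F178379) F400513 F418447 (iv5 D185292) D185291 (iv5 F393984) (iv0 D184096) (iv4 F358490)
theorem F418449 : act 3 n200941 = n196377 := d20_3 (iv4 F372334) F372335 (iv4 F418447) F400515 (iv3 D192699) F154599 (iv1 F292990) D90368 D187577 F370864
def n200942 : Q := act 1 n113641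
theorem D200942 : act 1 n113641 = n200942 := rfl
def n200943 : Q := act 2 n113641
theorem D200943 : act 2 n113641 = n200943 := rfl
def n200944 : Q := act 5 n113647
theorem D200944 : act 5 n113647 = n200944 := rfl
theorem F418450 : act 3 n200944 = n113649 := d6_1 D200944 (iv5 D113649) (iv3 F176826)
theorem F418451 : act 4 n200944 = n157244 := d16_4 (iv4 F358165) (iv5 D113662) (iv4 F176827) D200944 (iv5 F410894) F410891 F176158 F164665 (iv2 F164663)
theorem F418452 : act 1 n187268 = n200944 := d18_6 (iv1 F103414) (iv4 F82455) (iv1 D52159) (iv4 F82449) D113004 F369663 F418451 F247461 (iv5 D144104)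
def n200945 : Q := act 4 n113649
theorem D200945 : act 4 n113649 = n200945 := rfl
theorem F418453 : act 0 n200945 = n198567 := d18_2 F409037 D200945 (iv4 D198567) D198568 F408350 (iv0 F228352) (iv4 F407762) (iv0 F407764) D198741
theorem F418454 : act 1 n200945 = n198571 := d18_6 F326035 (iv4 F80441) F80443 (iv4 F82847) D113649 D200945 (iv4 D198571) F365449 (iv5 D174698)
def n200946 : Q := act 1 n113652
theorem D200946 : act 1 n113652 = n200946 := rfl
theorem F418455 : act 1 n200946 = n198927 := d15_1 D200946 F409939 F356014
theorem F418456 : act 4 n200946 = n176495 := d17_9 F353620 (iv5 F353600) (iv1 F353610) (iv5 F349825) (iv4 F353615) F342868 D196701 (iv5 F401531) D200946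
theorem F418457 : act 6 n176504 = n200946 := d10_0 F418456 F275809 D176504
def n200947 : Q := act 4 n113654
theorem D200947 : act 4 n113654 = n200947 := rfl
theorem F418458 : act 2 n200947 = n200785 := d1_1 D200947 (iv4 D200785) (iv2 F357990)
theorem F418459 : act 7 n200947 = n200782 := d11_2 F357995 D200947 (iv4 D200782)
def n200948 : Q := act 6 n113654
theorem D200948 : act 6 n113654 = n200948 := rfl
theorem F418460 : act 2 n200948 = n200786 := d3_1 D200948 (iv6 D200786) (iv2 F357990)
def n200949 : Q := act 4 n113657
theorem D200949 : act 4 n113657 = n200949 := rfl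
theorem F418461 : act 2 n200949 = n200782 := d1_1 D200949 (iv4 D200782) (iv2 F357993)
theorem F418462 : act 7 n200949 = n200785 := d11_2 (iv7 F357991) D200949 (iv4 D200785)
theorem F418463 : act 5 n200949 = n159344 := d16_1 D200949 F250847 (iv5 F120350) F120349 D95313 F318879 D113654 (iv7 F357995) (iv2 F357993)
def n200950 : Q := act 6 n113657
theorem D200950 : act 6 n113657 = n200950 := rfl
theorem F418464 : act 2 n200950 = n200783 := d3_1 D200950 (iv6 D200783) (iv2 F357993)
def n200951 : Q := act 1 n113658
theorem D200951 : act 1 n113658 = n200951 := rfl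
theorem F418465 : act 4 n194946 = n200951 := d20_0 (iv1 D200951) (iv4 F413787) F413786 F325189 (iv3 F358396) F358397 F358398 F160608 (iv3 F160604) D194946
theorem F418466 : act 6 n125820 = n200951 := d21_3 F395631 F165142 (iv5 F202329) (iv1 D200951) (iv6 D113658) D113657 F357983 F94258 D105230 D195066
theorem F418467 : act 2 n200951 = n145439 := d3_1 F418466 (iv6 F402666) F402660
theorem F418468 : act 3 n200951 = n177346 := d7_1 F418466 (iv6 D177346) (iv3 F325925)
theorem F418469 : act 5 n200951 = n181139 := d12_1 F418466 (iv6 F411039) (iv5 D112840) (iv6 F104366) (iv5 F202329)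
def n200952 : Q := act 5 n113658
theorem D200952 : act 5 n113658 = n200952 := rfl
theorem F418470 : act 2 n200952 = n162894 := d2_1 D200952 F395830 F395828
theorem F418471 : act 3 n200952 = n177019 := d6_1 D200952 (iv5 F347427) F347426
theorem F418472 : act 0 n200952 = n194806 := d17_2 (iv1 D200951) D200952 F394543 (iv4 F408834) (iv5 F408838) (iv0 D137260) D137263 (iv0 F395133) F418465
theorem F418473 : act 4 n137260 = n200952 := d16_4 (iv4 F394542) F394543 (iv4 F408834) (iv5 F408838) (iv5 D200952) (iv4 F413787) (iv5 F413789) F394519 F394516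
theorem F418474 : act 0 n198680 = n198676 := d17_2 F365912 D198680 (iv5 F408838) F418473 (iv5 D200952) D200951 F418469 (iv0 D181139) (iv4 F250181)
theorem F418475 : act 7 n177456 = n200952 := d8_0 F418471 F276596 D177456
def n200953 : Q := act 7 n113658
theorem D200953 : act 7 n113658 = n200953 := rfl
theorem F418476 : act 3 n200953 = n177204 := d8_1 D200953 F299407 F347426
theorem F418477 : act 4 n200953 = n186087 := d11_1 D200953 (iv7 F413788) F413787
theorem F418478 : act 5 n200953 = n177456 := d13_1 D200953 F418475 (iv5 D200952)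
theorem F418479 : act 6 n200953 = n180024 := d14_1 D200953 (iv7 F356008) (iv6 F356010) (iv7 F173637) D113658
theorem F418480 : act 1 n145439 = n200953 := d15_1 (iv0 F395831) (iv7 D200953) (iv2 F395828)
def n200954 : Q := act 7 n113659
theorem D200954 : act 7 n113659 = n200954 := rfl
theorem F418481 : act 2 n200954 = n113663 := d4_1 D200954 (iv7 D113663) (iv2 F176852)
theorem F418482 : act 4 n200954 = n194810 := d11_1 D200954 F394554 F380404
theorem F418483 : act 5 n200954 = n129182 := d13_1 D200954 (iv7 F211188) F358175
theorem F418484 : act 6 n200954 = n180337 := d14_1 D200954 F359041 (iv6 F359016) F161404 D113659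
theorem F418485 : act 1 n113661 = n200954 := d15_1 D113661 (iv7 D200954) F176852
theorem F418486 : act 1 n200954 = n113660 := d15_1 F418485 F358209 (iv2 F358210)
def n200955 : Q := act 3 n113660
theorem D200955 : act 3 n113660 = n200955 := rfl
theorem F418487 : act 2 n200955 = n124612 := d0_1 D200955 (iv3 D124612) F199180 (iv3 F358171) (iv2 F358207)
theorem F418488 : act 5 n200955 = n128863 := d6_2 (iv5 F358208) D200955 (iv3 D128863)
theorem F418489 : act 4 n200955 = n167937 := d20_6 (iv4 D52482) (iv1 D25470) (iv4 F40266) (iv3 F82851) D113660 D200955 F341880 (iv4 F348163) F176517 (iv1 F82857)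
theorem F418490 : act 0 n176504 = n200955 := d18_2 (iv1 D176503) D176504 F418489 F354002 (iv4 F306363) (iv0 D130400) (iv4 F306316) (iv0 F187611) F275812
def n200956 : Q := act 4 n113660
theorem D200956 : act 4 n113660 = n200956 := rfl
theorem F418491 : act 2 n200956 = n173325 := d1_1 D200956 (iv4 F358172) (iv2 F358207)
theorem F418492 : act 3 n200956 = n174680 := d5_1 D200956 (iv4 F323497) F323496 (iv4 F418489) (iv3 D200955)
theorem F418493 : act 7 n200956 = n174669 := d11_2 (iv7 F358209) D200956 (iv4 F358204)
theorem F418494 : act 1 n174668 = n200956 := d15_1 D174668 F418493 (iv2 D174669)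
theorem F418495 : act 3 n174668 = n194949 := d20_5 F369924 F333979 F323497 (iv3 F418492) (iv1 F418494) F395142 (iv1 F345729) (iv4 F407958) F407957 F369925
theorem F418496 : act 0 n174667 = n200956 := d20_4 (iv4 D166408) (iv1 F194281) (iv4 F413782) F413781 F418492 (iv4 F323497) (iv1 F330130) (iv4 F408371) F408372 (iv1 F373616)
def n200957 : Q := act 6 n113664
theorem D200957 : act 6 n113664 = n200957 := rfl
theorem F418497 : act 3 n200957 = n200484 := d7_1 D200957 F416667 F383700
theorem F418498 : act 5 n200957 = n200483 := d12_1 D200957 (iv6 F416663) (iv5 D125739) D125740 (iv5 F202234)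
theorem F418499 : act 7 n200957 = n196119 := d14_2 F204686 D200957 (iv6 D196119) (iv7 F341609) F363269
theorem F418500 : act 0 n200957 = n190796 := d21_4 (iv5 F352192) F202235 (iv5 F202234) D200957 (iv6 D190796) (iv5 D96679) D96676 D190790 F381083 (iv1 F352193)
theorem F418501 : act 1 n200957 = n196243 := d15_1 (iv0 F418500) (iv7 F411030) F411027
def n200958 : Q := act 3 n113665
theorem D200958 : act 3 n113665 = n200958 := rfl
theorem F418502 : act 6 n200958 = n196120 := d7_2 (iv6 F363270) D200958 (iv3 D196120)
def n200959 : Q := act 0 n113666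
theorem D200959 : act 0 n113666 = n200959 := rfl
theorem F418503 : act 4 n200959 = n195054 := d18_3 (iv1 D113665) D113666 D200959 F395583 F202242 (iv0 F100276) (iv4 F176710) (iv0 F395626) F395625
theorem F418504 : act 2 n146882 = n200959 := d1_3 F418503 F395588 F395590
theorem F418505 : act 6 n146880 = n200959 := d10_0 F418503 (iv6 F395585) (iv4 F230267)
theorem F418506 : act 7 n200664 = n200959 := d11_0 F418503 (iv7 F395586) D200664
def n200960 : Q := act 1 n113666
theorem D200960 : act 1 n113666 = n200960 := rfl
theorem F418507 : act 7 n200960 = n146882 := d15_2 (iv0 D200959) D200960 F418504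
theorem F418508 : act 4 n200960 = n195055 := d18_7 (iv1 F82857) (iv4 D52482) (iv1 D25470) (iv4 F40266) D52480 D113666 D200960 F395592 F176526
theorem F418509 : act 2 n200664 = n200960 := d1_3 F418508 F395595 D200664
theorem F418510 : act 3 n132381 = n200960 := d5_5 F418508 (iv3 F395596) F204771 (iv3 F105044) (iv4 F326333)
theorem F418511 : act 6 n132380 = n200960 := d10_0 F418508 (iv6 F399096) F399095
def n200961 : Q := act 5 n113666
theorem D200961 : act 5 n113666 = n200961 := rfl
theorem F418512 : act 4 n200961 = n196435 := d16_2 D113666 D200961 F400668 F165724 F78371 (iv4 F94234) (iv5 F204693) (iv7 D127377) F94232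
theorem F418513 : act 7 n200961 = n196898 := d16_8 (iv4 D145323) (iv5 D68135) F50030 F24585 (iv4 F40266) D52480 D113666 D200961 F402208
theorem F418514 : act 0 n200961 = n199110 := d17_2 (iv1 D200960) D200961 F410715 (iv4 D198931) (iv5 D110729) (iv0 F80495) D105204 D195055 (iv4 F418508)
def n200962 : Q := act 7 n113666
theorem D200962 : act 7 n113666 = n200962 := rfl
theorem F418515 : act 3 n200962 = n129107 := d8_1 D200962 F213971 F358206
theorem F418516 : act 4 n200962 = n113667 := d11_1 D200962 (iv7 D113667) D113666
theorem F418517 : act 5 n200962 = n196898 := d13_1 D200962 (iv7 F418513) (iv5 D200961)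
theorem F418518 : act 1 n200664 = n200962 := d15_1 (iv0 F417398) (iv7 D200962) (iv2 F204691)
theorem F418519 : act 1 n200962 = n146882 := d15_1 F418518 (iv7 F418507) (iv2 F418509)
def n200963 : Q := act 6 n113667
theorem D200963 : act 6 n113667 = n200963 := rfl
theorem F418520 : act 3 n200963 = n128679 := d7_1 D200963 F211182 F358167
theorem F418521 : act 5 n200963 = n128739 := d12_1 D200963 (iv6 D128739) (iv5 F332800) F161413 (iv5 F176855)
theorem F418522 : act 0 n200963 = n132162 := d21_4 (iv5 D127373) (iv1 F94229) (iv5 F176855) D200963 (iv6 F381086) (iv5 F395669) F395671 (iv5 D128920) D128921 (iv1 F352195)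
theorem F418523 : act 1 n200963 = n132167 := d15_1 (iv0 F418522) (iv7 F329388) F329387
def n200964 : Q := act 2 n113668
theorem D200964 : act 2 n113668 = n200964 := rfl
theorem F418524 : act 3 n200964 = n124517 := d0_2 D113668 D200964 F199174 (iv3 F326670) (iv2 F82853)
theorem F418525 : act 4 n200964 = n180022 := d1_2 (iv4 F176856) D200964 F361372
theorem F418526 : act 5 n200964 = n195104 := d2_2 F366362 D200964 F395763
theorem F418527 : act 6 n200964 = n197826 := d3_2 (iv6 F176857) D200964 (iv2 D197826)
theorem F418528 : act 7 n200964 = n124606 := d4_2 (iv7 F176858) D200964 F366000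
theorem F418529 : act 1 n200964 = n200660 := d15_0 (iv0 D200660) (iv7 F176858) D200964
theorem F418530 : act 1 n200583 = n200964 := d15_0 F418529 F417385 (iv2 F417060)
def n200965 : Q := act 4 n113669
theorem D200965 : act 4 n113669 = n200965 := rfl
theorem F418531 : act 2 n200965 = n200098 := d1_1 D200965 (iv4 D200098) (iv2 F176859)
theorem F418532 : act 6 n200965 = n200846 := d10_2 F366364 D200965 (iv4 D200846)
theorem F418533 : act 7 n200965 = n200662 := d11_2 (iv7 F176860) D200965 (iv4 D200662)
theorem F418534 : act 0 n200965 = n128925 := d18_2 (iv1 F409950) D200965 F207152 D128932 (iv4 F352198) (iv0 F171995) D196899 F402216 (iv5 F409949)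
def n200966 : Q := act 1 n113673
theorem D200966 : act 1 n113673 = n200966 := rfl
theorem F418535 : act 1 n200966 = n130686 := d15_1 D200966 F366054 F176982
theorem F418536 : act 7 n200966 = n130692 := d15_2 (iv0 F397819) D200966 (iv2 F397815)
theorem F418537 : act 4 n200966 = n132344 := d18_7 F366377 F198754 (iv1 D124256) (iv4 F122246) (iv5 F321980) (iv4 F325310) D200966 F362641 D158797
theorem F418538 : act 2 n130691 = n200966 := d4_3 F418536 (iv2 F397815) (iv7 F397820)
def n200967 : Q := act 5 n113680
theorem D200967 : act 5 n113680 = n200967 := rfl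
theorem F418539 : act 2 n200967 = n196339 := d2_1 D200967 F400390 F371332
theorem F418540 : act 3 n200967 = n141728 := d6_1 D200967 (iv5 D141728) (iv3 F354326)
theorem F418541 : act 6 n200967 = n113737 := d12_2 D113680 D200967 (iv5 D113737) (iv6 D52515) (iv5 F139187)
theorem F418542 : act 4 n200967 = n140439 := d16_2 (iv4 F354327) D200967 (iv5 F228366) F181252 D111061 F203939 F330917 F361990 (iv2 D141757)
theorem F418543 : act 7 n188117 = n200967 := d11_0 F418542 F228368 (iv4 F372357)
def n200968 : Q := act 7 n113680
theorem D200968 : act 7 n113680 = n200968 := rfl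
theorem F418544 : act 2 n200968 = n146370 := d4_1 D200968 (iv7 F371335) F371332
theorem F418545 : act 3 n200968 = n115493 := d8_1 D200968 F179792 (iv3 F354326)
theorem F418546 : act 4 n200968 = n116234 := d11_1 D200968 F181165 (iv4 F354327)
theorem F418547 : act 5 n200968 = n188117 := d13_1 D200968 F418543 (iv5 D200967)
theorem F418548 : act 6 n200968 = n130492 := d14_1 D200968 (iv7 F213921) (iv6 F327485) F139267 D113680
theorem F418549 : act 1 n188724 = n200968 := d15_1 (iv0 F374584) (iv7 D200968) (iv2 F371332)
theorem F418550 : act 1 n200968 = n194002 := d15_1 F418549 (iv7 D194002) (iv2 F374580)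
def n200969 : Q := act 3 n113681
theorem D200969 : act 3 n113681 = n200969 := rfl
theorem F418551 : act 2 n200969 = n126676 := d0_1 D200969 (iv3 D126676) (iv2 F93816) D59612 F176878
theorem F418552 : act 5 n200969 = n135994 := d6_2 (iv5 F176879) D200969 F218787
theorem F418553 : act 6 n200969 = n193462 := d7_2 F339463 D200969 F389929
theorem F418554 : act 7 n200969 = n127025 := d8_2 F219855 D200969 (iv3 F219853)
theorem F418555 : act 0 n200969 = n126927 := d19_4 D43408 D92787 (iv4 F176877) D200969 (iv5 D126927) D126926 (iv3 F204182) (iv1 F165366) D142434 (iv4 F318202) F178628 (iv1 F318224) (iv5 D68436) (iv4 F55402) F55398 D34995 F55448 F41558 F41553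
theorem F418556 : act 0 n126922 = n200969 := d17_2 D59570 D126922 F418552 (iv4 F220239) F331275 (iv0 F294703) F355424 (iv0 F181751) (iv4 D59573)
def n200970 : Q := act 4 n113686
theorem D200970 : act 4 n113686 = n200970 := rfl
theorem F418557 : act 1 n200970 = n159582 := d18_6 F416100 F416099 (iv1 D191179) F294060 (iv5 F331441) D200970 F251354 D159584 (iv5 F396248)
def n200971 : Q := act 6 n113687
theorem D200971 : act 6 n113687 = n200971 := rfl
theorem F418558 : act 2 n200971 = n128968 := d3_1 D200971 F207179 F329576
theorem F418559 : act 4 n200971 = n113689 := d10_1 D200971 (iv6 D113689) D113687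
theorem F418560 : act 5 n200971 = n128622 := d12_1 D200971 (iv6 D128622) (iv5 D60493) D60494 (iv5 F329261)
theorem F418561 : act 1 n126302 = n200971 := d18_8 F365653 D200703 (iv1 F417562) F207165 (iv5 F362306) (iv4 F333515) (iv0 F364725) (iv4 F377844) F418560
theorem F418562 : act 7 n188715 = n200971 := d11_0 F418559 (iv7 F176892) D188715
def n200972 : Q := act 5 n113690
theorem D200972 : act 5 n113690 = n200972 := rfl
theorem F418563 : act 2 n200972 = n190425 := d2_1 D200972 F398060 (iv2 F398064)
theorem F418564 : act 3 n200972 = n113692 := d6_1 D200972 (iv5 D113692) D113690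
theorem F418565 : act 6 n200972 = n145519 := d12_2 F399965 D200972 (iv5 D145519) D145520 (iv5 F399964)
theorem F418566 : act 7 n200972 = n190429 := d13_2 F204730 D200972 F399899
theorem F418567 : act 4 n200972 = n189999 := d18_5 F366119 F217478 F399975 F399973 D200972 (iv0 D189999) (iv4 F378513) (iv0 F378514) F376466
theorem F418568 : act 0 n200972 = n190452 := d21_7 F398345 F366153 (iv5 F398011) F398013 F399966 F399965 D200972 (iv5 F398359) (iv6 D195827) D195824
theorem F418569 : act 0 n190009 = n200972 := d21_10 (iv5 D200972) F397998 F397997 (iv6 D106713) F82478 (iv6 F348073) F147607 (iv1 F147229) F147227 D190009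
theorem E103820 : n191196 = n185665 := ((c20_5 F409403 (iv1 F176051) F361221 F287968 D185665 (iv3 F402371) (iv4 F418567) F418568 (iv4 F379955) F379954 D198821)).symm
theorem F418570 : act 2 n185665 = n97375 := (sb E103820 (iv2 D191196))
theorem F418571 : act 3 n185665 = n189999 := (sb E103820 (iv3 F402371))
theorem F418572 : act 7 n185665 = n97376 := (sb E103820 (iv7 F382554))
theorem E103821 : n191200 = n185666 := (c15_4 F367193 F348732 F418572 (iv2 F382559))
theorem F418573 : act 2 n185666 = n97376 := (sb E103821 F382559)
theorem F418574 : act 7 n185666 = n97375 := (sb E103821 (iv7 D191200))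
def n200973 : Q := act 5 n113693
theorem D200973 : act 5 n113693 = n200973 := rfl
theorem F418575 : act 3 n200973 = n145520 := d6_1 D200973 (iv5 F399964) F399962
theorem F418576 : act 6 n200973 = n145518 := d12_2 D113693 D200973 F359235 F176897 (iv5 D113692)
theorem F418577 : act 7 n200973 = n188546 := d13_2 F398210 D200973 F398213
theorem F418578 : act 0 n200973 = n176362 := d17_2 F251393 D200973 F355236 F355239 D128774 (iv0 F362250) (iv5 D128881) (iv0 F342939) (iv4 F177856)
theorem F418579 : act 0 n200894 = n200973 := d19_0 (iv5 D200973) (iv4 F342944) (iv3 D128632) (iv1 D60496) D60498 D128641 (iv3 F207279) (iv1 F222206) (iv5 D139021) F313040 (iv3 F313039) (iv1 F53743) (iv5 F312538) F107951 (iv3 F110119) (iv1 F308107) (iv5 F199606) F229128 (iv3 F418312)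
def n200974 : Q := act 3 n113697
theorem D200974 : act 3 n113697 = n200974 := rfl
theorem F418580 : act 4 n200974 = n137882 := d5_2 D113697 D200974 F221110 F177033 F83238
theorem F418581 : act 7 n200974 = n146860 := d8_2 (iv7 F176912) D200974 (iv3 D146860)
theorem F418582 : act 2 n137886 = n200974 := d1_3 F418580 F221109 D137886
theorem F418583 : act 0 n136857 = n200974 := d18_2 (iv1 D136856) D136857 F418580 (iv5 D137882) (iv4 F102791) (iv0 D51052) (iv4 F80499) D110736 F220821
def n200975 : Q := act 1 n113698
theorem D200975 : act 1 n113698 = n200975 := rfl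
theorem F418584 : act 1 n200975 = n146871 := d15_1 D200975 (iv7 D146871) (iv2 F176913)
theorem F418585 : act 7 n200975 = n146869 := d15_2 F347378 D200975 (iv2 F355403)
theorem F418586 : act 5 n200975 = n144943 := d17_7 (iv1 F199848) F199850 (iv1 F92503) D86010 (iv4 F311999) (iv5 F176914) D200975 (iv0 D144943) F104052
theorem F418587 : act 3 n113712 = n200975 := d19_19 (iv1 D200975) F176914 F311999 (iv3 F280337) F280339 (iv5 D150103) F155411 F310784 (iv1 D28973) (iv5 D13793) (iv4 F22974) (iv3 D13729) D13727 D28786 F46420 (iv3 F95225) D128883 F362262 (iv4 F347576)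
theorem F418588 : act 2 n200975 = n133468 := d0_1 F418587 (iv3 D133468) F209657 (iv3 F355238) F355237
def n200976 : Q := act 7 n113698
theorem D200976 : act 7 n113698 = n200976 := rfl
theorem F418589 : act 2 n200976 = n146871 := d4_1 D200976 (iv7 D146871) (iv2 F176913)
theorem F418590 : act 3 n200976 = n133451 := d8_1 D200976 F355671 F177707
theorem F418591 : act 4 n200976 = n129452 := d11_1 D200976 (iv7 F355400) (iv4 F347372)
theorem F418592 : act 5 n200976 = n119074 := d13_1 D200976 (iv7 D119074) (iv5 F176914)
theorem F418593 : act 6 n200976 = n146865 := d14_1 D200976 (iv7 D146865) (iv6 D68849) F82887 D113698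
theorem F418594 : act 1 n133468 = n200976 := d15_1 (iv0 F355401) (iv7 D200976) F176913
theorem F418595 : act 1 n200976 = n146869 := d15_1 F418594 (iv7 F418585) F418588
def n200977 : Q := act 3 n113699
theorem D200977 : act 3 n113699 = n200977 := rfl
theorem F418596 : act 7 n200977 = n146866 := d8_2 (iv7 F176916) D200977 (iv3 D146866)
def n200978 : Q := act 6 n113699
theorem D200978 : act 6 n113699 = n200978 := rfl
theorem F418597 : act 2 n200978 = n146862 := d3_1 D200978 (iv6 D146862) (iv2 F176915)
theorem F418598 : act 4 n200978 = n113700 := d10_1 D200978 (iv6 D113700) D113699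
theorem F418599 : act 5 n191656 = n200978 := d16_1 F384108 F418598 (iv5 F381708) (iv4 D190958) (iv5 D97087) (iv4 F149771) D190956 F381692 (iv2 F384105)
theorem F418600 : act 0 n200978 = n191608 := d17_2 (iv1 F384065) F418599 (iv5 D191608) (iv4 D98591) (iv5 D46089) D46087 D98586 F151978 D183407
def n200979 : Q := act 1 n113700
theorem D200979 : act 1 n113700 = n200979 := rfl
theorem F418601 : act 1 n200979 = n146865 := d15_1 D200979 (iv7 D146865) (iv2 F176917)
theorem F418602 : act 7 n200979 = n146863 := d15_2 (iv0 F398513) D200979 (iv2 F398511)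
theorem F418603 : act 6 n134494 = n200979 := d21_3 F364868 (iv1 F366053) (iv5 F361696) (iv1 D200979) (iv6 D113700) F82890 (iv1 D28385) D28387 D59831 D127383
theorem F418604 : act 2 n200979 = n146864 := d3_1 F418603 (iv6 F398517) (iv2 F364871)
theorem F418605 : act 3 n200966 = n200979 := d0_0 F418604 (iv3 F398516) F176944 (iv3 F365046) F418538
def n200980 : Q := act 7 n113700
theorem D200980 : act 7 n113700 = n200980 := rfl
theorem F418606 : act 2 n200980 = n146865 := d4_1 D200980 (iv7 D146865) (iv2 F176917)
theorem F418607 : act 5 n200980 = n189766 := d13_1 D200980 (iv7 F381705) F381708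
theorem F418608 : act 6 n200980 = n146871 := d14_1 D200980 (iv7 D146871) (iv6 D68851) (iv7 F82889) D113700
theorem F418609 : act 1 n146864 = n200980 := d15_1 D146864 (iv7 D200980) F176917
theorem F418610 : act 1 n200980 = n146863 := d15_1 F418609 (iv7 F418602) F418604
def n200981 : Q := act 3 n113701
theorem D200981 : act 3 n113701 = n200981 := rfl
theorem F418611 : act 5 n200981 = n199472 := d6_2 F231950 D200981 F412316
theorem F418612 : act 7 n200981 = n146875 := d8_2 (iv7 F176919) D200981 (iv3 D146875)
theorem F418613 : act 0 n129488 = n200981 := d20_4 F46497 D28862 D60848 D129488 (iv3 D200981) F176920 F327583 (iv4 F207374) F207373 F95321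
def n200982 : Q := act 6 n113701
theorem D200982 : act 6 n113701 = n200982 := rfl
theorem F418614 : act 2 n200982 = n146874 := d3_1 D200982 (iv6 D146874) F176921
theorem F418615 : act 4 n200982 = n127401 := d10_1 D200982 (iv6 D127401) (iv4 F176920)
theorem F418616 : act 5 n182386 = n200982 := d16_1 D182386 F418615 (iv5 F238569) F363169 (iv5 D183224) F134279 D87543 (iv7 F151976) F295110
theorem F418617 : act 7 n200982 = n183412 := d13_2 F295124 F418616 (iv5 D183412)
def n200983 : Q := act 0 n113709
theorem D200983 : act 0 n113709 = n200983 := rfl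
theorem F418618 : act 4 n200983 = n148700 := d18_3 F163249 D113709 D200983 F233458 F138860 (iv0 F77086) F37405 F77491 D106231
theorem F418619 : act 6 n200983 = n187495 := d21_5 (iv5 F80532) D110770 (iv5 F335829) (iv6 F335828) D200983 (iv5 F398195) (iv1 F398197) D196097 F399393 F358358
theorem F418620 : act 2 n195730 = n200983 := d15_3 (iv0 D200983) (iv0 F177052) (iv7 F397975)
theorem F418621 : act 1 n196189 = n200983 := d15_0 (iv0 D200983) F176934 (iv2 F399793)
theorem F418622 : act 7 n200983 = n195722 := d15_2 (iv0 F399795) F418621 F397944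
def n200984 : Q := act 5 n113709
theorem D200984 : act 5 n113709 = n200984 := rfl
theorem F418623 : act 7 n200984 = n197016 := d13_2 (iv7 F176934) D200984 (iv5 D197016)
theorem F418624 : act 0 n200984 = n195761 := d17_2 F177052 D200984 (iv5 D195761) F177122 F177121 (iv0 F163114) (iv5 F177031) (iv0 F177032) D113792
theorem F418625 : act 1 n200984 = n195764 := d17_6 (iv1 F163245) (iv5 F94167) (iv1 D59804) (iv5 F82902) D113709 D200984 (iv5 D195764) (iv0 F397937) (iv4 D195719)
def n200985 : Q := act 0 n113710
theorem D200985 : act 0 n113710 = n200985 := rfl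
theorem F418626 : act 4 n200985 = n196110 := d18_3 D131814 F335827 D200985 F399453 (iv4 D191092) (iv0 D97270) D97272 F363584 (iv5 D131817)
theorem F418627 : act 2 n146461 = n200985 := d1_3 F418626 F399452 (iv4 F229795)
theorem F418628 : act 6 n146459 = n200985 := d10_0 F418626 F399454 (iv4 F229792)
def n200986 : Q := act 1 n113710
theorem D200986 : act 1 n113710 = n200986 := rfl
theorem F418629 : act 7 n200986 = n146461 := d15_2 (iv0 D200985) D200986 F418627
theorem F418630 : act 5 n200986 = n146275 := d17_7 D142828 F348976 (iv1 F230366) (iv5 F105287) (iv4 F177504) F177505 D200986 (iv0 F335126) F225722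
theorem F418631 : act 3 n115163 = n200986 := d19_19 (iv1 D200986) (iv5 F177505) F177504 (iv3 F230815) (iv1 F378343) F378342 F189724 F87467 (iv1 F56563) D78887 D164208 (iv3 F363065) (iv1 D131849) (iv5 F332813) F333523 D113757 F363646 F229801 (iv4 F339427)
theorem F418632 : act 4 n200986 = n200738 := d5_2 (iv4 F339427) F418631 F417720 F176594 (iv3 F104879)
def n200987 : Q := act 7 n113710
theorem D200987 : act 7 n113710 = n200987 := rfl
theorem F418633 : act 3 n200987 = n113713 := d8_1 D200987 (iv7 D113713) (iv3 F176935)
theorem F418634 : act 4 n200987 = n191117 := d11_1 D200987 F382290 F335827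
theorem F418635 : act 5 n200987 = n191079 := d13_1 D200987 F382134 F177505
theorem F418636 : act 6 n200987 = n197020 := d14_1 D200987 (iv7 D197020) (iv6 D107539) (iv7 F82903) D113710
theorem F418637 : act 0 n146461 = n200987 := d17_0 F418635 (iv1 D191079) D191080 F382142 (iv5 F359035) F332556 D191130 (iv0 F382345) (iv4 F229795)
def n200988 : Q := act 6 n113711
theorem D200988 : act 6 n113711 = n200988 := rfl
theorem F418638 : act 2 n200988 = n200895 := d3_1 D200988 (iv6 D200895) F343527
theorem F418639 : act 3 n200988 = n133467 := d7_1 D200988 (iv6 D133467) (iv3 F332631)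
theorem F418640 : act 4 n200988 = n131890 := d10_1 D200988 (iv6 F362256) (iv4 F332632)
theorem F418641 : act 0 n200988 = n113725 := d21_4 (iv5 F398213) F373896 (iv5 F355241) D200988 (iv6 D113725) D113724 F333537 (iv5 F203451) F342929 (iv1 F398209)
theorem F418642 : act 5 n200988 = n159499 := d21_6 (iv5 D13543) (iv1 F22678) (iv5 F40285) D52504 D113711 D200988 (iv1 D159499) F114347 (iv6 D49053) (iv1 F37355)
theorem F418643 : act 2 n159499 = n195806 := d2_1 F418642 (iv5 F418319) (iv2 F418638)
theorem F418644 : act 7 n195805 = n159499 := d15_2 F398262 F398261 F418643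
theorem F418645 : act 7 n159498 = n195806 := d15_2 F398230 F398231 (iv2 F418643)
theorem F418646 : act 2 n195805 = n159498 := d4_3 F418645 (iv2 F418643) (iv7 F418644)
def n200989 : Q := act 6 n113712
theorem D200989 : act 6 n113712 = n200989 := rfl
theorem F418647 : act 2 n200989 = n200896 := d3_1 D200989 (iv6 D200896) F355237
theorem F418648 : act 0 n113747 = n200989 := d21_4 (iv5 F290838) F290836 (iv5 D113746) D113747 (iv6 D200989) (iv5 F251089) F398215 F398213 (iv6 F398212) F288021
theorem F418649 : act 1 n195670 = n200989 := d15_0 (iv0 F418648) (iv7 F398477) F398475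
def n200990 : Q := act 4 n113717
theorem D200990 : act 4 n113717 = n200990 := rfl
theorem F418650 : act 2 n200990 = n128694 := d1_1 D200990 (iv4 F397965) (iv2 F397966)
theorem F418651 : act 7 n200990 = n128693 := d11_2 F395884 D200990 (iv4 F395886)
theorem F418652 : act 5 n200990 = n135691 := d16_3 D135687 F349621 D200990 F330376 (iv5 F297306) F327885 F330398 (iv7 F330439) F330437
theorem F418653 : act 0 n200990 = n126130 := d18_2 F359585 D200990 F330456 (iv5 F209515) F95915 D128694 (iv4 F397965) (iv0 D195728) F364324
theorem F418654 : act 1 n200990 = n128584 := d18_6 (iv1 F48432) D63874 (iv1 F99338) D135687 F349621 D200990 F206818 F209510 (iv5 D63865)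
def n200991 : Q := act 6 n113717
theorem D200991 : act 6 n113717 = n200991 := rfl
theorem F418655 : act 3 n200991 = n113720 := d7_1 D200991 (iv6 D113720) D113717
theorem F418656 : act 5 n200991 = n196143 := d21_6 (iv5 D49098) (iv1 F77490) D106231 (iv6 F335895) F359585 D200991 F399600 (iv5 F397997) (iv6 D195737) (iv1 D106240)
theorem F418657 : act 0 n200991 = n190451 := d21_7 (iv5 D44814) D44811 (iv5 F70456) D96120 (iv1 F379684) F399601 (iv5 F418656) (iv5 D190451) (iv6 D96038) (iv1 F70388)
def n200992 : Q := act 4 n113719
theorem D200992 : act 4 n113719 = n200992 := rfl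
theorem F418658 : act 1 n200992 = n129829 := d18_6 (iv1 D105315) (iv4 F93382) (iv1 F343631) (iv4 D113718) D113719 D200992 (iv4 F213197) F218104 (iv5 F333521)
def n200993 : Q := act 6 n113719
theorem D200993 : act 6 n113719 = n200993 := rfl
theorem F418659 : act 5 n200993 = n196144 := d12_1 D200993 (iv6 D196144) (iv5 F176952) (iv6 D113720) D113719
theorem F418660 : act 0 n200993 = n196026 := d21_10 (iv5 D196026) (iv1 D106546) (iv5 F114449) (iv6 D76343) (iv1 F55153) (iv6 F82907) (iv5 D52508) D52506 D113719 D200993
theorem F418661 : act 0 n134500 = n200993 := d21_4 F204785 F373837 F373834 (iv6 F371076) (iv6 D200993) (iv5 D113719) (iv1 F161485) (iv5 F324648) F324649 F204787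
def n200994 : Q := act 4 n113722
theorem D200994 : act 4 n113722 = n200994 := rfl
theorem F418662 : act 0 n200994 = n132229 := d18_2 (iv1 F343656) D200994 F322890 F106085 (iv4 F93382) (iv0 F343637) (iv4 D113723) F161484 (iv5 F324648)
theorem F418663 : act 3 n132216 = n200994 := d20_5 (iv4 D53105) (iv1 F47492) F47493 D62031 D132216 (iv4 D200994) F343655 (iv4 F327335) (iv3 D60823) (iv1 F83817)
def n200995 : Q := act 6 n113722
theorem D200995 : act 6 n113722 = n200995 := rfl
theorem F418664 : act 3 n200995 = n113725 := d7_1 D200995 (iv6 D113725) D113722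
def n200996 : Q := act 3 n113723
theorem D200996 : act 3 n113723 = n200996 := rfl
theorem F418665 : act 4 n200996 = n132216 := d5_2 D113723 D200996 F418663 (iv4 D200994) (iv3 D113722)
theorem F418666 : act 5 n200996 = n195978 := d6_2 (iv5 F343640) D200996 F398934
theorem F418667 : act 7 n200996 = n200743 := d8_2 (iv7 F343641) D200996 (iv3 D200743)
theorem F418668 : act 7 n129444 = n132216 := d11_2 F418667 F417740 (iv4 F418665)
theorem F418669 : act 2 n132216 = n129445 := d15_3 F211837 F211835 F418668
theorem F418670 : act 2 n129444 = n132217 := d15_3 F211836 F211832 (iv7 F418668)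
theorem F418671 : act 7 n132217 = n129445 := d4_2 (iv7 F418668) F418670 (iv2 F418669)
def n200997 : Q := act 6 n113723
theorem D200997 : act 6 n113723 = n200997 := rfl
theorem F418672 : act 2 n200997 = n200744 := d3_1 D200997 (iv6 D200744) (iv2 F343639)
theorem F418673 : act 4 n200997 = n113725 := d10_1 D200997 (iv6 D113725) D113723
def n200998 : Q := act 0 n113725
theorem D200998 : act 0 n113725 = n200998 := rfl
theorem F418674 : act 5 n200998 = n159498 := d21_0 (iv1 F398231) (iv5 D195798) (iv6 D106276) (iv1 F77532) D106123 F332609 (iv1 F333538) (iv5 D113724) D113725 D200998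
theorem F418675 : act 7 n200895 = n200998 := d13_0 F418674 F418645 (iv5 F418319)
theorem F418676 : act 4 n131889 = n200998 := d17_4 (iv1 D105264) (iv5 F161095) D195035 (iv5 F395515) F418674 (iv0 D159498) F114347 D106126 (iv4 F374585)
theorem F418677 : act 3 n200998 = n135557 := d8_1 F418675 F371310 (iv3 F418316)
def n200999 : Q := act 5 n113725
theorem D200999 : act 5 n113725 = n200999 := rfl
theorem F418678 : act 0 n200999 = n195803 := d17_2 F418641 D200999 (iv5 D195803) F360472 D113553 F395782 (iv5 D131891) D131890 (iv4 F418640)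
theorem F418679 : act 0 n195800 = n200999 := d21_1 D195800 (iv5 D200999) (iv6 D113725) (iv1 D52507) (iv6 D25484) (iv5 D12111) (iv1 F18233) (iv5 F37413) D49110 D106277
def n201000 : Q := act 7 n113725
theorem D201000 : act 7 n113725 = n201000 := rfl
theorem F418680 : act 6 n201000 = n195672 := d14_1 D201000 F397802 (iv6 D195127) F343646 D113725
theorem F418681 : act 1 n200895 = n201000 := d15_1 (iv0 F418318) (iv7 D201000) (iv2 F395888)
def n201001 : Q := act 4 n113726
theorem D201001 : act 4 n113726 = n201001 := rfl
theorem F418682 : act 1 n201001 = n132229 := d18_6 (iv1 F325501) (iv4 F177489) F377469 (iv4 F398223) F398222 D201001 F322890 (iv0 F322885) (iv5 D135585)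
def n201002 : Q := act 6 n113726
theorem D201002 : act 6 n113726 = n201002 := rfl
theorem F418683 : act 5 n201002 = n130600 := d21_6 (iv5 D23927) F26921 D25486 (iv6 F82907) D113726 D201002 (iv1 D130600) (iv5 F106102) (iv6 D69728) F51392
theorem F418684 : act 0 n133221 = n201002 := d21_4 F77428 D49058 D106142 F363882 (iv6 D201002) (iv5 F398222) (iv1 F398225) (iv5 F216441) (iv6 F364864) (iv1 D106103)
def n201003 : Q := act 6 n113730
theorem D201003 : act 6 n113730 = n201003 := rfl
theorem F418685 : act 2 n201003 = n195627 := d3_1 D201003 (iv6 D195627) (iv2 F176957)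
theorem F418686 : act 3 n201003 = n200770 := d7_1 D201003 F417862 F397916
theorem F418687 : act 4 n201003 = n113731 := d10_1 D201003 (iv6 D113731) D113730
def n201004 : Q := act 0 n113731
theorem D201004 : act 0 n113731 = n201004 := rfl
theorem F418688 : act 6 n201004 = n196026 := d21_5 (iv5 D25486) D25485 D52510 D113731 D201004 (iv5 D196026) (iv1 D106546) (iv5 F114449) (iv6 D76343) (iv1 F55153)
theorem F418689 : act 2 n195631 = n201004 := d3_3 F418688 F399107 (iv6 F397672)
theorem F418690 : act 7 n195632 = n201004 := d14_0 F418688 (iv7 F399926) F399925 F374646 F397673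
theorem F418691 : act 0 n201004 = n195630 := d21_4 (iv5 D196213) (iv1 F164572) D196026 (iv6 F418688) (iv6 D195630) F163131 (iv1 F120162) D164472 (iv6 F362426) F399922
def n201005 : Q := act 1 n113731
theorem D201005 : act 1 n113731 = n201005 := rfl
theorem F418692 : act 1 n201005 = n195630 := d15_1 D201005 F397670 (iv2 F176962)
theorem F418693 : act 7 n201005 = n195631 := d15_2 (iv0 D201004) D201005 F418689
theorem F418694 : act 6 n134472 = n201005 := d21_3 D187642 (iv1 F371090) (iv5 F369240) (iv1 D201005) (iv6 D113731) (iv5 D52510) (iv1 F40297) D49043 F77420 D90422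
theorem F418695 : act 2 n201005 = n195632 := d3_1 F418694 (iv6 F397673) F369242
theorem F418696 : act 3 n201005 = n134474 := d7_1 F418694 (iv6 D134474) D134472
def n201006 : Q := act 7 n113731
theorem D201006 : act 7 n113731 = n201006 := rfl
theorem F418697 : act 2 n201006 = n195630 := d4_1 D201006 F397670 (iv2 F176962)
theorem F418698 : act 3 n201006 = n200644 := d8_1 D201006 F417341 F397940
theorem F418699 : act 5 n201006 = n114345 := d13_1 D201006 (iv7 D114345) (iv5 F176963)
theorem F418700 : act 6 n201006 = n164476 := d14_1 D201006 (iv7 D164476) F120164 (iv7 F82909) D113731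
theorem F418701 : act 1 n195632 = n201006 := d15_1 D195632 (iv7 D201006) F176962
theorem F418702 : act 1 n201006 = n195631 := d15_1 F418701 (iv7 F418693) F418695
theorem F418703 : act 0 n200995 = n135721 := d21_10 F354429 (iv1 F205615) (iv5 F418699) F418700 (iv1 F259209) F364864 F216441 F395839 F395836 D200995
def n201007 : Q := act 1 n113734
theorem D201007 : act 1 n113734 = n201007 := rfl
theorem F418704 : act 1 n201007 = n146182 := d15_1 D201007 (iv7 D146182) (iv2 F176968)
theorem F418705 : act 7 n201007 = n146180 := d15_2 F405870 D201007 (iv2 F405867)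
theorem F418706 : act 6 n185788 = n201007 := d21_3 F353200 (iv1 F377347) F377344 (iv1 D201007) (iv6 D113734) (iv5 D52512) (iv1 F55168) (iv5 F55221) (iv6 F65463) D90563
theorem F418707 : act 2 n201007 = n146181 := d3_1 F418706 F370735 D185788
theorem F418708 : act 4 n201007 = n199479 := d16_0 (iv5 D199479) (iv4 D111349) (iv5 D51353) F39168 D50179 D108682 D197816 F405869 (iv2 F418707)
theorem F418709 : act 0 n199479 = n195627 := d18_2 (iv1 F418704) F418708 F397661 F163133 (iv4 F356726) F405825 F405823 F178415 (iv5 F229455)
def n201008 : Q := act 7 n113734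
theorem D201008 : act 7 n113734 = n201008 := rfl
theorem F418710 : act 2 n201008 = n146182 := d4_1 D201008 (iv7 D146182) (iv2 F176968)
theorem F418711 : act 3 n201008 = n117328 := d8_1 D201008 F183720 (iv3 F335947)
theorem F418712 : act 4 n201008 = n200912 := d11_1 D201008 F418375 (iv4 F335948)
theorem F418713 : act 5 n201008 = n114389 := d13_1 D201008 (iv7 D114389) (iv5 F176969)
theorem F418714 : act 6 n201008 = n193733 := d14_1 D201008 F390808 F193574 F104866 D113734
theorem F418715 : act 1 n146181 = n201008 := d15_1 D146181 (iv7 D201008) F176968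
theorem F418716 : act 1 n201008 = n146180 := d15_1 F418715 (iv7 F418705) F418707
def n201009 : Q := act 3 n113735
theorem D201009 : act 3 n113735 = n201009 := rfl
theorem F418717 : act 4 n201009 = n146769 := d5_2 D113735 D201009 (iv3 D146769) (iv4 D68813) (iv3 F82916)
theorem F418718 : act 7 n201009 = n146178 := d8_2 (iv7 F176970) D201009 (iv3 D146178)
def n201010 : Q := act 6 n113735
theorem D201010 : act 6 n113735 = n201010 := rfl
theorem F418719 : act 4 n201010 = n113736 := d10_1 D201010 (iv6 D113736) D113735
theorem F418720 : act 0 n201010 = n126526 := d21_4 (iv5 F114710) (iv1 F229768) F229765 D201010 (iv6 D126526) (iv5 F203414) (iv1 D126507) F333193 F114492 D76384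
theorem F418721 : act 5 n193320 = n201010 := d16_3 (iv4 F74482) D101449 D193320 F418719 F176974 (iv4 F147489) F366707 F157091 (iv2 D47462)
theorem F418722 : act 0 n195629 = n201010 := d18_2 (iv1 F259209) D195629 F418719 F176974 (iv4 F147489) (iv0 F314179) F314180 F120167 (iv5 F259208)
def n201011 : Q := act 1 n113736
theorem D201011 : act 1 n113736 = n201011 := rfl
theorem F418723 : act 1 n201011 = n193733 := d15_1 D201011 F390808 F193572
theorem F418724 : act 7 n201011 = n148722 := d15_2 (iv0 F251496) D201011 (iv2 F251495)
theorem F418725 : act 3 n132758 = n201011 := d19_19 (iv1 D201011) F176974 (iv4 F147489) (iv3 F312634) (iv1 F342453) F346742 F84705 F41074 (iv1 F53803) F313836 F30411 (iv3 F300802) (iv1 F301695) (iv5 D17655) D17654 D36616 F304687 F321683 (iv4 F213209)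
theorem F418726 : act 6 n132756 = n201011 := d21_3 F321192 (iv1 F99316) F213200 (iv1 D201011) (iv6 D113736) (iv5 D52513) F40309 D25498 (iv6 F82947) D113766
theorem F418727 : act 5 n164628 = n201011 := d21_6 F43590 (iv1 F21480) D17426 D35998 D79101 D164628 (iv1 D201011) F176974 (iv6 D70289) F51674
def n201012 : Q := act 3 n113745
theorem D201012 : act 3 n113745 = n201012 := rfl
theorem F418728 : act 7 n201012 = n200701 := d8_2 (iv7 F178275) D201012 (iv3 D200701)
theorem F418729 : act 5 n194502 = n201012 := d13_3 F418728 (iv5 F417553) (iv7 F393459)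
theorem F418730 : act 6 n195179 = n201012 := d14_5 F418728 F417551 (iv7 F399237) F399236 (iv7 F396120)
def n201013 : Q := act 5 n113745
theorem D201013 : act 5 n113745 = n201013 := rfl
theorem F418731 : act 2 n201013 = n200699 := d2_1 D201013 (iv5 D200699) (iv2 F178280)
theorem F418732 : act 3 n201013 = n194502 := d6_1 D201013 F418729 (iv3 D201012)
theorem F418733 : act 7 n201013 = n200702 := d13_2 (iv7 F178275) D201013 (iv5 D200702)
theorem F418734 : act 4 n201013 = n200585 := d16_2 D113745 D201013 F417067 F392627 F377896 F177004 (iv5 D113751) (iv7 F178278) F178277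
theorem F418735 : act 6 n201013 = n129066 := d21_3 (iv5 D126212) (iv1 F178283) D201013 (iv1 D129066) (iv6 D60676) F46430 (iv1 F46355) D28789 D60646 (iv1 F363268)
def n201014 : Q := act 6 n113745
theorem D201014 : act 6 n113745 = n201014 := rfl
theorem F418736 : act 2 n201014 = n200700 := d3_1 D201014 (iv6 D200700) (iv2 F178280)
theorem F418737 : act 3 n201014 = n195179 := d7_1 D201014 F418730 (iv3 D201012)
theorem F418738 : act 4 n201014 = n113747 := d10_1 D201014 (iv6 D113747) D113745
theorem F418739 : act 5 n195866 = n201014 := d6_0 F418737 (iv5 F396122) D195866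
theorem F418740 : act 2 n200657 = n195866 := d2_3 F418739 F418736 F417550
theorem F418741 : act 0 n200659 = n195866 := d17_2 F395858 (iv5 F417381) F418739 F418738 F176999 F395874 F395873 F161468 D113629
theorem F418742 : act 0 n195866 = n126291 := d21_7 (iv5 D13419) D13416 D28104 D59167 (iv1 F178283) D201014 (iv5 F418739) (iv5 D126291) (iv6 D59199) (iv1 D28114)
def n201015 : Q := act 0 n113746
theorem D201015 : act 0 n113746 = n201015 := rfl
theorem F418743 : act 5 n201015 = n195804 := d17_1 D201015 (iv1 F398259) (iv5 D185742) (iv4 F135438) D95316 F369468 (iv5 D187201) D187199 (iv4 F369459)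
theorem F418744 : act 4 n201015 = n187371 := d18_1 D201015 (iv1 F370038) F283804 F114614 (iv4 F176623) F204773 F204771 F94267 D113746
theorem F418745 : act 3 n201015 = n187488 := d20_5 (iv4 F370002) (iv1 F370006) (iv4 F371089) F371087 D201015 F370544 (iv1 F369097) (iv4 F376339) F376338 (iv1 F288032)
theorem F418746 : act 6 n201015 = n188130 := d21_5 D92633 D188672 F374385 (iv6 F350549) D201015 (iv5 F374517) (iv1 F374515) F251990 (iv6 F176016) (iv1 D92631)
theorem F418747 : act 2 n182290 = n201015 := d15_3 (iv0 D201015) (iv0 F290836) F290839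
theorem F418748 : act 1 n113751 = n201015 := d15_0 (iv0 D201015) F178276 (iv2 F178272)
theorem F418749 : act 7 n201015 = n187161 := d15_2 F290837 F418748 F369263
def n201016 : Q := act 1 n113747
theorem D201016 : act 1 n113747 = n201016 := rfl
theorem F418750 : act 1 n201016 = n195670 := d15_1 D201016 F397801 F204784
theorem F418751 : act 7 n201016 = n200896 := d15_2 (iv0 F418648) D201016 (iv2 F418647)
theorem F418752 : act 3 n188727 = n201016 := d8_3 F418751 F418320 (iv7 F374595)
def n201017 : Q := act 4 n113749
theorem D201017 : act 4 n113749 = n201017 := rfl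
theorem F418753 : act 0 n201017 = n187495 := d18_2 (iv1 F397986) D201017 (iv4 D187495) (iv5 D90274) (iv4 F138850) F290207 (iv4 F142880) (iv0 F288277) (iv5 F397984)
theorem F418754 : act 0 n128697 = n201017 := d20_1 F209517 (iv4 D201017) (iv3 D113749) (iv1 D52520) F40313 D43370 D92721 F142938 D92792 (iv1 F335792)
def n201018 : Q := act 5 n113749
theorem D201018 : act 5 n113749 = n201018 := rfl
theorem F418755 : act 3 n201018 = n113751 := d6_1 D201018 (iv5 D113751) D113749
theorem F418756 : act 6 n201018 = n114091 := d21_3 (iv5 F397984) (iv1 F397986) D201018 F370388 F370384 (iv5 F396173) (iv1 D195190) D195191 (iv6 F396180) F371068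
theorem F418757 : act 0 n201018 = n189227 := d20_10 F376155 F364358 F154771 F154770 (iv1 F292107) (iv3 F144768) (iv4 F367176) (iv1 F367178) F177004 (iv3 F418755)
def n201019 : Q := act 3 n113750
theorem D201019 : act 3 n113750 = n201019 := rfl
theorem F418758 : act 7 n201019 = n200698 := d8_2 F178282 D201019 (iv3 D200698)
theorem F418759 : act 0 n201019 = n126248 := d20_4 F204771 (iv1 F94266) D113750 D201019 (iv3 F349572) F211184 (iv1 F96415) D129187 F363900 (iv1 F204774)
theorem F418760 : act 1 n201019 = n163612 := d15_1 (iv0 F418759) (iv7 F409105) F409102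
theorem F418761 : act 5 n176504 = n201019 := d17_5 F347488 F344720 (iv1 D84157) D84158 D176504 F418760 (iv5 D163612) D163611 (iv4 F280376)
def n201020 : Q := act 5 n113750
theorem D201020 : act 5 n113750 = n201020 := rfl
theorem F418762 : act 2 n201020 = n200702 := d2_1 D201020 (iv5 D200702) F178279
theorem F418763 : act 3 n201020 = n176504 := d6_1 D201020 F418761 (iv3 D201019)
theorem F418764 : act 4 n201020 = n176530 := d9_1 D201020 (iv5 F392617) F392618 F377890 (iv4 F369459) (iv5 D113746) D113745 D201013 F418734 F417067 F392627 F377896 F177004 (iv5 D113751) D113750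
theorem F418765 : act 7 n201020 = n200699 := d13_2 F178282 D201020 (iv5 D200699)
def n201021 : Q := act 3 n113753
theorem D201021 : act 3 n113753 = n201021 := rfl
theorem F418766 : act 4 n201021 = n190736 := d5_2 F402684 D201021 (iv3 D190736) F347325 (iv3 F402683)
theorem F418767 : act 7 n201021 = n200891 := d8_2 F364863 D201021 (iv3 D200891)
theorem F418768 : act 5 n176507 = n201021 := d13_3 F418767 (iv5 F418301) (iv7 F368691)
theorem F418769 : act 1 n201021 = n113777 := d17_6 (iv1 F355305) (iv5 F389531) F389532 (iv5 F368709) F368708 F418768 (iv5 F251178) (iv0 F355335) F355306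
def n201022 : Q := act 5 n113753
theorem D201022 : act 5 n113753 = n201022 := rfl
theorem F418770 : act 2 n201022 = n200889 := d2_1 D201022 (iv5 D200889) F364861
theorem F418771 : act 3 n201022 = n176507 := d6_1 D201022 F418768 (iv3 D201021)
theorem F418772 : act 7 n201022 = n200892 := d13_2 F364863 D201022 (iv5 D200892)
theorem F418773 : act 0 n201022 = n115195 := d17_2 D113753 D201022 (iv5 D115195) F83920 D60614 D128884 F362255 F206824 F328852
theorem F418774 : act 0 n159736 = n201022 := d19_0 (iv5 D201022) (iv4 F402684) F402683 (iv1 F216092) F329121 (iv4 F339655) (iv3 D164151) (iv1 F322695) (iv5 D124978) (iv4 D58428) F44902 (iv1 F232341) (iv5 F310033) D65307 D139143 (iv1 F411873) (iv5 F411878) F251684 (iv3 F251683)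
def n201023 : Q := act 6 n113753
theorem D201023 : act 6 n113753 = n201023 := rfl
theorem F418775 : act 2 n201023 = n200890 := d3_1 D201023 (iv6 D200890) F364861
theorem F418776 : act 4 n201023 = n125929 := d10_1 D201023 (iv6 F402685) F402684
theorem F418777 : act 0 n201023 = n113765 := d21_4 (iv5 F342954) F418774 (iv5 D201022) D201023 (iv6 D113765) (iv5 F324334) (iv1 F218067) (iv5 F218066) (iv6 F327705) F333234
theorem F418778 : act 5 n201023 = n114014 := d21_6 F36990 (iv1 F22703) (iv5 F40325) D52523 D113753 D201023 (iv1 D114014) (iv5 D52619) (iv6 D25533) (iv1 F36988)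
theorem F418779 : act 2 n114014 = n159368 := d2_1 F418778 (iv5 F418298) (iv2 F418775)
theorem F418780 : act 7 n159367 = n114014 := d15_2 F250897 F250896 F418779
theorem F418781 : act 7 n114013 = n159368 := d15_2 F179011 F179012 (iv2 F418779)
theorem F418782 : act 2 n159367 = n114013 := d4_3 F418781 (iv2 F418779) (iv7 F418780)
def n201024 : Q := act 5 n113754
theorem D201024 : act 5 n113754 = n201024 := rfl
theorem F418783 : act 2 n201024 = n200892 := d2_1 D201024 (iv5 D200892) (iv2 F364862)
theorem F418784 : act 3 n201024 = n114876 := d6_1 D201024 (iv5 F355832) F364859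
theorem F418785 : act 7 n201024 = n200889 := d13_2 (iv7 F364860) D201024 (iv5 D200889)
theorem F418786 : act 0 n201024 = n159736 := d17_2 (iv1 F177005) D201024 F342954 (iv4 F206842) F362252 F362265 F362262 (iv0 D128585) (iv4 F328472)
theorem F418787 : act 6 n201024 = n114873 := d21_3 (iv5 F176778) (iv1 F177005) D201024 (iv1 F390816) (iv6 D193734) D193733 (iv1 F418723) (iv5 F418727) (iv6 D164628) (iv1 F120363)
theorem F418788 : act 0 n115195 = n201024 := d21_10 (iv5 D201024) (iv1 D113754) F82946 (iv6 D35998) D35995 D79097 F120346 D106470 D195948 F398823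
theorem E103822 : n200854 = n200775 := ((c17_7 F342952 D115195 F418788 (iv5 D201024) (iv4 F402692) F402693 D200775 F418168 (iv0 F399233) F396146)).symm
theorem F418789 : act 2 n200775 = n113558 := (sb E103822 (iv2 D200854))
theorem F418790 : act 3 n200775 = n128634 := (sb E103822 F418167)
theorem F418791 : act 5 n200775 = n128632 := (sb E103822 F418168)
def n201025 : Q := act 6 n113754
theorem D201025 : act 6 n113754 = n201025 := rfl
theorem F418792 : act 2 n201025 = n200893 := d3_1 D201025 (iv6 D200893) (iv2 F364862)
theorem F418793 : act 0 n201025 = n114955 := d21_4 D115195 F418788 (iv5 D201024) D201025 (iv6 D114955) F83756 F178437 (iv5 D105361) D105362 F342952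
theorem F418794 : act 0 n113783 = n201025 := d21_4 (iv5 D93941) D93939 F251942 D113783 (iv6 D201025) D201024 F418786 F342954 (iv6 F374832) F374834
def n201026 : Q := act 6 n113759
theorem D201026 : act 6 n113759 = n201026 := rfl
theorem F418795 : act 2 n201026 = n135640 := d3_1 D201026 (iv6 D135640) (iv2 F326363)
theorem F418796 : act 5 n201026 = n195977 := d12_1 D201026 (iv6 D195977) (iv5 F177013) (iv6 D113760) D113759
theorem F418797 : act 0 n201026 = n198977 := d21_4 (iv5 D52526) D52524 D113759 D201026 F410139 (iv5 D197816) D197814 F405872 (iv6 D135588) (iv1 F322884)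
theorem F418798 : act 0 n198976 = n201026 := d21_4 (iv5 F233526) (iv1 F288032) (iv5 F288358) (iv6 F410134) (iv6 D201026) (iv5 D113759) (iv1 F161495) F321195 F319149 (iv1 F233525)
def n201027 : Q := act 0 n113765
theorem D201027 : act 0 n113765 = n201027 := rfl
theorem F418799 : act 5 n201027 = n114013 := d17_1 D201027 (iv1 F179012) F179009 F161580 (iv5 F176422) F395507 (iv5 F395515) (iv0 D131889) (iv4 F324336)
theorem F418800 : act 4 n201027 = n125924 := d18_3 (iv1 D131890) (iv4 F324336) D201027 (iv5 D125924) (iv4 F398108) (iv0 F361388) F202078 D195036 (iv5 F395502)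
theorem F418801 : act 3 n201027 = n146437 := d20_5 F95796 F93937 (iv4 F96460) (iv3 F324335) D201027 F229775 F163257 (iv4 F183733) F327881 (iv1 F99194)
theorem F418802 : act 7 n200890 = n201027 := d8_0 F418801 (iv7 F229778) (iv3 F418296)
def n201028 : Q := act 5 n113765
theorem D201028 : act 5 n113765 = n201028 := rfl
theorem F418803 : act 3 n201028 = n131869 := d6_1 D201028 (iv5 D131869) (iv3 F324335)
theorem F418804 : act 1 n201028 = n195187 := d17_6 D52404 D113548 F365770 (iv5 D131891) (iv4 F324336) D201028 (iv5 D195187) (iv0 D105368) F76655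
theorem F418805 : act 0 n201028 = n195188 := d21_1 D201028 (iv5 D195188) (iv6 F394403) (iv1 F394406) F374832 (iv5 F342954) F418774 (iv5 D201022) D201023 F418777
def n201029 : Q := act 7 n113765
theorem D201029 : act 7 n113765 = n201029 := rfl
theorem F418806 : act 3 n201029 = n130658 := d8_1 D201029 F209229 (iv3 F324335)
theorem F418807 : act 4 n201029 = n131892 := d11_1 D201029 (iv7 D131892) (iv4 F324336)
theorem F418808 : act 6 n201029 = n114964 := d14_1 D201029 (iv7 F395898) (iv6 D195131) F333528 D113765
theorem F418809 : act 1 n200890 = n201029 := d15_1 (iv0 F418297) (iv7 D201029) (iv2 F395899)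
def n201030 : Q := act 6 n113766
theorem D201030 : act 6 n113766 = n201030 := rfl
theorem F418810 : act 2 n201030 = n135800 := d3_1 D201030 (iv6 D135800) (iv2 F321189)
theorem F418811 : act 5 n201030 = n130610 := d21_6 (iv5 D52513) F40309 D25498 (iv6 F82947) D113766 D201030 (iv1 D130610) (iv5 F106073) (iv6 D69712) (iv1 F82919)
def n201031 : Q := act 0 n113768
theorem D201031 : act 0 n113768 = n201031 := rfl
theorem F418812 : act 4 n201031 = n130923 := d18_3 (iv1 F322884) D113768 D201031 (iv5 F397709) (iv4 F399362) F399363 (iv4 D135581) (iv0 D63753) D63756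
theorem F418813 : act 2 n201001 = n201031 := d1_3 F418812 F343658 D201001
theorem F418814 : act 3 n129444 = n201031 := d5_5 F418812 (iv3 F343651) (iv4 F343647) D200743 F417740
theorem F418815 : act 7 n200994 = n201031 := d11_0 F418812 F343652 D200994
theorem F418816 : act 1 n129465 = n201031 := d18_6 D105309 (iv4 F343647) (iv1 F203016) F203012 F321195 F214187 F418812 F326587 F114435
def n201032 : Q := act 1 n113768
theorem D201032 : act 1 n113768 = n201032 := rfl
theorem F418817 : act 1 n201032 = n129465 := d15_1 D201032 (iv7 F211862) F322889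
theorem F418818 : act 7 n201032 = n201001 := d15_2 (iv0 D201031) D201032 F418813
theorem F418819 : act 4 n201032 = n130922 := d18_7 (iv1 F161479) F343643 (iv1 D113400) F82729 D52526 D113768 D201032 (iv0 D130922) F325757
theorem F418820 : act 2 n200994 = n201032 := d1_3 F418819 (iv2 F343653) D200994
def n201033 : Q := act 5 n113768
theorem D201033 : act 5 n113768 = n201033 := rfl
theorem F418821 : act 4 n159375 = n201033 := d16_0 (iv5 D201033) (iv4 D113768) (iv5 D52526) (iv4 F82729) D113401 (iv4 F398987) F398988 (iv7 F399595) (iv2 F399596)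
def n201034 : Q := act 7 n113768
theorem D201034 : act 7 n113768 = n201034 := rfl
theorem F418822 : act 2 n201034 = n129465 := d4_1 D201034 (iv7 F211862) F322889
theorem F418823 : act 4 n201034 = n113769 := d11_1 D201034 (iv7 D113769) D113768
theorem F418824 : act 1 n200994 = n201034 := d15_1 (iv0 F418662) (iv7 D201034) (iv2 F322889)
theorem F418825 : act 1 n201034 = n201001 := d15_1 F418824 (iv7 F418818) (iv2 F418820)
def n201035 : Q := act 0 n113770
theorem D201035 : act 0 n113770 = n201035 := rfl
theorem F418826 : act 5 n201035 = n132412 := d19_1 D201035 F212483 F96887 (iv1 F47152) F322106 (iv4 D30760) (iv3 D14573) (iv1 D6964) D6966 F11230 D7211 (iv1 F26973) (iv5 D15098) D15097 (iv3 F40306) F40309 D25498 D52528 D113770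
theorem F418827 : act 4 n201035 = n143098 := d20_2 F366221 D201035 (iv3 D143098) (iv1 F221167) F333085 (iv4 D133567) (iv1 F97789) (iv4 F98751) (iv3 F217163) (iv1 F366219)
theorem F418828 : act 3 n201035 = n132422 := d20_5 F106095 (iv1 F51388) D52528 D113770 D201035 F347241 F220981 (iv4 F221048) (iv3 F221049) (iv1 F114500)
theorem F418829 : act 7 n132411 = n201035 := d8_0 F418828 (iv7 D132422) (iv3 F212481)
def n201036 : Q := act 1 n113770
theorem D201036 : act 1 n113770 = n201036 := rfl
def n201037 : Q := act 2 n113770
theorem D201037 : act 2 n113770 = n201037 := rfl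
theorem F418830 : act 3 n201037 = n129463 := d0_2 D113770 D201037 (iv2 F211863) F325508 F106081
theorem F418831 : act 4 n201037 = n134950 := d1_2 F366221 D201037 F365405
theorem F418832 : act 6 n201037 = n129460 := d3_2 F366217 D201037 (iv2 F216216)
theorem F418833 : act 1 n201037 = n132411 := d15_0 (iv0 F362141) F233522 D201037
def n201038 : Q := act 6 n113772
theorem D201038 : act 6 n113772 = n201038 := rfl
theorem F418834 : act 2 n201038 = n200639 := d3_1 D201038 (iv6 F417320) F371493
theorem F418835 : act 3 n201038 = n113774 := d7_1 D201038 (iv6 D113774) (iv3 F177020)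
theorem F418836 : act 4 n201038 = n126197 := d10_1 D201038 (iv6 F398035) F398032
theorem F418837 : act 7 n201038 = n200642 := d14_2 F371414 D201038 (iv6 F417333) F363735 (iv6 F371413)
def n201039 : Q := act 6 n113773
theorem D201039 : act 6 n113773 = n201039 := rfl
theorem F418838 : act 2 n201039 = n136005 := d3_1 D201039 (iv6 D136005) (iv2 F177022)
theorem F418839 : act 3 n201039 = n137153 := d7_1 D201039 (iv6 D137153) F177029
theorem F418840 : act 4 n201039 = n113774 := d10_1 D201039 (iv6 D113774) D113773
theorem F418841 : act 0 n201039 = n141291 := d21_4 (iv5 D64354) (iv1 F99480) (iv5 F177023) D201039 F361233 (iv5 D100855) (iv1 F289944) (iv5 F361761) (iv6 D136069) (iv1 F106599)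
theorem F418842 : act 0 n194784 = n201039 := d21_4 (iv5 F368808) F368809 (iv5 F365794) D194784 (iv6 D201039) F177023 (iv1 F99482) D64359 F106590 D92750
def n201040 : Q := act 0 n113775
theorem D201040 : act 0 n113775 = n201040 := rfl
theorem F418843 : act 4 n201040 = n183480 := d18_1 D201040 (iv1 F378130) F378128 (iv5 D189565) D189564 F376901 F376206 D189248 F376210
theorem F418844 : act 6 n201040 = n114979 := d21_5 F76638 D49038 F106583 D113775 D201040 (iv5 D114979) (iv1 F234964) D159507 F251206 F139343
theorem F418845 : act 2 n114989 = n201040 := d15_3 (iv0 D201040) (iv0 F364806) F227664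
theorem F418846 : act 1 n190552 = n201040 := d15_0 (iv0 D201040) (iv7 F376537) (iv2 F380120)
def n201041 : Q := act 1 n113777
theorem D201041 : act 1 n113777 = n201041 := rfl
theorem F418847 : act 5 n201041 = n176506 := d18_9 (iv1 F365716) (iv4 F367268) D193823 F391103 (iv5 D133454) (iv4 F98314) D134112 F364336 D201041
theorem F418848 : act 3 n135503 = n201041 := d19_19 (iv1 D201041) (iv5 F251178) F251177 (iv3 F335176) (iv1 D134314) (iv5 D63101) (iv4 F48414) (iv3 D30120) (iv1 F23886) (iv5 F48303) (iv4 F48300) (iv3 D30063) F23812 D28886 (iv4 F48405) (iv3 F99228) (iv1 F218363) F359574 D135503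
theorem F418849 : act 2 n201041 = n200891 := d0_1 F418848 (iv3 D200891) (iv2 F364862) (iv3 F364859) F359586
theorem F418850 : act 6 n201041 = n188792 := d7_2 F391656 F418848 F391659
def n201042 : Q := act 7 n113777
theorem D201042 : act 7 n113777 = n201042 := rfl
theorem F418851 : act 3 n201042 = n130652 := d8_1 D201042 F216633 F335832
theorem F418852 : act 4 n201042 = n186967 := d11_1 D201042 F368705 F364336
theorem F418853 : act 6 n201042 = n190552 := d14_1 D201042 F380121 (iv6 D187758) F139355 D113777
theorem F418854 : act 1 n200891 = n201042 := d15_1 (iv0 F418300) (iv7 D201042) (iv2 F220577)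
def n201043 : Q := act 6 n113778
theorem D201043 : act 6 n113778 = n201043 := rfl
theorem F418855 : act 4 n201043 = n114107 := d10_1 D201043 F177708 (iv4 F177033)
theorem F418856 : act 5 n193823 = n201043 := d21_2 F390333 D193823 (iv6 D201043) (iv1 D113778) F83014 D92810 F292654 (iv5 F290706) (iv6 F336946) F390334
theorem F418857 : act 1 n190736 = n201043 := d18_6 F355356 (iv4 F370355) F370357 F368708 F418768 F418766 F418855 F347370 D130664
def n201044 : Q := act 6 n113779
theorem D201044 : act 6 n113779 = n201044 := rfl
theorem F418858 : act 4 n201044 = n136710 := d10_1 D201044 (iv6 D136710) (iv4 F177034)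
theorem F418859 : act 5 n201044 = n188802 := d12_1 D201044 (iv6 D188802) (iv5 D92810) (iv6 F83014) D113779
theorem F418860 : act 0 n176124 = n201044 := d21_4 D173892 (iv1 F275379) (iv5 D176123) D176124 (iv6 D201044) (iv5 D113779) (iv1 F139189) (iv5 D64830) D64831 (iv1 F325107)
def n201045 : Q := act 1 n113783
theorem D201045 : act 1 n113783 = n201045 := rfl
theorem F418861 : act 1 n201045 = n114955 := d15_1 D201045 (iv7 F395903) F395901
theorem F418862 : act 7 n201045 = n200893 := d15_2 (iv0 F418794) D201045 (iv2 F418792)
theorem F418863 : act 3 n188793 = n201045 := d8_3 F418862 F418307 (iv7 F374910)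
def n201046 : Q := act 4 n113784
theorem D201046 : act 4 n113784 = n201046 := rfl
theorem F418864 : act 2 n201046 = n123443 := d1_1 D201046 (iv4 F363726) (iv2 F288087)
theorem F418865 : act 3 n201046 = n186690 := d5_1 D201046 F417849 (iv3 D200767) F176623 D113784
theorem F418866 : act 6 n201046 = n191626 := d10_2 F396364 D201046 (iv4 F396427)
theorem F418867 : act 7 n201046 = n188775 := d11_2 (iv7 F204767) D201046 (iv4 D188775)
theorem F418868 : act 5 n201046 = n192585 := d17_5 (iv1 F287623) (iv5 F283798) F283801 (iv5 F177036) D201046 F387169 (iv5 F349511) (iv0 F301616) (iv4 F332656)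
theorem F418869 : act 0 n201046 = n186677 := d17_0 (iv5 D186677) (iv1 F301619) F327343 (iv4 F179380) F332653 (iv0 F135459) D92774 F177038 D201046
theorem F418870 : act 1 n201046 = n124712 := d18_8 F304375 (iv4 F109463) (iv1 F241802) (iv4 F268349) (iv5 F374822) (iv4 D188771) F177038 D201046 (iv5 D124712)
theorem F418871 : act 5 n191626 = n193577 := d21_6 D134048 (iv1 F336886) (iv5 F380865) F380866 (iv1 F418870) F418866 (iv1 D193577) D193579 F390337 (iv1 D134046)
theorem F418872 : act 3 n193577 = n191502 := d6_1 F418871 F383591 D191626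
theorem F418873 : act 6 n154653 = n193577 := d7_0 F418872 (iv6 D191502) (iv3 F338100)
theorem F418874 : act 2 n193577 = n177961 := d3_1 F418873 (iv6 D177961) (iv2 F338099)
theorem F418875 : act 0 n191626 = n194044 := d21_4 F349511 (iv1 F387169) (iv5 F418868) F418866 (iv6 D194044) F157818 (iv1 D89027) D89028 (iv6 F301618) F301616
def n201047 : Q := act 6 n113786
theorem D201047 : act 6 n113786 = n201047 := rfl
theorem F418876 : act 2 n201047 = n113874 := d3_1 D201047 (iv6 D113874) (iv2 F177039)
theorem F418877 : act 3 n201047 = n199021 := d7_1 D201047 (iv6 D199021) (iv3 F328266)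
theorem F418878 : act 4 n201047 = n113787 := d10_1 D201047 (iv6 D113787) D113786
theorem F418879 : act 5 n201047 = n115563 := d12_1 D201047 F179868 (iv5 F328408) (iv6 D117627) (iv5 F177041)
theorem F418880 : act 7 n201047 = n126819 := d14_2 (iv7 F177040) D201047 F204067 (iv7 F327842) (iv6 D113827)
theorem F418881 : act 0 n201047 = n129856 := d21_4 (iv5 F327563) (iv1 F328025) (iv5 F177041) D201047 (iv6 D129856) F95542 (iv1 F174624) (iv5 F202274) F202275 F327560
def n201048 : Q := act 6 n113791
theorem D201048 : act 6 n113791 = n201048 := rfl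
theorem F418882 : act 3 n201048 = n188779 := d7_1 D201048 (iv6 D188779) F177053
theorem F418883 : act 5 n201048 = n189682 := d12_1 D201048 (iv6 F398287) F398282 (iv6 F227638) F227634
theorem F418884 : act 0 n201048 = n130714 := d21_4 F177121 (iv1 F227632) F227634 D201048 F365567 (iv5 D142854) D142852 F339639 (iv6 F371413) F371415
theorem F418885 : act 0 n190401 = n201048 := d21_10 F418883 F379733 F376158 (iv6 F349141) (iv1 F288046) D188765 F374777 F363536 D190421 F379744
def n201049 : Q := act 5 n113792
theorem D201049 : act 5 n113792 = n201049 := rfl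
theorem F418886 : act 2 n201049 = n125892 := d2_1 D201049 F397949 F397944
theorem F418887 : act 3 n201049 = n131901 := d6_1 D201049 (iv5 D131901) (iv3 F328040)
theorem F418888 : act 6 n201049 = n125846 := d12_2 (iv6 F328041) D201049 (iv5 D125846) D125847 F330428
theorem F418889 : act 7 n201049 = n195770 := d13_2 F397975 D201049 F398099
theorem F418890 : act 0 n201049 = n195773 := d17_2 F399795 D201049 F398114 F163287 F77518 F77491 D106231 (iv0 F164522) D196189
theorem F418891 : act 1 n201049 = n195740 := d17_6 F399646 (iv5 D113790) (iv1 D52544) D52545 D113792 D201049 (iv5 D195740) D195738 (iv4 F399648)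
def n201050 : Q := act 6 n113794
theorem D201050 : act 6 n113794 = n201050 := rfl
theorem F418892 : act 2 n201050 = n117109 := d3_1 D201050 (iv6 D117109) (iv2 F177055)
theorem F418893 : act 3 n201050 = n144964 := d7_1 D201050 (iv6 D144964) (iv3 F177056)
theorem F418894 : act 0 n201050 = n127679 := d20_4 D69655 (iv1 F356573) (iv4 F227935) (iv3 F418893) (iv3 D127679) D127680 (iv1 F368500) F368495 F323818 F237515
def n201051 : Q := act 7 n113795
theorem D201051 : act 7 n113795 = n201051 := rfl
theorem F418895 : act 2 n201051 = n124523 := d4_1 D201051 F315633 (iv2 F177060)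
theorem F418896 : act 3 n201051 = n146097 := d8_1 D201051 (iv7 F243247) (iv3 F177061)
theorem F418897 : act 4 n201051 = n146686 := d11_1 D201051 F337252 F329754
theorem F418898 : act 5 n201051 = n145994 := d13_1 D201051 F353434 F227827
theorem F418899 : act 1 n127431 = n201051 := d15_1 D127431 (iv7 D201051) F177060
theorem F418900 : act 1 n201051 = n127430 := d15_1 F418899 F337246 (iv2 F356976)
def n201052 : Q := act 3 n113807
theorem D201052 : act 3 n113807 = n201052 := rfl
theorem F418901 : act 2 n201052 = n132392 := d0_1 D201052 F212433 F96831 (iv3 F207373) (iv2 F328049)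
theorem F418902 : act 4 n201052 = n125934 := d5_2 D113807 D201052 F397948 (iv4 D195722) F163252
theorem F418903 : act 6 n201052 = n125937 := d7_2 (iv6 F328050) D201052 F343593
def n201053 : Q := act 5 n113807
theorem D201053 : act 5 n113807 = n201053 := rfl
theorem F418904 : act 6 n201053 = n129130 := d12_2 (iv6 F328050) D201053 (iv5 D129130) (iv6 D60707) D60706
theorem F418905 : act 4 n201053 = n146787 := d16_2 D113807 D201053 F230149 F105054 F104019 F77077 D52554 F327589 (iv2 F327584)
theorem F418906 : act 0 n201053 = n200902 := d17_2 (iv1 F177078) D201053 (iv5 D200902) (iv4 D113614) F82818 (iv0 D25477) D25480 D52498 D113699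
theorem F418907 : act 1 n201053 = n200908 := d17_6 (iv1 F83084) (iv5 D32009) (iv1 F56680) D52552 D113807 D201053 (iv5 D200908) (iv0 F177139) (iv4 D113844)
def n201054 : Q := act 5 n113808
theorem D201054 : act 5 n113808 = n201054 := rfl
theorem F418908 : act 4 n201054 = n146786 := d9_1 D201054 F230146 F105051 F103989 F77023 D52552 D113807 D201053 F418905 F230149 F105054 F104019 F77077 D52554 D113808
theorem F418909 : act 0 n201054 = n200908 := d17_2 (iv1 F177080) D201054 (iv5 D200908) (iv4 D113616) F82814 F40276 D32016 F82885 D113697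
theorem F418910 : act 1 n201054 = n200902 := d17_6 (iv1 F105004) (iv5 D32013) (iv1 F77058) D52554 D113808 D201054 (iv5 D200902) (iv0 F230131) (iv4 D146767)
def n201055 : Q := act 6 n113808
theorem D201055 : act 6 n113808 = n201055 := rfl
theorem F418911 : act 3 n201055 = n132395 := d7_1 D201055 F212440 (iv3 F350887)
theorem F418912 : act 4 n201055 = n113809 := d10_1 D201055 (iv6 D113809) D113808
theorem F418913 : act 7 n201055 = n129133 := d14_2 F327587 D201055 (iv6 D129133) F95317 D129132
theorem F418914 : act 1 n187720 = n201055 := d15_1 (iv0 F371317) F418913 (iv2 F207839)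
theorem F418915 : act 1 n201055 = n187680 := d15_1 F418914 F371173 (iv2 F371315)
def n201056 : Q := act 6 n113820
theorem D201056 : act 6 n113820 = n201056 := rfl
theorem F418916 : act 3 n201056 = n113822 := d7_1 D201056 (iv6 D113822) D113820
theorem F418917 : act 4 n201056 = n195765 := d10_1 D201056 (iv6 D195765) (iv4 F177096)
theorem F418918 : act 5 n201056 = n198944 := d12_1 D201056 (iv6 D198944) (iv5 D110746) (iv6 F103880) (iv5 F177094)
theorem F418919 : act 7 n201056 = n135269 := d14_2 (iv7 F177095) D201056 (iv6 F218010) (iv7 F327990) (iv6 D113833)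
theorem F418920 : act 0 n201056 = n188765 := d21_4 (iv5 F227634) (iv1 D144765) (iv5 F177094) D201056 (iv6 D188765) (iv5 D92756) F290220 D90274 F233462 F233460
theorem F418921 : act 1 n201056 = n115210 := d15_1 (iv0 F418920) F365903 (iv2 F374775)
def n201057 : Q := act 5 n113827
theorem D201057 : act 5 n113827 = n201057 := rfl
theorem F418922 : act 2 n201057 = n113872 := d2_1 D201057 (iv5 D113872) (iv2 F177112)
theorem F418923 : act 3 n201057 = n197629 := d6_1 D201057 (iv5 D197629) (iv3 F327841)
theorem F418924 : act 4 n201057 = n114765 := d9_1 D201057 F178862 (iv4 F338667) F178852 F83688 (iv5 F83090) (iv4 F327845) D132164 F338657 (iv5 F338655) (iv4 F338651) (iv5 D114665) F83635 (iv5 F83082) (iv4 F177113)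
theorem F418925 : act 0 n201057 = n198885 := d17_2 (iv1 F327840) D201057 F409748 F399120 (iv5 F338685) F338682 F328368 F102046 F98862
def n201058 : Q := act 6 n113831
theorem D201058 : act 6 n113831 = n201058 := rfl
theorem F418926 : act 2 n201058 = n113833 := d3_1 D201058 (iv6 D113833) D113831
theorem F418927 : act 3 n201058 = n135649 := d7_1 D201058 F363818 (iv3 F177120)
theorem F418928 : act 4 n201058 = n195762 := d10_1 D201058 (iv6 D195762) F177122
theorem F418929 : act 0 n201058 = n135811 := d21_4 F177031 F163114 (iv5 F177121) D201058 (iv6 D135811) (iv5 F209504) (iv1 F214012) (iv5 F214014) F328042 F177032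
theorem F418930 : act 1 n201058 = n135827 := d15_1 (iv0 F418929) (iv7 D135827) (iv2 F218429)
theorem F418931 : act 7 n201058 = n135824 := d15_2 (iv0 F361749) (iv0 F418929) (iv2 F371510)
def n201059 : Q := act 5 n113832
theorem D201059 : act 5 n113832 = n201059 := rfl
theorem F418932 : act 2 n201059 = n195761 := d2_1 D201059 (iv5 D195761) (iv2 F177123)
theorem F418933 : act 3 n201059 = n196043 := d6_1 D201059 F399161 (iv3 F395737)
theorem F418934 : act 7 n201059 = n195764 := d13_2 (iv7 F177124) D201059 (iv5 D195764)
theorem F418935 : act 0 n201059 = n197016 := d17_2 (iv1 F177126) D201059 (iv5 D197016) (iv4 D107538) (iv5 D49679) D49678 F163265 (iv0 D106239) D106241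
theorem F418936 : act 6 n198081 = n201059 := d21_9 (iv5 D197016) (iv1 F397947) (iv5 F397949) (iv6 D125892) (iv1 F202368) F356043 F93157 D125666 (iv5 F406718) F418935
theorem F418937 : act 6 n195761 = n125834 := d3_2 F418936 F418932 (iv2 F406722)
theorem F418938 : act 5 n195051 = n195762 := d12_3 F418937 (iv5 F386117) F405937 (iv6 D195762) D195761
def n201060 : Q := act 6 n113832
theorem D201060 : act 6 n113832 = n201060 := rfl
theorem F418939 : act 2 n201060 = n195762 := d3_1 D201060 (iv6 D195762) (iv2 F177123)
theorem F418940 : act 3 n201060 = n128604 := d7_1 D201060 F395738 (iv3 F395737)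
theorem F418941 : act 4 n201060 = n113833 := d10_1 D201060 (iv6 D113833) D113832
theorem F418942 : act 7 n201060 = n128854 := d14_2 (iv7 F177124) D201060 (iv6 F211492) F398080 (iv6 D195765)
theorem F418943 : act 0 n201060 = n135684 := d20_7 (iv4 F204676) (iv1 F204679) F391702 (iv3 F327706) F327989 (iv3 F177127) (iv4 F418941) (iv4 F342938) (iv3 D113628) (iv1 F161468)
def n201061 : Q := act 1 n113833
theorem D201061 : act 1 n113833 = n201061 := rfl
theorem F418944 : act 1 n201061 = n135824 := d15_1 D201061 (iv7 F418931) F418926
theorem F418945 : act 7 n201061 = n135811 := d15_2 (iv0 F371509) D201061 F218429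
theorem F418946 : act 4 n193369 = n201061 := d20_6 F95069 F168073 D62237 D132638 (iv1 F341957) (iv3 F389600) (iv1 D201061) (iv4 F418941) F418940 (iv1 D128604)
theorem F418947 : act 2 n201061 = n135827 := d1_1 F418946 F361247 D193369
theorem F418948 : act 4 n129155 = n135627 := d20_8 (iv4 F418946) (iv1 F406145) F398046 (iv3 F398029) F398031 F218211 F99188 D129155 (iv3 F371511) (iv1 F418944)
theorem F418949 : act 6 n135838 = n201061 := d14_5 F418945 (iv6 D135811) (iv7 F99330) D63871 D135838
def n201062 : Q := act 5 n113833
theorem D201062 : act 5 n113833 = n201062 := rfl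
theorem F418950 : act 3 n201062 = n113841 := d6_1 D201062 (iv5 D113841) (iv3 F177127)
theorem F418951 : act 6 n201062 = n151222 := d12_2 D113833 D201062 F237950 (iv6 F165913) (iv5 F165917)
def n201063 : Q := act 0 n113841
theorem D201063 : act 0 n113841 = n201063 := rfl
theorem F418952 : act 5 n201063 = n133446 := d21_2 D113841 D201063 (iv6 F363883) (iv1 F178863) (iv6 F328048) (iv5 F218092) (iv1 F218428) F218426 F99326 F327989
theorem F418953 : act 6 n201063 = n114635 := d21_5 F83503 F176772 F176771 (iv6 F177134) D201063 (iv5 D114635) (iv1 D52911) D52912 F83613 F83504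
theorem F418954 : act 1 n135235 = n201063 := d15_0 (iv0 D201063) F327992 F218012
def n201064 : Q := act 1 n113841
theorem D201064 : act 1 n113841 = n201064 := rfl
theorem F418955 : act 1 n201064 = n135235 := d15_1 D201064 (iv7 F218019) (iv2 F327991)
theorem F418956 : act 5 n201064 = n133447 := d17_7 (iv1 F97691) (iv5 F179664) F179666 (iv5 D63554) (iv4 F327477) D113841 D201064 F214581 F209222
theorem F418957 : act 3 n113912 = n201064 := d6_3 F418956 F363899 F177205
theorem F418958 : act 6 n187911 = n201064 := d12_0 F418956 (iv6 F363892) (iv5 F376522) F387027 (iv5 F387028)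
def n201065 : Q := act 4 n113841
theorem D201065 : act 4 n113841 = n201065 := rfl
theorem F418959 : act 6 n201065 = n151223 := d10_2 (iv6 F177134) D201065 (iv4 D151223)
def n201066 : Q := act 6 n113843
theorem D201066 : act 6 n113843 = n201066 := rfl
theorem F418960 : act 2 n201066 = n113845 := d3_1 D201066 (iv6 D113845) D113843
theorem F418961 : act 5 n201066 = n131114 := d12_1 D201066 (iv6 D131114) F96028 D62615 (iv5 F177135)
def n201067 : Q := act 3 n113844
theorem D201067 : act 3 n113844 = n201067 := rfl
theorem F418962 : act 4 n201067 = n113846 := d5_2 D113844 D201067 (iv3 D113846) (iv4 D52569) D52568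
theorem F418963 : act 7 n201067 = n129671 := d8_2 (iv7 F230232) D201067 (iv3 F339348)
theorem F418964 : act 6 n129815 = n201067 := d14_5 F418963 (iv6 D129671) F203367 (iv6 F203366) (iv7 F208161)
theorem F418965 : act 2 n201067 = n129850 := d15_3 (iv0 F397300) F397299 (iv7 F418963)
theorem F418966 : act 5 n201067 = n129485 := d21_6 D60833 (iv1 F95516) (iv5 D60975) D60976 D129815 F418964 (iv1 D129485) (iv5 D60845) (iv6 D28861) D28857
theorem F418967 : act 0 n126866 = n201067 := d17_0 F418966 (iv1 D129485) (iv5 D60845) F46497 D28863 D60850 (iv5 F204103) (iv0 D126865) D126866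
theorem F418968 : act 1 n126869 = n201067 := d17_8 F326871 (iv5 D116120) F102184 (iv5 F98727) F98726 D132393 (iv0 F407110) F407109 F418962
def n201068 : Q := act 5 n113844
theorem D201068 : act 5 n113844 = n201068 := rfl
theorem F418969 : act 3 n201068 = n129485 := d6_1 D201068 (iv5 F418966) (iv3 D201067)
theorem F418970 : act 4 n201068 = n146776 := d16_2 D113844 D201068 (iv5 D146776) (iv4 F162432) F162430 F82319 (iv5 F105005) (iv7 F177136) (iv2 D113843)
theorem F418971 : act 0 n201068 = n146867 := d17_2 (iv1 F177140) D201068 (iv5 D146867) (iv4 D68850) F50400 F45897 D59829 F94242 D113614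
theorem F418972 : act 1 n201068 = n146861 := d17_6 (iv1 F106049) (iv5 D59837) (iv1 F51370) (iv5 F83083) D113844 D201068 (iv5 D146861) D146859 F230253
def n201069 : Q := act 6 n113844
theorem D201069 : act 6 n113844 = n201069 := rfl
theorem F418973 : act 3 n201069 = n129815 := d7_1 D201069 F418964 (iv3 D201067)
theorem F418974 : act 4 n201069 = n113845 := d10_1 D201069 (iv6 D113845) D113844
theorem F418975 : act 7 n129851 = n201069 := d8_0 F418973 F208161 D129851
def n201070 : Q := act 0 n113845
theorem D201070 : act 0 n113845 = n201070 := rfl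
theorem F418976 : act 5 n201070 = n186406 := d17_3 F363793 F209194 D201070 (iv4 D186406) F136166 (iv0 F291010) (iv5 F370282) F370280 F344974
theorem F418977 : act 3 n148744 = n201070 := d6_3 F418976 (iv3 F383188) (iv5 F383190)
def n201071 : Q := act 7 n113845
theorem D201071 : act 7 n113845 = n201071 := rfl
theorem F418978 : act 3 n201071 = n113852 := d8_1 D201071 (iv7 D113852) (iv3 F177141)
theorem F418979 : act 4 n201071 = n129851 := d11_1 D201071 F418975 F418974
theorem F418980 : act 6 n201071 = n135234 := d14_1 D201071 (iv7 F218017) (iv6 F339341) F177087 D113845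
def n201072 : Q := act 5 n113849
theorem D201072 : act 5 n113849 = n201072 := rfl
theorem F418981 : act 3 n201072 = n113926 := d6_1 D201072 (iv5 D113926) (iv3 F349139)
theorem F418982 : act 7 n201072 = n115198 := d13_2 (iv7 F327978) D201072 (iv5 D115198)
theorem F418983 : act 0 n201072 = n135533 := d17_2 D113849 D201072 (iv5 D135533) (iv4 D63727) F48331 F79784 (iv5 F83910) (iv0 F83913) (iv4 F327474)
theorem F418984 : act 1 n201072 = n135535 := d17_6 (iv1 F203325) (iv5 F170671) D112606 (iv5 F175199) (iv4 F327976) D201072 (iv5 D135535) F217950 F217948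
def n201073 : Q := act 1 n113851
theorem D201073 : act 1 n113851 = n201073 := rfl
theorem F418985 : act 1 n201073 = n135270 := d15_1 D201073 F365688 (iv2 F177144)
theorem F418986 : act 7 n201073 = n198946 := d15_2 (iv0 F398923) D201073 (iv2 F410015)
theorem F418987 : act 5 n201073 = n126465 := d17_7 (iv1 D29545) F23415 D24680 (iv5 F80034) (iv4 F327474) D113851 D201073 (iv0 F203314) (iv4 D62521)
theorem F418988 : act 6 n135637 = n201073 := d21_3 F379690 (iv1 D135636) D135637 (iv1 D201073) F177145 (iv5 D108300) F79124 (iv5 F80531) D110769 (iv1 F379691)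
theorem F418989 : act 2 n201073 = n196028 := d3_1 F418988 F399115 F218128
def n201074 : Q := act 4 n113851
theorem D201074 : act 4 n113851 = n201074 := rfl
theorem F418990 : act 2 n201074 = n198945 := d1_1 D201074 F410012 (iv2 F177144)
theorem F418991 : act 3 n201074 = n185703 := d5_1 D201074 F367200 D189232 F376163 F209193
theorem F418992 : act 6 n201074 = n189985 := d10_2 (iv6 F177145) D201074 F378449
theorem F418993 : act 5 n201074 = n198505 := d16_1 D201074 F408162 (iv5 D109921) (iv4 D50694) (iv5 F83962) D63582 D135270 F365688 (iv2 F177144)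
theorem F418994 : act 0 n201074 = n198737 := d18_2 (iv1 D201073) D201074 F409028 F217945 F99084 F48338 D62518 F203315 (iv5 F418987)
theorem F418995 : act 1 n201074 = n133226 := d18_6 (iv1 D63573) F48231 D30019 (iv4 F327474) D113851 D201074 (iv4 D133226) D133225 F214065
theorem F418996 : act 7 n200443 = n201074 := d14_0 F418992 F378448 F361786 (iv7 F379504) D200443
def n201075 : Q := act 7 n113851
theorem D201075 : act 7 n113851 = n201075 := rfl
theorem F418997 : act 2 n201075 = n135270 := d4_1 D201075 F365688 (iv2 F177144)
theorem F418998 : act 4 n201075 = n200443 := d11_1 D201075 F418996 (iv4 D201074)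
theorem F418999 : act 5 n201075 = n113852 := d13_1 D201075 (iv7 D113852) D113851
theorem F419000 : act 6 n201075 = n198950 := d14_1 D201075 (iv7 D198950) (iv6 D110751) (iv7 F167459) (iv6 F177145)
theorem F419001 : act 1 n196028 = n201075 := d15_1 (iv0 F399117) (iv7 D201075) F177144
theorem F419002 : act 1 n201075 = n198946 := d15_1 F419001 (iv7 F418986) F418989
def n201076 : Q := act 7 n113868
theorem D201076 : act 7 n113868 = n201076 := rfl
theorem F419003 : act 3 n201076 = n125481 := d8_1 D201076 F201803 (iv3 F328413)
theorem F419004 : act 5 n201076 = n132274 := d13_1 D201076 F211975 (iv5 F328415)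
theorem F419005 : act 6 n201076 = n125466 := d14_1 D201076 (iv7 F201764) F103617 F328376 D113868
theorem F419006 : act 1 n138211 = n201076 := d15_1 (iv0 F336166) (iv7 D201076) F328412
theorem F419007 : act 1 n201076 = n132565 := d15_1 F419006 (iv7 F397228) F397224
def n201077 : Q := act 1 n113874
theorem D201077 : act 1 n113874 = n201077 := rfl
theorem F419008 : act 1 n201077 = n126819 := d15_1 D201077 (iv7 F418880) F418876
theorem F419009 : act 7 n201077 = n129856 := d15_2 (iv0 F328377) D201077 (iv2 F211457)
theorem F419010 : act 4 n201077 = n134474 := d17_9 (iv1 F218318) D141728 (iv1 F224774) (iv5 D130947) F99198 (iv5 F179874) F179877 (iv5 F328379) D201077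
theorem F419011 : act 5 n201077 = n129490 := d18_9 F211300 (iv4 F245179) (iv1 F245181) (iv4 D130956) (iv5 F99243) (iv4 F363759) (iv0 D113886) (iv4 F177172) D201077
theorem F419012 : act 3 n126497 = n201077 := d6_3 F419011 (iv3 D129490) (iv5 F203399)
theorem F419013 : act 6 n126454 = n201077 := d12_0 F419011 F207640 (iv5 D127068) D127069 F204304
def n201078 : Q := act 5 n113885
theorem D201078 : act 5 n113885 = n201078 := rfl
theorem F419014 : act 2 n201078 = n152777 := d2_1 D201078 F363770 (iv2 F327848)
theorem F419015 : act 3 n201078 = n114002 := d6_1 D201078 (iv5 D114002) (iv3 F177176)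
theorem F419016 : act 4 n201078 = n199025 := d9_1 D201078 F410377 (iv4 F222566) (iv5 F330597) (iv4 F179866) (iv5 F418879) F418878 F177045 (iv4 F239986) (iv5 F363775) (iv4 F401395) (iv5 D196661) (iv4 F165185) (iv5 F211700) (iv4 F327849)
theorem F419017 : act 6 n201078 = n114788 := d12_2 D113885 D201078 (iv5 D114788) (iv6 D52969) (iv5 F83090)
theorem F419018 : act 7 n201078 = n113888 := d13_2 (iv7 F177177) D201078 (iv5 D113888)
theorem F419019 : act 0 n201078 = n130659 := d17_2 (iv1 F327847) D201078 (iv5 D130659) F95791 F46668 D49520 (iv5 F99364) (iv0 F99365) (iv4 F216461)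
theorem F419020 : act 1 n201078 = n130953 := d17_6 (iv1 F96464) F95403 F179213 (iv5 F211700) (iv4 F327849) D201078 (iv5 D130953) F203475 F203473
def n201079 : Q := act 3 n113886
theorem D201079 : act 3 n113886 = n201079 := rfl
theorem F419021 : act 4 n201079 = n113938 := d5_2 (iv4 F363759) D201079 (iv3 D113938) D113939 F342860
theorem F419022 : act 6 n201079 = n135769 := d7_2 (iv6 F363760) D201079 (iv3 D135769)
theorem F419023 : act 0 n201079 = n200642 := d20_10 (iv4 D200642) (iv1 D113308) D113309 F176514 (iv1 F104821) (iv3 F335898) (iv4 D115489) F99245 (iv4 F363759) D201079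
theorem F419024 : act 0 n200639 = n201079 := d18_2 D113307 D200639 F419021 (iv5 F415206) (iv4 F417261) (iv0 D200624) (iv4 D113297) (iv0 D52299) D52302
def n201080 : Q := act 5 n113886
theorem D201080 : act 5 n113886 = n201080 := rfl
def n201081 : Q := act 3 n113887
theorem D201081 : act 3 n113887 = n201081 := rfl
theorem F419025 : act 7 n201081 = n146798 := d8_2 (iv7 F363762) D201081 F349040
theorem F419026 : act 0 n135664 = n201081 := d20_4 F229660 (iv1 F104857) D68655 (iv3 F335972) (iv3 D201081) (iv4 F363764) F179284 D115489 F335898 D146323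
theorem F419027 : act 1 n117226 = n201081 := d15_0 (iv0 F419026) F335973 (iv2 F183413)
theorem F419028 : act 2 n201081 = n146799 := d15_3 F362733 F362734 (iv7 F419025)
def n201082 : Q := act 5 n113887
theorem D201082 : act 5 n113887 = n201082 := rfl
theorem F419029 : act 4 n201082 = n199790 := d18_5 F218319 (iv4 D115493) F179285 F363764 D201082 (iv0 F413518) (iv4 D130950) D130949 (iv5 F218312)
def n201083 : Q := act 6 n113890
theorem D201083 : act 6 n113890 = n201083 := rfl
theorem F419030 : act 2 n201083 = n114809 := d3_1 D201083 (iv6 D114809) F177187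
theorem F419031 : act 5 n201083 = n135649 := d12_1 D201083 F363818 F105005 D69688 (iv5 F177185)
def n201084 : Q := act 6 n113891
theorem D201084 : act 6 n113891 = n201084 := rfl
theorem F419032 : act 2 n201084 = n114807 := d3_1 D201084 (iv6 D114807) F177192
theorem F419033 : act 3 n201084 = n151225 := d7_1 D201084 (iv6 D151225) F177193
theorem F419034 : act 5 n201084 = n131116 := d12_1 D201084 (iv6 D131116) F96023 D62616 (iv5 F177191)
def n201085 : Q := act 3 n113892
theorem D201085 : act 3 n113892 = n201085 := rfl
theorem F419035 : act 4 n201085 = n114016 := d5_2 D113892 D201085 (iv3 D114016) (iv4 D52620) (iv3 F83098)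
theorem F419036 : act 6 n201085 = n199201 := d7_2 (iv6 F410332) D201085 (iv3 F411142)
theorem F419037 : act 7 n201085 = n114811 := d8_2 (iv7 F177195) D201085 (iv3 D114811)
def n201086 : Q := act 5 n113892
theorem D201086 : act 5 n113892 = n201086 := rfl
theorem F419038 : act 2 n201086 = n119640 := d2_1 D201086 F188682 (iv2 F177194)
theorem F419039 : act 7 n201086 = n114812 := d13_2 (iv7 F177195) D201086 (iv5 D114812)
theorem F419040 : act 4 n201086 = n119007 := d16_2 D113892 D201086 (iv5 D119007) (iv4 D54763) (iv5 D26481) (iv4 F40558) D52870 F83530 (iv2 F83097)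
theorem F419041 : act 0 n201086 = n152292 := d17_2 F247881 D201086 (iv5 D152292) (iv4 D71847) (iv5 D33204) D33203 D71844 (iv0 F112354) D157399
theorem F419042 : act 1 n201086 = n152350 := d17_6 (iv1 F186820) (iv5 D113889) (iv1 D52581) D52582 D113892 D201086 F239549 F239382 F239381
def n201087 : Q := act 3 n113893
theorem D201087 : act 3 n113893 = n201087 := rfl
theorem F419043 : act 6 n201087 = n187661 := d7_2 (iv6 F374576) D201087 F374575
theorem F419044 : act 0 n201087 = n195570 := d21_4 (iv5 F377680) (iv1 F377684) F374080 (iv6 F419043) (iv6 D195570) (iv5 D105748) F77047 D48902 D105764 (iv1 F371160)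
def n201088 : Q := act 0 n113894
theorem D201088 : act 0 n113894 = n201088 := rfl
theorem F419045 : act 4 n201088 = n187737 := d18_3 (iv1 F374573) F374579 D201088 (iv5 D187737) (iv4 F153323) F290146 (iv4 F142813) F290151 D102564
theorem F419046 : act 6 n201088 = n135645 := d21_5 F55188 (iv1 F55190) (iv5 F83100) D113894 D201088 (iv5 F335882) (iv1 D146478) (iv5 D68669) (iv6 D31950) D31947
theorem F419047 : act 1 n113900 = n201088 := d15_0 (iv0 D201088) (iv7 F391674) F391673
theorem F419048 : act 2 n113897 = n201088 := d3_3 F419046 (iv2 D135645) (iv6 F363813)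
theorem F419049 : act 3 n148738 = n201088 := d7_3 F419046 F218134 (iv6 F364691)
theorem F419050 : act 0 n148772 = n195264 := d20_1 (iv4 F233574) F396516 F419049 (iv1 F419047) F177201 (iv4 F176519) (iv1 F395857) (iv4 D113634) D113633 F395851
theorem F419051 : act 7 n113898 = n201088 := d15_2 (iv0 D113897) D113898 (iv2 F419048)
theorem F419052 : act 3 n159579 = n113898 := d8_3 F419051 (iv3 F419049) (iv7 F364722)
def n201089 : Q := act 1 n113894
theorem D201089 : act 1 n113894 = n201089 := rfl
theorem F419053 : act 1 n201089 = n113900 := d15_1 D201089 (iv7 D113900) (iv2 F177197)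
theorem F419054 : act 7 n201089 = n113897 := d15_2 (iv0 D201088) D201089 F419048
theorem F419055 : act 4 n187738 = n201089 := d20_0 (iv1 D201089) (iv4 F374579) (iv3 F374575) (iv1 D187661) F139191 D90436 (iv1 F159975) (iv4 D104357) D104356 F371379
theorem F419056 : act 2 n201089 = n113898 := d1_1 F419055 F391679 (iv2 F371376)
theorem F419057 : act 3 n201089 = n135651 := d5_1 F419055 (iv4 F418384) (iv3 F418383) (iv4 D187778) (iv3 F371377)
theorem E103823 : n200921 = n195735 := ((c20_4 (iv4 F419055) (iv1 F394460) F394456 (iv3 F397988) (iv1 D200921) (iv3 D113628) D113629 F395858 F176519 (iv3 F177201) (iv1 F419053))).symm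
theorem F419058 : act 0 n195735 = n113628 := (sb E103823 (iv1 D200921))
def n201090 : Q := act 5 n113897
theorem D201090 : act 5 n113897 = n201090 := rfl
theorem F419059 : act 3 n201090 = n135650 := d6_1 D201090 (iv5 D135650) (iv3 F363812)
theorem F419060 : act 6 n201090 = n187935 := d21_9 (iv5 F288339) F288340 (iv5 F186816) (iv6 D118765) (iv1 F94180) (iv6 F177200) (iv5 D113899) D113897 D201090 (iv1 D187935)
def n201091 : Q := act 5 n113898
theorem D201091 : act 5 n113898 = n201091 := rfl
def n201092 : Q := act 6 n113898
theorem D201092 : act 6 n113898 = n201092 := rfl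
theorem F419061 : act 4 n201092 = n187743 := d10_1 D201092 (iv6 D187743) (iv4 F391679)
def n201093 : Q := act 0 n113899
theorem D201093 : act 0 n113899 = n201093 := rfl
def n201094 : Q := act 1 n113899
theorem D201094 : act 1 n113899 = n201094 := rfl
theorem F419062 : act 1 n201094 = n197192 := d15_1 D201094 F403473 F250828
theorem F419063 : act 6 n187532 = n201094 := d21_3 D90682 D187933 F371871 (iv1 D201094) F177200 (iv5 D59807) F55285 D76425 (iv6 F139318) F283726
theorem F419064 : act 5 n187746 = n201094 := d21_6 (iv5 D31943) (iv1 F41486) D54072 F85320 D90533 D187746 (iv1 D201094) (iv5 D113899) (iv6 D52585) F50281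
theorem F419065 : act 2 n201094 = n187861 := d2_1 F419064 F386959 (iv2 F386962)
theorem F419066 : act 3 n201094 = n115061 := d7_1 F419063 F375199 (iv3 F374258)
def n201095 : Q := act 7 n113899
theorem D201095 : act 7 n113899 = n201095 := rfl
theorem F419067 : act 2 n201095 = n197192 := d4_1 D201095 F403473 F250828
theorem F419068 : act 3 n201095 = n113914 := d8_1 D201095 (iv7 D113914) (iv3 F177199)
theorem F419069 : act 4 n201095 = n197184 := d11_1 D201095 F403441 F391806
theorem F419070 : act 5 n201095 = n113900 := d13_1 D201095 (iv7 D113900) D113899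
theorem F419071 : act 6 n201095 = n197041 := d14_1 D201095 (iv7 D197041) F322883 (iv7 F114180) (iv6 F177200)
theorem F419072 : act 1 n197192 = n201093 := d15_0 (iv0 D201093) D201095 F419067
theorem F419073 : act 1 n187861 = n201095 := d15_1 (iv0 F371853) (iv7 D201095) (iv2 F250828)
theorem F419074 : act 7 n201093 = n187861 := d15_2 F419062 F419072 (iv2 F419065)
def n201096 : Q := act 5 n113902
theorem D201096 : act 5 n113902 = n201096 := rfl
theorem F419075 : act 2 n201096 = n135784 := d2_1 D201096 (iv5 D135784) (iv2 F326359)
theorem F419076 : act 3 n201096 = n113904 := d6_1 D201096 (iv5 D113904) D113902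
theorem F419077 : act 6 n201096 = n146440 := d12_2 (iv6 F326361) D201096 (iv5 D146440) F333182 (iv5 F323481)
theorem F419078 : act 4 n146554 = n201096 := d10_3 F419077 F229783 D146554
def n201097 : Q := act 0 n113904
theorem D201097 : act 0 n113904 = n201097 := rfl
theorem F419079 : act 5 n201097 = n200893 := d21_2 D113904 D201097 (iv6 D200893) (iv1 D113606) (iv6 D52446) (iv5 D25452) F20016 (iv5 F20061) D25525 D52586
theorem F419080 : act 1 n113909 = n201097 := d15_0 (iv0 D201097) (iv7 F396045) F396044
def n201098 : Q := act 1 n113904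
theorem D201098 : act 1 n113904 = n201098 := rfl
theorem F419081 : act 1 n201098 = n113909 := d15_1 D201098 (iv7 F365727) (iv2 F365923)
def n201099 : Q := act 4 n113904
theorem D201099 : act 4 n113904 = n201099 := rfl
def n201100 : Q := act 6 n113904
theorem D201100 : act 6 n113904 = n201100 := rfl
theorem F419082 : act 2 n201100 = n197814 := d3_1 D201100 (iv6 F405874) (iv2 F365923)
theorem F419083 : act 3 n201100 = n146440 := d7_1 D201100 (iv6 F419077) F419076
theorem F419084 : act 5 n201100 = n146439 := d12_1 D201100 F363920 (iv5 D135585) (iv6 F325502) D113904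
theorem F419085 : act 0 n201100 = n187540 := d21_4 (iv5 D52588) D52586 D113904 D201100 (iv6 D187540) F345187 F345038 F350467 F248589 (iv1 D113912)
theorem F419086 : act 0 n197804 = n201100 := d21_1 (iv5 F405842) F419084 F363920 F322885 (iv6 D69717) F51385 F36970 D31891 D68548 D146180
theorem F419087 : act 7 n197815 = n201100 := d8_0 F419083 (iv7 F231789) F405866
theorem F419088 : act 6 n114537 = n197815 := d14_5 F419087 (iv6 D201100) (iv7 F396045) (iv6 F396046) (iv7 F388628)
def n201101 : Q := act 4 n113909
theorem D201101 : act 4 n113909 = n201101 := rfl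
theorem F419089 : act 3 n201101 = n192671 := d5_1 D201101 F387440 (iv3 F387432) F387433 (iv3 F365726)
theorem F419090 : act 6 n201101 = n192670 := d10_2 F178599 D201101 F387436
def n201102 : Q := act 5 n113910
theorem D201102 : act 5 n113910 = n201102 := rfl
theorem F419091 : act 3 n201102 = n135810 := d6_1 D201102 F218426 (iv3 F327707)
theorem F419092 : act 6 n201102 = n189427 := d12_2 D113910 D201102 F376587 F178599 (iv5 D113909)
theorem F419093 : act 7 n201102 = n135803 := d13_2 (iv7 F327709) D201102 (iv5 D135803)
theorem F419094 : act 0 n201102 = n133660 := d21_7 (iv5 F391862) (iv1 F164400) F163739 (iv6 F161545) (iv1 F161547) D113910 D201102 F215070 (iv6 F179057) (iv1 F391863)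
theorem F419095 : act 0 n183506 = n200655 := d17_0 F417377 (iv1 F380455) F415241 (iv4 D200147) (iv5 F215070) (iv0 F419094) (iv5 D201102) (iv0 F364711) F364708
theorem F419096 : act 0 n115004 = n201102 := d21_10 (iv5 D201102) (iv1 F364712) (iv5 D130633) F157671 (iv1 F331382) F331385 (iv5 D76453) (iv1 F161767) D53065 (iv6 F179077)
def n201103 : Q := act 0 n113913
theorem D201103 : act 0 n113913 = n201103 := rfl
theorem F419097 : act 6 n201103 = n127783 := d21_5 (iv5 F94498) (iv1 F163120) F163118 (iv6 F177206) D201103 (iv5 F331553) (iv1 D116086) F331530 F83501 D52862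
theorem F419098 : act 2 n200936 = n201103 := d15_3 (iv0 D201103) (iv0 F401135) (iv7 F418436)
theorem F419099 : act 4 n201103 = n127784 := d1_2 D200936 F419098 F205534
theorem F419100 : act 7 n201103 = n200937 := d4_2 (iv7 F418436) F419098 F418438
def n201104 : Q := act 3 n113913
theorem D201104 : act 3 n113913 = n201104 := rfl
theorem F419101 : act 4 n201104 = n199034 := d5_2 D113913 D201104 F410407 F391806 F177199
theorem F419102 : act 6 n201104 = n127343 := d7_2 (iv6 F177206) D201104 (iv3 D127343)
def n201105 : Q := act 5 n113913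
theorem D201105 : act 5 n113913 = n201105 := rfl
def n201106 : Q := act 7 n113913
theorem D201106 : act 7 n113913 = n201106 := rfl
theorem F419103 : act 4 n201106 = n113914 := d11_1 D201106 (iv7 D113914) D113913
theorem F419104 : act 1 n200937 = n201106 := d15_1 (iv0 F418440) (iv7 D201106) (iv2 F362689)
theorem F419105 : act 1 n201106 = n200936 := d15_1 F419104 F418436 (iv2 F418438)
def n201107 : Q := act 6 n113918
theorem D201107 : act 6 n113918 = n201107 := rfl
theorem F419106 : act 2 n201107 = n138001 := d3_1 D201107 (iv6 D138001) (iv2 F177264)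
theorem F419107 : act 4 n201107 = n187655 := d10_1 D201107 (iv6 D187655) F177263
theorem F419108 : act 0 n201107 = n183505 := d21_4 F221203 (iv1 F411175) (iv5 F411174) D201107 (iv6 D183505) F294500 D95396 (iv5 F350435) (iv6 D137944) D137943
theorem F419109 : act 0 n188912 = n201107 := d21_4 (iv5 F365791) F154133 (iv5 F365789) (iv6 F375184) (iv6 D201107) F411174 F411173 (iv5 D113779) F83014 F139204
def n201108 : Q := act 6 n113919
theorem D201108 : act 6 n113919 = n201108 := rfl
theorem F419110 : act 2 n201108 = n136626 := d3_1 D201108 F346583 (iv2 F177265)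
theorem F419111 : act 3 n201108 = n135901 := d7_1 D201108 F338932 (iv3 F177266)
theorem F419112 : act 4 n201108 = n125083 := d10_1 D201108 F352327 (iv4 F177268)
theorem F419113 : act 7 n201108 = n136543 := d14_2 (iv7 F177267) D201108 (iv6 F338913) (iv7 F338936) (iv6 D137654)
theorem F419114 : act 0 n136628 = n201108 := d18_2 F336423 (iv4 F314604) F419112 F352326 F342688 F263818 F323228 (iv0 F336415) F336421
theorem F419115 : act 0 n201108 = n136601 := d20_1 (iv4 F419112) (iv4 F316895) (iv3 D85676) F60464 D58465 (iv4 F316045) (iv1 F331335) (iv4 F350216) F344829 (iv1 F352324)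
def n201109 : Q := act 1 n113920
theorem D201109 : act 1 n113920 = n201109 := rfl
theorem F419116 : act 1 n201109 = n189088 := d15_1 D201109 F375701 F367977
theorem F419117 : act 7 n201109 = n187669 := d15_2 (iv0 F374707) D201109 (iv2 F374703)
theorem F419118 : act 5 n201109 = n188224 := d17_7 D91099 F356189 F294964 D89100 D186757 F367900 D201109 (iv0 D188224) (iv4 D91101)
theorem F419119 : act 4 n187671 = n201109 := d20_0 (iv1 D201109) F177277 F83104 D52595 (iv3 F349139) F327976 (iv1 F203291) (iv4 F203297) F374716 (iv1 F374713)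
theorem F419120 : act 2 n201109 = n138039 := d1_1 F419119 (iv4 F374710) F374709
def n201110 : Q := act 7 n113920
theorem D201110 : act 7 n113920 = n201110 := rfl
theorem F419121 : act 2 n201110 = n189088 := d4_1 D201110 F375701 F367977
theorem F419122 : act 3 n201110 = n138152 := d8_1 D201110 (iv7 F417161) F417159
theorem F419123 : act 4 n201110 = n113922 := d11_1 D201110 (iv7 D113922) (iv4 F177277)
theorem F419124 : act 5 n201110 = n189081 := d13_1 D201110 F375672 F367900
theorem F419125 : act 6 n201110 = n183456 := d14_1 D201110 F396029 (iv6 D195160) F161534 D113920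
theorem F419126 : act 1 n138039 = n201110 := d15_1 (iv0 F367980) (iv7 D201110) (iv2 F367977)
theorem F419127 : act 1 n201110 = n187669 := d15_1 F419126 (iv7 F419117) F419120
def n201111 : Q := act 3 n113921
theorem D201111 : act 3 n113921 = n201111 := rfl
theorem F419128 : act 2 n201111 = n115210 := d0_1 D201111 (iv3 F365902) F288296 (iv3 F160075) F177279
theorem F419129 : act 6 n201111 = n115206 := d7_2 F371223 D201111 (iv3 F371220)
theorem F419130 : act 7 n201111 = n188765 := d8_2 (iv7 F177278) D201111 F374776
theorem F419131 : act 0 n135269 = n201111 := d20_4 F179355 (iv1 F83912) D63582 D135269 (iv3 D201111) (iv4 F410182) (iv1 F410185) (iv4 F217461) (iv3 D135258) F179358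
def n201112 : Q := act 5 n113928
theorem D201112 : act 5 n113928 = n201112 := rfl
theorem F419132 : act 2 n201112 = n151659 := d2_1 D201112 (iv5 F335487) (iv2 F347560)
theorem F419133 : act 3 n201112 = n113930 := d6_1 D201112 (iv5 D113930) D113928
theorem F419134 : act 7 n201112 = n186687 := d13_2 F347562 D201112 (iv5 D186687)
theorem F419135 : act 6 n151444 = n201112 := d21_5 (iv5 D71394) (iv1 D33032) D33033 (iv6 F107885) D151444 (iv5 D201112) (iv1 F364606) F233636 (iv6 D107545) (iv1 F107894)
def n201113 : Q := act 5 n113931
theorem D201113 : act 5 n113931 = n201113 := rfl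
theorem F419136 : act 2 n201113 = n115195 := d2_1 D201113 (iv5 D115195) (iv2 F347547)
theorem F419137 : act 3 n201113 = n159744 := d6_1 D201113 (iv5 F347574) (iv3 F347548)
theorem F419138 : act 6 n201113 = n196116 := d12_2 D113931 D201113 (iv5 D196116) F177294 (iv5 D113930)
theorem F419139 : act 7 n201113 = n159736 := d13_2 (iv7 F347550) D201113 F342954
theorem F419140 : act 0 n201113 = n200892 := d17_2 (iv1 F347546) D201113 (iv5 D200892) F336927 (iv5 F395629) (iv0 F395630) (iv5 F417215) (iv0 F417217) F177315
theorem F419141 : act 1 n201113 = n200889 := d17_6 D60562 D128769 (iv1 F362264) (iv5 D128881) (iv4 F347549) D201113 (iv5 D200889) (iv0 D113605) (iv4 F328466)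
def n201114 : Q := act 1 n113933
theorem D201114 : act 1 n113933 = n201114 := rfl
theorem F419142 : act 5 n201114 = n128937 := d17_7 D125551 (iv5 F202398) (iv1 F202402) F405916 (iv4 F415204) F415203 D201114 (iv0 F362949) (iv4 D125554)
theorem F419143 : act 3 n138060 = n201114 := d20_3 D113264 (iv1 F176464) D138060 (iv1 D201114) (iv3 D113933) (iv4 F329449) F164820 D195905 F398677 (iv1 D113263)
theorem F419144 : act 6 n132271 = n201114 := d12_0 F419142 (iv6 D128937) F95244 D62055 D132271
def n201115 : Q := act 2 n113933
theorem D201115 : act 2 n113933 = n201115 := rfl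
theorem F419145 : act 4 n201115 = n195619 := d1_2 (iv4 F397911) D201115 (iv2 F397914)
def n201116 : Q := act 0 n113938
theorem D201116 : act 0 n113938 = n201116 := rfl
theorem F419146 : act 5 n201116 = n126377 := d17_3 (iv1 F415213) F415206 D201116 F320735 D163930 (iv0 F361984) F361982 F176499 (iv4 F176842)
theorem F419147 : act 4 n201116 = n195779 := d18_1 D201116 (iv1 F417298) (iv4 D200633) (iv5 D113305) (iv4 F176501) F176502 (iv4 F409937) (iv0 F415212) F415206
theorem F419148 : act 3 n201116 = n126378 := d20_5 (iv4 D195905) (iv1 F342858) (iv4 D113939) D113938 D201116 F360455 (iv1 F398164) (iv4 D195784) D195783 (iv1 F398682)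
theorem F419149 : act 7 n195776 = n201116 := d8_0 F419148 (iv7 F360452) (iv3 F398127)
theorem F419150 : act 6 n201116 = n195775 := d14_1 F419149 (iv7 D195775) (iv6 D106252) D106253 D195776
def n201117 : Q := act 2 n113938
theorem D201117 : act 2 n113938 = n201117 := rfl
theorem F419151 : act 1 n201117 = n195776 := d15_0 (iv0 F398130) F395733 D201117
def n201118 : Q := act 6 n113938
theorem D201118 : act 6 n113938 = n201118 := rfl
theorem F419152 : act 3 n201118 = n113941 := d7_1 D201118 (iv6 D113941) D113938
theorem F419153 : act 4 n201118 = n135769 := d10_1 D201118 (iv6 F419022) F419021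
theorem F419154 : act 7 n201118 = n128898 := d14_2 F395733 D201118 (iv6 F211434) (iv7 F399241) F399240
theorem F419155 : act 0 n135689 = n201118 := d21_4 (iv5 D125895) D125893 F330422 D135689 (iv6 D201118) (iv5 F415206) F415212 (iv5 F409940) F401529 (iv1 F360027)
def n201119 : Q := act 0 n113945
theorem D201119 : act 0 n113945 = n201119 := rfl
theorem F419156 : act 5 n201119 = n131854 := d17_3 F329384 D113945 D201119 F211257 (iv5 F216102) (iv0 F216105) (iv5 D106805) (iv0 D49349) (iv4 F78016)
theorem F419157 : act 6 n201119 = n200838 := d21_5 F395745 (iv1 D195095) D195096 F395750 D201119 F418113 (iv1 F204672) (iv5 F396543) (iv6 D128913) (iv1 F206899)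
theorem F419158 : act 1 n129094 = n201119 := d15_0 (iv0 D201119) F329388 F211703
theorem F419159 : act 3 n132269 = n201119 := d7_3 F419157 F418112 F400015
theorem F419160 : act 7 n200963 = n201119 := d14_0 F419157 (iv7 D200838) F176704 D113667 D200963
def n201120 : Q := act 1 n113945
theorem D201120 : act 1 n113945 = n201120 := rfl
theorem F419161 : act 1 n201120 = n129094 := d15_1 D201120 (iv7 F211686) (iv2 F329387)
theorem F419162 : act 5 n201120 = n200617 := d17_7 F176765 F176762 F163834 (iv5 D60692) (iv4 F329052) D113945 D201120 F417233 (iv4 D132163)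
theorem F419163 : act 6 n127377 = n201120 := d21_3 (iv5 D113327) (iv1 F94237) (iv5 F204693) (iv1 D201120) (iv6 F395750) (iv5 D195096) F362943 (iv5 D60632) D60633 (iv1 F352201)
theorem F419164 : act 2 n201120 = n200963 := d3_1 F419163 (iv6 D200963) (iv2 F204692)
def n201121 : Q := act 4 n113945
theorem D201121 : act 4 n113945 = n201121 := rfl
def n201122 : Q := act 0 n113948
theorem D201122 : act 0 n113948 = n201122 := rfl
theorem F419165 : act 3 n201122 = n195741 := d20_5 F77433 D49050 (iv4 F177855) D113948 D201122 F398006 D195742 F398012 (iv3 D195185) F177807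
theorem F419166 : act 1 n200923 = n201122 := d15_0 (iv0 D201122) (iv7 F396102) (iv2 F418404)
theorem F419167 : act 6 n195739 = n201122 := d7_0 F419165 (iv6 D195741) D195739
def n201123 : Q := act 4 n113948
theorem D201123 : act 4 n113948 = n201123 := rfl
theorem F419168 : act 3 n201123 = n195640 := d5_1 D201123 (iv4 D195640) (iv3 D106115) (iv4 F177855) D113948
theorem F419169 : act 6 n195257 = n201123 := d7_0 F419168 (iv6 F397701) F396494
def n201124 : Q := act 6 n113948
theorem D201124 : act 6 n113948 = n201124 := rfl
theorem F419170 : act 2 n201124 = n130226 := d3_1 D201124 F417373 F417371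
theorem F419171 : act 3 n201124 = n113951 := d7_1 D201124 (iv6 D113951) D113948
theorem F419172 : act 4 n201124 = n195257 := d10_1 D201124 F419169 (iv4 D201123)
theorem F419173 : act 7 n201124 = n128872 := d14_2 F396102 D201124 (iv6 F342928) (iv7 F399191) F399190
theorem F419174 : act 0 n196080 = n201124 := d21_4 F395583 (iv1 F400680) (iv5 F414986) F414991 (iv6 D201124) (iv5 F396110) F395856 D126291 F203065 D195054
def n201125 : Q := act 1 n113950
theorem D201125 : act 1 n113950 = n201125 := rfl
theorem F419175 : act 1 n201125 = n113955 := d15_1 D201125 (iv7 F396100) F396099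
theorem F419176 : act 7 n201125 = n195707 := d15_2 F397685 D201125 F397903
theorem F419177 : act 5 n201125 = n195238 := d17_7 D106365 F163430 F178033 (iv5 D106117) (iv4 F177855) D113950 D201125 F396416 (iv4 D106367)
theorem F419178 : act 2 n191643 = n201125 := d2_3 F419177 F396412 F384035
theorem F419179 : act 3 n196236 = n201125 := d6_3 F419177 F396413 (iv5 F400005)
theorem F419180 : act 6 n201125 = n191642 := d21_3 F396115 (iv1 F396416) (iv5 F419177) (iv1 F417210) (iv6 F417209) (iv5 D113559) (iv1 D52408) D52409 (iv6 F161569) D195178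
def n201126 : Q := act 4 n113950
theorem D201126 : act 4 n113950 = n201126 := rfl
theorem F419181 : act 3 n201126 = n200928 := d5_1 D201126 (iv4 D200928) (iv3 D113633) D113634 (iv3 F396109)
theorem F419182 : act 7 n201126 = n136333 := d11_2 F396104 D201126 (iv4 F396105)
theorem F419183 : act 5 n201126 = n114910 := d16_1 D201126 (iv4 D114910) (iv5 F87469) (iv4 F177782) (iv5 D106122) (iv4 F177843) D113955 (iv7 F396100) F396099
theorem F419184 : act 1 n201126 = n132557 := d18_6 F177807 F77433 D49050 (iv4 F177855) D113950 D201126 (iv4 F399228) (iv0 F399230) (iv5 D195186)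
def n201127 : Q := act 6 n113950
theorem D201127 : act 6 n113950 = n201127 := rfl
theorem F419185 : act 3 n201127 = n200931 := d7_1 D201127 (iv6 D200931) (iv3 F396109)
def n201128 : Q := act 5 n113951
theorem D201128 : act 5 n113951 = n201128 := rfl
theorem F419186 : act 2 n201128 = n128779 := d2_1 D201128 F342951 (iv2 F342941)
theorem F419187 : act 7 n201128 = n128778 := d13_2 (iv7 F342942) D201128 F355245
theorem F419188 : act 0 n201128 = n128776 := d17_2 (iv1 F342940) D201128 (iv5 D128776) F328852 F82946 D79102 (iv5 F120359) (iv0 F333503) (iv4 F95064)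
theorem F419189 : act 1 n201128 = n128588 := d17_6 (iv1 F176939) F176781 (iv1 F346179) F346181 F177856 D201128 (iv5 D128588) D128586 (iv4 F332632)
def n201129 : Q := act 4 n113955
theorem D201129 : act 4 n113955 = n201129 := rfl
theorem F419190 : act 2 n201129 = n136333 := d1_1 D201129 (iv4 F396105) F396103
theorem F419191 : act 5 n201129 = n114907 := d9_2 D113955 D201129 (iv4 D114907) D114908 F178999 (iv5 D106117) (iv4 F177855) D113950 D201126 F419183 (iv4 D114910) (iv5 F87469) (iv4 F177782) (iv5 D106122) (iv4 F177843)
theorem F419192 : act 6 n201129 = n132536 := d10_2 (iv6 F396112) D201129 (iv4 F212742)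
theorem F419193 : act 0 n201129 = n132557 := d18_2 F397683 D201129 (iv4 F399228) F399231 F179049 (iv0 D106365) D106367 (iv0 F396424) F397684
def n201130 : Q := act 3 n113957
theorem D201130 : act 3 n113957 = n201130 := rfl
theorem F419194 : act 5 n201130 = n195671 := d6_2 F177854 D201130 (iv3 D195671)
theorem F419195 : act 6 n201130 = n114959 := d7_2 F399236 D201130 (iv3 F399235)
theorem F419196 : act 7 n201130 = n201014 := d8_2 F396120 D201130 F418737
theorem F419197 : act 4 n195855 = n201130 := d11_3 F419196 F418738 (iv7 F398477)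
theorem E103824 : n200656 = n195671 := ((c17_6 (iv1 D105303) D105304 F205535 (iv5 F398476) F419197 F419194 (iv0 D200656) (iv5 D113317) D113316 F362902)).symm
theorem F419198 : act 1 n195671 = n113317 := (sb E103824 (iv0 D200656))
def n201131 : Q := act 4 n113957
theorem D201131 : act 4 n113957 = n201131 := rfl
theorem F419199 : act 2 n201131 = n200667 := d1_1 D201131 F417402 (iv2 F396116)
theorem F419200 : act 5 n201131 = n114903 := d16_1 D201131 (iv4 D114903) (iv5 D53018) (iv4 F177826) D49069 D106186 (iv5 F179039) F396118 (iv2 F396116)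
theorem F419201 : act 0 n201131 = n159480 := d17_0 (iv5 D159480) F179001 (iv5 F419191) (iv4 D201129) (iv5 D113955) F161574 (iv5 F396133) F396135 D201131
theorem F419202 : act 1 n201131 = n129127 := d18_6 (iv1 F396432) F396434 (iv1 D106169) D106170 F177854 D201131 F362924 (iv0 F396467) (iv5 D195249)
def n201132 : Q := act 3 n113958
theorem D201132 : act 3 n113958 = n201132 := rfl
theorem F419203 : act 5 n201132 = n195677 := d6_2 (iv5 F179039) D201132 (iv3 D195677)
theorem F419204 : act 7 n201132 = n200650 := d8_2 (iv7 F396118) D201132 F417355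
theorem F419205 : act 4 n200651 = n201132 := d19_2 (iv1 F417309) (iv5 F417358) (iv3 D201132) (iv1 D113958) (iv5 D52604) F40359 (iv3 F40349) D52577 D113878 F338538 F94460 D59982 F94461 D68522 (iv3 F312989) D166843 (iv5 F347453) (iv4 F383873) (iv3 F417306)
def n201133 : Q := act 4 n113958
theorem D201133 : act 4 n113958 = n201133 := rfl
theorem F419206 : act 3 n201133 = n200669 := d5_1 D201133 F417411 (iv3 F417357) F419205 (iv3 D201132)
theorem F419207 : act 5 n201133 = n114893 := d9_2 (iv5 F179039) D201133 (iv4 D114893) (iv5 D53013) (iv4 F177819) D49064 D106170 F177854 D201131 F419200 (iv4 D114903) (iv5 D53018) (iv4 F177826) D49069 D106186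
theorem F419208 : act 7 n201133 = n200667 := d11_2 (iv7 F396118) D201133 F417402
theorem F419209 : act 0 n201133 = n129127 := d17_0 (iv5 F398433) (iv1 F398434) (iv5 F419183) (iv4 D201126) (iv5 D113950) (iv0 D52602) D52604 D113958 D201133
theorem F419210 : act 1 n201133 = n159480 := d18_6 D195241 F396428 (iv1 F163174) D106186 (iv5 F179039) D201133 (iv4 F398205) F398208 (iv5 D195244)
def n201134 : Q := act 6 n113958
theorem D201134 : act 6 n113958 = n201134 := rfl
theorem F419211 : act 2 n201134 = n201012 := d3_1 D201134 (iv6 F418730) (iv2 F396121)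
theorem F419212 : act 0 n191541 = n201134 := d21_4 (iv5 D49083) D49080 D106210 (iv6 F383729) (iv6 D201134) F179039 (iv1 F179043) F397904 (iv6 D195707) (iv1 D106221)
theorem F419213 : act 5 n201134 = n190606 := d17_3 (iv1 F394713) F394715 F419212 (iv4 D190606) (iv5 F369992) F369996 (iv5 F394488) (iv0 D194792) D194793
theorem F419214 : act 6 n200675 = n195713 := d21_3 F419213 F380275 D200675 (iv1 D195713) (iv6 D106223) (iv5 D49083) D49080 D106210 (iv6 F383729) F419212
theorem F419215 : act 3 n195713 = n200677 := d7_1 F419214 (iv6 D200677) (iv3 F417438)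
def n201135 : Q := act 0 n113959
theorem D201135 : act 0 n113959 = n201135 := rfl
theorem F419216 : act 5 n201135 = n114999 := d17_3 (iv1 F179087) F179085 D201135 (iv4 D114999) (iv5 D53059) F177628 (iv5 F114334) F163411 (iv4 F179004)
theorem F419217 : act 4 n201135 = n114962 := d18_1 D201135 (iv1 F397697) (iv4 F398427) (iv5 D195844) (iv4 D106344) D106343 (iv4 F179005) (iv0 F179086) F179085
theorem F419218 : act 1 n114915 = n201135 := d15_0 (iv0 D201135) (iv7 F179142) F179141
def n201136 : Q := act 1 n113959
theorem D201136 : act 1 n113959 = n201136 := rfl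
theorem F419219 : act 1 n201136 = n114915 := d15_1 D201136 F396130 F396127
theorem F419220 : act 4 n201136 = n115002 := d18_7 F177631 (iv4 D52613) (iv1 D25531) (iv4 F40359) D52604 D113959 D201136 F397696 F397694
theorem F419221 : act 5 n114949 = n201136 := d9_0 F419220 (iv5 D115002) (iv4 D53061) (iv5 D25741) D25740 D53059 D114999 (iv5 F419216) F419217 (iv5 D114962) (iv4 D53045) (iv5 D25736) D25735 D53040 D114949
def n201137 : Q := act 3 n113959
theorem D201137 : act 3 n113959 = n201137 := rfl
def n201138 : Q := act 6 n113960
theorem D201138 : act 6 n113960 = n201138 := rfl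
def n201139 : Q := act 0 n113976
theorem D201139 : act 0 n113976 = n201139 := rfl
theorem F419222 : act 5 n201139 = n154236 := d17_1 D201139 (iv1 F242345) (iv5 F398355) (iv4 D195826) (iv5 D106318) (iv0 D49137) (iv5 F77516) D106255 F349025
theorem F419223 : act 4 n201139 = n135842 := d18_1 D201139 (iv1 F328628) F328630 (iv5 F389067) F389066 F156046 (iv4 F285210) (iv0 D183459) (iv5 F347555)
theorem F419224 : act 3 n201139 = n129040 := d20_5 F40359 D25530 D52608 D113976 D201139 (iv4 F389932) F389930 (iv4 F339477) (iv3 D113953) (iv1 D52603)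
theorem F419225 : act 1 n195777 = n201139 := d15_0 (iv0 D201139) (iv7 F396149) (iv2 F398131)
theorem F419226 : act 7 n201139 = n154235 := d15_2 (iv0 F417338) F419225 (iv2 F417334)
theorem F419227 : act 4 n132044 = n138066 := d20_6 F208749 (iv1 F389931) F389932 (iv3 F419224) (iv1 F419225) F398134 (iv1 D138066) (iv4 F221307) F347121 F350894
theorem F419228 : act 3 n138066 = n135061 := d5_1 F419227 (iv4 F363110) F366677 D195777 F398134
theorem F419229 : act 6 n138066 = n132042 := d10_2 D132044 F419227 (iv4 D132042)
theorem F419230 : act 5 n138066 = n154373 := d16_3 (iv4 F97277) (iv5 F347515) F419227 (iv4 D154373) (iv5 D73127) D73126 (iv5 F361986) F338387 F97268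
theorem F419231 : act 6 n195747 = n201139 := d14_5 F419226 (iv6 F358874) F359801 D200640 (iv7 F417323)
def n201140 : Q := act 2 n113976
theorem D201140 : act 2 n113976 = n201140 := rfl
theorem F419232 : act 3 n201140 = n128955 := d0_2 D113976 D201140 F396139 (iv3 D195182) F193494
theorem F419233 : act 4 n201140 = n195743 := d1_2 F349025 D201140 (iv2 F398021)
theorem F419234 : act 5 n201140 = n157808 := d2_2 (iv5 F347555) D201140 F295105
theorem F419235 : act 6 n201140 = n128952 := d3_2 (iv6 F347554) D201140 F355005
theorem F419236 : act 7 n201140 = n195777 := d4_2 F396149 D201140 F398131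
theorem F419237 : act 1 n201140 = n154235 := d15_0 (iv0 F396150) F396149 D201140
def n201141 : Q := act 4 n113977
theorem D201141 : act 4 n113977 = n201141 := rfl
theorem F419238 : act 3 n201141 = n183402 := d5_1 D201141 (iv4 D183402) F134444 D87568 (iv3 F347556)
theorem F419239 : act 5 n201141 = n114913 := d9_2 D113977 D201141 F179005 (iv5 F177634) (iv4 D113997) (iv5 D52614) D52613 (iv5 F365928) (iv4 F400080) (iv5 F400081) F179004 F177629 (iv4 D113981) (iv5 D52609) D52608
theorem F419240 : act 6 n201141 = n183411 := d10_2 (iv6 F347557) D201141 F285130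
def n201142 : Q := act 1 n113978
theorem D201142 : act 1 n113978 = n201142 := rfl
theorem F419241 : act 1 n201142 = n128947 := d15_1 D201142 (iv7 F396147) F396144
theorem F419242 : act 7 n201142 = n128632 := d15_2 (iv0 F417217) D201142 (iv2 F417212)
theorem F419243 : act 4 n201142 = n195795 := d17_9 (iv1 D195795) F163312 (iv1 D76320) (iv5 F82802) (iv4 F165905) (iv5 F402658) (iv0 F402659) (iv5 F347553) D201142
theorem F419244 : act 3 n128626 = n201142 := d20_9 F177315 (iv1 F347546) F347549 (iv3 F325743) F325740 D128832 (iv4 F399953) (iv1 D196219) (iv4 F358351) (iv1 D201142)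
theorem F419245 : act 1 n190034 = n137502 := d18_6 F347545 (iv4 F207170) (iv1 F419241) F419243 (iv5 F398213) (iv4 F378623) (iv4 F418304) (iv0 F419140) (iv5 D201113)
def n201143 : Q := act 7 n113978
theorem D201143 : act 7 n113978 = n201143 := rfl
theorem F419246 : act 2 n201143 = n128947 := d4_1 D201143 (iv7 F396147) F396144
theorem F419247 : act 3 n201143 = n128983 := d8_1 D201143 (iv7 F333482) F347552
theorem F419248 : act 4 n201143 = n113986 := d11_1 D201143 (iv7 D113986) (iv4 F177315)
theorem F419249 : act 5 n201143 = n163425 := d13_1 D201143 F366963 (iv5 F347553)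
theorem F419250 : act 6 n201143 = n135793 := d14_1 D201143 F218387 F365812 F193488 D113978
theorem F419251 : act 0 n128632 = n201143 := d21_4 F398783 F202100 (iv5 F329262) F342945 F419250 F356954 F358377 (iv5 F341619) F341620 D195940
def n201144 : Q := act 3 n113991
theorem D201144 : act 3 n113991 = n201144 := rfl
theorem F419252 : act 2 n201144 = n138066 := d0_1 D201144 F419228 F396006 (iv3 F396003) (iv2 F357752)
theorem F419253 : act 4 n201144 = n113994 := d5_2 D113991 D201144 (iv3 D113994) (iv4 D52613) D52612
theorem F419254 : act 7 n201144 = n138065 := d8_2 F354897 D201144 F354898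
theorem F419255 : act 0 n138068 = n201144 := d20_4 D136965 (iv1 F347109) F204055 (iv3 F221309) (iv3 D201144) (iv4 D113991) (iv1 F234987) F177018 F100309 D64374
theorem F419256 : act 1 n138061 = n201144 := d15_0 (iv0 F419255) (iv7 D138068) (iv2 F221305)
theorem F419257 : act 6 n182393 = n201144 := d10_0 F419253 (iv6 F365924) (iv4 F363971)
def n201145 : Q := act 6 n113991
theorem D201145 : act 6 n113991 = n201145 := rfl
theorem F419258 : act 3 n201145 = n182393 := d7_1 D201145 F419257 (iv3 D201144)
theorem F419259 : act 4 n201145 = n113993 := d10_1 D201145 (iv6 D113993) D113991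
theorem F419260 : act 0 n130936 = n201145 := d18_2 F95932 D130936 F419259 (iv5 F326370) (iv4 D61084) (iv0 D28947) D28950 D61096 F95611
def n201146 : Q := act 4 n114002
theorem D201146 : act 4 n114002 = n201146 := rfl
theorem F419261 : act 6 n201146 = n115008 := d10_2 (iv6 F177494) D201146 (iv4 D115008)
theorem F419262 : act 7 n201146 = n114015 := d11_2 (iv7 F177495) D201146 (iv4 D114015)
def n201147 : Q := act 5 n114004
theorem D201147 : act 5 n114004 = n201147 := rfl
theorem F419263 : act 2 n201147 = n188895 := d2_1 D201147 F375159 (iv2 F335962)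
theorem F419264 : act 3 n201147 = n114006 := d6_1 D201147 (iv5 D114006) D114004
theorem F419265 : act 4 n201147 = n146492 := d9_1 D201147 F229817 (iv4 D76533) (iv5 D34968) D34967 D76531 (iv4 F229755) (iv5 F335952) (iv4 F335954) (iv5 D105421) F312200 (iv5 D34973) D34972 D76536 (iv4 F335963)
theorem F419266 : act 7 n201147 = n188893 := d13_2 (iv7 F335964) D201147 F375147
theorem F419267 : act 0 n201147 = n147967 := d17_2 (iv1 F335961) D201147 F231783 (iv4 D76370) (iv5 D34893) D34892 (iv5 F104855) (iv0 D68650) D68651
theorem F419268 : act 1 n201147 = n147970 := d17_6 (iv1 F162387) (iv5 D105745) (iv1 F77010) D76536 (iv4 F335963) D201147 F231788 (iv0 F204896) (iv4 D127472)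
def n201148 : Q := act 6 n114004
theorem D201148 : act 6 n114004 = n201148 := rfl
theorem F419269 : act 3 n201148 = n114007 := d7_1 D201148 (iv6 D114007) D114004
theorem F419270 : act 4 n201148 = n159875 := d10_1 D201148 (iv6 D159875) (iv4 F335963)
theorem F419271 : act 5 n201148 = n151693 := d21_6 (iv5 D31939) (iv1 F41500) D54076 F335946 (iv1 F335961) D201148 (iv1 D151693) (iv5 F183732) (iv6 D117333) (iv1 F85341)
def n201149 : Q := act 0 n114006
theorem D201149 : act 0 n114006 = n201149 := rfl
theorem F419272 : act 5 n201149 = n195132 := d21_2 D114006 D201149 (iv6 D195132) (iv1 D105315) (iv6 D48691) (iv5 D23742) (iv1 F18041) (iv5 F20064) D25533 D52617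
theorem F419273 : act 1 n114011 = n201149 := d15_0 (iv0 D201149) (iv7 F396163) F396160
theorem F419274 : act 2 n201028 = n201149 := d2_3 F419272 F395899 D201028
def n201150 : Q := act 1 n114006
theorem D201150 : act 1 n114006 = n201150 := rfl
theorem F419275 : act 1 n201150 = n114011 := d15_1 D201150 (iv7 F396159) F396156
theorem F419276 : act 7 n201150 = n201028 := d15_2 (iv0 D201149) D201150 F419274
theorem F419277 : act 6 n115042 = n201150 := d21_9 (iv5 D114006) (iv1 F161583) (iv5 F179009) (iv6 D114917) (iv1 F83774) D115031 (iv5 F258819) F398928 F398927 (iv1 D201150)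
theorem F419278 : act 5 n201150 = n201029 := d12_1 F419277 F418808 (iv5 F179056) D195975 F398927
def n201151 : Q := act 4 n114006
theorem D201151 : act 4 n114006 = n201151 := rfl
def n201152 : Q := act 6 n114006
theorem D201152 : act 6 n114006 = n201152 := rfl
theorem F419279 : act 2 n201152 = n188920 := d3_1 D201152 (iv6 F396158) F396156
theorem F419280 : act 5 n201152 = n200268 := d12_1 D201152 (iv6 D200268) (iv5 F177497) (iv6 D114007) D114006
theorem F419281 : act 7 n201152 = n188914 := d14_2 F396163 D201152 (iv6 D188914) (iv7 F251916) (iv6 F396162)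
theorem F419282 : act 0 n201152 = n188918 := d21_10 (iv5 F383191) (iv1 D131131) (iv5 F114203) (iv6 D76227) (iv1 F55027) (iv6 F83111) (iv5 D52619) D52617 D114006 D201152
theorem F419283 : act 0 n188917 = n201152 := d21_4 (iv5 F120056) F178444 D114411 (iv6 F375197) (iv6 D201152) (iv5 D114006) (iv1 F161583) (iv5 F179009) (iv6 D114917) (iv1 F83774)
def n201153 : Q := act 4 n114011
theorem D201153 : act 4 n114011 = n201153 := rfl
theorem F419284 : act 6 n201153 = n188644 := d10_2 F251772 D201153 (iv4 D188644)
def n201154 : Q := act 3 n114013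
theorem D201154 : act 3 n114013 = n201154 := rfl
theorem F419285 : act 5 n201154 = n146437 := d6_2 F418799 D201154 (iv3 F418801)
theorem F419286 : act 4 n195577 = n201154 := d16_2 D105760 D195577 F419285 F229775 (iv5 D106235) F77499 D59870 F94330 (iv2 F77068)
theorem F419287 : act 0 n114384 = n201154 := d17_0 F419285 (iv1 F229776) D146446 F229786 (iv5 D68690) (iv0 D31963) D31965 D68696 (iv4 F335949)
theorem F419288 : act 1 n146431 = n201154 := d17_6 (iv1 F85322) (iv5 D54072) F41484 D31946 D68655 D146431 F419285 (iv0 D146437) (iv4 D68658)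
def n201155 : Q := act 4 n114013
theorem D201155 : act 4 n114013 = n201155 := rfl
theorem F419289 : act 1 n201155 = n159496 := d18_6 F418318 (iv4 F417743) F417744 (iv4 F418800) F418799 D201155 F251172 D195806 (iv5 F418319)
def n201156 : Q := act 6 n114013
theorem D201156 : act 6 n114013 = n201156 := rfl
theorem F419290 : act 5 n201156 = n157739 := d21_6 (iv5 D34813) F27616 D25534 (iv6 F83111) D114013 D201156 (iv1 D157739) D157740 F248614 (iv1 D76220)
def n201157 : Q := act 3 n114014
theorem D201157 : act 3 n114014 = n201157 := rfl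
def n201158 : Q := act 4 n114014
theorem D201158 : act 4 n114014 = n201158 := rfl
theorem F419291 : act 5 n201158 = n195711 := d16_1 D201158 F397919 (iv5 F201979) F398108 D125924 (iv4 F418800) F418799 F418781 (iv2 F418779)
theorem F419292 : act 0 n201158 = n159496 := d18_2 (iv1 F179011) D201158 F251172 (iv5 D106279) F77535 D59201 (iv4 F377845) F161582 (iv5 F179009)
def n201159 : Q := act 6 n114014
theorem D201159 : act 6 n114014 = n201159 := rfl
def n201160 : Q := act 0 n114015
theorem D201160 : act 0 n114015 = n201160 := rfl
theorem F419293 : act 4 n201160 = n159498 := d18_3 (iv1 D114014) D114015 D201160 (iv5 F418674) (iv4 F418676) (iv0 D131889) (iv4 F324336) (iv0 F418777) F418778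
def n201161 : Q := act 1 n114015
theorem D201161 : act 1 n114015 = n201161 := rfl
theorem F419294 : act 4 n201161 = n159499 := d18_7 (iv1 F163317) (iv4 F374585) (iv1 D105264) F76556 D52619 D114015 D201161 F398230 (iv5 D195798)
def n201162 : Q := act 3 n114015
theorem D201162 : act 3 n114015 = n201162 := rfl
theorem F419295 : act 4 n201162 = n199201 := d5_2 D114015 D201162 (iv3 F411142) F410330 F177179
theorem F419296 : act 6 n201162 = n114016 := d7_2 (iv6 F177499) D201162 (iv3 D114016)
def n201163 : Q := act 5 n114015
theorem D201163 : act 5 n114015 = n201163 := rfl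
theorem F419297 : act 6 n201163 = n114915 := d12_2 (iv6 F177499) D201163 (iv5 D114915) F83738 (iv5 F83113)
def n201164 : Q := act 0 n114016
theorem D201164 : act 0 n114016 = n201164 := rfl
theorem F419298 : act 1 n115069 = n201164 := d15_0 (iv0 D201164) F177501 D115069
def n201165 : Q := act 1 n114016
theorem D201165 : act 1 n114016 = n201165 := rfl
theorem F419299 : act 3 n188028 = n201165 := d19_19 (iv1 D201165) F177500 (iv4 F250834) (iv3 D159336) D159334 (iv5 F362838) (iv4 F362836) (iv3 F390883) (iv1 F390880) (iv5 D102286) D102285 F346622 F111360 (iv5 F331280) F70039 (iv3 F68097) (iv1 F176024) D90747 D188028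
def n201166 : Q := act 2 n114016
theorem D201166 : act 2 n114016 = n201166 := rfl
theorem F419300 : act 5 n201166 = n159366 := d2_2 (iv5 F177500) D201166 (iv2 D159366)
theorem F419301 : act 7 n201166 = n115069 := d4_2 (iv7 F177501) D201166 (iv2 D115069)
theorem F419302 : act 1 n201166 = n115067 := d15_0 (iv0 D115067) (iv7 F177501) D201166
theorem F419303 : act 1 n201165 = n115069 := d15_1 D201165 (iv7 F419301) (iv2 D201166)
theorem F419304 : act 1 n115068 = n201166 := d15_1 D115068 F419301 (iv2 D115069)
def n201167 : Q := act 1 n114020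
theorem D201167 : act 1 n114020 = n201167 := rfl
theorem F419305 : act 1 n201167 = n200987 := d15_1 D201167 (iv7 D200987) (iv2 F177506)
theorem F419306 : act 7 n201167 = n200985 := d15_2 (iv0 F360948) D201167 (iv2 F418627)
theorem F419307 : act 4 n201167 = n195952 := d17_9 (iv1 F399456) (iv5 D191132) (iv1 D97306) D97308 D191138 F382376 (iv0 D114018) D114020 D201167
theorem F419308 : act 2 n200986 = n201167 := d1_3 F419307 (iv2 F417719) (iv4 F418632)
theorem F419309 : act 3 n201167 = n159921 := d20_3 (iv4 F382344) (iv1 F417722) (iv4 F419307) (iv1 D159921) F114795 (iv4 F355265) (iv1 F211846) (iv4 F214559) F214558 (iv1 F214574)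
theorem F419310 : act 4 n159921 = n197512 := d5_2 (iv4 F419307) F419309 F404644 (iv4 D195953) D195952
def n201168 : Q := act 7 n114020
theorem D201168 : act 7 n114020 = n201168 := rfl
theorem F419311 : act 2 n201168 = n200987 := d4_1 D201168 (iv7 D200987) (iv2 F177506)
theorem F419312 : act 3 n201168 = n114035 := d8_1 D201168 (iv7 D114035) (iv3 F177507)
theorem F419313 : act 4 n201168 = n131815 := d11_1 D201168 F382326 F382322
theorem F419314 : act 5 n201168 = n114021 := d13_1 D201168 (iv7 D114021) D114020
theorem F419315 : act 1 n200986 = n201168 := d15_1 D200986 (iv7 D201168) F177506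
theorem F419316 : act 1 n201168 = n200985 := d15_1 F419315 (iv7 F419306) (iv2 F419308)
def n201169 : Q := act 3 n114022
theorem D201169 : act 3 n114022 = n201169 := rfl
theorem F419317 : act 4 n201169 = n114036 := d5_2 D114022 D201169 (iv3 D114036) (iv4 D52630) (iv3 F83134)
def n201170 : Q := act 5 n114022
theorem D201170 : act 5 n114022 = n201170 := rfl
theorem F419318 : act 2 n201170 = n200984 := d2_1 D201170 (iv5 D200984) (iv2 F177511)
theorem F419319 : act 4 n201170 = n197016 := d16_2 D114022 D201170 (iv5 D197016) (iv4 D107538) (iv5 D49679) F37980 D49679 (iv7 F82903) (iv2 F83133)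
theorem F419320 : act 0 n201170 = n201059 := d17_2 F397946 D201170 (iv5 D201059) (iv4 D113832) F165917 (iv0 F165915) (iv5 F371504) (iv0 F371508) D195722
def n201171 : Q := act 6 n114032
theorem D201171 : act 6 n114032 = n201171 := rfl
theorem F419321 : act 2 n201171 = n130674 := d3_1 D201171 (iv6 D130674) F333203
theorem F419322 : act 5 n201171 = n127809 := d12_1 D201171 (iv6 F205611) F178426 (iv6 F179034) F179033
theorem F419323 : act 0 n201171 = n200995 := d21_4 F332578 (iv1 F179036) F179033 D201171 (iv6 D200995) (iv5 F395836) (iv1 F395840) F332601 F93656 D126458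
def n201172 : Q := act 3 n114034
theorem D201172 : act 3 n114034 = n201172 := rfl
theorem F419324 : act 6 n201172 = n114036 := d7_2 (iv6 F177518) D201172 (iv3 D114036)
theorem F419325 : act 0 n201172 = n195938 := d19_4 (iv1 D52627) D52628 D114034 D201172 F398781 F251294 D159646 F343524 (iv5 D76389) (iv4 F109600) F109599 D73088 F335398 F80941 (iv3 D49750) (iv1 F40089) D52217 F97735 F332576
theorem F419326 : act 0 n195937 = n201172 := d20_4 (iv4 F337005) F383773 F383774 (iv3 F398779) (iv3 D201172) (iv4 D114034) D114032 F333200 F212391 (iv1 F212407)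
def n201173 : Q := act 7 n114034
theorem D201173 : act 7 n114034 = n201173 := rfl
theorem F419327 : act 2 n201173 = n159557 := d4_1 D201173 (iv7 D159557) (iv2 F177517)
theorem F419328 : act 4 n201173 = n114035 := d11_1 D201173 (iv7 D114035) D114034
theorem F419329 : act 5 n201173 = n196020 := d13_1 D201173 (iv7 F399978) F399977
theorem F419330 : act 1 n159554 = n201173 := d15_1 D159554 (iv7 D201173) F177517
theorem F419331 : act 1 n201173 = n129142 := d15_1 F419330 F214763 F326565
def n201174 : Q := act 0 n114036
theorem D201174 : act 0 n114036 = n201174 := rfl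
def n201175 : Q := act 1 n114036
theorem D201175 : act 1 n114036 = n201175 := rfl
theorem F419332 : act 5 n201175 = n195709 := d17_7 (iv1 F163226) (iv5 F361400) (iv1 D113244) D113246 (iv4 F251332) F251333 D201175 F397910 F397652
theorem F419333 : act 3 n132419 = n201175 := d19_19 (iv1 D201175) (iv5 F251333) F251332 F176443 F82652 (iv5 D28107) F22310 (iv3 F19270) (iv1 D11854) (iv5 D5561) (iv4 F8439) (iv3 F19114) (iv1 F19117) D23793 D48787 D105520 (iv1 F361810) (iv5 D137815) (iv4 F347280)
def n201176 : Q := act 2 n114036
theorem D201176 : act 2 n114036 = n201176 := rfl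
theorem F419334 : act 3 n201176 = n159568 := d0_2 D114036 D201176 (iv2 D159568) (iv3 D76340) (iv2 F83146)
def n201177 : Q := act 5 n114037
theorem D201177 : act 5 n114037 = n201177 := rfl
theorem F419335 : act 2 n201177 = n164458 := d2_1 D201177 (iv5 D164458) (iv2 F288177)
theorem F419336 : act 7 n201177 = n164460 := d13_2 (iv7 F288178) D201177 (iv5 D164460)
theorem F419337 : act 0 n201177 = n114226 := d17_2 D114037 D201177 F178012 (iv4 F381252) (iv5 F381253) (iv0 D133419) D133421 (iv0 F350602) F147996
def n201178 : Q := act 5 n114051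
theorem D201178 : act 5 n114051 = n201178 := rfl
theorem F419338 : act 2 n201178 = n164231 := d2_1 D201178 (iv5 D164231) (iv2 F177548)
theorem F419339 : act 3 n201178 = n188841 := d6_1 D201178 (iv5 F398873) F398871
theorem F419340 : act 4 n201178 = n192631 := d16_2 D114051 D201178 (iv5 D192631) F307753 F178647 F112260 (iv5 F120071) (iv7 D78896) (iv2 F83165)
def n201179 : Q := act 1 n114053
theorem D201179 : act 1 n114053 = n201179 := rfl
theorem F419341 : act 1 n201179 = n146572 := d15_1 D201179 (iv7 F373914) F373910
theorem F419342 : act 7 n201179 = n175825 := d15_2 (iv0 F346736) D201179 (iv2 F275658)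
theorem F419343 : act 3 n119047 = n201179 := d20_3 (iv4 F178854) (iv1 F393653) F393655 (iv1 D201179) F177552 (iv4 F177555) (iv1 F348644) F339226 (iv3 F339326) (iv1 F178608)
theorem F419344 : act 6 n146549 = n201179 := d21_3 (iv5 F318925) D188046 F387476 (iv1 D201179) (iv6 D114053) F83172 F40483 D49055 D106131 F318922
theorem F419345 : act 2 n201179 = n159454 := d3_1 F419344 F358941 (iv2 F355116)
def n201180 : Q := act 5 n114055
theorem D201180 : act 5 n114055 = n201180 := rfl
theorem F419346 : act 2 n201180 = n152386 := d2_1 D201180 (iv5 D152386) (iv2 F339740)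
theorem F419347 : act 6 n201180 = n130668 := d12_2 (iv6 F339743) D201180 (iv5 D130668) (iv6 D61309) D61308
theorem F419348 : act 7 n201180 = n152391 := d13_2 (iv7 F339744) D201180 (iv5 D152391)
def n201181 : Q := act 6 n114059
theorem D201181 : act 6 n114059 = n201181 := rfl
theorem F419349 : act 2 n201181 = n160713 := d3_1 D201181 (iv6 D160713) (iv2 F177565)
theorem F419350 : act 3 n201181 = n114060 := d7_1 D201181 (iv6 D114060) D114059
theorem F419351 : act 7 n201181 = n147188 := d14_2 (iv7 F177567) D201181 (iv6 D147188) (iv7 F243156) F310747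
theorem F419352 : act 0 n201181 = n166491 := d21_4 F304912 (iv1 F297025) (iv5 F177566) D201181 (iv6 F346914) F334533 (iv1 F233711) (iv5 F334531) (iv6 D147571) (iv1 D69156)
def n201182 : Q := act 5 n114066
theorem D201182 : act 5 n114066 = n201182 := rfl
theorem F419353 : act 2 n201182 = n155096 := d2_1 D201182 (iv5 D155096) (iv2 F177581)
theorem F419354 : act 3 n201182 = n173356 := d6_1 D201182 (iv5 D173356) F321381
theorem F419355 : act 6 n201182 = n114069 := d12_2 D114066 D201182 (iv5 D114069) (iv6 D52647) D52646
theorem F419356 : act 7 n201182 = n175101 := d13_2 (iv7 F328953) D201182 (iv5 D175101)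
theorem F419357 : act 4 n201182 = n127128 := d16_2 (iv4 F177582) D201182 (iv5 D127128) (iv4 D59684) (iv5 F76976) D105678 F324259 (iv7 D73624) (iv2 F110268)
theorem F419358 : act 0 n201182 = n197284 := d18_0 (iv4 D197284) F396645 F227194 F338740 (iv4 F304141) F304140 F206178 (iv0 F319370) D201182
def n201183 : Q := act 5 n114067
theorem D201183 : act 5 n114067 = n201183 := rfl
theorem F419359 : act 6 n201183 = n197608 := d12_2 (iv6 F331685) D201183 (iv5 F405010) (iv6 D144516) D144515
theorem F419360 : act 3 n197611 = n201183 := d7_3 F419359 (iv3 D197608) D197611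
theorem F419361 : act 5 n190218 = n197611 := d6_0 F419360 (iv5 D201183) (iv3 F379115)
def n201184 : Q := act 0 n114069
theorem D201184 : act 0 n114069 = n201184 := rfl
theorem F419362 : act 6 n201184 = n197068 := d21_5 (iv5 D152602) (iv1 F319371) D201182 F419355 D201184 (iv5 F402901) (iv1 D112718) D112720 D200162 F415319
def n201185 : Q := act 1 n114069
theorem D201185 : act 1 n114069 = n201185 := rfl
def n201186 : Q := act 4 n114069
theorem D201186 : act 4 n114069 = n201186 := rfl
theorem F419363 : act 6 n201186 = n127128 := d10_2 F419355 D201186 (iv4 F419357)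
def n201187 : Q := act 7 n114069
theorem D201187 : act 7 n114069 = n201187 := rfl
theorem F419364 : act 3 n201187 = n136902 := d8_1 D201187 (iv7 F220081) F178898
theorem F419365 : act 5 n201187 = n114070 := d13_1 D201187 (iv7 D114070) D114069
theorem F419366 : act 6 n136901 = n201187 := d12_0 F419365 F177584 F143134 (iv6 F374853) F374852
def n201188 : Q := act 0 n114071
theorem D201188 : act 0 n114071 = n201188 := rfl
theorem F419367 : act 4 n201188 = n159718 := d18_3 D52648 D114071 D201188 F342999 (iv4 D182143) (iv0 D86975) (iv4 F65116) (iv0 F136439) F67852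
theorem F419368 : act 3 n201188 = n125101 := d20_5 F298185 D172113 (iv4 F354964) (iv3 F354962) D201188 F200979 (iv1 F104738) (iv4 F133112) (iv3 F282978) (iv1 F346568)
theorem F419369 : act 2 n197136 = n201188 := d15_3 (iv0 D201188) (iv0 F335780) (iv7 F403207)
theorem F419370 : act 1 n114074 = n201188 := d15_0 (iv0 D201188) (iv7 F354966) (iv2 F353772)
theorem F419371 : act 7 n201188 = n152356 := d15_2 (iv0 F353776) F419370 F239556
theorem F419372 : act 6 n129783 = n201188 := d21_3 F244468 F338730 (iv5 F208127) (iv1 F419370) F353775 (iv5 D107608) (iv1 D49711) D49713 D107615 (iv1 F346131)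
def n201189 : Q := act 5 n114084
theorem D201189 : act 5 n114084 = n201189 := rfl
theorem F419373 : act 2 n201189 = n190033 := d2_1 D201189 (iv5 D190033) (iv2 F177600)
theorem F419374 : act 3 n201189 = n164402 := d6_1 D201189 (iv5 D164402) (iv3 F177601)
theorem F419375 : act 7 n201189 = n190030 := d13_2 (iv7 F177602) D201189 (iv5 D190030)
def n201190 : Q := act 6 n114084
theorem D201190 : act 6 n114084 = n201190 := rfl
theorem F419376 : act 2 n201190 = n190034 := d3_1 D201190 (iv6 D190034) (iv2 F177600)
theorem F419377 : act 3 n201190 = n164403 := d7_1 D201190 (iv6 D164403) (iv3 F177601)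
theorem F419378 : act 4 n201190 = n114085 := d10_1 D201190 (iv6 D114085) D114084
def n201191 : Q := act 7 n114085
theorem D201191 : act 7 n114085 = n201191 := rfl
theorem F419379 : act 2 n201191 = n200973 := d4_1 D201191 F418577 F373895
theorem F419380 : act 3 n201191 = n114089 := d8_1 D201191 (iv7 D114089) (iv3 F177606)
theorem F419381 : act 5 n201191 = n127400 := d13_1 D201191 (iv7 F374536) F374535
theorem F419382 : act 6 n201191 = n195664 := d14_1 D201191 F397785 (iv6 D188544) (iv7 F161697) D114085
theorem F419383 : act 1 n159452 = n201191 := d15_1 (iv0 F398215) (iv7 D201191) (iv2 F373895)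
theorem F419384 : act 1 n201191 = n175822 := d15_1 F419383 (iv7 F275657) F355242
def n201192 : Q := act 5 n114091
theorem D201192 : act 5 n114091 = n201192 := rfl
theorem F419385 : act 2 n201192 = n148449 := d2_1 D201192 (iv5 F373843) F373838
theorem F419386 : act 3 n201192 = n114092 := d6_1 D201192 (iv5 D114092) D114091
theorem F419387 : act 4 n201192 = n148307 := d9_1 D201192 (iv5 F346193) (iv4 F311840) F311841 F290488 (iv5 F205407) (iv4 F142183) D188540 F373873 F346201 F209982 (iv5 F242061) (iv4 F366303) (iv5 F373843) F373839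
theorem F419388 : act 7 n201192 = n127774 := d13_2 F178292 D201192 (iv5 F205407)
theorem F419389 : act 0 n201192 = n117873 := d17_2 F364729 D201192 (iv5 F374226) F374225 (iv5 F370389) (iv0 D187451) (iv5 D90153) (iv0 F333358) (iv4 F144545)
theorem F419390 : act 1 n201192 = n148451 := d17_8 (iv1 F184861) F317794 (iv1 F205872) F317612 (iv4 F317601) (iv5 F370383) (iv0 F370388) D201192 F232199
def n201193 : Q := act 4 n114100
theorem D201193 : act 4 n114100 = n201193 := rfl
theorem F419391 : act 6 n201193 = n114102 := d10_2 (iv6 F177698) D201193 (iv4 D114102)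
def n201194 : Q := act 5 n114102
theorem D201194 : act 5 n114102 = n201194 := rfl
theorem F419392 : act 0 n201194 = n189316 := d17_2 F214515 D201194 (iv5 D189316) (iv4 D93880) F95765 F97645 D133400 F214490 D133410
theorem F419393 : act 1 n201194 = n189321 := d17_6 (iv1 D106507) (iv5 D49219) F50510 D52670 D114102 D201194 (iv5 D189321) F376396 F376395
def n201195 : Q := act 0 n114104
theorem D201195 : act 0 n114104 = n201195 := rfl
theorem F419394 : act 5 n201195 = n187043 := d17_1 D201195 F368896 F368697 (iv4 F368694) F142438 F336944 (iv5 F336942) F336936 (iv4 F177706)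
theorem F419395 : act 4 n201195 = n164625 := d18_1 D201195 F364185 F364186 (iv5 F380872) (iv4 F418766) F418769 (iv4 F364336) (iv0 F389532) F389531
theorem F419396 : act 6 n201195 = n186888 := d21_5 F139425 (iv1 F90320) F83235 D114104 D201195 (iv5 D186888) D186885 (iv5 F368413) (iv6 D114116) (iv1 F139427)
theorem F419397 : act 2 n123605 = n201195 := d15_3 (iv0 D201195) F355305 F364199
theorem F419398 : act 3 n201195 = n154190 := d0_2 (iv3 F364197) F419397 (iv2 F368374) F216521 (iv2 F216467)
theorem F419399 : act 7 n201195 = n123606 := d4_2 F364199 F419397 (iv2 F364188)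
theorem F419400 : act 1 n123608 = n201195 := d15_1 F355302 F419399 (iv2 F364188)
theorem F419401 : act 0 n197615 = n173418 := d20_4 F198027 (iv1 F178095) F336956 (iv3 F405033) F377960 F377957 D190670 F380513 (iv3 F419398) (iv1 F419400)
def n201196 : Q := act 7 n114104
theorem D201196 : act 7 n114104 = n201196 := rfl
theorem F419402 : act 2 n201196 = n123608 := d4_1 D201196 (iv7 D123608) (iv2 F177705)
theorem F419403 : act 3 n201196 = n158936 := d8_1 D201196 (iv7 F280345) F347367
theorem F419404 : act 4 n201196 = n114108 := d11_1 D201196 (iv7 D114108) (iv4 F177706)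
theorem F419405 : act 5 n201196 = n134113 := d13_1 D201196 (iv7 F389534) F389531
theorem F419406 : act 1 n123606 = n201196 := d15_1 D123606 (iv7 D201196) F177705
theorem F419407 : act 1 n201196 = n123605 := d15_1 F419406 (iv7 F364199) F364188
def n201197 : Q := act 6 n114106
theorem D201197 : act 6 n114106 = n201197 := rfl
theorem F419408 : act 2 n201197 = n159545 := d3_1 D201197 (iv6 D159545) (iv2 F336951)
theorem F419409 : act 3 n201197 = n130696 := d7_1 D201197 (iv6 D130696) (iv3 F336952)
theorem F419410 : act 5 n201197 = n147834 := d12_1 D201197 (iv6 F370554) (iv5 F370553) (iv6 D134464) (iv5 F336953)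
theorem F419411 : act 0 n201197 = n164302 := d21_10 (iv5 D164302) (iv1 F352376) F142279 F83263 (iv1 F67882) D92511 F142438 F336943 (iv5 F336953) D201197
theorem F419412 : act 0 n195198 = n201197 := d21_1 (iv5 F396211) F419410 (iv6 F370554) (iv1 D187490) (iv6 D90252) (iv5 D42184) (iv1 F32415) (iv5 F67776) D92467 D188558
def n201198 : Q := act 6 n114110
theorem D201198 : act 6 n114110 = n201198 := rfl
theorem F419413 : act 2 n201198 = n159689 := d3_1 D201198 (iv6 D159689) (iv2 F177714)
theorem F419414 : act 3 n201198 = n114111 := d7_1 D201198 (iv6 D114111) D114110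
theorem F419415 : act 4 n201198 = n164261 := d10_1 D201198 (iv6 D164261) (iv4 F177715)
theorem F419416 : act 5 n201198 = n192715 := d21_6 (iv5 F346298) (iv1 F137204) D98297 F346299 F249076 D201198 (iv1 D192715) (iv5 F369039) (iv6 D187074) F357756
theorem F419417 : act 0 n129735 = n201198 := d21_4 D83756 D175403 F274443 (iv6 F315809) (iv6 D201198) F177716 F128226 (iv5 F238164) F342218 (iv1 D83754)
def n201199 : Q := act 0 n114111
theorem D201199 : act 0 n114111 = n201199 := rfl
theorem F419418 : act 4 n201199 = n114826 := d20_8 (iv4 F353784) (iv1 F353788) (iv4 F353811) F353810 (iv1 D78911) (iv3 F83242) (iv4 F177718) D201199 (iv3 D114826) (iv1 F144676)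
theorem F419419 : act 1 n114131 = n201199 := d15_0 (iv0 D201199) (iv7 F374142) F374140
theorem F419420 : act 2 n114128 = n201199 := d1_3 F419418 F352408 (iv4 F347667)
theorem F419421 : act 7 n114129 = n201199 := d11_0 F419418 (iv7 F376350) F376345
def n201200 : Q := act 1 n114111
theorem D201200 : act 1 n114111 = n201200 := rfl
theorem F419422 : act 1 n201200 = n114131 := d15_1 D201200 (iv7 D114131) (iv2 F177717)
theorem F419423 : act 7 n201200 = n114128 := d15_2 (iv0 D201199) D201200 F419420
theorem F419424 : act 4 n201200 = n114836 := d18_7 (iv1 F144675) D114832 F352373 (iv4 F352369) (iv5 D114114) (iv4 F177718) D201200 F178905 F145331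
theorem F419425 : act 3 n155541 = n201200 := d20_9 F177718 D114112 (iv4 F347680) (iv3 D155500) (iv1 D73961) D73962 F110737 D74000 D155541 (iv1 D201200)
theorem F419426 : act 2 n114129 = n201200 := d1_3 F419424 F376348 F376345
def n201201 : Q := act 5 n114111
theorem D201201 : act 5 n114111 = n201201 := rfl
theorem F419427 : act 2 n201201 = n114130 := d2_1 D201201 (iv5 D114130) (iv2 F177717)
theorem F419428 : act 3 n201201 = n192715 := d6_1 D201201 (iv5 F419416) F419414
def n201202 : Q := act 6 n114112
theorem D201202 : act 6 n114112 = n201202 := rfl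
theorem F419429 : act 2 n201202 = n114136 := d3_1 D201202 (iv6 D114136) (iv2 F347660)
theorem F419430 : act 3 n201202 = n164338 := d7_1 D201202 (iv6 D164338) (iv3 F347676)
theorem F419431 : act 4 n201202 = n137386 := d10_1 D201202 F360705 F347680
theorem F419432 : act 5 n201202 = n114277 := d21_6 (iv5 F46137) (iv1 F37003) D25569 D52676 D114112 D201202 (iv1 D114277) (iv5 D52743) (iv6 D25604) D25601
theorem F419433 : act 0 n201202 = n159473 := d20_4 (iv4 D141688) (iv1 F318140) (iv4 F353541) (iv3 F419430) F251126 F177800 F161859 (iv4 F178562) F349967 F225913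
def n201203 : Q := act 0 n114116
theorem D201203 : act 0 n114116 = n201203 := rfl
theorem F419434 : act 4 n201203 = n195213 := d18_3 F340901 (iv4 F177731) D201203 F396298 F374881 F334627 (iv4 F340914) (iv0 F340907) (iv5 D106181)
theorem F419435 : act 6 n201203 = n199308 := d21_5 F301487 F298837 F83250 D114116 D201203 F411586 (iv1 F245966) (iv5 F356544) (iv6 D114259) (iv1 F90764)
theorem F419436 : act 2 n199313 = n201203 := d15_3 (iv0 D201203) (iv0 F369000) (iv7 F411618)
theorem F419437 : act 1 n193594 = n201203 := d15_0 (iv0 D201203) (iv7 F368422) (iv2 F390391)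
theorem F419438 : act 7 n201203 = n195230 := d15_2 F396169 F419437 F396376
def n201204 : Q := act 0 n114120
theorem D201204 : act 0 n114120 = n201204 := rfl
theorem F419439 : act 4 n201204 = n114753 := d20_2 F178797 D201204 (iv3 F357841) (iv1 D146719) F104968 F310816 (iv1 F87147) (iv4 F311439) (iv3 F251070) F333620
theorem F419440 : act 6 n201204 = n145925 := d21_5 (iv5 D26482) (iv1 F40502) (iv5 F83253) D114120 D201204 (iv5 F335159) F355401 (iv5 F114783) (iv6 D76548) F55406
theorem F419441 : act 2 n119046 = n201204 := d15_3 (iv0 D201204) (iv0 F393629) F393628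
theorem F419442 : act 3 n201204 = n175825 := d0_2 (iv3 F390817) F419441 (iv2 F275658) (iv3 F346737) F350568
theorem F419443 : act 7 n201204 = n119047 := d4_2 F393628 F419441 F393656
theorem F419444 : act 1 n119049 = n201204 := d15_1 (iv0 F393630) F419443 F393656
def n201205 : Q := act 7 n114120
theorem D201205 : act 7 n114120 = n201205 := rfl
theorem F419445 : act 2 n201205 = n119049 := d4_1 D201205 (iv7 D119049) (iv2 F177733)
theorem F419446 : act 3 n201205 = n114126 := d8_1 D201205 (iv7 D114126) (iv3 F177734)
theorem F419447 : act 4 n201205 = n139849 := d11_1 D201205 F333641 F178797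
theorem F419448 : act 5 n201205 = n152538 := d13_1 D201205 (iv7 D152538) (iv5 F177735)
theorem F419449 : act 6 n201205 = n119055 := d14_1 D201205 (iv7 D119055) (iv6 D54786) (iv7 F83254) D114120
theorem F419450 : act 1 n119047 = n201205 := d15_1 D119047 (iv7 D201205) F177733
theorem F419451 : act 1 n201205 = n119046 := d15_1 F419450 (iv7 F393628) (iv2 F393656)
def n201206 : Q := act 5 n114124
theorem D201206 : act 5 n114124 = n201206 := rfl
theorem F419452 : act 2 n201206 = n159472 := d2_1 D201206 (iv5 D159472) (iv2 F355674)
theorem F419453 : act 3 n201206 = n152391 := d6_1 D201206 (iv5 D152391) (iv3 F355675)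
def n201207 : Q := act 6 n114124
theorem D201207 : act 6 n114124 = n201207 := rfl
theorem F419454 : act 2 n201207 = n159473 := d3_1 D201207 (iv6 D159473) (iv2 F355674)
theorem F419455 : act 3 n201207 = n146539 := d7_1 D201207 F353822 (iv3 F355675)
theorem F419456 : act 5 n201207 = n188989 := d21_6 F370323 F339449 (iv5 F356349) F356350 (iv1 F355673) D201207 (iv1 F375346) (iv5 D114274) D114275 (iv1 F370322)
theorem F419457 : act 3 n188989 = n152494 := d6_1 F419456 (iv5 F353821) (iv3 F419455)
def n201208 : Q := act 5 n114128
theorem D201208 : act 5 n114128 = n201208 := rfl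
theorem F419458 : act 4 n201208 = n189128 := d16_2 (iv4 F347667) D201208 F375844 (iv4 F390109) F390110 (iv4 F376352) (iv5 F376347) F376350 F352408
def n201209 : Q := act 5 n114129
theorem D201209 : act 5 n114129 = n201209 := rfl
def n201210 : Q := act 6 n114129
theorem D201210 : act 6 n114129 = n201210 := rfl
theorem F419459 : act 4 n201210 = n189420 := d10_1 D201210 F376570 F376345
def n201211 : Q := act 0 n114130
theorem D201211 : act 0 n114130 = n201211 := rfl
theorem F419460 : act 6 n201211 = n192566 := d21_5 F366801 F357810 D153944 F241965 D201211 (iv5 D192566) (iv1 F177362) D183921 (iv6 F383273) F383274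
theorem F419461 : act 2 n194405 = n201211 := d3_3 F419460 F387098 D194405
theorem F419462 : act 3 n192568 = n201211 := d7_3 F419460 F387099 D192568
def n201212 : Q := act 1 n114130
theorem D201212 : act 1 n114130 = n201212 := rfl
theorem F419463 : act 7 n201212 = n194405 := d15_2 (iv0 D201211) D201212 F419461
theorem F419464 : act 4 n201212 = n136484 := d17_9 F362467 (iv5 D136906) (iv1 F345508) (iv5 F375844) (iv4 F419458) (iv5 D201208) (iv0 D114128) D114130 D201212
theorem F419465 : act 3 n194410 = n201212 := d8_3 F419463 F393072 D194410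
def n201213 : Q := act 4 n114130
theorem D201213 : act 4 n114130 = n201213 := rfl
def n201214 : Q := act 7 n114130
theorem D201214 : act 7 n114130 = n201214 := rfl
theorem F419466 : act 3 n201214 = n159717 := d8_1 D201214 (iv7 D159717) (iv3 F177747)
theorem F419467 : act 5 n201214 = n114131 := d13_1 D201214 (iv7 D114131) D114130
theorem F419468 : act 6 n194125 = n201214 := d12_0 F419467 F177750 (iv5 F290676) D102704 D194125
theorem F419469 : act 0 n194405 = n201214 := d21_4 (iv5 D192593) (iv1 F154488) D103341 D194405 (iv6 F419468) (iv5 D194125) F392108 F392084 (iv6 D192611) (iv1 F387192)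
def n201215 : Q := act 4 n114133
theorem D201215 : act 4 n114133 = n201215 := rfl
theorem F419470 : act 2 n201215 = n121312 := d1_1 D201215 F398325 (iv2 F398323)
theorem F419471 : act 3 n201215 = n123121 := d5_1 D201215 (iv4 D123121) (iv3 F352381) (iv4 D114134) D114133
theorem F419472 : act 7 n201215 = n121313 := d11_2 F398329 D201215 (iv4 F398333)
theorem F419473 : act 0 n201215 = n121315 := d17_0 F348244 D194121 (iv5 F403507) (iv4 F361667) F319879 (iv0 F337873) (iv5 F398336) F398339 D201215
theorem F419474 : act 0 n121308 = n201215 := d20_1 (iv4 F193436) (iv4 D201215) (iv3 D114133) (iv1 F142465) F142461 (iv4 F258907) (iv1 F258909) (iv4 F338554) F338553 (iv1 D121310)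
theorem F419475 : act 5 n201215 = n193809 := d21_0 (iv1 D193809) D193811 F391064 F347608 (iv6 D76552) F55420 (iv1 F55269) (iv5 F88576) D121308 F419474
def n201216 : Q := act 5 n114133
theorem D201216 : act 5 n114133 = n201216 := rfl
theorem F419476 : act 2 n201216 = n170543 := d2_1 D201216 (iv5 F398321) (iv2 F398323)
theorem F419477 : act 3 n201216 = n114135 := d6_1 D201216 (iv5 D114135) D114133
theorem F419478 : act 7 n201216 = n147989 := d13_2 F398329 D201216 F398331
theorem F419479 : act 1 n201216 = n170545 := d17_8 (iv1 F278371) F337184 F312385 (iv5 F306174) (iv4 F189374) (iv5 F398336) F398339 D201216 F366624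
theorem F419480 : act 0 n201216 = n148595 := d21_1 D201216 (iv5 F360945) (iv6 D159919) (iv1 D76554) (iv6 D34984) (iv5 D16980) D16977 (iv5 F52177) D71318 (iv1 F377198)
def n201217 : Q := act 6 n114133
theorem D201217 : act 6 n114133 = n201217 := rfl
theorem F419481 : act 3 n201217 = n114136 := d7_1 D201217 (iv6 D114136) D114133
theorem F419482 : act 7 n201217 = n146399 := d14_2 F398329 D201217 (iv6 F343211) F411631 F411630
def n201218 : Q := act 5 n114134
theorem D201218 : act 5 n114134 = n201218 := rfl
theorem F419483 : act 3 n201218 = n123122 := d6_1 D201218 (iv5 D123122) (iv3 F352381)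
theorem F419484 : act 7 n201218 = n123869 := d13_2 (iv7 F352382) D201218 (iv5 D123869)
theorem F419485 : act 6 n136479 = n201218 := d14_5 F419484 F329925 (iv7 F101076) (iv6 F356109) (iv7 F354516)
def n201219 : Q := act 6 n114134
theorem D201219 : act 6 n114134 = n201219 := rfl
theorem F419486 : act 2 n201219 = n137386 := d3_1 D201219 F360705 (iv2 F352380)
theorem F419487 : act 3 n201219 = n123123 := d7_1 D201219 (iv6 D123123) (iv3 F352381)
theorem F419488 : act 4 n201219 = n114136 := d10_1 D201219 (iv6 D114136) D114134
theorem F419489 : act 5 n201219 = n193648 := d12_1 D201219 (iv6 D193648) F354517 F419485 (iv5 D201218)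
theorem F419490 : act 7 n201219 = n137387 := d14_2 (iv7 F352382) D201219 F356505 (iv7 D111185) (iv6 F329885)
theorem F419491 : act 0 n137366 = n201219 := d17_2 (iv1 D137365) D137366 F419489 F390556 (iv5 D107594) D107592 (iv5 F346482) F349933 (iv4 F349936)
theorem F419492 : act 0 n201219 = n137389 := d21_7 F327390 F327384 (iv5 D47432) D47433 D102161 D193648 (iv5 F419489) F220587 F328622 (iv1 F153599)
theorem F419493 : act 1 n201207 = n114136 := d17_8 F419492 F220587 (iv1 F220563) F349949 (iv4 D114273) D114274 F375346 (iv5 F419456) (iv4 F419488)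
theorem F419494 : act 0 n117322 = n201217 := d20_4 (iv4 D31956) (iv1 F41491) D54073 D117322 F419481 (iv4 F419488) F419492 F328479 (iv3 D146485) (iv1 D68673)
theorem F419495 : act 1 n142058 = n201217 := d15_0 (iv0 F419494) F183703 (iv2 F225070)
def n201220 : Q := act 1 n114136
theorem D201220 : act 1 n114136 = n201220 := rfl
theorem F419496 : act 7 n201220 = n159473 := d15_2 F419493 D201220 (iv2 F419454)
theorem F419497 : act 5 n201220 = n188990 := d18_9 (iv1 D188990) (iv4 F375341) (iv1 F412475) F412477 F393182 (iv4 F328479) (iv0 F419492) F419488 D201220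
theorem F419498 : act 3 n114157 = n201220 := d20_9 (iv4 F419488) F419492 F328479 (iv3 D146485) (iv1 D68673) D68674 F324271 (iv1 F161763) (iv4 F177892) (iv1 D201220)
theorem F419499 : act 6 n187446 = n201220 := d21_3 D114107 F347369 (iv5 F370361) (iv1 D201220) (iv6 D114136) D114135 (iv1 F347652) (iv5 F419410) (iv6 D201197) (iv1 D114106)
def n201221 : Q := act 5 n114136
theorem D201221 : act 5 n114136 = n201221 := rfl
theorem F419500 : act 2 n201221 = n114277 := d2_1 D201221 (iv5 F419432) F419429
theorem F419501 : act 4 n201221 = n199559 := d16_4 (iv4 F390556) (iv5 F419489) F419488 D201221 F412667 (iv4 F175409) D200149 F415253 (iv2 F346470)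
theorem F419502 : act 0 n201221 = n114249 := d21_1 D201221 (iv5 D114249) (iv6 D52731) (iv1 F55474) D52672 D114107 F347369 (iv5 F370361) F419499 (iv1 D201220)
theorem F419503 : act 0 n114279 = n201221 := d21_1 (iv5 F178124) (iv5 D201221) (iv6 D114136) (iv1 F142465) (iv6 D92517) F67886 (iv1 F32474) D42131 D90138 (iv1 F178063)
theorem F419504 : act 7 n114276 = n201221 := d15_2 (iv0 F413384) F413386 F419500
def n201222 : Q := act 7 n114136
theorem D201222 : act 7 n114136 = n201222 := rfl
theorem F419505 : act 3 n201222 = n146399 := d8_1 D201222 (iv7 F419482) F419481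
theorem F419506 : act 4 n201222 = n137387 := d11_1 D201222 (iv7 F419490) F419488
theorem F419507 : act 5 n201222 = n114276 := d13_1 D201222 F419504 (iv5 D201221)
theorem F419508 : act 6 n201222 = n199316 := d14_1 D201222 (iv7 D199316) (iv6 F352395) F352379 D114136
theorem F419509 : act 0 n159473 = n201222 := d21_4 (iv5 F387831) (iv1 F387832) (iv5 D159472) D159473 F419508 F411635 (iv1 F395459) F395451 (iv6 F372383) (iv1 F372384)
def n201223 : Q := act 5 n114139
theorem D201223 : act 5 n114139 = n201223 := rfl
theorem F419510 : act 2 n201223 = n123869 := d2_1 D201223 (iv5 D123869) (iv2 F352385)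
theorem F419511 : act 3 n201223 = n148531 := d6_1 D201223 F233292 (iv3 F352386)
theorem F419512 : act 6 n201223 = n133981 := d12_2 F352391 D201223 (iv5 D133981) F98185 D111180
def n201224 : Q := act 5 n114142
theorem D201224 : act 5 n114142 = n201224 := rfl
theorem F419513 : act 2 n201224 = n164302 := d2_1 D201224 (iv5 D164302) (iv2 F353806)
theorem F419514 : act 3 n201224 = n146556 := d6_1 D201224 (iv5 D146556) (iv3 F353778)
theorem F419515 : act 7 n201224 = n195198 := d13_2 F373951 D201224 F396211
theorem F419516 : act 1 n201224 = n159545 := d17_6 (iv1 F272046) F272043 (iv1 F275353) (iv5 F353781) F353777 D201224 (iv5 F259022) F347658 (iv4 D176086)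
theorem F419517 : act 6 n201224 = n186900 := d21_3 D52687 D114142 D201224 (iv1 F372385) F372383 (iv5 F395451) (iv1 F395454) (iv5 F376868) (iv6 D114141) (iv1 D52686)
theorem F419518 : act 4 n186901 = n201224 := d10_3 F419517 (iv4 D186900) D186901
def n201225 : Q := act 5 n114143
theorem D201225 : act 5 n114143 = n201225 := rfl
theorem F419519 : act 2 n201225 = n195198 := d2_1 D201225 F396211 (iv2 F373949)
theorem F419520 : act 3 n201225 = n117108 := d6_1 D201225 F319197 (iv3 F353810)
theorem F419521 : act 7 n201225 = n164302 := d13_2 (iv7 F353812) D201225 (iv5 D164302)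
theorem F419522 : act 0 n201225 = n159545 := d17_2 (iv1 F177754) D201225 (iv5 F259022) F357767 (iv5 F389906) (iv0 F389909) F347876 F354098 (iv4 F319017)
theorem F419523 : act 6 n201225 = n117106 := d21_3 F142462 (iv1 F177754) D201225 F355664 F161719 (iv5 F178124) F419503 (iv5 D201221) (iv6 D114136) (iv1 F142465)
def n201226 : Q := act 6 n114143
theorem D201226 : act 6 n114143 = n201226 := rfl
theorem F419524 : act 2 n201226 = n194175 := d3_1 D201226 F392258 (iv2 F373949)
theorem F419525 : act 3 n201226 = n164274 := d7_1 D201226 (iv6 D164274) (iv3 F353810)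
theorem F419526 : act 4 n201226 = n200457 := d10_1 D201226 F416507 (iv4 F353811)
theorem F419527 : act 7 n201226 = n194173 := d14_2 (iv7 F353812) D201226 F392250 F252112 F353809
theorem F419528 : act 5 n201226 = n186264 := d21_6 (iv5 D43241) (iv1 F32413) (iv5 F65118) D90261 (iv1 F177754) D201226 (iv1 D186264) (iv5 F326299) F326300 F135488
def n201227 : Q := act 5 n114144
theorem D201227 : act 5 n114144 = n201227 := rfl
theorem F419529 : act 6 n201227 = n176592 := d12_2 (iv6 F177755) D201227 (iv5 F354159) F307774 F94807
theorem F419530 : act 7 n201227 = n137107 := d13_2 (iv7 F352365) D201227 (iv5 F352360)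
theorem F419531 : act 0 n201227 = n144349 := d17_2 F354097 D201227 (iv5 F332128) F332127 F267965 (iv0 F337889) F161825 D114816 (iv4 F354100)
theorem F419532 : act 1 n201227 = n193505 := d17_6 (iv1 F347666) (iv5 D114140) (iv1 D52686) D52687 D114144 D201227 F390110 F360144 (iv4 F231611)
def n201228 : Q := act 0 n114145
theorem D201228 : act 0 n114145 = n201228 := rfl
theorem F419533 : act 5 n201228 = n188758 := d17_1 D201228 (iv1 F374756) (iv5 D175647) (iv4 D83859) D83860 (iv0 F308599) F308602 (iv0 D173557) (iv4 F311745)
theorem F419534 : act 4 n201228 = n174491 := d18_1 D201228 (iv1 F274819) F334807 (iv5 F334806) F354877 F406328 F406324 (iv0 F371117) F371116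
theorem F419535 : act 3 n201228 = n114740 := d20_5 D105446 (iv1 F355713) F320865 (iv3 F177757) D201228 (iv4 D114740) (iv1 F178780) F178778 (iv3 F161819) (iv1 F161821)
theorem F419536 : act 0 n135525 = n130138 := d21_4 F371116 D201228 F419533 F374747 (iv6 D130138) (iv5 D61097) D61095 D130133 (iv6 F397664) F397665
theorem F419537 : act 2 n152353 = n201228 := d15_3 (iv0 D201228) (iv0 F353426) F364250
theorem F419538 : act 1 n152355 = n201228 := d15_0 (iv0 D201228) F311746 (iv2 F314195)
theorem F419539 : act 7 n201228 = n152354 := d15_2 F359208 F419538 (iv2 F364251)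
def n201229 : Q := act 1 n114151
theorem D201229 : act 1 n114151 = n201229 := rfl
theorem F419540 : act 1 n201229 = n142097 := d15_1 D201229 F366044 (iv2 F290510)
theorem F419541 : act 7 n201229 = n159457 := d15_2 (iv0 F393633) D201229 (iv2 F393631)
theorem F419542 : act 4 n201229 = n200778 := d17_9 F417881 (iv5 D113646) (iv1 F354593) (iv5 D95857) (iv4 F86797) (iv5 F94988) (iv0 F290515) F205550 D201229
theorem F419543 : act 6 n175822 = n201229 := d21_3 F83279 D113711 F355241 (iv1 D201229) (iv6 D114151) D114150 F290505 (iv5 F178020) (iv6 F346182) F346178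
theorem F419544 : act 2 n201229 = n164428 := d3_1 F419543 (iv6 F418315) F418311
theorem F419545 : act 3 n201229 = n146550 := d7_1 F419543 F347973 D175822
def n201230 : Q := act 7 n114151
theorem D201230 : act 7 n114151 = n201230 := rfl
theorem F419546 : act 2 n201230 = n142097 := d4_1 D201230 F366044 (iv2 F290510)
theorem F419547 : act 3 n201230 = n114158 := d8_1 D201230 (iv7 D114158) (iv3 F177768)
theorem F419548 : act 5 n201230 = n114322 := d13_1 D201230 (iv7 F205551) F205550
theorem F419549 : act 6 n201230 = n164411 := d14_1 D201230 (iv7 D164411) (iv6 D78959) (iv7 F161673) D114151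
theorem F419550 : act 1 n164428 = n201230 := d15_1 D164428 (iv7 D201230) F290510
theorem F419551 : act 1 n201230 = n159457 := d15_1 F419550 (iv7 F419541) F419544
def n201231 : Q := act 0 n114154
theorem D201231 : act 0 n114154 = n201231 := rfl
theorem F419552 : act 5 n201231 = n194350 := d17_1 D201231 F392896 (iv5 D164425) (iv4 D78968) D78969 (iv0 F177668) (iv5 F177769) (iv0 D114152) D114154
theorem F419553 : act 4 n201231 = n121332 := d18_1 D201231 (iv1 F193464) D121342 (iv5 F259093) F259094 (iv0 D95803) D95805 D190283 (iv5 F379273)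
theorem F419554 : act 1 n114165 = n201231 := d15_0 (iv0 D201231) F177889 (iv2 F177912)
theorem F419555 : act 2 n164378 = n201231 := d1_3 F419553 (iv2 F193528) (iv4 F259028)
theorem F419556 : act 7 n164379 = n201231 := d11_0 F419553 (iv7 F193529) (iv4 F259031)
def n201232 : Q := act 1 n114154
theorem D201232 : act 1 n114154 = n201232 := rfl
theorem F419557 : act 1 n201232 = n114165 := d15_1 D201232 F177913 (iv2 F177888)
theorem F419558 : act 7 n201232 = n164378 := d15_2 (iv0 D201231) D201232 F419555
theorem F419559 : act 4 n201232 = n121333 := d17_9 (iv1 D121333) (iv5 D55974) (iv1 F43581) (iv5 F83723) (iv4 F178936) F178937 D190283 (iv5 F379273) D201232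
theorem F419560 : act 3 n170429 = n201232 := d19_19 (iv1 D201232) F379273 F379271 (iv3 F377928) F377930 (iv5 D96964) F71429 (iv3 F69357) D94228 (iv5 F340080) (iv4 D117865) (iv3 F240206) (iv1 F250339) (iv5 F309931) F215474 F98070 D127936 F319723 (iv4 F267893)
theorem F419561 : act 6 n201232 = n159521 := d7_2 D170429 F419560 (iv3 F261862)
theorem F419562 : act 2 n164379 = n201232 := d3_3 F419561 F336917 F259032
def n201233 : Q := act 5 n114164
theorem D201233 : act 5 n114164 = n201233 := rfl
theorem F419563 : act 3 n201233 = n114166 := d6_1 D201233 (iv5 D114166) (iv3 F177911)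
theorem F419564 : act 6 n201233 = n142752 := d12_2 D114164 D201233 (iv5 D142752) (iv6 F321780) (iv5 D114163)
theorem F419565 : act 4 n201233 = n194336 := d16_2 F364498 D201233 (iv5 D194336) F354257 (iv5 F354255) F231673 D147897 F313102 (iv2 F267545)
theorem F419566 : act 0 n201233 = n133368 := d17_2 (iv1 F398312) D201233 F335864 F312028 D148501 (iv0 F350196) F302678 (iv0 F326251) (iv4 F398308)
def n201234 : Q := act 3 n114165
theorem D201234 : act 3 n114165 = n201234 := rfl
theorem F419567 : act 4 n201234 = n142740 := d5_2 D114165 D201234 F225655 (iv4 F321779) F177909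
theorem F419568 : act 6 n201234 = n142739 := d7_2 F380213 D201234 (iv3 F380212)
theorem F419569 : act 7 n201234 = n164380 := d8_2 (iv7 F177913) D201234 (iv3 D164380)
theorem F419570 : act 0 n149181 = n201234 := d21_4 (iv5 F415558) (iv1 F415564) (iv5 D149180) D149181 F419568 (iv5 F225648) (iv1 F174305) F174302 F317369 (iv1 F234597)
def n201235 : Q := act 4 n114166
theorem D201235 : act 4 n114166 = n201235 := rfl
theorem F419571 : act 2 n201235 = n164416 := d1_1 D201235 (iv4 D164416) (iv2 F177914)
theorem F419572 : act 7 n201235 = n197048 := d11_2 F251388 D201235 F402820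
theorem F419573 : act 5 n201235 = n200791 := d17_5 (iv1 F78000) (iv5 F78001) (iv1 F177676) D114166 D201235 F417914 (iv5 D196199) F164550 F163788
theorem F419574 : act 0 n201235 = n164208 := d17_0 F363067 F392334 (iv5 D106536) F77750 (iv5 F40384) D52633 D114048 (iv0 F178022) D201235
theorem F419575 : act 1 n201235 = n164205 := d18_6 (iv1 D105465) (iv4 F177784) (iv1 F177674) F161702 D114166 D201235 (iv4 D164205) (iv0 F341596) F341599
def n201236 : Q := act 7 n114174
theorem D201236 : act 7 n114174 = n201236 := rfl
theorem F419576 : act 2 n201236 = n164411 := d4_1 D201236 (iv7 D164411) F290514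
theorem F419577 : act 3 n201236 = n142099 := d8_1 D201236 F364493 F364500
theorem F419578 : act 6 n201236 = n142097 := d14_1 D201236 F366044 (iv6 D78970) F178250 D114174
theorem F419579 : act 1 n164409 = n201236 := d15_1 D164409 (iv7 D201236) (iv2 F290514)
theorem F419580 : act 1 n201236 = n164408 := d15_1 F419579 (iv7 F331580) (iv2 F398530)
def n201237 : Q := act 5 n114175
theorem D201237 : act 5 n114175 = n201237 := rfl
theorem F419581 : act 2 n201237 = n164444 := d2_1 D201237 (iv5 D164444) (iv2 F177934)
theorem F419582 : act 3 n201237 = n190975 := d6_1 D201237 (iv5 D190975) (iv3 F348884)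
theorem F419583 : act 6 n201237 = n200944 := d12_2 (iv6 F354597) D201237 (iv5 D200944) (iv6 D113647) D113646
theorem F419584 : act 7 n201237 = n164447 := d13_2 (iv7 F177932) D201237 (iv5 D164447)
theorem F419585 : act 4 n201237 = n159808 := d16_2 (iv4 F177933) D201237 (iv5 D159808) (iv4 D76477) (iv5 F83499) (iv4 F136454) F83720 (iv7 F161743) (iv2 F161744)
theorem F419586 : act 0 n201237 = n190360 := d17_2 D114175 D201237 (iv5 D190360) F346176 F178020 (iv0 F290505) (iv5 D114150) (iv0 F290502) D52703
theorem F419587 : act 1 n201237 = n194907 := d17_6 D121332 F193463 F193465 (iv5 D114859) (iv4 F177933) D201237 F394962 F259024 (iv4 D121334)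
def n201238 : Q := act 3 n114176
theorem D201238 : act 3 n114176 = n201238 := rfl
theorem F419588 : act 2 n201238 = n190976 := d0_1 D201238 (iv3 D190976) (iv2 F357959) (iv3 D164446) F177922
theorem F419589 : act 4 n201238 = n186868 := d5_2 (iv4 F177921) D201238 F368357 (iv4 D121323) (iv3 F322982)
theorem F419590 : act 7 n201238 = n164443 := d8_2 F177936 D201238 (iv3 D164443)
theorem F419591 : act 0 n201238 = n149274 := d20_4 F149563 (iv1 F88594) (iv4 F177921) D201238 F234655 (iv4 F230854) F334995 F362082 (iv3 D164424) F149566
theorem F419592 : act 6 n186973 = n201238 := d10_0 F419589 F368358 D186973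
def n201239 : Q := act 5 n114176
theorem D201239 : act 5 n114176 = n201239 := rfl
theorem F419593 : act 2 n201239 = n164447 := d2_1 D201239 (iv5 D164447) F177922
theorem F419594 : act 4 n201239 = n159801 := d9_1 D201239 (iv5 D159801) (iv4 D76472) D76473 (iv4 F178925) (iv5 D114859) (iv4 F177933) D201237 F419585 (iv5 D159808) (iv4 D76477) (iv5 F83499) (iv4 F136454) F83720 (iv4 F177921)
theorem F419595 : act 7 n201239 = n164444 := d13_2 F177936 D201239 (iv5 D164444)
theorem F419596 : act 0 n201239 = n194907 := d17_2 (iv1 F177920) D201239 F394962 (iv4 D164374) F120132 (iv0 F178010) F83309 F83270 (iv4 F120151)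
theorem F419597 : act 1 n201239 = n190360 := d17_6 (iv1 F193530) F193532 F177479 F83720 (iv4 F177921) D201239 (iv5 D190360) F346175 (iv4 D121342)
def n201240 : Q := act 6 n114176
theorem D201240 : act 6 n114176 = n201240 := rfl
theorem F419598 : act 2 n201240 = n164448 := d3_1 D201240 (iv6 D164448) F177922
theorem F419599 : act 3 n201240 = n186973 := d7_1 D201240 F419592 (iv3 D201238)
theorem F419600 : act 4 n201240 = n114862 := d10_1 D201240 (iv6 D114862) (iv4 F177921)
theorem F419601 : act 0 n201240 = n198528 := d21_4 D190360 (iv1 F419597) (iv5 D201239) D201240 (iv6 D198528) (iv5 D109515) D109512 F347760 F347757 (iv1 F346175)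
theorem F419602 : act 5 n196006 = n201240 := d21_2 F335162 D196006 (iv6 D201240) (iv1 D114176) F83272 F40474 (iv1 F34117) D44731 D95784 (iv1 F261863)
theorem F419603 : act 1 n201240 = n191122 := d17_8 F397762 (iv5 F178012) F331425 (iv5 F331422) F288174 D191101 F399032 F419602 F382312
def n201241 : Q := act 0 n114177
theorem D201241 : act 0 n114177 = n201241 := rfl
theorem F419604 : act 5 n201241 = n114846 := d17_3 (iv1 D114176) D114177 D201241 (iv4 D114846) (iv5 D52992) (iv0 D25721) D25723 D53000 (iv4 F177921)
theorem F419605 : act 4 n201241 = n159798 := d18_1 D201241 F251809 D190264 F379237 F149563 F88595 (iv4 F177933) (iv0 D114175) D114177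
theorem F419606 : act 6 n201241 = n197474 := d21_5 (iv5 D187315) (iv1 F138025) D97157 (iv6 F177924) D201241 (iv5 D197474) (iv1 F295865) F295868 F366968 (iv1 F369813)
theorem F419607 : act 1 n159820 = n201241 := d15_0 (iv0 D201241) (iv7 F177926) (iv2 F251886)
theorem F419608 : act 2 n164449 = n201241 := d3_3 F419606 (iv2 F415578) F415579
theorem F419609 : act 7 n164450 = n201241 := d15_2 (iv0 D164449) D164450 (iv2 F419608)
theorem F419610 : act 3 n190980 = n201241 := d20_5 D190155 F378999 (iv4 D97139) (iv3 F149848) D190980 F419605 F251809 D190264 (iv3 F379241) (iv1 F149586)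
def n201242 : Q := act 1 n114177
theorem D201242 : act 1 n114177 = n201242 := rfl
theorem F419611 : act 1 n201242 = n159820 := d15_1 D201242 (iv7 F251889) (iv2 F177923)
theorem F419612 : act 7 n201242 = n164449 := d15_2 (iv0 D201241) D201242 F419608
theorem F419613 : act 5 n201242 = n114855 := d17_7 (iv1 F177770) (iv5 D52699) (iv1 D25577) D25578 D52703 D114177 D201242 F379547 F379545
theorem F419614 : act 4 n201242 = n159771 := d17_9 F251739 F147498 (iv1 F136447) D159808 (iv4 F419585) (iv5 D201237) (iv0 D114175) D114177 D201242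
theorem F419615 : act 2 n164450 = n201242 := d1_3 F419614 F251737 (iv4 F259094)
theorem F419616 : act 3 n166683 = n201242 := d5_5 F419614 F369587 D190236 (iv3 F379156) F262368
theorem F419617 : act 6 n201242 = n166681 := d7_2 D166683 F419616 F262335
def n201243 : Q := act 5 n114182
theorem D201243 : act 5 n114182 = n201243 := rfl
theorem F419618 : act 2 n201243 = n159451 := d2_1 D201243 (iv5 D159451) (iv2 F350568)
theorem F419619 : act 4 n201243 = n199098 := d9_1 D201243 F410649 F171956 (iv5 F94062) (iv4 F339734) (iv5 D103744) D103743 F350576 (iv4 D157171) (iv5 D74726) F53883 F26238 (iv4 F45827) D59667 (iv4 F346740)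
theorem F419620 : act 6 n201243 = n200924 := d12_2 F346738 D201243 F418409 (iv6 D200896) (iv5 F355236)
theorem F419621 : act 7 n201243 = n159456 := d13_2 (iv7 F350569) D201243 (iv5 D159456)
theorem F419622 : act 0 n201243 = n196741 := d17_2 D114182 D201243 F401653 F353120 (iv5 D127124) F163695 D128536 (iv0 F339728) F146946
theorem F419623 : act 1 n201243 = n114327 := d17_6 (iv1 F415555) (iv5 D127117) (iv1 D59666) D59667 (iv4 F346740) D201243 F178302 D164384 (iv4 F415552)
def n201244 : Q := act 5 n114185
theorem D201244 : act 5 n114185 = n201244 := rfl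
theorem F419624 : act 2 n201244 = n164492 := d2_1 D201244 (iv5 D164492) (iv2 F352654)
theorem F419625 : act 3 n201244 = n121363 := d6_1 D201244 F340687 (iv3 F352655)
theorem F419626 : act 4 n201244 = n191100 := d9_1 D201244 (iv5 D191100) (iv4 F259000) F177959 (iv4 F214539) F340439 (iv4 F259095) (iv5 F376227) F376226 (iv5 D164487) F120179 (iv5 F82469) (iv4 F95737) D130582 (iv4 F352656)
theorem F419627 : act 7 n201244 = n131147 := d13_2 (iv7 F352657) D201244 F210050
theorem F419628 : act 0 n201244 = n114398 := d17_2 D114185 D201244 (iv5 F178930) (iv4 F419600) (iv5 F419602) (iv0 D196006) (iv5 F335162) F261863 F147475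
def n201245 : Q := act 4 n114188
theorem D201245 : act 4 n114188 = n201245 := rfl
theorem F419629 : act 2 n201245 = n114280 := d1_1 D201245 (iv4 D114280) (iv2 F177964)
theorem F419630 : act 3 n201245 = n197645 := d5_1 D201245 F405171 F355604 (iv4 D114191) (iv3 F177965)
theorem F419631 : act 6 n201245 = n188884 := d10_2 (iv6 F374402) D201245 (iv4 F375427)
theorem F419632 : act 7 n201245 = n114281 := d11_2 (iv7 F177966) D201245 (iv4 D114281)
theorem F419633 : act 5 n201245 = n197644 := d16_1 D201245 F405165 (iv5 F400396) F400395 (iv5 D159369) F114222 D114251 F178073 (iv2 F177964)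
theorem F419634 : act 0 n201245 = n159348 := d17_0 (iv5 F363561) (iv1 F385093) F385094 (iv4 D114284) F178051 (iv0 F94211) D106510 (iv0 F177967) D201245
theorem F419635 : act 1 n201245 = n187804 := d18_6 (iv1 F83496) F83312 (iv1 D52728) (iv4 F83286) D114188 D201245 (iv4 D187804) (iv0 F178540) (iv5 D114479)
def n201246 : Q := act 6 n114190
theorem D201246 : act 6 n114190 = n201246 := rfl
theorem F419636 : act 2 n201246 = n152397 := d3_1 D201246 (iv6 D152397) F177973
theorem F419637 : act 3 n201246 = n188806 := d7_1 D201246 (iv6 D188806) (iv3 F177976)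
theorem F419638 : act 4 n201246 = n194660 := d10_1 D201246 (iv6 D194660) F352762
theorem F419639 : act 5 n201246 = n151702 := d12_1 D201246 (iv6 F355203) F189737 (iv6 F104226) (iv5 F177972)
theorem F419640 : act 6 n119209 = n192796 := d21_5 (iv5 D54859) (iv1 D26539) D26540 (iv6 F86800) D119209 (iv5 F416442) F416440 (iv5 F419639) (iv6 D201246) (iv1 F177974)
def n201247 : Q := act 6 n114192
theorem D201247 : act 6 n114192 = n201247 := rfl
theorem F419641 : act 3 n201247 = n114193 := d7_1 D201247 (iv6 D114193) D114192
theorem F419642 : act 5 n201247 = n118570 := d12_1 D201247 (iv6 D118570) (iv5 D54599) (iv6 F86265) (iv5 F305816)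
theorem F419643 : act 7 n201247 = n147365 := d14_2 (iv7 F177979) D201247 (iv6 D147365) (iv7 F343337) F343336
theorem F419644 : act 0 n201247 = n142375 := d21_10 F382022 F382021 D200063 F414859 D200064 (iv6 F414868) (iv5 F305815) (iv1 D118527) (iv5 F305816) D201247
theorem F419645 : act 0 n147486 = n201247 := d17_2 F382038 (iv5 F382039) F419642 F354559 F248412 F174293 (iv5 F320036) F320034 F354555
def n201248 : Q := act 1 n114193
theorem D201248 : act 1 n114193 = n201248 := rfl
theorem F419646 : act 1 n201248 = n114201 := d15_1 D201248 (iv7 D114201) (iv2 F177980)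
theorem F419647 : act 7 n201248 = n114198 := d15_2 F346407 D201248 (iv2 F346403)
theorem F419648 : act 5 n201248 = n116459 := d17_7 F223804 F103122 (iv1 F179988) D141340 (iv4 F227361) F331683 D201248 F346417 (iv4 F323313)
theorem F419649 : act 4 n201248 = n144947 := d17_9 F319088 (iv5 F171446) F319083 F363058 F331693 (iv5 D144555) F227362 F331683 D201248
theorem F419650 : act 3 n198908 = n201248 := d19_19 (iv1 D201248) (iv5 F331683) F227361 F224363 F173690 F49420 (iv4 F49726) (iv3 D31432) (iv1 F38582) (iv5 F76908) (iv4 F81516) (iv3 F173990) D199889 F413992 (iv4 F379373) (iv3 F413162) F413166 (iv5 F382005) (iv4 F409839)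
theorem F419651 : act 6 n173478 = n201248 := d21_3 F335507 (iv1 F244499) F339364 (iv1 D201248) (iv6 D114193) F83297 F52501 (iv5 F52415) D71807 D152220
theorem F419652 : act 6 n144947 = n155472 := d10_2 F419651 F419649 (iv4 F339366)
theorem F419653 : act 2 n201248 = n114199 := d0_1 F419650 (iv3 F350763) (iv2 F350766) (iv3 F382037) F409840
def n201249 : Q := act 7 n114193
theorem D201249 : act 7 n114193 = n201249 := rfl
theorem F419654 : act 2 n201249 = n114201 := d4_1 D201249 (iv7 D114201) (iv2 F177980)
theorem F419655 : act 3 n201249 = n147365 := d8_1 D201249 (iv7 F419643) F419641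
theorem F419656 : act 4 n201249 = n114196 := d11_1 D201249 (iv7 D114196) (iv4 F177981)
theorem F419657 : act 5 n201249 = n142509 := d13_1 D201249 F227364 F331683
theorem F419658 : act 6 n201249 = n147362 := d14_1 D201249 F321009 (iv6 D71838) (iv7 F83298) D114193
theorem F419659 : act 1 n114199 = n201249 := d15_1 D114199 (iv7 D201249) F177980
theorem F419660 : act 1 n201249 = n114198 := d15_1 F419659 (iv7 F419647) F419653
theorem F419661 : act 4 n146781 = n147365 := d20_2 F182686 D146781 (iv3 F419655) (iv1 F419659) (iv3 F350763) F350764 (iv1 D75016) (iv4 F112549) (iv3 F248333) F357690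
theorem F419662 : act 6 n147363 = n146781 := d10_0 F419661 (iv6 D147365) D147363
def n201250 : Q := act 3 n114195
theorem D201250 : act 3 n114195 = n201250 := rfl
theorem F419663 : act 2 n201250 = n119061 := d0_1 D201250 F334758 F231808 (iv3 F352143) (iv2 F352126)
theorem F419664 : act 4 n201250 = n152465 := d5_2 F330335 D201250 F353622 (iv4 D167579) (iv3 F352182)
theorem F419665 : act 7 n201250 = n114203 := d8_2 (iv7 F352127) D201250 (iv3 D114203)
theorem F419666 : act 0 n201250 = n119056 := d20_4 (iv4 F248516) (iv1 F248520) F330335 D201250 F187317 (iv4 F149962) F316658 (iv4 F347755) F338532 F338522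
theorem F419667 : act 0 n119063 = n201250 := d20_4 (iv4 F50515) (iv1 F51085) (iv4 F315428) (iv3 F187332) (iv3 D201250) (iv4 F330335) (iv1 D142531) (iv4 F314385) F120183 (iv1 F314383)
theorem F419668 : act 6 n178360 = n201250 := d14_5 F419665 F355804 F347662 (iv6 F375454) F375456
def n201251 : Q := act 6 n114195
theorem D201251 : act 6 n114195 = n201251 := rfl
theorem F419669 : act 2 n201251 = n114211 := d3_1 D201251 (iv6 D114211) (iv2 F352126)
theorem F419670 : act 3 n201251 = n178360 := d7_1 D201251 F419668 (iv3 D201250)
theorem F419671 : act 4 n201251 = n119851 := d10_1 D201251 (iv6 F352063) F330335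
theorem F419672 : act 7 n201251 = n155470 := d14_2 (iv7 F352127) D201251 F346133 F347677 (iv6 D114206)
theorem F419673 : act 0 n201251 = n188109 := d21_4 D195864 F398519 F330338 D201251 F372340 (iv5 D90814) D90813 F143228 D188568 F374009
theorem F419674 : act 1 n114211 = n164220 := d15_0 (iv0 F346134) (iv7 F419672) F419669
theorem F419675 : act 0 n152443 = n201251 := d18_0 F419671 (iv1 D119851) D119852 F339229 F355586 F355577 (iv4 F355576) (iv0 F398407) F398405
def n201252 : Q := act 6 n114199
theorem D201252 : act 6 n114199 = n201252 := rfl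
theorem F419676 : act 2 n201252 = n173478 := d3_1 D201252 F419651 F419653
theorem F419677 : act 7 n201252 = n152736 := d14_2 F346405 D201252 (iv6 F405037) (iv7 F416517) (iv6 F416520)
theorem F419678 : act 5 n201252 = n148539 := d21_6 (iv5 D111443) D111440 F351725 (iv6 F419658) (iv1 F419659) D201252 F259385 (iv5 F335511) F342075 F353833
theorem F419679 : act 0 n173443 = n201252 := d21_4 (iv5 D173453) (iv1 D82994) D82995 (iv6 F271898) (iv6 D201252) F330347 (iv1 F225296) F323290 (iv6 D175811) (iv1 F338573)
theorem F419680 : act 1 n173481 = n201252 := d15_0 (iv0 F419679) (iv7 F339360) (iv2 F339361)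
def n201253 : Q := act 4 n114203
theorem D201253 : act 4 n114203 = n201253 := rfl
theorem F419681 : act 2 n201253 = n147628 := d1_1 D201253 (iv4 F347774) (iv2 F355802)
theorem F419682 : act 3 n201253 = n147651 := d5_1 D201253 F350707 F359836 (iv4 D114204) D114203
theorem F419683 : act 6 n201253 = n173680 := d10_2 (iv6 F355804) D201253 F347664
theorem F419684 : act 7 n201253 = n152465 := d11_2 F419665 D201253 (iv4 F419664)
theorem F419685 : act 5 n201253 = n177598 := d18_4 (iv1 D69150) (iv4 F310813) (iv1 F355803) D201253 (iv4 F351031) F176408 F105261 (iv0 F351029) F330672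
theorem F419686 : act 1 n201253 = n147367 := d18_8 F334764 F343345 (iv1 D125605) F92985 D110621 D198917 (iv0 F409876) D201253 F343321
theorem F419687 : act 0 n201253 = n152467 := d20_1 D201253 F239656 F161733 (iv1 F76744) D52795 F316010 (iv1 F51050) (iv4 F313007) (iv3 F86689) (iv1 F355803)
def n201254 : Q := act 5 n114203
theorem D201254 : act 5 n114203 = n201254 := rfl
theorem F419688 : act 3 n201254 = n114205 := d6_1 D201254 (iv5 D114205) D114203
theorem F419689 : act 6 n201254 = n189553 := d12_2 (iv6 F355804) D201254 (iv5 F376868) (iv6 D114141) D114140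
theorem F419690 : act 1 n201254 = n147236 := d17_6 D83957 (iv5 F353633) (iv1 F277064) (iv5 F419685) (iv4 D201253) D201254 (iv5 D147236) (iv0 F342078) F128942
def n201255 : Q := act 0 n114205
theorem D201255 : act 0 n114205 = n201255 := rfl
theorem F419691 : act 5 n201255 = n195861 := d17_1 D201255 F398507 F330331 (iv4 D142483) (iv5 F181601) (iv0 F85053) D67544 (iv0 F181794) F352140
theorem F419692 : act 4 n201255 = n142366 := d18_1 D201255 (iv1 D142366) D142367 (iv5 F330350) F238180 F419659 F419656 F177987 D114205
theorem F419693 : act 1 n114210 = n201255 := d15_0 (iv0 D201255) F352128 (iv2 F352139)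
theorem F419694 : act 2 n195864 = n201255 := d2_3 F419691 F398505 D195864
def n201256 : Q := act 1 n114205
theorem D201256 : act 1 n114205 = n201256 := rfl
theorem F419695 : act 1 n201256 = n114210 := d15_1 D201256 F352137 (iv2 F352141)
theorem F419696 : act 7 n201256 = n195864 := d15_2 (iv0 D201255) D201256 F419694
theorem F419697 : act 5 n201256 = n195865 := d17_7 (iv1 F225358) (iv5 F225356) (iv1 F182176) (iv5 F352071) (iv4 D114204) D114205 D201256 F398526 F330330
theorem F419698 : act 4 n201256 = n142365 := d17_9 (iv1 F225288) (iv5 D66780) (iv1 F102627) D142360 (iv4 F415786) F415787 F177987 D114205 D201256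
theorem F419699 : act 6 n200352 = n201256 := d10_0 F419698 F365720 (iv4 F416108)
theorem F419700 : act 3 n201256 = n114224 := d20_3 (iv4 D142367) D142365 (iv4 F419698) (iv1 D114224) (iv3 F178002) (iv4 F331567) F306958 (iv4 F225679) F225678 (iv1 F225291)
def n201257 : Q := act 1 n114206
theorem D201257 : act 1 n114206 = n201257 := rfl
theorem F419701 : act 1 n201257 = n197141 := d15_1 D201257 F403233 (iv2 F359852)
theorem F419702 : act 7 n201257 = n133481 := d15_2 (iv0 F338695) D201257 F214666
theorem F419703 : act 5 n201257 = n144999 := d17_7 (iv1 F155256) (iv5 F123944) F206591 (iv5 D128454) (iv4 F347672) F347673 D201257 (iv0 D144999) F104088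
theorem F419704 : act 4 n201257 = n188892 := d17_9 (iv1 F405039) F405042 (iv1 F374888) (iv5 D164264) F120104 (iv5 F106104) (iv0 F347669) F347673 D201257
theorem F419705 : act 3 n114228 = n201257 := d19_19 (iv1 D201257) (iv5 F347673) F347672 D128452 (iv1 F393507) F393504 F162736 (iv3 F312016) (iv1 F128705) D83694 D175264 (iv3 F363837) F312305 D154956 (iv4 F333326) (iv3 F145328) F161632 D92880 (iv4 F178018)
theorem F419706 : act 6 n152510 = n201257 := d21_3 (iv5 F176797) (iv1 F361695) F359188 (iv1 D201257) (iv6 D114206) D114205 D201255 F419691 (iv6 D195861) F359178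
def n201258 : Q := act 0 n114211
theorem D201258 : act 0 n114211 = n201258 := rfl
theorem F419707 : act 5 n201258 = n152393 := d17_1 D201258 (iv1 F375422) F375420 F348528 (iv5 D73935) F87245 D119841 F189146 (iv4 F356297)
theorem F419708 : act 4 n201258 = n173481 := d18_3 D73942 (iv4 F356297) D201258 F271940 F310720 (iv0 F184590) F108363 (iv0 F184593) D33946
theorem F419709 : act 6 n201258 = n152498 := d21_5 (iv5 F419691) (iv1 F419693) (iv5 D114210) D114211 D201258 F239680 (iv1 F143477) F143470 D114072 F398508
theorem F419710 : act 2 n188109 = n201258 := d15_3 (iv0 D201258) F419674 (iv7 F372341)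
theorem F419711 : act 3 n201258 = n114239 := d0_2 (iv3 F372339) F419710 F193506 (iv3 F369122) F369121
theorem F419712 : act 7 n201258 = n152443 := d4_2 (iv7 F372341) F419710 (iv2 F258968)
theorem F419713 : act 1 n155470 = n201258 := d15_1 (iv0 F346134) F419712 (iv2 F258968)
def n201259 : Q := act 5 n114211
theorem D201259 : act 5 n114211 = n201259 := rfl
theorem F419714 : act 3 n201259 = n151707 := d6_1 D201259 (iv5 F355811) (iv3 F356296)
theorem F419715 : act 6 n201259 = n151704 := d12_2 D114211 D201259 (iv5 D151704) (iv6 F355192) (iv5 D114210)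
theorem F419716 : act 4 n201259 = n155502 := d16_2 (iv4 F356297) D201259 (iv5 D155502) D155501 F244515 F239903 (iv5 F189145) (iv7 F233310) (iv2 F233311)
theorem F419717 : act 0 n201259 = n114997 := d17_2 (iv1 F419674) D201259 (iv5 D114997) (iv4 F179066) F335511 (iv0 F259385) (iv5 F419678) (iv0 F419679) (iv4 F346135)
theorem F419718 : act 1 n201259 = n201180 := d17_6 (iv1 F348644) (iv5 F324083) (iv1 F244463) (iv5 D155467) (iv4 F356297) D201259 (iv5 D201180) (iv0 D114055) (iv4 F177555)
def n201260 : Q := act 7 n114211
theorem D201260 : act 7 n114211 = n201260 := rfl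
theorem F419719 : act 2 n201260 = n155470 := d4_1 D201260 (iv7 F419672) F419669
theorem F419720 : act 3 n201260 = n194284 := d8_1 D201260 F392649 (iv3 F356296)
theorem F419721 : act 4 n201260 = n119850 := d11_1 D201260 (iv7 F233309) (iv4 F356297)
theorem F419722 : act 6 n201260 = n197141 := d14_1 D201260 F403233 F258971 F352130 D114211
theorem F419723 : act 1 n152443 = n201260 := d15_1 (iv0 F419675) (iv7 D201260) (iv2 F419669)
theorem F419724 : act 1 n201260 = n188109 := d15_1 F419723 F372341 F258968
def n201261 : Q := act 0 n114221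
theorem D201261 : act 0 n114221 = n201261 := rfl
theorem F419725 : act 5 n201261 = n127208 := d17_1 D201261 F204488 D145519 (iv4 F402366) (iv5 D196938) (iv0 D107482) (iv5 F103448) (iv0 F306958) F331567
theorem F419726 : act 4 n201261 = n190022 := d18_1 D201261 (iv1 F378594) F340516 F225742 F321034 (iv0 D66086) (iv4 F101742) F320521 D114221
theorem F419727 : act 0 n190751 = n190390 := d20_4 (iv4 D103009) (iv1 F151170) (iv4 F357465) (iv3 F380912) (iv3 D190390) F331567 D201261 F419726 F378592 F355823
theorem F419728 : act 2 n190502 = n201261 := d15_3 (iv0 D201261) (iv0 F350240) D190502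
theorem F419729 : act 1 n190391 = n201261 := d15_0 (iv0 D201261) F331569 (iv2 F379649)
theorem F419730 : act 7 n201261 = n190019 := d15_2 (iv0 F379652) F419729 F378577
theorem F419731 : act 6 n190525 = n201261 := d21_9 F379650 F318237 (iv5 F164508) (iv6 D106725) (iv1 F82412) D112938 F175887 D197018 F402703 (iv1 F419729)
theorem F419732 : act 3 n201261 = n151666 := d7_1 F419731 F355689 (iv3 F379992)
theorem F419733 : act 0 n188522 = n194198 := d20_4 (iv4 D71475) D71473 D151657 F377160 F392355 (iv4 F363581) (iv1 F378595) (iv4 F419726) F419732 (iv1 D151666)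
theorem E103825 : n199661 = n188303 := (c19_13 (iv1 F204489) (iv5 F419725) F419726 F378592 F355823 F355630 F181718 (iv3 D66228) (iv1 D30950) D30952 D66235 (iv3 F173111) D199661 (iv5 F373032) F239698 F108441 (iv1 F94480) (iv5 F83353) (iv4 F83210) F325367)
theorem F419734 : act 1 n188303 = n111572 := (sb E103825 (iv0 D199661))
def n201262 : Q := act 6 n114221
theorem D201262 : act 6 n114221 = n201262 := rfl
theorem F419735 : act 2 n201262 = n201233 := d3_1 D201262 F419564 (iv2 F331568)
theorem F419736 : act 3 n201262 = n114226 := d7_1 D201262 (iv6 D114226) (iv3 F178002)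
theorem F419737 : act 4 n201262 = n190348 := d10_1 D201262 F379493 F331567
theorem F419738 : act 5 n201262 = n170585 := d12_1 D201262 (iv6 D170585) F125726 (iv6 F313105) D114221
theorem F419739 : act 0 n201262 = n159593 := d21_4 F164508 F290344 D114221 D201262 (iv6 F415766) F415763 (iv1 F288974) (iv5 F376753) F376754 (iv1 F331570)
theorem F419740 : act 1 n201262 = n130574 := d15_1 (iv0 F419739) (iv7 F214423) (iv2 F335868)
def n201263 : Q := act 4 n114224
theorem D201263 : act 4 n114224 = n201263 := rfl
theorem F419741 : act 2 n201263 = n116971 := d1_1 D201263 (iv4 F396215) F396217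
theorem F419742 : act 5 n201263 = n116970 := d9_2 F178008 D201263 F182837 (iv5 F224977) F339989 F178549 F177830 D106190 F331469 (iv5 D67491) F49630 D65953 (iv4 F326282) F178915 F178914
theorem F419743 : act 6 n201263 = n198822 := d10_2 (iv6 F178009) D201263 (iv4 F409411)
theorem F419744 : act 7 n201263 = n144045 := d11_2 (iv7 F178007) D201263 (iv4 F331467)
theorem F419745 : act 0 n201263 = n114397 := d17_0 F331514 (iv1 D60460) D60462 F331475 F82498 F76722 D52721 D114224 D201263
theorem F419746 : act 1 n201263 = n114407 := d18_6 D53063 (iv4 F324271) (iv1 F325416) F178914 F178008 D201263 (iv4 D114407) F161748 (iv5 D53065)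
theorem F419747 : act 3 n201263 = n144083 := d20_3 (iv4 D114237) (iv1 F178006) D201263 (iv1 F365104) F227355 (iv4 F331684) F357483 (iv4 D142483) D142482 (iv1 F340491)
def n201264 : Q := act 1 n114225
theorem D201264 : act 1 n114225 = n201264 := rfl
theorem F419748 : act 1 n201264 = n114237 := d15_1 D201264 (iv7 F382318) F382314
theorem F419749 : act 7 n201264 = n115006 := d15_2 (iv0 F340495) D201264 F340494
theorem F419750 : act 5 n201264 = n137132 := d17_7 (iv1 F180116) (iv5 F224977) (iv1 F331563) (iv5 F331553) (iv4 F340497) (iv5 F340496) D201264 F223668 (iv4 D140516)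
theorem F419751 : act 4 n201264 = n115007 := d17_9 (iv1 F179080) (iv5 D105402) (iv1 F76743) (iv5 F83399) (iv4 F178450) F331560 D142470 (iv5 F340496) D201264
theorem F419752 : act 2 n144170 = n201264 := d1_3 F419751 F179078 (iv4 F331566)
theorem F419753 : act 6 n133662 = n201264 := d10_0 F419751 (iv6 F179082) D133662
theorem F419754 : act 3 n201264 = n137133 := d19_3 (iv1 F161861) (iv5 F179079) (iv4 F419751) F386006 (iv5 D192209) F153748 (iv3 F333109) (iv1 D30187) D30189 F323861 F163915 F48027 (iv5 D14682) D14681 D31034 F319170 D31231 D67099 (iv3 F324995)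
def n201265 : Q := act 3 n114225
theorem D201265 : act 3 n114225 = n201265 := rfl
theorem F419755 : act 2 n201265 = n144123 := d0_1 D201265 F392704 F381016 (iv3 F382315) F382314
theorem F419756 : act 4 n201265 = n190390 := d5_2 D114225 D201265 (iv3 D190390) F331567 F178002
theorem F419757 : act 5 n201265 = n143968 := d6_2 (iv5 F340496) D201265 F340501
theorem F419758 : act 7 n201265 = n144122 := d8_2 F396220 D201265 F396223
theorem F419759 : act 0 n201265 = n144116 := d20_10 (iv4 F365102) (iv1 D128575) D128576 F206802 (iv1 F365097) (iv3 F419747) (iv4 D201263) (iv1 D114224) D114225 D201265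
theorem F419760 : act 0 n116993 = n201265 := d20_4 F94999 (iv1 F85025) (iv4 F85038) (iv3 F182906) (iv3 D201265) (iv4 D114225) F163182 F331469 F103354 (iv1 F95001)
theorem F419761 : act 0 n191061 = n190341 := d21_1 (iv5 F382047) F379464 D194305 F392774 (iv6 D116994) D116993 F419760 F419757 F347197 (iv1 F219371)
def n201266 : Q := act 7 n114226
theorem D201266 : act 7 n114226 = n201266 := rfl
theorem F419762 : act 5 n201266 = n201236 := d13_1 D201266 (iv7 D201236) (iv5 F178012)
theorem F419763 : act 6 n201266 = n133398 := d14_1 D201266 F214479 F209167 F178229 D114226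
theorem F419764 : act 1 n164458 = n201266 := d15_1 F290528 (iv7 D201266) (iv2 F290529)
theorem F419765 : act 1 n201266 = n164460 := d15_1 F419764 (iv7 F419336) F419335
def n201267 : Q := act 0 n114235
theorem D201267 : act 0 n114235 = n201267 := rfl
theorem F419766 : act 5 n201267 = n144913 := d17_3 (iv1 D114232) D114235 D201267 (iv4 F229239) F229240 F169472 (iv5 F338517) F318861 (iv4 F321241)
theorem F419767 : act 3 n201267 = n144914 := d20_5 (iv4 F340493) (iv1 F340491) (iv4 D114237) (iv3 F178029) D201267 (iv4 F227943) (iv1 D144974) (iv4 F104092) (iv3 F321213) F161905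
theorem F419768 : act 6 n201267 = n195001 := d21_5 D189516 (iv1 F399026) (iv5 D196001) (iv6 F364647) D201267 (iv5 F395353) (iv1 D190011) (iv5 F147656) (iv6 F395357) (iv1 D189515)
theorem F419769 : act 1 n195647 = n201267 := d15_0 (iv0 D201267) (iv7 F364649) (iv2 F397717)
def n201268 : Q := act 6 n114237
theorem D201268 : act 6 n114237 = n201268 := rfl
theorem F419770 : act 2 n201268 = n199886 := d3_1 D201268 F413979 F396218
theorem F419771 : act 3 n201268 = n132115 := d7_1 D201268 (iv6 F382342) F382341
theorem F419772 : act 4 n201268 = n114238 := d10_1 D201268 (iv6 D114238) D114237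
theorem F419773 : act 5 n201268 = n199881 := d12_1 D201268 (iv6 D199881) (iv5 F401444) F401445 F331558
theorem F419774 : act 0 n130546 = n201268 := d21_4 (iv5 D34258) (iv1 F46627) D61251 D130546 (iv6 D201268) (iv5 F331558) (iv1 F396263) (iv5 D195207) F161752 F76749
def n201269 : Q := act 5 n114238
theorem D201269 : act 5 n114238 = n201269 := rfl
theorem F419775 : act 3 n201269 = n196001 := d6_1 D201269 (iv5 D196001) F364646
theorem F419776 : act 6 n201269 = n114241 := d12_2 D114238 D201269 (iv5 D114241) (iv6 D52727) D52726
theorem F419777 : act 0 n189741 = n201269 := d19_0 (iv5 D201269) (iv4 F419772) F419771 (iv1 D132115) D132116 (iv4 F334251) (iv3 F368270) F368272 (iv5 F363198) F200282 F314457 (iv1 F312244) F312246 (iv4 F100927) (iv3 F167822) (iv1 F167826) (iv5 F370795) F370794 (iv3 F377587)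
def n201270 : Q := act 4 n114241
theorem D201270 : act 4 n114241 = n201270 := rfl
theorem F419778 : act 0 n201270 = n115025 := d17_0 (iv5 F417405) F417403 (iv5 D195844) (iv4 D106344) (iv5 D49144) (iv0 F177627) D53059 (iv0 F178037) D201270
theorem F419779 : act 1 n201270 = n115017 := d18_6 (iv1 F178446) (iv4 F177782) (iv1 F178034) (iv4 F114633) D114241 D201270 (iv4 D115017) D115016 F179105
def n201271 : Q := act 6 n114243
theorem D201271 : act 6 n114243 = n201271 := rfl
theorem F419780 : act 2 n201271 = n115082 := d3_1 D201271 (iv6 D115082) (iv2 F178041)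
theorem F419781 : act 3 n201271 = n119097 := d7_1 D201271 F187363 (iv3 F178042)
theorem F419782 : act 4 n201271 = n198241 := d10_1 D201271 F407323 F370663
theorem F419783 : act 5 n201271 = n119064 := d12_1 D201271 (iv6 D119064) F86692 (iv6 F83314) D114243
theorem F419784 : act 0 n201271 = n152515 := d21_4 (iv5 D159369) (iv1 F114224) D114243 D201271 (iv6 F387475) (iv5 F392253) F400392 (iv5 F398542) (iv6 D195869) (iv1 F250902)
theorem F419785 : act 1 n201271 = n146552 := d15_1 (iv0 F419784) (iv7 F231786) (iv2 F346144)
def n201272 : Q := act 3 n114245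
theorem D201272 : act 3 n114245 = n201272 := rfl
theorem F419786 : act 2 n201272 = n196926 := d0_1 D201272 (iv3 D196926) F172036 F371600 (iv2 F371599)
theorem F419787 : act 4 n201272 = n152534 := d5_2 D114245 D201272 (iv3 D152534) (iv4 D71941) (iv3 F83315)
theorem F419788 : act 5 n128502 = n201272 := d2_0 F419786 F402325 F346509
def n201273 : Q := act 5 n114245
theorem D201273 : act 5 n114245 = n201273 := rfl
theorem F419789 : act 2 n201273 = n196449 := d2_1 D201273 F400716 (iv2 F371599)
theorem F419790 : act 3 n201273 = n128502 := d6_1 D201273 F419788 (iv3 D201272)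
theorem F419791 : act 7 n201273 = n196481 := d13_2 (iv7 F371596) D201273 F400793
theorem F419792 : act 0 n201273 = n187839 := d17_2 F370652 D201273 (iv5 D187839) (iv4 D90600) (iv5 F65506) F83457 D114443 F178484 D187517
theorem F419793 : act 1 n201273 = n187833 := d17_6 (iv1 F178043) (iv5 D114243) (iv1 D52728) D52729 D114245 D201273 (iv5 D187833) D187831 F371634
theorem F419794 : act 6 n174577 = n201273 := d7_0 F419790 F339206 D174577
def n201274 : Q := act 6 n114246
theorem D201274 : act 6 n114246 = n201274 := rfl
theorem F419795 : act 2 n201274 = n147368 := d3_1 D201274 F343331 (iv2 F178053)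
theorem F419796 : act 3 n201274 = n114247 := d7_1 D201274 (iv6 D114247) D114246
theorem F419797 : act 4 n201274 = n147049 := d10_1 D201274 F343336 (iv4 F178054)
theorem F419798 : act 7 n147363 = n201274 := d11_0 F419797 F343337 D147363
theorem F419799 : act 0 n180610 = n201274 := d18_0 F419797 (iv1 F230527) (iv4 F184081) (iv5 F365528) (iv4 F401434) F401803 (iv4 F221112) F391509 (iv5 F391510)
theorem F419800 : act 1 n198713 = n201274 := d18_6 F413002 F413001 (iv1 D113166) (iv4 F93176) (iv5 F169908) (iv4 F408964) F419797 (iv0 D147049) (iv5 F205186)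
def n201275 : Q := act 1 n114247
theorem D201275 : act 1 n114247 = n201275 := rfl
theorem F419801 : act 1 n201275 = n114269 := d15_1 D201275 (iv7 D114269) (iv2 F178058)
theorem F419802 : act 7 n201275 = n114266 := d15_2 (iv0 F369531) D201275 (iv2 F369528)
theorem F419803 : act 4 n188598 = n201275 := d20_0 (iv1 D201275) F178059 F83319 D71839 F316764 (iv4 F94328) (iv1 F114731) F114732 (iv3 F184183) (iv1 F374155)
theorem F419804 : act 3 n117778 = n201275 := d20_3 (iv4 F320907) F320906 (iv4 F184463) (iv1 D201275) (iv3 F419796) F419797 (iv1 F230527) (iv4 F184081) F184080 (iv1 F85511)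
theorem F419805 : act 2 n201275 = n114267 := d0_1 F419804 (iv3 F355542) (iv2 F355534) (iv3 F204403) (iv2 F184466)
def n201276 : Q := act 5 n114247
theorem D201276 : act 5 n114247 = n201276 := rfl
theorem F419806 : act 2 n201276 = n114268 := d2_1 D201276 (iv5 D114268) (iv2 F178058)
theorem F419807 : act 6 n201276 = n177655 := d12_2 D114247 D201276 F342120 (iv6 D153322) F108949
theorem F419808 : act 4 n201276 = n177656 := d16_2 (iv4 F178059) D201276 F277103 (iv4 F280783) (iv5 F413378) (iv4 F413380) F178124 (iv7 D52744) (iv2 F83318)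
def n201277 : Q := act 7 n114247
theorem D201277 : act 7 n114247 = n201277 := rfl
theorem F419809 : act 2 n201277 = n114269 := d4_1 D201277 (iv7 D114269) (iv2 F178058)
theorem F419810 : act 3 n201277 = n147363 := d8_1 D201277 F419798 F419796
theorem F419811 : act 4 n201277 = n114250 := d11_1 D201277 (iv7 D114250) (iv4 F178059)
theorem F419812 : act 1 n114267 = n201277 := d15_1 D114267 (iv7 D201277) F178058
theorem F419813 : act 1 n201277 = n114266 := d15_1 F419812 (iv7 F419802) F419805
def n201278 : Q := act 0 n114249
theorem D201278 : act 0 n114249 = n201278 := rfl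
theorem F419814 : act 4 n201278 = n133972 := d20_8 F80971 (iv1 F80592) F80590 (iv3 F80208) D110281 D198799 F409298 D201278 F215899 F98183
theorem F419815 : act 6 n201278 = n189549 := d21_5 (iv5 D114251) (iv1 D52732) D52733 (iv6 F178066) D201278 (iv5 F411627) (iv1 D195997) D195998 F399013 F178074
theorem F419816 : act 2 n114276 = n201278 := d15_3 (iv0 D201278) (iv0 F419502) (iv7 F419504)
theorem F419817 : act 1 n114279 = n201278 := d15_0 (iv0 D201278) (iv7 F413382) F413381
theorem F419818 : act 7 n201278 = n114277 := d15_2 (iv0 F419503) F419817 (iv2 F419500)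
theorem F419819 : act 3 n119209 = n201278 := d19_19 (iv1 F419817) F178124 (iv4 F178117) F178116 (iv1 F338500) F329157 F102074 (iv3 D31034) F47605 D14724 D31160 D66880 (iv1 F323720) (iv5 D142350) F102947 F180474 (iv1 D115919) D115921 (iv4 F363999)
def n201279 : Q := act 4 n114251
theorem D201279 : act 4 n114251 = n201279 := rfl
theorem F419820 : act 2 n201279 = n114281 := d1_1 D201279 (iv4 D114281) (iv2 F178071)
theorem F419821 : act 7 n201279 = n114280 := d11_2 (iv7 F178073) D201279 (iv4 D114280)
theorem F419822 : act 0 n201279 = n187804 := d17_0 (iv5 F371556) F359360 F349169 (iv4 D114287) (iv5 F83344) (iv0 F138878) D187516 F370649 D201279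
theorem F419823 : act 1 n201279 = n159348 := d18_6 F76683 (iv4 F55038) D76234 F114222 D114251 D201279 (iv4 D159348) (iv0 F114398) (iv5 D52817)
theorem F419824 : act 6 n199584 = n201279 := d21_9 (iv5 F371556) F359360 F349169 F178142 F142849 D188646 (iv5 F412766) (iv1 D199583) D199584 F419822
theorem F419825 : act 3 n201279 = n199587 := d7_1 F419824 (iv6 D199587) (iv3 F412768)
def n201280 : Q := act 6 n114251
theorem D201280 : act 6 n114251 = n201280 := rfl
theorem F419826 : act 2 n201280 = n114282 := d3_1 D201280 (iv6 D114282) (iv2 F178071)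
theorem F419827 : act 3 n201280 = n118869 := d7_1 D201280 (iv6 D118869) (iv3 F178072)
theorem F419828 : act 4 n201280 = n199584 := d10_1 D201280 F419824 (iv4 D201279)
theorem F419829 : act 5 n201280 = n188733 := d12_1 D201280 (iv6 D188733) (iv5 D92732) F83324 D114251
theorem F419830 : act 7 n201280 = n199714 := d14_2 (iv7 F178073) D201280 F413225 (iv7 F374397) (iv6 F143467)
theorem F419831 : act 0 n199703 = n201280 := d17_0 F419829 F413479 (iv5 D199781) (iv4 D111725) (iv5 F171651) D199005 (iv5 F412213) F412212 D199703
theorem F419832 : act 0 n201280 = n199443 := d21_1 (iv5 F419829) (iv5 F412228) F374734 (iv1 D188754) (iv6 D92747) (iv5 F69116) (iv1 F290986) D89607 D187149 F374629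
theorem F419833 : act 1 n189021 = n199443 := d15_0 (iv0 F419832) F419830 (iv2 F413226)
theorem F419834 : act 1 n199703 = n189021 := d15_0 F419833 F412227 (iv2 F413177)
def n201281 : Q := act 6 n114252
theorem D201281 : act 6 n114252 = n201281 := rfl
theorem F419835 : act 2 n201281 = n114285 := d3_1 D201281 (iv6 D114285) F178076
theorem F419836 : act 3 n201281 = n119216 := d7_1 D201281 (iv6 D119216) (iv3 F178140)
theorem F419837 : act 5 n201281 = n152547 := d12_1 D201281 (iv6 D152547) (iv5 F138568) F139479 (iv5 F178075)
theorem F419838 : act 7 n201281 = n188665 := d14_2 (iv7 F178077) D201281 (iv6 D188665) F142695 (iv6 F83346)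
theorem F419839 : act 1 n188978 = n201281 := d15_1 D188978 F419838 F374347
theorem F419840 : act 1 n201281 = n188977 := d15_0 (iv0 D188977) (iv7 F178133) (iv2 F419835)
def n201282 : Q := act 5 n114253
theorem D201282 : act 5 n114253 = n201282 := rfl
theorem F419841 : act 2 n201282 = n114290 := d2_1 D201282 (iv5 D114290) (iv2 F178079)
theorem F419842 : act 3 n201282 = n178169 := d6_1 D201282 (iv5 F409306) F409304
theorem F419843 : act 6 n201282 = n178158 := d12_2 (iv6 F409302) D201282 F277712 (iv6 F324532) (iv5 F409299)
theorem F419844 : act 7 n201282 = n154710 := d13_2 F178082 D201282 (iv5 F242890)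
theorem F419845 : act 4 n201282 = n187839 := d16_2 D114253 D201282 (iv5 D187839) (iv4 D90600) (iv5 F65506) F40546 (iv5 F83348) (iv7 D52750) (iv2 F83325)
theorem F419846 : act 0 n201282 = n147914 := d17_2 (iv1 F178081) D201282 F374974 (iv4 D188810) (iv5 F143179) (iv0 F76726) D53085 (iv0 F83787) D90587
theorem F419847 : act 1 n201282 = n154711 := d17_6 F178074 (iv5 D114251) (iv1 D52732) D52733 D114253 D201282 F374969 (iv0 F399019) (iv4 D196000)
def n201283 : Q := act 4 n114255
theorem D201283 : act 4 n114255 = n201283 := rfl
theorem F419848 : act 2 n201283 = n153955 := d1_1 D201283 F336932 (iv2 F336955)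
theorem F419849 : act 6 n201283 = n192321 := d10_2 F370318 D201283 F386419
theorem F419850 : act 7 n201283 = n153956 := d11_2 F336954 D201283 (iv4 F336956)
theorem F419851 : act 5 n201283 = n188741 := d16_1 D201283 F374658 F143000 (iv4 F370355) (iv5 F394444) F394445 (iv5 F332616) F177877 (iv2 F336955)
theorem F419852 : act 1 n201283 = n114264 := d18_6 (iv1 F371225) F371221 (iv1 D110806) (iv4 F98897) (iv5 F332256) D201283 (iv4 F251177) (iv0 F355335) (iv5 F355334)
theorem F419853 : act 0 n201283 = n153958 := d20_1 D201283 (iv4 F364186) (iv3 D173672) (iv1 F128006) F332644 (iv4 F332263) (iv1 D123228) F90553 F88616 D114255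
def n201284 : Q := act 4 n114257
theorem D201284 : act 4 n114257 = n201284 := rfl
theorem F419854 : act 2 n201284 = n201043 := d1_1 D201284 F418855 (iv2 F178090)
theorem F419855 : act 6 n201284 = n137872 := d10_2 (iv6 F178091) D201284 F221091
theorem F419856 : act 1 n201284 = n153957 := d18_8 D153955 F336932 F336935 (iv4 F198027) F329683 F98314 (iv0 F355669) D201284 (iv5 D153957)
theorem F419857 : act 3 n134092 = n201284 := d20_5 (iv4 D14163) D14162 D29801 D62990 D134092 (iv4 D201284) F355669 (iv4 F98314) (iv3 D62999) (iv1 D29804)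
def n201285 : Q := act 7 n114259
theorem D201285 : act 7 n114259 = n201285 := rfl
theorem F419858 : act 2 n201285 = n138276 := d4_1 D201285 (iv7 F329103) (iv2 F178097)
theorem F419859 : act 4 n201285 = n114263 := d11_1 D201285 (iv7 D114263) (iv4 F178098)
theorem F419860 : act 5 n201285 = n138275 := d13_1 D201285 (iv7 F245965) (iv5 F356544)
theorem F419861 : act 6 n201285 = n201196 := d14_1 D201285 (iv7 D201196) (iv6 D114104) (iv7 F83336) D114259
theorem F419862 : act 1 n199299 = n201285 := d15_1 (iv0 F411550) (iv7 D201285) F178097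
theorem F419863 : act 1 n201285 = n199304 := d15_1 F419862 (iv7 D199304) (iv2 F411547)
def n201286 : Q := act 4 n114262
theorem D201286 : act 4 n114262 = n201286 := rfl
theorem F419864 : act 2 n201286 = n201193 := d1_1 D201286 (iv4 D201193) (iv2 F178102)
theorem F419865 : act 6 n201286 = n189303 := d10_2 (iv6 F178103) D201286 F376377
def n201287 : Q := act 5 n114264
theorem D201287 : act 5 n114264 = n201287 := rfl
theorem F419866 : act 2 n201287 = n153957 := d2_1 D201287 (iv5 D153957) (iv2 F178113)
theorem F419867 : act 3 n201287 = n198983 := d6_1 D201287 (iv5 F410166) F335176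
theorem F419868 : act 6 n201287 = n153953 := d12_2 D114264 D201287 (iv5 D153953) (iv6 D72859) (iv5 F87746)
theorem F419869 : act 4 n201287 = n201041 := d16_4 F364336 (iv5 F251178) F251177 D201287 F418847 F368674 (iv5 F368672) F327811 (iv2 F364335)
theorem F419870 : act 0 n201287 = n201043 := d17_2 F251274 D201287 (iv5 F418856) F391103 (iv5 D133454) (iv0 F355669) (iv5 D114257) F332618 D159543
def n201288 : Q := act 7 n114264
theorem D201288 : act 7 n114264 = n201288 := rfl
theorem F419871 : act 2 n201288 = n153958 := d4_1 D201288 (iv7 D153958) (iv2 F178113)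
theorem F419872 : act 1 n153956 = n201288 := d15_1 D153956 (iv7 D201288) F178113
theorem F419873 : act 1 n201288 = n153955 := d15_1 F419872 (iv7 F336934) (iv2 F336957)
def n201289 : Q := act 5 n114265
theorem D201289 : act 5 n114265 = n201289 := rfl
theorem F419874 : act 2 n201289 = n138305 := d2_1 D201289 F396191 F396186
theorem F419875 : act 3 n201289 = n124686 := d6_1 D201289 (iv5 D124686) (iv3 F178114)
theorem F419876 : act 6 n201289 = n124682 := d12_2 D114265 D201289 (iv5 D124682) (iv6 D58266) (iv5 F87743)
theorem F419877 : act 4 n201289 = n130566 := d19_2 F416271 D201289 (iv3 D130566) (iv1 D61259) D61261 D130574 F209150 (iv1 F162602) F335873 (iv4 F311218) F311217 (iv1 F233856) (iv5 F205842) F305166 (iv3 D38583) (iv1 F59394) (iv5 F128713) (iv4 F274186) (iv3 F416269)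
def n201290 : Q := act 7 n114265
theorem D201290 : act 7 n114265 = n201290 := rfl
theorem F419878 : act 3 n201290 = n124687 := d8_1 D201290 (iv7 D124687) (iv3 F178114)
theorem F419879 : act 4 n201290 = n189422 := d11_1 D201290 F376573 F251185
theorem F419880 : act 6 n201290 = n153958 := d14_1 D201290 (iv7 D153958) (iv6 D72860) (iv7 F87744) D114265
theorem F419881 : act 1 n193813 = n201290 := d15_1 (iv0 F396190) (iv7 D201290) (iv2 F396186)
theorem F419882 : act 1 n201290 = n175167 := d15_1 F419881 (iv7 F416273) F416268
def n201291 : Q := act 5 n114266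
theorem D201291 : act 5 n114266 = n201291 := rfl
theorem F419883 : act 2 n201291 = n137709 := d2_1 D201291 F369534 F369528
theorem F419884 : act 3 n201291 = n143141 := d6_1 D201291 F226001 (iv3 F361672)
theorem F419885 : act 4 n201291 = n137304 := d18_5 (iv1 F347721) (iv4 F314507) F161810 (iv4 F361673) D201291 (iv0 D137304) F100481 D64577 D137384
theorem F419886 : act 0 n201291 = n176167 := d18_0 F275409 D176168 (iv4 F349936) F349949 (iv4 D114273) F178069 (iv4 F419811) F419813 D201291
theorem F419887 : act 0 n137873 = n201291 := d20_10 F419885 (iv1 F365458) F156952 F74566 D47391 (iv3 F349492) (iv4 F334855) (iv1 D127148) (iv4 F102783) (iv3 F221094)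
def n201292 : Q := act 6 n114267
theorem D201292 : act 6 n114267 = n201292 := rfl
theorem F419888 : act 4 n201292 = n187211 := d10_1 D201292 (iv6 F369538) F369537
theorem F419889 : act 7 n201292 = n187209 := d14_2 (iv7 F369535) D201292 (iv6 D187209) (iv7 F137764) D187213
theorem F419890 : act 5 n186876 = n201292 := d13_3 F419889 (iv5 F388124) F388123
theorem F419891 : act 1 n201292 = n192321 := d17_6 (iv1 D89349) (iv5 D41727) D41725 D89341 D186876 F419890 (iv5 D192321) (iv0 F368407) (iv4 D186883)
def n201293 : Q := act 0 n114268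
theorem D201293 : act 0 n114268 = n201293 := rfl
def n201294 : Q := act 1 n114268
theorem D201294 : act 1 n114268 = n201294 := rfl
def n201295 : Q := act 7 n114268
theorem D201295 : act 7 n114268 = n201295 := rfl
theorem F419892 : act 3 n201295 = n151611 := d8_1 D201295 (iv7 D151611) (iv3 F178115)
theorem F419893 : act 4 n201295 = n177675 := d11_1 D201295 (iv7 D177675) (iv4 F339097)
theorem F419894 : act 5 n201295 = n114269 := d13_1 D201295 (iv7 D114269) D114268
def n201296 : Q := act 4 n114270
theorem D201296 : act 4 n114270 = n201296 := rfl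
theorem F419895 : act 2 n201296 = n118746 := d1_1 D201296 F347732 F347730
theorem F419896 : act 3 n201296 = n123250 := d5_1 D201296 F355551 (iv3 F355543) (iv4 D114271) D114270
theorem F419897 : act 6 n201296 = n188585 := d10_2 (iv6 F178118) D201296 (iv4 D188585)
theorem F419898 : act 7 n201296 = n118747 := d11_2 (iv7 F347724) D201296 (iv4 F347725)
theorem F419899 : act 0 n201296 = n118749 := d18_2 (iv1 F349954) D201296 F186806 (iv5 F186812) (iv4 F351273) F386972 (iv4 F239073) (iv0 F386971) (iv5 D127955)
theorem F419900 : act 0 n118701 = n201296 := d20_1 (iv4 F186700) (iv4 D201296) (iv3 D114270) (iv1 F178070) F178068 (iv4 F321008) F321005 (iv4 F347808) F347807 (iv1 D118703)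
theorem F419901 : act 5 n188585 = n159715 := d21_6 (iv5 F52183) (iv1 F52324) (iv5 F86416) D118701 F419900 F419897 (iv1 D159715) (iv5 D76410) (iv6 D34914) (iv1 F52182)
def n201297 : Q := act 6 n114273
theorem D201297 : act 6 n114273 = n201297 := rfl
theorem F419902 : act 3 n201297 = n148535 := d7_1 D201297 F233294 F349948
theorem F419903 : act 4 n201297 = n114275 := d10_1 D201297 (iv6 D114275) D114273
theorem F419904 : act 7 n201297 = n188577 := d14_2 (iv7 F349946) D201297 (iv6 D188577) F142394 (iv6 F347716)
theorem F419905 : act 0 n192895 = n201297 := d21_4 (iv5 D110808) (iv1 F364200) F364202 (iv6 F388129) (iv6 D201297) (iv5 F349949) (iv1 D137365) D137366 (iv6 F368710) (iv1 F370360)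
theorem F419906 : act 5 n201297 = n192311 := d17_3 F386409 D192895 F419905 (iv4 D192311) (iv5 D100049) (iv0 D46717) D46719 D100057 D192318
theorem F419907 : act 3 n200190 = n192321 := d20_5 F105889 (iv1 F181022) D146690 F366007 D200190 F386419 (iv1 F370321) (iv4 F419903) F419902 (iv1 D148535)
theorem F419908 : act 5 n192320 = n200190 := d6_0 F419907 (iv5 D192321) D192320
def n201298 : Q := act 4 n114276
theorem D201298 : act 4 n114276 = n201298 := rfl
theorem F419909 : act 2 n201298 = n133972 := d1_1 D201298 (iv4 F419814) (iv2 F419816)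
theorem F419910 : act 3 n201298 = n199562 := d5_1 D201298 (iv4 F412679) F239071 (iv4 F239073) (iv3 F386973)
theorem F419911 : act 5 n201298 = n133971 := d9_2 F419507 D201298 F215894 (iv5 F346469) F346468 F360704 (iv4 F419431) F419432 F353545 F172893 (iv4 F82192) D112705 D200151 F415264 (iv4 F419506)
theorem F419912 : act 7 n201298 = n199559 := d11_2 (iv7 F419504) D201298 (iv4 F419501)
theorem F419913 : act 0 n201298 = n199509 := d17_0 (iv5 D199509) (iv1 D111378) D111380 F349941 (iv5 D114274) F178069 (iv5 F413383) F413386 D201298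
theorem F419914 : act 1 n201298 = n199507 := d18_8 (iv1 F360701) (iv4 D180462) (iv1 D86186) (iv4 F132135) (iv5 F326447) D199763 F413386 D201298 (iv5 D199507)
def n201299 : Q := act 6 n114277
theorem D201299 : act 6 n114277 = n201299 := rfl
theorem F419915 : act 4 n201299 = n199560 := d10_1 D201299 (iv6 D199560) (iv4 F353545)
theorem F419916 : act 5 n201299 = n189024 := d12_1 D201299 F375454 F347659 D201202 F419432
def n201300 : Q := act 6 n114279
theorem D201300 : act 6 n114279 = n201300 := rfl
theorem F419917 : act 3 n201300 = n114333 := d7_1 D201300 (iv6 D114333) (iv3 F178123)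
theorem F419918 : act 5 n201300 = n200368 := d12_1 D201300 (iv6 D200368) F176087 F161719 (iv5 F178124)
theorem F419919 : act 7 n201300 = n114292 := d14_2 D114279 D201300 (iv6 D114292) (iv7 D52750) (iv6 F83342)
def n201301 : Q := act 0 n114282
theorem D201301 : act 0 n114282 = n201301 := rfl
theorem F419920 : act 2 n199443 = n201301 := d15_3 (iv0 D201301) (iv0 F371121) (iv7 F412227)
theorem F419921 : act 1 n199714 = n201301 := d15_0 (iv0 D201301) (iv7 F375442) F413226
theorem F419922 : act 7 n201301 = n199703 := d15_2 D199714 F419921 F413177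
theorem F419923 : act 4 n201301 = n199439 := d18_7 (iv1 F410293) F410290 (iv1 F414033) F414029 (iv5 F413036) F413224 F419921 F412205 (iv5 F412064)
theorem F419924 : act 3 n114343 = n201301 := d5_5 F419923 F412203 (iv4 F219110) D198106 (iv4 F406845)
def n201302 : Q := act 4 n114283
theorem D201302 : act 4 n114283 = n201302 := rfl
theorem F419925 : act 2 n201302 = n118770 := d1_1 D201302 F250988 F250987
theorem F419926 : act 7 n201302 = n118771 := d11_2 (iv7 F178130) D201302 F186822
theorem F419927 : act 0 n201302 = n118774 := d18_2 F178131 D201302 F186825 F86496 F42298 F42262 (iv4 F77178) (iv0 F77180) D60116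
theorem F419928 : act 1 n201302 = n118707 := d18_6 (iv1 F82997) F82996 (iv1 F55574) D59816 (iv5 F178129) D201302 (iv4 D118707) (iv0 F114573) (iv5 D76425)
def n201303 : Q := act 6 n114284
theorem D201303 : act 6 n114284 = n201303 := rfl
theorem F419929 : act 4 n201303 = n114285 := d10_1 D201303 (iv6 D114285) D114284
theorem F419930 : act 7 n201303 = n188976 := d14_2 (iv7 F178132) D201303 (iv6 D188976) F143361 (iv6 F154349)
def n201304 : Q := act 0 n114285
theorem D201304 : act 0 n114285 = n201304 := rfl
theorem F419931 : act 1 n188665 = n201304 := d15_0 (iv0 D201304) F178133 (iv2 F374347)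
def n201305 : Q := act 1 n114285
theorem D201305 : act 1 n114285 = n201305 := rfl
theorem F419932 : act 1 n201305 = n188665 := d15_1 D201305 (iv7 F419838) F419835
def n201306 : Q := act 3 n114288
theorem D201306 : act 3 n114288 = n201306 := rfl
theorem F419933 : act 2 n201306 = n154702 := d0_1 D201306 F242867 F110061 (iv3 F143189) F178144
theorem F419934 : act 4 n201306 = n189582 := d5_2 (iv4 F178143) D201306 F377039 (iv4 F371548) F371547
theorem F419935 : act 5 n201306 = n154701 := d6_2 F241516 D201306 F242866
theorem F419936 : act 7 n201306 = n187808 := d8_2 (iv7 F178145) D201306 (iv3 D187808)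
theorem F419937 : act 6 n189581 = n201306 := d14_5 F419936 F371571 D188660 (iv6 F374334) (iv7 F377037)
def n201307 : Q := act 6 n114288
theorem D201307 : act 6 n114288 = n201307 := rfl
theorem F419938 : act 2 n201307 = n188837 := d3_1 D201307 (iv6 D188837) F178144
theorem F419939 : act 3 n201307 = n189581 := d7_1 D201307 F419937 (iv3 D201306)
theorem F419940 : act 4 n201307 = n187809 := d10_1 D201307 (iv6 D187809) (iv4 F178143)
theorem F419941 : act 7 n201307 = n188662 := d14_2 (iv7 F178145) D201307 (iv6 D188662) (iv7 D92615) (iv6 F139464)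
theorem F419942 : act 1 n188961 = n201307 := d15_1 D188961 F419941 F374341
theorem F419943 : act 0 n188976 = n188965 := d20_10 (iv4 D188965) (iv1 F371579) (iv4 F419940) F419939 F377038 (iv3 F367112) (iv4 D99014) D99012 D191852 F384590
theorem F419944 : act 1 n201307 = n188960 := d15_0 (iv0 D188960) (iv7 F375037) (iv2 F419938)
def n201308 : Q := act 0 n114290
theorem D201308 : act 0 n114290 = n201308 := rfl
theorem F419945 : act 5 n201308 = n114438 := d17_3 (iv1 F83495) D114290 D201308 (iv4 D114438) (iv5 D52817) F76762 (iv5 F83441) (iv0 D43435) D43437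
theorem F419946 : act 4 n201308 = n194629 := d18_1 D201308 (iv1 D194629) (iv4 F375027) (iv5 D188830) (iv4 D92824) F139467 (iv4 F178143) (iv0 D114288) D114290
theorem F419947 : act 2 n147914 = n201308 := d15_3 (iv0 D201308) (iv0 F178148) (iv7 F231699)
theorem F419948 : act 3 n201308 = n154730 := d0_2 D147914 F419947 (iv2 D154730) (iv3 D73378) (iv2 F105556)
theorem F419949 : act 7 n201308 = n154711 := d4_2 (iv7 F231699) F419947 (iv2 D154711)
theorem F419950 : act 1 n154710 = n201308 := d15_1 D154710 F419949 (iv2 D154711)
theorem F419951 : act 6 n196798 = n201308 := d21_5 D140558 F387843 (iv5 D107333) D107334 D196798 F419945 (iv1 F371592) F371590 F371649 F387842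
theorem F419952 : act 4 n199195 = n196798 := d10_3 F419951 F419946 (iv6 F411120)
def n201309 : Q := act 4 n114290
theorem D201309 : act 4 n114290 = n201309 := rfl
theorem F419953 : act 2 n201309 = n187839 := d1_1 D201309 (iv4 F419845) F419841
theorem F419954 : act 5 n201309 = n187519 := d9_2 D114290 D201309 (iv4 D187519) F138885 (iv4 F83330) (iv5 F178086) F178085 F242890 (iv4 F361660) F361661 (iv4 D52843) (iv5 D25648) F20189 D25607 D52749
theorem F419955 : act 0 n201309 = n196481 := d17_0 F400793 (iv1 F371595) (iv5 F371647) F371646 (iv5 F371590) F371592 (iv5 F419945) (iv0 D201308) D201309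
theorem F419956 : act 1 n201309 = n196449 := d18_6 F371564 (iv4 D114287) (iv1 D52748) D52749 D114290 D201309 F400715 (iv0 F364767) F371566
theorem F419957 : act 7 n201309 = n187833 := d15_2 D196481 (iv0 F419955) F371642
theorem F419958 : act 6 n196478 = n201309 := d14_5 F419957 (iv6 F371644) (iv7 D107020) D107019 D196478
def n201310 : Q := act 6 n114290
theorem D201310 : act 6 n114290 = n201310 := rfl
theorem F419959 : act 2 n201310 = n178158 := d3_1 D201310 (iv6 F419843) F419841
theorem F419960 : act 4 n201310 = n196478 := d10_1 D201310 F419958 (iv4 D201309)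
theorem F419961 : act 5 n201310 = n178142 := d12_1 D201310 (iv6 F415348) F415350 F178122 D114290
theorem F419962 : act 7 n178153 = n201310 := d13_0 F419961 F277703 D178153
theorem F419963 : act 0 n199106 = n196478 := d18_2 F410735 (iv4 F410691) (iv4 F419960) F419961 F277702 (iv0 D84853) D84856 D178318 (iv5 F404876)
theorem F419964 : act 0 n178154 = n201310 := d19_0 F419961 F277702 (iv3 F199403) (iv1 F199405) D124657 F342139 F339382 F339379 (iv5 D175259) (iv4 F317469) F184958 (iv1 D35991) (iv5 F43317) (iv4 F88029) (iv3 F192421) F192423 F308699 (iv4 F322939) (iv3 F356033)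
theorem F419965 : act 1 n178155 = n201310 := d15_1 D178155 (iv7 F419962) F277708
theorem F419966 : act 4 n189016 = n178155 := d18_5 (iv1 F375451) (iv4 D189023) (iv1 D93022) (iv4 F143466) D189016 F419965 F419960 (iv0 F419963) (iv5 F410694)
theorem F419967 : act 1 n197574 = n189016 := d18_6 (iv1 F277704) (iv4 F350678) (iv1 F358882) F404881 (iv5 D197577) (iv4 F404878) F419966 F419965 F419961
theorem F419968 : act 6 n178155 = n192389 := d10_2 (iv6 F375416) F419966 (iv4 D192389)
def n201311 : Q := act 7 n114290
theorem D201311 : act 7 n114290 = n201311 := rfl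
theorem F419969 : act 2 n201311 = n154710 := d4_1 D201311 (iv7 F419844) F419841
theorem F419970 : act 3 n201311 = n188950 := d8_1 D201311 (iv7 F386846) (iv3 F386849)
theorem F419971 : act 4 n201311 = n187833 := d11_1 D201311 (iv7 F419957) (iv4 D201309)
theorem F419972 : act 5 n201311 = n114291 := d13_1 D201311 (iv7 D114291) D114290
theorem F419973 : act 6 n201311 = n192689 := d14_1 D201311 F387492 (iv6 F358688) F419962 (iv6 D201310)
theorem F419974 : act 1 n154711 = n201311 := d15_1 F419847 (iv7 D201311) (iv2 F419841)
theorem F419975 : act 1 n201311 = n147914 := d15_1 F419974 F231699 D154711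
theorem F419976 : act 0 n193266 = n153617 := d21_4 (iv5 D100514) D100511 D192681 F389366 F241494 (iv5 F143191) (iv1 F178152) (iv5 F419972) F419973 (iv1 D192689)
def n201312 : Q := act 5 n114300
theorem D201312 : act 5 n114300 = n201312 := rfl
theorem F419977 : act 2 n201312 = n114302 := d2_1 D201312 (iv5 D114302) D114300
theorem F419978 : act 3 n201312 = n188300 := d6_1 D201312 F373020 F316765
theorem F419979 : act 6 n201312 = n187568 := d12_2 (iv6 F178285) D201312 F370831 (iv6 D92438) D92437
theorem F419980 : act 7 n201312 = n195649 := d13_2 F178167 D201312 (iv5 D195649)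
def n201313 : Q := act 0 n114302
theorem D201313 : act 0 n114302 = n201313 := rfl
theorem F419981 : act 5 n201313 = n194537 := d17_3 F178166 D114302 D201313 F393632 (iv5 F347820) (iv0 D113453) D113455 (iv0 F347818) F147536
theorem F419982 : act 1 n195649 = n201313 := d15_0 (iv0 D201313) (iv7 F205530) (iv2 F397724)
def n201314 : Q := act 1 n114302
theorem D201314 : act 1 n114302 = n201314 := rfl
theorem F419983 : act 1 n201314 = n195649 := d15_1 D201314 (iv7 F419980) F419977
theorem F419984 : act 5 n201314 = n201229 := d17_7 (iv1 D127486) D127488 (iv1 F377899) (iv5 D189827) F248557 D114302 D201314 F419540 F225134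
theorem F419985 : act 3 n188047 = n201314 := d6_3 F419984 F419545 (iv5 F372217)
theorem F419986 : act 6 n159499 = n201314 := d12_0 F419984 (iv6 F419543) (iv5 F355241) D200988 F418642
def n201315 : Q := act 4 n114302
theorem D201315 : act 4 n114302 = n201315 := rfl
theorem F419987 : act 6 n201315 = n188031 := d10_2 (iv6 F251139) D201315 (iv4 D188031)
def n201316 : Q := act 3 n114305
theorem D201316 : act 3 n114305 = n201316 := rfl
theorem F419988 : act 4 n201316 = n188381 := d5_2 (iv4 F339977) D201316 (iv3 D188381) F331056 (iv3 F223829)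
theorem F419989 : act 5 n201316 = n114998 := d6_2 (iv5 F178176) D201316 F179072
theorem F419990 : act 7 n201316 = n152495 := d8_2 F205413 D201316 (iv3 F354425)
theorem F419991 : act 0 n201316 = n152277 := d19_4 (iv1 D140729) D140731 (iv4 F339977) D201316 (iv5 D152277) (iv4 F336474) F347987 (iv1 D77121) D77122 (iv4 F353648) (iv3 D140408) (iv1 D65905) (iv5 F79760) D109194 (iv3 F364781) (iv1 F372465) F372462 (iv4 F388224) F388223
theorem F419992 : act 1 n201316 = n152273 := d15_1 (iv0 F419991) (iv7 F239342) (iv2 F239350)
theorem F419993 : act 2 n201316 = n152494 := d15_3 (iv0 D152494) D152495 (iv7 F419990)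
def n201317 : Q := act 4 n114306
theorem D201317 : act 4 n114306 = n201317 := rfl
theorem F419994 : act 5 n201317 = n197994 := d9_2 (iv5 F178426) D201317 F406435 F392994 (iv4 D115006) (iv5 D53065) (iv4 F83764) (iv5 F178176) F339977 (iv5 D140731) (iv4 F103434) D144170 F331566 (iv5 F178424) (iv4 F177892)
theorem F419995 : act 6 n201317 = n151248 := d10_2 (iv6 F205611) D201317 F406849
theorem F419996 : act 0 n201317 = n114494 := d17_0 F340035 F206755 F340032 F205565 F94478 F46019 D52754 D114306 D201317
theorem F419997 : act 1 n201317 = n114502 := d18_6 F325417 F324271 (iv1 F161763) (iv4 F177892) (iv5 F178426) D201317 (iv4 D114502) F178550 F178549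
theorem F419998 : act 3 n201317 = n137691 := d19_3 (iv1 F177891) (iv5 F178426) D201317 (iv1 D137691) (iv5 D64724) (iv4 D30447) (iv3 D14458) (iv1 F23942) (iv5 F45796) (iv4 D28291) (iv3 F45786) D59604 F182037 F320872 (iv3 F106794) F322067 F180723 F180967 F324166
def n201318 : Q := act 3 n114307
theorem D201318 : act 3 n114307 = n201318 := rfl
theorem F419999 : act 5 n201318 = n141860 := d6_2 (iv5 F331546) D201318 (iv3 D141860)
theorem F420000 : act 6 n201318 = n196581 := d7_2 (iv6 F339930) D201318 (iv3 D196581)
theorem F420001 : act 0 n141890 = n201318 := d20_4 (iv4 F394217) (iv1 F394220) (iv4 D141891) D141890 (iv3 D201318) (iv4 D114307) D114305 F339977 F223829 (iv1 F181994)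
def n201319 : Q := act 7 n114319
theorem D201319 : act 7 n114319 = n201319 := rfl
theorem F420002 : act 2 n201319 = n154035 := d4_1 D201319 (iv7 F366157) F366156
theorem F420003 : act 3 n201319 = n114321 := d8_1 D201319 (iv7 D114321) (iv3 F178202)
theorem F420004 : act 4 n201319 = n119720 := d11_1 D201319 (iv7 F190831) (iv4 F290375)
theorem F420005 : act 5 n201319 = n195825 := d13_1 D201319 F398350 F397799
theorem F420006 : act 6 n201319 = n201192 := d14_1 D201319 F419388 (iv6 D127774) F178220 D114319
theorem F420007 : act 1 n127323 = n201319 := d15_1 F366155 (iv7 D201319) (iv2 F366156)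
theorem F420008 : act 1 n201319 = n170548 := d15_1 F420007 (iv7 F398138) F398135
def n201320 : Q := act 3 n114320
theorem D201320 : act 3 n114320 = n201320 := rfl
theorem F420009 : act 4 n201320 = n136566 := d5_2 D114320 D201320 (iv3 F358538) F358479 F178201
theorem F420010 : act 5 n201320 = n141855 := d6_2 (iv5 F331551) D201320 (iv3 D141855)
theorem F420011 : act 6 n201320 = n136569 := d7_2 F418435 D201320 (iv3 F418434)
def n201321 : Q := act 4 n114322
theorem D201321 : act 4 n114322 = n201321 := rfl
theorem F420012 : act 0 n159344 = n201321 := d20_7 (iv4 F205565) (iv1 F205566) F178303 D114507 F322801 F189438 (iv4 F250847) (iv4 D201321) (iv3 D114322) (iv1 F94482)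
def n201322 : Q := act 6 n114322
theorem D201322 : act 6 n114322 = n201322 := rfl
theorem F420013 : act 3 n201322 = n114324 := d7_1 D201322 (iv6 D114324) D114322
theorem F420014 : act 7 n201322 = n201269 := d14_2 F205551 D201322 F419776 (iv7 F251108) (iv6 F290518)
theorem F420015 : act 5 n201322 = n130596 := d21_6 (iv5 D49111) F37419 D25759 D53104 (iv1 F290532) D201322 (iv1 D130596) (iv5 F114335) (iv6 D76289) (iv1 F77539)
def n201323 : Q := act 3 n114323
theorem D201323 : act 3 n114323 = n201323 := rfl
theorem F420016 : act 5 n201323 = n140520 := d6_2 (iv5 F339978) D201323 (iv3 D140520)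
def n201324 : Q := act 6 n114323
theorem D201324 : act 6 n114323 = n201324 := rfl
theorem F420017 : act 2 n201324 = n197817 := d3_1 D201324 F405878 (iv2 F178570)
theorem F420018 : act 4 n201324 = n114324 := d10_1 D201324 (iv6 D114324) D114323
theorem F420019 : act 7 n201324 = n196742 := d14_2 (iv7 F178569) D201324 (iv6 D196742) (iv7 F398714) F398713
theorem F420020 : act 0 n201324 = n187955 := d21_4 F224977 (iv1 F180118) (iv5 F339978) D201324 (iv6 D187955) (iv5 F339955) (iv1 F201847) (iv5 F202869) F339931 F339984
theorem F420021 : act 0 n197805 = n201324 := d21_4 (iv5 F356733) F356731 D108679 D197805 (iv6 D201324) F339978 (iv1 D65951) D65953 (iv6 F336702) F339986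
def n201325 : Q := act 0 n114324
theorem D201325 : act 0 n114324 = n201325 := rfl
theorem F420022 : act 4 n201325 = n184567 := d18_1 D201325 F401697 F401696 (iv5 D195979) D195978 F398952 F164151 D106703 (iv5 F178299)
theorem F420023 : act 5 n201325 = n189506 := d21_2 (iv5 F178299) D201325 (iv6 D189506) (iv1 F374560) F374557 (iv5 D127396) (iv1 F94254) (iv5 F164434) F164435 (iv1 F164439)
theorem F420024 : act 6 n201325 = n114358 := d21_5 F205408 (iv1 F177901) F177898 D114324 D201325 F305029 (iv1 F350544) (iv5 F205420) (iv6 D127778) D127775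
theorem F420025 : act 1 n196146 = n201325 := d15_0 (iv0 D201325) (iv7 F399025) (iv2 F399608)
theorem F420026 : act 2 n189516 = n201325 := d3_3 F420024 (iv2 F205510) (iv6 F376779)
theorem F420027 : act 3 n184492 = n201325 := d7_3 F420024 F345132 (iv6 F286434)
def n201326 : Q := act 1 n114324
theorem D201326 : act 1 n114324 = n201326 := rfl
theorem F420028 : act 1 n201326 = n196146 := d15_1 D201326 F399609 F205544
theorem F420029 : act 7 n201326 = n189516 := d15_2 (iv0 D201325) D201326 F420026
theorem F420030 : act 5 n201326 = n189517 := d17_7 (iv1 F400073) (iv5 D131824) D131821 (iv5 F358298) F364643 (iv5 F178299) D201326 F399932 (iv4 F400072)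
theorem F420031 : act 3 n189550 = n201326 := d20_9 (iv4 F420018) F420020 F371938 F139610 D90701 F376566 D188930 (iv1 F413459) F413452 (iv1 D201326)
def n201327 : Q := act 4 n114325
theorem D201327 : act 4 n114325 = n201327 := rfl
theorem F420032 : act 5 n201327 = n141891 := d16_1 D201327 (iv4 D141891) F180883 D115761 (iv5 F181997) F181998 D142098 F225136 (iv2 F324163)
def n201328 : Q := act 3 n114326
theorem D201328 : act 3 n114326 = n201328 := rfl
theorem F420033 : act 5 n201328 = n140515 := d6_2 (iv5 F339987) D201328 (iv3 D140515)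
theorem F420034 : act 6 n201328 = n196736 := d7_2 F339928 D201328 F401639
theorem F420035 : act 0 n201328 = n192756 := d20_4 F205565 (iv1 F94480) D114326 D201328 F387680 F154662 D100598 D192758 F387683 (iv1 F205567)
def n201329 : Q := act 7 n114327
theorem D201329 : act 7 n114327 = n201329 := rfl
theorem F420036 : act 2 n201329 = n196741 := d4_1 D201329 F401654 F205552
theorem F420037 : act 4 n201329 = n195917 := d11_1 D201329 F398720 (iv4 F339929)
theorem F420038 : act 5 n201329 = n164385 := d13_1 D201329 (iv7 D164385) (iv5 F178302)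
theorem F420039 : act 6 n201329 = n196146 := d14_1 D201329 F399609 (iv6 D127787) F161679 D114327
theorem F420040 : act 1 n159456 = n201329 := d15_1 F353126 (iv7 D201329) (iv2 F205552)
theorem F420041 : act 1 n201329 = n159451 := d15_1 F420040 F350581 F350582
def n201330 : Q := act 6 n114328
theorem D201330 : act 6 n114328 = n201330 := rfl
theorem F420042 : act 4 n201330 = n114506 := d10_1 D201330 (iv6 D114506) (iv4 F178564)
theorem F420043 : act 7 n201330 = n199184 := d14_2 F205559 D201330 (iv6 D199184) F172232 (iv6 F339968)
theorem F420044 : act 1 n184567 = n201330 := d15_1 (iv0 F401697) F420043 F411066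
def n201331 : Q := act 6 n114332
theorem D201331 : act 6 n114332 = n201331 := rfl
theorem F420045 : act 3 n201331 = n156608 := d7_1 D201331 (iv6 F400331) F400330
theorem F420046 : act 4 n201331 = n114333 := d10_1 D201331 (iv6 D114333) (iv4 F178305)
theorem F420047 : act 7 n201331 = n114370 := d14_2 D114332 D201331 (iv6 D114370) (iv7 D52780) (iv6 F83354)
theorem F420048 : act 5 n156607 = n201331 := d21_2 (iv5 D200238) F246885 (iv6 D201331) (iv1 F205558) F339968 (iv5 D107269) F104347 (iv5 F172245) D199187 (iv1 F415666)
theorem F420049 : act 0 n201331 = n193061 := d18_0 F388623 (iv1 D157746) F331543 (iv5 D63378) F48142 D52102 D112884 (iv0 F246303) F420048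
def n201332 : Q := act 1 n114334
theorem D201332 : act 1 n114334 = n201332 := rfl
theorem F420050 : act 1 n201332 = n188053 := d15_1 D201332 F387666 F387664
theorem F420051 : act 7 n201332 = n188054 := d15_2 (iv0 F365267) D201332 (iv2 D188054)
theorem F420052 : act 2 n187570 = n201332 := d4_3 F420051 (iv2 D188054) (iv7 F370838)
theorem F420053 : act 3 n201332 = n187985 := d0_2 D187570 F420052 (iv2 F372035) (iv3 D90816) (iv2 F139019)
def n201333 : Q := act 3 n114339
theorem D201333 : act 3 n114339 = n201333 := rfl
theorem F420054 : act 4 n201333 = n114341 := d5_2 D114339 D201333 (iv3 D114341) (iv4 D52768) (iv3 F83358)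
theorem F420055 : act 0 n187864 = n201333 := d20_4 (iv4 D187860) (iv1 D90621) D90622 D187864 (iv3 D201333) (iv4 D114339) (iv1 F163400) D195836 F398393 F386986
def n201334 : Q := act 5 n114339
theorem D201334 : act 5 n114339 = n201334 := rfl
theorem F420056 : act 4 n201334 = n195840 := d16_2 D114339 D201334 (iv5 D195840) (iv4 D106331) (iv5 D49141) F37460 D49141 (iv7 F163293) F163291
def n201335 : Q := act 1 n114340
theorem D201335 : act 1 n114340 = n201335 := rfl
theorem F420057 : act 7 n201335 = n188302 := d15_2 (iv0 F356663) D201335 F373028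
theorem F420058 : act 6 n188301 = n201335 := d21_3 (iv5 D142098) (iv1 F180951) (iv5 F373025) (iv1 D201335) (iv6 D114340) (iv5 D52767) (iv1 F77249) D105907 (iv6 F316771) (iv1 F225138)
theorem F420059 : act 5 n146459 = n201335 := d21_6 (iv5 F94167) (iv1 D59804) (iv5 F82902) D113710 D200985 (iv6 F418628) (iv1 D201335) (iv5 F397941) (iv6 D195720) (iv1 F163245)
theorem F420060 : act 2 n201335 = n146460 := d2_1 F420059 (iv5 D146460) D146459
theorem F420061 : act 4 n201335 = n188308 := d9_1 F420059 (iv5 F373051) (iv4 F353597) (iv5 D126203) (iv4 D59164) D59165 (iv4 F183741) (iv5 F356634) (iv4 F284796) (iv5 F356632) F353625 F328755 (iv4 F328514) D113390 (iv4 F229792)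
def n201336 : Q := act 7 n114340
theorem D201336 : act 7 n114340 = n201336 := rfl
theorem F420062 : act 3 n201336 = n114345 := d8_1 D201336 (iv7 D114345) (iv3 F178312)
theorem F420063 : act 5 n201336 = n200644 := d13_1 D201336 F417341 F397941
theorem F420064 : act 1 n146460 = n201336 := d15_1 (iv0 F398150) (iv7 D201336) (iv2 F398147)
theorem F420065 : act 1 n201336 = n188302 := d15_1 F420064 (iv7 F420057) F420060
def n201337 : Q := act 1 n114341
theorem D201337 : act 1 n114341 = n201337 := rfl
def n201338 : Q := act 2 n114341
theorem D201338 : act 2 n114341 = n201338 := rfl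
theorem F420066 : act 3 n201338 = n188053 := d0_2 D114341 D201338 (iv2 F372228) (iv3 D127806) F94497
theorem F420067 : act 5 n201338 = n187971 := d2_2 F178319 D201338 (iv2 F371979)
theorem F420068 : act 1 n201338 = n187988 := d15_0 (iv0 F372041) F205594 D201338
def n201339 : Q := act 6 n114341
theorem D201339 : act 6 n114341 = n201339 := rfl
theorem F420069 : act 3 n201339 = n114342 := d7_1 D201339 (iv6 D114342) D114341
theorem F420070 : act 5 n197794 = n201339 := d6_0 F420069 (iv5 F356733) (iv3 F405816)
theorem F420071 : act 7 n197792 = n201339 := d8_0 F420069 F356734 (iv3 F405813)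
def n201340 : Q := act 5 n114343
theorem D201340 : act 5 n114343 = n201340 := rfl
theorem F420072 : act 2 n201340 = n135721 := d2_1 D201340 F354429 F205618
theorem F420073 : act 7 n201340 = n201171 := d13_2 (iv7 F205619) D201340 F419322
def n201341 : Q := act 6 n114343
theorem D201341 : act 6 n114343 = n201341 := rfl
def n201342 : Q := act 4 n114344
theorem D201342 : act 4 n114344 = n201342 := rfl
theorem F420074 : act 2 n201342 = n151248 := d1_1 D201342 F406849 F205612
theorem F420075 : act 7 n201342 = n151247 := d11_2 F205617 D201342 F400769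
theorem F420076 : act 5 n201342 = n197896 := d18_4 (iv1 F405799) (iv4 F405798) (iv1 F205616) D201342 (iv4 F406127) (iv0 F412444) F412441 F405455 F363678
theorem F420077 : act 1 n201342 = n151250 := d18_8 (iv1 F361197) F164952 D196455 F400735 F356733 F178313 D114344 D201342 F363668
theorem F420078 : act 0 n201339 = n198216 := d20_4 (iv4 D201342) (iv1 D114344) (iv4 F178313) (iv3 F420069) (iv3 D198216) (iv4 F384638) (iv1 F384641) (iv4 F387540) F387539 (iv1 F420077)
theorem F420079 : act 1 n114386 = n201342 := d15_0 F420077 (iv7 D151250) (iv2 F178413)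
def n201343 : Q := act 3 n114346
theorem D201343 : act 3 n114346 = n201343 := rfl
theorem F420080 : act 4 n201343 = n114348 := d5_2 D114346 D201343 (iv3 D114348) (iv4 D52771) D52770
theorem F420081 : act 7 n201343 = n193038 := d8_2 (iv7 F178314) D201343 F388572
theorem F420082 : act 0 n193042 = n201343 := d20_4 (iv4 D192967) (iv1 F155707) (iv4 F155777) (iv3 F388578) (iv3 D201343) (iv4 D114346) (iv1 F83361) D53098 D115075 (iv1 F388372)
theorem F420083 : act 5 n187883 = n193095 := d18_9 (iv1 F388728) (iv4 F388579) F420082 F420080 F178319 (iv4 F420054) (iv0 F420055) F371715 D187883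
theorem F420084 : act 1 n193040 = n201343 := d15_0 (iv0 F420082) (iv7 D193042) D193040
theorem F420085 : act 2 n193039 = n201343 := d1_3 F420080 F371979 (iv4 F388574)
def n201344 : Q := act 6 n114346
theorem D201344 : act 6 n114346 = n201344 := rfl
theorem F420086 : act 4 n201344 = n114347 := d10_1 D201344 (iv6 D114347) D114346
def n201345 : Q := act 1 n114347
theorem D201345 : act 1 n114347 = n201345 := rfl
theorem F420087 : act 1 n201345 = n185518 := d15_1 D201345 (iv7 F356719) F205629
theorem F420088 : act 7 n201345 = n159475 := d15_2 (iv0 F179073) D201345 F251129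
theorem F420089 : act 5 n201345 = n183158 := d17_7 F407187 (iv5 D198195) F327467 (iv5 F363330) F178320 (iv5 F178318) D201345 (iv0 D183158) (iv4 F284679)
theorem E103826 : n201341 = n183158 := (c21_6 F46040 (iv1 F22755) D25615 D52769 D114343 D201341 (iv5 F420089) (iv1 D201345) F178318 (iv6 D52772) (iv1 F46042))
theorem F420090 : act 6 n183158 = n114343 := (sb E103826 (iv6 D201341))
def n201346 : Q := act 6 n114348
theorem D201346 : act 6 n114348 = n201346 := rfl
theorem F420091 : act 3 n201346 = n114349 := d7_1 D201346 (iv6 D114349) D114348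
def n201347 : Q := act 3 n114350
theorem D201347 : act 3 n114350 = n201347 := rfl
theorem F420092 : act 0 n201347 = n152555 := d20_4 (iv4 F178374) F363664 (iv4 F350587) D201347 (iv3 F370806) F370807 F354683 (iv4 F370800) (iv3 F370802) (iv1 D114519)
def n201348 : Q := act 5 n114350
theorem D201348 : act 5 n114350 = n201348 := rfl
theorem F420093 : act 6 n201348 = n201313 := d12_2 F350578 D201348 F419981 (iv6 D194537) F350576
theorem F420094 : act 0 n201348 = n182041 := d21_1 D201348 (iv5 F284758) (iv6 F399619) (iv1 D196004) F163775 (iv5 D49222) (iv1 F40254) (iv5 F40515) D52772 D114350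
def n201349 : Q := act 3 n114351
theorem D201349 : act 3 n114351 = n201349 := rfl
theorem F420095 : act 4 n201349 = n188960 := d20_6 (iv4 D182034) F295012 D92004 F356721 (iv1 F205634) D201349 (iv1 F419944) F419940 F371573 (iv1 F283437)
def n201350 : Q := act 4 n114351
theorem D201350 : act 4 n114351 = n201350 := rfl
theorem F420096 : act 7 n201350 = n199094 := d11_2 (iv7 F350584) D201350 F410634
theorem F420097 : act 5 n201350 = n199095 := d18_4 F402346 F402343 (iv1 F205634) D201350 F410637 F404436 F400822 (iv0 D157899) D157902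
theorem F420098 : act 1 n114361 = n201350 := d18_8 (iv1 F410639) F380718 F364143 F201870 D196406 (iv4 F400608) (iv0 D114518) (iv4 F178374) F420097
theorem F420099 : act 1 n201350 = n196586 := d15_1 F420098 F401160 F205641
def n201351 : Q := act 5 n114351
theorem D201351 : act 5 n114351 = n201351 := rfl
theorem F420100 : act 6 n201351 = n195805 := d21_3 (iv5 F356718) (iv1 F205634) D201351 (iv1 F398261) (iv6 D159482) F114334 (iv1 F177628) D53059 D115000 F356720
theorem F420101 : act 0 n182041 = n201351 := d21_10 (iv5 D201351) (iv1 D114351) (iv5 F178318) (iv6 D114347) (iv1 F83361) D53099 F83802 D106746 (iv5 F372192) F372193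
def n201352 : Q := act 6 n114351
theorem D201352 : act 6 n114351 = n201352 := rfl
theorem F420102 : act 7 n201352 = n200924 := d14_2 (iv7 F350584) D201352 (iv6 F419620) F419621 (iv6 F251091)
theorem F420103 : act 5 n201352 = n201016 := d21_6 (iv5 D92961) (iv1 F142738) (iv5 F178325) (iv6 F205632) (iv1 F205634) D201352 (iv1 D201016) F176999 F374391 (iv1 F374388)
theorem F420104 : act 0 n201352 = n195119 := d21_10 (iv5 D195119) (iv1 F161466) (iv5 F176816) (iv6 F399630) (iv1 F399631) F399619 F284758 F420101 (iv5 D201351) D201352
theorem F420105 : act 1 n201352 = n195122 := d15_1 (iv0 F420104) F395863 F395860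
theorem F420106 : act 2 n201352 = n200925 := d15_3 F418413 F418410 (iv7 F420102)
theorem F420107 : act 6 n200925 = n127815 := d3_2 D201352 F420106 (iv2 F350586)
def n201353 : Q := act 3 n114353
theorem D201353 : act 3 n114353 = n201353 := rfl
theorem F420108 : act 4 n201353 = n114355 := d5_2 D114353 D201353 (iv3 D114355) (iv4 D52774) D52773
theorem F420109 : act 7 n201353 = n179749 := d8_2 F205626 D201353 (iv3 F356704)
theorem F420110 : act 0 n201353 = n179751 := d20_4 (iv4 F356687) (iv1 F163377) D114353 D201353 F279974 (iv4 F343152) D198311 F407568 F372970 F295285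
theorem F420111 : act 1 n201353 = n179733 := d15_1 (iv0 F420110) (iv7 F371865) F371863
theorem F420112 : act 2 n201353 = n179748 := d15_3 (iv0 D179748) D179749 (iv7 F420109)
def n201354 : Q := act 0 n114354
theorem D201354 : act 0 n114354 = n201354 := rfl
theorem F420113 : act 5 n201354 = n192512 := d17_3 (iv1 F205440) (iv5 F178322) D201354 (iv4 D192512) F364346 (iv0 D92586) (iv5 D43315) D43314 D92583
theorem F420114 : act 4 n201354 = n185162 := d18_1 D201354 (iv1 D185162) (iv4 F362820) F138873 F65149 F67983 D92579 (iv0 F205439) (iv5 F178322)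
theorem F420115 : act 3 n201354 = n159383 := d20_5 D90695 (iv1 F339923) F339924 (iv3 F178321) D201354 (iv4 D159383) D159382 (iv4 F329845) F143196 F157730
theorem F420116 : act 6 n201354 = n200645 := d21_5 (iv5 F205585) (iv1 F164495) (iv5 F83365) D114354 D201354 (iv5 D200645) F377850 D195781 F398149 (iv1 F205583)
theorem F420117 : act 1 n185516 = n201354 := d15_0 (iv0 D201354) (iv7 F373580) F373576
theorem F420118 : act 2 n192534 = n201354 := d0_5 F420115 F250942 F375303 (iv2 F375304) D192534
def n201355 : Q := act 1 n114354
theorem D201355 : act 1 n114354 = n201355 := rfl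
theorem F420119 : act 1 n201355 = n185516 := d15_1 D201355 F356661 F251977
theorem F420120 : act 7 n201355 = n192534 := d15_2 (iv0 D201354) D201355 F420118
theorem F420121 : act 4 n201355 = n185161 := d17_9 (iv1 F362832) F362833 (iv1 F337971) D154515 F374207 (iv5 D188618) (iv0 F205439) (iv5 F178322) D201355
theorem F420122 : act 3 n188973 = n201355 := d20_3 F374791 F371013 (iv4 F375289) (iv1 D201355) F178321 (iv4 F339924) F165067 (iv4 F335541) F228242 F370697
theorem F420123 : act 5 n189605 = n201355 := d21_6 (iv5 F138854) F138855 (iv5 F82388) D90113 F178358 D189605 (iv1 D201355) F178322 (iv6 D92690) F68102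
def n201356 : Q := act 6 n114357
theorem D201356 : act 6 n114357 = n201356 := rfl
theorem F420124 : act 3 n201356 = n188708 := d7_1 D201356 (iv6 D188708) F205512
theorem F420125 : act 4 n201356 = n144305 := d10_1 D201356 (iv6 D144305) (iv4 F339945)
theorem F420126 : act 5 n201356 = n195632 := d12_1 D201356 (iv6 F397673) (iv5 D187148) (iv6 F291246) F205513
theorem F420127 : act 0 n200927 = n201356 := d21_4 (iv5 D52462) D52460 D113630 D200927 (iv6 D201356) (iv5 F205513) (iv1 F350551) (iv5 F374385) (iv6 F374391) (iv1 D113638)
theorem E103827 : n200927 = n197808 := ((c17_10 F420127 F420126 (iv1 D195632) F163133 (iv4 F356726) (iv5 D108675) (iv0 F330487) (iv5 F400504) F400507 D197808)).symm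
theorem F420128 : act 0 n197808 = n201356 := (sb E103827 F420127)
theorem F420129 : act 6 n197808 = n113630 := (sb E103827 (iv6 D200927))
theorem E103828 : n200926 = n197809 := (c10_2 F420129 D200926 (iv6 D197809) D197808)
theorem F420130 : act 4 n197809 = n113630 := (sb E103828 (iv4 D200926))
theorem F420131 : act 0 n201356 = n197812 := d20_10 (iv4 D197812) (iv1 D108681) D108682 (iv3 F370739) (iv1 F370744) F375173 (iv4 F375174) F387849 (iv4 F374505) (iv3 F420124)
def n201357 : Q := act 0 n114364
theorem D201357 : act 0 n114364 = n201357 := rfl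
theorem F420132 : act 2 n114368 = n201357 := d15_3 (iv0 D201357) (iv0 D114364) D114368
theorem F420133 : act 1 n114365 = n201357 := d15_0 (iv0 D201357) (iv7 F400511) F400510
theorem F420134 : act 7 n201357 = n114366 := d15_2 D114365 F420133 (iv2 D114366)
theorem F420135 : act 6 n156615 = n201357 := d21_3 (iv5 D124760) F312321 D156615 (iv1 F420133) (iv6 F363661) (iv5 D127984) F94689 D72213 (iv6 F331042) (iv1 F314708)
theorem F420136 : act 4 n201357 = n188949 := d10_1 F420135 F412333 (iv4 F412329)
theorem F420137 : act 5 n201357 = n127825 := d12_1 F420135 (iv6 F340011) (iv5 D116139) (iv6 F319668) D156615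
def n201358 : Q := act 2 n114364
theorem D201358 : act 2 n114364 = n201358 := rfl
theorem F420138 : act 3 n201358 = n193091 := d0_2 (iv3 F372029) D201358 F388722 (iv3 F360791) (iv2 F351286)
theorem F420139 : act 4 n201358 = n193326 := d1_2 (iv4 F206038) D201358 F389473
theorem F420140 : act 7 n201358 = n114365 := d4_2 F400511 D201358 (iv2 F400510)
theorem F420141 : act 1 n201358 = n114366 := d15_0 F400514 F400511 D201358
theorem F420142 : act 1 n114368 = n201358 := d15_0 F420141 (iv7 F420134) (iv2 F420132)
theorem F420143 : act 5 n201358 = n200942 := d18_9 (iv1 D200942) F391164 F391162 (iv4 D187986) (iv5 D90713) (iv4 F68329) D92923 (iv4 F365813) F420142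
theorem E103829 : n193096 = n193091 := (c20_5 F153056 (iv1 F73502) (iv4 F74362) (iv3 F155872) (iv1 F388729) (iv3 F420138) F420139 F405363 F384914 (iv3 D99386) D99385)
theorem F420144 : act 0 n193091 = n101174 := (sb E103829 (iv1 D193096))
theorem F420145 : act 1 n193091 = n101176 := (sb E103829 F388729)
theorem E103830 : n193095 = n193087 := (c15_2 F420145 F388728 (iv7 F388718) (iv2 F388722))
theorem F420146 : act 0 n193087 = n101176 := (sb E103830 (iv1 F388728))
theorem F420147 : act 1 n193087 = n101174 := (sb E103830 (iv0 D193095))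
theorem F420148 : act 5 n193087 = n187883 := (sb E103830 (iv5 F420083))
theorem F420149 : act 2 n187883 = n193089 := d2_1 F420148 (iv5 D193089) D193087
theorem F420150 : act 3 n187883 = n198780 := d6_1 F420148 F409206 (iv3 F388719)
theorem F420151 : act 7 n187883 = n193093 := d13_2 F388718 F420148 (iv5 D193093)
theorem F420152 : act 2 n193093 = n187882 := d15_3 (iv0 D187882) D187883 F420151
theorem F420153 : act 7 n193089 = n187882 := d4_2 (iv7 F420151) F420149 (iv2 F420152)
theorem F420154 : act 1 n193089 = n187536 := d15_0 (iv0 F409203) (iv7 F420151) F420149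
theorem F420155 : act 1 n187884 = n193089 := d15_0 F420154 F370719 D187884
theorem F420156 : act 0 n193090 = n198018 := d21_4 F387514 (iv1 F420154) (iv5 D193089) D193090 (iv6 D198018) F402875 (iv1 D50324) D50326 D109000 F400301
theorem F420157 : act 5 n187882 = n193091 := d13_1 F420153 (iv7 D193091) D193089
theorem F420158 : act 3 n200942 = n187882 := d6_3 F420157 (iv3 F420138) F420143
theorem F420159 : act 6 n198095 = n187882 := d21_5 F404831 (iv1 F180083) D140463 (iv6 F406079) (iv1 F406776) F420157 F420144 F364313 (iv6 D134742) D134739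
def n201359 : Q := act 5 n114364
theorem D201359 : act 5 n114364 = n201359 := rfl
theorem F420160 : act 2 n201359 = n200942 := d2_1 D201359 (iv5 F420143) (iv2 D201358)
theorem F420161 : act 3 n201359 = n198771 := d6_1 D201359 F409161 (iv3 F372029)
theorem F420162 : act 6 n201359 = n198762 := d12_2 F372030 D201359 F409127 F325621 D170860
theorem F420163 : act 7 n201359 = n200941 := d13_2 F400511 D201359 (iv5 F418448)
theorem F420164 : act 0 n196152 = n201359 := d19_0 (iv5 D201359) F206038 F206037 F94710 (iv5 D33759) (iv4 D16308) F11825 D7624 (iv5 F22834) (iv4 D13683) (iv3 F22830) D28705 F46276 (iv4 F40435) F40434 F37674 D49307 D106706 D196152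
theorem F420165 : act 1 n200943 = n201359 := d15_0 (iv0 F420164) F399634 D200943
def n201360 : Q := act 5 n114365
theorem D201360 : act 5 n114365 = n201360 := rfl
theorem F420166 : act 2 n201360 = n200941 := d2_1 D201360 (iv5 F418448) F400510
theorem F420167 : act 3 n201360 = n193089 := d6_1 D201360 (iv5 D193089) F372026
theorem F420168 : act 6 n201360 = n142819 := d12_2 F363661 D201360 F350093 F205956 D127984
theorem F420169 : act 7 n201360 = n200942 := d13_2 F420140 D201360 (iv5 F420143)
theorem F420170 : act 1 n196152 = n201360 := d15_1 (iv0 F420164) F420169 (iv2 F420160)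
theorem F420171 : act 1 n201360 = n200943 := d15_0 F420165 F420163 (iv2 F420166)
def n201361 : Q := act 5 n114366
theorem D201361 : act 5 n114366 = n201361 := rfl
theorem F420172 : act 2 n201361 = n114367 := d2_1 D201361 (iv5 D114367) D114366
theorem F420173 : act 3 n201361 = n201357 := d6_1 D201361 F420137 F205646
theorem F420174 : act 4 n201361 = n192226 := d9_1 D201361 (iv5 F386089) (iv4 D185295) D185296 (iv4 F375240) (iv5 D188950) (iv4 F365813) F178379 (iv4 F108454) D152573 F373380 D185301 (iv4 F375236) (iv5 D188947) F365818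
theorem F420175 : act 6 n201361 = n197565 := d12_2 (iv6 F400320) D201361 (iv5 D197565) F351889 D196321
theorem F420176 : act 7 n201361 = n127825 := d13_2 F420134 D201361 (iv5 F420137)
theorem F420177 : act 0 n201361 = n127824 := d18_0 F358490 D184096 F394226 F370780 (iv4 F384914) (iv0 F405363) (iv4 F420139) F420141 D201361
theorem F420178 : act 0 n127823 = n201361 := d21_7 F412631 (iv1 F405442) F394331 F394332 (iv1 F386118) D197756 (iv5 F405648) (iv5 D201361) F400320 (iv1 F412634)
def n201362 : Q := act 1 n114367
theorem D201362 : act 1 n114367 = n201362 := rfl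
theorem F420179 : act 1 n201362 = n127825 := d15_1 D201362 (iv7 F420176) F420172
theorem F420180 : act 7 n201362 = n127824 := d15_2 F358550 D201362 F358489
theorem F420181 : act 3 n187937 = n201362 := d20_3 (iv4 F387273) (iv1 F387274) F372862 (iv1 D201362) F178376 F83371 (iv1 F46041) D52774 D114355 F365246
theorem F420182 : act 2 n201362 = n127823 := d0_1 F420181 F370502 (iv2 F351282) (iv3 F372894) F372893
theorem F420183 : act 4 n201362 = n184098 := d20_6 (iv4 D20041) D20039 D42454 D90686 D187937 F420181 (iv1 F372012) (iv4 D187980) (iv3 D90708) (iv1 D42463)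
def n201363 : Q := act 0 n114369
theorem D201363 : act 0 n114369 = n201363 := rfl
theorem F420184 : act 5 n201363 = n193311 := d17_3 (iv1 F405181) (iv5 F405180) D201363 F397743 (iv5 F351307) (iv0 D112890) (iv5 D52104) D52102 D112884
theorem F420185 : act 4 n201363 = n157745 := d18_1 D201363 (iv1 F248622) F351254 (iv5 F351255) F217036 (iv0 D112876) D112879 F405179 (iv5 F405180)
theorem F420186 : act 2 n192670 = n201363 := d15_3 (iv0 D201363) F388625 F388622
theorem F420187 : act 3 n201363 = n187961 := d0_2 D192670 F420186 (iv2 F387824) F387825 (iv2 F272732)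
theorem F420188 : act 1 n201331 = n201363 := d18_6 D114424 (iv4 F365008) (iv1 F175975) (iv4 F176139) (iv5 F178306) (iv4 F420046) F420185 (iv0 D157745) F112704
def n201364 : Q := act 7 n114369
theorem D201364 : act 7 n114369 = n201364 := rfl
theorem F420189 : act 2 n201364 = n201331 := d4_1 D201364 F420047 F178381
theorem F420190 : act 3 n201364 = n197567 := d8_1 D201364 (iv7 F405185) F405183
theorem F420191 : act 4 n201364 = n127795 := d11_1 D201364 F205570 (iv4 F178380)
theorem F420192 : act 5 n201364 = n197566 := d13_1 D201364 (iv7 F405178) (iv5 F405180)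
theorem F420193 : act 6 n201364 = n127794 := d14_1 D201364 (iv7 D127794) F94476 (iv7 F83372) D114369
theorem F420194 : act 0 n192670 = n201364 := d18_2 D114536 (iv4 F387436) F420191 F205569 (iv4 F175973) F175977 (iv4 F351263) (iv0 D133412) F97668
def n201365 : Q := act 1 n114370
theorem D201365 : act 1 n114370 = n201365 := rfl
theorem F420195 : act 1 n201365 = n201364 := d15_1 D201365 (iv7 D201364) (iv2 F178381)
theorem F420196 : act 7 n201365 = n201363 := d15_2 (iv0 F387437) D201365 (iv2 F420186)
theorem F420197 : act 4 n201365 = n114537 := d18_7 (iv1 F214519) (iv4 F365010) (iv1 D112896) (iv4 F82503) (iv5 F83378) (iv4 F178382) D201365 F248610 F248608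
theorem F420198 : act 3 n192803 = n201365 := d20_3 (iv4 F405122) (iv1 F377637) D192803 (iv1 D201365) F340013 (iv4 F375241) F394202 F394200 (iv3 F371963) (iv1 F405117)
theorem F420199 : act 2 n201365 = n193061 := d0_1 F420198 (iv3 D193061) F272731 (iv3 F377631) (iv2 F387833)
def n201366 : Q := act 6 n114372
theorem D201366 : act 6 n114372 = n201366 := rfl
theorem F420200 : act 2 n201366 = n197812 := d3_1 D201366 (iv6 F405855) (iv2 F395868)
theorem F420201 : act 4 n201366 = n196372 := d10_1 D201366 F400499 (iv4 F351257)
theorem F420202 : act 7 n201366 = n197808 := d14_2 (iv7 F395866) D201366 F420129 (iv7 F395863) F395864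
def n201367 : Q := act 6 n114373
theorem D201367 : act 6 n114373 = n201367 := rfl
theorem F420203 : act 2 n201367 = n114650 := d3_1 D201367 (iv6 D114650) (iv2 F178384)
theorem F420204 : act 3 n201367 = n183097 := d7_1 D201367 F370587 (iv3 F370586)
theorem F420205 : act 4 n201367 = n133583 := d10_1 D201367 (iv6 F392545) F392544
theorem F420206 : act 5 n201367 = n114602 := d12_1 D201367 (iv6 D114602) F83588 F83385 D114373
theorem F420207 : act 7 n201367 = n145030 := d14_2 (iv7 F178385) D201367 F227984 (iv7 F316459) F178677
def n201368 : Q := act 6 n114374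
theorem D201368 : act 6 n114374 = n201368 := rfl
theorem F420208 : act 2 n201368 = n151225 := d3_1 D201368 (iv6 D151225) F178390
theorem F420209 : act 5 n201368 = n198947 := d12_1 D201368 (iv6 D198947) F171429 (iv6 F104216) (iv5 F178388)
def n201369 : Q := act 7 n114377
theorem D201369 : act 7 n114377 = n201369 := rfl
theorem F420210 : act 2 n201369 = n152237 := d4_1 D201369 (iv7 D152237) (iv2 F178399)
theorem F420211 : act 3 n201369 = n114382 := d8_1 D201369 (iv7 D114382) (iv3 F178400)
theorem F420212 : act 5 n201369 = n118445 := d13_1 D201369 (iv7 D118445) (iv5 F178401)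
theorem F420213 : act 6 n201369 = n151233 := d14_1 D201369 (iv7 D151233) (iv6 D71277) (iv7 F83388) D114377
theorem F420214 : act 1 n152235 = n201369 := d15_1 D152235 (iv7 D201369) F178399
theorem F420215 : act 1 n201369 = n152234 := d15_1 F420214 (iv7 F355588) (iv2 F355589)
def n201370 : Q := act 5 n114380
theorem D201370 : act 5 n114380 = n201370 := rfl
theorem F420216 : act 2 n201370 = n186904 := d2_1 D201370 F368462 F178406
theorem F420217 : act 4 n201370 = n130590 := d9_1 D201370 F209161 F95738 F46638 (iv4 F78314) (iv5 F165313) F352666 (iv5 F259233) F352664 (iv5 D112905) F82371 F39958 (iv4 F77667) D106429 (iv4 F352667)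
theorem F420218 : act 6 n201370 = n187907 := d12_2 (iv6 F178405) D201370 (iv5 D187907) (iv6 D90655) D90654
theorem F420219 : act 7 n201370 = n130589 := d13_2 F205654 D201370 (iv5 F335531)
theorem F420220 : act 0 n201370 = n121335 := d17_2 D114380 D201370 F193539 F339969 (iv5 D111044) (iv0 D51213) D51215 D111049 F339964
def n201371 : Q := act 6 n114381
theorem D201371 : act 6 n114381 = n201371 := rfl
theorem F420221 : act 3 n201371 = n187529 := d7_1 D201371 F370689 F178408
theorem F420222 : act 4 n201371 = n196745 := d10_1 D201371 (iv6 D196745) F352666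
theorem F420223 : act 5 n201371 = n189429 := d12_1 D201371 F376591 (iv5 D164492) D164493 F259233
theorem F420224 : act 7 n201371 = n187525 := d14_2 (iv7 F178407) D201371 (iv6 D187525) F138906 D90663
def n201372 : Q := act 1 n114384
theorem D201372 : act 1 n114384 = n201372 := rfl
theorem F420225 : act 1 n201372 = n146431 := d15_1 D201372 F335951 F229759
theorem F420226 : act 5 n201372 = n146438 := d17_7 (iv1 D31948) (iv5 D15074) D15072 D31943 D68651 (iv5 F335950) D201372 F229779 (iv4 D68660)
def n201373 : Q := act 7 n114384
theorem D201373 : act 7 n114384 = n201373 := rfl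
theorem F420227 : act 2 n201373 = n146431 := d4_1 D201373 F335951 F229759
theorem F420228 : act 3 n201373 = n114389 := d8_1 D201373 (iv7 D114389) (iv3 F178411)
theorem F420229 : act 4 n201373 = n117358 := d11_1 D201373 F183796 (iv4 F335949)
theorem F420230 : act 5 n201373 = n117328 := d13_1 D201373 F183720 (iv5 F335950)
theorem F420231 : act 6 n201373 = n150771 := d14_1 D201373 (iv7 D150771) (iv6 D71085) (iv7 F83392) D114384
def n201374 : Q := act 5 n114387
theorem D201374 : act 5 n114387 = n201374 := rfl
theorem F420232 : act 2 n201374 = n151254 := d2_1 D201374 (iv5 D151254) (iv2 F237982)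
theorem F420233 : act 3 n201374 = n131007 := d6_1 D201374 (iv5 F346550) (iv3 F363671)
theorem F420234 : act 7 n201374 = n151259 := d13_2 (iv7 F237983) D201374 (iv5 D151259)
theorem F420235 : act 1 n201374 = n146439 := d17_6 (iv1 F400508) (iv5 F400502) (iv1 D108719) D108721 F363669 D201374 (iv5 F419084) (iv0 F419086) (iv4 D197804)
def n201375 : Q := act 6 n114387
theorem D201375 : act 6 n114387 = n201375 := rfl
theorem F420236 : act 2 n201375 = n151255 := d3_1 D201375 (iv6 D151255) (iv2 F237982)
theorem F420237 : act 3 n201375 = n170875 := d7_1 D201375 (iv6 F363353) (iv3 F363671)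
theorem F420238 : act 4 n201375 = n157931 := d10_1 D201375 F351075 F363669
def n201376 : Q := act 3 n114388
theorem D201376 : act 3 n114388 = n201376 := rfl
theorem F420239 : act 7 n201376 = n151252 := d8_2 (iv7 F237980) D201376 (iv3 D151252)
theorem F420240 : act 0 n201376 = n152772 := d20_10 (iv4 F372991) (iv1 D187623) (iv4 F371028) (iv3 F373029) (iv1 F420065) F420062 (iv4 F356735) D197798 F405823 D201376
def n201377 : Q := act 4 n114394
theorem D201377 : act 4 n114394 = n201377 := rfl
theorem F420241 : act 7 n201377 = n151317 := d11_2 (iv7 F341581) D201377 (iv4 F341575)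
theorem F420242 : act 5 n201377 = n151318 := d18_4 D71473 D151657 (iv1 F355699) D201377 F343311 F341184 (iv4 D71465) (iv0 D33064) D33066
theorem F420243 : act 1 n201377 = n200367 := d18_8 (iv1 F229165) F341548 F368744 (iv4 F368738) (iv5 D151663) D151662 F341583 D201377 F416156
theorem F420244 : act 3 n201377 = n196178 := d20_3 D151657 (iv1 F355699) D201377 (iv1 F399733) (iv3 D113052) D113053 F176135 (iv4 D52801) (iv3 F52287) D71473
theorem F420245 : act 1 n145939 = n201377 := d15_0 F420243 F416157 (iv2 F355731)
def n201378 : Q := act 6 n114394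
theorem D201378 : act 6 n114394 = n201378 := rfl
theorem F420246 : act 2 n201378 = n189689 := d3_1 D201378 (iv6 F377401) F341580
theorem F420247 : act 3 n201378 = n114398 := d7_1 D201378 (iv6 D114398) (iv3 F178420)
theorem F420248 : act 5 n201378 = n121325 := d12_1 D201378 (iv6 D121325) F321363 (iv6 D114395) D114394
theorem F420249 : act 7 n201378 = n189688 := d14_2 (iv7 F341581) D201378 F398889 (iv7 F238038) F341577
theorem F420250 : act 0 n201378 = n151569 := d21_4 F355637 F319334 D114394 D201378 (iv6 F238439) (iv5 F292542) (iv1 F137482) (iv5 F293771) F339782 (iv1 F355634)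
theorem F420251 : act 1 n201378 = n151564 := d15_1 (iv0 F420250) (iv7 F238449) (iv2 F238440)
theorem F420252 : act 5 n189688 = n114941 := d13_1 F420249 F377406 (iv5 F420248)
def n201379 : Q := act 0 n114395
theorem D201379 : act 0 n114395 = n201379 := rfl
theorem F420253 : act 5 n201379 = n151637 := d17_1 D201379 (iv1 D151637) F161829 F335467 (iv5 F247743) (iv0 F247746) D152011 (iv0 F278367) F354915
theorem F420254 : act 4 n201379 = n170427 := d18_1 D201379 F338079 (iv4 F354306) (iv5 F398321) (iv4 F398325) (iv0 D121312) F88584 D55969 F321363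
theorem F420255 : act 3 n201379 = n121333 := d20_5 F178018 (iv1 F177425) (iv4 F136454) (iv3 F178421) D201379 (iv4 F419559) (iv1 D201232) (iv4 D114154) (iv3 F177766) F290505
theorem F420256 : act 6 n201379 = n159613 := d21_5 (iv5 F355700) (iv1 F355699) (iv5 D114394) D114395 D201379 F336823 F333504 (iv5 F338626) (iv6 D145953) D145949
theorem F420257 : act 2 n159626 = n201379 := d3_3 F420256 F336821 D159626
theorem F420258 : act 0 n201379 = n121319 := d21_10 (iv5 D121319) (iv1 F193444) F193440 F161831 F145325 D159519 F335167 (iv1 F333505) (iv5 F336823) (iv6 F420256)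
def n201380 : Q := act 1 n114395
theorem D201380 : act 1 n114395 = n201380 := rfl
theorem F420259 : act 1 n201380 = n121319 := d15_1 D201380 F354920 (iv2 F354914)
theorem F420260 : act 7 n201380 = n159626 := d15_2 (iv0 D201379) D201380 F420257
theorem F420261 : act 4 n201380 = n197203 := d18_7 (iv1 F338146) F197416 (iv1 F310347) F314823 (iv5 F332492) F354915 D201380 F403510 (iv5 D124506)
theorem F420262 : act 5 n151589 = n201380 := d21_0 (iv1 D201380) (iv5 F321363) D121325 F380089 (iv6 F258982) F355730 (iv1 D151632) (iv5 D71466) D71467 (iv1 F335476)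
theorem F420263 : act 3 n201380 = n176083 := d6_1 F420262 (iv5 D176083) (iv3 F332648)
def n201381 : Q := act 7 n114395
theorem D201381 : act 7 n114395 = n201381 := rfl
theorem F420264 : act 2 n201381 = n121319 := d4_1 D201381 F354920 (iv2 F354914)
theorem F420265 : act 3 n201381 = n114400 := d8_1 D201381 (iv7 D114400) (iv3 F178421)
theorem F420266 : act 4 n201381 = n175210 := d11_1 D201381 F354910 F354915
theorem F420267 : act 5 n201381 = n121309 := d13_1 D201381 F354923 F321363
def n201382 : Q := act 3 n114397
theorem D201382 : act 3 n114397 = n201382 := rfl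
theorem F420268 : act 4 n201382 = n196178 := d5_2 D114397 D201382 (iv3 F420244) (iv4 D201377) F178420
theorem F420269 : act 5 n201382 = n128544 := d6_2 (iv5 F331514) D201382 (iv3 D128544)
theorem F420270 : act 7 n201382 = n196177 := d8_2 (iv7 F331515) D201382 F399725
theorem F420271 : act 0 n201382 = n191321 := d20_10 F383033 F333380 F318202 F225330 (iv1 F181607) (iv3 F226870) F331566 (iv1 D114396) D114397 D201382
theorem F420272 : act 1 n201382 = n199139 := d15_1 (iv0 F420271) F410846 F402445
theorem F420273 : act 2 n199218 = n201382 := d15_3 F420272 F410847 (iv7 F411199)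
theorem F420274 : act 6 n201382 = n190617 := d3_2 (iv6 F411198) F420273 (iv2 F380310)
def n201383 : Q := act 6 n114397
theorem D201383 : act 6 n114397 = n201383 := rfl
theorem F420275 : act 3 n201383 = n190617 := d7_1 D201383 (iv6 F420274) (iv3 D201382)
theorem F420276 : act 4 n201383 = n114398 := d10_1 D201383 (iv6 D114398) D114397
theorem F420277 : act 0 n201383 = n190588 := d21_4 (iv5 F331484) (iv1 F103312) (iv5 F331514) D201383 F380230 (iv5 D96957) F178360 D96064 (iv6 F363582) (iv1 D112947)
def n201384 : Q := act 7 n114398
theorem D201384 : act 7 n114398 = n201384 := rfl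
theorem F420278 : act 3 n201384 = n189688 := d8_1 D201384 (iv7 F420249) F420247
theorem F420279 : act 6 n201384 = n131131 := d14_1 D201384 F210027 F209178 F161747 D114398
theorem F420280 : act 1 n164492 = n201384 := d15_1 F396244 (iv7 D201384) (iv2 F396234)
theorem F420281 : act 1 n201384 = n131147 := d15_1 F420280 (iv7 F419627) F419624
def n201385 : Q := act 6 n114405
theorem D201385 : act 6 n114405 = n201385 := rfl
theorem F420282 : act 2 n201385 = n145007 := d3_1 D201385 (iv6 D145007) (iv2 F318219)
theorem F420283 : act 3 n201385 = n114408 := d7_1 D201385 (iv6 D114408) (iv3 F178433)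
theorem F420284 : act 0 n131116 = n201385 := d21_4 F83586 (iv1 F47550) (iv5 F96023) D131116 (iv6 D201385) (iv5 D114405) F290389 D52892 F83583 D52896
def n201386 : Q := act 5 n114406
theorem D201386 : act 5 n114406 = n201386 := rfl
theorem F420285 : act 2 n201386 = n145010 := d2_1 D201386 (iv5 D145010) (iv2 F318222)
theorem F420286 : act 3 n201386 = n114411 := d6_1 D201386 (iv5 D114411) (iv3 F178434)
def n201387 : Q := act 7 n114406
theorem D201387 : act 7 n114406 = n201387 := rfl
theorem F420287 : act 2 n201387 = n145011 := d4_1 D201387 (iv7 D145011) (iv2 F318222)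
theorem F420288 : act 3 n201387 = n114412 := d8_1 D201387 (iv7 D114412) (iv3 F178434)
theorem F420289 : act 4 n201387 = n146316 := d11_1 D201387 (iv7 D146316) (iv4 F318223)
theorem F420290 : act 6 n201387 = n127742 := d14_1 D201387 F232259 (iv6 D67986) F318205 D114406
theorem F420291 : act 1 n120108 = n201387 := d15_1 (iv0 F349973) (iv7 D201387) F318222
theorem F420292 : act 1 n201387 = n144982 := d15_1 F420291 F366301 F334444
def n201388 : Q := act 3 n114407
theorem D201388 : act 3 n114407 = n201388 := rfl
theorem F420293 : act 5 n201388 = n128539 := d6_2 (iv5 F331511) D201388 (iv3 D128539)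
theorem F420294 : act 0 n144502 = n201388 := d20_4 (iv4 F319086) F319083 (iv4 D144506) (iv3 F227345) (iv3 D201388) (iv4 D114407) (iv1 F178422) (iv4 F331566) F226870 F181565
theorem F420295 : act 6 n158071 = n201388 := d12_0 F420293 F413150 (iv5 D199694) D199695 F413153
def n201389 : Q := act 6 n114407
theorem D201389 : act 6 n114407 = n201389 := rfl
theorem F420296 : act 2 n201389 = n196176 := d3_1 D201389 (iv6 F399722) (iv2 F331510)
theorem F420297 : act 3 n201389 = n158071 := d7_1 D201389 F420295 (iv3 D201388)
theorem F420298 : act 4 n201389 = n114408 := d10_1 D201389 (iv6 D114408) D114407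
theorem F420299 : act 0 n131136 = n201389 := d21_4 (iv5 D29597) D29595 (iv5 F96050) D131136 (iv6 D201389) F331511 (iv1 F103310) F331484 (iv6 D52134) (iv1 F47522)
def n201390 : Q := act 4 n114411
theorem D201390 : act 4 n114411 = n201390 := rfl
theorem F420300 : act 0 n201390 = n114999 := d17_0 (iv5 F419216) (iv1 F419218) (iv5 D114915) (iv4 D53022) (iv5 D25731) D25730 D53018 F178443 D201390
theorem F420301 : act 1 n201390 = n114949 := d18_6 (iv1 D159601) F177809 (iv1 F178440) (iv4 F136459) D114411 D201390 (iv4 D114949) D114948 (iv5 F251400)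
def n201391 : Q := act 4 n114413
theorem D201391 : act 4 n114413 = n201391 := rfl
theorem F420302 : act 3 n201391 = n190502 := d5_1 D201391 F379930 (iv3 F340456) F176125 D114413
theorem F420303 : act 7 n201391 = n190501 := d11_2 (iv7 F251729) D201391 F379926
theorem F420304 : act 5 n201391 = n144938 := d16_1 D201391 (iv4 F341543) F341552 (iv4 D141767) (iv5 F318372) F323334 (iv5 F227971) (iv7 F229194) F355826
def n201392 : Q := act 6 n114413
theorem D201392 : act 6 n114413 = n201392 := rfl
theorem F420305 : act 3 n201392 = n114414 := d7_1 D201392 (iv6 D114414) D114413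
theorem F420306 : act 5 n201392 = n195168 := d12_1 D201392 (iv6 F396070) F335173 F319180 (iv5 F324996)
theorem F420307 : act 7 n201392 = n189662 := d14_2 (iv7 F251729) D201392 (iv6 D189662) (iv7 F369303) F369302
theorem F420308 : act 0 n201392 = n197055 := d21_4 (iv5 D195234) F361633 (iv5 F324996) D201392 (iv6 D197055) F165961 D114940 F377400 (iv6 F377401) F396394
theorem F420309 : act 0 n187185 = n201392 := d19_0 F420306 F396069 F218120 (iv1 F378532) F378530 (iv4 D190003) (iv3 D95538) (iv1 D44626) (iv5 D21235) F15987 F6676 D10147 F294008 D41341 D88580 (iv1 F283181) (iv5 F356265) F343054 D187185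
def n201393 : Q := act 1 n114414
theorem D201393 : act 1 n114414 = n201393 := rfl
theorem F420310 : act 1 n201393 = n191359 := d15_1 D201393 (iv7 F396249) F396245
theorem F420311 : act 7 n201393 = n200350 := d15_2 (iv0 F396239) D201393 F416098
def n201394 : Q := act 3 n114421
theorem D201394 : act 3 n114421 = n201394 := rfl
theorem F420312 : act 5 n201394 = n193723 := d6_2 F361841 D201394 F390790
theorem F420313 : act 7 n201394 = n144208 := d8_2 F379513 D201394 (iv3 F379762)
theorem F420314 : act 4 n201394 = n200256 := d20_6 (iv4 D29614) F23488 D25628 D52803 D114421 D201394 (iv1 D200256) (iv4 D112892) F82364 (iv1 F47562)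
theorem F420315 : act 7 n200256 = n144217 := d11_2 (iv7 F420313) F420314 (iv4 F379761)
theorem F420316 : act 1 n144210 = n201394 := d17_8 (iv1 D200256) F331506 (iv1 F176238) D200451 F416470 F379765 (iv0 F222128) (iv5 F340015) F420314
theorem F420317 : act 1 n201394 = n117018 := d15_1 F420316 (iv7 F415721) F415718
theorem F420318 : act 2 n144217 = n200255 := d15_3 (iv0 D200255) D200256 F420315
theorem F420319 : act 2 n200256 = n144216 := d15_3 (iv0 D144216) D144217 (iv7 F420315)
theorem F420320 : act 2 n144207 = n201394 := d1_3 F420314 F420319 F415712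
theorem F420321 : act 7 n144216 = n200255 := d4_2 (iv7 F420315) F420319 (iv2 F420318)
def n201395 : Q := act 4 n114421
theorem D201395 : act 4 n114421 = n201395 := rfl
theorem F420322 : act 2 n201395 = n198950 := d1_1 D201395 F410023 (iv2 F379512)
theorem F420323 : act 7 n201395 = n198947 := d11_2 F379513 D201395 F410019
theorem F420324 : act 0 n196137 = n201395 := d20_10 (iv4 D201395) (iv1 F178456) D200441 (iv3 F416443) (iv1 D195997) F163771 (iv4 F96520) D131956 F398938 D196137
theorem E103831 : n198948 = n196137 := ((c15_1 (iv0 F420324) (iv0 D198948) D198950 (iv2 F420322))).symm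
theorem F420325 : act 1 n196137 = n110751 := (sb E103831 (iv0 D198948))
theorem F420326 : act 6 n135270 = n201395 := d14_5 F420323 (iv6 D198947) (iv7 D110749) D110748 (iv7 F365688)
theorem F420327 : act 1 n198949 = n201395 := d15_1 D198949 F420323 F410017
theorem F420328 : act 2 n195980 = n198949 := d15_3 F420327 (iv0 F420324) F399576
theorem F420329 : act 3 n198949 = n197031 := d0_2 D195980 F420328 F402754 F398866 F248593
def n201396 : Q := act 6 n114421
theorem D201396 : act 6 n114421 = n201396 := rfl
theorem F420330 : act 2 n201396 = n200443 := d3_1 D201396 (iv6 D200443) (iv2 F379512)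
theorem F420331 : act 4 n201396 = n135270 := d10_1 D201396 F420326 (iv4 D201395)
theorem F420332 : act 7 n201396 = n198945 := d14_2 F379513 D201396 (iv6 D198945) (iv7 F379433) F379516
theorem F420333 : act 0 n201396 = n133226 := d21_4 F210012 D133345 F361841 D201396 F364267 (iv5 F360338) (iv1 D103214) (iv5 F147170) (iv6 F355182) F355196
theorem F420334 : act 5 n198504 = n201396 := d21_8 (iv5 D113117) (iv1 F360552) D200426 (iv6 F416382) (iv1 F379709) F408167 (iv5 D198507) D198504 (iv6 D201396) (iv1 F178456)
theorem F420335 : act 1 n201396 = n198737 := d17_6 F407823 (iv5 D155960) (iv1 F169930) D109917 (iv4 F408161) F420334 (iv5 D198737) F409024 (iv4 F408184)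
def n201397 : Q := act 5 n114424
theorem D201397 : act 5 n114424 = n201397 := rfl
theorem F420336 : act 4 n201397 = n200238 := d16_2 F365008 D201397 (iv5 D200238) (iv4 D112879) D112880 D200242 F415678 (iv7 F365002) F365007
theorem F420337 : act 0 n201397 = n187525 := d17_2 D114424 D201397 F370683 (iv4 F376586) (iv5 F377268) (iv0 F392222) (iv5 F392221) (iv0 D113123) (iv4 F83402)
def n201398 : Q := act 5 n114425
theorem D201398 : act 5 n114425 = n201398 := rfl
theorem F420338 : act 4 n201398 = n200248 := d9_1 D201398 (iv5 D200248) (iv4 D112884) D112885 D200249 F415704 F365008 D201397 F420336 (iv5 D200238) (iv4 D112879) D112880 D200242 F415678 F340030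
theorem F420339 : act 1 n201398 = n187525 := d17_8 F401143 (iv5 D134855) (iv1 D63376) D63378 (iv4 F331543) F112704 D114425 D201398 (iv4 F401141)
theorem F420340 : act 6 n201398 = n151238 := d21_3 (iv5 F214522) (iv1 F214525) D201398 (iv1 F398964) F398961 F177207 (iv1 F161540) D195163 (iv6 F396046) (iv1 F248622)
def n201399 : Q := act 6 n114425
theorem D201399 : act 6 n114425 = n201399 := rfl
theorem F420341 : act 3 n201399 = n190417 := d7_1 D201399 (iv6 F379729) F364980
theorem F420342 : act 4 n201399 = n200344 := d10_1 D201399 (iv6 D200344) F340030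
theorem F420343 : act 5 n201399 = n198973 := d21_6 (iv5 D52792) (iv1 F76745) (iv5 F161754) (iv6 F214523) (iv1 F214525) D201399 (iv1 D198973) F171481 (iv6 F178425) (iv1 D114396)
theorem F420344 : act 0 n200349 = n201399 := d21_10 F420343 (iv1 D198973) F171481 (iv6 F178425) (iv1 D114396) D114398 (iv5 F178930) F416095 (iv5 D200348) D200349
def n201400 : Q := act 0 n114427
theorem D201400 : act 0 n114427 = n201400 := rfl
theorem F420345 : act 5 n201400 = n187794 := d17_3 F339466 F339464 D201400 F374884 F308593 F249609 (iv5 F308631) F322818 (iv4 F208633)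
theorem F420346 : act 4 n201400 = n199313 := d18_1 D201400 F411619 F368421 F356349 (iv4 D158539) (iv0 D75624) D75626 D158547 F339464
theorem F420347 : act 3 n201400 = n121350 := d20_5 D106322 (iv1 F206240) (iv4 F178626) F178625 D201400 F259181 (iv1 F259123) F259121 (iv3 F163383) (iv1 F163386)
theorem F420348 : act 2 n195213 = n201400 := d15_3 (iv0 D201400) (iv0 F371522) (iv7 F396296)
theorem F420349 : act 7 n201400 = n195229 := d4_2 (iv7 F396296) F420348 (iv2 D195229)
theorem F420350 : act 6 n199312 = n201400 := d14_5 F420349 F396373 (iv7 F377170) D194144 (iv7 F411613)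
theorem F420351 : act 1 n195228 = n201400 := d15_1 D195228 F420349 (iv2 D195229)
def n201401 : Q := act 7 n114427
theorem D201401 : act 7 n114427 = n201401 := rfl
theorem F420352 : act 2 n201401 = n195228 := d4_1 D201401 F396366 (iv2 F178463)
theorem F420353 : act 3 n201401 = n142853 := d8_1 D201401 F320233 F178625
theorem F420354 : act 4 n201401 = n195848 := d11_1 D201401 F398447 (iv4 F178464)
theorem F420355 : act 6 n201401 = n193595 := d14_1 D201401 F390396 F368687 F139421 D114427
theorem F420356 : act 1 n195229 = n201401 := d15_1 F396375 (iv7 D201401) F178463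
theorem F420357 : act 1 n201401 = n195213 := d15_1 F420356 F396296 D195229
theorem F420358 : act 0 n200089 = n158464 := d19_4 (iv1 F420356) F396372 F374871 (iv3 F414972) (iv5 D158464) (iv4 F344382) F215497 F104182 F315563 (iv4 D26249) D26248 F232245 F85299 (iv4 F86375) F86374 F305993 (iv5 F320177) F320176 (iv3 F420353)
theorem F420359 : act 1 n200089 = n158469 := d15_1 (iv0 F420358) F366831 F366829
def n201402 : Q := act 4 n114432
theorem D201402 : act 4 n114432 = n201402 := rfl
def n201403 : Q := act 5 n114434
theorem D201403 : act 5 n114434 = n201403 := rfl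
theorem F420360 : act 2 n201403 = n190682 := d2_1 D201403 F380568 F206338
theorem F420361 : act 3 n201403 = n124627 := d6_1 D201403 F330645 F206158
theorem F420362 : act 6 n201403 = n125353 := d12_2 D114434 D201403 (iv5 F353948) (iv6 D153590) F109154
theorem F420363 : act 7 n201403 = n178234 := d13_2 (iv7 F346735) D201403 F361916
def n201404 : Q := act 5 n114436
theorem D201404 : act 5 n114436 = n201404 := rfl
theorem F420364 : act 2 n201404 = n115023 := d2_1 D201404 (iv5 D115023) (iv2 F190361)
theorem F420365 : act 6 n201404 = n188664 := d21_3 F364518 (iv1 F190360) D201404 (iv1 D188664) (iv6 D92616) F68001 (iv1 F32510) D20545 D43459 D92884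
theorem F420366 : act 0 n188932 = n201404 := d21_10 (iv5 D201404) (iv1 D114436) (iv5 F143263) (iv6 F143262) F114398 D159349 F250865 F376218 (iv5 D188931) D188932
theorem F420367 : act 1 n188932 = n114890 := d15_1 (iv0 F420366) (iv7 F179119) (iv2 F420364)
def n201405 : Q := act 6 n114436
theorem D201405 : act 6 n114436 = n201405 := rfl
theorem F420368 : act 2 n201405 = n115024 := d3_1 D201405 (iv6 D115024) (iv2 F190361)
theorem F420369 : act 4 n201405 = n146157 := d10_1 D201405 F334749 (iv4 F353307)
theorem F420370 : act 5 n201405 = n192778 := d12_1 D201405 F387727 (iv5 F383137) (iv6 F420365) (iv5 D201404)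
theorem F420371 : act 7 n201405 = n159885 := d14_2 (iv7 F190363) D201405 (iv6 F352414) (iv7 F319752) (iv6 F335495)
theorem F420372 : act 1 n142082 = n201405 := d15_1 F353805 F420371 F352415
theorem F420373 : act 0 n114829 = n201405 := d21_1 F371655 F420370 F387727 (iv1 D191345) (iv6 F376938) (iv5 F376388) (iv1 F392392) F392389 F371673 (iv1 F371654)
theorem F420374 : act 4 n167582 = n114829 := d18_1 D167582 F420373 F420369 (iv5 F414853) (iv4 D200062) (iv0 F352159) (iv4 D167574) (iv0 D80424) D80426
theorem F420375 : act 6 n114827 = n167582 := d10_0 F420374 (iv6 D114829) D114827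
def n201406 : Q := act 3 n114438
theorem D201406 : act 3 n114438 = n201406 := rfl
theorem F420376 : act 2 n201406 = n154731 := d0_1 D201406 F243407 (iv2 F231700) (iv3 F374972) F374971
theorem F420377 : act 5 n201406 = n154730 := d6_2 F419945 D201406 (iv3 F419948)
def n201407 : Q := act 6 n114439
theorem D201407 : act 6 n114439 = n201407 := rfl
theorem F420378 : act 2 n201407 = n201247 := d3_1 D201407 (iv6 D201247) (iv2 F178471)
theorem F420379 : act 3 n201407 = n114440 := d7_1 D201407 (iv6 D114440) D114439
theorem F420380 : act 4 n201407 = n146782 := d10_1 D201407 F391590 F186694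
theorem F420381 : act 5 n201407 = n148876 := d12_1 D201407 (iv6 F354562) (iv5 D118484) (iv6 F186355) F305796
def n201408 : Q := act 4 n114441
theorem D201408 : act 4 n114441 = n201408 := rfl
theorem F420382 : act 2 n201408 = n114469 := d1_1 D201408 (iv4 D114469) F178476
theorem F420383 : act 3 n201408 = n147460 := d5_1 D201408 (iv4 F355535) F355542 (iv4 F369537) F369536
theorem F420384 : act 5 n201408 = n147458 := d9_2 F387739 D201408 F350712 (iv5 D86226) (iv4 F132156) D180493 (iv4 F362677) F139545 (iv4 F370568) (iv5 F370570) (iv4 F350707) F231419 F169984 D198273 F407431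
theorem F420385 : act 6 n201408 = n191362 := d10_2 F326539 D201408 F383207
theorem F420386 : act 7 n201408 = n114466 := d11_2 (iv7 F178475) D201408 (iv4 D114466)
theorem F420387 : act 0 n201408 = n195648 := d17_0 F397722 F361643 F229440 F225420 F371663 (iv0 D187835) F139493 D114441 D201408
theorem F420388 : act 0 n147322 = n201408 := d20_1 F352145 (iv4 D201408) (iv3 F369536) (iv1 F369539) F161808 F312200 F55380 F51167 D69316 D147961
def n201409 : Q := act 4 n114443
theorem D201409 : act 4 n114443 = n201409 := rfl
theorem F420389 : act 2 n201409 = n114476 := d1_1 D201409 (iv4 D114476) (iv2 F178481)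
theorem F420390 : act 6 n201409 = n187924 := d10_2 (iv6 F178485) D201409 (iv4 D187924)
theorem F420391 : act 7 n201409 = n114480 := d11_2 (iv7 F178482) D201409 (iv4 D114480)
theorem F420392 : act 0 n201409 = n188379 := d17_0 F373213 F366085 (iv5 F237827) F139497 F65527 F65156 (iv5 F107771) (iv0 F178483) D201409
theorem F420393 : act 1 n201409 = n159486 := d18_6 (iv1 F82922) F40684 F76726 (iv4 F83456) D114443 D201409 (iv4 D159486) (iv0 F176977) (iv5 D113737)
def n201410 : Q := act 6 n114447
theorem D201410 : act 6 n114447 = n201410 := rfl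
theorem F420394 : act 2 n201410 = n195648 := d3_1 D201410 (iv6 D195648) F178502
theorem F420395 : act 3 n201410 = n147327 := d7_1 D201410 F231000 (iv3 F307689)
theorem F420396 : act 4 n201410 = n119064 := d10_1 D201410 (iv6 D119064) (iv4 F178501)
theorem F420397 : act 7 n201410 = n147322 := d14_2 (iv7 F178499) D201410 (iv6 D147322) F105301 F308681
theorem F420398 : act 0 n201410 = n114466 := d21_4 (iv5 F109154) (iv1 F109158) (iv5 F178500) D201410 F178523 (iv5 F142937) (iv1 F142939) F135543 (iv6 F142220) F142223
theorem F420399 : act 0 n114469 = n201410 := d21_4 (iv5 D192364) D192363 F386572 F359838 (iv6 D201410) F178500 (iv1 D72332) F83444 (iv6 F346734) (iv1 F386581)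
def n201411 : Q := act 1 n114453
theorem D201411 : act 1 n114453 = n201411 := rfl
theorem F420400 : act 7 n201411 = n120105 := d15_2 (iv0 F259270) D201411 (iv2 F259268)
theorem F420401 : act 4 n201411 = n117398 := d18_7 F190196 D117393 (iv1 F230426) F227726 (iv5 F115240) (iv4 F178507) D201411 (iv0 F190444) F105274
theorem F420402 : act 3 n114567 = n201411 := d20_9 F178507 D160240 F253034 F253035 (iv1 F193591) F193587 (iv4 F334455) F339770 F317837 (iv1 D201411)
theorem F420403 : act 6 n188561 = n201411 := d21_3 F291662 D98018 F373968 (iv1 D201411) (iv6 D114453) F83475 F55174 (iv5 F83643) (iv6 F144548) (iv1 F333374)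
theorem F420404 : act 2 n201411 = n147296 := d3_1 F420403 (iv6 F370398) (iv2 F373969)
theorem F420405 : act 5 n201411 = n189231 := d12_1 F420403 (iv6 D189231) F295139 (iv6 F335773) F373968
def n201412 : Q := act 5 n114453
theorem D201412 : act 5 n114453 = n201412 := rfl
theorem F420406 : act 2 n201412 = n190441 := d2_1 D201412 F379774 F235004
theorem F420407 : act 3 n201412 = n114456 := d6_1 D201412 (iv5 D114456) (iv3 F178506)
theorem F420408 : act 6 n201412 = n114558 := d12_2 D114453 D201412 F178634 (iv6 D76300) (iv5 F83475)
theorem F420409 : act 7 n201412 = n190440 := d13_2 F335821 D201412 F379771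
theorem F420410 : act 4 n201412 = n133357 := d16_2 (iv4 F178507) D201412 (iv5 D133357) (iv4 F319064) (iv5 F192196) (iv4 F324698) (iv5 F313174) F313175 (iv2 F115239)
theorem F420411 : act 1 n201412 = n190442 := d17_6 (iv1 F335052) F315568 (iv1 F229514) (iv5 F115240) (iv4 F178507) D201412 F379780 F339810 F223871
theorem F420412 : act 0 n201412 = n190005 := d18_0 F378543 D190006 (iv4 F399704) F399705 F230929 (iv0 F315713) F315716 (iv0 F259270) D201412
def n201413 : Q := act 0 n114454
theorem D201413 : act 0 n114454 = n201413 := rfl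
theorem F420413 : act 4 n201413 = n175979 := d18_3 F145478 (iv4 F178508) D201413 (iv5 F355323) (iv4 F276213) (iv0 F377541) (iv4 D189697) (iv0 D94342) D94344
theorem F420414 : act 1 n167592 = n201413 := d15_0 (iv0 D201413) (iv7 F355843) (iv2 F263846)
theorem F420415 : act 7 n201413 = n194177 := d15_2 F355847 F420414 F392261
theorem F420416 : act 3 n147894 = n201413 := d20_3 (iv4 F355162) F307870 (iv4 F231673) (iv1 F420414) F355845 F241897 (iv1 F199460) D154102 (iv3 F342706) F355158
theorem F420417 : act 6 n201413 = n147892 := d7_2 D147894 F420416 (iv3 D147892)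
def n201414 : Q := act 5 n114454
theorem D201414 : act 5 n114454 = n201414 := rfl
theorem F420418 : act 2 n201414 = n200507 := d2_1 D201414 (iv5 F416777) F241886
theorem F420419 : act 3 n201414 = n125188 := d6_1 D201414 (iv5 F351001) F235311
theorem F420420 : act 6 n201414 = n193339 := d12_2 D114454 D201414 (iv5 D193339) F306406 (iv5 F109314)
theorem F420421 : act 7 n201414 = n162609 := d13_2 F355843 D201414 F256839
theorem F420422 : act 4 n201414 = n157149 := d17_4 (iv1 D179252) D179255 F350633 D201414 (iv5 F404388) F398623 (iv5 D195892) F398613 F398614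
theorem F420423 : act 0 n201414 = n147278 := d21_1 D201414 (iv5 D147278) (iv6 D69041) D69037 (iv6 F330312) (iv5 F135553) F135555 (iv5 F283813) (iv6 F350632) F350633
theorem F420424 : act 0 n192362 = n201414 := d19_0 (iv5 D201414) F178508 (iv3 F178506) F259270 F379488 F379486 (iv3 F361787) (iv1 D114422) F83400 (iv4 F176189) F176188 (iv1 F82529) D59487 (iv4 F111017) (iv3 F245086) (iv1 F245494) (iv5 F403848) F403849 (iv3 F386569)
def n201415 : Q := act 4 n114456
theorem D201415 : act 4 n114456 = n201415 := rfl
theorem F420425 : act 2 n201415 = n200366 := d1_1 D201415 F416153 F396224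
theorem F420426 : act 6 n201415 = n159503 := d10_2 (iv6 F178509) D201415 (iv4 D159503)
theorem F420427 : act 1 n201415 = n176946 := d18_6 D175978 F350628 F350633 F178508 D114456 D201415 (iv4 F399051) F416126 (iv5 D175980)
def n201416 : Q := act 3 n114472
theorem D201416 : act 3 n114472 = n201416 := rfl
theorem F420428 : act 2 n201416 = n188826 := d0_1 D201416 F375016 (iv2 F225108) F371662 F371664
theorem F420429 : act 6 n201416 = n188653 := d7_2 (iv6 F371975) D201416 F413492
theorem F420430 : act 7 n201416 = n188827 := d8_2 (iv7 F371665) D201416 (iv3 F413278)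
def n201417 : Q := act 4 n114472
theorem D201417 : act 4 n114472 = n201417 := rfl
theorem F420431 : act 2 n201417 = n197635 := d1_1 D201417 F405124 F371664
theorem F420432 : act 6 n201417 = n197633 := d10_2 (iv6 F371975) D201417 (iv4 F405116)
theorem F420433 : act 7 n201417 = n198300 := d11_2 (iv7 F371665) D201417 F407536
theorem F420434 : act 0 n201417 = n198271 := d17_0 (iv5 D198271) (iv1 D109110) D109113 F359837 (iv5 D114470) F178479 (iv5 F371658) F371666 D201417
theorem F420435 : act 5 n201417 = n198914 := d18_4 F409812 F361650 D114472 D201417 (iv4 D198914) (iv0 D110606) F80458 D108740 D197868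
theorem F420436 : act 0 n201416 = n188828 := d19_4 (iv1 F413920) (iv5 F420435) (iv4 D201417) D201416 F375019 (iv4 D117584) (iv3 D54171) (iv1 F85402) F328444 F328046 (iv3 F328410) (iv1 D28298) D28299 D59641 D127089 F417698 F417695 (iv4 D140409) D140408
theorem F420437 : act 0 n198241 = n201417 := d20_1 F419782 (iv4 D201417) D201416 F420436 F375018 (iv4 F375158) (iv1 F375160) F229783 (iv3 F229858) (iv1 F419785)
theorem F420438 : act 3 n198304 = n201417 := d19_19 F420434 (iv5 D198271) (iv4 F359054) (iv3 D180599) F323158 (iv5 F169908) (iv4 F408964) (iv3 D198713) F205144 (iv5 F408219) (iv4 D198524) (iv3 F408217) F408225 (iv5 F349530) F219319 F172770 (iv1 F172756) D199429 F412159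
def n201418 : Q := act 5 n114472
theorem D201418 : act 5 n114472 = n201418 := rfl
theorem F420439 : act 2 n201418 = n142082 := d2_1 D201418 F371663 F371664
theorem F420440 : act 6 n201418 = n194195 := d12_2 (iv6 F371975) D201418 (iv5 D194195) D194196 F392345
theorem F420441 : act 7 n201418 = n114829 := d13_2 (iv7 F371665) D201418 (iv5 F371655)
theorem F420442 : act 0 n201418 = n159885 := d17_2 D114472 D201418 F371747 (iv4 F406911) F406912 F223529 D197865 (iv0 F406062) F361650
theorem F420443 : act 1 n201418 = n115024 := d17_8 (iv1 D76542) (iv5 F104507) D145738 (iv5 F228889) (iv4 F361649) (iv5 F371658) F371666 D201418 F353830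
def n201419 : Q := act 6 n114473
theorem D201419 : act 6 n114473 = n201419 := rfl
theorem F420444 : act 4 n201419 = n198301 := d10_1 D201419 (iv6 D198301) F361664
def n201420 : Q := act 6 n114476
theorem D201420 : act 6 n114476 = n201420 := rfl
theorem F420445 : act 2 n201420 = n187924 := d3_1 D201420 (iv6 F420390) F420389
theorem F420446 : act 4 n201420 = n114477 := d10_1 D201420 (iv6 D114477) D114476
theorem F420447 : act 7 n201420 = n187921 := d14_2 (iv7 F401829) D201420 F401837 (iv7 D196797) D196796
theorem F420448 : act 0 n201420 = n187571 := d21_4 F370662 F365231 F241266 D201420 (iv6 D187571) (iv5 F362670) (iv1 D104010) F293969 (iv6 F138889) D187521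
theorem F420449 : act 1 n201420 = n188115 := d15_1 (iv0 F420448) (iv7 D188115) (iv2 F370840)
theorem F420450 : act 1 n188115 = n190135 := d15_1 F420449 F378950 (iv2 F420445)
def n201421 : Q := act 4 n114478
theorem D201421 : act 4 n114478 = n201421 := rfl
def n201422 : Q := act 6 n114478
theorem D201422 : act 6 n114478 = n201422 := rfl
theorem F420451 : act 3 n201422 = n114481 := d7_1 D201422 (iv6 D114481) (iv3 F178535)
theorem F420452 : act 5 n201422 = n200639 := d12_1 D201422 (iv6 F417320) (iv5 D187787) F139392 D114478
theorem F420453 : act 0 n201422 = n183144 := d21_4 F370584 (iv1 F163373) D114478 D201422 (iv6 D183144) F134176 (iv1 F295281) F295283 (iv6 F371550) (iv1 F371551)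
theorem F420454 : act 4 n188310 = n201422 := d17_9 F420453 F416547 F417708 F417707 F375177 (iv5 D154213) (iv0 F356627) (iv5 F356633) D188310
theorem F420455 : act 6 n201421 = n188310 := d10_0 F420454 (iv6 D201422) D201421
def n201423 : Q := act 3 n114480
theorem D201423 : act 3 n114480 = n201423 := rfl
theorem F420456 : act 5 n201423 = n196446 := d6_2 F398539 D201423 (iv3 F401832)
theorem F420457 : act 6 n201423 = n141847 := d7_2 F401788 D201423 (iv3 F401784)
theorem F420458 : act 0 n201423 = n126162 := d19_4 (iv1 F69006) D52841 D114480 D201423 (iv5 D126162) (iv4 F169284) F169283 (iv1 F162092) D195378 F396865 F244797 F228104 F228100 F185717 (iv3 D54713) (iv1 F86474) F86472 (iv4 F86425) F86424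
theorem F420459 : act 0 n138455 = n201423 := d20_4 F400307 (iv1 F405663) F405665 F373411 (iv3 D201423) (iv4 D114480) F106584 D90596 D187826 F400308
def n201424 : Q := act 1 n114481
theorem D201424 : act 1 n114481 = n201424 := rfl
theorem F420460 : act 1 n201424 = n187922 := d15_1 D201424 F401823 F401819
theorem F420461 : act 6 n187876 = n201424 := d21_3 D201418 F420442 F371747 (iv1 D201424) (iv6 D114481) (iv5 D52841) (iv1 D25647) D25648 (iv6 F83488) D114472
theorem F420462 : act 5 n130801 = n201424 := d21_6 (iv5 D69710) F82960 D76298 F324639 F317504 D130801 (iv1 D201424) (iv5 F288345) F288344 F139396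
theorem F420463 : act 2 n201424 = n151257 := d2_1 F420462 (iv5 F363675) (iv2 F214779)
theorem F420464 : act 0 n201419 = n186964 := d21_10 (iv5 D186964) D186962 (iv5 F368679) D187922 (iv1 F420460) (iv6 F420461) (iv5 F371747) F352413 F352411 D201419
def n201425 : Q := act 5 n114489
theorem D201425 : act 5 n114489 = n201425 := rfl
theorem F420465 : act 3 n201425 = n133572 := d6_1 D201425 F314619 (iv3 F315236)
theorem F420466 : act 7 n201425 = n148003 := d13_2 (iv7 F315237) D201425 (iv5 D148003)
def n201426 : Q := act 0 n114490
theorem D201426 : act 0 n114490 = n201426 := rfl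
theorem F420467 : act 4 n201426 = n139413 := d18_1 D201426 (iv1 D139413) D139414 F357966 (iv4 D67997) (iv0 D31643) (iv4 F49944) F316461 D114490
theorem F420468 : act 3 n201426 = n183150 := d20_5 D201317 F419996 (iv4 D114494) (iv3 F178546) D201426 F284752 D183151 F358479 F178201 (iv1 F178177)
theorem F420469 : act 1 n114635 = n201426 := d15_0 (iv0 D201426) (iv7 F248582) (iv2 F366604)
theorem F420470 : act 6 n183149 = n201426 := d7_0 F420468 (iv6 D183150) D183149
def n201427 : Q := act 1 n114490
theorem D201427 : act 1 n114490 = n201427 := rfl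
theorem F420471 : act 1 n201427 = n114635 := d15_1 D201427 (iv7 F366603) F366489
theorem F420472 : act 4 n201427 = n139412 := d17_9 (iv1 F406679) (iv5 D198074) (iv1 F168906) (iv5 F353543) F353542 (iv5 D67993) F316461 D114490 D201427
theorem F420473 : act 5 n179992 = n201427 := d16_5 (iv4 F180475) F353530 F201222 (iv5 F131944) (iv4 F280365) F420472 F372573 (iv7 F180479) (iv2 F180478)
theorem F420474 : act 6 n201427 = n151232 := d12_2 D179992 F420473 (iv5 F338618) F179794 F322394
def n201428 : Q := act 4 n114490
theorem D201428 : act 4 n114490 = n201428 := rfl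
theorem F420475 : act 3 n201428 = n141136 := d20_3 (iv4 F420472) (iv1 D201427) D201428 (iv1 D141136) F101802 (iv4 F81024) (iv1 F81097) F81095 (iv3 F101151) D139412
theorem F420476 : act 5 n199581 = n201428 := d19_1 F412758 (iv4 D201428) F178546 D114492 F178549 F177830 (iv3 F163177) F340908 F343308 (iv4 F378564) F378563 D190020 F378582 (iv4 D107300) D107299 (iv1 F220493) (iv5 F222653) (iv4 D139461) D139460
theorem F420477 : act 6 n201428 = n188104 := d21_9 D188106 F372345 (iv5 F361006) (iv6 F349163) F329999 (iv6 F187580) F362383 F412758 F420476 (iv1 D188104)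
def n201429 : Q := act 6 n114490
theorem D201429 : act 6 n114490 = n201429 := rfl
theorem F420478 : act 3 n201429 = n114495 := d7_1 D201429 (iv6 D114495) (iv3 F178546)
theorem F420479 : act 4 n201429 = n188104 := d10_1 D201429 (iv6 F420477) (iv4 D201428)
theorem F420480 : act 5 n201429 = n159806 := d12_1 D201429 (iv6 D159806) F178548 (iv6 D114491) D114490
theorem F420481 : act 0 n201429 = n187504 := d21_10 (iv5 D187504) (iv1 F157719) (iv5 F178745) (iv6 D114644) (iv1 D52915) (iv6 F83613) (iv5 D52912) F290329 D114490 D201429
theorem F420482 : act 7 n201429 = n187911 := d15_2 F376457 (iv0 F420481) F371826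
theorem F420483 : act 0 n193117 = n201429 := d17_2 F157718 D193117 F420480 F251832 (iv5 F372278) F372277 (iv5 D100145) (iv0 F157735) (iv4 F143074)
def n201430 : Q := act 0 n114491
theorem D201430 : act 0 n114491 = n201430 := rfl
theorem F420484 : act 5 n201430 = n191312 := d17_1 D201430 F382996 (iv5 D159786) (iv4 F315226) F337036 (iv0 D170574) D170576 (iv0 F344379) F335207
theorem F420485 : act 4 n201430 = n133841 := d18_1 D201430 F374036 (iv4 D188574) (iv5 D92494) F67866 (iv0 F290312) F136904 (iv0 F290311) F178548
theorem F420486 : act 3 n201430 = n188561 := d20_5 F178187 F177479 F136454 (iv3 F178547) D201430 (iv4 F381135) F381136 (iv4 F419387) F419386 (iv1 F178186)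
theorem F420487 : act 1 n191407 = n201430 := d15_0 (iv0 D201430) F335209 (iv2 F383379)
theorem F420488 : act 6 n114567 = n201430 := d7_0 F420486 F420403 (iv3 F420402)
theorem F420489 : act 2 n201430 = n120113 := d3_1 F420488 (iv6 D120113) (iv2 F283763)
def n201431 : Q := act 1 n114491
theorem D201431 : act 1 n114491 = n201431 := rfl
theorem F420490 : act 1 n201431 = n191407 := d15_1 D201431 F383382 F339775
theorem F420491 : act 7 n201431 = n120113 := d15_2 (iv0 D201430) D201431 (iv2 F420489)
theorem F420492 : act 5 n201431 = n193010 := d17_7 (iv1 F157471) (iv5 F369029) (iv1 F369033) (iv5 D98312) (iv4 F114616) F178548 D201431 F388514 F251789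
theorem F420493 : act 4 n201431 = n144984 := d17_9 F264364 D145083 (iv1 F313479) (iv5 D114682) F83650 D52935 (iv0 F290311) F178548 D201431
theorem F420494 : act 6 n144982 = n201431 := d10_0 F420493 (iv6 D144984) D144982
def n201432 : Q := act 3 n114492
theorem D201432 : act 3 n114492 = n201432 := rfl
theorem F420495 : act 5 n201432 = n114902 := d6_2 (iv5 F178549) D201432 F178980
theorem F420496 : act 0 n187859 = n201432 := d21_1 (iv5 F371712) F420495 (iv6 D114902) F335504 (iv6 D33053) (iv5 D15938) (iv1 F21004) D26433 D54653 D118702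
def n201433 : Q := act 6 n114492
theorem D201433 : act 6 n114492 = n201433 := rfl
theorem F420497 : act 5 n201433 = n114904 := d12_1 D201433 (iv6 D114904) (iv5 D53018) D53019 (iv5 F178549)
theorem F420498 : act 7 n201433 = n151255 := d14_2 F248561 D201433 (iv6 D151255) (iv7 F237980) F248564
def n201434 : Q := act 3 n114494
theorem D201434 : act 3 n114494 = n201434 := rfl
theorem F420499 : act 4 n201434 = n141136 := d5_2 D114494 D201434 (iv3 F420475) (iv4 D201428) F178546
theorem F420500 : act 6 n201434 = n199146 := d7_2 (iv6 F340038) D201434 (iv3 D199146)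
def n201435 : Q := act 2 n114503
theorem D201435 : act 2 n114503 = n201435 := rfl
theorem F420501 : act 3 n201435 = n117350 := d0_2 D114503 D201435 F183776 (iv3 F325419) F153460
theorem F420502 : act 5 n201435 = n117349 := d2_2 (iv5 F349969) D201435 F360657
theorem F420503 : act 7 n201435 = n114638 := d4_2 F248598 D201435 F360660
theorem F420504 : act 1 n201435 = n114593 := d15_0 F338610 F248598 D201435
theorem F420505 : act 1 n114640 = n201435 := d15_0 F420504 F316459 (iv2 F316468)
def n201436 : Q := act 6 n114503
theorem D201436 : act 6 n114503 = n201436 := rfl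
theorem F420506 : act 3 n201436 = n114506 := d7_1 D201436 (iv6 D114506) D114503
theorem F420507 : act 5 n201436 = n195980 := d21_6 (iv5 D52914) (iv1 D25688) D25689 (iv6 F83613) (iv1 F349970) D201436 F410022 (iv5 F420209) (iv6 D201368) (iv1 F178389)
def n201437 : Q := act 6 n114507
theorem D201437 : act 6 n114507 = n201437 := rfl
theorem F420508 : act 2 n201437 = n146520 := d3_1 D201437 (iv6 D146520) (iv2 F322803)
theorem F420509 : act 3 n201437 = n114508 := d7_1 D201437 (iv6 D114508) D114507
theorem F420510 : act 5 n201437 = n151654 := d12_1 D201437 F363930 (iv5 D121330) (iv6 F321026) (iv5 F322805)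
theorem F420511 : act 7 n151653 = n201437 := d13_0 F420510 (iv7 D151654) D151653
theorem F420512 : act 0 n201437 = n115013 := d21_7 (iv5 D115187) D115184 F332647 D151589 (iv1 F335477) (iv6 F363930) (iv5 F420510) (iv5 D115013) D115014 F364734
theorem F420513 : act 1 n146520 = n114901 := d15_0 (iv0 F401695) F420511 F420508
theorem F420514 : act 1 n151523 = n146520 := d15_0 F420513 (iv7 F179097) (iv2 F364427)
def n201438 : Q := act 0 n114508
theorem D201438 : act 0 n114508 = n201438 := rfl
theorem F420515 : act 5 n201438 = n137509 := d17_1 D201438 F335530 F193577 F346744 F165374 F171958 (iv5 F410649) F410651 (iv4 F339969)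
theorem F420516 : act 6 n201438 = n201097 := d21_5 F248562 (iv1 F178992) F88588 D114508 D201438 F419079 (iv1 F418310) F396419 (iv6 D157729) (iv1 F248560)
theorem F420517 : act 1 n199183 = n201438 := d15_0 (iv0 D201438) (iv7 F401691) (iv2 F411062)
theorem F420518 : act 3 n186964 = n201438 := d6_3 F420515 (iv3 F355677) D186964
def n201439 : Q := act 3 n114509
theorem D201439 : act 3 n114509 = n201439 := rfl
theorem F420519 : act 7 n201439 = n201328 := d8_2 (iv7 F178572) D201439 (iv3 D201328)
theorem F420520 : act 4 n201439 = n198309 := d20_6 (iv4 F78119) D50221 (iv4 F84247) F331529 D114509 D201439 (iv1 D198309) F169152 (iv3 D50393) (iv1 F78117)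
def n201440 : Q := act 3 n114510
theorem D201440 : act 3 n114510 = n201440 := rfl
theorem F420521 : act 7 n201440 = n201323 := d8_2 F178569 D201440 (iv3 D201323)
theorem F420522 : act 0 n201440 = n187974 := d20_4 F178305 (iv1 F94473) (iv4 F178567) D201440 F371984 (iv4 F371064) (iv1 F400465) (iv4 D196354) (iv3 F363663) (iv1 F205557)
def n201441 : Q := act 6 n114515
theorem D201441 : act 6 n114515 = n201441 := rfl
theorem F420523 : act 2 n201441 = n114517 := d3_1 D201441 (iv6 D114517) D114515
def n201442 : Q := act 0 n114517
theorem D201442 : act 0 n114517 = n201442 := rfl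
theorem F420524 : act 3 n201442 = n182034 := d20_5 D201350 (iv1 F420098) F178374 (iv3 F178584) D201442 (iv4 D182034) F295012 D92004 F356721 (iv1 F205634)
theorem F420525 : act 6 n201442 = n152232 := d21_5 F107769 F104140 (iv5 F83503) D114517 D201442 (iv5 D152232) (iv1 D71809) D71810 F108264 (iv1 F107768)
theorem F420526 : act 7 n183133 = n201442 := d14_0 F420525 (iv7 F339335) (iv6 F339337) (iv7 F218378) F416558
def n201443 : Q := act 1 n114517
theorem D201443 : act 1 n114517 = n201443 := rfl
theorem F420527 : act 6 n135597 = n201443 := d21_3 F418952 (iv1 F214588) F218054 (iv1 D201443) (iv6 D114517) F83503 F176772 F176771 (iv6 F177134) D201063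
theorem F420528 : act 2 n201443 = n183133 := d3_1 F420527 (iv6 F416558) (iv2 F218380)
def n201444 : Q := act 5 n114517
theorem D201444 : act 5 n114517 = n201444 := rfl
theorem F420529 : act 3 n201444 = n114520 := d6_1 D201444 (iv5 D114520) (iv3 F178584)
theorem F420530 : act 6 n201444 = n114610 := d12_2 D114517 D201444 F178699 F108559 (iv5 F83503)
theorem F420531 : act 0 n201444 = n183128 := d21_1 D201444 (iv5 F284751) F420470 (iv1 F420469) (iv6 F418953) F418952 (iv1 F214588) F218054 F420527 (iv1 D201443)
theorem F420532 : act 4 n152566 = n201444 := d10_3 F420530 (iv4 F178703) D152566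
def n201445 : Q := act 7 n114517
theorem D201445 : act 7 n114517 = n201445 := rfl
theorem F420533 : act 3 n201445 = n114521 := d8_1 D201445 (iv7 D114521) (iv3 F178584)
theorem F420534 : act 0 n201445 = n183133 := d20_4 (iv4 F410634) F410872 F410870 (iv3 F420533) (iv3 D183133) (iv4 D87415) (iv1 F134164) (iv4 F145050) F356657 D127814
theorem F420535 : act 1 n201441 = n183133 := d15_0 (iv0 F420534) (iv7 D201445) (iv2 F420523)
def n201446 : Q := act 3 n114518
theorem D201446 : act 3 n114518 = n201446 := rfl
theorem F420536 : act 4 n201446 = n186620 := d5_2 (iv4 F400608) D201446 F367464 D186621 (iv3 F400605)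
theorem F420537 : act 0 n201446 = n187611 := d20_10 (iv4 D187611) F366975 D92670 F295369 D94112 F356657 (iv4 F178588) F400607 (iv4 F400608) D201446
theorem F420538 : act 1 n201446 = n187604 := d15_1 (iv0 F420537) F374801 F374799
def n201447 : Q := act 5 n114518
theorem D201447 : act 5 n114518 = n201447 := rfl
theorem F420539 : act 7 n201447 = n201156 := d13_2 (iv7 F376988) D201447 F419290
def n201448 : Q := act 5 n114519
theorem D201448 : act 5 n114519 = n201448 := rfl
theorem F420540 : act 2 n201448 = n201156 := d2_1 D201448 F419290 (iv2 F376987)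
theorem F420541 : act 6 n201448 = n159367 := d21_3 F375078 (iv1 F248619) D201448 (iv1 F250896) F177494 (iv5 D53067) (iv1 F40663) D53018 D114904 F375080
def n201449 : Q := act 6 n114519
theorem D201449 : act 6 n114519 = n201449 := rfl
theorem F420542 : act 5 n201449 = n201045 := d21_6 (iv5 D149659) F157723 D90651 (iv6 F248617) (iv1 F248619) D201449 (iv1 D201045) F177205 (iv6 F248589) (iv1 F235273)
theorem F420543 : act 7 n201097 = n201449 := d13_0 F420542 F418862 (iv5 F419079)
theorem F420544 : act 0 n201449 = n135591 := d21_1 (iv5 F420542) (iv5 D135591) (iv6 D63757) D63753 (iv6 F327167) (iv5 F106066) (iv1 F178440) (iv5 F83756) D114955 (iv1 F418861)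
theorem F420545 : act 1 n201449 = n195163 := d15_1 (iv0 F420544) F396045 F365923
theorem F420546 : act 2 n201449 = n201098 := d15_3 F419081 F419080 F420543
theorem F420547 : act 6 n201098 = n157739 := d3_2 D201449 F420546 (iv2 F376987)
def n201450 : Q := act 1 n114520
theorem D201450 : act 1 n114520 = n201450 := rfl
theorem F420548 : act 1 n201450 = n188868 := d15_1 D201450 F375079 F248613
theorem F420549 : act 7 n201450 = n115026 := d15_2 (iv0 F178981) D201450 F179123
theorem F420550 : act 5 n201375 = n201450 := d21_6 F54611 (iv1 F27330) D25623 D52788 D114387 D201375 (iv1 D201450) (iv5 D114520) (iv6 D52859) (iv1 F54613)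
theorem F420551 : act 3 n201450 = n188663 := d6_1 F420550 F374344 (iv3 F420237)
def n201451 : Q := act 4 n114520
theorem D201451 : act 4 n114520 = n201451 := rfl
theorem F420552 : act 6 n201451 = n115037 := d10_2 (iv6 F178585) D201451 (iv4 D115037)
def n201452 : Q := act 7 n114520
theorem D201452 : act 7 n114520 = n201452 := rfl
theorem F420553 : act 2 n201452 = n188868 := d4_1 D201452 F375079 F248613
theorem F420554 : act 5 n201452 = n114521 := d13_1 D201452 (iv7 D114521) D114520
theorem F420555 : act 6 n201452 = n159829 := d14_1 D201452 (iv7 D159829) F114659 (iv7 F83781) (iv6 F178585)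
theorem F420556 : act 0 n115026 = n201452 := d21_4 F83739 (iv1 F40666) D53076 D115026 F420555 F251921 (iv1 F177350) D92871 (iv6 F177444) (iv1 F83773)
def n201453 : Q := act 1 n114527
theorem D201453 : act 1 n114527 = n201453 := rfl
theorem F420557 : act 1 n201453 = n187971 := d15_1 D201453 F387662 F387659
theorem F420558 : act 7 n201453 = n187972 := d15_2 (iv0 F365814) D201453 (iv2 D187972)
theorem F420559 : act 3 n187979 = n201453 := d20_3 (iv4 F394232) (iv1 F394235) (iv4 F372014) (iv1 D201453) (iv3 D114527) F83511 (iv1 D28497) D28498 D60024 D127823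
theorem F420560 : act 2 n201453 = n187554 := d0_1 F420559 (iv3 D187554) F139150 D90708 D187979
theorem F420561 : act 5 n201453 = n192750 := d6_2 (iv5 F372005) F420559 F387655
theorem E103832 : n195877 = n193041 := (c17_7 (iv1 F420557) F420561 (iv1 F387658) F365259 (iv4 F251170) F251171 D195877 (iv5 D193041) D193039 F388574)
theorem F420562 : act 0 n193041 = n106392 := (sb E103832 (iv1 D195877))
def n201454 : Q := act 0 n114535
theorem D201454 : act 0 n114535 = n201454 := rfl
theorem F420563 : act 5 n201454 = n138458 := d17_3 F360561 (iv5 F331542) D201454 (iv4 F379510) (iv5 F379763) F415722 (iv5 F416389) F416388 F372104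
theorem F420564 : act 4 n201454 = n127826 := d18_1 D201454 (iv1 F205647) (iv4 F420046) (iv5 F420048) (iv4 F339999) F339997 (iv4 F360559) F360558 (iv5 F331542)
theorem F420565 : act 2 n134860 = n201454 := d15_3 (iv0 D201454) (iv0 F405850) (iv7 F405856)
theorem F420566 : act 1 n134810 = n201454 := d15_0 (iv0 D201454) (iv7 F351252) (iv2 F351253)
theorem F420567 : act 7 n201454 = n134861 := d15_2 (iv0 F405852) F420566 F405854
def n201455 : Q := act 3 n114537
theorem D201455 : act 3 n114537 = n201455 := rfl
theorem F420568 : act 4 n201455 = n147971 := d5_2 F420197 D201455 (iv3 F387760) D192803 F420198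
theorem F420569 : act 6 n201455 = n147970 := d7_2 (iv6 F419088) D201455 F405866
def n201456 : Q := act 5 n114539
theorem D201456 : act 5 n114539 = n201456 := rfl
theorem F420570 : act 2 n201456 = n114792 := d2_1 D201456 (iv5 D114792) (iv2 F206223)
theorem F420571 : act 3 n201456 = n152227 := d6_1 D201456 (iv5 D152227) (iv3 F339326)
theorem F420572 : act 7 n201456 = n114797 := d13_2 (iv7 F206224) D201456 (iv5 D114797)
theorem F420573 : act 0 n201456 = n201386 := d17_2 D114539 D201456 (iv5 D201386) F318223 D146315 F363428 (iv5 F393269) (iv0 F393273) F178602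
def n201457 : Q := act 5 n114540
theorem D201457 : act 5 n114540 = n201457 := rfl
theorem F420574 : act 2 n201457 = n114797 := d2_1 D201457 (iv5 D114797) (iv2 F206221)
theorem F420575 : act 3 n201457 = n183129 := d6_1 D201457 (iv5 F358474) (iv3 F206220)
theorem F420576 : act 7 n201457 = n114792 := d13_2 (iv7 F206222) D201457 (iv5 D114792)
theorem F420577 : act 1 n201457 = n201386 := d17_6 (iv1 F321608) (iv5 F315159) F317366 F317359 F313876 D201457 (iv5 D201386) (iv0 F334434) (iv4 D139853)
theorem F420578 : act 6 n183128 = n201457 := d21_5 F177191 (iv1 F114657) (iv5 F178699) (iv6 F420530) F420531 (iv5 D201457) (iv1 D114540) D114541 F178605 (iv1 F177189)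
def n201458 : Q := act 6 n114540
theorem D201458 : act 6 n114540 = n201458 := rfl
theorem F420579 : act 2 n201458 = n114798 := d3_1 D201458 (iv6 D114798) (iv2 F206221)
theorem F420580 : act 3 n201458 = n142081 := d7_1 D201458 (iv6 F349006) (iv3 F206220)
theorem F420581 : act 4 n201458 = n116206 := d10_1 D201458 (iv6 F333619) F313876
theorem F420582 : act 5 n201458 = n201426 := d12_1 D201458 (iv6 F420470) F284751 F420578 (iv5 D201457)
theorem F420583 : act 7 n201458 = n141688 := d14_2 (iv7 F206222) D201458 F355398 (iv7 F335148) (iv6 D114793)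
theorem F420584 : act 0 n201458 = n117349 := d21_10 (iv5 F420502) (iv1 F420505) F178738 (iv6 F314387) (iv1 F316009) D114406 D201386 (iv1 F420577) (iv5 D201457) D201458
theorem F420585 : act 1 n201458 = n114712 := d15_1 (iv0 F420584) (iv7 F349965) (iv2 F360657)
def n201459 : Q := act 0 n114541
theorem D201459 : act 0 n114541 = n201459 := rfl
theorem F420586 : act 5 n201459 = n144982 := d17_3 (iv1 D114540) D114541 D201459 (iv4 D144982) F317365 F223019 (iv5 F333622) (iv0 F333620) F313876
theorem F420587 : act 6 n201459 = n193009 := d21_5 (iv5 D105900) F77235 D52870 (iv6 F178605) D201459 (iv5 D193009) (iv1 F177335) D159824 F251903 (iv1 F162630)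
theorem F420588 : act 2 n114799 = n201459 := d3_3 F420587 F388505 (iv6 F371370)
theorem F420589 : act 3 n201459 = n152234 := d0_2 F374232 F420588 (iv2 F355587) (iv3 F370627) (iv2 F374231)
theorem F420590 : act 7 n114800 = n201459 := d15_2 (iv0 D114799) D114800 (iv2 F420588)
theorem F420591 : act 0 n201459 = n114788 := d20_4 F355576 (iv1 F355577) (iv4 F355586) (iv3 F420589) F178872 D115008 F179086 F179005 D195841 F398407
def n201460 : Q := act 1 n114541
theorem D201460 : act 1 n114541 = n201460 := rfl
theorem F420592 : act 1 n201460 = n114788 := d15_1 D201460 F178873 (iv2 F178604)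
theorem F420593 : act 7 n201460 = n114799 := d15_2 (iv0 D201459) D201460 F420588
theorem F420594 : act 5 n201460 = n120108 := d17_7 (iv1 F334976) (iv5 F334980) F408469 F408465 F178602 D114541 D201460 F420291 F420289
theorem F420595 : act 2 n114800 = n201460 := d2_3 F420594 (iv2 F334444) F334442
theorem F420596 : act 3 n143763 = n201460 := d6_3 F420594 F315726 D143763
def n201461 : Q := act 4 n114541
theorem D201461 : act 4 n114541 = n201461 := rfl
theorem F420597 : act 2 n201461 = n114801 := d1_1 D201461 (iv4 D114801) (iv2 F178604)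
theorem F420598 : act 6 n201461 = n114543 := d10_2 (iv6 F178605) D201461 (iv4 D114543)
def n201462 : Q := act 7 n114541
theorem D201462 : act 7 n114541 = n201462 := rfl
theorem F420599 : act 2 n201462 = n114788 := d4_1 D201462 F178873 (iv2 F178604)
theorem F420600 : act 3 n201462 = n146614 := d8_1 D201462 F363436 F178950
theorem F420601 : act 5 n201462 = n114542 := d13_1 D201462 (iv7 D114542) D114541
theorem F420602 : act 6 n201462 = n152777 := d14_1 D201462 (iv7 D152777) (iv6 D72091) (iv7 F83530) (iv6 F178605)
theorem F420603 : act 1 n114800 = n201462 := d15_1 D114800 (iv7 D201462) F178604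
theorem F420604 : act 1 n201462 = n114799 := d15_1 F420603 (iv7 F420593) (iv2 F420595)
def n201463 : Q := act 3 n114543
theorem D201463 : act 3 n114543 = n201463 := rfl
theorem F420605 : act 7 n201463 = n152773 := d8_2 (iv7 F178612) D201463 (iv3 D152773)
def n201464 : Q := act 5 n114543
theorem D201464 : act 5 n114543 = n201464 := rfl
theorem F420606 : act 2 n201464 = n114812 := d2_1 D201464 (iv5 D114812) (iv2 F178611)
theorem F420607 : act 4 n201464 = n117685 := d9_1 D201464 (iv5 D117685) (iv4 D54209) (iv5 D26218) (iv4 F40355) D52582 D113892 D201086 F419040 (iv5 D119007) (iv4 D54763) (iv5 D26481) (iv4 F40558) D52870 D114543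
theorem F420608 : act 7 n201464 = n119640 := d13_2 (iv7 F178612) D201464 F188682
theorem F420609 : act 0 n201464 = n152350 := d17_2 F418335 D201464 F239549 F108455 F52481 (iv0 F42411) D54784 (iv0 F176790) D200900
theorem F420610 : act 1 n201464 = n152292 := d17_6 (iv1 F162630) (iv5 D105900) F77235 D52870 D114543 D201464 (iv5 D152292) D152290 F239387
theorem F420611 : act 0 n201461 = n188370 := d21_4 D152292 (iv1 F420610) (iv5 D201464) (iv6 F420598) (iv6 D188370) F293198 D103945 F349152 (iv6 F361037) (iv1 D152290)
def n201465 : Q := act 3 n114553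
theorem D201465 : act 3 n114553 = n201465 := rfl
theorem F420612 : act 2 n201465 = n194227 := d0_1 D201465 (iv3 F392416) (iv2 F347781) F347782 (iv2 F318194)
theorem F420613 : act 6 n201465 = n186903 := d7_2 (iv6 F253015) D201465 (iv3 F368465)
theorem F420614 : act 7 n201465 = n143657 := d8_2 (iv7 F318195) D201465 (iv3 D143657)
theorem F420615 : act 0 n201465 = n164614 := d19_4 F100688 (iv5 F316590) F253014 D201465 F259536 (iv4 F377237) F377236 (iv1 D97439) F331259 F100073 (iv3 D30284) (iv1 F45720) D59451 F93841 (iv3 F100286) (iv1 F220969) F100664 (iv4 F100660) F102779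
theorem F420616 : act 0 n191323 = n201465 := d20_4 (iv4 F380353) (iv1 F380356) (iv4 F316812) (iv3 F383042) (iv3 D201465) (iv4 F253014) (iv1 D76785) (iv4 F77572) F314513 (iv1 F231752)
def n201466 : Q := act 6 n114564
theorem D201466 : act 6 n114564 = n201466 := rfl
theorem F420617 : act 2 n201466 = n127856 := d3_1 D201466 (iv6 D127856) F178649
theorem F420618 : act 3 n201466 = n131453 := d7_1 D201466 (iv6 D131453) F178652
theorem F420619 : act 4 n201466 = n192632 := d10_1 D201466 (iv6 D192632) F307753
theorem F420620 : act 5 n201466 = n127427 := d12_1 D201466 (iv6 D127427) F94294 (iv6 F112261) (iv5 F178647)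
theorem F420621 : act 0 n201466 = n131612 := d21_4 (iv5 D107892) (iv1 F112263) (iv5 F178647) D201466 (iv6 F383457) F383453 (iv1 D149261) (iv5 F205724) (iv6 D127853) (iv1 F166711)
theorem F420622 : act 0 n197202 = n201466 := d20_10 F420619 F387283 (iv4 D130879) D130878 F335008 (iv3 F247742) (iv4 F348246) (iv1 F364029) (iv4 F337888) D197202
def n201467 : Q := act 5 n114566
theorem D201467 : act 5 n114566 = n201467 := rfl
theorem F420623 : act 2 n201467 = n120107 := d2_1 D201467 (iv5 D120107) (iv2 F283760)
theorem F420624 : act 7 n201467 = n120112 := d13_2 (iv7 F283762) D201467 (iv5 D120112)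
def n201468 : Q := act 5 n114567
theorem D201468 : act 5 n114567 = n201468 := rfl
theorem F420625 : act 2 n201468 = n120112 := d2_1 D201468 (iv5 D120112) (iv2 F283763)
theorem F420626 : act 3 n201468 = n189231 := d6_1 D201468 (iv5 F420405) (iv3 F420402)
theorem F420627 : act 6 n201468 = n189230 := d12_2 (iv6 F420488) D201468 F376159 (iv6 F382994) (iv5 F420484)
theorem F420628 : act 7 n201468 = n120107 := d13_2 (iv7 F283765) D201468 (iv5 D120107)
def n201469 : Q := act 6 n114569
theorem D201469 : act 6 n114569 = n201469 := rfl
theorem F420629 : act 2 n201469 = n123534 := d3_1 D201469 (iv6 D123534) (iv2 F178660)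
theorem F420630 : act 3 n201469 = n114570 := d7_1 D201469 (iv6 D114570) D114569
theorem F420631 : act 4 n201469 = n123521 := d10_1 D201469 (iv6 D123521) (iv4 F178661)
theorem F420632 : act 0 n201469 = n191072 := d20_4 (iv4 F258973) (iv1 D164345) (iv4 F178663) (iv3 F420630) (iv3 D191072) F332450 F114825 D154931 F382259 (iv1 D191108)
def n201470 : Q := act 6 n114579
theorem D201470 : act 6 n114579 = n201470 := rfl
theorem F420633 : act 2 n201470 = n145017 := d3_1 D201470 (iv6 D145017) (iv2 F318208)
theorem F420634 : act 3 n201470 = n189689 := d7_1 D201470 (iv6 F377401) (iv3 F341579)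
theorem F420635 : act 0 n201470 = n164514 := d21_10 (iv5 D164514) (iv1 D79006) (iv5 F97662) (iv6 D62619) F50921 (iv6 F83583) (iv5 D52892) D52890 D114579 D201470
def n201471 : Q := act 3 n114594
theorem D201471 : act 3 n114594 = n201471 := rfl
def n201472 : Q := act 6 n114594
theorem D201472 : act 6 n114594 = n201472 := rfl
theorem F420636 : act 2 n201472 = n131120 := d3_1 D201472 (iv6 D131120) (iv2 F178678)
theorem F420637 : act 4 n201472 = n114595 := d10_1 D201472 (iv6 D114595) D114594
theorem F420638 : act 7 n201472 = n135760 := d14_2 F215036 D201472 F218296 D135768 F333580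
theorem F420639 : act 5 n201472 = n135761 := d21_6 (iv5 D78893) D78891 D164219 F333556 F209446 D201472 (iv1 F218301) (iv5 F399891) (iv6 D196210) F340666
theorem F420640 : act 0 n133581 = n201472 := d21_4 (iv5 D35915) F54425 D62690 D133581 (iv6 D201472) (iv5 F215101) (iv1 F333553) F333555 F333550 (iv1 F77994)
theorem F420641 : act 1 n195988 = n201472 := d15_0 (iv0 F420640) (iv7 F395440) (iv2 F398978)
def n201473 : Q := act 0 n114595
theorem D201473 : act 0 n114595 = n201473 := rfl
theorem F420642 : act 5 n201473 = n182407 := d17_3 (iv1 F157563) (iv5 F178682) D201473 (iv4 D182407) (iv5 F328106) F328105 (iv5 D86951) D86950 (iv4 F144568)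
theorem F420643 : act 6 n201473 = n164514 := d21_5 (iv5 D25678) D25676 D52895 D114595 D201473 (iv5 D164514) (iv1 D79006) (iv5 F97662) (iv6 D62619) F50921
theorem F420644 : act 2 n131121 = n201473 := d15_3 (iv0 D201473) F376166 F376162
theorem F420645 : act 1 n131123 = n201473 := d15_0 (iv0 D201473) (iv7 F383887) F383885
theorem F420646 : act 7 n201473 = n131122 := d15_2 (iv0 F376165) F420645 (iv2 F383013)
def n201474 : Q := act 3 n114596
theorem D201474 : act 3 n114596 = n201474 := rfl
theorem F420647 : act 4 n201474 = n159986 := d5_2 D114596 D201474 F366755 (iv4 D157355) F112310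
def n201475 : Q := act 6 n114596
theorem D201475 : act 6 n114596 = n201475 := rfl
theorem F420648 : act 2 n201475 = n130619 := d3_1 D201475 (iv6 D130619) (iv2 F178683)
theorem F420649 : act 4 n201475 = n114597 := d10_1 D201475 (iv6 D114597) D114596
def n201476 : Q := act 5 n114598
theorem D201476 : act 5 n114598 = n201476 := rfl
theorem F420650 : act 3 n201476 = n201398 := d6_1 D201476 (iv5 D201398) (iv3 F364980)
theorem F420651 : act 4 n201476 = n131487 := d9_1 D201476 (iv5 D131487) (iv4 D61707) F46918 F41872 D52637 D114051 D201178 F419340 (iv5 D192631) F307753 F178647 F112260 (iv5 F120071) (iv4 F178687)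
theorem F420652 : act 7 n201476 = n164231 := d13_2 F178688 D201476 (iv5 D164231)
def n201477 : Q := act 1 n114599
theorem D201477 : act 1 n114599 = n201477 := rfl
theorem F420653 : act 1 n201477 = n198951 := d15_1 D201477 F410029 F356884
theorem F420654 : act 7 n201477 = n198958 := d15_2 (iv0 F398909) D201477 (iv2 F410066)
theorem F420655 : act 2 n196131 = n201477 := d4_3 F420654 (iv2 F410066) (iv7 F399544)
theorem F420656 : act 3 n151709 = n201477 := d8_3 F420654 F410065 F392242
def n201478 : Q := act 5 n114599
theorem D201478 : act 5 n114599 = n201478 := rfl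
theorem F420657 : act 3 n201478 = n114600 := d6_1 D201478 (iv5 D114600) D114599
theorem F420658 : act 7 n201478 = n198959 := d13_2 F356882 D201478 (iv5 D198959)
theorem F420659 : act 4 n201478 = n136608 := d19_2 (iv1 D201477) D201478 F219694 (iv1 F337457) F337459 F219481 (iv3 F312276) F312275 F220200 D120172 (iv3 F363114) (iv1 F286415) F332301 F108422 F87971 D71448 D151564 (iv4 F392241) F420656
def n201479 : Q := act 0 n114600
theorem D201479 : act 0 n114600 = n201479 := rfl
theorem F420660 : act 5 n201479 = n157391 := d17_3 F177549 D114600 D201479 (iv4 D157391) F112344 (iv0 D49810) (iv5 F77746) (iv0 F83166) D114051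
theorem F420661 : act 4 n201479 = n131401 := d18_1 D201479 (iv1 F307757) D194709 F394182 F187377 F120072 (iv4 F178687) (iv0 D114598) D114600
theorem F420662 : act 1 n201367 = n201479 := d15_0 (iv0 D201479) F356872 (iv2 F420203)
theorem F420663 : act 3 n157746 = n201479 := d5_5 F420661 F357932 (iv4 F195698) D193061 F388623
theorem F420664 : act 7 n192668 = n201479 := d11_0 F420661 (iv7 F357931) D192668
def n201480 : Q := act 1 n114600
theorem D201480 : act 1 n114600 = n201480 := rfl
theorem F420665 : act 1 n201480 = n201367 := d15_1 D201480 F420207 (iv2 F356870)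
theorem F420666 : act 5 n201480 = n131398 := d17_7 F95775 (iv5 D29670) F54282 D25678 D52897 D114600 D201480 F210615 (iv4 D130615)
theorem F420667 : act 4 n201480 = n157401 := d17_9 F247885 F187535 (iv1 F96306) D131487 (iv4 F420651) (iv5 D201476) (iv0 D114598) D114600 D201480
theorem F420668 : act 2 n192668 = n201480 := d1_3 F420667 (iv2 F357929) D192668
theorem F420669 : act 6 n201480 = n135792 := d3_2 (iv6 F387424) F420668 F218382
def n201481 : Q := act 5 n114606
theorem D201481 : act 5 n114606 = n201481 := rfl
theorem F420670 : act 4 n201481 = n184499 := d16_2 (iv4 F347804) D201481 F413031 (iv4 D199657) (iv5 D111568) (iv4 F173076) F347812 (iv7 F347794) F347792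
theorem F420671 : act 6 n201481 = n184498 := d21_9 (iv5 D184506) (iv1 F177352) D187735 F371367 (iv1 D114611) (iv6 F178697) (iv5 D114608) D114606 D201481 F374252
def n201482 : Q := act 6 n114606
theorem D201482 : act 6 n114606 = n201482 := rfl
theorem F420672 : act 2 n201482 = n189283 := d3_1 D201482 (iv6 F376326) (iv2 F347802)
theorem F420673 : act 3 n201482 = n159842 := d7_1 D201482 (iv6 F251976) (iv3 F347803)
theorem F420674 : act 4 n201482 = n152476 := d10_1 D201482 (iv6 D152476) (iv4 F347804)
theorem F420675 : act 7 n201482 = n189288 := d14_2 (iv7 F347805) D201482 F376337 F413010 F413009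
theorem F420676 : act 5 n201482 = n159841 := d21_6 (iv5 D16018) (iv1 F37280) D25681 D52901 D114606 D201482 (iv1 F333361) F144543 (iv6 D71778) (iv1 F52405)
def n201483 : Q := act 5 n114607
theorem D201483 : act 5 n114607 = n201483 := rfl
def n201484 : Q := act 0 n114608
theorem D201484 : act 0 n114608 = n201484 := rfl
theorem F420677 : act 5 n201484 = n199576 := d17_3 (iv1 D114607) D114608 D201484 (iv4 D199576) (iv5 D111443) (iv0 F347817) (iv5 D71923) D71922 (iv4 F347808)
theorem F420678 : act 4 n201484 = n152524 := d18_1 D201484 (iv1 F413403) F413397 F239358 (iv4 F321008) F321006 (iv4 F347804) (iv0 D114606) D114608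
theorem F420679 : act 3 n115048 = n201484 := d20_5 F353545 (iv1 F412452) F412454 F179163 D115048 F420678 (iv1 F413403) F413397 (iv3 F413385) F413384
def n201485 : Q := act 1 n114608
theorem D201485 : act 1 n114608 = n201485 := rfl
theorem F420680 : act 4 n201485 = n152525 := d17_9 (iv1 D152525) D152527 F413033 (iv5 F413031) (iv4 F420670) (iv5 D201481) (iv0 D114606) D114608 D201485
def n201486 : Q := act 4 n114608
theorem D201486 : act 4 n114608 = n201486 := rfl
theorem F420681 : act 6 n201486 = n114612 := d10_2 (iv6 F178697) D201486 (iv4 D114612)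
theorem F420682 : act 5 n201486 = n199586 := d16_3 F178695 D114608 D201486 (iv4 D199586) (iv5 D111457) D111456 (iv5 F182069) F182064 F321011
theorem F420683 : act 3 n201486 = n199775 := d20_3 (iv4 F420680) (iv1 D201485) D201486 (iv1 D199775) (iv3 D111717) (iv4 D51513) D51511 D111710 D199765 (iv1 F413400)
def n201487 : Q := act 7 n114608
theorem D201487 : act 7 n114608 = n201487 := rfl
theorem F420684 : act 3 n201487 = n114640 := d8_1 D201487 (iv7 D114640) (iv3 F178696)
theorem F420685 : act 5 n201487 = n114609 := d13_1 D201487 (iv7 D114609) D114608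
theorem F420686 : act 6 n201487 = n201478 := d14_1 D201487 F420658 F410069 F177183 (iv6 F178697)
def n201488 : Q := act 3 n114612
theorem D201488 : act 3 n114612 = n201488 := rfl
theorem F420687 : act 4 n201488 = n114647 := d5_2 D114612 D201488 (iv3 D114647) (iv4 D52916) (iv3 F83594)
theorem F420688 : act 6 n201488 = n199775 := d7_2 F420681 D201488 (iv3 F420683)
theorem F420689 : act 7 n201488 = n191265 := d8_2 (iv7 F239734) D201488 F382816
theorem F420690 : act 2 n192048 = n201488 := d4_3 F420689 F382815 D192048
theorem F420691 : act 1 n192046 = n201488 := d15_1 D192046 F420689 F382815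
theorem F420692 : act 1 n201488 = n192045 := d15_0 (iv0 D192045) D192048 F420690
theorem F420693 : act 3 n136591 = n192045 := d20_3 (iv4 F212711) F388564 F388563 (iv1 F420692) (iv3 D201488) (iv4 D114612) D114610 (iv4 F178703) (iv3 F388381) (iv1 D136529)
def n201489 : Q := act 5 n114612
theorem D201489 : act 5 n114612 = n201489 := rfl
theorem F420694 : act 4 n201489 = n119638 := d16_2 D114612 D201489 F188678 F323756 (iv5 F323757) F77243 D52974 (iv7 F162629) F162628
def n201490 : Q := act 5 n114614
theorem D201490 : act 5 n114614 = n201490 := rfl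
theorem F420695 : act 2 n201490 = n118231 := d2_1 D201490 (iv5 D118231) (iv2 F190306)
theorem F420696 : act 7 n201490 = n142002 := d13_2 (iv7 F190308) D201490 F348371
theorem F420697 : act 4 n201490 = n178713 := d16_2 (iv4 F190307) D201490 (iv5 F366579) (iv4 F278238) F352227 (iv4 D165657) (iv5 F325405) F187640 F187643
theorem F420698 : act 0 n201490 = n142070 := d17_2 F300969 D201490 F319309 (iv4 F264407) (iv5 F274406) F274408 (iv5 D119239) F300972 (iv4 F205931)
theorem F420699 : act 1 n201490 = n142131 := d17_6 (iv1 F278060) D85135 (iv1 F324250) (iv5 F325402) (iv4 F190307) D201490 F356226 F274162 (iv4 F155290)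
def n201491 : Q := act 6 n114614
theorem D201491 : act 6 n114614 = n201491 := rfl
theorem F420700 : act 2 n201491 = n118232 := d3_1 D201491 (iv6 D118232) (iv2 F190306)
theorem F420701 : act 0 n201491 = n127647 := d21_10 (iv5 D127647) D127645 (iv5 F205207) F184577 F131875 D175154 (iv5 F356226) (iv1 F420699) (iv5 D201490) D201491
theorem F420702 : act 0 n150104 = n201491 := d21_4 D179986 F280339 (iv5 D150103) D150104 (iv6 D201491) D201490 F420698 F319309 F264405 (iv1 F273263)
def n201492 : Q := act 6 n114617
theorem D201492 : act 6 n114617 = n201492 := rfl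
theorem F420703 : act 2 n201492 = n118251 := d3_1 D201492 (iv6 D118251) (iv2 F178714)
theorem F420704 : act 5 n201492 = n144964 := d12_1 D201492 (iv6 D144964) F104078 (iv6 F83601) D114617
theorem F420705 : act 0 n139847 = n144161 := d21_10 (iv5 F397489) F397492 (iv5 F420704) (iv6 D201492) (iv1 F178716) (iv6 F319284) F319283 D127536 (iv5 F408690) (iv6 F408692)
def n201493 : Q := act 6 n114620
theorem D201493 : act 6 n114620 = n201493 := rfl
theorem F420706 : act 2 n201493 = n150024 := d3_1 D201493 (iv6 D150024) (iv2 F178726)
theorem F420707 : act 3 n201493 = n118309 := d7_1 D201493 (iv6 D118309) (iv3 F178727)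
theorem F420708 : act 4 n201493 = n144198 := d10_1 D201493 (iv6 D144198) (iv4 F322550)
theorem F420709 : act 5 n201493 = n127860 := d12_1 D201493 (iv6 D127860) F94581 (iv6 F83606) (iv5 F178729)
theorem F420710 : act 0 n201493 = n155898 := d21_4 (iv5 D70580) (iv1 F83608) (iv5 F178729) D201493 F244889 (iv5 D145075) (iv1 F251051) (iv5 F344493) F344494 (iv1 F114299)
def n201494 : Q := act 5 n114634
theorem D201494 : act 5 n114634 = n201494 := rfl
theorem F420711 : act 2 n201494 = n148003 := d2_1 D201494 (iv5 D148003) (iv2 F316466)
theorem F420712 : act 3 n201494 = n195575 := d6_1 D201494 F397409 (iv3 F316467)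
def n201495 : Q := act 4 n114635
theorem D201495 : act 4 n114635 = n201495 := rfl
def n201496 : Q := act 4 n114638
theorem D201496 : act 4 n114638 = n201496 := rfl
theorem F420713 : act 3 n201496 = n135725 := d5_1 D201496 (iv4 D135725) (iv3 F218212) F327879 (iv3 F360661)
theorem F420714 : act 0 n201496 = n119211 := d17_0 F362383 F412758 F420476 (iv4 D201428) (iv5 D114490) (iv0 F290329) D52912 D114638 D201496
theorem F420715 : act 5 n199043 = n201496 := d18_9 F420714 (iv4 D119211) D119209 F363999 (iv5 D115921) (iv4 F162168) D195412 (iv4 F396930) D199043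
theorem F420716 : act 6 n155491 = n201496 := d21_3 (iv5 F372337) (iv1 D155489) D155491 F420714 F187580 (iv5 F335360) (iv1 F140426) D99378 (iv6 F355597) F372343
theorem F420717 : act 1 n201496 = n157475 := d15_1 (iv0 F420714) (iv7 F373277) F373273
theorem F420718 : act 4 n199043 = n143038 := d19_2 (iv1 F420717) (iv5 F420715) F360859 (iv1 D115432) (iv5 F174596) (iv4 F414619) (iv3 D200012) (iv1 F408215) F408213 F321936 F353326 F379370 F379366 F244978 F168588 (iv1 F168572) D197768 (iv4 F405699) F373286
theorem F420719 : act 2 n141129 = n199043 := d1_3 F420718 F397150 (iv4 F397149)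
def n201497 : Q := act 6 n114638
theorem D201497 : act 6 n114638 = n201497 := rfl
theorem F420720 : act 3 n201497 = n146520 := d7_1 D201497 (iv6 D146520) (iv3 F360661)
theorem F420721 : act 4 n201497 = n155491 := d10_1 D201497 F420716 (iv4 D201496)
theorem F420722 : act 5 n155473 = n201497 := d16_3 (iv4 F108529) D152736 (iv4 F244469) F420721 (iv5 D155491) (iv4 D73952) D73953 (iv7 F188615) F188611
theorem F420723 : act 0 n152232 = n201497 := d18_2 F244519 F339222 F420721 (iv5 D155491) (iv4 D73952) (iv0 D33948) D33950 D73961 D155502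
theorem F420724 : act 1 n152227 = n201497 := d15_0 (iv0 F420723) (iv7 F339335) F339336
def n201498 : Q := act 0 n114639
theorem D201498 : act 0 n114639 = n201498 := rfl
theorem F420725 : act 5 n201498 = n115920 := d17_3 D65431 (iv5 F349983) D201498 (iv4 F396932) F396933 (iv0 F364291) (iv5 F340719) (iv0 D139394) F101143
theorem F420726 : act 2 n115921 = n201498 := d15_3 (iv0 D201498) F353534 (iv7 F180486)
theorem F420727 : act 1 n134009 = n201498 := d15_0 (iv0 D201498) (iv7 F406660) F406658
theorem F420728 : act 7 n201498 = n134007 := d15_2 D134009 F420727 F215939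
theorem F420729 : act 3 n139287 = n201498 := d8_3 F420728 F215940 (iv7 F222486)
def n201499 : Q := act 3 n114639
theorem D201499 : act 3 n114639 = n201499 := rfl
theorem F420730 : act 4 n201499 = n199775 := d5_2 D114639 D201499 (iv3 F420683) (iv4 D201486) F178696
theorem F420731 : act 5 n201499 = n139403 := d6_2 (iv5 F349983) D201499 (iv3 D139403)
theorem F420732 : act 6 n201499 = n114647 := d7_2 (iv6 F178737) D201499 (iv3 D114647)
theorem F420733 : act 0 n193100 = n201499 := d20_4 (iv4 F400174) (iv1 F400177) (iv4 F372453) D193100 (iv3 D201499) (iv4 D114639) (iv1 F349970) F387681 (iv3 D192757) (iv1 F350411)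
theorem F420734 : act 2 n192049 = n201499 := d3_3 F420732 F335406 D192049
def n201500 : Q := act 0 n114642
theorem D201500 : act 0 n114642 = n201500 := rfl
def n201501 : Q := act 1 n114642
theorem D201501 : act 1 n114642 = n201501 := rfl
theorem F420735 : act 1 n201501 = n151233 := d15_1 D201501 (iv7 D151233) (iv2 F178741)
theorem F420736 : act 5 n135787 = n201501 := d21_0 (iv1 D201501) F178742 (iv6 D68825) F83085 D113845 (iv5 F209194) F370293 F370288 F218420 (iv1 F218369)
theorem F420737 : act 2 n201501 = n151232 := d2_1 F420736 (iv5 F338618) (iv2 F355294)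
def n201502 : Q := act 7 n114642
theorem D201502 : act 7 n114642 = n201502 := rfl
theorem F420738 : act 2 n201502 = n151233 := d4_1 D201502 (iv7 D151233) (iv2 F178741)
theorem F420739 : act 3 n201502 = n146431 := d8_1 D201502 F335951 F229760
theorem F420740 : act 5 n201502 = n135664 := d13_1 D201502 F335973 (iv5 F178742)
theorem F420741 : act 6 n201502 = n152237 := d14_1 D201502 (iv7 D152237) F108264 (iv7 F83615) D114642
theorem F420742 : act 1 n151233 = n201500 := d15_0 (iv0 D201500) D201502 F420738
theorem F420743 : act 1 n151232 = n201502 := d15_1 D151232 (iv7 D201502) F178741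
theorem F420744 : act 7 n201500 = n151232 := d15_2 F420735 F420742 (iv2 F420737)
theorem F420745 : act 5 n130952 = n201500 := d21_0 (iv1 F420742) (iv5 F362730) (iv6 D135862) (iv1 D63880) (iv6 D30132) (iv5 D14301) D14298 D30121 D63847 (iv1 F355296)
theorem F420746 : act 3 n201500 = n130953 := d6_1 F420745 (iv5 D130953) D130952
theorem F420747 : act 2 n201500 = n151231 := d15_3 (iv0 D151231) D151232 (iv7 F420744)
theorem F420748 : act 5 n151231 = n135593 := d2_2 F420745 F420747 (iv2 F364477)
theorem F420749 : act 7 n151231 = n201501 := d4_2 (iv7 F420744) F420747 F420737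
theorem F420750 : act 1 n201502 = n151231 := d15_1 F420743 F420749 F420737
def n201503 : Q := act 0 n114644
theorem D201503 : act 0 n114644 = n201503 := rfl
theorem F420751 : act 2 n188625 = n201503 := d15_3 (iv0 D201503) (iv0 F376139) (iv7 F374237)
def n201504 : Q := act 5 n114645
theorem D201504 : act 5 n114645 = n201504 := rfl
theorem F420752 : act 2 n201504 = n194665 := d2_1 D201504 F394014 F187584
theorem F420753 : act 3 n201504 = n189093 := d6_1 D201504 F375723 (iv3 F365230)
theorem F420754 : act 4 n201504 = n155734 := d16_2 (iv4 F179179) D201504 F244743 F187546 (iv5 F227897) F227898 (iv5 F178135) (iv7 F178139) F179180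
theorem F420755 : act 0 n201504 = n190384 := d17_2 D114645 D201504 F379627 (iv4 D151223) (iv5 F176771) (iv0 F176772) (iv5 F83503) (iv0 F83504) D52916
theorem F420756 : act 1 n201504 = n190385 := d17_6 D114190 F177972 F104227 (iv5 F179178) (iv4 F179179) D201504 F379628 F237954 (iv4 D114191)
theorem F420757 : act 0 n201065 = n139415 := d21_4 D201504 F420755 F379627 (iv6 F418959) (iv6 D139415) (iv5 D65434) D65431 (iv5 F349983) F178737 D114645
theorem F420758 : act 6 n201504 = n183231 := d21_9 D190376 F412715 F412708 F294417 (iv1 F157780) F335404 (iv5 D114648) D114645 D201504 F284881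
def n201505 : Q := act 6 n114645
theorem D201505 : act 6 n114645 = n201505 := rfl
theorem F420759 : act 3 n201505 = n192001 := d7_1 D201505 (iv6 D192001) (iv3 F365230)
def n201506 : Q := act 5 n114646
theorem D201506 : act 5 n114646 = n201506 := rfl
theorem F420760 : act 3 n201506 = n139606 := d6_1 D201506 (iv5 F345055) F349167
theorem F420761 : act 4 n201506 = n155735 := d9_1 D201506 F244747 F187540 (iv5 D68020) D68019 (iv5 F179178) (iv4 F179179) D201504 F420754 F244743 F187546 (iv5 F227897) F227898 (iv5 F178135) (iv4 F178746)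
theorem F420762 : act 7 n201506 = n194665 := d13_2 F187585 D201506 F394014
theorem F420763 : act 0 n201506 = n190385 := d17_2 F392548 D201506 F379628 (iv4 D151224) F107769 (iv0 F104139) F87982 (iv0 F178386) (iv4 F392544)
theorem F420764 : act 1 n201506 = n190384 := d17_6 F163524 F163522 F142211 (iv5 F178135) (iv4 F178746) D201506 F379627 F237952 (iv4 D119213)
theorem F420765 : act 6 n201506 = n199940 := d21_3 D194260 F392548 D201506 F414240 (iv6 D186485) D186484 (iv1 F356605) (iv5 F385136) (iv6 D191993) F177440
def n201507 : Q := act 1 n114650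
theorem D201507 : act 1 n114650 = n201507 := rfl
theorem F420766 : act 1 n201507 = n145030 := d15_1 D201507 (iv7 F420207) F420203
theorem F420767 : act 7 n201507 = n201480 := d15_2 F387423 D201507 (iv2 F420668)
theorem F420768 : act 5 n201507 = n119098 := d17_7 (iv1 D61513) (iv5 D29123) (iv1 F54270) (iv5 F83588) (iv4 F178689) F356875 D201507 (iv0 F210002) (iv4 D131115)
theorem F420769 : act 4 n201507 = n119182 := d17_9 (iv1 D119182) (iv5 D54844) (iv1 F309595) D100470 F311796 (iv5 D164231) F178690 F356875 D201507
theorem F420770 : act 2 n201479 = n201507 := d1_3 F420769 (iv2 F210619) (iv4 F420661)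
def n201508 : Q := act 5 n114657
theorem D201508 : act 5 n114657 = n201508 := rfl
theorem F420771 : act 2 n201508 = n114711 := d2_1 D201508 (iv5 D114711) (iv2 F337867)
theorem F420772 : act 3 n201508 = n146523 := d6_1 D201508 (iv5 D146523) (iv3 F337868)
theorem F420773 : act 4 n201508 = n197617 := d9_1 D201508 F405036 (iv4 F397631) F397630 (iv4 F363924) F233220 F324994 D121340 (iv4 F405040) F405042 (iv4 F397617) F397616 F361080 (iv5 F241769) F338595
theorem F420774 : act 6 n201508 = n155473 := d12_2 (iv6 F337869) D201508 F420722 (iv6 D201497) F360662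
theorem F420775 : act 7 n201508 = n114716 := d13_2 (iv7 F337870) D201508 (iv5 D114716)
theorem F420776 : act 0 n201508 = n197140 := d17_2 D114657 D201508 F403228 F315076 (iv5 F322857) F322854 F185696 (iv0 D106078) (iv4 F313534)
theorem F420777 : act 1 n201508 = n115229 := d17_6 (iv1 D69270) D69273 D147837 (iv5 F241769) F338595 D201508 F338534 D127742 (iv4 F205353)
def n201509 : Q := act 5 n114667
theorem D201509 : act 5 n114667 = n201509 := rfl
theorem F420778 : act 2 n201509 = n152196 := d2_1 D201509 (iv5 D152196) (iv2 F259174)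
theorem F420779 : act 3 n201509 = n114669 := d6_1 D201509 (iv5 D114669) D114667
theorem F420780 : act 7 n201509 = n114777 := d13_2 (iv7 F178781) D201509 (iv5 D114777)
theorem F420781 : act 6 n201509 = n135534 := d21_3 F336457 (iv1 F258998) D201509 F344975 (iv6 D63857) (iv5 D30124) (iv1 D14299) D14301 D30132 D63879
def n201510 : Q := act 6 n114667
theorem D201510 : act 6 n114667 = n201510 := rfl
theorem F420782 : act 2 n201510 = n152197 := d3_1 D201510 (iv6 D152197) (iv2 F259174)
theorem F420783 : act 3 n201510 = n114670 := d7_1 D201510 (iv6 D114670) D114667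
theorem F420784 : act 5 n201510 = n133408 := d21_6 F56641 F37292 D26380 D54550 (iv1 F258998) D201510 (iv1 D133408) F97662 (iv6 D35959) D35956
theorem F420785 : act 0 n173516 = n201510 := d17_0 F420784 (iv1 D133408) F97662 (iv4 F120189) D164507 F332303 (iv5 F340657) F271957 D173516
def n201511 : Q := act 6 n114677
theorem D201511 : act 6 n114677 = n201511 := rfl
theorem F420786 : act 3 n201511 = n114678 := d7_1 D201511 (iv6 D114678) D114677
theorem F420787 : act 4 n201511 = n186752 := d10_1 D201511 F367885 (iv4 F178795)
theorem F420788 : act 1 n194511 = n201511 := d18_6 F385138 F385135 (iv1 F380419) F380416 (iv5 F347307) (iv4 F393509) F420787 (iv0 F385457) (iv5 D192079)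
def n201512 : Q := act 6 n114699
theorem D201512 : act 6 n114699 = n201512 := rfl
theorem F420789 : act 3 n201512 = n114860 := d7_1 D201512 (iv6 D114860) (iv3 F338603)
theorem F420790 : act 4 n201512 = n164283 := d10_1 D201512 (iv6 D164283) (iv4 F338544)
theorem F420791 : act 0 n201512 = n152233 := d21_4 F403228 F315073 F338541 D201512 (iv6 D152233) D152232 F420723 (iv5 F420722) (iv6 F420774) F420776
theorem F420792 : act 0 n133439 = n201512 := d21_4 F328436 F93575 D62629 D133439 (iv6 D201512) (iv5 F338541) (iv1 D127742) (iv5 F338534) (iv6 D115229) F328840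
theorem F420793 : act 7 n199576 = n201512 := d11_0 F420790 (iv7 F354605) D199576
def n201513 : Q := act 6 n114700
theorem D201513 : act 6 n114700 = n201513 := rfl
theorem F420794 : act 2 n201513 = n173500 := d3_1 D201513 (iv6 F360267) F338605
theorem F420795 : act 3 n201513 = n114940 := d7_1 D201513 (iv6 F377402) (iv3 F338553)
theorem F420796 : act 4 n201513 = n164288 := d10_1 D201513 (iv6 D164288) (iv4 F338554)
theorem F420797 : act 5 n201513 = n201470 := d12_1 D201513 (iv6 D201470) (iv5 D114579) D114580 F178807
theorem F420798 : act 0 n164512 = n201470 := d21_1 D164512 (iv5 F420797) (iv6 D201513) (iv1 D114700) (iv6 D52939) (iv5 F41869) (iv1 D17408) D17409 D35959 D79005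
theorem F420799 : act 7 n173516 = n201513 := d11_0 F420796 F338572 D173516
theorem F420800 : act 0 n152197 = n201513 := d20_10 F420796 F338569 (iv4 F334826) F334823 (iv1 F163439) F398364 F398363 F318652 D147295 (iv3 F259178)
theorem F420801 : act 1 n173500 = n201510 := d15_0 (iv0 F420785) F420799 F420794
def n201514 : Q := act 6 n114711
theorem D201514 : act 6 n114711 = n201514 := rfl
theorem F420802 : act 2 n201514 = n155473 := d3_1 D201514 (iv6 F420774) F420771
theorem F420803 : act 3 n201514 = n114847 := d7_1 D201514 (iv6 D114847) (iv3 F325988)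
theorem F420804 : act 7 n201514 = n155472 := d14_2 (iv7 F325989) D201514 (iv6 F419652) (iv7 F338521) F338531
theorem F420805 : act 0 n201514 = n155448 := d21_4 F83660 D52943 D114711 D201514 F355585 D164512 F420798 (iv5 F420797) (iv6 D201513) (iv1 D114700)
theorem F420806 : act 1 n201514 = n119852 := d15_1 (iv0 F420805) F189183 (iv2 F244421)
def n201515 : Q := act 5 n114717
theorem D201515 : act 5 n114717 = n201515 := rfl
theorem F420807 : act 3 n201515 = n119026 := d6_1 D201515 (iv5 F396322) F396320
theorem F420808 : act 6 n201515 = n151622 := d12_2 D114717 D201515 (iv5 D151622) (iv6 F338530) (iv5 D114716)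
theorem F420809 : act 0 n201515 = n120112 := d17_2 (iv1 F363907) D201515 (iv5 D120112) D120111 (iv5 F333601) F321728 F183341 F183340 (iv4 F318646)
theorem F420810 : act 4 n120112 = n200447 := d18_1 F420809 (iv1 D200447) F392240 F392237 F230834 (iv0 D117183) (iv4 F183339) F363909 D201515
theorem F420811 : act 0 n120107 = n201515 := d21_1 D120107 (iv5 D201515) (iv6 D114717) (iv1 D52944) (iv6 D25702) (iv5 F27035) (iv1 D12762) D12764 D26707 D55263
theorem F420812 : act 5 n200447 = n188456 := d16_1 F420810 F410094 F373627 (iv4 D141598) (iv5 F320020) (iv4 D120106) D120107 (iv7 F420628) F420625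
theorem F420813 : act 3 n188458 = n200447 := d6_3 F420812 (iv3 D188456) D188458
def n201516 : Q := act 0 n114736
theorem D201516 : act 0 n114736 = n201516 := rfl
theorem F420814 : act 5 n201516 = n151991 := d17_1 D201516 (iv1 D151991) (iv5 F183143) F183142 D145967 F388513 (iv5 F420492) F420490 F383381
theorem F420815 : act 4 n201516 = n187440 := d18_1 D201516 (iv1 D187440) F333656 F333654 (iv4 F364612) F303157 (iv4 F309814) (iv0 D114734) D114736
theorem F420816 : act 3 n201516 = n157469 := d20_5 (iv4 D117653) D117651 (iv4 F340866) (iv3 F355219) D201516 (iv4 F364482) (iv1 F364481) F341007 F341005 F184244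
theorem F420817 : act 2 n175222 = n201516 := d15_3 (iv0 D201516) F344378 (iv7 F344376)
theorem F420818 : act 6 n201516 = n145889 := d3_2 F355316 F420817 F334973
theorem F420819 : act 7 n201516 = n175223 := d4_2 (iv7 F344376) F420817 F359667
theorem F420820 : act 1 n175225 = n201516 := d15_1 (iv0 F344379) F420819 F359667
def n201517 : Q := act 7 n114736
theorem D201517 : act 7 n114736 = n201517 := rfl
theorem F420821 : act 2 n201517 = n175225 := d4_1 D201517 (iv7 D175225) (iv2 F178842)
theorem F420822 : act 3 n201517 = n146366 := d8_1 D201517 F355220 (iv3 F355219)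
theorem F420823 : act 4 n201517 = n146379 := d11_1 D201517 (iv7 F383382) F383381
theorem F420824 : act 5 n201517 = n114737 := d13_1 D201517 (iv7 D114737) D114736
theorem F420825 : act 6 n201517 = n146364 := d14_1 D201517 F349963 F338647 (iv7 D114751) (iv6 F178843)
theorem F420826 : act 1 n175223 = n201517 := d15_1 D175223 (iv7 D201517) F178842
theorem F420827 : act 1 n201517 = n175222 := d15_1 F420826 F344376 (iv2 F359667)
def n201518 : Q := act 3 n114750
theorem D201518 : act 3 n114750 = n201518 := rfl
theorem F420828 : act 2 n201518 = n146345 := d0_1 D201518 F356669 (iv2 F179044) (iv3 F339578) F338652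
theorem F420829 : act 4 n201518 = n117319 := d5_2 D114750 D201518 F334961 F334962 (iv3 F315424)
theorem F420830 : act 5 n201518 = n188777 := d6_2 F338664 D201518 F374845
theorem F420831 : act 6 n201518 = n117865 := d7_2 F383383 D201518 (iv3 F383380)
theorem F420832 : act 7 n201518 = n117315 := d8_2 F338670 D201518 (iv3 F338669)
theorem F420833 : act 0 n201518 = n146343 := d20_4 F338641 F317673 D114750 D201518 F369520 (iv4 F388130) F419905 F419903 (iv3 F340917) (iv1 F338640)
theorem F420834 : act 1 n201518 = n146342 := d15_1 (iv0 F420833) F355712 (iv2 F339441)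
def n201519 : Q := act 5 n114752
theorem D201519 : act 5 n114752 = n201519 := rfl
theorem F420835 : act 2 n201519 = n145510 := d2_1 D201519 (iv5 F393649) F393648
theorem F420836 : act 3 n201519 = n144494 := d6_1 D201519 F333259 (iv3 F178853)
theorem F420837 : act 6 n201519 = n201494 := d12_2 D114752 D201519 (iv5 D201494) F338647 F178852
theorem F420838 : act 7 n201519 = n114755 := d13_2 (iv7 F178855) D201519 (iv5 D114755)
theorem F420839 : act 0 n201519 = n145504 := d17_2 F393272 D201519 F334980 D147889 (iv5 F375409) F375411 (iv5 F419448) F419451 (iv4 F393268)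
theorem F420840 : act 1 n201519 = n145512 := d17_6 (iv1 F334953) (iv5 F420586) F420591 (iv5 D114788) (iv4 F178854) D201519 (iv5 F334974) (iv0 D145889) F104573
def n201520 : Q := act 0 n114755
theorem D201520 : act 0 n114755 = n201520 := rfl
theorem F420841 : act 5 n201520 = n146313 := d17_3 F192428 D114755 D201520 F334437 F355317 (iv0 F143459) (iv5 F177735) (iv0 F393629) F393627
theorem F420842 : act 2 n145512 = n201520 := d15_3 (iv0 D201520) F334441 D145512
theorem F420843 : act 1 n145510 = n201520 := d15_0 (iv0 D201520) (iv7 F420838) F420835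
theorem F420844 : act 7 n201520 = n145504 := d15_2 D145510 F420843 F228553
theorem F420845 : act 3 n147059 = n201520 := d8_3 F420844 F334979 (iv7 F241167)
theorem F420846 : act 6 n201520 = n181198 := d7_2 (iv6 F351586) F420845 (iv3 D181198)
def n201521 : Q := act 0 n114758
theorem D201521 : act 0 n114758 = n201521 := rfl
theorem F420847 : act 5 n201521 = n140828 := d17_3 F191340 D114758 D201521 F223909 (iv5 F322932) F339627 F312650 (iv0 F191339) (iv4 F178626)
theorem F420848 : act 3 n114987 = n201521 := d6_3 F420847 F339631 (iv5 F353840)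
theorem F420849 : act 7 n188796 = n201521 := d13_0 F420847 (iv7 F373973) (iv5 F374935)
def n201522 : Q := act 4 n114758
theorem D201522 : act 4 n114758 = n201522 := rfl
theorem F420850 : act 3 n201522 = n200617 := d5_1 D201522 F417230 F176483 F329476 (iv3 F178857)
theorem F420851 : act 6 n201522 = n200616 := d10_2 (iv6 F365417) D201522 F417226
def n201523 : Q := act 5 n114770
theorem D201523 : act 5 n114770 = n201523 := rfl
theorem F420852 : act 3 n201523 = n114967 := d6_1 D201523 (iv5 D114967) (iv3 F331598)
theorem F420853 : act 6 n201523 = n195980 := d12_2 (iv6 F331600) D201523 (iv5 F420507) (iv6 D201436) F349969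
theorem F420854 : act 0 n201523 = n120107 := d17_2 F331602 D201523 (iv5 D120107) D120106 F320020 (iv0 F333609) F333611 (iv0 D117183) (iv4 F183339)
theorem F420855 : act 1 n201523 = n120112 := d17_6 (iv1 D191108) (iv5 F364505) (iv1 D143044) (iv5 F319178) (iv4 F331599) D201523 (iv5 D120112) F178658 F382258
def n201524 : Q := act 4 n114771
theorem D201524 : act 4 n114771 = n201524 := rfl
theorem F420856 : act 2 n201524 = n190476 := d1_1 D201524 (iv4 F379859) (iv2 F178865)
theorem F420857 : act 3 n201524 = n200451 := d5_1 D201524 F416470 F379764 (iv4 F379779) F379778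
theorem F420858 : act 7 n201524 = n198967 := d11_2 (iv7 F333592) D201524 (iv4 D198967)
theorem F420859 : act 5 n201524 = n189955 := d16_1 D201524 (iv4 D189955) (iv5 D95500) (iv4 F106444) F106445 (iv4 F183339) (iv5 F410051) F410054 (iv2 F178865)
theorem F420860 : act 1 n201524 = n190377 := d18_6 D147239 F230834 (iv1 F183345) (iv4 F318646) D114771 D201524 (iv4 F415808) (iv0 F415811) (iv5 D147241)
def n201525 : Q := act 5 n114775
theorem D201525 : act 5 n114775 = n201525 := rfl
theorem F420861 : act 2 n201525 = n114777 := d2_1 D201525 (iv5 D114777) D114775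
theorem F420862 : act 7 n201525 = n152196 := d13_2 (iv7 F259173) D201525 (iv5 D152196)
def n201526 : Q := act 0 n114777
theorem D201526 : act 0 n114777 = n201526 := rfl
theorem F420863 : act 5 n201526 = n115227 := d21_0 (iv1 D115227) F83945 (iv6 D30132) (iv1 F48356) D63776 D135637 F379674 D190383 F379621 D201526
theorem F420864 : act 1 n152196 = n201526 := d15_0 (iv0 D201526) (iv7 F420780) F420778
def n201527 : Q := act 1 n114777
theorem D201527 : act 1 n114777 = n201527 := rfl
theorem F420865 : act 1 n201527 = n152196 := d15_1 D201527 (iv7 F420862) F420861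
theorem F420866 : act 5 n201527 = n115226 := d17_7 F340153 (iv5 D164144) F340154 F321410 (iv4 F323418) D114777 D201527 (iv0 D115226) (iv4 F179438)
theorem F420867 : act 3 n114936 = n201527 := d19_19 (iv1 D201527) (iv5 D114777) F323418 (iv3 D68530) D68528 (iv5 F318788) (iv4 D56207) (iv3 F301739) (iv1 D35577) F28193 (iv4 F43693) F309549 (iv1 F59074) (iv5 F59438) (iv4 F128876) (iv3 F275056) (iv1 F368487) F368485 (iv4 F357316)
def n201528 : Q := act 4 n114777
theorem D201528 : act 4 n114777 = n201528 := rfl
theorem F420868 : act 3 n201528 = n132253 := d5_1 D201528 (iv4 F407067) F407066 F338660 (iv3 F178868)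
theorem F420869 : act 6 n201528 = n132251 := d10_2 F379621 D201528 F379624
def n201529 : Q := act 4 n114788
theorem D201529 : act 4 n114788 = n201529 := rfl
theorem F420870 : act 6 n201529 = n199025 := d10_2 F419017 D201529 (iv4 F419016)
theorem F420871 : act 7 n201529 = n114801 := d11_2 (iv7 F178873) D201529 (iv4 D114801)
theorem F420872 : act 1 n201529 = n188370 := d18_6 D119046 (iv4 F393268) F393272 F178854 D114788 D201529 (iv4 F375389) (iv0 F375390) (iv5 D119048)
def n201530 : Q := act 5 n114790
theorem D201530 : act 5 n114790 = n201530 := rfl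
theorem F420873 : act 3 n201530 = n114792 := d6_1 D201530 (iv5 D114792) D114790
theorem F420874 : act 7 n201530 = n183129 := d13_2 F206218 D201530 (iv5 F358474)
theorem F420875 : act 4 n201530 = n183132 := d16_6 (iv4 F329044) F339295 F237552 (iv5 F313291) (iv4 F192426) D201530 (iv5 F286283) (iv7 D184349) (iv2 F159652)
def n201531 : Q := act 1 n114792
theorem D201531 : act 1 n114792 = n201531 := rfl
theorem F420876 : act 1 n201531 = n114797 := d15_1 D201531 (iv7 F420572) F420570
theorem F420877 : act 7 n201531 = n201386 := d15_2 (iv0 F357846) D201531 F420285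
theorem F420878 : act 5 n201531 = n201387 := d17_7 F317363 (iv5 D108249) D108247 F315152 (iv4 D114791) D114792 D201531 F420292 (iv4 D144982)
theorem F420879 : act 3 n115016 = n201531 := d6_3 F420878 F420288 (iv5 F179105)
def n201532 : Q := act 4 n114792
theorem D201532 : act 4 n114792 = n201532 := rfl
def n201533 : Q := act 6 n114792
theorem D201533 : act 6 n114792 = n201533 := rfl
theorem F420880 : act 0 n135629 = n201533 := d21_4 (iv5 D115496) F96461 D131869 (iv6 F218106) (iv6 D201533) (iv5 D114792) (iv1 F178610) (iv5 F420601) F420602 (iv1 F363768)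
def n201534 : Q := act 5 n114795
theorem D201534 : act 5 n114795 = n201534 := rfl
theorem F420881 : act 2 n201534 = n152232 := d2_1 D201534 (iv5 D152232) (iv2 F339323)
theorem F420882 : act 3 n201534 = n114797 := d6_1 D201534 (iv5 D114797) D114795
theorem F420883 : act 7 n201534 = n152227 := d13_2 (iv7 F339325) D201534 (iv5 D152227)
def n201535 : Q := act 6 n114795
theorem D201535 : act 6 n114795 = n201535 := rfl
theorem F420884 : act 2 n201535 = n152233 := d3_1 D201535 (iv6 D152233) (iv2 F339323)
theorem F420885 : act 3 n201535 = n114798 := d7_1 D201535 (iv6 D114798) D114795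
theorem F420886 : act 4 n201535 = n180579 := d10_1 D201535 F348622 (iv4 F339324)
theorem F420887 : act 7 n201535 = n133439 := d14_2 (iv7 F339325) D201535 (iv6 D133439) F97678 F339227
theorem F420888 : act 1 n199576 = n201535 := d15_1 (iv0 F412736) F420887 F214566
def n201536 : Q := act 4 n114797
theorem D201536 : act 4 n114797 = n201536 := rfl
def n201537 : Q := act 6 n114797
theorem D201537 : act 6 n114797 = n201537 := rfl
theorem F420889 : act 2 n201537 = n183128 := d3_1 D201537 F420578 F420574
def n201538 : Q := act 5 n114798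
theorem D201538 : act 5 n114798 = n201538 := rfl
theorem F420890 : act 2 n201538 = n201426 := d2_1 D201538 (iv5 F420582) F420579
theorem F420891 : act 7 n201538 = n201427 := d13_2 F355396 D201538 (iv5 F420473)
theorem F420892 : act 4 n201538 = n134002 := d16_2 (iv4 F333652) D201538 (iv5 D134002) D134001 (iv5 F353531) F212500 (iv5 F102342) (iv7 F181096) F333651
theorem F420893 : act 1 n201538 = n146378 := d17_6 (iv1 F104058) (iv5 F316351) (iv1 F317333) (iv5 F280367) (iv4 F333652) D201538 (iv5 D146378) (iv0 F319126) F313961
theorem F420894 : act 0 n201538 = n157726 := d21_1 D201538 (iv5 D157726) (iv6 F338634) (iv1 F328635) F338539 (iv5 F338534) (iv1 F420777) (iv5 D201508) F337869 (iv1 F360658)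
def n201539 : Q := act 4 n114800
theorem D201539 : act 4 n114800 = n201539 := rfl
def n201540 : Q := act 6 n114800
theorem D201540 : act 6 n114800 = n201540 := rfl
def n201541 : Q := act 1 n114801
theorem D201541 : act 1 n114801 = n201541 := rfl
theorem F420895 : act 7 n201541 = n188370 := d15_2 (iv0 F375400) D201541 (iv2 F375398)
theorem F420896 : act 4 n201541 = n152537 := d18_7 F393630 F393627 F192428 F83690 D52972 D114801 D201541 F375406 F375401
theorem F420897 : act 3 n188372 = n201541 := d5_5 F420896 (iv3 F372356) (iv4 F360289) (iv3 F225713) (iv4 F373193)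
def n201542 : Q := act 3 n114801
theorem D201542 : act 3 n114801 = n201542 := rfl
theorem F420898 : act 4 n201542 = n115034 := d5_2 D114801 D201542 (iv3 D115034) (iv4 D53080) (iv3 F83695)
theorem F420899 : act 6 n201542 = n114811 := d7_2 (iv6 F178876) D201542 (iv3 D114811)
theorem F420900 : act 0 n132244 = n201542 := d20_7 F179136 (iv1 F163413) (iv4 F398432) F398431 (iv1 F361179) F211876 (iv4 F211888) F420898 (iv3 D115034) D115032
theorem F420901 : act 1 n136440 = n201542 := d15_0 (iv0 F420900) (iv7 F388491) F388489
def n201543 : Q := act 5 n114801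
theorem D201543 : act 5 n114801 = n201543 := rfl
def n201544 : Q := act 4 n114802
theorem D201544 : act 4 n114802 = n201544 := rfl
theorem F420902 : act 2 n201544 = n183098 := d1_1 D201544 F370588 (iv2 F370585)
theorem F420903 : act 7 n201544 = n188475 := d11_2 (iv7 F370582) D201544 F373612
theorem F420904 : act 0 n201544 = n159846 := d17_0 F356701 (iv1 F356711) (iv5 F398395) F398396 (iv5 D187800) (iv0 D90581) D90583 (iv0 F178878) D201544
theorem F420905 : act 1 n201544 = n127812 := d18_6 F55091 F46021 D60013 F94483 D114802 D201544 (iv4 D127812) F164497 (iv5 D49130)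
theorem F420906 : act 6 n201544 = n153317 := d21_5 F133447 (iv1 F63568) (iv5 F134165) (iv6 F356706) (iv1 F420905) F308819 (iv1 D86939) D86940 F133430 D86944
def n201545 : Q := act 6 n114802
theorem D201545 : act 6 n114802 = n201545 := rfl
theorem F420907 : act 2 n201545 = n183097 := d3_1 D201545 F370587 (iv2 F370585)
theorem F420908 : act 3 n201545 = n114804 := d7_1 D201545 (iv6 D114804) (iv3 F178877)
theorem F420909 : act 4 n201545 = n153317 := d10_1 D201545 (iv6 F420906) (iv4 D201544)
theorem F420910 : act 5 n201545 = n189987 := d12_1 D201545 F378459 (iv5 D189215) (iv6 F144555) D114802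
theorem F420911 : act 7 n183089 = n201545 := d13_0 F420910 F378460 (iv5 F335096)
theorem F420912 : act 0 n120450 = n201545 := d17_0 F420910 F378461 (iv5 D184733) (iv4 D88088) (iv5 D41131) D41130 D88084 F304538 D120450
def n201546 : Q := act 3 n114803
theorem D201546 : act 3 n114803 = n201546 := rfl
theorem F420913 : act 2 n201546 = n192047 := d0_1 D201546 (iv3 D192047) (iv2 F382815) F382816 (iv2 F239733)
theorem F420914 : act 0 n201546 = n184092 := d20_4 F178703 (iv1 F178700) D114803 D201546 F286046 (iv4 F358490) (iv1 D127824) (iv4 F108454) (iv3 D71955) D71953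
def n201547 : Q := act 5 n114803
theorem D201547 : act 5 n114803 = n201547 := rfl
theorem F420915 : act 4 n201547 = n119639 := d9_1 D201547 F188681 (iv4 F162621) (iv5 D105898) F77225 D52902 D114612 D201489 F420694 F188678 F323756 (iv5 F323757) F77243 D52974 D114803
def n201548 : Q := act 6 n114803
theorem D201548 : act 6 n114803 = n201548 := rfl
theorem F420916 : act 4 n201548 = n114804 := d10_1 D201548 (iv6 D114804) D114803
def n201549 : Q := act 0 n114804
theorem D201549 : act 0 n114804 = n201549 := rfl
def n201550 : Q := act 1 n114804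
theorem D201550 : act 1 n114804 = n201550 := rfl
theorem F420917 : act 1 n201550 = n201478 := d15_1 D201550 F420658 F410067
theorem F420918 : act 3 n201550 = n115042 := d20_5 F215047 (iv1 F214902) F214900 (iv3 F420657) (iv1 F420917) F398911 (iv1 F364673) F179185 (iv3 F179182) F333552
theorem F420919 : act 4 n201550 = n136486 := d20_8 (iv4 F96929) F96931 (iv4 F97755) (iv3 F214693) (iv1 F219692) (iv3 F219694) (iv4 F420659) (iv1 F420917) (iv3 D136486) (iv1 F99872)
def n201551 : Q := act 7 n114804
theorem D201551 : act 7 n114804 = n201551 := rfl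
theorem F420920 : act 2 n201551 = n201478 := d4_1 D201551 F420658 F410067
theorem F420921 : act 3 n201551 = n183089 := d8_1 D201551 F420911 F420908
theorem F420922 : act 5 n201551 = n142489 := d13_1 D201551 (iv7 F410029) F410028
theorem F420923 : act 1 n201478 = n201549 := d15_0 (iv0 D201549) D201551 F420920
def n201552 : Q := act 4 n114805
theorem D201552 : act 4 n114805 = n201552 := rfl
theorem F420924 : act 2 n201552 = n195837 := d1_1 D201552 F398396 F371531
theorem F420925 : act 7 n201552 = n195838 := d11_2 F371538 D201552 F398401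
theorem F420926 : act 0 n201552 = n195782 := d18_2 F398273 D201552 (iv4 D195782) (iv5 D106258) F77521 F94487 F94483 (iv0 F163348) D195808
theorem F420927 : act 1 n201552 = n127799 := d18_6 (iv1 F164495) F82829 F164484 F164482 (iv5 F178879) D201552 (iv4 D127799) D127798 (iv5 F205585)
theorem F420928 : act 6 n183165 = n201552 := d3_0 F420924 (iv6 F398399) (iv2 F398842)
def n201553 : Q := act 6 n114805
theorem D201553 : act 6 n114805 = n201553 := rfl
theorem F420929 : act 3 n201553 = n114807 := d7_1 D201553 (iv6 D114807) D114805
theorem F420930 : act 4 n201553 = n183165 := d10_1 D201553 F420928 (iv4 D201552)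
theorem F420931 : act 0 n188295 = n201553 := d21_4 (iv5 F283449) F283451 F295203 D188295 (iv6 D201553) F178879 (iv1 F139447) (iv5 F371549) F371550 (iv1 F283437)
def n201554 : Q := act 3 n114806
theorem D201554 : act 3 n114806 = n201554 := rfl
def n201555 : Q := act 5 n114806
theorem D201555 : act 5 n114806 = n201555 := rfl
theorem F420932 : act 4 n201555 = n119632 := d16_2 D114806 D201555 (iv5 D119632) F185673 F185670 F114652 (iv5 F114656) (iv7 F177190) (iv2 F177192)
theorem F420933 : act 0 n201555 = n152551 := d17_2 F187308 D201555 (iv5 D152551) (iv4 D71947) D71948 F108451 D74853 F112353 D119050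
theorem F420934 : act 1 n201555 = n152559 := d17_6 F177184 (iv5 D76490) F95774 F95773 D114806 D201555 (iv5 D152559) F239732 F239731
theorem F420935 : act 6 n114806 = n192656 := d21_9 (iv5 D100491) (iv1 F363115) D192233 F386137 (iv1 F362360) (iv6 D152560) D152559 (iv1 F420934) (iv5 D201555) (iv1 D192656)
theorem F420936 : act 4 n192656 = n114807 := d10_1 F420935 (iv6 D114807) D114806
theorem F420937 : act 6 n191498 = n201555 := d12_4 F420935 F387379 F363618 D191498 (iv5 D201555)
def n201556 : Q := act 0 n114807
theorem D201556 : act 0 n114807 = n201556 := rfl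
def n201557 : Q := act 1 n114807
theorem D201557 : act 1 n114807 = n201557 := rfl
theorem F420938 : act 4 n201557 = n184484 := d18_7 D123095 F319773 D135318 F357812 (iv5 F387379) F420936 D201557 F351829 (iv5 D123097)
theorem F420939 : act 5 n164228 = n201557 := d21_6 (iv5 D52895) F54277 (iv5 F97657) (iv6 F356876) (iv1 F178690) (iv6 F258850) (iv1 D201557) (iv5 F209192) (iv6 D130614) F95769
def n201558 : Q := act 7 n114807
theorem D201558 : act 7 n114807 = n201558 := rfl
def n201559 : Q := act 3 n114808
theorem D201559 : act 3 n114808 = n201559 := rfl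
theorem F420940 : act 4 n201559 = n187573 := d5_2 D114808 D201559 F370847 F239591 (iv3 F178396)
theorem F420941 : act 7 n201559 = n192762 := d8_2 (iv7 F239715) D201559 F387689
theorem F420942 : act 2 n201559 = n192764 := d15_3 (iv0 F387696) (iv0 F387691) (iv7 F420941)
def n201560 : Q := act 5 n114808
theorem D201560 : act 5 n114808 = n201560 := rfl
theorem F420943 : act 4 n201560 = n119629 := d9_1 D201560 (iv5 D119629) (iv4 F166767) (iv5 D107914) (iv4 F95772) F95773 D114806 D201555 F420932 (iv5 D119632) F185673 F185670 F114652 (iv5 F114656) D114808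
theorem F420944 : act 0 n201560 = n152559 := d17_2 F239369 D201560 (iv5 D152559) (iv4 D71951) (iv5 F104117) (iv0 F104116) D113613 F176789 D152284
theorem F420945 : act 1 n201560 = n152551 := d17_6 (iv1 F186821) F186818 F162381 (iv5 F114656) D114808 D201560 (iv5 D152551) D152549 F239737
def n201561 : Q := act 0 n114809
theorem D201561 : act 0 n114809 = n201561 := rfl
def n201562 : Q := act 1 n114809
theorem D201562 : act 1 n114809 = n201562 := rfl
def n201563 : Q := act 7 n114809
theorem D201563 : act 7 n114809 = n201563 := rfl
theorem F420946 : act 3 n201563 = n135235 := d8_1 D201563 (iv7 F218019) (iv3 F339339)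
theorem F420947 : act 5 n201563 = n135234 := d13_1 D201563 (iv7 F218017) F339340
def n201564 : Q := act 0 n114811
theorem D201564 : act 0 n114811 = n201564 := rfl
def n201565 : Q := act 1 n114811
theorem D201565 : act 1 n114811 = n201565 := rfl
def n201566 : Q := act 2 n114811
theorem D201566 : act 2 n114811 = n201566 := rfl
theorem F420948 : act 4 n201566 = n115069 := d1_2 (iv4 F178882) D201566 (iv2 D115069)
def n201567 : Q := act 5 n114811
theorem D201567 : act 5 n114811 = n201567 := rfl
theorem F420949 : act 3 n201567 = n114812 := d6_1 D201567 (iv5 D114812) D114811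
theorem F420950 : act 0 n201567 = n136530 := d21_7 F99877 (iv1 F96624) (iv5 F96685) D132244 F420900 F420899 D201567 (iv5 D136530) (iv6 D64181) (iv1 F99875)
def n201568 : Q := act 6 n114812
theorem D201568 : act 6 n114812 = n201568 := rfl
theorem F420951 : act 4 n201568 = n152783 := d10_1 D201568 (iv6 D152783) (iv4 F178883)
theorem F420952 : act 0 n183868 = n201568 := d21_4 (iv5 F366444) F388324 (iv5 F242483) F364091 (iv6 D201568) (iv5 D114812) D114810 (iv5 F364655) (iv6 D178074) (iv1 F366915)
theorem F420953 : act 1 n185230 = n201568 := d15_0 (iv0 F420952) F285683 D185230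
def n201569 : Q := act 6 n114813
theorem D201569 : act 6 n114813 = n201569 := rfl
theorem F420954 : act 2 n201569 = n188570 := d3_1 D201569 F374017 (iv2 F178885)
theorem F420955 : act 3 n201569 = n114814 := d7_1 D201569 (iv6 D114814) D114813
theorem F420956 : act 4 n201569 = n188594 := d10_1 D201569 F374135 F193432
theorem F420957 : act 0 n201569 = n154598 := d20_4 F354100 (iv1 D114816) (iv4 F178887) (iv3 F420955) (iv3 D154598) (iv4 D73282) (iv1 F52976) D33737 D73341 (iv1 F354098)
def n201570 : Q := act 1 n114814
theorem D201570 : act 1 n114814 = n201570 := rfl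
theorem F420958 : act 1 n201570 = n114824 := d15_1 D201570 (iv7 D114824) (iv2 F178886)
theorem F420959 : act 7 n201570 = n114821 := d15_2 (iv0 F258930) D201570 (iv2 F353807)
theorem F420960 : act 4 n201570 = n188558 := d18_7 (iv1 F177720) F347685 (iv1 F347683) F197999 F161825 (iv4 F178887) D201570 (iv0 D188558) F142279
theorem F420961 : act 5 n201570 = n128514 := d18_9 F354525 F354523 (iv1 D136483) (iv4 F219552) F352361 (iv4 F352405) (iv0 D114815) (iv4 F178887) D201570
theorem F420962 : act 3 n128485 = n201570 := d20_3 F130731 F109836 (iv4 F206639) (iv1 D201570) (iv3 F420955) F420956 F374136 (iv4 F233683) F233682 (iv1 F130730)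
theorem F420963 : act 6 n128484 = n201570 := d21_3 F335997 F319236 D128484 (iv1 D201570) (iv6 D114814) F90758 (iv1 D57612) (iv5 F83480) (iv6 F323368) (iv1 F324705)
theorem F420964 : act 2 n201570 = n114822 := d3_1 F420963 (iv6 F416507) F416505
def n201571 : Q := act 5 n114814
theorem D201571 : act 5 n114814 = n201571 := rfl
theorem F420965 : act 2 n201571 = n114823 := d2_1 D201571 (iv5 D114823) (iv2 F178886)
theorem F420966 : act 6 n201571 = n176126 := d12_2 D114814 D201571 (iv5 F337515) (iv6 D123598) (iv5 F90758)
theorem F420967 : act 0 n201571 = n176087 := d17_2 (iv1 D201570) D201571 (iv5 D176087) D176086 F347659 (iv0 D114112) D114114 F373950 (iv4 F420960)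
theorem F420968 : act 4 n201571 = n193507 := d18_5 (iv1 F354098) F354100 (iv1 D114816) (iv4 F178887) D201571 (iv0 D193507) (iv4 F390109) (iv0 F390111) F352359
theorem F420969 : act 0 n176092 = n201571 := d19_0 (iv5 D201571) F178887 (iv3 F88581) D121309 (iv5 F420267) F420266 F274253 D175222 F355318 (iv4 F408195) (iv3 D198519) F321834 F193812 F318677 (iv3 F319600) (iv1 F318632) F322416 (iv4 F322415) (iv3 F347632)
def n201572 : Q := act 5 n114815
theorem D201572 : act 5 n114815 = n201572 := rfl
theorem F420970 : act 2 n201572 = n114828 := d2_1 D201572 (iv5 D114828) (iv2 F352404)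
theorem F420971 : act 3 n201572 = n167897 := d6_1 D201572 (iv5 F324350) F352407
theorem F420972 : act 7 n201572 = n114833 := d13_2 (iv7 F352406) D201572 (iv5 D114833)
def n201573 : Q := act 5 n114816
theorem D201573 : act 5 n114816 = n201573 := rfl
theorem F420973 : act 2 n201573 = n114833 := d2_1 D201573 (iv5 D114833) (iv2 F352401)
theorem F420974 : act 3 n201573 = n176082 := d6_1 D201573 (iv5 F376347) F376346
theorem F420975 : act 6 n201573 = n195202 := d12_2 F377454 D201573 F396229 (iv6 D189701) D189700
theorem F420976 : act 7 n201573 = n114828 := d13_2 (iv7 F352402) D201573 (iv5 D114828)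
def n201574 : Q := act 0 n114823
theorem D201574 : act 0 n114823 = n201574 := rfl
theorem F420977 : act 5 n201574 = n173679 := d17_3 (iv1 D114822) D114823 D201574 (iv4 F347651) (iv5 D114135) (iv0 D52685) D52687 D114143 F353811
theorem F420978 : act 6 n201574 = n177675 := d21_5 (iv5 D82962) D82960 D173356 (iv6 F337535) D201574 F277110 (iv1 F324544) D110387 F349900 (iv1 D173364)
theorem F420979 : act 2 n176087 = n201574 := d3_3 F420978 F415258 F415257
theorem F420980 : act 3 n146125 = n201574 := d7_3 F420978 F277109 (iv6 F313774)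
theorem F420981 : act 7 n176092 = n201574 := d14_0 F420978 (iv7 D177675) (iv6 D84610) D84611 (iv6 F347633)
def n201575 : Q := act 1 n114823
theorem D201575 : act 1 n114823 = n201575 := rfl
theorem F420982 : act 7 n201575 = n176087 := d15_2 (iv0 D201574) D201575 F420979
theorem F420983 : act 5 n173680 = n201575 := d21_0 (iv1 D201575) (iv5 D114823) (iv6 D52984) D52981 F310712 (iv5 D83021) (iv1 F59074) (iv5 F59438) D83872 (iv1 F272177)
theorem F420984 : act 6 n177597 = n201575 := d21_3 (iv5 D84597) D84593 D177597 (iv1 D201575) F337535 (iv5 D173356) (iv1 F303406) F366507 (iv6 F366508) F345841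
theorem F420985 : act 2 n201575 = n176092 := d3_1 F420984 F347633 (iv2 F277057)
def n201576 : Q := act 5 n114826
theorem D201576 : act 5 n114826 = n201576 := rfl
theorem F420986 : act 2 n201576 = n170522 := d2_1 D201576 F267965 (iv2 F352408)
theorem F420987 : act 3 n201576 = n114828 := d6_1 D201576 (iv5 D114828) D114826
theorem F420988 : act 7 n201576 = n176082 := d13_2 F376350 D201576 (iv5 F376347)
theorem F420989 : act 4 n201576 = n176271 := d18_5 (iv1 D114113) (iv4 F177718) D201199 F419418 D201576 (iv0 D176271) (iv4 F275561) F347630 (iv5 F352378)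
theorem F420990 : act 0 n201576 = n175684 := d18_0 F275062 (iv1 F272177) F347664 (iv5 D114140) D114139 F377196 F377194 (iv0 F352419) D201576
theorem F420991 : act 0 n148720 = n201576 := d21_10 (iv5 D201576) F352419 F145331 (iv6 D93851) (iv1 F69393) F327294 (iv5 F113537) (iv1 D75679) F326552 D148720
theorem F420992 : act 6 n188890 = n201576 := d21_5 (iv5 F69395) F63620 D43460 (iv6 F143264) D188890 (iv5 D201576) F352419 F145331 (iv6 D93851) (iv1 F69393)
theorem F420993 : act 3 n186902 = n188890 := d7_3 F420992 F420987 (iv6 F368460)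
def n201577 : Q := act 6 n114826
theorem D201577 : act 6 n114826 = n201577 := rfl
theorem F420994 : act 2 n201577 = n142090 := d3_1 D201577 F361682 (iv2 F352408)
theorem F420995 : act 3 n201577 = n114829 := d7_1 D201577 (iv6 D114829) D114826
theorem F420996 : act 5 n201577 = n188827 := d21_6 (iv5 D76296) F55117 D49117 (iv6 F83715) (iv1 F352420) D201577 (iv1 D188827) (iv5 F161809) (iv6 D105417) (iv1 F114351)
theorem F420997 : act 0 n201577 = n146485 := d20_4 F355113 D167582 F420374 (iv3 F420995) (iv3 D146485) F104886 (iv1 D34974) D34975 D76540 D159880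
def n201578 : Q := act 5 n114827
theorem D201578 : act 5 n114827 = n201578 := rfl
theorem F420998 : act 2 n201578 = n136452 := d2_1 D201578 F352361 F352416
theorem F420999 : act 3 n201578 = n194417 := d6_1 D201578 F393122 F354960
theorem F421000 : act 7 n201578 = n166234 := d13_2 F354101 D201578 F347876
theorem F421001 : act 4 n201578 = n136477 := d18_5 (iv1 D114822) F83713 D52985 D114827 D201578 (iv0 F389844) F389842 F275352 (iv5 F353789)
theorem F421002 : act 0 n201578 = n166205 := d21_1 D201578 (iv5 F366898) (iv6 D173692) F301080 (iv6 F355840) F161729 (iv1 F94817) (iv5 F177726) F352370 (iv1 F352417)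
theorem F421003 : act 0 n147846 = n201578 := d21_10 (iv5 D201578) (iv1 F352418) F352360 (iv6 D137107) (iv1 D64453) D64455 (iv5 F324656) (iv1 F272737) (iv5 F270636) (iv6 F357768)
theorem F421004 : act 6 n136451 = n201578 := d21_5 (iv5 F94023) (iv1 F161454) (iv5 F161455) (iv6 F346582) (iv1 F219548) (iv5 D201578) (iv1 F352418) F352360 (iv6 D137107) (iv1 D64453)
def n201579 : Q := act 1 n114828
theorem D201579 : act 1 n114828 = n201579 := rfl
theorem F421005 : act 1 n201579 = n114833 := d15_1 D201579 (iv7 F420972) F420970
theorem F421006 : act 3 n114845 = n201579 := d20_3 D78960 (iv1 F259030) F259031 (iv1 D201579) (iv3 F420987) F420989 (iv1 F361690) (iv4 F357767) (iv3 D164373) (iv1 F120136)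
theorem F421007 : act 6 n150008 = n201579 := d21_9 (iv5 D114828) (iv1 F144676) (iv5 F145331) (iv6 D94248) (iv1 F69375) D93864 F144684 D187695 F371206 (iv1 D201579)
def n201580 : Q := act 4 n114828
theorem D201580 : act 4 n114828 = n201580 := rfl
theorem F421008 : act 6 n201580 = n187191 := d10_2 F368460 D201580 (iv4 F369427)
theorem F421009 : act 3 n187193 = n201580 := d7_3 F421008 (iv3 D187191) D187193
theorem F421010 : act 5 n194405 = n201580 := d12_5 F421008 F369426 F291575 D103341 D194405
theorem F421011 : act 0 n201201 = n194405 := d17_2 (iv1 D201200) D201201 F421010 (iv4 D201580) (iv5 D114828) (iv0 D52985) D52987 D114836 (iv4 F419424)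
def n201581 : Q := act 5 n114832
theorem D201581 : act 5 n114832 = n201581 := rfl
theorem F421012 : act 2 n201581 = n166234 := d2_1 D201581 F347876 F354099
theorem F421013 : act 3 n201581 = n136455 := d6_1 D201581 (iv5 F344913) F352374
theorem F421014 : act 6 n201581 = n155807 := d12_2 F366623 D201581 F347872 F398604 F398599
theorem F421015 : act 7 n201581 = n136452 := d13_2 (iv7 F352398) D201581 F352361
theorem F421016 : act 0 n201581 = n147846 := d17_2 (iv1 F352375) D201581 (iv5 D147846) (iv4 F231611) (iv5 F419410) (iv0 F419412) F396211 (iv0 D188558) F352364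
theorem F421017 : act 1 n201581 = n166205 := d17_6 (iv1 D176082) D176083 F371492 (iv5 D114833) D114832 D201581 (iv5 F366898) (iv0 F360143) (iv4 F376352)
theorem F421018 : act 4 n201581 = n136485 := d18_5 F353783 F353784 (iv1 F144675) D114832 D201581 F389846 F328319 D176095 (iv5 F353781)
def n201582 : Q := act 4 n114833
theorem D201582 : act 4 n114833 = n201582 := rfl
theorem F421019 : act 3 n201582 = n140036 := d5_1 D201582 F223250 (iv3 F318959) D81743 (iv3 F318648)
theorem F421020 : act 6 n201582 = n140034 := d10_2 F355614 D201582 (iv4 F226337)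
def n201583 : Q := act 5 n114836
theorem D201583 : act 5 n114836 = n201583 := rfl
theorem F421021 : act 2 n201583 = n176082 := d2_1 D201583 (iv5 F376347) (iv2 F376348)
theorem F421022 : act 3 n201583 = n167881 := d6_1 D201583 (iv5 D167881) (iv3 F352422)
theorem F421023 : act 7 n201583 = n170522 := d13_2 (iv7 F352421) D201583 F267965
theorem F421024 : act 1 n201583 = n175684 := d17_8 (iv1 F272177) F420983 (iv1 D201575) (iv5 D114823) F83713 D52987 D114836 D201583 F275062
theorem F421025 : act 4 n201583 = n176272 := d18_5 (iv1 F177719) (iv4 F177749) (iv1 F419422) F419424 D201583 F361683 (iv4 F357767) F347658 F347659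
theorem F421026 : act 0 n201583 = n148720 := d18_0 F326559 D173679 (iv4 F347651) (iv5 D114135) D114134 F353816 (iv4 D114837) D114836 D201583
theorem F421027 : act 6 n201583 = n151422 := d21_3 (iv5 F145331) (iv1 F178905) D201583 (iv1 F238152) F161734 (iv5 F178530) (iv1 F371654) F371655 (iv6 D114829) (iv1 F144676)
def n201584 : Q := act 6 n114836
theorem D201584 : act 6 n114836 = n201584 := rfl
theorem F421028 : act 2 n201584 = n189420 := d3_1 D201584 F376570 (iv2 F376348)
theorem F421029 : act 3 n201584 = n167882 := d7_1 D201584 (iv6 D167882) (iv3 F352422)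
theorem F421030 : act 7 n201584 = n189416 := d14_2 (iv7 F352421) D201584 (iv6 F376559) (iv7 F225121) F361682
theorem F421031 : act 5 n201584 = n189254 := d21_6 (iv5 D41927) F63424 (iv5 F69374) D94248 (iv1 F178905) D201584 (iv1 D189254) (iv5 F369505) (iv6 D187207) (iv1 D89757)
theorem F421032 : act 0 n201584 = n194144 := d20_10 (iv4 F411584) (iv1 F411582) (iv4 F411634) F411633 F399777 (iv3 F398307) F398308 F326251 (iv4 F264516) (iv3 F421029)
def n201585 : Q := act 3 n114844
theorem D201585 : act 3 n114844 = n201585 := rfl
theorem F421033 : act 5 n201585 = n159642 := d6_2 (iv5 F178910) D201585 F251492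
theorem F421034 : act 7 n201585 = n201379 := d8_2 F193531 D201585 F420255
theorem F421035 : act 0 n201585 = n148029 := d20_4 D78947 D164378 F259028 D201585 F354913 F318214 D147226 F232255 F346173 (iv1 D78946)
theorem F421036 : act 0 n201381 = n201585 := d20_4 (iv4 F177771) (iv1 F177779) (iv4 F178430) (iv3 F420265) (iv3 D201585) (iv4 F259028) (iv1 F259029) (iv4 D78960) (iv3 F120138) (iv1 F290522)
theorem F421037 : act 6 n146342 = n201585 := d21_3 (iv5 F76635) D105334 F355711 F421035 (iv6 D148029) D148028 F396394 (iv5 D195234) (iv6 D105448) (iv1 D48757)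
theorem F421038 : act 1 n159626 = n148029 := d15_0 (iv0 F421035) F421034 (iv2 F420257)
theorem F421039 : act 1 n201381 = n159626 := d15_0 F421038 (iv7 F354920) (iv2 F420264)
theorem F421040 : act 2 n201380 = n201585 := d15_3 (iv0 F421036) F421039 (iv7 F420260)
def n201586 : Q := act 6 n114844
theorem D201586 : act 6 n114844 = n201586 := rfl
theorem F421041 : act 3 n201586 = n146342 := d7_1 D201586 F421037 (iv3 D201585)
theorem F421042 : act 5 n201586 = n159644 := d12_1 D201586 (iv6 D159644) (iv5 D76378) D76379 (iv5 F178910)
theorem F421043 : act 7 n201586 = n150007 := d14_2 F193531 D201586 (iv6 D150007) F193500 F193533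
def n201587 : Q := act 3 n114846
theorem D201587 : act 3 n114846 = n201587 := rfl
theorem F421044 : act 5 n201587 = n190980 := d6_2 F419604 D201587 F419610
theorem F421045 : act 7 n201587 = n191057 := d8_2 F193552 D201587 F382030
theorem F421046 : act 0 n190770 = n201587 := d20_4 (iv4 F343998) F248103 F364479 (iv3 F380982) (iv3 D201587) (iv4 D114846) D114844 (iv4 F259028) F380363 (iv1 D190626)
def n201588 : Q := act 7 n114847
theorem D201588 : act 7 n114847 = n201588 := rfl
theorem F421047 : act 2 n201588 = n151645 := d4_1 D201588 F363928 F193538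
theorem F421048 : act 3 n201588 = n155472 := d8_1 D201588 (iv7 F420804) F420803
theorem F421049 : act 4 n201588 = n127114 := d11_1 D201588 (iv7 F401700) F401699
theorem F421050 : act 5 n201588 = n199183 := d13_1 D201588 F411063 F248600
theorem F421051 : act 6 n201588 = n149995 := d14_1 D201588 F235972 (iv6 D121343) F153465 D114847
theorem F421052 : act 1 n201370 = n201588 := d15_1 (iv0 F420220) (iv7 D201588) (iv2 F193538)
theorem F421053 : act 1 n201588 = n164493 := d15_1 F421052 (iv7 F368464) (iv2 F420216)
def n201589 : Q := act 1 n114853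
theorem D201589 : act 1 n114853 = n201589 := rfl
theorem F421054 : act 1 n201589 = n146523 := d15_1 D201589 F364429 (iv2 F335463)
theorem F421055 : act 7 n201589 = n151589 := d15_2 F364430 D201589 (iv2 F332649)
theorem F421056 : act 5 n201589 = n159626 := d17_7 (iv1 F329364) (iv5 D133316) F329019 (iv5 F314145) (iv4 D114852) D114853 D201589 F421038 F231840
theorem F421057 : act 3 n175684 = n201589 := d19_19 (iv1 D201589) (iv5 D114853) D114852 F178916 F143141 D114721 F312735 (iv3 D56084) (iv1 D27047) D27048 (iv4 F321806) (iv3 F317403) (iv1 D48937) (iv5 F55096) (iv4 F94959) (iv3 F206677) F354525 (iv5 D175685) (iv4 F275062)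
theorem F421058 : act 6 n175678 = n201589 := d21_3 (iv5 F183723) F349028 (iv5 F357754) (iv1 D201589) F325409 D151437 (iv1 F396461) (iv5 D195247) (iv6 D105472) (iv1 F258992)
theorem F421059 : act 2 n201589 = n151637 := d3_1 F421058 (iv6 F335474) F339588
def n201590 : Q := act 5 n114856
theorem D201590 : act 5 n114856 = n201590 := rfl
theorem F421060 : act 3 n201590 = n151437 := d6_1 D201590 (iv5 D151437) (iv3 F338510)
theorem F421061 : act 6 n201590 = n114857 := d12_2 D114856 D201590 (iv5 D114857) (iv6 D52998) D52997
theorem F421062 : act 7 n201590 = n151644 := d13_2 (iv7 F338512) D201590 (iv5 D151644)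
theorem F421063 : act 4 n196100 = n201590 := d10_3 F421061 F341605 D196100
def n201591 : Q := act 1 n114860
theorem D201591 : act 1 n114860 = n201591 := rfl
theorem F421064 : act 4 n201591 = n127487 := d17_9 (iv1 F390530) F377908 (iv1 D189831) (iv5 D95313) (iv4 F120349) F120350 D159346 (iv5 F250850) D201591
theorem F421065 : act 6 n201022 = n201591 := d21_3 (iv5 F82946) D113753 D201022 (iv1 D201591) (iv6 D114860) D114859 F178927 (iv5 F193532) (iv6 F193533) (iv1 D79102)
theorem F421066 : act 5 n201159 = n201591 := d21_6 (iv5 D53071) (iv1 F40665) (iv5 F83739) D114917 (iv1 F179011) D201159 (iv1 D201591) F250850 (iv6 F250849) (iv1 D115016)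
theorem F421067 : act 2 n201591 = n127475 := d3_1 F421065 (iv6 F418293) (iv2 F418770)
def n201592 : Q := act 7 n114860
theorem D201592 : act 7 n114860 = n201592 := rfl
theorem F421068 : act 3 n201592 = n199576 := d8_1 D201592 F420793 F420789
theorem F421069 : act 4 n201592 = n137278 := d11_1 D201592 F220424 F354601
theorem F421070 : act 5 n201592 = n115048 := d13_1 D201592 F250859 (iv5 F250850)
theorem F421071 : act 1 n127475 = n201592 := d15_1 (iv0 F393626) (iv7 D201592) (iv2 F193560)
def n201593 : Q := act 7 n114862
theorem D201593 : act 7 n114862 = n201593 := rfl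
theorem F421072 : act 3 n201593 = n114941 := d8_1 D201593 F377406 F366196
theorem F421073 : act 5 n201593 = n201384 := d13_1 D201593 (iv7 D201384) (iv5 F178930)
theorem F421074 : act 1 n133431 = n201593 := d15_1 (iv0 F396238) (iv7 D201593) (iv2 F193563)
theorem F421075 : act 1 n201593 = n133426 := d15_1 F421074 F396349 F396343
def n201594 : Q := act 5 n114868
theorem D201594 : act 5 n114868 = n201594 := rfl
theorem F421076 : act 2 n201594 = n114875 := d2_1 D201594 (iv5 D114875) (iv2 F332532)
theorem F421077 : act 7 n201594 = n114880 := d13_2 (iv7 F332533) D201594 (iv5 D114880)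
def n201595 : Q := act 6 n114868
theorem D201595 : act 6 n114868 = n201595 := rfl
theorem F421078 : act 2 n201595 = n114876 := d3_1 D201595 (iv6 D114876) (iv2 F332532)
theorem F421079 : act 3 n201595 = n176506 := d7_1 D201595 (iv6 F368675) F368667
theorem F421080 : act 5 n201595 = n135503 := d21_6 (iv5 D23771) (iv1 F27608) (iv5 F40650) D53005 D114868 D201595 (iv1 F333171) (iv5 D76368) (iv6 D34891) (iv1 F43064)
theorem F421081 : act 0 n145953 = n201595 := d17_0 F421080 (iv1 F333171) (iv5 D76368) (iv4 F114479) D159616 F314751 F183809 F183716 F324748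
theorem F421082 : act 1 n159519 = n201595 := d17_6 (iv1 F339426) (iv5 F229801) (iv1 F363648) F203470 D135646 (iv5 F335167) F421080 F333170 F333169
def n201596 : Q := act 5 n114869
theorem D201596 : act 5 n114869 = n201596 := rfl
theorem F421083 : act 2 n201596 = n114880 := d2_1 D201596 (iv5 D114880) (iv2 F359581)
theorem F421084 : act 3 n201596 = n196409 := d6_1 D201596 F400620 (iv3 F398266)
theorem F421085 : act 7 n201596 = n114875 := d13_2 (iv7 F359583) D201596 (iv5 D114875)
theorem F421086 : act 6 n201596 = n201446 := d21_3 F178962 (iv1 F178948) D201596 F420537 F374798 (iv5 D187530) (iv1 D90307) D90309 D187535 (iv1 F370717)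
def n201597 : Q := act 1 n114870
theorem D201597 : act 1 n114870 = n201597 := rfl
theorem F421087 : act 1 n201597 = n114885 := d15_1 D201597 (iv7 D114885) (iv2 F178949)
theorem F421088 : act 7 n201597 = n114882 := d15_2 (iv0 F370716) D201597 (iv2 F370714)
theorem F421089 : act 3 n127830 = n201597 := d20_3 (iv4 F350591) (iv1 F398728) F398724 (iv1 D201597) F178950 D201461 F420611 (iv4 F375389) F375388 F350595
theorem F421090 : act 5 n148915 = n201597 := d21_6 (iv5 F37309) (iv1 D15316) D15317 D32417 D69802 D148915 (iv1 D201597) (iv5 D114870) (iv6 D53005) (iv1 F40653)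
theorem F421091 : act 2 n201597 = n114883 := d0_1 F421089 (iv3 F370726) F370725 F178408 F205655
def n201598 : Q := act 4 n114870
theorem D201598 : act 4 n114870 = n201598 := rfl
theorem F421092 : act 2 n201598 = n114884 := d1_1 D201598 (iv4 D114884) (iv2 F178949)
theorem F421093 : act 5 n201598 = n118872 := d9_2 D114870 D201598 F186935 (iv5 F183672) F332527 (iv5 D146415) (iv4 F317597) (iv5 F178962) F363432 (iv5 D139109) F101028 D65301 D139133 F339612 (iv4 F314939)
theorem F421094 : act 6 n201598 = n118763 := d10_2 (iv6 F178951) D201598 (iv4 D118763)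
def n201599 : Q := act 5 n114873
theorem D201599 : act 5 n114873 = n201599 := rfl
theorem F421095 : act 2 n201599 = n201438 := d2_1 D201599 F420515 F357128
theorem F421096 : act 3 n201599 = n114875 := d6_1 D201599 (iv5 D114875) D114873
theorem F421097 : act 7 n201599 = n196409 := d13_2 F398264 D201599 F400620
theorem F421098 : act 4 n201599 = n196410 := d16_2 (iv4 F339726) D201599 F400622 F164841 F78143 (iv4 F100551) (iv5 F329744) (iv7 F329769) (iv2 F206747)
theorem F421099 : act 0 n201599 = n196754 := d17_2 (iv1 F339737) D201599 F401692 F401679 (iv5 D196748) F165319 (iv5 F350557) F350555 F120173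
theorem F421100 : act 1 n201599 = n157733 := d17_6 (iv1 F352672) (iv5 D127127) F163546 D128536 (iv4 F339726) D201599 F248600 F368466 F368461
def n201600 : Q := act 0 n114875
theorem D201600 : act 0 n114875 = n201600 := rfl
theorem F421101 : act 5 n201600 = n145006 := d17_3 D53006 D114875 D201600 F349974 F250242 (iv0 F247808) F183908 F104848 (iv4 F315370)
theorem F421102 : act 4 n201600 = n189123 := d18_1 D201600 (iv1 D189123) F356649 (iv5 D68701) F50320 D31968 D68710 (iv0 F317594) D114875
theorem F421103 : act 1 n114880 = n201600 := d15_0 (iv0 D201600) (iv7 F421085) F421083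
theorem F421104 : act 6 n197037 = n201600 := d21_9 (iv5 D114880) (iv1 D53007) D53008 F83733 D76217 (iv6 F322883) (iv5 D107555) D107552 D197037 (iv1 F421103)
theorem F421105 : act 3 n145010 = n201600 := d6_3 F421101 F227965 D145010
def n201601 : Q := act 1 n114875
theorem D201601 : act 1 n114875 = n201601 := rfl
theorem F421106 : act 1 n201601 = n114880 := d15_1 D201601 (iv7 F421077) F421076
def n201602 : Q := act 4 n114875
theorem D201602 : act 4 n114875 = n201602 := rfl
def n201603 : Q := act 6 n114875
theorem D201603 : act 6 n114875 = n201603 := rfl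
def n201604 : Q := act 5 n114878
theorem D201604 : act 5 n114878 = n201604 := rfl
theorem F421107 : act 2 n201604 = n188007 := d2_1 D201604 F372056 (iv2 F363410)
theorem F421108 : act 3 n201604 = n114880 := d6_1 D201604 (iv5 D114880) D114878
theorem F421109 : act 6 n201604 = n187558 := d21_3 F368679 (iv1 F368677) D201604 (iv1 D187558) (iv6 D90324) F65178 (iv1 F31759) D20037 D42447 D90673
theorem F421110 : act 0 n187969 = n201604 := d21_10 (iv5 D201604) (iv1 F368683) (iv5 F368688) (iv6 F178485) F178483 D151235 F237969 F371962 (iv5 D187968) D187969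
theorem F421111 : act 1 n187969 = n186964 := d15_1 (iv0 F421110) F372057 (iv2 F421107)
def n201605 : Q := act 4 n114880
theorem D201605 : act 4 n114880 = n201605 := rfl
theorem F421112 : act 5 n201605 = n151311 := d16_1 D201605 (iv4 D151311) F308233 (iv4 F324699) F332535 F190342 D114875 (iv7 F421085) F421083
theorem F421113 : act 1 n201605 = n197187 := d18_6 (iv1 F229730) F229733 (iv1 F243202) F319823 D114880 D201605 F403451 F355813 F229877
theorem F421114 : act 6 n201605 = n183025 := d21_5 (iv5 D71678) (iv1 F78848) D107949 D197187 (iv1 F421113) (iv5 D183025) (iv1 F294597) D188689 F374474 (iv1 F166825)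
theorem F421115 : act 3 n156668 = n201605 := d7_3 F421114 F284658 (iv6 F337821)
def n201606 : Q := act 6 n114880
theorem D201606 : act 6 n114880 = n201606 := rfl
theorem F421116 : act 2 n201606 = n201446 := d3_1 D201606 (iv6 F421086) F421083
theorem F421117 : act 3 n201606 = n187558 := d7_1 D201606 (iv6 F421109) F421108
theorem F421118 : act 4 n201606 = n183025 := d10_1 D201606 (iv6 F421114) (iv4 D201605)
theorem F421119 : act 0 n201606 = n187852 := d21_4 (iv5 D146614) (iv1 F317595) D114880 D201606 (iv6 D187852) (iv5 D90609) (iv1 F138919) D187531 (iv6 F370702) (iv1 F363439)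
theorem F421120 : act 0 n118768 = n201606 := d21_4 F114177 (iv1 F114579) (iv5 F114580) D118768 (iv6 D201606) (iv5 D114880) (iv1 D53007) D53008 F83733 D76217
theorem F421121 : act 7 n187999 = n201606 := d8_0 F421117 F376977 D187999
theorem F421122 : act 1 n187604 = n187999 := d15_1 F420538 F421121 F421116
theorem F421123 : act 1 n187999 = n187611 := d15_1 F421122 (iv7 F374797) F374796
def n201607 : Q := act 4 n114882
theorem D201607 : act 4 n114882 = n201607 := rfl
def n201608 : Q := act 5 n114882
theorem D201608 : act 5 n114882 = n201608 := rfl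
theorem F421124 : act 3 n201608 = n201370 := d6_1 D201608 (iv5 D201370) (iv3 F352669)
theorem F421125 : act 6 n201608 = n127667 := d12_2 (iv6 F370702) D201608 (iv5 F360908) F157842 D187531
theorem F421126 : act 7 n201608 = n148915 := d13_2 F421088 D201608 F421090
theorem F421127 : act 4 n201608 = n127669 := d17_4 (iv1 D53007) D53008 D114882 D201608 (iv5 F392654) (iv0 F392657) (iv5 F338195) (iv0 F243197) F319823
theorem F421128 : act 1 n201608 = n148010 := d17_8 (iv1 F233042) F232244 F229896 (iv5 D68711) D68710 D146614 F363439 D201608 F231829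
theorem F421129 : act 4 n114883 = n198590 := d16_0 (iv5 D198590) F169560 D109679 (iv4 F392653) F392654 (iv4 F421127) (iv5 D201608) (iv7 F421088) F421091
def n201609 : Q := act 5 n114883
theorem D201609 : act 5 n114883 = n201609 := rfl
theorem F421130 : act 2 n201609 = n148915 := d2_1 D201609 F421090 F421091
theorem F421131 : act 6 n201609 = n148890 := d12_2 F371727 D201609 F314440 (iv6 F252361) (iv5 F371726)
theorem F421132 : act 4 n201609 = n146107 := d16_4 (iv4 F169560) D198590 (iv4 F421129) D201609 F243257 (iv4 F338193) (iv5 F408452) F408455 (iv2 D109678)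
theorem F421133 : act 1 n148010 = n201609 := d18_6 (iv1 F317657) (iv4 F332528) F319250 (iv4 F353428) (iv5 F183905) (iv4 F231829) F421132 F317776 (iv5 D103131)
def n201610 : Q := act 0 n114884
theorem D201610 : act 0 n114884 = n201610 := rfl
def n201611 : Q := act 1 n114884
theorem D201611 : act 1 n114884 = n201611 := rfl
theorem F421134 : act 5 n201611 = n137143 := d17_7 (iv1 D109677) D109679 F334952 (iv5 F316917) (iv4 F222294) (iv5 F363435) D201611 (iv0 F408470) (iv4 D198600)
theorem F421135 : act 3 n137150 = n201611 := d6_3 F421134 F220328 D137150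
theorem F421136 : act 6 n188315 = n201611 := d12_0 F421134 (iv6 D137143) F180639 D143097 (iv5 F373067)
def n201612 : Q := act 3 n114884
theorem D201612 : act 3 n114884 = n201612 := rfl
theorem F421137 : act 4 n201612 = n114914 := d5_2 D114884 D201612 (iv3 D114914) (iv4 D53022) (iv3 F83732)
theorem F421138 : act 6 n201612 = n159336 := d7_2 (iv6 F178960) D201612 (iv3 D159336)
def n201613 : Q := act 6 n114885
theorem D201613 : act 6 n114885 = n201613 := rfl
theorem F421139 : act 3 n201613 = n114917 := d7_1 D201613 (iv6 D114917) (iv3 F178961)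
theorem F421140 : act 4 n201613 = n187622 := d10_1 D201613 F375824 (iv4 F363432)
theorem F421141 : act 5 n201613 = n195156 := d12_1 D201613 (iv6 D195156) F161526 (iv6 F83735) (iv5 F178962)
theorem F421142 : act 7 n201613 = n118765 := d14_2 D114885 D201613 (iv6 D118765) F86492 (iv6 F83733)
theorem F421143 : act 1 n201376 = n201613 := d15_1 (iv0 F420240) F421142 (iv2 F239983)
def n201614 : Q := act 4 n114886
theorem D201614 : act 4 n114886 = n201614 := rfl
theorem F421144 : act 2 n201614 = n176364 := d1_1 D201614 F346726 F191127
theorem F421145 : act 3 n201614 = n128205 := d5_1 D201614 F206342 (iv3 F240918) (iv4 F368676) (iv3 F368680)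
theorem F421146 : act 6 n201614 = n172412 := d10_2 F234966 D201614 F334807
theorem F421147 : act 7 n201614 = n128201 := d11_2 (iv7 F191126) D201614 F206340
theorem F421148 : act 1 n201614 = n167611 := d18_6 (iv1 D93022) (iv4 F143466) (iv1 F412224) (iv4 D188887) F364518 D201614 F301481 (iv0 F373915) F373913
theorem F421149 : act 0 n201614 = n166468 := d20_1 D201614 (iv4 F358938) (iv3 D159454) (iv1 D76273) F55105 F27674 D23937 F177819 D53011 D114886
theorem F421150 : act 5 n201614 = n189874 := d21_8 (iv5 D83211) (iv1 D38300) D38301 F59168 D38313 D83243 (iv5 F301482) (iv1 F421148) F378058 (iv1 F272787)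
def n201615 : Q := act 5 n114888
theorem D201615 : act 5 n114888 = n201615 := rfl
theorem F421151 : act 2 n201615 = n114890 := d2_1 D201615 (iv5 D114890) D114888
theorem F421152 : act 3 n201615 = n151523 := d6_1 D201615 (iv5 D151523) F335496
theorem F421153 : act 7 n201615 = n201404 := d13_2 F190363 D201615 (iv5 D201404)
def n201616 : Q := act 1 n114890
theorem D201616 : act 1 n114890 = n201616 := rfl
theorem F421154 : act 1 n201616 = n201404 := d15_1 D201616 (iv7 F421153) F421151
def n201617 : Q := act 6 n114890
theorem D201617 : act 6 n114890 = n201617 := rfl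
theorem F421155 : act 3 n201617 = n114894 := d7_1 D201617 (iv6 D114894) (iv3 F178964)
theorem F421156 : act 4 n201617 = n196539 := d10_1 D201617 F401009 (iv4 F353306)
theorem F421157 : act 5 n201617 = n130781 := d12_1 D201617 (iv6 D130781) (iv5 F325735) (iv6 D114891) D114890
def n201618 : Q := act 3 n114892
theorem D201618 : act 3 n114892 = n201618 := rfl
def n201619 : Q := act 4 n114892
theorem D201619 : act 4 n114892 = n201619 := rfl
theorem F421158 : act 0 n201619 = n114949 := d17_0 F419221 (iv1 D201136) (iv5 F179085) (iv4 D115008) (iv5 D53067) F40664 D53013 D114892 D201619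
theorem F421159 : act 1 n201619 = n114999 := d18_6 D114239 (iv4 F178035) F179047 (iv4 F258823) F258826 D201619 (iv4 D114999) (iv0 F178037) (iv5 D114241)
theorem E103833 : n201618 = n201601 := (c20_4 D114999 (iv1 F421159) (iv4 D201619) D201618 (iv1 D201601) (iv3 F421096) F421098 (iv1 F400623) D196741 (iv3 F401657) F178037)
theorem F421160 : act 3 n201601 = n114892 := (sb E103833 (iv3 D201618))
theorem F421161 : act 0 n201602 = n197187 := d20_1 D201602 F403451 (iv3 F419714) F419717 F179071 D114999 (iv1 F421159) (iv4 D201619) (iv3 F421160) (iv1 D201601)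
def n201620 : Q := act 0 n114893
theorem D201620 : act 0 n114893 = n201620 := rfl
theorem F421162 : act 4 n201620 = n159464 := d18_3 (iv1 D114892) D114893 D201620 F251103 F161725 F178185 F177623 D164207 F258826
theorem F421163 : act 4 n189122 = n201601 := d20_8 D114893 D201620 F421162 F375796 (iv1 D189112) F356647 (iv4 F356649) D189122 F421160 (iv1 D114892)
theorem F421164 : act 3 n189114 = n201616 := d20_3 F143863 D93283 D189114 (iv1 D201616) F178964 D114893 D201620 F421162 F375796 (iv1 D189112)
theorem F421165 : act 1 n114903 = n201620 := d15_0 (iv0 D201620) (iv7 F179122) F179121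
theorem F421166 : act 2 n201270 = n201620 := d1_3 F421162 (iv2 F251105) D201270
def n201621 : Q := act 1 n114893
theorem D201621 : act 1 n114893 = n201621 := rfl
theorem F421167 : act 1 n201621 = n114903 := d15_1 D201621 (iv7 F179108) F179107
theorem F421168 : act 7 n201621 = n201270 := d15_2 (iv0 D201620) D201621 F421166
theorem F421169 : act 4 n201621 = n159465 := d17_9 (iv1 D159465) (iv5 D76278) (iv1 F77608) (iv5 F163410) (iv4 F398432) F398433 (iv0 F419209) F419207 D201621
def n201622 : Q := act 6 n114893
theorem D201622 : act 6 n114893 = n201622 := rfl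
theorem F421170 : act 3 n201622 = n196546 := d7_1 D201622 F401035 F353315
theorem F421171 : act 4 n201622 = n114894 := d10_1 D201622 (iv6 D114894) D114893
def n201623 : Q := act 0 n114894
theorem D201623 : act 0 n114894 = n201623 := rfl
theorem F421172 : act 6 n201623 = n159340 := d21_5 (iv5 D25731) D25729 D53013 D114894 D201623 (iv5 F377473) (iv1 F377474) F189733 (iv6 D114911) (iv1 D53021)
theorem F421173 : act 5 n201623 = n148739 := d21_0 (iv1 D148739) (iv5 F114209) (iv6 D76229) (iv1 D34816) (iv6 F40655) (iv5 D25731) D25729 D53013 D114894 D201623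
def n201624 : Q := act 1 n114894
theorem D201624 : act 1 n114894 = n201624 := rfl
theorem F421174 : act 5 n148738 = n201624 := d21_0 (iv1 D201624) (iv5 F233502) (iv6 D148729) (iv1 D69704) F51377 (iv5 D15248) D15246 D32354 D69708 D148738
theorem F421175 : act 6 n201149 = n201624 := d21_3 (iv5 F418298) F418297 (iv5 F419272) (iv1 D201624) (iv6 D114894) (iv5 D53013) (iv1 F40664) D53067 (iv6 F177494) (iv1 F250897)
def n201625 : Q := act 7 n114894
theorem D201625 : act 7 n114894 = n201625 := rfl
theorem F421176 : act 6 n201625 = n201450 := d14_1 D201625 F420549 (iv6 D115026) (iv7 F177821) D114894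
def n201626 : Q := act 5 n114899
theorem D201626 : act 5 n114899 = n201626 := rfl
theorem F421177 : act 2 n201626 = n114901 := d2_1 D201626 (iv5 D114901) D114899
theorem F421178 : act 3 n201626 = n201404 := d6_1 D201626 (iv5 D201404) F190362
theorem F421179 : act 7 n201626 = n151523 := d13_2 (iv7 F335503) D201626 (iv5 D151523)
theorem F421180 : act 0 n201626 = n201437 := d21_1 D201626 F420510 F363930 (iv1 F335472) (iv6 F335474) (iv5 D113971) D113967 F336815 (iv6 F259150) (iv1 F343519)
def n201627 : Q := act 6 n114899
theorem D201627 : act 6 n114899 = n201627 := rfl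
theorem F421181 : act 2 n201627 = n114902 := d3_1 D201627 (iv6 D114902) D114899
theorem F421182 : act 3 n201627 = n201405 := d7_1 D201627 (iv6 D201405) F190362
theorem F421183 : act 0 n121320 = n201627 := d21_4 (iv5 F420253) F420258 (iv5 D121319) D121320 (iv6 D201627) D201626 F421180 F420510 F363930 (iv1 F335472)
def n201628 : Q := act 5 n114900
theorem D201628 : act 5 n114900 = n201628 := rfl
theorem F421184 : act 3 n201628 = n195675 := d6_1 D201628 (iv5 D195675) (iv3 F178978)
def n201629 : Q := act 6 n114900
theorem D201629 : act 6 n114900 = n201629 := rfl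
theorem F421185 : act 3 n201629 = n194137 := d7_1 D201629 (iv6 F392171) (iv3 F178978)
theorem F421186 : act 4 n201629 = n114902 := d10_1 D201629 (iv6 D114902) D114900
def n201630 : Q := act 4 n114901
theorem D201630 : act 4 n114901 = n201630 := rfl
def n201631 : Q := act 6 n114901
theorem D201631 : act 6 n114901 = n201631 := rfl
theorem F421187 : act 3 n201631 = n114904 := d7_1 D201631 (iv6 D114904) (iv3 F178979)
theorem F421188 : act 0 n145233 = n201631 := d21_4 F107967 F94978 D68084 D145233 (iv6 D201631) (iv5 D114901) F335504 D71434 F107966 D71436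
def n201632 : Q := act 0 n114902
theorem D201632 : act 0 n114902 = n201632 := rfl
def n201633 : Q := act 1 n114902
theorem D201633 : act 1 n114902 = n201633 := rfl
theorem F421189 : act 3 n121346 = n201633 := d20_3 (iv4 F393640) (iv1 F393642) F259086 (iv1 D201633) F178980 F177830 D106188 (iv4 F177897) (iv3 F419547) (iv1 F419550)
theorem F421190 : act 6 n201633 = n121309 := d7_2 D121346 F421189 F354922
theorem F421191 : act 2 n121320 = n201633 := d3_3 F421190 F354921 D121320
theorem F421192 : act 5 n201633 = n118760 := d21_6 (iv5 D16925) (iv1 F21471) D26987 D55966 D121309 (iv6 F421190) (iv1 D118760) (iv5 D54675) (iv6 D26444) (iv1 F27844)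
theorem F421193 : act 3 n118760 = n115049 := d6_1 F421192 (iv5 F193561) F421189
theorem F421194 : act 6 n201601 = n118760 := d7_0 F421193 F250852 (iv3 F421160)
def n201634 : Q := act 7 n114902
theorem D201634 : act 7 n114902 = n201634 := rfl
theorem F421195 : act 3 n201634 = n114906 := d8_1 D201634 (iv7 D114906) (iv3 F178980)
theorem F421196 : act 6 n201634 = n159741 := d14_1 D201634 F347570 (iv6 D115014) (iv7 F177825) D114902
theorem F421197 : act 1 n121320 = n201634 := d15_1 (iv0 F421183) (iv7 D201634) (iv2 F421181)
def n201635 : Q := act 3 n114903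
theorem D201635 : act 3 n114903 = n201635 := rfl
def n201636 : Q := act 6 n114903
theorem D201636 : act 6 n114903 = n201636 := rfl
theorem F421198 : act 4 n201636 = n114904 := d10_1 D201636 (iv6 D114904) D114903
def n201637 : Q := act 7 n114904
theorem D201637 : act 7 n114904 = n201637 := rfl
theorem F421199 : act 2 n201637 = n201450 := d4_1 D201637 F420549 F179123
theorem F421200 : act 5 n201637 = n151255 := d13_1 D201637 (iv7 F420498) F420497
theorem F421201 : act 1 n157740 = n201637 := d15_1 (iv0 F248615) (iv7 D201637) (iv2 F179123)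
theorem F421202 : act 1 n201637 = n201452 := d15_1 F421201 (iv7 D201452) (iv2 F248613)
def n201638 : Q := act 3 n114907
theorem D201638 : act 3 n114907 = n201638 := rfl
theorem F421203 : act 4 n201638 = n188882 := d5_2 D114907 D201638 F375130 F143261 (iv3 F177452)
theorem F421204 : act 6 n201638 = n188878 := d7_2 (iv6 F178994) D201638 (iv3 D188878)
def n201639 : Q := act 4 n114909
theorem D201639 : act 4 n114909 = n201639 := rfl
theorem F421205 : act 7 n201639 = n151534 := d11_2 F179128 D201639 (iv4 F360959)
theorem F421206 : act 0 n201639 = n151345 := d18_2 (iv1 F237337) D201639 (iv4 D151345) (iv5 D71325) (iv4 F107830) (iv0 F340893) (iv4 D114900) D114898 F335499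
theorem F421207 : act 0 n146341 = n201639 := d20_10 (iv4 D201639) F189732 D151531 (iv3 F375394) F375397 F176807 D113639 D200938 (iv4 F418443) (iv3 F366498)
theorem F421208 : act 3 n159359 = n201639 := d8_3 F421205 F238407 D159359
theorem F421209 : act 5 n195142 = n201639 := d13_3 F421205 F238408 D195142
theorem F421210 : act 0 n129083 = n132010 := d19_16 (iv1 F395947) F421209 (iv4 D201639) (iv3 D114909) (iv1 D53021) (iv5 D25731) F20214 (iv3 F20205) D25709 D52962 (iv4 F329476) (iv3 F176483) F176486 (iv5 D106855) F102064 D129083 (iv5 F363271) F391697 D113902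
theorem F421211 : act 1 n129083 = n200835 := d15_1 (iv0 F421210) F418106 F399212
def n201640 : Q := act 6 n114909
theorem D201640 : act 6 n114909 = n201640 := rfl
theorem F421212 : act 2 n201640 = n188842 := d3_1 D201640 F375044 F238458
theorem F421213 : act 3 n201640 = n114911 := d7_1 D201640 (iv6 D114911) D114909
theorem F421214 : act 7 n201640 = n188839 := d14_2 F179128 D201640 (iv6 D188839) F329800 F360958
theorem F421215 : act 1 n188841 = n201640 := d15_1 D188841 F421214 F375041
theorem F421216 : act 1 n201640 = n188840 := d15_0 (iv0 D188840) D188842 (iv2 F421212)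
def n201641 : Q := act 3 n114910
theorem D201641 : act 3 n114910 = n201641 := rfl
theorem F421217 : act 4 n201641 = n159359 := d5_2 D114910 D201641 F421208 (iv4 D201639) (iv3 D114909)
theorem F421218 : act 5 n201641 = n200928 := d6_2 F419183 D201641 (iv3 F419181)
theorem F421219 : act 7 n201641 = n159356 := d8_2 F179130 D201641 F360961
def n201642 : Q := act 6 n114910
theorem D201642 : act 6 n114910 = n201642 := rfl
theorem F421220 : act 4 n201642 = n114911 := d10_1 D201642 (iv6 D114911) D114910
theorem F421221 : act 5 n201001 = n201642 := d16_5 (iv4 F377467) (iv5 F377468) (iv4 F398223) F398222 D201001 F421220 (iv5 F189733) (iv7 F377461) F377460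
def n201643 : Q := act 7 n114911
theorem D201643 : act 7 n114911 = n201643 := rfl
theorem F421222 : act 2 n201643 = n188633 := d4_1 D201643 F374264 F179135
theorem F421223 : act 3 n201643 = n188839 := d8_1 D201643 (iv7 F421214) F421213
theorem F421224 : act 5 n201643 = n189703 := d13_1 D201643 F377461 F189733
theorem F421225 : act 6 n201643 = n159825 := d14_1 D201643 F251906 (iv6 F177444) F177456 D114911
theorem F421226 : act 1 n196134 = n201643 := d15_1 F399568 (iv7 D201643) (iv2 F179135)
theorem F421227 : act 1 n201643 = n196132 := d15_1 F421226 F399548 (iv2 F399559)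
def n201644 : Q := act 3 n114912
theorem D201644 : act 3 n114912 = n201644 := rfl
def n201645 : Q := act 3 n114913
theorem D201645 : act 3 n114913 = n201645 := rfl
theorem F421228 : act 5 n201645 = n183402 := d6_2 F419239 D201645 (iv3 F419238)
theorem F421229 : act 6 n201645 = n195286 := d7_2 F396526 D201645 (iv3 F396580)
def n201646 : Q := act 0 n114914
theorem D201646 : act 0 n114914 = n201646 := rfl
def n201647 : Q := act 1 n114914
theorem D201647 : act 1 n114914 = n201647 := rfl
def n201648 : Q := act 2 n114914
theorem D201648 : act 2 n114914 = n201648 := rfl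
theorem F421230 : act 6 n201648 = n159366 := d3_2 (iv6 F179006) D201648 (iv2 D159366)
def n201649 : Q := act 5 n114914
theorem D201649 : act 5 n114914 = n201649 := rfl
theorem F421231 : act 3 n201649 = n114915 := d6_1 D201649 (iv5 D114915) D114914
def n201650 : Q := act 7 n114914
theorem D201650 : act 7 n114914 = n201650 := rfl
theorem F421232 : act 3 n201650 = n114916 := d8_1 D201650 (iv7 D114916) D114914
def n201651 : Q := act 6 n114916
theorem D201651 : act 6 n114916 = n201651 := rfl
theorem F421233 : act 2 n201651 = n201146 := d3_1 D201651 F419261 F179083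
theorem F421234 : act 4 n201651 = n114917 := d10_1 D201651 (iv6 D114917) (iv4 F179007)
theorem F421235 : act 7 n201651 = n115071 := d14_2 D114916 D201651 (iv6 D115071) F83795 (iv6 F83738)
theorem F421236 : act 1 n201161 = n201651 := d15_1 D201161 F421235 F179174
theorem F421237 : act 0 n201160 = n201651 := d18_2 D159498 (iv4 F419293) F421234 F179009 F161580 F161220 F395522 (iv0 D106125) (iv5 F114347)
def n201652 : Q := act 6 n114929
theorem D201652 : act 6 n114929 = n201652 := rfl
theorem F421238 : act 2 n201652 = n114939 := d3_1 D201652 (iv6 D114939) (iv2 F179016)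
theorem F421239 : act 0 n146447 = n201652 := d21_4 (iv5 F375147) (iv1 F375149) (iv5 D146446) D146447 (iv6 D201652) (iv5 D114929) F258990 (iv5 F229771) (iv6 F335970) (iv1 F229659)
def n201653 : Q := act 1 n114930
theorem D201653 : act 1 n114930 = n201653 := rfl
theorem F421240 : act 1 n201653 = n114942 := d15_1 D201653 (iv7 D114942) (iv2 F179017)
theorem F421241 : act 7 n201653 = n114940 := d15_2 (iv0 F411695) D201653 F377403
theorem F421242 : act 2 n114941 = n201653 := d4_3 F421241 F377403 (iv7 F377406)
theorem F421243 : act 3 n173516 = n201653 := d8_3 F421241 (iv3 F420795) (iv7 F420799)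
def n201654 : Q := act 7 n114930
theorem D201654 : act 7 n114930 = n201654 := rfl
theorem F421244 : act 2 n201654 = n114942 := d4_1 D201654 (iv7 D114942) (iv2 F179017)
theorem F421245 : act 4 n201654 = n134068 := d11_1 D201654 F411687 F411690
theorem F421246 : act 5 n201654 = n151571 := d13_1 D201654 F259153 F258988
theorem F421247 : act 6 n201654 = n137932 := d14_1 D201654 F353850 (iv6 D151554) (iv7 F259139) D114930
theorem F421248 : act 1 n114941 = n201654 := d15_1 D114941 (iv7 D201654) F179017
theorem F421249 : act 1 n201654 = n114940 := d15_1 F421248 (iv7 F421241) (iv2 F421242)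
theorem F421250 : act 0 n158950 = n154386 := d20_10 (iv4 F377404) (iv1 F421249) F421245 (iv3 F411691) (iv1 D158964) (iv3 D75881) (iv4 D34686) D34684 D75872 D158950
def n201655 : Q := act 0 n114933
theorem D201655 : act 0 n114933 = n201655 := rfl
theorem F421251 : act 5 n201655 = n186585 := d17_1 D201655 F367325 D190116 F378907 F372382 F370843 (iv5 F370845) (iv0 D114943) (iv4 F179018)
theorem F421252 : act 4 n201655 = n193595 := d18_1 D201655 (iv1 D193595) (iv4 D102006) (iv5 D47378) (iv4 F74565) D101973 (iv4 F374164) F380665 (iv5 F380669)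
theorem F421253 : act 3 n201655 = n143307 := d20_5 (iv4 F307282) (iv1 F259135) D53033 D114933 D201655 (iv4 F320162) F320159 (iv4 F243499) F309300 (iv1 D88831)
theorem F421254 : act 2 n153344 = n201655 := d15_3 (iv0 D201655) (iv0 F206234) D153344
theorem F421255 : act 1 n153342 = n201655 := d15_0 (iv0 D201655) (iv7 F251123) (iv2 F355680)
theorem F421256 : act 7 n201655 = n153336 := d15_2 D153342 F421255 F240904
theorem F421257 : act 6 n195848 = n201655 := d14_5 F421256 (iv6 D153336) F108967 D114127 (iv7 F398447)
theorem F421258 : act 0 n183122 = n194030 := d19_8 F367326 (iv5 F421251) F421252 (iv3 F390398) F320166 F358474 F284742 (iv3 F284736) (iv5 D194030) F157700 (iv3 D47593) (iv1 F74596) D102018 F156971 (iv3 F157458) (iv1 F289292) (iv5 D88823) D88822 (iv3 F147315)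
def n201656 : Q := act 2 n114933
theorem D201656 : act 2 n114933 = n201656 := rfl
theorem F421259 : act 3 n201656 = n187060 := d0_2 D114933 D201656 (iv2 F368982) F366793 F179015
theorem F421260 : act 4 n201656 = n114945 := d1_2 (iv4 F179018) D201656 (iv2 D114945)
theorem F421261 : act 5 n201656 = n189888 := d2_2 (iv5 F380669) D201656 (iv2 F380667)
theorem F421262 : act 7 n201656 = n153342 := d4_2 F251123 D201656 F355680
theorem F421263 : act 1 n201656 = n153336 := d15_0 (iv0 F357337) F251123 D201656
theorem F421264 : act 1 n153344 = n201656 := d15_0 F421263 (iv7 F421256) (iv2 F421254)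
def n201657 : Q := act 5 n114935
theorem D201657 : act 5 n114935 = n201657 := rfl
theorem F421265 : act 2 n201657 = n134093 := d2_1 D201657 F411682 (iv2 F411681)
theorem F421266 : act 6 n201657 = n137961 := d12_2 D114935 D201657 F360353 (iv6 F356334) (iv5 D114934)
theorem F421267 : act 7 n201657 = n134092 := d13_2 (iv7 F411662) D201657 F411663
theorem F421268 : act 0 n201657 = n134094 := d17_2 (iv1 F377405) D201657 F328714 F107997 D121361 (iv0 F399768) F399766 (iv0 F399777) (iv4 D134069)
theorem F421269 : act 1 n201657 = n130749 := d17_6 (iv1 F114540) (iv5 F251573) (iv1 F259152) F165961 (iv4 F179019) D201657 (iv5 F216330) F329093 (iv4 D151563)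
def n201658 : Q := act 5 n114936
theorem D201658 : act 5 n114936 = n201658 := rfl
theorem F421270 : act 2 n201658 = n118758 := d2_1 D201658 (iv5 F396453) (iv2 F396455)
theorem F421271 : act 3 n201658 = n115226 := d6_1 D201658 (iv5 F420866) (iv3 F420867)
theorem F421272 : act 7 n201658 = n175675 := d13_2 (iv7 F371396) D201658 (iv5 F371393)
theorem F421273 : act 4 n201658 = n189887 := d16_4 D186910 F368485 (iv4 F357316) D201658 (iv5 D189887) F147012 D189887 F378113 (iv2 F289356)
theorem F421274 : act 1 n201658 = n148710 := d17_6 F349028 (iv5 F357754) (iv1 F368487) F368485 (iv4 F357316) D201658 (iv5 F233477) F349032 F335971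
theorem F421275 : act 0 n201658 = n175678 := d21_1 D201658 F357754 (iv6 F349027) F218119 F396070 (iv5 F420306) F420308 F402843 (iv6 D114939) D114936
theorem F421276 : act 6 n201658 = n118703 := d21_3 D53034 D114936 D201658 (iv1 D118703) (iv6 D54653) (iv5 D26433) F21003 D15941 D33056 (iv1 F259135)
def n201659 : Q := act 6 n114936
theorem D201659 : act 6 n114936 = n201659 := rfl
theorem F421277 : act 2 n201659 = n187748 := d3_1 D201659 F396456 (iv2 F396455)
theorem F421278 : act 4 n201659 = n117340 := d10_1 D201659 (iv6 F368488) (iv4 F357316)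
theorem F421279 : act 7 n201659 = n187744 := d14_2 (iv7 F371396) D201659 F386961 F283593 D187749
theorem F421280 : act 5 n201659 = n201093 := d21_6 (iv5 F420306) F420308 F402843 (iv6 D114939) D114936 D201659 (iv1 F419072) F403472 F394474 (iv1 F396068)
def n201660 : Q := act 0 n114938
theorem D201660 : act 0 n114938 = n201660 := rfl
def n201661 : Q := act 1 n114938
theorem D201661 : act 1 n114938 = n201661 := rfl
theorem F421281 : act 4 n201661 = n187732 := d17_9 (iv1 F371353) (iv5 D151401) (iv1 F186617) (iv5 F349037) (iv4 F328366) F183655 (iv0 F339713) (iv5 F357312) D201661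
theorem F421282 : act 3 n187734 = n201661 := d5_5 F421281 F371351 F340914 (iv3 F307486) (iv4 F371362)
theorem F421283 : act 6 n187731 = n201661 := d10_0 F421281 (iv6 D187732) D187731
theorem F421284 : act 7 n201661 = n187732 := d14_2 (iv7 F371399) F421283 (iv6 D187732) (iv7 F142930) (iv6 F371400)
theorem F421285 : act 2 n187732 = n201660 := d15_3 (iv0 D201660) D201661 F421284
theorem F421286 : act 3 n201660 = n135875 := d0_2 (iv3 F371351) F421285 F218544 F340915 F142935
theorem F421287 : act 6 n201660 = n187730 := d3_2 D187732 F421285 (iv2 D187730)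
def n201662 : Q := act 6 n114938
theorem D201662 : act 6 n114938 = n201662 := rfl
theorem F421288 : act 3 n201662 = n195830 := d7_1 D201662 (iv6 D195830) F357315
theorem F421289 : act 4 n201662 = n114939 := d10_1 D201662 (iv6 D114939) D114938
theorem F421290 : act 0 n195566 = n201662 := d21_4 (iv5 D76531) F77009 D105745 D195566 (iv6 D201662) F357312 F339713 (iv5 F183655) (iv6 D117303) (iv1 F114737)
theorem F421291 : act 0 n201662 = n115100 := d20_7 (iv4 F99087) F175227 (iv4 F214067) (iv3 F391866) (iv1 D114964) (iv3 F179020) (iv4 F421289) F179235 F99078 D63721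
def n201663 : Q := act 1 n114939
theorem D201663 : act 1 n114939 = n201663 := rfl
theorem F421292 : act 6 n117332 = n201663 := d21_3 (iv5 F335952) (iv1 F335956) F231788 (iv1 D201663) (iv6 D114939) (iv5 D53034) D53030 (iv5 F336815) F336816 (iv1 F229753)
theorem F421293 : act 2 n201663 = n146447 := d3_1 F421292 (iv6 D146447) (iv2 F183729)
theorem F421294 : act 4 n201663 = n117333 := d10_1 F421292 (iv6 D117333) D117332
theorem F421295 : act 0 n200146 = n117333 := d20_10 (iv4 F421294) (iv1 D201663) (iv4 F421289) F421288 (iv1 F402712) F402710 (iv4 F402717) (iv1 F415240) (iv4 D200147) D200146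
theorem F421296 : act 1 n200146 = n146450 := d15_1 (iv0 F421295) (iv7 D146450) (iv2 F183731)
def n201664 : Q := act 7 n114939
theorem D201664 : act 7 n114939 = n201664 := rfl
theorem F421297 : act 3 n201664 = n114965 := d8_1 D201664 (iv7 D114965) (iv3 F179020)
theorem F421298 : act 6 n201664 = n200146 := d14_1 D201664 F415235 F227658 F161897 D114939
theorem F421299 : act 1 n146447 = n201664 := d15_1 (iv0 F421239) (iv7 D201664) (iv2 F421238)
def n201665 : Q := act 4 n114941
theorem D201665 : act 4 n114941 = n201665 := rfl
theorem F421300 : act 7 n201665 = n186972 := d11_2 (iv7 F377406) D201665 (iv4 F368719)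
theorem F421301 : act 0 n201665 = n158950 := d17_0 F347291 F335422 (iv5 D151559) F107992 D71450 (iv0 F259151) F165961 D114941 D201665
theorem F421302 : act 3 n201665 = n186579 := d20_3 (iv4 F421245) (iv1 F421248) D201665 (iv1 D186579) (iv3 F352609) (iv4 F339499) (iv1 F331666) F228933 (iv3 F411699) (iv1 F411703)
def n201666 : Q := act 6 n114941
theorem D201666 : act 6 n114941 = n201666 := rfl
theorem F421303 : act 7 n201666 = n201633 := d14_2 (iv7 F377406) D201666 F421190 F354923 D121325
theorem F421304 : act 0 n201666 = n201634 := d21_4 (iv5 F151792) D189688 F420252 D201666 F421196 F251686 (iv1 F328836) (iv5 F329170) F114509 (iv1 F114532)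
theorem F421305 : act 2 n201666 = n201632 := d15_3 (iv0 D201632) D201633 (iv7 F421303)
theorem F421306 : act 6 n201632 = n201653 := d3_2 D201666 F421305 (iv2 F421242)
theorem F421307 : act 7 n201632 = n121320 := d4_2 (iv7 F421303) F421305 F421191
theorem F421308 : act 1 n201666 = n201627 := d15_0 (iv0 F421183) (iv7 F421307) (iv2 F421305)
theorem F421309 : act 4 n201666 = n146823 := d20_0 (iv1 D146823) (iv4 F183702) (iv3 D117322) F85326 D68692 F104896 D146157 (iv4 F420369) (iv3 F421182) (iv1 F421308)
theorem F421310 : act 6 n146823 = n201665 := d10_2 D201666 F421309 (iv4 D201665)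
theorem F421311 : act 5 n118759 = n201632 := d21_2 D54675 D118759 F421306 (iv1 D201653) (iv6 D114930) D114929 (iv1 F396451) F396453 (iv6 D118758) (iv1 D54674)
def n201667 : Q := act 5 n114945
theorem D201667 : act 5 n114945 = n201667 := rfl
theorem F421312 : act 2 n201667 = n114946 := d2_1 D201667 (iv5 D114946) D114945
theorem F421313 : act 3 n201667 = n201180 := d6_1 D201667 (iv5 D201180) F339741
theorem F421314 : act 7 n201667 = n201206 := d13_2 F355676 D201667 (iv5 D201206)
theorem F421315 : act 0 n201667 = n192802 := d17_2 F356461 D201667 F387831 (iv4 F347748) F347749 F156943 F156941 F335732 (iv4 F161592)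
def n201668 : Q := act 0 n114946
theorem D201668 : act 0 n114946 = n201668 := rfl
theorem F421316 : act 5 n201668 = n188120 := d17_3 F355672 D114946 D201668 F372372 F362409 F357546 F74570 (iv0 F289945) F303373
theorem F421317 : act 1 n201206 = n201668 := d15_0 (iv0 D201668) (iv7 F251125) (iv2 F419452)
theorem F421318 : act 2 n192802 = n201668 := d2_3 F421316 (iv2 F372373) (iv5 F387831)
theorem F421319 : act 6 n189754 = n201668 := d21_5 (iv5 F69468) (iv1 D44126) D44127 (iv6 F145582) D189754 F421316 (iv1 D188120) (iv5 D90820) (iv6 D42533) (iv1 F65983)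
def n201669 : Q := act 1 n114946
theorem D201669 : act 1 n114946 = n201669 := rfl
theorem F421320 : act 1 n201669 = n201206 := d15_1 D201669 (iv7 F421314) F421312
theorem F421321 : act 7 n201669 = n192802 := d15_2 (iv0 D201668) D201669 F421318
theorem F421322 : act 5 n201669 = n188119 := d17_7 (iv1 F372379) F369426 D190701 (iv5 F380669) F179018 D114946 D201669 (iv0 D188119) D188121
def n201670 : Q := act 4 n114946
theorem D201670 : act 4 n114946 = n201670 := rfl
theorem F421323 : act 0 n201670 = n197537 := d17_0 F404721 F393117 (iv5 D188114) F139796 D90820 D188120 (iv5 F421316) (iv0 D201668) D201670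
def n201671 : Q := act 6 n114946
theorem D201671 : act 6 n114946 = n201671 := rfl
theorem F421324 : act 3 n201671 = n114950 := d7_1 D201671 (iv6 D114950) (iv3 F179023)
theorem F421325 : act 5 n201671 = n188753 := d12_1 D201671 F374724 F333215 (iv6 D114947) D114946
def n201672 : Q := act 3 n114948
theorem D201672 : act 3 n114948 = n201672 := rfl
theorem F421326 : act 2 n201672 = n189111 := d0_1 D201672 (iv3 F375794) (iv2 F205552) F359296 (iv2 F251111)
theorem F421327 : act 5 n201672 = n166279 := d6_2 F251400 D201672 F353110
theorem F421328 : act 6 n201672 = n140847 := d7_2 F251112 D201672 (iv3 F366045)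
theorem F421329 : act 7 n201672 = n189112 := d8_2 (iv7 F251106) D201672 (iv3 F375796)
theorem F421330 : act 4 n183130 = n201672 := d20_8 D114949 (iv1 F420301) (iv4 D201390) (iv3 F420286) (iv1 F420577) F420575 F284742 D183130 (iv3 D201672) (iv1 D114948)
theorem F421331 : act 0 n201672 = n149367 := d18_2 D183130 F421330 (iv4 F356758) (iv5 F375597) F375596 F241916 (iv4 F364280) (iv0 D184347) F134919
theorem F421332 : act 3 n191841 = n183130 := d20_5 (iv4 F380069) (iv1 D186644) F294988 (iv3 F152512) D191841 F421330 F421331 (iv4 F356758) F143864 (iv1 F142803)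
theorem F421333 : act 0 n183173 = n201672 := d21_4 D87428 F295289 (iv5 F295292) D183173 F421328 F223917 (iv1 F180965) (iv5 F356667) (iv6 D91188) (iv1 F295288)
def n201673 : Q := act 4 n114948
theorem D201673 : act 4 n114948 = n201673 := rfl
theorem F421334 : act 2 n201673 = n201621 := d1_1 D201673 F421169 (iv2 F251111)
theorem F421335 : act 7 n201673 = n201620 := d11_2 (iv7 F251106) D201673 F421162
theorem F421336 : act 5 n201673 = n132557 := d16_1 D201673 (iv4 F399228) F399231 F179049 F163430 (iv4 F114633) D114241 (iv7 F251108) (iv2 F251111)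
theorem F421337 : act 0 n201673 = n115017 := d18_2 (iv1 F179025) D201673 (iv4 D115017) (iv5 D53071) (iv4 F177643) (iv0 D23982) (iv4 F37462) (iv0 F177627) D53059
theorem F421338 : act 1 n201673 = n115025 := d18_6 (iv1 F179000) F178999 F178207 (iv4 F251397) F251400 D201673 (iv4 D115025) F179100 F179099
theorem F421339 : act 3 n132558 = n201673 := d6_3 F421336 (iv3 D132557) D132558
theorem F421340 : act 4 n191841 = n132558 := d5_0 F421339 (iv4 D201673) D201672 (iv4 F421330) (iv3 F421332)
def n201674 : Q := act 3 n114949
theorem D201674 : act 3 n114949 = n201674 := rfl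
def n201675 : Q := act 6 n114949
theorem D201675 : act 6 n114949 = n201675 := rfl
theorem F421341 : act 4 n201675 = n114950 := d10_1 D201675 (iv6 D114950) D114949
def n201676 : Q := act 1 n114950
theorem D201676 : act 1 n114950 = n201676 := rfl
theorem F421342 : act 5 n148773 = n201676 := d21_0 (iv1 D201676) (iv5 F251289) (iv6 D159552) (iv1 D76333) F55145 (iv5 D16906) F24849 D32362 D69725 D148773
def n201677 : Q := act 7 n114950
theorem D201677 : act 7 n114950 = n201677 := rfl
theorem F421343 : act 6 n201677 = n201345 := d14_1 D201677 F420088 (iv6 D159475) F177797 D114950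
def n201678 : Q := act 4 n114953
theorem D201678 : act 4 n114953 = n201678 := rfl
theorem F421344 : act 3 n201678 = n186718 := d5_1 D201678 (iv4 F384009) F384019 (iv4 D114954) D114953
theorem F421345 : act 7 n201678 = n191626 := d11_2 F396361 D201678 (iv4 F396427)
theorem F421346 : act 1 n201678 = n186682 := d18_6 F339592 (iv4 D117905) (iv1 F326376) (iv4 F104825) (iv5 F318943) D201678 F398344 F398343 F374746
def n201679 : Q := act 6 n114953
theorem D201679 : act 6 n114953 = n201679 := rfl
theorem F421347 : act 3 n201679 = n114955 := d7_1 D201679 (iv6 D114955) D114953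
theorem F421348 : act 5 n201679 = n146341 := d12_1 D201679 (iv6 D146341) (iv5 D68622) D68623 (iv5 F318943)
theorem F421349 : act 7 n201679 = n188776 := d14_2 F396361 D201679 (iv6 D188776) (iv7 F204767) (iv6 F396364)
def n201680 : Q := act 6 n114954
theorem D201680 : act 6 n114954 = n201680 := rfl
theorem F421350 : act 3 n201680 = n191620 := d7_1 D201680 (iv6 F384008) F384019
theorem F421351 : act 4 n201680 = n114955 := d10_1 D201680 (iv6 D114955) D114954
theorem F421352 : act 5 n201680 = n191617 := d12_1 D201680 (iv6 D191617) (iv5 F152003) D191643 (iv5 F384035)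
def n201681 : Q := act 3 n114960
theorem D201681 : act 3 n114960 = n201681 := rfl
theorem F421353 : act 6 n201681 = n201019 := d7_2 F179053 D201681 (iv3 D201019)
def n201682 : Q := act 5 n114960
theorem D201682 : act 5 n114960 = n201682 := rfl
theorem F421354 : act 2 n201682 = n131962 := d2_1 D201682 F396437 (iv2 F396435)
theorem F421355 : act 7 n201682 = n196258 := d13_2 (iv7 F396431) D201682 F400082
theorem F421356 : act 0 n201682 = n195186 := d17_2 (iv1 F179051) D201682 (iv5 D195186) (iv4 D105365) (iv5 F106066) F179048 (iv5 D114958) F83757 D53061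
theorem F421357 : act 1 n201682 = n195183 := d17_6 D49050 D106117 F178207 (iv5 F178205) (iv4 F179052) D201682 (iv5 D195183) F177811 F77433
theorem F421358 : act 6 n201115 = n201682 := d3_0 F421354 (iv6 F365421) D201115
def n201683 : Q := act 0 n114961
theorem D201683 : act 0 n114961 = n201683 := rfl
theorem F421359 : act 5 n201683 = n193175 := d17_1 D201683 F389056 (iv5 F419234) F419233 F398020 F420007 F420005 F398349 (iv4 F357317)
theorem F421360 : act 4 n201683 = n187793 := d18_3 (iv1 F398346) (iv4 F357317) D201683 F371516 (iv4 F315741) F315739 F299888 (iv0 F366153) (iv5 F398345)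
theorem F421361 : act 1 n195826 = n201683 := d15_0 (iv0 D201683) (iv7 F396462) (iv2 F398353)
theorem F421362 : act 6 n187792 = n201683 := d10_0 F421360 (iv6 D187793) D187792
def n201684 : Q := act 1 n114961
theorem D201684 : act 1 n114961 = n201684 := rfl
theorem F421363 : act 5 n201684 = n193174 := d17_7 (iv1 F339701) F345931 (iv1 F242041) (iv5 D154016) D154015 F357318 D201684 F389052 F295106
theorem F421364 : act 4 n201684 = n201521 := d18_7 D114756 F206237 (iv1 F206238) (iv4 D106322) D106323 (iv4 F357317) D201684 (iv0 D201521) (iv5 D114758)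
theorem F421365 : act 3 n191619 = n201684 := d20_3 F380142 (iv1 F367858) (iv4 F384039) (iv1 D201684) (iv3 D114961) (iv4 D53045) D53043 D114954 (iv3 F384019) F384017
theorem F421366 : act 0 n195826 = n201684 := d20_4 F377721 F345938 (iv4 F377802) (iv3 F398354) (iv3 F421365) F384039 (iv1 D186743) (iv4 F367856) F367855 (iv1 F377711)
def n201685 : Q := act 2 n114961
theorem D201685 : act 2 n114961 = n201685 := rfl
theorem F421367 : act 4 n201685 = n195818 := d1_2 (iv4 F357317) D201685 F398313
theorem F421368 : act 5 n201685 = n154232 := d2_2 F357318 D201685 (iv2 F242341)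
theorem F421369 : act 7 n201685 = n195826 := d4_2 F396462 D201685 F398353
def n201686 : Q := act 6 n114961
theorem D201686 : act 6 n114961 = n201686 := rfl
theorem F421370 : act 3 n201686 = n114963 := d7_1 D201686 (iv6 D114963) D114961
theorem F421371 : act 4 n201686 = n195830 := d10_1 D201686 (iv6 D195830) (iv4 F357317)
theorem F421372 : act 5 n201686 = n132745 := d12_1 D201686 F213123 F377714 (iv6 F377722) F357318
theorem F421373 : act 0 n190533 = n201686 := d17_2 (iv1 D193645) (iv5 F380016) F421372 F213122 F322726 D79618 (iv5 F336567) F212387 F390547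
def n201687 : Q := act 4 n114979
theorem D201687 : act 4 n114979 = n201687 := rfl
theorem F421374 : act 2 n201687 = n114988 := d1_1 D201687 (iv4 D114988) (iv2 F179064)
theorem F421375 : act 6 n201687 = n183480 := d10_2 F418844 D201687 (iv4 F418843)
theorem F421376 : act 5 n201687 = n154494 := d16_1 D201687 (iv4 D154494) F310408 (iv4 F155080) (iv5 F128861) (iv4 F334802) D105453 F161848 (iv2 F179064)
theorem F421377 : act 0 n201687 = n187683 := d17_0 (iv5 F371182) (iv1 F274878) (iv5 F357753) (iv4 D113991) F326557 (iv0 F326555) (iv5 F143160) (iv0 F364517) D201687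
theorem F421378 : act 1 n201687 = n193574 := d18_6 F314191 (iv4 D83851) (iv1 F128862) F334789 D114979 D201687 F390320 F374763 (iv5 F374762)
theorem F421379 : act 3 n194044 = n201687 := d20_5 F367862 (iv1 F380138) F384033 D191626 F418875 (iv4 D201687) F364517 (iv4 F374770) F374930 (iv1 F367869)
theorem F421380 : act 0 n153897 = n193575 := d21_4 (iv5 D189911) (iv1 D95436) D95437 (iv6 F359655) (iv6 D193575) D193574 (iv1 F421378) F421376 (iv6 F364816) F378210
theorem F421381 : act 1 n154569 = n193575 := d15_0 (iv0 F421380) F241861 (iv2 F242638)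
theorem F421382 : act 4 n185270 = n193575 := d20_6 (iv4 D41191) (iv1 D19366) D19367 D41196 D88277 D185270 (iv1 F421381) F387064 (iv3 D185180) (iv1 F135176)
theorem F421383 : act 6 n177974 = n185270 := d10_0 F421382 (iv6 D193575) F338088
theorem F421384 : act 2 n185270 = n177976 := d3_1 F421383 (iv6 D177976) D177974
theorem E103834 : n192558 = n185273 := ((c7_3 F421383 (iv3 D185270) D185273 (iv3 F387053))).symm
theorem F421385 : act 0 n185273 = n100389 := (sb E103834 (iv1 D192558))
theorem F421386 : act 1 n185273 = n153879 := (sb E103834 F387051)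
theorem F421387 : act 2 n185273 = n154654 := (sb E103834 F387055)
theorem F421388 : act 3 n185273 = n177974 := (sb E103834 (iv3 F387053))
theorem F421389 : act 4 n185273 = n191281 := (sb E103834 F387052)
theorem F421390 : act 5 n185273 = n192310 := (sb E103834 (iv5 F387054))
theorem F421391 : act 7 n185273 = n154653 := (sb E103834 (iv7 F387056))
theorem F421392 : act 5 n185270 = n192312 := d12_1 F421383 (iv6 D192312) (iv5 D100049) D100050 F338087
theorem F421393 : act 0 n194103 = n192312 := d21_1 D194103 (iv5 F421392) (iv6 F421383) (iv1 F338086) F136519 (iv5 D46424) F66633 D22911 D47620 D102674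
theorem F421394 : act 3 n192312 = n185272 := d6_1 F421392 (iv5 D185272) D185270
theorem F421395 : act 6 n185272 = n192309 := d7_2 D192312 F421394 F386377
theorem F421396 : act 6 n191281 = n185271 := d10_2 D185273 F421389 (iv4 D185271)
theorem F421397 : act 3 n185271 = n191283 := d7_1 F421396 (iv6 D191283) D191281
theorem F421398 : act 6 n154654 = n185269 := d3_2 D185273 F421387 (iv2 D185269)
theorem F421399 : act 3 n185269 = n177767 := d7_1 F421398 (iv6 D177767) (iv3 F338101)
theorem F421400 : act 7 n185278 = n177961 := d14_4 (iv7 F338103) F421398 (iv7 F287552) D185278 (iv6 D177961)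
theorem F421401 : act 3 n134450 = n185278 := d8_3 F421400 F277511 (iv7 F350270)
theorem F421402 : act 6 n185275 = n134450 := d7_0 F421401 (iv6 D185278) D185275
theorem F421403 : act 2 n177982 = n185275 := d3_3 F421402 F350269 (iv6 F341431)
theorem F421404 : act 7 n177767 = n185275 := d14_0 F421402 F350270 (iv6 D84718) F129841 D177767
theorem F421405 : act 1 n177981 = n185275 := d15_1 D177981 (iv7 F421404) F277231
theorem F421406 : act 1 n185275 = n177980 := d15_0 (iv0 D177980) D177982 F421403
def n201688 : Q := act 5 n114980
theorem D201688 : act 5 n114980 = n201688 := rfl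
theorem F421407 : act 2 n201688 = n114992 := d2_1 D201688 (iv5 D114992) (iv2 F179065)
theorem F421408 : act 3 n201688 = n151631 := d6_1 D201688 F238501 F259144
theorem F421409 : act 7 n201688 = n189485 := d13_2 (iv7 F334785) D201688 F376664
theorem F421410 : act 0 n201688 = n195203 := d17_2 (iv1 F334783) D201688 (iv5 D195203) F347783 (iv5 F330672) (iv0 F351030) (iv5 F175177) F175180 (iv4 F330310)
theorem F421411 : act 1 n201688 = n189421 := d17_6 (iv1 F347778) (iv5 F316337) D177677 (iv5 F342095) (iv4 F334784) D201688 F376571 (iv0 D105398) (iv4 F108432)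
def n201689 : Q := act 4 n114987
theorem D201689 : act 4 n114987 = n201689 := rfl
theorem F421412 : act 2 n201689 = n193569 := d1_1 D201689 F390303 F371438
theorem F421413 : act 3 n201689 = n186743 := d5_1 D201689 (iv4 F384039) F421365 F421364 (iv3 F420848)
theorem F421414 : act 5 n201689 = n175530 := d9_2 (iv5 F353840) D201689 (iv4 D175530) (iv5 F137026) F271106 F270640 (iv4 F273884) (iv5 F326545) (iv4 F371189) (iv5 F371190) (iv4 D175525) D175526 (iv4 F386573) F386572 (iv4 F272776)
theorem F421415 : act 6 n201689 = n193344 := d10_2 F371432 D201689 (iv4 F389524)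
theorem F421416 : act 7 n201689 = n188763 := d11_2 F353841 D201689 F374770
theorem F421417 : act 2 n190564 = n152683 := d0_3 F421413 F367860 D190564 F390306 (iv2 F421412)
theorem F421418 : act 4 n152306 = n190564 := d1_0 F421417 (iv4 D152683) (iv2 F239421)
theorem F421419 : act 7 n190564 = n152669 := d11_2 (iv7 F239422) F421418 (iv4 D152669)
theorem F421420 : act 0 n190564 = n137580 := d20_1 F421418 (iv4 F347057) F347055 F334626 (iv3 F306713) (iv4 D63683) F48275 (iv4 F95371) (iv3 F307028) (iv1 F239423)
theorem F421421 : act 3 n152669 = n186742 := d8_1 F421419 F367866 D190564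
def n201690 : Q := act 1 n114988
theorem D201690 : act 1 n114988 = n201690 := rfl
theorem F421422 : act 7 n201690 = n187683 := d15_2 (iv0 F371448) D201690 (iv2 F371446)
theorem F421423 : act 5 n201690 = n175533 := d17_7 (iv1 F128837) (iv5 F137026) (iv1 F156855) (iv5 F156850) (iv4 F364810) (iv5 F364808) D201690 F274870 (iv4 D101888)
theorem F421424 : act 4 n201690 = n175647 := d18_7 (iv1 F419538) F314196 F334791 (iv4 D53055) D53056 D114988 D201690 F374756 (iv5 F419533)
theorem F421425 : act 6 n154572 = n175533 := d21_5 (iv5 D185306) F147050 D189908 (iv6 F387061) (iv1 F387066) (iv5 F421423) (iv1 D201690) F364808 (iv6 D185374) (iv1 F378211)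
theorem F421426 : act 2 n193575 = n154572 := d3_3 F421425 F338089 D193575
theorem F421427 : act 4 n177976 = n154572 := d10_3 F421425 F312936 D177976
theorem F421428 : act 7 n154571 = n193575 := d15_2 F387066 F387067 F421426
theorem F421429 : act 2 n193574 = n201690 := d1_3 F421424 (iv2 F374753) (iv4 F390320)
def n201691 : Q := act 5 n114989
theorem D201691 : act 5 n114989 = n201691 := rfl
theorem F421430 : act 3 n201691 = n115004 := d6_1 D201691 (iv5 D115004) (iv3 F179068)
theorem F421431 : act 6 n201691 = n114992 := d12_2 D114989 D201691 (iv5 D114992) (iv6 D53057) D53056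
theorem F421432 : act 7 n201691 = n189490 := d13_2 F227664 D201691 F376673
theorem F421433 : act 0 n201691 = n189439 := d17_2 F371429 D201691 F394393 F394391 (iv5 D172217) (iv0 F294208) F365618 (iv0 F365869) (iv4 F371427)
theorem F421434 : act 4 n189369 = n201691 := d17_9 F421433 F394393 (iv1 D194770) F159980 (iv4 F376206) (iv5 F376207) (iv0 F376584) F144782 D189369
def n201692 : Q := act 0 n114992
theorem D201692 : act 0 n114992 = n201692 := rfl
theorem F421435 : act 5 n201692 = n151423 := d17_3 F353834 D114992 D201692 F343316 (iv5 F232043) F202636 F202633 D147072 F343350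
theorem F421436 : act 6 n201692 = n188931 := d21_5 (iv5 F371428) F371429 D201691 F421431 D201692 (iv5 D188931) (iv1 F374321) F374317 (iv6 F376215) (iv1 F376217)
theorem F421437 : act 0 n201692 = n189485 := d21_4 (iv5 D92914) D92912 D188931 (iv6 F421436) (iv6 D189485) D189484 (iv1 F379722) F379719 (iv6 F379712) (iv1 D188939)
theorem F421438 : act 2 n195203 = n201692 := d2_3 F421435 (iv2 F347781) D195203
theorem F421439 : act 7 n189421 = n201692 := d13_0 F421435 (iv7 F347788) (iv5 F376571)
def n201693 : Q := act 1 n114992
theorem D201693 : act 1 n114992 = n201693 := rfl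
theorem F421440 : act 1 n201693 = n189485 := d15_1 D201693 (iv7 F421409) F421407
theorem F421441 : act 7 n201693 = n195203 := d15_2 (iv0 D201692) D201693 F421438
theorem F421442 : act 5 n201693 = n151422 := d17_7 (iv1 F419686) F419685 (iv1 F277063) F336016 F334786 D114992 D201693 (iv0 D151422) (iv4 F343320)
theorem F421443 : act 3 n190388 = n201693 := d19_19 (iv1 D201693) (iv5 D114992) (iv4 F334786) D175939 F353833 (iv5 D111443) F81148 (iv3 D24992) (iv1 F39193) D51372 F81099 (iv3 F101111) (iv1 F393165) (iv5 D133975) D133974 F401726 (iv1 F401724) (iv5 F378582) (iv4 F379640)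
theorem F421444 : act 2 n201693 = n189421 := d0_1 F421443 (iv3 F377455) (iv2 F392354) F392355 F379642
theorem F421445 : act 6 n189254 = n201693 := d3_0 F421444 (iv6 D189421) (iv2 F377535)
def n201694 : Q := act 4 n114992
theorem D201694 : act 4 n114992 = n201694 := rfl
theorem F421446 : act 6 n201694 = n189369 := d10_2 F421431 D201694 F421434
def n201695 : Q := act 7 n114992
theorem D201695 : act 7 n114992 = n201695 := rfl
theorem F421447 : act 2 n201695 = n189485 := d4_1 D201695 (iv7 F421409) F421407
theorem F421448 : act 3 n201695 = n115007 := d8_1 D201695 (iv7 D115007) (iv3 F179069)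
theorem F421449 : act 5 n201695 = n114993 := d13_1 D201695 (iv7 D114993) D114992
theorem F421450 : act 6 n201695 = n133661 := d14_1 D201695 F376679 D189490 (iv7 F421432) F421431
theorem F421451 : act 1 n189421 = n201695 := d15_1 F421411 (iv7 D201695) (iv2 F421407)
theorem F421452 : act 1 n201695 = n195203 := d15_1 F421451 (iv7 F421441) F421444
def n201696 : Q := act 0 n114997
theorem D201696 : act 0 n114997 = n201696 := rfl
theorem F421453 : act 5 n201696 = n155470 := d17_3 F339739 D114997 D201696 (iv4 D155470) F189145 (iv0 F233274) (iv5 F339219) (iv0 F339223) F303500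
theorem F421454 : act 4 n201696 = n134011 := d18_1 D201696 F331641 F339221 (iv5 D152227) (iv4 F339226) F348644 F177555 F339738 D114997
theorem F421455 : act 3 n201696 = n201299 := d20_5 D201390 F420300 (iv4 D114999) (iv3 F179071) D201696 F419915 F412673 (iv4 F353306) F178964 (iv1 F178442)
theorem F421456 : act 1 n201180 = n201696 := d15_0 (iv0 D201696) (iv7 F333224) (iv2 F419346)
theorem F421457 : act 6 n134010 = n201696 := d7_0 F421455 (iv6 D201299) (iv3 F353544)
def n201697 : Q := act 4 n114997
theorem D201697 : act 4 n114997 = n201697 := rfl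
theorem F421458 : act 5 n201697 = n146790 := d17_5 (iv1 F372344) F239584 F339739 D114997 D201697 (iv0 D146790) D146792 F372338 F372336
theorem F421459 : act 3 n138185 = n201697 := d20_5 F401100 (iv1 F410555) F410551 F341508 F221362 (iv4 D201697) D201696 F421454 F215941 D134014
theorem F421460 : act 6 n201697 = n138179 := d7_2 D138185 F421459 F221359
def n201698 : Q := act 6 n114997
theorem D201698 : act 6 n114997 = n201698 := rfl
theorem F421461 : act 3 n201698 = n115000 := d7_1 D201698 (iv6 D115000) (iv3 F179071)
theorem F421462 : act 4 n201698 = n138179 := d10_1 D201698 (iv6 F421460) (iv4 D201697)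
theorem F421463 : act 0 n201698 = n188097 := d21_4 F239584 F339739 D114997 D201698 (iv6 D188097) (iv5 D90806) (iv1 D42528) D42530 D90812 (iv1 F372344)
def n201699 : Q := act 3 n114999
theorem D201699 : act 3 n114999 = n201699 := rfl
theorem F421464 : act 4 n201699 = n138185 := d5_2 D114999 D201699 F421459 (iv4 D201697) F179071
theorem F421465 : act 6 n138184 = n201699 := d10_0 F421464 (iv6 D138185) D138184
def n201700 : Q := act 6 n114999
theorem D201700 : act 6 n114999 = n201700 := rfl
theorem F421466 : act 3 n201700 = n138184 := d7_1 D201700 F421465 (iv3 D201699)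
theorem F421467 : act 4 n201700 = n115000 := d10_1 D201700 (iv6 D115000) D114999
theorem F421468 : act 0 n201451 = n201700 := d21_4 (iv5 F114212) D128515 F206678 (iv6 F420552) (iv6 D201700) (iv5 F419216) (iv1 F419218) (iv5 D114915) F83738 D76230
def n201701 : Q := act 7 n115000
theorem D201701 : act 7 n115000 = n201701 := rfl
theorem F421469 : act 2 n201701 = n201345 := d4_1 D201701 F420088 F251129
theorem F421470 : act 1 n127816 = n201701 := d15_1 (iv0 F251130) (iv7 D201701) (iv2 F251129)
theorem F421471 : act 1 n201701 = n188027 := d15_1 F421470 F372171 (iv2 F205629)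
def n201702 : Q := act 5 n115001
theorem D201702 : act 5 n115001 = n201702 := rfl
theorem F421472 : act 3 n201702 = n115002 := d6_1 D201702 (iv5 D115002) D115001
theorem F421473 : act 6 n201702 = n190572 := d12_2 (iv6 F364818) D201702 (iv5 D190572) F147882 (iv5 F125362)
theorem F421474 : act 4 n201702 = n132285 := d20_6 F211944 (iv1 F209495) (iv4 F211329) (iv3 F397693) (iv1 F397696) (iv3 F421472) (iv1 D132285) (iv4 F211943) F211942 D132269
theorem F421475 : act 6 n132285 = n129205 := d10_2 (iv6 F421473) F421474 F380162
def n201703 : Q := act 6 n115002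
theorem D201703 : act 6 n115002 = n201703 := rfl
theorem F421476 : act 3 n201703 = n190572 := d7_1 D201703 (iv6 F421473) F421472
theorem F421477 : act 5 n201703 = n190571 := d12_1 D201703 F380156 (iv5 F364801) (iv6 D115003) D115002
def n201704 : Q := act 1 n115004
theorem D201704 : act 1 n115004 = n201704 := rfl
theorem F421478 : act 1 n201704 = n133660 := d15_1 D201704 (iv7 F227663) F227661
theorem F421479 : act 5 n135798 = n201704 := d21_0 (iv1 D201704) (iv5 D115004) (iv6 D53062) (iv1 F83757) (iv6 F177327) (iv5 F161497) F251767 (iv5 F374902) (iv6 F374905) (iv1 F364713)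
theorem F421480 : act 2 n201704 = n135803 := d2_1 F421479 (iv5 D135803) (iv2 F218405)
theorem F421481 : act 6 n201704 = n130610 := d12_2 D135798 F421479 (iv5 F418811) (iv6 D201030) F321192
def n201705 : Q := act 4 n115004
theorem D201705 : act 4 n115004 = n201705 := rfl
theorem F421482 : act 6 n201705 = n115006 := d10_2 (iv6 F179077) D201705 (iv4 D115006)
def n201706 : Q := act 3 n115008
theorem D201706 : act 3 n115008 = n201706 := rfl
theorem F421483 : act 5 n201706 = n201137 := d6_2 (iv5 F179085) D201706 (iv3 D201137)
theorem F421484 : act 7 n201706 = n115034 := d8_2 (iv7 F179084) D201706 (iv3 D115034)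
theorem F421485 : act 4 n136438 = n201706 := d20_8 F179005 (iv1 D106343) D106344 D195843 F398421 (iv3 F361174) (iv4 F388490) (iv1 F388492) (iv3 D201706) F179086
theorem F421486 : act 3 n201529 = n136438 := d5_5 F421485 (iv3 D201706) (iv4 D115008) (iv3 F178872) D201529
theorem F421487 : act 7 n201542 = n136438 := d11_0 F421485 F421484 (iv4 F420898)
theorem F421488 : act 0 n201706 = n195273 := d20_7 F350094 (iv1 D142819) (iv4 F345152) (iv3 F373192) (iv1 F420872) F421486 F421485 F396548 (iv3 F393985) (iv1 F393987)
theorem F421489 : act 2 n201542 = n136437 := d15_3 (iv0 D136437) D136438 (iv7 F421487)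
theorem F421490 : act 6 n136437 = n201566 := d3_2 (iv6 F420899) F421489 (iv2 D201566)
def n201707 : Q := act 5 n115012
theorem D201707 : act 5 n115012 = n201707 := rfl
theorem F421491 : act 3 n201707 = n195849 := d6_1 D201707 (iv5 D195849) (iv3 F179094)
theorem F421492 : act 7 n201707 = n201628 := d13_2 (iv7 F179095) D201707 (iv5 D201628)
def n201708 : Q := act 6 n115012
theorem D201708 : act 6 n115012 = n201708 := rfl
theorem F421493 : act 3 n201708 = n195850 := d7_1 D201708 (iv6 D195850) (iv3 F179094)
theorem F421494 : act 4 n201708 = n115014 := d10_1 D201708 (iv6 D115014) D115012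
theorem F421495 : act 5 n201708 = n138288 := d21_6 F52214 (iv1 D27340) D27342 D56984 (iv1 F356466) D201708 (iv1 F245977) F329207 (iv6 D76552) F55421
theorem F421496 : act 0 n138318 = n201708 := d20_4 (iv4 F80886) (iv1 F80579) (iv4 F100769) D138318 F421493 F398452 F395447 (iv4 D111183) F80883 D51282
def n201709 : Q := act 0 n115013
theorem D201709 : act 0 n115013 = n201709 := rfl
theorem F421497 : act 5 n201709 = n151443 := d21_2 D115013 D201709 (iv6 D151443) (iv1 D71391) (iv6 D33031) (iv5 D15928) (iv1 F21014) D26442 D54671 F343521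
theorem F421498 : act 2 n151653 = n201709 := d15_3 (iv0 D201709) (iv0 F420512) (iv7 F420511)
theorem F421499 : act 1 n201626 = n201709 := d15_0 (iv0 D201709) F179097 (iv2 F421177)
theorem F421500 : act 7 n201709 = n146520 := d15_2 (iv0 F421180) F421499 (iv2 F420508)
def n201710 : Q := act 4 n115013
theorem D201710 : act 4 n115013 = n201710 := rfl
theorem F421501 : act 7 n201710 = n201630 := d11_2 (iv7 F179097) D201710 (iv4 D201630)
def n201711 : Q := act 6 n115013
theorem D201711 : act 6 n115013 = n201711 := rfl
theorem F421502 : act 3 n201711 = n115018 := d7_1 D201711 (iv6 D115018) (iv3 F179096)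
theorem F421503 : act 0 n201096 = n201711 := d21_4 F420226 (iv1 D146438) D146440 (iv6 F419077) (iv6 D201711) (iv5 D115013) F343520 (iv5 F238399) F335937 (iv1 F420225)
def n201712 : Q := act 3 n115015
theorem D201712 : act 3 n115015 = n201712 := rfl
theorem F421504 : act 2 n201712 = n201600 := d0_1 D201712 (iv3 F421105) (iv2 F420285) F420286 F179101
theorem F421505 : act 5 n201712 = n148010 := d6_2 (iv5 F179099) D201712 F338638
theorem F421506 : act 7 n201712 = n201601 := d8_2 F179102 D201712 F421160
theorem F421507 : act 0 n201594 = n201712 := d17_2 D114868 D201594 F421505 F231829 F183905 F183904 F104906 F104846 (iv4 F314939)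
theorem F421508 : act 1 n201596 = n201712 := d17_6 (iv1 D146107) (iv5 D68510) F243110 D105758 F318007 D201596 F421505 F421133 F421132
def n201713 : Q := act 4 n115015
theorem D201713 : act 4 n115015 = n201713 := rfl
theorem F421509 : act 2 n201713 = n201390 := d1_1 D201713 (iv4 D201390) F179101
theorem F421510 : act 7 n201713 = n201619 := d11_2 F179102 D201713 (iv4 D201619)
theorem F421511 : act 0 n201713 = n159474 := d18_2 D115015 D201713 (iv4 D159474) (iv5 D76283) (iv4 F177795) F37056 (iv4 F40656) F40665 D53071
theorem F421512 : act 1 n201713 = n159466 := d18_6 F178039 (iv4 D113997) (iv1 F177323) (iv4 F161750) (iv5 F179099) D201713 (iv4 D159466) D159465 F251109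
def n201714 : Q := act 6 n115015
theorem D201714 : act 6 n115015 = n201714 := rfl
theorem F421513 : act 2 n201714 = n188917 := d3_1 D201714 F375197 F179101
theorem F421514 : act 5 n201714 = n130604 := d12_1 D201714 F209178 (iv5 D105405) D105406 (iv5 F179099)
theorem F421515 : act 7 n201714 = n188918 := d14_2 F179102 D201714 (iv6 F383192) F250857 F250852
theorem F421516 : act 0 n201714 = n188920 := d21_4 (iv5 F87469) (iv1 F178447) (iv5 F179099) D201714 (iv6 F396158) (iv5 D195187) (iv1 F161584) D114002 F177494 (iv1 F83769)
theorem F421517 : act 0 n188914 = n201714 := d21_4 D188875 F375109 F251955 D188914 (iv6 D201714) F179099 (iv1 F179000) (iv5 D114908) F177453 D92874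
def n201715 : Q := act 4 n115016
theorem D201715 : act 4 n115016 = n201715 := rfl
theorem F421518 : act 2 n201715 = n201619 := d1_1 D201715 (iv4 D201619) F179106
theorem F421519 : act 7 n201715 = n201390 := d11_2 (iv7 F179104) D201715 (iv4 D201390)
theorem F421520 : act 0 n201715 = n159466 := d18_2 (iv1 F179103) D201715 (iv4 D159466) (iv5 D76278) (iv4 F177788) (iv0 D23781) (iv4 F20216) D25745 D53076
theorem F421521 : act 1 n201715 = n159474 := d18_6 (iv1 F178184) (iv4 D113981) D113980 (iv4 F178445) (iv5 F179105) D201715 (iv4 D159474) F251104 F251103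
def n201716 : Q := act 3 n115017
theorem D201716 : act 3 n115017 = n201716 := rfl
theorem F421522 : act 2 n201716 = n201622 := d0_1 D201716 F421170 F401034 F353315 (iv2 F179107)
theorem F421523 : act 7 n201716 = n201635 := d8_2 (iv7 F179108) D201716 (iv3 D201635)
theorem F421524 : act 4 n115018 = n201716 := d1_0 F421522 F421171 (iv2 F179109)
theorem F421525 : act 6 n115017 = n201716 := d3_0 F421522 (iv6 D201622) (iv2 F179107)
theorem E103835 : n201711 = n201710 := ((c5_5 F421524 (iv3 D201716) (iv4 D115017) (iv3 F179096) D201710 F421502)).symm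
theorem F421526 : act 1 n201710 = n201096 := (sb E103835 (iv0 F421503))
theorem F421527 : act 3 n201710 = n115018 := (sb E103835 F421502)
theorem F421528 : act 6 n201710 = n115013 := (sb E103835 (iv6 D201711))
def n201717 : Q := act 5 n115017
theorem D201717 : act 5 n115017 = n201717 := rfl
theorem F421529 : act 2 n201717 = n201133 := d2_1 D201717 F419207 (iv2 F179107)
theorem F421530 : act 4 n201717 = n195179 := d9_1 D201717 (iv5 F396122) (iv4 D106383) (iv5 D49154) F177650 D53076 D115025 (iv5 F417405) F417402 F396115 (iv4 D106367) (iv5 D49149) F177643 D53071 D115017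
theorem F421531 : act 7 n201717 = n201131 := d13_2 (iv7 F179108) D201717 F419200
theorem F421532 : act 0 n201717 = n195793 := d17_2 F421337 D201717 F398201 F251156 F114334 F177625 D53040 D114948 D201673
theorem F421533 : act 1 n201717 = n195844 := d17_6 (iv1 D53079) (iv5 D25746) D25744 D53071 D115017 D201717 (iv5 D195844) (iv0 F179134) (iv4 D115030)
theorem F421534 : act 0 n201014 = n154023 := d20_4 (iv4 F398427) (iv1 F421533) F421530 (iv3 F418737) (iv3 D154023) (iv4 D72884) D72882 D154015 (iv3 F357319) (iv1 F397697)
def n201718 : Q := act 0 n115018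
theorem D201718 : act 0 n115018 = n201718 := rfl
theorem F421535 : act 5 n201718 = n159579 := d21_0 (iv1 D159579) F114457 (iv6 D53092) (iv1 D25752) (iv6 F40668) (iv5 D25746) D25744 D53071 D115018 D201718
theorem F421536 : act 2 n201623 = n201718 := d2_3 F421535 (iv2 F364723) (iv5 F421173)
theorem F421537 : act 3 n201091 = n201718 := d6_3 F421535 F419052 D201091
theorem F421538 : act 7 n201624 = n201718 := d13_0 F421535 F364722 F421174
theorem F421539 : act 6 n115041 = n201718 := d21_5 (iv5 D12223) D12221 D25747 D53084 D115041 F421535 (iv1 D159579) F114457 (iv6 D53092) (iv1 D25752)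
def n201719 : Q := act 1 n115018
theorem D201719 : act 1 n115018 = n201719 := rfl
theorem F421540 : act 1 n201719 = n201625 := d15_1 D201719 (iv7 D201625) (iv2 F179109)
theorem F421541 : act 7 n201719 = n201623 := d15_2 (iv0 D201718) D201719 F421536
theorem F421542 : act 5 n135626 = n201719 := d21_0 (iv1 D201719) (iv5 F251501) (iv6 D159647) (iv1 D76381) F55215 (iv5 D16922) F27707 D34877 D76346 (iv1 F325507)
theorem F421543 : act 6 n201028 = n201719 := d21_3 (iv5 F418778) F418777 D201028 (iv1 D201719) (iv6 D115018) (iv5 D53071) (iv1 F40665) (iv5 F83739) D114917 (iv1 F179011)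
theorem F421544 : act 2 n201719 = n201624 := d3_1 F421543 (iv6 F421175) (iv2 F419274)
theorem F421545 : act 3 n201719 = n135629 := d7_1 F421543 F218106 (iv3 F418803)
theorem F421546 : act 0 n197172 = n130636 := d21_1 F403395 (iv5 F375208) (iv6 F396158) (iv1 F418804) F421543 (iv5 F421542) F325506 (iv5 F250883) F250884 (iv1 F250870)
theorem F421547 : act 1 n201625 = n201718 := d15_1 F421540 (iv7 F421538) (iv2 F421544)
def n201720 : Q := act 7 n115018
theorem D201720 : act 7 n115018 = n201720 := rfl
theorem F421548 : act 2 n201720 = n201625 := d4_1 D201720 (iv7 D201625) (iv2 F179109)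
theorem F421549 : act 3 n201720 = n201630 := d8_1 D201720 (iv7 F421501) F421527
theorem F421550 : act 4 n201720 = n201635 := d11_1 D201720 (iv7 F421523) (iv4 F421524)
theorem F421551 : act 6 n201720 = n201637 := d14_1 D201720 (iv7 D201637) (iv6 D114904) F177828 D115018
theorem F421552 : act 1 n201624 = n201720 := d15_1 D201624 (iv7 D201720) F179109
theorem F421553 : act 1 n201720 = n201623 := d15_1 F421552 (iv7 F421541) F421544
def n201721 : Q := act 0 n115023
theorem D201721 : act 0 n115023 = n201721 := rfl
theorem F421554 : act 5 n201721 = n188890 := d21_2 D115023 D201721 F420992 F420990 (iv6 D175684) (iv5 F275061) (iv1 F354896) F251208 (iv6 F206243) F206230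
theorem F421555 : act 1 n201615 = n201721 := d15_0 (iv0 D201721) F179119 (iv2 F421151)
theorem F421556 : act 6 n188827 = n201721 := d12_0 F421554 F420992 (iv5 D201576) D201577 F420996
theorem F421557 : act 7 n201721 = n188932 := d14_2 F420430 F421556 (iv6 D188932) (iv7 F413493) (iv6 F420429)
theorem F421558 : act 2 n201721 = n201616 := d15_3 F421154 (iv0 F420366) (iv7 F421557)
def n201722 : Q := act 1 n115023
theorem D201722 : act 1 n115023 = n201722 := rfl
theorem F421559 : act 1 n201722 = n201615 := d15_1 D201722 F421153 F420364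
theorem F421560 : act 7 n201722 = n201616 := d15_2 (iv0 D201721) D201722 (iv2 F421558)
theorem F421561 : act 5 n188891 = n201722 := d21_6 (iv5 D201418) (iv1 F371666) F371658 (iv6 F238151) (iv1 F238153) (iv6 F375138) (iv1 D201722) (iv5 D115023) D115024 (iv1 F420443)
theorem F421562 : act 6 n188652 = n201722 := d21_5 F292969 F291868 F67998 D92610 D188652 (iv5 F421561) (iv1 D188891) (iv5 D92886) (iv6 D43459) (iv1 F68299)
theorem F421563 : act 2 n201722 = n188932 := d3_1 F421562 (iv6 D188932) (iv2 F413496)
def n201723 : Q := act 4 n115023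
theorem D201723 : act 4 n115023 = n201723 := rfl
theorem F421564 : act 3 n201723 = n145357 := d5_1 D201723 (iv4 F417408) F417407 (iv4 D115025) (iv3 F179118)
theorem F421565 : act 6 n201723 = n188968 := d10_2 F371577 D201723 (iv4 D188968)
theorem F421566 : act 7 n201723 = n145353 := d11_2 (iv7 F179119) D201723 (iv4 F353306)
theorem F421567 : act 5 n145354 = n201723 := d13_3 F421566 (iv5 D145353) D145354
def n201724 : Q := act 6 n115025
theorem D201724 : act 6 n115025 = n201724 := rfl
theorem F421568 : act 2 n201724 = n201636 := d3_1 D201724 (iv6 D201636) (iv2 F179121)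
theorem F421569 : act 4 n201724 = n115026 := d10_1 D201724 (iv6 D115026) D115025
theorem F421570 : act 0 n201344 = n201724 := d21_4 F83788 (iv1 F179151) F179153 D201344 (iv6 D201724) (iv5 F417405) F417403 (iv5 D195844) F163408 (iv1 F83789)
def n201725 : Q := act 5 n115026
theorem D201725 : act 5 n115026 = n201725 := rfl
theorem F421571 : act 2 n201725 = n201433 := d2_1 D201725 F420497 (iv2 F179123)
theorem F421572 : act 3 n201725 = n188969 := d6_1 D201725 (iv5 D188969) (iv3 F371578)
theorem F421573 : act 6 n201725 = n115027 := d12_2 D115026 D201725 (iv5 D115027) (iv6 D53077) D53076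
theorem F421574 : act 7 n201725 = n201375 := d13_2 F420549 D201725 F420550
theorem F421575 : act 4 n201725 = n141931 := d17_4 (iv1 D157739) D157740 F248615 D201725 F341314 D180481 (iv5 F363330) F407392 F407391
def n201726 : Q := act 3 n115030
theorem D201726 : act 3 n115030 = n201726 := rfl
theorem F421576 : act 4 n201726 = n199107 := d5_2 D115030 D201726 F410700 F375133 F177447
theorem F421577 : act 7 n201726 = n201638 := d8_2 (iv7 F179133) D201726 (iv3 D201638)
def n201727 : Q := act 5 n115030
theorem D201727 : act 5 n115030 = n201727 := rfl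
theorem F421578 : act 2 n201727 = n201126 := d2_1 D201727 F419183 (iv2 F179132)
theorem F421579 : act 4 n201727 = n195175 := d9_1 D201727 (iv5 D195175) F177662 D106270 F178439 F178436 D115029 (iv5 F360965) (iv4 F396105) (iv5 D195177) F177661 (iv5 F114422) F177623 F120056 D115030
theorem F421580 : act 7 n201727 = n201129 := d13_2 (iv7 F179133) D201727 F419191
def n201728 : Q := act 6 n115030
theorem D201728 : act 6 n115030 = n201728 := rfl
theorem F421581 : act 2 n201728 = n201642 := d3_1 D201728 (iv6 D201642) (iv2 F179132)
theorem F421582 : act 4 n201728 = n115031 := d10_1 D201728 (iv6 D115031) D115030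
theorem F421583 : act 5 n201031 = n201728 := d16_1 (iv4 F418812) F421582 (iv5 F258819) (iv4 F417751) F417750 F399324 (iv5 F326586) (iv7 F343657) (iv2 F343658)
theorem F421584 : act 3 n136340 = n201728 := d20_5 F98333 (iv1 F99419) F99416 (iv3 F99710) D136340 F421582 F399550 F399549 F211726 (iv1 F98335)
theorem F421585 : act 6 n201726 = n136340 := d7_0 F421584 (iv6 D201728) D201726
theorem F421586 : act 0 n115040 = n201033 := d21_10 (iv5 D201033) D201031 F421583 (iv6 D201728) F179134 F163408 (iv5 F114343) (iv1 F114344) F83790 D115040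
theorem E103836 : n201455 = n155579 := (c20_4 (iv4 F420191) (iv1 F420195) F420197 D201455 (iv1 D155579) F110761 (iv4 F179156) F421586 (iv4 F418821) (iv3 F364998) (iv1 F205572))
theorem F421587 : act 3 n155579 = n114537 := (sb E103836 (iv3 D201455))
theorem F421588 : act 4 n155579 = n147971 := (sb E103836 F420568)
theorem F421589 : act 6 n155579 = n147970 := (sb E103836 F420569)
def n201729 : Q := act 3 n115032
theorem D201729 : act 3 n115032 = n201729 := rfl
theorem F421590 : act 7 n201729 = n201645 := d8_2 F193515 D201729 (iv3 D201645)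
theorem F421591 : act 5 n195279 = n201729 := d13_3 F421590 F421228 (iv7 F396561)
def n201730 : Q := act 5 n115032
theorem D201730 : act 5 n115032 = n201730 := rfl
theorem F421592 : act 2 n201730 = n196257 := d2_1 D201730 (iv5 F400081) F193513
theorem F421593 : act 3 n201730 = n195279 := d6_1 D201730 F421591 (iv3 D201729)
theorem F421594 : act 7 n201730 = n201141 := d13_2 F193515 D201730 F419239
theorem F421595 : act 4 n201730 = n195186 := d16_2 (iv4 F179136) D201730 (iv5 D195186) (iv4 D105365) (iv5 F106066) (iv4 F177809) F114468 (iv7 F193510) F193507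
theorem F421596 : act 6 n195277 = n201730 := d10_0 F421595 (iv6 F396155) (iv4 F396558)
theorem F421597 : act 0 n132573 = n195279 := d20_4 F212724 (iv1 F96941) D62199 D132573 (iv3 F421593) F421595 F399230 F399228 (iv3 D132557) (iv1 F212727)
def n201731 : Q := act 6 n115032
theorem D201731 : act 6 n115032 = n201731 := rfl
theorem F421598 : act 2 n201731 = n187569 := d3_1 D201731 F370836 F193513
theorem F421599 : act 4 n201731 = n159476 := d10_1 D201731 (iv6 D159476) (iv4 F179136)
theorem F421600 : act 7 n188028 = n201731 := d11_0 F421599 (iv7 F251134) D188028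
theorem F421601 : act 0 n188035 = n201731 := d18_2 D188630 (iv4 F374251) F421599 F251133 F205431 F139632 F177341 (iv0 F177347) D92593
theorem F421602 : act 1 n188036 = n201731 := d18_6 (iv1 F372404) (iv4 F376050) (iv1 F376054) (iv4 F375193) (iv5 F375194) F374259 F421599 F251136 (iv5 F251137)
theorem F421603 : act 3 n201731 = n115068 := d20_3 (iv4 D188031) (iv1 F251136) (iv4 F421599) (iv1 D115068) (iv3 D53095) (iv4 D25753) D25751 D53089 D115053 F372184
theorem F421604 : act 6 n115068 = n201729 := d7_2 D201731 F421603 (iv3 D201729)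
theorem F421605 : act 7 n115068 = n201165 := d8_2 F421600 F421603 (iv3 F419299)
theorem F421606 : act 6 n201165 = n195275 := d14_1 F421605 F396579 (iv6 F421229) (iv7 F421590) (iv6 F421604)
theorem F421607 : act 2 n201165 = n115067 := d15_3 (iv0 D115067) D115068 F421605
theorem F421608 : act 2 n115068 = n201164 := d15_3 (iv0 D201164) D201165 (iv7 F421605)
theorem F421609 : act 7 n201164 = n115067 := d4_2 (iv7 F421605) F421608 (iv2 F421607)
theorem F421610 : act 6 n115067 = n195287 := d3_2 (iv6 F421606) F421607 F396585
def n201732 : Q := act 3 n115033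
theorem D201732 : act 3 n115033 = n201732 := rfl
theorem F421611 : act 7 n201732 = n201644 := d8_2 (iv7 F193512) D201732 (iv3 D201644)
def n201733 : Q := act 5 n115033
theorem D201733 : act 5 n115033 = n201733 := rfl
theorem F421612 : act 2 n201733 = n201141 := d2_1 D201733 F419239 (iv2 F193514)
theorem F421613 : act 4 n201733 = n195183 := d9_1 D201733 (iv5 D195183) (iv4 D105360) D105361 F178035 F178032 (iv4 F179136) D201730 F421595 (iv5 D195186) (iv4 D105365) (iv5 F106066) (iv4 F177809) F114468 (iv4 F179139)
theorem F421614 : act 7 n201733 = n196257 := d13_2 (iv7 F193512) D201733 (iv5 F400081)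
def n201734 : Q := act 6 n115033
theorem D201734 : act 6 n115033 = n201734 := rfl
theorem F421615 : act 2 n201734 = n195269 := d3_1 D201734 F396526 (iv2 F193514)
theorem F421616 : act 4 n201734 = n159478 := d10_1 D201734 (iv6 D159478) (iv4 F179139)
theorem F421617 : act 7 n201734 = n188039 := d14_2 (iv7 F193512) D201734 (iv6 D188039) (iv7 F370837) F370836
theorem F421618 : act 5 n132196 = n201734 := d13_3 F421617 (iv5 F372198) (iv7 F211780)
theorem F421619 : act 0 n201734 = n132173 := d17_2 (iv1 F211784) F421618 (iv5 D132173) (iv4 F98445) (iv5 F203451) F397710 F397709 F326587 (iv4 F326595)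
theorem F421620 : act 1 n201734 = n195268 := d17_6 F177492 (iv5 D114000) F325500 D63855 F211779 F421618 (iv5 D195268) F211712 (iv4 F326365)
def n201735 : Q := act 0 n115034
theorem D201735 : act 0 n115034 = n201735 := rfl
def n201736 : Q := act 1 n115034
theorem D201736 : act 1 n115034 = n201736 := rfl
def n201737 : Q := act 2 n115034
theorem D201737 : act 2 n115034 = n201737 := rfl
theorem F421621 : act 3 n201737 = n201648 := d0_2 D115034 D201737 (iv2 D201648) (iv3 D114914) (iv2 F83775)
theorem F421622 : act 4 n201737 = n136437 := d1_2 F420898 D201737 (iv2 F421489)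
theorem F421623 : act 6 n201737 = n115069 := d3_2 (iv6 F179140) D201737 (iv2 D115069)
theorem F421624 : act 1 n201737 = n195273 := d15_0 (iv0 F421488) F421484 D201737
def n201738 : Q := act 5 n115034
theorem D201738 : act 5 n115034 = n201738 := rfl
theorem F421625 : act 3 n201738 = n115035 := d6_1 D201738 (iv5 D115035) D115034
theorem F421626 : act 7 n201738 = n201137 := d13_2 F421484 D201738 (iv5 F421483)
def n201739 : Q := act 0 n115035
theorem D201739 : act 0 n115035 = n201739 := rfl
theorem F421627 : act 5 n201739 = n159466 := d17_3 (iv1 D115033) D115035 D201739 (iv4 D159466) (iv5 D76278) (iv0 D34842) D34844 D76286 (iv4 F179139)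
theorem F421628 : act 4 n201739 = n195249 := d18_1 D201739 F396467 (iv4 F362924) (iv5 F398433) F398432 F163413 (iv4 F179136) (iv0 D115032) D115035
theorem F421629 : act 1 n195180 = n201739 := d15_0 (iv0 D201739) F179142 (iv2 F396127)
theorem F421630 : act 2 n201136 = n201739 := d1_3 F421628 F396464 (iv4 F419220)
theorem F421631 : act 7 n201135 = n201739 := d11_0 F421628 F396466 (iv4 F419217)
def n201740 : Q := act 1 n115035
theorem D201740 : act 1 n115035 = n201740 := rfl
theorem F421632 : act 1 n201740 = n195180 := d15_1 D201740 (iv7 F396130) (iv2 F179141)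
theorem F421633 : act 7 n201740 = n201136 := d15_2 (iv0 D201739) D201740 F421630
theorem F421634 : act 5 n201740 = n159474 := d17_7 (iv1 F179100) (iv5 D53076) (iv1 D25745) D25746 D53080 D115035 D201740 (iv0 F421511) (iv4 D201713)
theorem F421635 : act 4 n201740 = n195244 := d17_9 (iv1 F398208) F398206 (iv1 F177808) D195186 (iv4 F421595) (iv5 D201730) (iv0 D115032) D115035 D201740
theorem F421636 : act 2 n201135 = n201740 := d1_3 F421635 F396441 (iv4 F419217)
def n201741 : Q := act 6 n115035
theorem D201741 : act 6 n115035 = n201741 := rfl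
theorem F421637 : act 2 n201741 = n201163 := d3_1 D201741 F419297 (iv2 F179141)
theorem F421638 : act 4 n201741 = n201138 := d10_1 D201741 (iv6 D201138) (iv4 F179143)
theorem F421639 : act 5 n201741 = n115071 := d12_1 D201741 (iv6 D115071) (iv5 D53096) (iv6 F83776) D115035
def n201742 : Q := act 3 n115036
theorem D201742 : act 3 n115036 = n201742 := rfl
theorem F421640 : act 5 n201742 = n159830 := d6_2 (iv5 F179145) D201742 (iv3 D159830)
def n201743 : Q := act 3 n115037
theorem D201743 : act 3 n115037 = n201743 := rfl
theorem F421641 : act 4 n201743 = n136529 := d5_2 D115037 D201743 F388381 F178703 (iv3 F178701)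
theorem F421642 : act 7 n201743 = n159830 := d8_2 (iv7 F179148) D201743 (iv3 D159830)
theorem F421643 : act 0 n193032 = n132556 := d20_10 F388536 (iv1 F388537) (iv4 F421641) (iv3 D201743) F179149 D115075 F360998 D183969 (iv4 F285877) D193032
theorem F421644 : act 1 n195255 = n201743 := d15_1 (iv0 F396487) F421642 (iv2 F388531)
def n201744 : Q := act 3 n115038
theorem D201744 : act 3 n115038 = n201744 := rfl
theorem F421645 : act 4 n201744 = n188474 := d5_2 (iv4 F179154) D201744 F373610 F356660 F205621
theorem F421646 : act 5 n201744 = n201343 := d6_2 (iv5 F179153) D201744 (iv3 D201343)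
theorem F421647 : act 7 n201744 = n159851 := d8_2 (iv7 F179152) D201744 (iv3 D159851)
theorem F421648 : act 0 n201744 = n132548 := d20_4 (iv4 D60448) D60447 (iv4 F179154) D201744 F212774 (iv4 F179702) F388378 F388376 (iv3 D159830) F114661
theorem F421649 : act 6 n188473 = n201744 := d10_0 F421645 (iv6 D188474) D188473
def n201745 : Q := act 6 n115038
theorem D201745 : act 6 n115038 = n201745 := rfl
theorem F421650 : act 2 n201745 = n201344 := d3_1 D201745 (iv6 D201344) F179155
theorem F421651 : act 3 n201745 = n188473 := d7_1 D201745 F421649 (iv3 D201744)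
theorem F421652 : act 4 n201745 = n127816 := d10_1 D201745 F205630 (iv4 F179154)
theorem F421653 : act 0 n201745 = n201636 := d21_4 F114200 (iv1 F178316) (iv5 F179153) D201745 (iv6 D201636) (iv5 F419200) F419201 (iv5 D159480) F114333 (iv1 F114201)
def n201746 : Q := act 1 n115039
theorem D201746 : act 1 n115039 = n201746 := rfl
theorem F421654 : act 1 n201746 = n188644 := d15_1 D201746 F374298 (iv2 F365411)
theorem F421655 : act 7 n201746 = n159849 := d15_2 F374524 D201746 (iv2 F374520)
theorem F421656 : act 4 n201746 = n159850 := d18_7 (iv1 F372405) (iv4 F373234) (iv1 F373237) (iv4 F251954) F251955 F365410 D201746 F374515 F374517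
theorem F421657 : act 2 n188026 = n201746 := d1_3 F421656 F251989 D188026
def n201747 : Q := act 6 n115039
theorem D201747 : act 6 n115039 = n201747 := rfl
theorem F421658 : act 2 n201747 = n188915 := d3_1 D201747 (iv6 D188915) (iv2 F365411)
theorem F421659 : act 3 n201747 = n115040 := d7_1 D201747 (iv6 D115040) D115039
theorem F421660 : act 4 n201747 = n188914 := d10_1 D201747 (iv6 D188914) F365410
def n201748 : Q := act 1 n115040
theorem D201748 : act 1 n115040 = n201748 := rfl
theorem F421661 : act 4 n201748 = n159376 := d18_7 (iv1 F356952) (iv4 F150044) F358377 F96580 (iv5 F83783) (iv4 F179156) D201748 F250919 F179186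
theorem F421662 : act 3 n155578 = n201480 := d20_5 (iv4 F421661) (iv1 D201748) F179156 (iv3 F110761) D155578 F420667 F247885 (iv4 F399054) F399053 (iv1 F250919)
theorem F421663 : act 5 n129465 = n201748 := d16_1 F214187 F421661 (iv5 F398988) F398987 (iv5 D113401) F82729 D52526 D113769 F321194
theorem F421664 : act 3 n201748 = n129466 := d19_3 F398989 F398988 (iv4 F421661) (iv1 F208672) (iv5 D62186) F47182 (iv3 D14002) (iv1 F11047) (iv5 F11733) (iv4 D7484) (iv3 F11729) D15979 F50540 (iv4 F94199) F94198 (iv1 D34298) D34299 D74851 D157392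
def n201749 : Q := act 5 n115040
theorem D201749 : act 5 n115040 = n201749 := rfl
theorem F421665 : act 2 n201749 = n136330 := d2_1 D201749 (iv5 F343648) F250836
theorem F421666 : act 4 n201749 = n126547 := d16_2 (iv4 F179156) D201749 F364674 F343643 (iv5 F382352) (iv4 F382353) (iv5 F250840) (iv7 D159342) F114190
theorem F421667 : act 1 n201749 = n132543 := d17_8 F325503 F324334 (iv1 D52525) D52526 D113768 D201033 (iv0 F421586) D201749 (iv4 F325504)
theorem F421668 : act 7 n200992 = n201749 := d11_0 F421666 (iv7 F364676) D200992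
def n201750 : Q := act 7 n115040
theorem D201750 : act 7 n115040 = n201750 := rfl
theorem F421669 : act 4 n201750 = n115043 := d11_1 D201750 (iv7 D115043) (iv4 F179156)
theorem F421670 : act 5 n201750 = n200992 := d13_1 D201750 F421668 (iv5 D201749)
def n201751 : Q := act 3 n115041
theorem D201751 : act 3 n115041 = n201751 := rfl
theorem F421671 : act 6 n201751 = n201091 := d7_2 (iv6 F421539) D201751 F421537
theorem F421672 : act 0 n197035 = n201751 := d21_4 (iv5 D54677) (iv1 F86428) (iv5 F186719) (iv6 F402770) F421671 (iv5 D201091) (iv1 D113898) D113899 F177200 F94181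
theorem F421673 : act 5 n201751 = n197054 := d17_3 (iv1 F398891) D197035 F421672 (iv4 D197054) F165961 D114941 (iv5 F420252) (iv0 D189688) (iv4 F377397)
theorem F421674 : act 0 n201751 = n134804 := d21_1 (iv5 F421673) F351264 (iv6 D151670) (iv1 F238181) (iv6 F349247) (iv5 F349245) (iv1 D90625) D90626 (iv6 F371721) F402841
def n201752 : Q := act 4 n115041
theorem D201752 : act 4 n115041 = n201752 := rfl
theorem F421675 : act 2 n201752 = n129427 := d1_1 D201752 (iv4 F377475) F398914
theorem F421676 : act 5 n201752 = n129426 := d16_1 D201752 F326595 F114435 (iv4 F161186) F325764 (iv4 F398926) F398927 (iv7 F398912) F398914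
theorem F421677 : act 0 n201752 = n195266 := d17_0 (iv5 D195266) (iv1 D105484) D105486 D195270 (iv5 F396527) F164394 (iv5 F250840) F250844 D201752
theorem F421678 : act 0 n115076 = n201752 := d20_1 (iv4 F179185) (iv4 D201752) D201751 F421674 (iv3 F351260) (iv4 F351259) F405852 F405853 (iv3 F399597) (iv1 D115078)
def n201753 : Q := act 5 n115041
theorem D201753 : act 5 n115041 = n201753 := rfl
theorem F421679 : act 2 n201753 = n189706 := d2_1 D201753 F377473 F398914
theorem F421680 : act 3 n201753 = n197054 := d6_1 D201753 (iv5 F421673) (iv3 D201751)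
theorem F421681 : act 4 n201753 = n131982 := d9_1 D201753 F211470 F325755 (iv5 F325757) (iv4 F96637) D132198 (iv4 F398911) (iv5 F398927) F398926 (iv5 F325764) F161186 (iv5 F114435) (iv4 F326595) (iv5 F421676) (iv4 D201752)
theorem F421682 : act 7 n201753 = n189707 := d13_2 (iv7 F398915) D201753 F377480
theorem F421683 : act 0 n201753 = n164206 := d17_2 D115041 D201753 F258819 (iv4 F421582) (iv5 F421583) (iv0 D201031) D201033 (iv0 F421586) F179156
theorem F421684 : act 0 n189703 = n201753 := d21_10 (iv5 D201753) (iv1 F250844) F250840 (iv6 F356102) F356097 (iv6 F360345) F350498 (iv1 F137498) F292528 D189703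
def n201754 : Q := act 3 n115044
theorem D201754 : act 3 n115044 = n201754 := rfl
theorem F421685 : act 2 n201754 = n188645 := d0_1 D201754 (iv3 D188645) F142660 (iv3 F349184) (iv2 F179158)
theorem F421686 : act 4 n201754 = n115046 := d5_2 D115044 D201754 (iv3 D115046) (iv4 D53086) (iv3 F83785)
theorem F421687 : act 7 n201754 = n188829 := d8_2 (iv7 F179159) D201754 (iv3 D188829)
theorem F421688 : act 0 n201754 = n188921 := d20_4 (iv4 D90587) F83787 D115044 D201754 (iv3 F389474) (iv4 F420139) (iv1 F420142) F365813 F365815 (iv1 F178151)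
theorem F421689 : act 0 n154776 = n201754 := d20_4 F185892 (iv1 F205968) F205966 D154776 (iv3 D201754) (iv4 D115044) F138894 (iv4 F143190) F143189 (iv1 F185894)
theorem F421690 : act 5 n201754 = n154741 := d17_3 D100982 F365241 F421689 F365603 (iv5 D92873) (iv0 F139670) D188025 (iv0 F372165) F155009
def n201755 : Q := act 5 n115044
theorem D201755 : act 5 n115044 = n201755 := rfl
theorem F421691 : act 2 n201755 = n188824 := d2_1 D201755 (iv5 D188824) (iv2 F179158)
theorem F421692 : act 3 n201755 = n154741 := d6_1 D201755 (iv5 F421690) (iv3 D201754)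
theorem F421693 : act 4 n201755 = n187847 := d9_1 D201755 (iv5 D187847) F250908 (iv5 D159370) F114228 (iv5 F139460) D187806 (iv5 F371566) (iv4 F371682) (iv5 D187845) F139496 (iv5 D53102) F40684 D53085 D115044
theorem F421694 : act 6 n201755 = n197578 := d12_2 (iv6 F412453) D201755 F404889 F409679 D199507
theorem F421695 : act 7 n201755 = n188830 := d13_2 (iv7 F179159) D201755 (iv5 D188830)
theorem F421696 : act 0 n201755 = n154767 := d17_2 (iv1 F179161) D201755 (iv5 F392910) (iv4 D114280) (iv5 D52745) (iv0 D25605) D25607 D52748 D114287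
theorem F421697 : act 1 n201755 = n138777 := d17_6 D92815 F143175 (iv1 F83432) D53085 D115044 D201755 F364768 F178128 (iv4 D92817)
def n201756 : Q := act 0 n115045
theorem D201756 : act 0 n115045 = n201756 := rfl
def n201757 : Q := act 1 n115045
theorem D201757 : act 1 n115045 = n201757 := rfl
theorem F421698 : act 1 n201757 = n188828 := d15_1 D201757 (iv7 D188828) (iv2 F179162)
theorem F421699 : act 5 n201757 = n142090 := d17_7 D137386 (iv5 F360704) F385653 F385652 (iv4 F235978) F235979 D201757 (iv0 F356502) (iv4 D137388)
theorem F421700 : act 3 n142091 = n201757 := d19_19 (iv1 D201757) (iv5 F235979) F235978 (iv3 F349945) D186855 F368287 F344580 (iv3 D142495) (iv1 F225353) (iv5 F407221) (iv4 D198204) (iv3 D109040) (iv1 D50346) D50349 (iv4 F331069) F331068 D141896 (iv5 F375806) F375805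
theorem F421701 : act 2 n201757 = n188827 := d0_1 F421700 (iv3 F413278) (iv2 F371656) F352412 (iv2 F225122)
theorem F421702 : act 6 n201757 = n201616 := d7_2 (iv6 F375798) F421700 (iv3 F421164)
theorem F421703 : act 7 n201757 = n188826 := d8_2 (iv7 F225123) F421700 F375016
theorem E103837 : n201756 = n201416 := ((c15_4 (iv0 D201756) D201757 F421703 (iv2 F420428))).symm
theorem F421704 : act 1 n201416 = n115045 := (sb E103837 (iv0 D201756))
def n201758 : Q := act 7 n115045
theorem D201758 : act 7 n115045 = n201758 := rfl
theorem F421705 : act 2 n201758 = n188828 := d4_1 D201758 (iv7 D188828) (iv2 F179162)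
theorem F421706 : act 3 n201758 = n115050 := d8_1 D201758 (iv7 D115050) (iv3 F179163)
theorem F421707 : act 5 n201758 = n188597 := d13_1 D201758 F374149 F235979
theorem F421708 : act 6 n201758 = n188834 := d14_1 D201758 (iv7 D188834) (iv6 D92825) (iv7 F83786) D115045
theorem F421709 : act 1 n188827 = n201758 := d15_1 D188827 (iv7 D201758) F179162
theorem F421710 : act 1 n201758 = n188826 := d15_1 F421709 (iv7 F421703) F421701
def n201759 : Q := act 1 n115046
theorem D201759 : act 1 n115046 = n201759 := rfl
theorem F421711 : act 5 n201759 = n159849 := d17_7 (iv1 F157675) (iv5 D76493) D76491 D159825 F360966 F179166 D201759 F251988 (iv4 D92906)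
theorem F421712 : act 0 n188879 = n201759 := d17_2 F372183 D188879 F421711 (iv4 D159849) (iv5 D76517) D76516 (iv5 F251133) F251136 D188031
def n201760 : Q := act 2 n115046
theorem D201760 : act 2 n115046 = n201760 := rfl
theorem F421713 : act 3 n201760 = n188644 := d0_2 D115046 D201760 F374297 (iv3 D159343) F114192
theorem F421714 : act 4 n201760 = n188645 := d1_2 F421686 D201760 (iv2 F421685)
theorem F421715 : act 5 n201760 = n188632 := d2_2 F179166 D201760 F374260
theorem F421716 : act 7 n201760 = n188879 := d4_2 F250835 D201760 F375122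
def n201761 : Q := act 6 n115046
theorem D201761 : act 6 n115046 = n201761 := rfl
theorem F421717 : act 3 n201761 = n115047 := d7_1 D201761 (iv6 D115047) D115046
def n201762 : Q := act 0 n115047
theorem D201762 : act 0 n115047 = n201762 := rfl
theorem F421718 : act 4 n201762 = n128518 := d20_8 (iv4 F383107) F383110 F375805 F421700 (iv1 D201757) F179163 (iv4 F179164) D201762 (iv3 F366042) F225137
theorem F421719 : act 2 n201321 = n201762 := d1_3 F421718 (iv2 F290533) D201321
def n201763 : Q := act 1 n115047
theorem D201763 : act 1 n115047 = n201763 := rfl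
theorem F421720 : act 7 n201763 = n201321 := d15_2 (iv0 D201762) D201763 F421719
theorem F421721 : act 4 n201763 = n127788 := d18_7 (iv1 F178289) D127780 (iv1 F259561) F146949 F107032 (iv4 F179164) D201763 F290516 F179203
theorem F421722 : act 6 n201621 = n201763 := d10_0 F421721 F290518 (iv4 F421169)
def n201764 : Q := act 7 n115047
theorem D201764 : act 7 n115047 = n201764 := rfl
theorem F421723 : act 4 n201764 = n115050 := d11_1 D201764 (iv7 D115050) (iv4 F179164)
theorem F421724 : act 5 n201764 = n200947 := d13_1 D201764 F418459 F417889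
theorem F421725 : act 0 n201321 = n201764 := d18_2 (iv1 F290532) D201321 F421723 (iv5 F235981) (iv4 F377886) F377889 F248557 (iv0 F178166) (iv5 F83813)
def n201765 : Q := act 4 n115048
theorem D201765 : act 4 n115048 = n201765 := rfl
theorem F421726 : act 2 n201765 = n200833 := d1_1 D201765 (iv4 F418100) F250858
theorem F421727 : act 5 n201765 = n200830 := d16_1 D201765 (iv4 D200830) F176701 (iv4 F176824) (iv5 F357960) F259086 F193561 (iv7 F250857) F250858
theorem F421728 : act 1 n201765 = n115084 := d18_6 (iv1 F353127) (iv4 F393622) (iv1 F393624) (iv4 F421069) F421070 D201765 F179201 D115086 (iv5 F179202)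
def n201766 : Q := act 6 n115048
theorem D201766 : act 6 n115048 = n201766 := rfl
theorem F421729 : act 2 n201766 = n188918 := d3_1 D201766 (iv6 F383192) F250858
theorem F421730 : act 7 n201766 = n188917 := d14_2 (iv7 F250859) D201766 F375197 (iv7 F179104) F250849
theorem F421731 : act 5 n201766 = n130605 := d21_6 F55035 (iv1 F27625) D25749 D53087 D115048 D201766 (iv1 D130605) F95752 (iv6 D53090) (iv1 F55037)
theorem F421732 : act 0 n188920 = n201766 := d21_10 F421731 (iv1 D130605) F95752 (iv6 D53090) (iv1 F55037) D76233 F114220 D105368 D195187 F396158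
theorem F421733 : act 1 n188914 = n201766 := d15_0 (iv0 F421732) (iv7 D188920) (iv2 F375189)
def n201767 : Q := act 4 n115049
theorem D201767 : act 4 n115049 = n201767 := rfl
theorem F421734 : act 5 n201767 = n127380 := d9_2 F193561 D201767 F204703 F94247 (iv4 F100449) D137278 (iv4 F421069) F421070 D201765 F421727 (iv4 D200830) F176701 (iv4 F176824) (iv5 F357960) F259086
theorem F421735 : act 6 n201767 = n201619 := d10_2 (iv6 F250852) D201767 (iv4 D201619)
theorem F421736 : act 7 n201767 = n200833 := d11_2 F250857 D201767 (iv4 F418100)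
theorem F421737 : act 0 n201767 = n115084 := d18_2 (iv1 F250856) D201767 F179201 F83813 (iv4 F147536) D190316 (iv4 F379362) (iv0 F316758) F316761
theorem F421738 : act 3 n201767 = n127381 := d19_3 F393626 F193561 D201767 (iv1 F231955) F231957 (iv4 D69691) F51371 D32358 F51383 F40330 F22711 (iv1 F12700) F12697 (iv4 F26557) D26111 F45944 D28427 D59874 D127475
theorem E103838 : n201761 = n199478 := (c20_10 (iv4 D111349) D111347 D199472 F412316 (iv1 F231952) (iv3 F421738) (iv4 D201767) (iv1 D115049) (iv4 F179164) (iv3 F421717) (iv1 D199478))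
theorem F421739 : act 3 n199478 = n115047 := (sb E103838 F421717)
theorem F421740 : act 6 n199478 = n115046 := (sb E103838 (iv6 D201761))
def n201768 : Q := act 0 n115052
theorem D201768 : act 0 n115052 = n201768 := rfl
theorem F421741 : act 5 n201768 = n189353 := d17_3 F398870 F209177 D201768 F392300 F367189 D188841 (iv5 F398873) (iv0 D195962) (iv4 F398867)
def n201769 : Q := act 1 n115052
theorem D201769 : act 1 n115052 = n201769 := rfl
theorem F421742 : act 5 n189352 = n201769 := d21_0 (iv1 D201769) (iv5 F209177) (iv6 D130603) F95751 D71480 F108014 (iv1 F157249) D43896 D93906 D189352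
theorem F421743 : act 6 n195966 = n189352 := d21_5 (iv5 D33069) (iv1 F52227) (iv5 F78508) D107551 (iv1 F398892) F421742 (iv1 D201769) (iv5 F209177) (iv6 D130603) F95751
theorem F421744 : act 3 n189352 = n195969 := d7_1 F421743 (iv6 D195969) D195966
theorem F421745 : act 3 n151239 = n201769 := d6_3 (iv5 F421742) F421744 F398902
def n201770 : Q := act 7 n115052
theorem D201770 : act 7 n115052 = n201770 := rfl
theorem F421746 : act 3 n201770 = n115057 := d8_1 D201770 (iv7 D115057) (iv3 F179165)
theorem F421747 : act 4 n201770 = n201640 := d11_1 D201770 F421214 F375042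
theorem F421748 : act 6 n201770 = n201639 := d14_1 D201770 F421205 (iv6 D151534) F107973 D115052
def n201771 : Q := act 6 n115053
theorem D201771 : act 6 n115053 = n201771 := rfl
theorem F421749 : act 3 n201771 = n115054 := d7_1 D201771 (iv6 D115054) D115053
theorem F421750 : act 4 n201771 = n201643 := d10_1 D201771 F421225 F360966
theorem F421751 : act 7 n201771 = n201642 := d14_2 F250878 D201771 (iv6 D201642) (iv7 F179130) F360962
theorem F421752 : act 5 n201032 = n201771 := d13_3 F421751 (iv5 F421221) (iv7 F418818)
def n201772 : Q := act 0 n115054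
theorem D201772 : act 0 n115054 = n201772 := rfl
theorem F421753 : act 4 n201772 = n195870 := d20_0 (iv1 F398553) F343929 F219387 F99698 (iv3 F211726) (iv4 F399549) (iv1 F421227) (iv4 F421750) F421749 D201772
theorem F421754 : act 5 n201772 = n128916 := d16_1 (iv4 F421753) (iv4 D128916) D128917 (iv4 F395747) (iv5 F416330) F416329 F415879 F398549 F398546
def n201773 : Q := act 1 n115054
theorem D201773 : act 1 n115054 = n201773 := rfl
theorem F421755 : act 4 n201773 = n195871 := d18_7 (iv1 F214478) (iv4 F413983) F416145 F209133 F95752 (iv4 F179167) D201773 F398548 F251162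
theorem F421756 : act 5 n128911 = n201773 := d16_1 D128911 F421755 (iv5 F415879) (iv4 F416329) F416330 F395747 (iv5 D128917) (iv7 F403294) F403293
def n201774 : Q := act 5 n115054
theorem D201774 : act 5 n115054 = n201774 := rfl
theorem F421757 : act 3 n201774 = n201032 := d6_1 D201774 F421752 F421749
theorem F421758 : act 6 n201774 = n200782 := d12_2 D115054 D201774 F417889 (iv6 D115047) (iv5 F83788)
theorem F421759 : act 4 n200783 = n201774 := d10_3 F421758 (iv4 D200782) D200783
def n201775 : Q := act 7 n115054
theorem D201775 : act 7 n115054 = n201775 := rfl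
theorem F421760 : act 3 n201775 = n201642 := d8_1 D201775 (iv7 F421751) F421749
theorem F421761 : act 4 n201775 = n115057 := d11_1 D201775 (iv7 D115057) (iv4 F179167)
theorem F421762 : act 6 n201775 = n201641 := d14_1 D201775 F421219 (iv6 D159356) F114206 D115054
def n201776 : Q := act 3 n115055
theorem D201776 : act 3 n115055 = n201776 := rfl
theorem F421763 : act 6 n201776 = n187867 := d7_2 (iv6 F399563) D201776 (iv3 F399560)
theorem F421764 : act 7 n201776 = n197040 := d8_2 F399566 D201776 F403396
theorem F421765 : act 2 n197039 = n201776 := d4_3 F421764 (iv2 F402792) F402787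
theorem F421766 : act 4 n152001 = n201776 := d11_3 F421764 F402791 F239022
theorem F421767 : act 5 n151675 = n201776 := d13_3 F421764 F402790 F238540
theorem F421768 : act 1 n197041 = n201776 := d15_1 F402798 F421764 (iv2 F402792)
theorem F421769 : act 1 n201776 = n187811 := d15_1 F421768 (iv7 F371589) (iv2 F402794)
def n201777 : Q := act 4 n115055
theorem D201777 : act 4 n115055 = n201777 := rfl
theorem F421770 : act 2 n201777 = n195271 := d1_1 D201777 F396532 F399564
theorem F421771 : act 6 n201777 = n195268 := d10_2 (iv6 F399563) D201777 (iv4 F399561)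
theorem F421772 : act 5 n132587 = n201777 := d19_1 F212821 (iv4 D201777) D201776 (iv1 F421768) F402797 F165943 F78517 (iv1 F37997) (iv5 D24059) (iv4 D11292) (iv3 F10343) F10921 F10919 (iv4 F19984) F40112 (iv1 D25369) D25370 (iv4 F76792) D105480
theorem F421773 : act 3 n201777 = n132588 := d6_1 F421772 (iv5 D132588) D132587
theorem F421774 : act 0 n115064 = n201777 := d21_7 F212400 (iv1 D129101) D129103 F365769 D200787 (iv6 F417901) F343927 (iv5 F421772) (iv6 F366066) (iv1 F203595)
def n201778 : Q := act 5 n115055
theorem D201778 : act 5 n115055 = n201778 := rfl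
theorem F421775 : act 3 n201778 = n151675 := d6_1 D201778 F421767 (iv3 D201776)
theorem F421776 : act 7 n201778 = n197172 := d13_2 F399566 D201778 (iv5 F403395)
theorem F421777 : act 0 n201778 = n188919 := d21_1 D201778 (iv5 D188919) (iv6 D92908) (iv1 F157675) F114659 (iv5 D34941) (iv1 F46283) F46282 D53090 D115055
theorem F421778 : act 0 n200268 = n201778 := d21_10 (iv5 D201778) (iv1 F250876) F250872 F210031 (iv1 F210016) (iv6 F364695) (iv5 D135803) (iv1 F364717) F177497 D200268
theorem F421779 : act 4 n196157 = n201778 := d11_3 F421776 (iv4 F416072) (iv7 F416073)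
def n201779 : Q := act 3 n115056
theorem D201779 : act 3 n115056 = n201779 := rfl
def n201780 : Q := act 4 n115056
theorem D201780 : act 4 n115056 = n201780 := rfl
theorem F421780 : act 7 n201780 = n195271 := d11_2 (iv7 F399565) D201780 F396532
theorem F421781 : act 3 n195276 = n201780 := d8_3 F421780 F396531 D195276
theorem F421782 : act 5 n195257 = n201780 := d13_3 F421780 F396533 (iv7 F396492)
theorem F421783 : act 1 n115064 = n201780 := d15_1 (iv0 F421774) F421780 (iv2 F421770)
theorem E103839 : n201779 = n201557 := (c5_4 (iv4 F396555) F421781 (iv4 D201780) D201779 F420938 F286418)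
theorem F421784 : act 3 n201557 = n115056 := (sb E103839 (iv3 D201779))
def n201781 : Q := act 5 n115056
theorem D201781 : act 5 n115056 = n201781 := rfl
theorem F421785 : act 2 n201781 = n197172 := d2_1 D201781 (iv5 F403395) (iv2 F399567)
theorem F421786 : act 3 n201781 = n164228 := d6_1 D201781 F420939 F421784
theorem F421787 : act 0 n201781 = n200268 := d21_1 D201781 (iv5 F419280) (iv6 D201152) D201149 F421175 (iv5 F421174) (iv1 F251350) F251346 (iv6 F250873) (iv1 F250875)
theorem F421788 : act 6 n201781 = n133412 := d21_3 (iv5 F250872) (iv1 F250875) D201781 (iv1 F214524) (iv6 D114420) F83399 (iv1 F76737) D105405 (iv6 F209178) (iv1 F210033)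
theorem F421789 : act 0 n188919 = n201781 := d21_10 (iv5 D201781) (iv1 D115056) (iv5 F95752) (iv6 D61280) F46647 D52117 F82384 (iv1 F157583) D93801 (iv6 F375205)
theorem F421790 : act 4 n200259 = n201781 := d10_3 F421788 F351263 D200259
def n201782 : Q := act 6 n115056
theorem D201782 : act 6 n115056 = n201782 := rfl
theorem F421791 : act 0 n201782 = n201447 := d21_10 (iv5 D201447) (iv1 F248620) (iv5 F375078) (iv6 D188868) F177365 D92908 D188919 F421789 (iv5 D201781) D201782
def n201783 : Q := act 0 n115058
theorem D201783 : act 0 n115058 = n201783 := rfl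
theorem F421792 : act 5 n201783 = n188031 := d17_3 (iv1 D201746) (iv5 F179168) D201783 (iv4 D188031) (iv5 F251137) (iv0 D94405) D94407 F251992 (iv4 F421656)
def n201784 : Q := act 1 n115058
theorem D201784 : act 1 n115058 = n201784 := rfl
theorem F421793 : act 5 n201784 = n188033 := d17_7 D92874 D188875 F375109 F251955 F365410 (iv5 F179168) D201784 (iv0 F373238) (iv4 D92876)
theorem F421794 : act 4 n199720 = n201784 := d20_6 (iv4 D114280) (iv1 F139481) D187812 (iv3 F413246) (iv1 D199722) (iv3 F413242) (iv1 D201784) (iv4 F374989) (iv3 D188818) (iv1 F178126)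
theorem F421795 : act 6 n201784 = n199719 := d10_2 D199720 F421794 (iv4 D199719)
theorem F421796 : act 0 n194380 = n199720 := d18_0 F421794 (iv1 D201784) (iv4 F374989) F374991 (iv4 F373250) F373249 D190583 F380210 D194380
def n201785 : Q := act 6 n115058
theorem D201785 : act 6 n115058 = n201785 := rfl
theorem F421797 : act 2 n201785 = n201638 := d3_1 D201785 F421204 F375119
theorem F421798 : act 3 n201785 = n115059 := d7_1 D201785 (iv6 D115059) D115058
theorem F421799 : act 4 n201785 = n199109 := d10_1 D201785 F410710 F374989
def n201786 : Q := act 0 n115059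
theorem D201786 : act 0 n115059 = n201786 := rfl
def n201787 : Q := act 1 n115059
theorem D201787 : act 1 n115059 = n201787 := rfl
theorem F421800 : act 1 n201787 = n201641 := d15_1 D201787 F421219 F250879
theorem F421801 : act 4 n201787 = n195874 := d20_8 D113639 D200938 (iv4 F418443) (iv3 F366498) F421207 (iv3 F421208) (iv4 F421217) (iv1 F421800) F398566 (iv1 D113638)
theorem F421802 : act 0 n200928 = n159577 := d18_2 (iv1 F395852) D200928 F251342 F114457 (iv4 F179169) D201787 F421801 F398562 (iv5 F252010)
def n201788 : Q := act 5 n115059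
theorem D201788 : act 5 n115059 = n201788 := rfl
theorem F421803 : act 6 n201788 = n201749 := d12_2 D115059 D201788 (iv5 D201749) (iv6 D115040) (iv5 F83790)
theorem F421804 : act 4 n148773 = n201788 := d10_3 F421803 F421666 (iv6 F364677)
theorem F421805 : act 0 n159577 = n201788 := d21_4 D76341 F114441 (iv5 F114454) D159577 F421803 (iv5 D201749) F421586 (iv5 D201033) F177016 F82948
def n201789 : Q := act 7 n115059
theorem D201789 : act 7 n115059 = n201789 := rfl
theorem F421806 : act 2 n201789 = n201641 := d4_1 D201789 F421219 F250879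
theorem F421807 : act 4 n201789 = n115062 := d11_1 D201789 (iv7 D115062) (iv4 F179169)
theorem F421808 : act 1 n201641 = n201786 := d15_0 (iv0 D201786) D201789 F421806
def n201790 : Q := act 3 n115060
theorem D201790 : act 3 n115060 = n201790 := rfl
def n201791 : Q := act 4 n115060
theorem D201791 : act 4 n115060 = n201791 := rfl
def n201792 : Q := act 5 n115060
theorem D201792 : act 5 n115060 = n201792 := rfl
theorem F421809 : act 7 n201792 = n187780 := d13_2 (iv7 F375201) D201792 F371470
theorem F421810 : act 0 n148729 = n201792 := d21_10 (iv5 D201792) (iv1 F250887) F250883 (iv6 F251360) (iv1 F251362) (iv6 F251476) (iv5 F251474) (iv1 D114895) F106068 D148729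
def n201793 : Q := act 6 n115060
theorem D201793 : act 6 n115060 = n201793 := rfl
theorem F421811 : act 5 n201793 = n164618 := d21_6 F114186 F83806 F55161 D53092 D115060 D201793 (iv1 D164618) F120350 (iv6 D76224) (iv1 F114184)
def n201794 : Q := act 4 n115061
theorem D201794 : act 4 n115061 = n201794 := rfl
theorem F421812 : act 6 n201794 = n188036 := d10_2 (iv6 F375199) D201794 (iv4 F374259)
def n201795 : Q := act 5 n115061
theorem D201795 : act 5 n115061 = n201795 := rfl
theorem F421813 : act 2 n201795 = n187780 := d2_1 D201795 F371470 F375200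
theorem F421814 : act 3 n201795 = n187746 := d6_1 D201795 F419064 F419066
theorem F421815 : act 6 n201795 = n148749 := d12_2 (iv6 F375199) D201795 (iv5 F377335) F377337 (iv5 F375194)
theorem F421816 : act 0 n201795 = n148729 := d21_1 D201795 F233502 (iv6 D114894) (iv1 F178442) (iv6 F375197) (iv5 F375198) (iv1 F210029) F209181 (iv6 F250884) (iv1 F250886)
def n201796 : Q := act 0 n115065
theorem D201796 : act 0 n115065 = n201796 := rfl
theorem F421817 : act 5 n201796 = n192963 := d17_3 F388385 F179184 D201796 (iv4 D192963) (iv5 D101038) (iv0 D47073) D47075 D101044 D192969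
theorem F421818 : act 2 n193004 = n201796 := d2_3 F421817 F388355 D193004
theorem F421819 : act 7 n193012 = n201796 := d13_0 F421817 F388357 D193012
def n201797 : Q := act 1 n115065
theorem D201797 : act 1 n115065 = n201797 := rfl
theorem F421820 : act 7 n201797 = n193004 := d15_2 (iv0 D201796) D201797 F421818
theorem F421821 : act 5 n201797 = n192965 := d17_7 F345092 (iv5 D183967) (iv1 D87758) D87759 (iv4 F360998) F179184 D201797 (iv0 F393973) (iv4 D194655)
theorem F421822 : act 3 n198180 = n201797 := d19_19 (iv1 D201797) (iv5 F179184) F360998 (iv3 F153878) F283730 D100563 (iv4 F291422) (iv3 D91291) (iv1 F66985) D91356 F140467 F365133 F345412 (iv5 D109221) (iv4 F98564) (iv3 F216772) F372897 F372896 (iv4 F407123)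
theorem F421823 : act 4 n159491 = n198181 := d20_0 (iv1 D198181) (iv4 F407123) F421822 (iv1 D201797) (iv3 D115065) F83793 (iv1 D34847) D34848 D76292 D159491
theorem F421824 : act 4 n201797 = n196310 := d5_2 (iv4 F407123) F421822 F400294 F164751 (iv3 F169006)
theorem F421825 : act 6 n201797 = n196309 := d7_2 D198180 F421822 F400293
theorem F421826 : act 2 n193012 = n201797 := d2_3 F421821 F388364 D193012
def n201798 : Q := act 4 n115065
theorem D201798 : act 4 n115065 = n201798 := rfl
theorem F421827 : act 2 n201798 = n188378 := d1_1 D201798 F375606 F361000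
theorem F421828 : act 3 n201798 = n159486 := d5_1 D201798 (iv4 D159486) (iv3 D76290) (iv4 F83793) D115065
theorem F421829 : act 7 n201798 = n191972 := d11_2 F250889 D201798 F385041
theorem F421830 : act 5 n201798 = n145294 := d16_3 (iv4 F360998) F179184 D201798 F357572 F294231 F73442 (iv5 F134744) (iv7 D87773) (iv2 F134731)
theorem F421831 : act 0 n196581 = n201798 := d20_7 (iv4 D25753) D25751 D53089 D115053 F372184 F388580 (iv4 F401136) (iv4 D201798) (iv3 D115065) (iv1 D53094)
theorem F421832 : act 6 n199241 = n201798 := d12_0 F421830 (iv6 D145294) F177271 D111105 D199241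
def n201799 : Q := act 6 n115065
theorem D201799 : act 6 n115065 = n201799 := rfl
theorem F421833 : act 3 n201799 = n115066 := d7_1 D201799 (iv6 D115066) D115065
theorem F421834 : act 4 n201799 = n199241 := d10_1 D201799 F421832 (iv4 D201798)
theorem F421835 : act 0 n115066 = n201791 := d20_10 (iv4 D201791) (iv1 F250887) (iv4 F421217) (iv3 D201641) F179003 D159479 (iv4 F401662) F411289 (iv4 F421834) F421833
def n201800 : Q := act 1 n115066
theorem D201800 : act 1 n115066 = n201800 := rfl
def n201801 : Q := act 7 n115066
theorem D201801 : act 7 n115066 = n201801 := rfl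
theorem F421836 : act 4 n201801 = n159490 := d11_1 D201801 (iv7 D159490) (iv4 F179171)
def n201802 : Q := act 3 n115067
theorem D201802 : act 3 n115067 = n201802 := rfl
theorem F421837 : act 2 n201802 = n188037 := d0_1 D201802 (iv3 D188037) (iv2 F372173) F419299 F421607
theorem F421838 : act 4 n201802 = n188054 := d20_6 (iv4 D53091) (iv1 D25752) D25753 D53095 D115067 D201802 (iv1 F387669) (iv4 F251170) F251169 (iv1 F114344)
theorem F421839 : act 1 n198180 = n201802 := d18_6 D192750 F387656 (iv1 D188266) (iv4 F372895) F372896 (iv4 F407123) F421838 F387668 (iv5 D192752)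
def n201803 : Q := act 4 n115067
theorem D201803 : act 4 n115067 = n201803 := rfl
theorem F421840 : act 6 n201803 = n124142 := d10_2 (iv6 F421610) D201803 (iv4 F396583)
theorem F421841 : act 5 n149132 = n201803 := d12_5 F421840 (iv5 D124142) F304459 D69984 D149132
theorem F421842 : act 0 n201803 = n141233 := d21_4 (iv5 F236296) F305158 D124142 (iv6 F421840) (iv6 D141233) F101835 D115938 (iv5 F410509) (iv6 F410510) (iv1 F361480)
def n201804 : Q := act 5 n115067
theorem D201804 : act 5 n115067 = n201804 := rfl
theorem F421843 : act 6 n201804 = n148135 := d12_2 (iv6 F421610) D201804 F231957 (iv6 F233454) F396584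
theorem F421844 : act 4 n187482 = n201804 := d10_3 F421843 F231958 (iv6 F370528)
def n201805 : Q := act 4 n115068
theorem D201805 : act 4 n115068 = n201805 := rfl
theorem F421845 : act 3 n201805 = n188098 := d5_1 D201805 (iv4 D188098) (iv3 F251132) (iv4 F421599) F421603
theorem F421846 : act 0 n141233 = n201805 := d20_10 (iv4 D201805) (iv1 D115068) (iv4 F178882) (iv3 D114811) D114810 (iv3 F364654) F413247 (iv1 D199722) F173200 (iv3 F224269)
def n201806 : Q := act 5 n115068
theorem D201806 : act 5 n115068 = n201806 := rfl
theorem F421847 : act 6 n201806 = n195278 := d12_2 (iv6 F421604) D201806 (iv5 D195278) D195279 F421591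
def n201807 : Q := act 5 n115069
theorem D201807 : act 5 n115069 = n201807 := rfl
theorem F421848 : act 2 n201807 = n115070 := d2_1 D201807 (iv5 D115070) D115069
theorem F421849 : act 3 n201807 = n201166 := d6_1 D201807 F419300 F250895
theorem F421850 : act 7 n201807 = n159366 := d13_2 F419301 D201807 (iv5 F419300)
theorem F421851 : act 1 n159365 = n201807 := d15_1 D159365 F421850 (iv2 D159366)
theorem F421852 : act 5 n159365 = n136324 := d21_8 (iv5 D60824) (iv1 F83817) (iv5 F161929) D195273 (iv1 F421624) F421623 D201807 (iv1 F421851) (iv6 D136324) F99703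
theorem F421853 : act 6 n136325 = n159365 := d12_0 F421852 (iv6 D136324) (iv5 D64091) D64092 D136325
theorem F421854 : act 1 n201807 = n159364 := d15_0 (iv0 D159364) (iv7 F179173) (iv2 F421848)
def n201808 : Q := act 0 n115070
theorem D201808 : act 0 n115070 = n201808 := rfl
theorem F421855 : act 5 n201808 = n195255 := d21_2 D115070 D201808 (iv6 D195255) F161912 D132213 (iv5 F347259) F421597 F421591 (iv6 F421604) (iv1 D115068)
theorem E103840 : n201736 = n136320 := ((c21_4 (iv5 D62029) (iv1 F48589) D64086 D136320 (iv1 D201736) F179140 D115070 D201808 F421855 (iv6 D195255) F161912)).symm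
theorem F421856 : act 0 n136320 = n115034 := (sb E103840 (iv1 D201736))
theorem F421857 : act 1 n159366 = n201808 := d15_0 (iv0 D201808) F179173 D159366
theorem F421858 : act 2 n159365 = n201808 := d2_3 F421855 F396485 (iv5 F421852)
theorem F421859 : act 6 n195256 = n201808 := d12_0 F421855 (iv6 D195255) (iv5 D105478) D105479 D195256
theorem F421860 : act 7 n159364 = n201808 := d15_2 F421851 F421854 (iv2 F421858)
def n201809 : Q := act 1 n115070
theorem D201809 : act 1 n115070 = n201809 := rfl
theorem F421861 : act 1 n201809 = n159366 := d15_1 D201809 (iv7 F421850) F421848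
theorem F421862 : act 7 n201809 = n159365 := d15_2 (iv0 D201808) D201809 F421858
theorem F421863 : act 2 n159364 = n201809 := d4_3 F421862 F421858 (iv7 F421860)
def n201810 : Q := act 4 n115070
theorem D201810 : act 4 n115070 = n201810 := rfl
theorem F421864 : act 3 n201810 = n118764 := d5_1 D201810 (iv4 D118764) F86491 (iv4 F83796) (iv3 F179172)
theorem F421865 : act 7 n201810 = n159336 := d11_2 (iv7 F179173) D201810 F250834
def n201811 : Q := act 6 n115070
theorem D201811 : act 6 n115070 = n201811 := rfl
theorem F421866 : act 3 n201811 = n115071 := d7_1 D201811 (iv6 D115071) (iv3 F179172)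
def n201812 : Q := act 0 n115071
theorem D201812 : act 0 n115071 = n201812 := rfl
theorem F421867 : act 1 n201146 = n201812 := d15_0 (iv0 D201812) (iv7 F421235) F421233
theorem F421868 : act 4 n201812 = n195805 := d18_7 D106277 F395521 (iv1 F161222) F161218 D114002 D201146 F421867 (iv0 D195805) (iv5 D106279)
theorem F421869 : act 2 n201160 = n201812 := d1_3 F421868 F418646 (iv4 F419293)
theorem F421870 : act 7 n201161 = n201812 := d11_0 F421868 F418644 (iv4 F419294)
def n201813 : Q := act 1 n115071
theorem D201813 : act 1 n115071 = n201813 := rfl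
theorem F421871 : act 1 n201813 = n201146 := d15_1 D201813 F419262 (iv2 F179174)
theorem F421872 : act 7 n201813 = n201160 := d15_2 (iv0 D201812) D201813 F421869
theorem F421873 : act 4 n201813 = n195806 := d18_7 (iv1 F163320) F360472 (iv1 D52405) (iv4 F76655) (iv5 F114220) (iv4 F179175) D201813 F398262 F251160
theorem F421874 : act 0 n118765 = n151252 := d20_4 (iv4 F421873) (iv1 D201813) F179175 (iv3 F186815) (iv3 D151252) D151253 (iv1 F405799) (iv4 F405798) (iv3 F251159) (iv1 F398262)
theorem F421875 : act 2 n201161 = n201813 := d1_3 F421873 (iv2 F418643) (iv4 F419294)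
def n201814 : Q := act 6 n115072
theorem D201814 : act 6 n115072 = n201814 := rfl
theorem F421876 : act 2 n201814 = n119216 := d3_1 D201814 (iv6 D119216) F179180
theorem F421877 : act 3 n201814 = n188690 := d7_1 D201814 F375781 (iv3 F250986)
theorem F421878 : act 4 n201814 = n201505 := d10_1 D201814 (iv6 D201505) F179179
theorem F421879 : act 5 n201814 = n152287 := d12_1 D201814 (iv6 D152287) F108297 (iv6 F104133) (iv5 F179178)
theorem F421880 : act 0 n201814 = n201698 := d21_4 F177972 F104227 (iv5 F179178) D201814 (iv6 D201698) (iv5 D114997) (iv1 F339738) D114057 F177558 D114190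
def n201815 : Q := act 6 n115075
theorem D201815 : act 6 n115075 = n201815 := rfl
theorem F421881 : act 2 n201815 = n150130 := d3_1 D201815 F236298 (iv2 F360997)
theorem F421882 : act 3 n201815 = n115076 := d7_1 D201815 (iv6 D115076) D115075
theorem F421883 : act 4 n201815 = n118189 := d10_1 D201815 F185731 (iv4 F360998)
theorem F421884 : act 5 n126612 = n201815 := d16_1 (iv4 F355358) F421883 (iv5 D118189) F85995 (iv5 F104051) (iv4 F183354) F338625 (iv7 D115143) D115138
theorem F421885 : act 0 n201742 = n201804 := d21_7 F161949 D126612 F421884 (iv6 D201815) (iv1 F388372) (iv6 F388373) (iv5 F421640) (iv5 D201804) F421610 (iv1 D195287)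
theorem F421886 : act 0 n136324 = n159830 := d17_0 (iv5 F421640) F421885 (iv5 D201804) D201803 (iv5 F421841) (iv0 F346052) (iv5 F365612) (iv0 D136591) (iv4 F219403)
def n201816 : Q := act 7 n115076
theorem D201816 : act 7 n115076 = n201816 := rfl
theorem F421887 : act 2 n201816 = n195266 := d4_1 D201816 F396520 F250917
theorem F421888 : act 4 n201816 = n115079 := d11_1 D201816 (iv7 D115079) (iv4 F179185)
theorem F421889 : act 5 n201816 = n132170 := d13_1 D201816 (iv7 F211721) F333530
theorem F421890 : act 0 n129427 = n201816 := d17_0 F421889 (iv1 F211712) D195268 (iv4 F399561) (iv5 D196134) F164390 (iv5 F179157) F250842 F377475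
def n201817 : Q := act 3 n115077
theorem D201817 : act 3 n115077 = n201817 := rfl
def n201818 : Q := act 4 n115077
theorem D201818 : act 4 n115077 = n201818 := rfl
theorem F421891 : act 2 n201818 = n201033 := d1_1 D201818 (iv4 F418821) F399596
theorem F421892 : act 7 n201818 = n201748 := d11_2 (iv7 F399595) D201818 F421661
theorem F421893 : act 5 n201818 = n132229 := d16_1 D201818 F322890 F106085 (iv4 F93382) D126237 (iv4 F399589) F399591 (iv7 F399594) F399596
theorem F421894 : act 0 n201818 = n201750 := d18_2 D115077 D201818 F421669 F179157 (iv4 F211657) F382368 F382366 (iv0 D106746) (iv5 F83802)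
theorem F421895 : act 1 n201818 = n159339 := d18_8 F219418 (iv4 F213197) F213199 F161926 D195266 F396519 F250925 D201818 F343648
theorem F421896 : act 3 n201818 = n129834 := d20_3 F179185 D115077 D201818 (iv1 D129834) F95530 (iv4 F48628) D64160 F99871 (iv3 F211790) (iv1 F364673)
theorem F421897 : act 0 n201817 = n191338 := d19_4 F418662 (iv5 F421893) (iv4 D201818) D201817 F383102 F380311 (iv3 F420275) F420277 (iv5 D190588) F147996 F83148 D52632 D114043 (iv4 F399202) F399201 (iv1 F398952) (iv5 F418666) F418665 F418663
theorem F421898 : act 1 n201817 = n191340 := d15_1 (iv0 F421897) F383115 (iv2 F383100)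
theorem F421899 : act 5 n190345 = n201817 := d17_5 D95525 F335105 (iv1 F317726) F290443 D190345 F421898 F383113 (iv0 F363605) (iv4 D95527)
def n201819 : Q := act 5 n115077
theorem D201819 : act 5 n115077 = n201819 := rfl
theorem F421900 : act 3 n201819 = n190345 := d6_1 D201819 F421899 (iv3 D201817)
theorem F421901 : act 7 n201819 = n195990 := d13_2 (iv7 F399595) D201819 F398988
theorem F421902 : act 4 n201819 = n200747 := d16_4 (iv4 F322890) (iv5 F421893) (iv4 D201818) D201819 F417755 F176594 (iv5 F177017) (iv7 D113769) (iv2 F106084)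
theorem F421903 : act 0 n201819 = n159600 := d17_2 D115077 D201819 F251394 (iv4 F421616) (iv5 F421618) F211784 (iv5 F421676) (iv0 F421678) F179185
theorem F421904 : act 1 n201819 = n131984 := d17_8 D131982 F211470 (iv1 F163806) (iv5 F349637) F211255 (iv5 F250921) F250925 D201819 (iv4 D131984)
def n201820 : Q := act 6 n115077
theorem D201820 : act 6 n115077 = n201820 := rfl
theorem F421905 : act 2 n201820 = n200929 := d3_1 D201820 F418415 F399596
theorem F421906 : act 5 n201820 = n159856 := d21_6 (iv5 D16894) F20221 D25755 D53099 D115077 D201820 (iv1 D159856) F114708 (iv6 D76291) (iv1 D34847)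
theorem F421907 : act 0 n159467 = n201820 := d21_4 (iv5 D34844) D34842 D76278 D159467 (iv6 D201820) D201819 F421903 F251394 (iv6 D159478) (iv1 D76286)
theorem F421908 : act 7 n201676 = n201820 := d13_0 F421906 F364680 F421342
def n201821 : Q := act 4 n115078
theorem D201821 : act 4 n115078 = n201821 := rfl
theorem F421909 : act 2 n201821 = n201748 := d1_1 D201821 F421661 (iv2 F399593)
theorem F421910 : act 5 n201821 = n201034 := d9_2 F399591 D201821 F418823 F177017 (iv4 F176594) (iv5 F417755) (iv4 F421902) (iv5 D201819) D201818 F421893 F322890 F106085 (iv4 F93382) D126237 (iv4 F399589)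
theorem F421911 : act 7 n201821 = n201033 := d11_2 F399594 D201821 (iv4 F418821)
theorem F421912 : act 0 n201821 = n159339 := d18_2 (iv1 F250924) D201821 F250837 F114191 (iv4 F164270) (iv0 F382362) F382358 F164536 (iv5 F250921)
theorem F421913 : act 1 n201821 = n201750 := d15_1 (iv0 F421912) (iv7 D201750) (iv2 F250836)
def n201822 : Q := act 6 n115078
theorem D201822 : act 6 n115078 = n201822 := rfl
theorem F421914 : act 3 n201822 = n197812 := d7_1 D201822 (iv6 F405855) (iv3 F399597)
theorem F421915 : act 5 n201822 = n201000 := d12_1 D201822 F418680 F397803 D196142 F399591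
theorem F421916 : act 0 n201822 = n195644 := d21_10 (iv5 D195644) (iv1 F163318) D195798 F398228 (iv1 F163412) D159478 (iv5 F251394) F399592 F399591 D201822
theorem F421917 : act 0 n195646 = n201822 := d21_4 F370831 F360296 F251995 (iv6 F397716) (iv6 D201822) (iv5 F399591) F399590 (iv5 F372182) (iv6 D188029) (iv1 F370830)
theorem F421918 : act 7 n200999 = n201822 := d13_0 F421915 (iv7 D201000) D200999
def n201823 : Q := act 1 n115082
theorem D201823 : act 1 n115082 = n201823 := rfl
theorem F421919 : act 7 n201823 = n152515 := d15_2 F362020 D201823 F346144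
theorem F421920 : act 4 n201823 = n197868 := d17_9 F409812 F168709 D108913 (iv5 F372215) F372214 F318925 (iv0 F318922) (iv5 F179199) D201823
theorem F421921 : act 5 n146551 = n201823 := d21_0 (iv1 D201823) F179199 (iv6 D106131) (iv1 F86684) (iv6 F321688) F319758 (iv1 F97722) F316622 (iv6 F355114) (iv1 F252109)
theorem F421922 : act 6 n201669 = n201823 := d21_3 D90820 D188119 (iv5 F421322) (iv1 D201823) (iv6 D115082) (iv5 D53102) F76705 D105381 F161705 (iv1 D90819)
theorem F421923 : act 2 n201823 = n146552 := d2_1 F421921 (iv5 D146552) D146551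
theorem F421924 : act 3 n201823 = n152280 := d6_1 F421921 (iv5 F239354) (iv3 F353808)
def n201824 : Q := act 7 n115082
theorem D201824 : act 7 n115082 = n201824 := rfl
theorem F421925 : act 3 n201824 = n115087 := d8_1 D201824 (iv7 D115087) (iv3 F179198)
theorem F421926 : act 4 n201824 = n198271 := d11_1 D201824 F407427 F371685
theorem F421927 : act 5 n201824 = n152486 := d13_1 D201824 F352152 (iv5 F179199)
theorem F421928 : act 1 n146552 = n201824 := d15_1 F419785 (iv7 D201824) (iv2 F419780)
theorem F421929 : act 1 n201824 = n152515 := d15_1 F421928 (iv7 F421919) F421923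
def n201825 : Q := act 2 n115083
theorem D201825 : act 2 n115083 = n201825 := rfl
theorem F421930 : act 3 n201825 = n184001 := d0_2 D115083 D201825 F361001 (iv3 D128516) F94984
theorem F421931 : act 4 n201825 = n184114 := d1_2 F371675 D201825 (iv2 F371674)
theorem F421932 : act 5 n201825 = n134160 := d2_2 (iv5 F179200) D201825 F343922
theorem F421933 : act 7 n201825 = n183999 := d4_2 F250916 D201825 F360999
theorem F421934 : act 6 n134161 = n201825 := d12_0 F421932 (iv6 D134160) (iv5 D63022) D63023 D134161
def n201826 : Q := act 6 n115083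
theorem D201826 : act 6 n115083 = n201826 := rfl
theorem F421935 : act 2 n201826 = n134161 := d3_1 D201826 F421934 (iv2 D201825)
theorem F421936 : act 3 n201826 = n115084 := d7_1 D201826 (iv6 D115084) D115083
theorem F421937 : act 5 n201826 = n115090 := d12_1 D201826 (iv6 D115090) (iv5 F161936) F343924 (iv5 F179200)
theorem F421938 : act 7 n198019 = n201826 := d13_0 F421937 (iv7 F204110) (iv5 F406529)
theorem F421939 : act 0 n197712 = n201826 := d17_0 F421937 F179211 D129489 F330984 (iv5 D108995) F168504 F330527 (iv0 F373172) D197712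
theorem F421940 : act 1 n198013 = n201826 := d15_0 (iv0 F421939) F405479 (iv2 F406511)
def n201827 : Q := act 7 n115084
theorem D201827 : act 7 n115084 = n201827 := rfl
theorem F421941 : act 3 n201827 = n198019 := d8_1 D201827 F421938 F421936
theorem F421942 : act 4 n201827 = n115087 := d11_1 D201827 (iv7 D115087) (iv4 F179201)
theorem F421943 : act 5 n201827 = n146878 := d13_1 D201827 F417902 F417898
theorem F421944 : act 6 n201827 = n195266 := d14_1 D201827 F396520 (iv6 D159374) F114237 D115084
theorem F421945 : act 0 n200833 = n201827 := d17_2 (iv1 D200832) D200833 F421943 (iv4 F411028) (iv5 F411031) F417050 F417047 F417146 (iv4 F418097)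
def n201828 : Q := act 4 n115086
theorem D201828 : act 4 n115086 = n201828 := rfl
theorem F421946 : act 2 n201828 = n201763 := d1_1 D201828 F421721 F290517
theorem F421947 : act 6 n201828 = n201673 := d10_2 (iv6 F251112) D201828 (iv4 D201673)
theorem F421948 : act 7 n201828 = n201762 := d11_2 F206697 D201828 F421718
theorem F421949 : act 0 n201828 = n159344 := d18_2 (iv1 F206695) D201828 F250847 (iv5 F120350) F120349 D95312 (iv4 F321185) F178173 (iv5 F206692)
theorem F421950 : act 0 n201764 = n201828 := d20_7 (iv4 F366487) (iv1 F373219) F373218 (iv3 F375016) (iv1 F421710) F421706 (iv4 F421723) (iv4 D201828) F366045 F360949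
def n201829 : Q := act 0 n115088
theorem D201829 : act 0 n115088 = n201829 := rfl
theorem F421951 : act 5 n201829 = n198020 := d19_1 D201829 F406531 F168868 D108874 (iv5 F404843) F404842 (iv3 D156176) (iv1 F111504) (iv5 D34090) (iv4 F39983) F39981 F37111 (iv5 D11408) F7918 (iv3 F8918) D12229 D25761 D53105 D115088
theorem F421952 : act 1 n134157 = n201829 := d15_0 (iv0 D201829) F179205 D134157
theorem F421953 : act 1 n195272 = n197672 := d17_8 F403107 (iv5 D134212) D134209 F361294 (iv4 F406531) (iv5 F421951) (iv0 D201829) (iv5 F396545) (iv4 D197672)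
theorem F421954 : act 6 n129684 = n201829 := d12_0 F421951 (iv6 D198020) F362477 (iv6 D129685) D129684
theorem F421955 : act 7 n134155 = n201829 := d13_0 F421951 (iv7 F406532) (iv5 F405325)
def n201830 : Q := act 1 n115088
theorem D201830 : act 1 n115088 = n201830 := rfl
def n201831 : Q := act 2 n115088
theorem D201831 : act 2 n115088 = n201831 := rfl
theorem F421956 : act 3 n201831 = n136317 := d0_2 D115088 D201831 (iv2 D136317) (iv3 D64085) (iv2 F83814)
theorem F421957 : act 4 n201831 = n134024 := d1_2 (iv4 F179204) D201831 (iv2 D134024)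
theorem F421958 : act 6 n201831 = n189773 := d3_2 F407074 D201831 F407076
theorem F421959 : act 7 n201831 = n134157 := d4_2 (iv7 F179205) D201831 (iv2 D134157)
theorem F421960 : act 1 n201831 = n134155 := d15_0 (iv0 D134155) (iv7 F179205) D201831
theorem F421961 : act 1 n201830 = n134157 := d15_1 D201830 (iv7 F421959) (iv2 D201831)
theorem F421962 : act 2 n134155 = n201830 := d15_3 F421961 F421952 (iv7 F421955)
theorem F421963 : act 7 n134156 = n201830 := d15_2 (iv0 D134155) D134156 (iv2 F421962)
theorem F421964 : act 2 n201829 = n134156 := d4_3 F421963 (iv2 F421962) F421955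
theorem F421965 : act 5 n134156 = n197676 := d2_2 (iv5 F421951) F421964 (iv2 F406530)
theorem F421966 : act 1 n134156 = n201831 := d15_0 F421960 F421955 F421964
def n201832 : Q := act 1 n115089
theorem D201832 : act 1 n115089 = n201832 := rfl
def n201833 : Q := act 2 n115089
theorem D201833 : act 2 n115089 = n201833 := rfl
theorem F421967 : act 3 n201833 = n134157 := d0_2 D115089 D201833 (iv2 D134157) (iv3 D63021) (iv2 F83818)
theorem F421968 : act 4 n201833 = n196242 := d1_2 (iv4 F179206) D201833 (iv2 D196242)
theorem F421969 : act 5 n201833 = n159361 := d2_2 (iv5 F343927) D201833 F250890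
theorem F421970 : act 6 n201833 = n146879 := d3_2 (iv6 F417901) D201833 (iv2 F417903)
theorem F421971 : act 7 n201833 = n136317 := d4_2 (iv7 F179207) D201833 (iv2 D136317)
theorem F421972 : act 1 n201833 = n129537 := d15_0 (iv0 F207677) (iv7 F179207) D201833
theorem F421973 : act 1 n201832 = n136317 := d15_1 D201832 (iv7 F421971) (iv2 D201833)
theorem F421974 : act 2 n129537 = n201832 := d15_3 F421973 F219386 F212222
theorem F421975 : act 7 n136316 = n201832 := d15_2 (iv0 F207677) D136316 (iv2 F421974)
theorem F421976 : act 2 n132317 = n136316 := d4_3 F421975 (iv2 F421974) (iv7 F212222)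
theorem F421977 : act 1 n136316 = n201833 := d15_0 F421972 (iv7 F212222) F421976
def n201834 : Q := act 6 n115091
theorem D201834 : act 6 n115091 = n201834 := rfl
theorem F421978 : act 2 n201834 = n136328 := d3_1 D201834 (iv6 D136328) F179217
theorem F421979 : act 3 n201834 = n115119 := d7_1 D201834 (iv6 D115119) F179218
theorem F421980 : act 4 n201834 = n132561 := d10_1 D201834 (iv6 D132561) (iv4 F179219)
theorem F421981 : act 5 n201834 = n130954 := d12_1 D201834 F209563 (iv5 D115720) D115721 F180048
theorem F421982 : act 7 n201834 = n134505 := d14_2 (iv7 F179216) D201834 (iv6 D134505) (iv7 F168157) F168156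
theorem F421983 : act 0 n201834 = n115438 := d21_4 (iv5 F219986) F219987 F180048 D201834 F179748 (iv5 D64544) (iv1 F100469) F100466 D134162 (iv1 F216197)
theorem F421984 : act 0 n115439 = n201834 := d21_4 (iv5 F219399) F219401 (iv5 D135483) (iv6 F179752) (iv6 D201834) (iv5 F180048) F216199 (iv5 F213964) (iv6 F217399) F217885
theorem F421985 : act 0 n132561 = n127092 := d18_2 F421984 F421980 (iv4 D127092) (iv5 D59646) D59645 (iv0 F102035) F84099 D53252 D115439
def n201835 : Q := act 3 n115093
theorem D201835 : act 3 n115093 = n201835 := rfl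
theorem F421986 : act 7 n201835 = n197525 := d8_2 (iv7 F355365) D201835 F404697
theorem F421987 : act 4 n201835 = n134980 := d20_6 F76792 F40116 D25764 D53109 D115093 D201835 (iv1 D134980) F98767 (iv3 D60817) (iv1 F76790)
theorem F421988 : act 2 n197521 = n201835 := d1_3 F421987 F404687 D197521
def n201836 : Q := act 3 n115094
theorem D201836 : act 3 n115094 = n201836 := rfl
theorem F421989 : act 0 n201836 = n134269 := d20_10 (iv4 D134269) (iv1 F216023) (iv4 F396477) F396476 (iv1 F396495) (iv3 F396494) (iv4 F397704) (iv1 F397708) (iv4 F355275) D201836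
theorem F421990 : act 0 n132540 = n201836 := d20_4 (iv4 F213160) F213158 (iv4 D132541) D132540 (iv3 D201836) F355275 F355298 F203659 F325151 D129866
def n201837 : Q := act 6 n115094
theorem D201837 : act 6 n115094 = n201837 := rfl
theorem F421991 : act 0 n201837 = n201069 := d21_4 F355287 (iv1 F388475) F388473 D201837 (iv6 D201069) D201068 F418971 (iv5 D146867) (iv6 F355267) (iv1 F211846)
def n201838 : Q := act 0 n115095
theorem D201838 : act 0 n115095 = n201838 := rfl
theorem F421992 : act 5 n201838 = n132221 := d17_1 D201838 (iv1 F211843) (iv5 F335151) (iv4 D179862) (iv5 D85905) D85903 (iv5 F318991) (iv0 D136695) F179230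
theorem F421993 : act 4 n201838 = n179989 := d18_1 D201838 F280360 (iv4 F396555) F396556 (iv4 F397704) (iv0 F397707) F371307 (iv0 D115093) D115095
theorem F421994 : act 1 n136345 = n201838 := d15_0 (iv0 D201838) F179229 (iv2 F219425)
theorem F421995 : act 2 n136343 = n201838 := d1_3 F421993 F388440 (iv4 F388442)
theorem F421996 : act 7 n136344 = n201838 := d11_0 F421993 F280359 (iv4 F347619)
def n201839 : Q := act 1 n115095
theorem D201839 : act 1 n115095 = n201839 := rfl
theorem F421997 : act 1 n201839 = n136345 := d15_1 D201839 (iv7 D136345) (iv2 F179226)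
theorem F421998 : act 7 n201839 = n136343 := d15_2 (iv0 D201838) D201839 F421995
theorem F421999 : act 5 n201839 = n132222 := d17_7 (iv1 F214562) F338615 F329382 (iv5 D53131) (iv4 F83827) D115095 D201839 F211847 (iv4 F209216)
theorem F422000 : act 4 n201839 = n179983 := d17_9 (iv1 F280332) (iv5 D150113) (iv1 D70640) D70641 D150117 F355366 (iv0 D115093) D115095 D201839
theorem F422001 : act 2 n136344 = n201839 := d1_3 F422000 F280330 (iv4 F347619)
def n201840 : Q := act 3 n115096
theorem D201840 : act 3 n115096 = n201840 := rfl
theorem F422002 : act 2 n201840 = n159921 := d0_1 D201840 (iv3 F419309) (iv2 F419308) (iv3 F418631) F339430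
theorem F422003 : act 4 n201840 = n197621 := d5_2 F218085 D201840 (iv3 F405053) F371452 (iv3 F319934)
theorem F422004 : act 7 n201840 = n159920 := d8_2 (iv7 F339431) D201840 F355292
theorem F422005 : act 0 n201840 = n121369 := d19_4 F209692 (iv5 F218087) F218085 D201840 (iv5 D121369) (iv4 F90553) F90552 (iv1 F329212) (iv5 D51298) (iv4 D24944) (iv3 F19430) (iv1 D11548) (iv5 D5378) (iv4 F8198) (iv3 F10441) D13452 D28180 D59334 D126464
theorem F422006 : act 0 n159923 = n201840 := d20_4 F97675 D132221 (iv4 F347376) (iv3 F252183) (iv3 D201840) (iv4 F218085) (iv1 F321769) (iv4 F333181) (iv3 F338613) (iv1 D133436)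
theorem F422007 : act 5 n201840 = n151337 := d21_2 (iv5 F252184) F422006 (iv6 D151337) (iv1 F186660) F186657 (iv5 F337569) F339458 (iv5 F349055) (iv6 F349059) (iv1 F193605)
theorem F422008 : act 0 n144941 = n151337 := d19_0 (iv5 F422007) F422003 (iv3 F405053) (iv1 F371453) (iv5 F366658) (iv4 D123970) F90932 (iv1 F90926) F299262 (iv4 D55555) (iv3 F300703) (iv1 F27587) (iv5 D7854) D7853 D16843 F155355 F50623 (iv4 F104052) (iv3 F227915)
def n201841 : Q := act 5 n115096
theorem D201841 : act 5 n115096 = n201841 := rfl
theorem F422009 : act 2 n201841 = n117364 := d2_1 D201841 (iv5 F339428) F339430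
theorem F422010 : act 3 n201841 = n151337 := d6_1 D201841 (iv5 F422007) (iv3 D201840)
theorem F422011 : act 7 n201841 = n117324 := d13_2 (iv7 F339431) D201841 (iv5 F339420)
theorem F422012 : act 4 n201841 = n117327 := d16_6 D117377 (iv5 F352603) (iv4 F359675) (iv5 F218087) F218085 D201841 (iv5 F252553) (iv7 D160047) F114962
theorem F422013 : act 0 n201841 = n117362 := d17_2 D115096 D201841 F323489 F179253 D135547 (iv0 F218362) F359574 (iv0 D63715) (iv4 F83837)
theorem F422014 : act 1 n201841 = n115175 := d17_6 (iv1 F218112) (iv5 F203311) F209692 (iv5 F218087) F218085 D201841 (iv5 D115175) D115173 (iv4 F218039)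
theorem F422015 : act 6 n146407 = n201841 := d21_5 (iv5 D34824) F27645 D33219 F338205 (iv1 F229738) (iv5 D201841) (iv1 F179310) F319756 F323370 F88613
def n201842 : Q := act 6 n115098
theorem D201842 : act 6 n115098 = n201842 := rfl
theorem F422016 : act 2 n201842 = n115100 := d3_1 D201842 (iv6 D115100) D115098
theorem F422017 : act 3 n201842 = n130686 := d7_1 D201842 (iv6 D130686) (iv3 F179231)
theorem F422018 : act 4 n201842 = n135512 := d10_1 D201842 (iv6 D135512) (iv4 F179232)
theorem F422019 : act 7 n201842 = n195566 := d14_2 F179309 D201842 (iv6 D195566) F162385 (iv6 F324716)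
def n201843 : Q := act 0 n115100
theorem D201843 : act 0 n115100 = n201843 := rfl
theorem F422020 : act 1 n195566 = n201843 := d15_0 (iv0 D201843) (iv7 F365705) (iv2 F397372)
def n201844 : Q := act 5 n115100
theorem D201844 : act 5 n115100 = n201844 := rfl
theorem F422021 : act 3 n201844 = n115104 := d6_1 D201844 (iv5 D115104) (iv3 F179234)
theorem F422022 : act 6 n201844 = n133715 := d12_2 D115100 D201844 (iv5 F340669) (iv6 F327108) (iv5 D115099)
theorem F422023 : act 4 n201844 = n197162 := d18_5 (iv1 F258994) (iv4 F364326) (iv1 D135517) (iv4 F179235) D201844 (iv0 F403342) (iv4 F364269) (iv0 F372535) F165949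
def n201845 : Q := act 3 n115103
theorem D201845 : act 3 n115103 = n201845 := rfl
theorem F422024 : act 4 n201845 = n134146 := d5_2 (iv4 F179246) D201845 (iv3 D134146) F171517 F171519
theorem F422025 : act 7 n201845 = n130701 := d8_2 (iv7 F179244) D201845 (iv3 D130701)
theorem F422026 : act 0 n201845 = n189565 := d19_4 D105281 F166222 (iv4 F179246) D201845 (iv5 D189565) D189564 (iv3 F376900) (iv1 F381949) (iv5 D189397) F144769 (iv3 F144766) (iv1 F175839) (iv5 F103899) (iv4 F364798) (iv3 D125792) (iv1 F332773) (iv5 D105290) F76588 (iv3 F76578)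
theorem F422027 : act 6 n187685 = n201845 := d14_5 F422025 (iv6 F214060) (iv7 F217933) (iv6 F374747) F374758
theorem F422028 : act 0 n187656 = n201845 := d21_4 (iv5 D76522) D76520 (iv5 F139183) D187656 (iv6 F422027) F371183 (iv1 D152354) (iv5 F230217) (iv6 D146841) F114702
def n201846 : Q := act 6 n115103
theorem D201846 : act 6 n115103 = n201846 := rfl
theorem F422029 : act 2 n201846 = n130705 := d3_1 D201846 (iv6 D130705) F179245
theorem F422030 : act 3 n201846 = n187685 := d7_1 D201846 F422027 (iv3 D201845)
theorem F422031 : act 4 n201846 = n197082 := d10_1 D201846 (iv6 D197082) (iv4 F179246)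
theorem F422032 : act 5 n201846 = n144912 := d12_1 D201846 (iv6 D144912) D144911 F345017 F216450
theorem F422033 : act 7 n201846 = n135526 := d14_2 (iv7 F179244) D201846 (iv6 D135526) F170694 (iv6 F179242)
theorem F422034 : act 0 n201846 = n135875 := d21_4 D63191 D134501 F216450 D201846 (iv6 F326337) (iv5 F183968) (iv1 F145644) F344371 (iv6 F179265) (iv1 D63190)
theorem F422035 : act 1 n201846 = n135470 := d15_1 (iv0 F422034) F217828 (iv2 F218544)
def n201847 : Q := act 3 n115106
theorem D201847 : act 3 n115106 = n201847 := rfl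
theorem F422036 : act 2 n201847 = n135059 := d0_1 D201847 (iv3 F382140) F382139 (iv3 F349015) F218077
theorem F422037 : act 5 n201847 = n121368 := d6_2 F335034 D201847 F349074
theorem F422038 : act 7 n201847 = n135064 := d8_2 (iv7 F218079) D201847 F217296
theorem F422039 : act 4 n201847 = n134781 := d20_6 (iv4 D12236) D12235 D25768 D53116 D115106 D201847 (iv1 D134781) F98610 (iv3 D53125) (iv1 D25771)
def n201848 : Q := act 6 n115106
theorem D201848 : act 6 n115106 = n201848 := rfl
theorem F422040 : act 2 n201848 = n146372 := d3_1 D201848 F349018 F218077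
theorem F422041 : act 4 n201848 = n146434 := d10_1 D201848 (iv6 F336806) (iv4 F218078)
theorem F422042 : act 7 n201848 = n135541 := d14_2 (iv7 F218079) D201848 (iv6 D135541) F333491 (iv6 F335885)
theorem F422043 : act 0 n201848 = n146371 := d21_4 D115099 (iv1 F349085) F335034 D201848 (iv6 D146371) (iv5 F229679) F229680 (iv5 D68665) D68666 (iv1 F325874)
theorem F422044 : act 5 n201848 = n186490 := d21_6 (iv5 D100341) (iv1 F290204) (iv5 F349113) (iv6 D115110) D115106 D201848 (iv1 F370306) (iv5 F371352) (iv6 D187732) (iv1 F349112)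
theorem F422045 : act 0 n117303 = n201848 := d21_4 (iv5 D106235) F77502 D54064 D117303 (iv6 D201848) (iv5 F335034) (iv1 D176020) (iv5 F319756) F324716 (iv1 F163258)
def n201849 : Q := act 4 n115109
theorem D201849 : act 4 n115109 = n201849 := rfl
theorem F422046 : act 2 n201849 = n127479 := d1_1 D201849 F339436 F349124
theorem F422047 : act 3 n201849 = n127483 := d5_1 D201849 F230937 F339418 F166032 (iv3 F179254)
theorem F422048 : act 6 n201849 = n128313 := d10_2 (iv6 F349087) D201849 (iv4 F333305)
theorem F422049 : act 7 n201849 = n127478 := d11_2 F179341 D201849 (iv4 F339804)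
theorem F422050 : act 5 n201849 = n139951 := d16_7 F321567 F359470 (iv4 D135551) (iv5 D63735) (iv4 F83847) D115109 D201849 F334139 F221149
theorem F422051 : act 0 n201849 = n127471 := d17_0 F204895 F191342 D149347 F335187 F336870 F179306 F339420 (iv0 F349118) D201849
theorem F422052 : act 1 n201849 = n127480 := d18_6 F218118 (iv4 D135544) (iv1 D63733) (iv4 F83847) D115109 D201849 F336869 (iv0 F355825) (iv5 F335173)
def n201850 : Q := act 6 n115113
theorem D201850 : act 6 n115113 = n201850 := rfl
theorem F422053 : act 2 n201850 = n134474 := d3_1 D201850 (iv6 D134474) F203392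
theorem F422054 : act 3 n201850 = n188739 := d7_1 D201850 (iv6 D188739) F349134
theorem F422055 : act 5 n201850 = n130948 := d12_1 D201850 (iv6 F354420) (iv5 F349150) (iv6 F291267) (iv5 F349136)
theorem F422056 : act 7 n201850 = n134499 := d14_2 (iv7 F203393) D201850 (iv6 D134499) (iv7 F171907) (iv6 F203394)
theorem F422057 : act 0 n201850 = n115489 := d21_4 (iv5 F145639) F145642 (iv5 F349136) D201850 F327480 (iv5 D54111) F41563 D26193 D54129 (iv1 F183971)
theorem F422058 : act 0 n115493 = n201850 := d21_4 (iv5 F338685) F338681 F328385 (iv6 F179791) (iv6 D201850) F349136 (iv1 F145643) F183968 F326337 (iv1 F338688)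
def n201851 : Q := act 4 n115117
theorem D201851 : act 4 n115117 = n201851 := rfl
theorem F422059 : act 2 n201851 = n134481 := d1_1 D201851 (iv4 D134481) (iv2 F179272)
theorem F422060 : act 6 n201851 = n199949 := d10_2 (iv6 F179274) D201851 (iv4 D199949)
theorem F422061 : act 7 n201851 = n134485 := d11_2 (iv7 F179275) D201851 (iv4 D134485)
theorem F422062 : act 0 n201851 = n156156 := d17_0 (iv5 F386206) F386204 (iv5 D155988) F110981 F53393 D62495 (iv5 F111491) (iv0 F179276) D201851
theorem F422063 : act 1 n201851 = n196662 := d18_6 (iv1 D126454) F93580 F179270 (iv4 D115116) D115117 D201851 F401397 (iv0 F397288) F204304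
def n201852 : Q := act 3 n115118
theorem D201852 : act 3 n115118 = n201852 := rfl
theorem F422064 : act 4 n201852 = n132559 := d5_2 D115118 D201852 (iv3 D132559) (iv4 F179219) (iv3 F179218)
theorem F422065 : act 6 n201852 = n201081 := d7_2 (iv6 F363765) D201852 (iv3 D201081)
theorem F422066 : act 7 n201852 = n134479 := d8_2 (iv7 F179279) D201852 (iv3 D134479)
theorem F422067 : act 0 n201852 = n115142 := d19_4 F111493 F84188 D115118 D201852 (iv5 F338623) F139380 (iv3 F154402) (iv1 F154394) D104229 F328699 D176587 F383146 (iv5 D191347) F309895 (iv3 D74865) (iv1 D34305) D34306 (iv4 F311301) (iv3 F111490)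
theorem F422068 : act 0 n132559 = n187718 := d20_7 F384470 F384469 (iv4 F332656) F332655 (iv1 F179386) D201852 F422064 (iv4 D187718) (iv3 F371129) (iv1 F374681)
theorem F422069 : act 0 n187667 = n132559 := d20_1 D187667 (iv4 F422064) (iv3 D201852) F179280 (iv3 F333514) F333515 (iv1 F417390) F417389 (iv3 F374528) (iv1 D187666)
theorem F422070 : act 0 n187741 = n201852 := d20_4 D193994 (iv1 F391678) F391679 (iv3 F371385) (iv3 D201852) (iv4 D115118) (iv1 D53120) (iv4 F83850) (iv3 F179255) (iv1 F361066)
def n201853 : Q := act 5 n115118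
theorem D201853 : act 5 n115118 = n201853 := rfl
theorem F422071 : act 2 n201853 = n134483 := d2_1 D201853 (iv5 D134483) (iv2 F179278)
theorem F422072 : act 7 n201853 = n134480 := d13_2 (iv7 F179279) D201853 (iv5 D134480)
theorem F422073 : act 0 n201853 = n189631 := d17_2 (iv1 F179386) D201853 F377201 F213986 (iv5 F397287) (iv0 F397288) F204304 F404665 F404662
theorem F422074 : act 4 n201853 = n185174 := d17_4 F335794 (iv5 F363751) (iv1 F179386) D201853 F344330 (iv0 D183852) (iv5 D87703) D87701 (iv4 F335796)
theorem F422075 : act 6 n201853 = n194663 := d21_3 (iv5 F363751) (iv1 F179386) D201853 F394005 F383909 F377372 F371467 (iv5 F363896) (iv6 F335797) F335794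
def n201854 : Q := act 4 n115129
theorem D201854 : act 4 n115129 = n201854 := rfl
theorem F422076 : act 2 n201854 = n135291 := d1_1 D201854 F217528 F208442
theorem F422077 : act 6 n201854 = n195154 := d10_2 (iv6 F336802) D201854 (iv4 D195154)
theorem F422078 : act 7 n201854 = n135026 := d11_2 F208444 D201854 F217258
theorem F422079 : act 3 n201854 = n134770 := d20_3 (iv4 F179372) (iv1 F179376) D201854 (iv1 F216845) (iv3 F328746) (iv4 F328937) (iv1 F164215) (iv4 F363958) (iv3 F363961) (iv1 F216881)
def n201855 : Q := act 4 n115131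
theorem D201855 : act 4 n115131 = n201855 := rfl
theorem F422080 : act 3 n201855 = n199363 := d5_1 D201855 F411859 F336292 F166016 (iv3 F179291)
theorem F422081 : act 5 n201855 = n199361 := d17_5 (iv1 F336797) (iv5 F327306) (iv1 D115129) D115131 D201855 F411880 (iv5 F356864) F242368 F238469
theorem F422082 : act 0 n146825 = n201855 := d21_10 F422081 F411879 (iv5 F352972) F349067 F288508 (iv6 F361656) F361655 (iv1 F418372) (iv5 D146824) D146825
def n201856 : Q := act 7 n115135
theorem D201856 : act 7 n115135 = n201856 := rfl
theorem F422083 : act 2 n201856 = n201072 := d4_1 D201856 F418982 F179401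
theorem F422084 : act 5 n201856 = n115136 := d13_1 D201856 (iv7 D115136) D115135
theorem F422085 : act 1 n133230 = n201856 := d15_1 (iv0 F214072) (iv7 D201856) (iv2 F179401)
theorem F422086 : act 1 n201856 = n133232 := d15_1 F422085 (iv7 F217956) F217955
def n201857 : Q := act 3 n115138
theorem D201857 : act 3 n115138 = n201857 := rfl
theorem F422087 : act 2 n201857 = n135646 := d0_1 D201857 F218138 F327777 (iv3 F327781) D115138
theorem F422088 : act 4 n201857 = n135645 := d5_2 F355358 D201857 F218134 F218101 F355361
theorem F422089 : act 5 n201857 = n117372 := d6_2 (iv5 F335155) D201857 (iv3 F339791)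
theorem F422090 : act 7 n201857 = n115144 := d8_2 F179297 D201857 (iv3 D115144)
theorem F422091 : act 0 n201857 = n135539 := d20_10 (iv4 D135539) (iv1 F99225) (iv4 F179335) F179334 F97218 (iv3 F326068) F203659 D126612 F355358 D201857
theorem F422092 : act 0 n135544 = n201857 := d20_4 (iv4 F342944) F419251 F419248 F333236 (iv3 D201857) (iv4 F355358) (iv1 F203662) (iv4 F397704) F397703 F251393
theorem F422093 : act 6 n201857 = n187737 := d21_5 (iv5 F323481) (iv1 F99297) D135605 (iv6 F333233) F422092 (iv5 D187737) (iv1 F139323) (iv5 F139334) (iv6 F319935) (iv1 F321769)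
def n201858 : Q := act 6 n115138
theorem D201858 : act 6 n115138 = n201858 := rfl
theorem F422094 : act 2 n201858 = n115142 := d3_1 D201858 (iv6 D115142) D115138
theorem F422095 : act 3 n201858 = n187737 := d7_1 D201858 (iv6 F422093) (iv3 D201857)
theorem F422096 : act 5 n201858 = n187494 := d12_1 D201858 F370573 (iv5 D159786) (iv6 F338546) (iv5 F335155)
theorem F422097 : act 7 n187741 = n201858 := d13_0 F422096 F370576 D187741
theorem F422098 : act 0 n201858 = n134479 := d20_4 F374579 D201088 F419045 (iv3 F422095) (iv3 D134479) (iv4 D63168) (iv1 F83857) (iv4 F179261) F359553 (iv1 F374573)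
def n201859 : Q := act 3 n115140
theorem D201859 : act 3 n115140 = n201859 := rfl
def n201860 : Q := act 6 n115140
theorem D201860 : act 6 n115140 = n201860 := rfl
theorem F422099 : act 4 n201860 = n115142 := d10_1 D201860 (iv6 D115142) D115140
theorem F422100 : act 0 n201860 = n189769 := d20_1 (iv4 F422099) (iv4 D189769) F145633 F69489 (iv3 F321702) F98431 (iv1 F83853) D115118 D201852 F422067
def n201861 : Q := act 0 n115142
theorem D201861 : act 0 n115142 = n201861 := rfl
theorem F422101 : act 5 n201861 = n189609 := d17_3 (iv1 F290314) F338623 D201861 F377104 F368134 F365617 (iv5 D101375) F290140 (iv4 F134948)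
theorem F422102 : act 2 n134479 = n201861 := d15_3 (iv0 D201861) (iv0 F422067) F422066
theorem F422103 : act 3 n201861 = n185855 := d0_2 D134479 F422102 F344296 (iv3 F349137) F179267
theorem F422104 : act 6 n201861 = n135636 := d3_2 F365388 F422102 (iv2 F378534)
theorem F422105 : act 0 n201861 = n187741 := d21_10 (iv5 D187741) F363855 (iv5 F177082) (iv6 D113809) (iv1 F106062) D148704 F233474 (iv1 F379691) F379690 (iv6 F422104)
theorem F422106 : act 0 n193992 = n196221 := d20_10 F399958 D196223 F399968 (iv3 F422103) F422105 F371385 (iv4 F391679) (iv1 D113898) (iv4 F349120) D193992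
def n201862 : Q := act 7 n115142
theorem D201862 : act 7 n115142 = n201862 := rfl
theorem F422107 : act 2 n201862 = n187741 := d4_1 D201862 F422097 F422094
theorem F422108 : act 3 n201862 = n185866 := d8_1 D201862 F288311 (iv3 F363916)
theorem F422109 : act 5 n201862 = n185865 := d13_1 D201862 F288307 F338623
theorem F422110 : act 0 n134479 = n201862 := d19_0 F422109 F288306 (iv3 F154400) (iv1 D87743) D87744 F329090 (iv3 F342304) F342311 (iv5 D119596) F311239 F112226 (iv1 F308189) (iv5 F310192) F84517 (iv3 F102020) F98434 (iv5 D63169) D63168 D134479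
theorem F422111 : act 6 n201070 = n201862 := d21_5 (iv5 D59837) (iv1 F51370) (iv5 F83083) D113845 D201070 F422109 (iv1 F290177) (iv5 F233465) (iv6 D148701) (iv1 F106049)
def n201863 : Q := act 6 n115143
theorem D201863 : act 6 n115143 = n201863 := rfl
theorem F422112 : act 2 n201863 = n115147 := d3_1 D201863 (iv6 D115147) (iv2 F179298)
theorem F422113 : act 3 n201863 = n159584 := d7_1 D201863 (iv6 F327787) (iv3 F203439)
theorem F422114 : act 5 n201863 = n145025 := d12_1 D201863 (iv6 D145025) F104096 D117189 F338625
theorem F422115 : act 7 n201863 = n201070 := d14_2 D115143 D201863 F422111 (iv7 D201862) (iv6 D115142)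
theorem F422116 : act 0 n201863 = n201066 := d21_4 F322394 F232608 F338625 D201863 (iv6 D201066) F177135 F97650 (iv5 F104871) (iv6 F338616) (iv1 D133436)
theorem F422117 : act 1 n201863 = n201071 := d15_1 (iv0 F422116) (iv7 D201071) (iv2 F418960)
def n201864 : Q := act 6 n115144
theorem D201864 : act 6 n115144 = n201864 := rfl
theorem F422118 : act 2 n201864 = n195168 := d3_1 D201864 (iv6 F396070) F218117
theorem F422119 : act 3 n201864 = n115147 := d7_1 D201864 (iv6 D115147) D115144
theorem F422120 : act 7 n201864 = n187743 := d14_2 F422090 D201864 (iv6 D187743) (iv7 F371374) (iv6 F422093)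
theorem F422121 : act 0 n201864 = n146418 := d21_4 F359578 (iv1 F339432) F338626 D201864 (iv6 D146418) F104855 (iv1 D34892) D34893 (iv6 F114482) (iv1 F359577)
theorem F422122 : act 1 n201864 = n195169 := d15_1 (iv0 F422121) (iv7 D195169) (iv2 F229746)
def n201865 : Q := act 5 n115145
theorem D201865 : act 5 n115145 = n201865 := rfl
theorem F422123 : act 3 n201865 = n201816 := d6_1 D201865 F421889 F211711
theorem F422124 : act 4 n201865 = n124146 := d9_1 D201865 F361476 F185733 (iv5 F227912) F355272 F328238 D115140 F338629 (iv4 D150130) (iv5 D70660) (iv4 F55387) D76546 (iv4 F114773) (iv5 F338624) D115145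
theorem F422125 : act 7 n201865 = n201815 := d13_2 (iv7 F355360) D201865 (iv5 F421884)
theorem F422126 : act 1 n201865 = n192992 := d17_6 F355262 F355261 F233097 (iv5 F338624) D115145 D201865 F388460 (iv0 F355269) (iv4 D148698)
theorem F422127 : act 0 n201865 = n192994 := d18_0 (iv4 D192994) (iv1 D101080) D101081 F347623 (iv4 F374639) (iv0 F374642) F203452 (iv0 F326944) D201865
def n201866 : Q := act 6 n115145
theorem D201866 : act 6 n115145 = n201866 := rfl
theorem F422128 : act 4 n201866 = n115147 := d10_1 D201866 (iv6 D115147) D115145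
theorem F422129 : act 0 n201866 = n127382 := d21_4 (iv5 F388460) (iv1 F422126) (iv5 D201865) D201866 (iv6 D127382) D127381 (iv1 F231955) F231957 (iv6 F233454) F355269
theorem F422130 : act 5 n182421 = n201866 := d17_1 F383893 F422129 (iv5 F344984) (iv4 D98606) D98607 (iv0 F371291) (iv5 F371292) F367764 D191578
def n201867 : Q := act 1 n115147
theorem D201867 : act 1 n115147 = n201867 := rfl
theorem F422131 : act 1 n201867 = n201070 := d15_1 D201867 (iv7 F422115) F422112
theorem F422132 : act 7 n201867 = n201066 := d15_2 (iv0 F355406) D201867 F418960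
theorem F422133 : act 2 n201071 = n201867 := d4_3 F422132 F418960 D201071
theorem F422134 : act 6 n135627 = n201867 := d14_5 F422132 (iv6 D201066) F177136 (iv6 F363818) F363819
def n201868 : Q := act 7 n115147
theorem D201868 : act 7 n115147 = n201868 := rfl
theorem F422135 : act 2 n201868 = n201070 := d4_1 D201868 (iv7 F422115) F422112
theorem F422136 : act 3 n201868 = n187743 := d8_1 D201868 (iv7 F422120) F422119
theorem F422137 : act 6 n201868 = n187741 := d14_1 D201868 F422097 (iv6 D201858) (iv7 F179297) D115147
theorem F422138 : act 1 n201071 = n201868 := d15_1 F422117 (iv7 D201868) (iv2 F422112)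
theorem F422139 : act 1 n201868 = n201066 := d15_1 F422138 (iv7 F422132) (iv2 F422133)
def n201869 : Q := act 3 n115158
theorem D201869 : act 3 n115158 = n201869 := rfl
theorem F422140 : act 4 n201869 = n190318 := d5_2 F413007 D201869 F379371 F244975 (iv3 F413004)
theorem F422141 : act 6 n201869 = n164618 := d7_2 (iv6 F413009) D201869 (iv3 F290481)
theorem F422142 : act 7 n201869 = n189291 := d8_2 F413010 D201869 F376340
theorem F422143 : act 0 n201869 = n201586 := d20_4 F335994 F413006 F413007 D201869 F421041 F341044 (iv1 F341091) F335048 F341094 (iv1 F327114)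
theorem F422144 : act 0 n164628 = n201869 := d18_0 F422140 (iv1 F390788) D193729 F390803 F332604 (iv0 F418720) F418719 D201011 (iv5 F418727)
def n201870 : Q := act 5 n115158
theorem D201870 : act 5 n115158 = n201870 := rfl
theorem F422145 : act 2 n201870 = n201527 := d2_1 D201870 F420866 (iv2 F413008)
theorem F422146 : act 7 n201870 = n201526 := d13_2 F413010 D201870 F420863
theorem F422147 : act 0 n201870 = n201525 := d17_2 D115158 D201870 (iv5 D201525) (iv4 F323416) F321799 (iv0 F336468) F336470 (iv0 F336476) F166379
theorem F422148 : act 1 n201870 = n201509 := d17_6 F258993 F334714 D178333 (iv5 F413005) F413007 D201870 (iv5 D201509) F258998 (iv4 F177580)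
def n201871 : Q := act 4 n115159
theorem D201871 : act 4 n115159 = n201871 := rfl
theorem F422149 : act 3 n201871 = n178247 := d5_1 D201871 (iv4 F333968) (iv3 F289358) (iv4 F336807) F357772
theorem F422150 : act 7 n201871 = n152481 := d11_2 (iv7 F413011) D201871 (iv4 F356621)
theorem F422151 : act 0 n201871 = n178368 := d17_0 (iv5 F395179) (iv1 F395180) (iv5 D152191) F108250 F329785 (iv0 D63782) (iv5 F83861) D115159 D201871
theorem F422152 : act 5 n201871 = n178245 := d18_4 F348624 F348626 (iv1 F179443) D201871 (iv4 F369705) (iv0 F369709) (iv4 D166408) (iv0 F336468) F336470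
def n201872 : Q := act 5 n115159
theorem D201872 : act 5 n115159 = n201872 := rfl
theorem F422153 : act 2 n201872 = n201526 := d2_1 D201872 F420863 F413012
theorem F422154 : act 3 n201872 = n187749 := d6_1 D201872 F371393 F357772
theorem F422155 : act 7 n201872 = n201527 := d13_2 (iv7 F413011) D201872 F420866
theorem F422156 : act 0 n201872 = n201509 := d17_2 (iv1 F179443) D201872 (iv5 D201509) (iv4 F336452) (iv5 D121723) D121720 (iv5 F403241) F403239 F348626
theorem F422157 : act 1 n201872 = n201525 := d17_6 F398497 F398495 (iv1 F353505) (iv5 F422152) (iv4 D201871) D201872 (iv5 D201525) F258996 (iv4 F239275)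
theorem F422158 : act 6 n201872 = n187747 := d21_3 (iv5 F179441) (iv1 F179443) D201872 (iv1 F371391) (iv6 D113809) (iv5 D52554) F77057 D32009 F329786 (iv1 F99354)
def n201873 : Q := act 6 n115159
theorem D201873 : act 6 n115159 = n201873 := rfl
theorem F422159 : act 2 n201873 = n189288 := d3_1 D201873 F376337 F413012
theorem F422160 : act 3 n201873 = n159748 := d7_1 D201873 F336808 F357772
theorem F422161 : act 7 n201873 = n189283 := d14_2 (iv7 F413011) D201873 (iv6 F376326) (iv7 F347809) F356622
theorem F422162 : act 5 n201873 = n159746 := d21_6 F338602 (iv1 F233217) (iv5 F383059) F383060 (iv1 F179443) D201873 F283525 (iv5 F342999) F342991 (iv1 F338600)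
def n201874 : Q := act 6 n115163
theorem D201874 : act 6 n115163 = n201874 := rfl
theorem F422163 : act 2 n201874 = n187754 := d3_1 D201874 F371409 (iv2 F339430)
theorem F422164 : act 4 n201874 = n117341 := d10_1 D201874 F183753 (iv4 F339427)
theorem F422165 : act 7 n201874 = n117338 := d14_2 (iv7 F339429) D201874 (iv6 D117338) F85344 D68666
theorem F422166 : act 0 n187750 = n201874 := d21_4 F361067 F367373 F367318 (iv6 F371400) (iv6 D201874) F339428 (iv1 F349123) (iv5 D115109) D115110 (iv1 F361066)
theorem F422167 : act 1 n187751 = n201874 := d15_0 (iv0 F422166) (iv7 F371399) F371402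
def n201875 : Q := act 6 n115175
theorem D201875 : act 6 n115175 = n201875 := rfl
theorem F422168 : act 2 n201875 = n175930 := d3_1 D201875 (iv6 D175930) (iv2 F339803)
theorem F422169 : act 3 n201875 = n115177 := d7_1 D201875 (iv6 D115177) (iv3 F179340)
theorem F422170 : act 4 n201875 = n137904 := d10_1 D201875 (iv6 F339798) (iv4 F339804)
theorem F422171 : act 7 n201875 = n155325 := d14_2 (iv7 F179341) D201875 (iv6 D155325) (iv7 F333306) (iv6 F349087)
theorem F422172 : act 0 n201875 = n143212 := d21_4 F349011 (iv1 D115173) D115175 D201875 F226046 (iv5 F215190) F215191 F363494 (iv6 F335188) (iv1 F349008)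
theorem F422173 : act 0 n142671 = n201875 := d18_0 F422170 F339797 F339796 (iv5 F355700) (iv4 D151657) (iv0 D71473) D71475 D151666 (iv5 F355732)
def n201876 : Q := act 5 n115176
theorem D201876 : act 5 n115176 = n201876 := rfl
theorem F422174 : act 3 n201876 = n115180 := d6_1 D201876 (iv5 D115180) (iv3 F179342)
def n201877 : Q := act 0 n115187
theorem D201877 : act 0 n115187 = n201877 := rfl
theorem F422175 : act 3 n201877 = n130800 := d20_5 (iv4 F166302) (iv1 F166303) (iv4 F83918) (iv3 F179377) D201877 F317532 (iv1 F127960) F315830 F97230 (iv1 F95793)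
theorem F422176 : act 5 n201877 = n130799 := d21_0 F328831 F227812 (iv6 F114537) (iv1 F114539) D151570 (iv5 F288144) (iv1 F288153) (iv5 D159701) (iv6 F335480) D201877
theorem F422177 : act 2 n159741 = n201877 := d15_3 (iv0 D201877) (iv0 F364734) (iv7 F347570)
theorem F422178 : act 1 n159744 = n201877 := d15_0 (iv0 D201877) F179378 (iv2 F347573)
theorem F422179 : act 7 n201877 = n151524 := d15_2 F364735 F422178 (iv2 F335491)
def n201878 : Q := act 4 n115187
theorem D201878 : act 4 n115187 = n201878 := rfl
theorem F422180 : act 2 n201878 = n159739 := d1_1 D201878 F251684 (iv2 F335479)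
theorem F422181 : act 3 n201878 = n123724 := d5_1 D201878 (iv4 F345976) F166326 (iv4 F83918) (iv3 F179377)
theorem F422182 : act 6 n201878 = n123721 := d10_2 (iv6 F335480) D201878 F354948
theorem F422183 : act 7 n201878 = n201855 := d11_2 (iv7 F179378) D201878 (iv4 D201855)
theorem F422184 : act 5 n201878 = n199290 := d16_1 D201878 F411498 F391828 F372593 (iv5 F332671) F216883 F347574 (iv7 D159744) (iv2 F335479)
def n201879 : Q := act 4 n115195
theorem D201879 : act 4 n115195 = n201879 := rfl
theorem F422185 : act 3 n201879 = n197119 := d5_1 D201879 (iv4 D197119) F166299 (iv4 F83923) (iv3 F179395)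
theorem F422186 : act 6 n201879 = n155972 := d10_2 F398823 D201879 (iv4 F398825)
theorem F422187 : act 7 n201879 = n190269 := d11_2 (iv7 F179396) D201879 F379251
theorem F422188 : act 0 n201879 = n190371 := d17_0 (iv5 D190371) F356964 (iv5 D164623) F120357 (iv5 F82946) D113754 D201024 (iv0 F418788) D201879
def n201880 : Q := act 0 n115197
theorem D201880 : act 0 n115197 = n201880 := rfl
theorem F422189 : act 5 n201880 = n117011 := d17_1 D201880 (iv1 F355227) (iv5 D151622) D151621 (iv5 F346402) (iv0 F205312) (iv5 F403158) (iv0 D197126) (iv4 F179400)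
theorem F422190 : act 4 n201880 = n142442 := d18_1 D201880 (iv1 F225357) (iv4 F330317) F330318 (iv4 D142480) (iv0 D66803) D66805 D142486 (iv5 F331692)
theorem F422191 : act 3 n201880 = n116407 := d20_5 F364256 D155972 (iv4 F398825) F398822 D201880 (iv4 D116407) (iv1 F84651) D66950 D142835 (iv1 F364253)
theorem F422192 : act 2 n117181 = n201880 := d15_3 (iv0 D201880) F331691 (iv7 F183337)
theorem F422193 : act 7 n201880 = n142776 := d4_2 (iv7 F183337) F422192 F225674
theorem F422194 : act 1 n145897 = n201880 := d15_1 D145897 F422193 F225674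
def n201881 : Q := act 7 n115197
theorem D201881 : act 7 n115197 = n201881 := rfl
theorem F422195 : act 2 n201881 = n145897 := d4_1 D201881 (iv7 F342990) (iv2 F179399)
theorem F422196 : act 3 n201881 = n189293 := d8_1 D201881 (iv7 F398824) F398822
theorem F422197 : act 4 n201881 = n144515 := d11_1 D201881 (iv7 F331690) (iv4 F179400)
theorem F422198 : act 5 n201881 = n144548 := d13_1 D201881 F227410 (iv5 F331692)
theorem F422199 : act 6 n201881 = n159720 := d14_1 D201881 (iv7 F343004) (iv6 D115125) (iv7 F83924) D115197
theorem F422200 : act 1 n142776 = n201881 := d15_1 F363060 (iv7 D201881) F179399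
theorem F422201 : act 1 n201881 = n117181 := d15_1 F422200 F183337 (iv2 F225674)
def n201882 : Q := act 4 n115198
theorem D201882 : act 4 n115198 = n201882 := rfl
theorem F422202 : act 2 n201882 = n144507 := d1_1 D201882 F363063 (iv2 F179401)
theorem F422203 : act 6 n201882 = n117061 := d10_2 F363061 D201882 (iv4 F225394)
theorem F422204 : act 1 n201882 = n199858 := d18_6 (iv1 F179357) (iv4 F173181) (iv1 D60609) (iv4 F83926) D115198 D201882 (iv4 F413837) (iv0 F359557) (iv5 F359554)
def n201883 : Q := act 3 n115203
theorem D201883 : act 3 n115203 = n201883 := rfl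
theorem F422205 : act 2 n201883 = n132064 := d0_1 D201883 (iv3 D132064) (iv2 D61970) D61971 (iv2 F211593)
theorem F422206 : act 4 n201883 = n134540 := d5_2 D115203 D201883 (iv3 F368894) F368895 F335808
theorem F422207 : act 7 n201883 = n132091 := d8_2 F382371 D201883 (iv3 F382374)
theorem F422208 : act 0 n201883 = n132007 := d20_4 (iv4 F40734) D53154 D115203 D201883 (iv3 D132007) D132008 (iv1 F399980) (iv4 D196226) (iv3 D106789) (iv1 D49343)
theorem F422209 : act 0 n132089 = n201883 := d20_4 D106840 (iv1 F400077) (iv4 F400078) (iv3 F399336) (iv3 D201883) (iv4 D115203) D115200 F179409 (iv3 F164639) (iv1 F164641)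
def n201884 : Q := act 5 n115203
theorem D201884 : act 5 n115203 = n201884 := rfl
theorem F422210 : act 2 n201884 = n132071 := d2_1 D201884 (iv5 D132071) (iv2 F211593)
theorem F422211 : act 4 n201884 = n170410 := d16_2 D115203 D201884 (iv5 D170410) (iv4 D81704) D81705 (iv4 F348994) (iv5 D115209) F179412 (iv2 D115201)
theorem F422212 : act 0 n201884 = n200737 := d18_0 F417717 F379176 D190772 F380993 (iv4 F399963) (iv0 F399966) (iv4 F382383) F382386 D201884
def n201885 : Q := act 0 n115204
theorem D201885 : act 0 n115204 = n201885 := rfl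
theorem F422213 : act 5 n201885 = n130654 := d17_1 D201885 (iv1 F214574) F319744 (iv4 F335819) (iv5 F311002) (iv0 D117207) F317832 (iv0 F335856) (iv4 F339805)
theorem F422214 : act 4 n201885 = n142631 := d18_1 D201885 F335121 (iv4 F225722) (iv5 F358365) (iv4 D106790) F164587 (iv4 F179409) (iv0 D115200) D115204
theorem F422215 : act 3 n201885 = n145929 := d20_5 (iv4 F391106) (iv1 D193824) F367268 F335811 D201885 (iv4 D145929) (iv1 D68425) (iv4 F104610) (iv3 F229115) F355276
theorem F422216 : act 2 n130655 = n201885 := d15_3 (iv0 D201885) (iv0 F348979) F214577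
theorem F422217 : act 1 n115209 = n201885 := d15_0 (iv0 D201885) (iv7 F382111) F382109
theorem F422218 : act 7 n201885 = n176368 := d15_2 (iv0 F348992) F422217 (iv2 F335840)
theorem F422219 : act 6 n140740 = n201885 := d14_5 F422218 F335142 (iv7 F206218) F349006 F225104
def n201886 : Q := act 5 n115208
theorem D201886 : act 5 n115208 = n201886 := rfl
theorem F422220 : act 3 n201886 = n132083 := d6_1 D201886 F211618 (iv3 F211587)
theorem F422221 : act 4 n201886 = n170428 := d9_1 D201886 (iv5 D170428) (iv4 D81709) D81710 (iv4 F339805) (iv5 D115204) D115203 D201884 F422211 (iv5 D170410) (iv4 D81704) D81705 (iv4 F348994) (iv5 D115209) D115208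
theorem F422222 : act 7 n201886 = n132071 := d13_2 (iv7 F211588) D201886 (iv5 D132071)
theorem F422223 : act 1 n201886 = n200737 := d17_6 (iv1 F214568) (iv5 F422213) (iv1 F422217) (iv5 D115209) D115208 D201886 (iv5 D200737) F382349 F382348
theorem F422224 : act 6 n201886 = n185727 := d21_3 (iv5 F382384) (iv1 F382385) D201886 (iv1 F327188) (iv6 F340296) F212104 (iv1 F211216) (iv5 F211217) F363608 (iv1 F332553)
def n201887 : Q := act 6 n115208
theorem D201887 : act 6 n115208 = n201887 := rfl
theorem F422225 : act 3 n201887 = n132088 := d7_1 D201887 (iv6 D132088) (iv3 F211587)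
theorem F422226 : act 4 n201887 = n115210 := d10_1 D201887 (iv6 D115210) D115208
theorem F422227 : act 5 n201887 = n189799 := d12_1 D201887 F380471 F382705 (iv6 F422224) (iv5 D201886)
theorem F422228 : act 0 n201887 = n169919 := d21_10 (iv5 D169919) F248748 F417712 (iv6 D200736) (iv1 D113393) D113394 D200737 (iv1 F422223) (iv5 D201886) D201887
def n201888 : Q := act 1 n115210
theorem D201888 : act 1 n115210 = n201888 := rfl
theorem F422229 : act 1 n201888 = n188765 := d15_1 D201888 (iv7 F419130) F419128
theorem F422230 : act 2 n135269 = n201888 := d15_3 F422229 (iv0 F418920) F418919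
theorem F422231 : act 4 n196229 = n201888 := d18_7 F363536 F147648 D96023 D190425 F398060 (iv4 F398063) D196229 F422229 F374777
theorem F422232 : act 2 n131997 = n196229 := d1_3 F422231 (iv2 F422230) F217478
theorem F422233 : act 3 n196229 = n196261 := d0_2 D131997 F422232 F400092 (iv3 F359006) F168398
theorem F422234 : act 3 n201888 = n201867 := d0_2 D135269 F422230 (iv2 F422133) F418978 F327982
theorem F422235 : act 6 n201888 = n135824 := d3_2 F218010 F422230 (iv2 F371510)
def n201889 : Q := act 3 n115214
theorem D201889 : act 3 n115214 = n201889 := rfl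
theorem F422236 : act 2 n201889 = n173672 := d0_1 D201889 (iv3 D173672) F151389 D83991 (iv2 F335822)
theorem F422237 : act 5 n201889 = n201042 := d6_2 F335834 D201889 F418851
theorem F422238 : act 7 n201889 = n159500 := d8_2 (iv7 F335823) D201889 F251176
theorem F422239 : act 0 n201889 = n150008 := d20_4 F382147 (iv1 F150007) (iv4 F348999) D201889 (iv3 D150008) D150009 (iv1 F336925) F148004 (iv3 F177503) (iv1 F382149)
theorem F422240 : act 4 n201889 = n201288 := d20_6 (iv4 F326284) (iv1 F83942) (iv4 D53161) (iv3 F83930) D115214 D201889 (iv1 F419872) (iv4 F336956) F336952 F325804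
theorem F422241 : act 0 n176050 = n201889 := d20_4 (iv4 F258865) (iv1 F349016) F336849 (iv3 F336872) (iv3 D201889) F348999 (iv1 D81713) D81714 (iv3 F349009) (iv1 D164236)
def n201890 : Q := act 6 n115214
theorem D201890 : act 6 n115214 = n201890 := rfl
theorem F422242 : act 2 n201890 = n176045 := d3_1 D201890 (iv6 D176045) (iv2 F335822)
theorem F422243 : act 4 n201890 = n148500 := d10_1 D201890 F313241 (iv4 F348999)
theorem F422244 : act 7 n201890 = n149423 := d14_2 (iv7 F335823) D201890 (iv6 D149423) F106611 D114551
theorem F422245 : act 0 n201890 = n201411 := d21_4 (iv5 D130655) D130652 F335834 D201890 (iv6 F420403) (iv5 F373968) F291659 (iv5 F145391) F327764 (iv1 F348990)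
theorem F422246 : act 0 n189231 = n189696 := d21_1 F420405 F377436 (iv6 D142084) D142080 (iv6 F349001) (iv5 D130655) D130652 F335834 D201890 F422245
theorem F422247 : act 1 n201890 = n164510 := d15_1 (iv0 F422245) F259269 (iv2 F420404)
def n201891 : Q := act 0 n115217
theorem D201891 : act 0 n115217 = n201891 := rfl
theorem F422248 : act 4 n201891 = n115865 := d18_1 D201891 F339623 (iv4 F233348) (iv5 F366676) D195777 F419225 F419223 (iv0 D135842) (iv5 F179421)
theorem F422249 : act 2 n140828 = n201891 := d15_3 (iv0 D201891) (iv0 F373974) F373973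
theorem F422250 : act 1 n119722 = n201891 := d15_0 (iv0 D201891) F327338 F190891
theorem F422251 : act 7 n201891 = n154038 := d15_2 (iv0 F373975) F422250 (iv2 F373970)
theorem F422252 : act 3 n187458 = n201891 := d8_3 F422251 (iv3 F290416) D187458
theorem F422253 : act 6 n115863 = n201891 := d14_5 F422251 F290415 (iv7 F142468) F321794 F180368
def n201892 : Q := act 5 n115221
theorem D201892 : act 5 n115221 = n201892 := rfl
theorem F422254 : act 2 n201892 = n133409 := d2_1 D201892 F214510 (iv2 F329179)
theorem F422255 : act 3 n201892 = n151574 := d6_1 D201892 F238466 (iv3 F329180)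
theorem F422256 : act 6 n201892 = n197081 := d12_2 D115221 D201892 (iv5 D197081) (iv6 D107624) (iv5 F83933)
theorem F422257 : act 7 n201892 = n120661 := d13_2 (iv7 F329181) D201892 (iv5 D120661)
theorem F422258 : act 0 n201892 = n133408 := d21_1 D201892 (iv5 F420784) (iv6 D201510) F258997 (iv6 F186264) (iv5 F420212) (iv1 F420214) (iv5 F355584) F355585 (iv1 F329178)
theorem F422259 : act 0 n133407 = n201892 := d20_4 (iv4 F164513) (iv1 F372129) (iv4 F378543) F378542 F422255 (iv4 F384231) F399770 (iv4 F399765) (iv3 D196184) (iv1 D106735)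
def n201893 : Q := act 4 n115227
theorem D201893 : act 4 n115227 = n201893 := rfl
theorem F422260 : act 2 n201893 = n201871 := d1_1 D201893 (iv4 D201871) (iv2 F413012)
theorem F422261 : act 7 n201893 = n199651 := d11_2 (iv7 F413010) D201893 F413007
theorem F422262 : act 5 n201893 = n200160 := d17_5 (iv1 D114774) D114777 D201526 F420863 D201893 (iv0 F415307) (iv5 F346412) (iv0 F352030) (iv4 F352031)
theorem F422263 : act 0 n201893 = n197098 := d17_0 F403032 (iv1 D194849) (iv5 F352036) F177580 (iv5 F336457) (iv0 D63879) (iv5 F83945) D115227 D201893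
theorem F422264 : act 3 n201893 = n199655 := d19_3 D201526 F420863 D201893 (iv1 F417670) F417673 F333811 D180231 F346960 F249453 F306316 F95671 (iv1 F303860) D36617 (iv4 F306716) (iv3 F98514) F102008 (iv5 F173721) F338660 (iv3 F178868)
def n201894 : Q := act 4 n115231
theorem D201894 : act 4 n115231 = n201894 := rfl
theorem F422265 : act 2 n201894 = n115343 := d1_1 D201894 (iv4 D115343) (iv2 F203960)
theorem F422266 : act 7 n201894 = n115338 := d11_2 (iv7 F203961) D201894 (iv4 D115338)
theorem F422267 : act 0 n201894 = n144452 := d20_1 D201894 F227255 (iv3 D139635) (iv1 D65536) (iv3 D30719) (iv4 D14559) (iv1 F20272) D25786 D53165 D115231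
def n201895 : Q := act 3 n115232
theorem D201895 : act 3 n115232 = n201895 := rfl
theorem F422268 : act 4 n201895 = n134196 := d5_2 F396816 D201895 (iv3 F347271) (iv4 F220072) D195357
theorem F422269 : act 7 n201895 = n115342 := d8_2 (iv7 F203963) D201895 (iv3 D115342)
theorem F422270 : act 0 n201895 = n136787 := d20_10 (iv4 D136787) (iv1 F218680) (iv4 F400897) F400896 (iv1 F179604) D139635 (iv4 F227255) F396818 F396816 D201895
theorem F422271 : act 5 n196656 = n201895 := d18_9 F422270 (iv4 D136787) (iv1 F218680) (iv4 F400897) F400898 (iv4 D116114) F331816 (iv4 F165182) D196656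
theorem F422272 : act 2 n115342 = n136911 := d15_3 (iv0 F220083) (iv0 F422270) F422269
theorem F422273 : act 4 n136910 = n115342 := d1_0 F422272 (iv4 D136911) D136910
theorem F422274 : act 3 n115462 = n196656 := d6_3 F422271 (iv3 D201895) (iv5 F360639)
theorem F422275 : act 1 n201895 = n136792 := d17_8 (iv1 D64311) F326903 F330989 (iv5 D64027) D64026 (iv5 F330554) D196656 F422271 (iv4 D136792)
def n201896 : Q := act 6 n115232
theorem D201896 : act 6 n115232 = n201896 := rfl
theorem F422276 : act 2 n201896 = n115340 := d3_1 D201896 (iv6 D115340) (iv2 F203962)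
def n201897 : Q := act 5 n115234
theorem D201897 : act 5 n115234 = n201897 := rfl
theorem F422277 : act 3 n201897 = n115236 := d6_1 D201897 (iv5 D115236) (iv3 F179455)
theorem F422278 : act 4 n201897 = n161401 := d16_2 F227214 D201897 F350670 F310625 F209794 (iv4 F241404) (iv5 F357030) F404305 (iv2 F404303)
theorem F422279 : act 1 n201897 = n119491 := d17_8 D119489 F343414 D131572 F403019 (iv4 F415916) (iv5 F415928) (iv0 F415930) D201897 (iv4 D119491)
theorem F422280 : act 7 n161925 = n201897 := d11_0 F422278 F255239 D161925
theorem F422281 : act 5 n200306 = n161925 := d13_3 F422280 (iv5 D201897) (iv7 F415923)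
def n201898 : Q := act 3 n115235
theorem D201898 : act 3 n115235 = n201898 := rfl
theorem F422282 : act 4 n201898 = n137096 := d5_2 (iv4 F179456) D201898 (iv3 D137096) F100366 D107489
theorem F422283 : act 5 n201898 = n178768 := d6_2 F351446 D201898 (iv3 F359945)
theorem F422284 : act 6 n201898 = n141410 := d7_2 F245180 D201898 (iv3 F330546)
theorem F422285 : act 7 n201898 = n115419 := d8_2 (iv7 F179458) D201898 (iv3 D115419)
def n201899 : Q := act 0 n115236
theorem D201899 : act 0 n115236 = n201899 := rfl
def n201900 : Q := act 1 n115236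
theorem D201900 : act 1 n115236 = n201900 := rfl
theorem F422286 : act 1 n201900 = n115424 := d15_1 D201900 (iv7 D115424) (iv2 F179460)
theorem F422287 : act 5 n201900 = n115519 := d17_7 F174283 (iv5 F161273) (iv1 F161279) (iv5 F40749) (iv4 F83956) D115236 D201900 (iv0 F414291) (iv4 D199949)
theorem F422288 : act 2 n115422 = n201900 := d2_3 F422287 F414472 F414468
theorem F422289 : act 7 n115421 = n201900 := d13_0 F422287 (iv7 F245334) (iv5 F245335)
theorem F422290 : act 6 n116638 = n201900 := d21_5 (iv5 F362576) F362574 (iv5 D53743) D53744 D116638 F422287 F351432 (iv5 F346902) F318443 F101431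
theorem F422291 : act 2 n115421 = n201899 := d15_3 (iv0 D201899) D201900 (iv7 F422289)
theorem F422292 : act 7 n201899 = n115422 := d4_2 (iv7 F422289) F422291 F422288
theorem F422293 : act 1 n115424 = n201899 := d15_1 F422286 F422292 F422288
def n201901 : Q := act 7 n115236
theorem D201901 : act 7 n115236 = n201901 := rfl
theorem F422294 : act 2 n201901 = n115424 := d4_1 D201901 (iv7 D115424) (iv2 F179460)
theorem F422295 : act 3 n201901 = n161925 := d8_1 D201901 F422280 F422277
theorem F422296 : act 4 n201901 = n141054 := d11_1 D201901 (iv7 F348135) (iv4 F359942)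
theorem F422297 : act 5 n201901 = n115237 := d13_1 D201901 (iv7 D115237) D115236
theorem F422298 : act 1 n115422 = n201901 := d15_1 D115422 (iv7 D201901) F179460
theorem F422299 : act 1 n201901 = n115421 := d15_1 F422298 F422289 (iv2 F422288)
def n201902 : Q := act 3 n115238
theorem D201902 : act 3 n115238 = n201902 := rfl
theorem F422300 : act 4 n201902 = n136023 := d5_2 D115238 D201902 (iv3 D136023) (iv4 D63957) (iv3 F83959)
theorem F422301 : act 5 n201902 = n141174 := d6_2 F339857 D201902 F359210
theorem F422302 : act 7 n201902 = n115429 := d8_2 (iv7 F179467) D201902 (iv3 D115429)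
def n201903 : Q := act 3 n115240
theorem D201903 : act 3 n115240 = n201903 := rfl
theorem F422303 : act 2 n201903 = n136153 := d0_1 D201903 (iv3 F219198) F218824 (iv3 D115450) (iv2 F218822)
theorem F422304 : act 5 n201903 = n156084 := d6_2 F409707 D201903 F409708
theorem F422305 : act 7 n201903 = n115455 := d8_2 (iv7 F218823) D201903 (iv3 D115455)
theorem F422306 : act 0 n201903 = n136157 := d20_10 F219202 F224172 (iv4 F83999) F83998 (iv1 F173695) D115612 F179944 F396943 F396942 D201903
theorem F422307 : act 1 n201903 = n136144 := d15_1 (iv0 F422306) F219187 (iv2 F219201)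
def n201904 : Q := act 6 n115240
theorem D201904 : act 6 n115240 = n201904 := rfl
theorem F422308 : act 2 n201904 = n115453 := d3_1 D201904 (iv6 D115453) (iv2 F218822)
theorem F422309 : act 7 n201904 = n137062 := d14_2 (iv7 F218823) D201904 (iv6 D137062) F110958 F336208
theorem F422310 : act 1 n115453 = n156300 := d15_0 (iv0 F346600) (iv7 F422309) F422308
def n201905 : Q := act 6 n115241
theorem D201905 : act 6 n115241 = n201905 := rfl
theorem F422311 : act 2 n201905 = n115243 := d3_1 D201905 (iv6 D115243) D115241
theorem F422312 : act 3 n201905 = n115503 := d7_1 D201905 (iv6 D115503) (iv3 F179471)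
theorem F422313 : act 4 n201905 = n195481 := d10_1 D201905 (iv6 D195481) (iv4 F179472)
def n201906 : Q := act 0 n115243
theorem D201906 : act 0 n115243 = n201906 := rfl
theorem F422314 : act 3 n201906 = n115513 := d20_5 (iv4 D31122) (iv1 F161275) (iv4 F83976) (iv3 F179479) D201906 F336269 D119296 (iv4 F350936) F350935 F166206
def n201907 : Q := act 5 n115243
theorem D201907 : act 5 n115243 = n201907 := rfl
theorem F422315 : act 3 n201907 = n115247 := d6_1 D201907 (iv5 D115247) (iv3 F179479)
theorem F422316 : act 4 n201907 = n183883 := d19_2 F391293 D201907 (iv3 D183883) (iv1 D87714) (iv5 F133522) F133521 (iv3 F64418) F74664 (iv5 D47480) (iv4 F68132) (iv3 F125244) F290755 (iv5 D41792) (iv4 F64436) (iv3 F137167) D187050 (iv5 F388907) F388908 D193882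
theorem F422317 : act 7 n185253 = n201907 := d11_0 F422316 F285710 D185253
def n201908 : Q := act 7 n115243
theorem D201908 : act 7 n115243 = n201908 := rfl
theorem F422318 : act 3 n201908 = n115248 := d8_1 D201908 (iv7 D115248) (iv3 F179479)
theorem F422319 : act 4 n201908 = n195489 := d11_1 D201908 (iv7 D195489) (iv4 F179480)
theorem F422320 : act 5 n201908 = n185253 := d13_1 D201908 F422317 (iv5 D201907)
theorem F422321 : act 6 n201908 = n115468 := d14_1 D201908 (iv7 D115468) (iv6 D53262) (iv7 F83971) D115243
def n201909 : Q := act 0 n115244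
theorem D201909 : act 0 n115244 = n201909 := rfl
theorem F422322 : act 4 n201909 = n119299 := d18_3 F366627 (iv4 F179482) D201909 F187782 F86842 F42528 D26595 (iv0 F184587) D119335
theorem F422323 : act 2 n115512 = n201909 := d15_3 (iv0 D201909) F348377 (iv7 F336267)
theorem F422324 : act 1 n115515 = n201909 := d15_0 (iv0 D201909) F336258 F336259
theorem F422325 : act 7 n201909 = n115513 := d15_2 (iv0 F348378) F422324 F336268
theorem F422326 : act 5 n117645 = n201909 := d16_7 (iv4 D54990) (iv5 D26591) F21103 (iv5 F20697) (iv4 F41605) D54191 D117645 F422325 F336268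
def n201910 : Q := act 5 n115244
theorem D201910 : act 5 n115244 = n201910 := rfl
theorem F422327 : act 2 n201910 = n115514 := d2_1 D201910 (iv5 D115514) (iv2 F179481)
theorem F422328 : act 6 n201910 = n115247 := d12_2 D115244 D201910 (iv5 D115247) (iv6 D53171) D53170
theorem F422329 : act 4 n201910 = n117664 := d16_2 (iv4 F179482) D201910 (iv5 D117664) (iv4 D54201) D54202 D117666 (iv5 F416636) (iv7 D200479) F176329
theorem F422330 : act 0 n187197 = n191302 := d19_4 (iv1 F348377) D201910 F422329 (iv3 F369448) F382950 (iv4 F346102) (iv3 F346103) (iv1 F328229) (iv5 F328615) (iv4 D42360) (iv3 F65406) D90492 (iv5 F145629) (iv4 F377064) (iv3 F394018) F394021 (iv5 D176191) (iv4 F356396) F356395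
def n201911 : Q := act 3 n115246
theorem D201911 : act 3 n115246 = n201911 := rfl
theorem F422331 : act 4 n201911 = n141835 := d5_2 (iv4 F179924) D201911 (iv3 D141835) (iv4 F171744) F179921
theorem F422332 : act 7 n201911 = n115517 := d8_2 (iv7 F179917) D201911 (iv3 D115517)
theorem F422333 : act 0 n201911 = n116635 := d20_4 F179527 (iv1 F179918) (iv4 F179924) D201911 F182006 F84768 (iv1 F320710) (iv4 F179811) (iv3 D115527) (iv1 F179530)
theorem F422334 : act 0 n115507 = n201911 := d20_4 F336275 (iv1 F359935) F176330 (iv3 F179800) (iv3 D201911) F179924 (iv1 D115600) F84167 (iv3 F84164) D115595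
def n201912 : Q := act 5 n115250
theorem D201912 : act 5 n115250 = n201912 := rfl
theorem F422335 : act 2 n201912 = n115582 := d2_1 D201912 (iv5 D115582) (iv2 F351375)
theorem F422336 : act 7 n201912 = n115577 := d13_2 (iv7 F351377) D201912 (iv5 D115577)
theorem F422337 : act 1 n201912 = n115285 := d17_6 (iv1 F359757) F224815 F359760 F351373 (iv4 F351376) D201912 F179547 D126685 (iv4 F350868)
theorem F422338 : act 0 n201912 = n115682 := d21_1 D201912 F357060 (iv6 D115706) (iv1 D53353) (iv6 D25855) (iv5 D12271) D12268 D25841 (iv6 F330510) D115250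
theorem F422339 : act 6 n201912 = n156211 := d21_9 F318300 (iv1 F130437) D85138 (iv6 F339878) (iv1 F179513) (iv6 F330517) (iv5 D115253) D115250 D201912 (iv1 F245483)
def n201913 : Q := act 6 n115250
theorem D201913 : act 6 n115250 = n201913 := rfl
theorem F422340 : act 2 n201913 = n115583 := d3_1 D201913 (iv6 D115583) (iv2 F351375)
theorem F422341 : act 5 n201913 = n156212 := d12_1 D201913 (iv6 D156212) D156211 (iv6 F422339) (iv5 D201912)
theorem F422342 : act 0 n115714 = n201913 := d21_4 (iv5 F53510) D74336 D156279 (iv6 F404285) (iv6 D201913) D201912 F422338 F357060 (iv6 D115706) (iv1 D53353)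
def n201914 : Q := act 3 n115251
theorem D201914 : act 3 n115251 = n201914 := rfl
theorem F422343 : act 2 n201914 = n115616 := d0_1 D201914 (iv3 F398685) F398683 (iv3 F165213) (iv2 F351366)
theorem F422344 : act 6 n201914 = n156200 := d7_2 (iv6 F359972) D201914 F351398
theorem F422345 : act 7 n201914 = n115580 := d8_2 (iv7 F351367) D201914 (iv3 D115580)
theorem F422346 : act 0 n201914 = n115617 := d20_10 (iv4 F179958) (iv1 F182824) F182822 (iv3 F401323) (iv1 F401327) (iv3 F401381) F401382 (iv1 F350850) F350851 D201914
theorem F422347 : act 0 n115621 = n201914 := d20_4 F84752 (iv1 F179983) F179981 (iv3 F179954) (iv3 D201914) (iv4 F350851) (iv1 D126006) F93224 (iv3 F326820) D53720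
theorem F422348 : act 5 n201914 = n156286 := d17_1 F422347 (iv1 F404233) (iv5 F404253) (iv4 D144078) (iv5 F365099) (iv0 D128574) (iv5 D60473) D60471 (iv4 F179955)
def n201915 : Q := act 5 n115251
theorem D201915 : act 5 n115251 = n201915 := rfl
theorem F422349 : act 2 n201915 = n115577 := d2_1 D201915 (iv5 D115577) (iv2 F351366)
theorem F422350 : act 3 n201915 = n156286 := d6_1 D201915 (iv5 F422348) (iv3 D201914)
theorem F422351 : act 7 n201915 = n115582 := d13_2 (iv7 F351367) D201915 (iv5 D115582)
theorem F422352 : act 0 n201915 = n115285 := d17_2 (iv1 F179500) D201915 F179547 F93824 D59465 D126738 F347037 F179891 (iv4 D115584)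
theorem F422353 : act 6 n201915 = n156249 := d21_3 F359765 (iv1 F179500) D201915 (iv1 F388801) F388799 D193128 F388837 (iv5 D192399) D192400 F386646
theorem F422354 : act 0 n115682 = n201915 := d21_7 D156001 (iv1 F245494) (iv5 F403848) (iv6 F403854) (iv1 F179556) D115706 (iv5 F357060) (iv5 D201915) F359972 (iv1 D155999)
def n201916 : Q := act 1 n115253
theorem D201916 : act 1 n115253 = n201916 := rfl
theorem F422355 : act 1 n201916 = n115562 := d15_1 D201916 (iv7 D115562) (iv2 F330516)
theorem F422356 : act 7 n201916 = n115559 := d15_2 F386647 D201916 (iv2 F386651)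
theorem F422357 : act 5 n201916 = n197976 := d17_7 (iv1 F203717) F220098 (iv1 D126839) (iv5 D59520) (iv4 F83986) D115253 D201916 F406354 F203869
theorem F422358 : act 2 n115560 = n201916 := d2_3 F422357 (iv2 F406357) (iv5 F357047)
def n201917 : Q := act 4 n115253
theorem D201917 : act 4 n115253 = n201917 := rfl
theorem F422359 : act 2 n201917 = n115554 := d1_1 D201917 F179862 (iv2 F330516)
theorem F422360 : act 3 n201917 = n189171 := d5_1 D201917 (iv4 F402886) F402883 F165977 (iv3 F179502)
theorem F422361 : act 6 n201917 = n115548 := d10_2 (iv6 F330517) D201917 (iv4 D115548)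
theorem F422362 : act 7 n201917 = n115593 := d11_2 (iv7 F179503) D201917 (iv4 D115593)
theorem F422363 : act 0 n141538 = n201917 := d20_10 (iv4 D201917) (iv1 F386647) F386645 F154081 D100161 F360358 F224213 (iv1 F102269) D66390 D141538
def n201918 : Q := act 4 n115258
theorem D201918 : act 4 n115258 = n201918 := rfl
theorem F422364 : act 2 n201918 = n115545 := d1_1 D201918 (iv4 D115545) (iv2 F330525)
theorem F422365 : act 3 n201918 = n199043 := d5_1 D201918 F420718 F360859 F360862 F360867
theorem F422366 : act 6 n201918 = n175403 := d10_2 (iv6 F339878) D201918 (iv4 F274444)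
theorem F422367 : act 7 n201918 = n115540 := d11_2 (iv7 F330526) D201918 (iv4 D115540)
theorem F422368 : act 5 n201918 = n135725 := d16_1 D201918 (iv4 D135725) (iv5 D63815) F48383 D30110 D63820 (iv5 F330518) F330523 (iv2 F330525)
theorem F422369 : act 0 n201918 = n115485 := d18_2 D115258 D201918 (iv4 D115485) (iv5 D53268) F40815 D25828 D53276 F179511 F330513
theorem F422370 : act 1 n201918 = n198989 := d18_6 F218244 (iv4 D135729) F99205 (iv4 F179724) (iv5 F330519) D201918 F410199 F401405 F179778
def n201919 : Q := act 3 n115259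
theorem D201919 : act 3 n115259 = n201919 := rfl
theorem F422371 : act 4 n201919 = n197604 := d5_2 F224101 D201919 F404992 (iv4 D141125) D141124
theorem F422372 : act 5 n201919 = n135733 := d6_2 (iv5 F330518) D201919 (iv3 D135733)
theorem F422373 : act 7 n201919 = n115544 := d8_2 (iv7 F330523) D201919 (iv3 D115544)
theorem F422374 : act 0 n201919 = n196807 := d20_4 D115485 F365196 F224101 D201919 (iv3 D196807) (iv4 D107348) D107346 F165400 (iv3 F330544) (iv1 D115484)
theorem F422375 : act 0 n115268 = n201919 := d20_4 (iv4 D137355) F179537 (iv4 D115269) D115268 (iv3 D201919) (iv4 F224101) F410202 F410199 F401402 F224174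
theorem F422376 : act 6 n197605 = n201919 := d14_5 F422373 F339879 F359217 (iv6 F400543) (iv7 F404996)
def n201920 : Q := act 6 n115259
theorem D201920 : act 6 n115259 = n201920 := rfl
theorem F422377 : act 2 n201920 = n115542 := d3_1 D201920 (iv6 D115542) (iv2 F330522)
theorem F422378 : act 3 n201920 = n197605 := d7_1 D201920 F422376 (iv3 D201919)
theorem F422379 : act 5 n201920 = n135740 := d12_1 D201920 (iv6 D135740) (iv5 D63823) (iv6 F99210) (iv5 F330518)
theorem F422380 : act 7 n201920 = n178667 := d14_2 (iv7 F330523) D201920 (iv6 D178667) (iv7 F316900) F339877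
def n201921 : Q := act 6 n115260
theorem D201921 : act 6 n115260 = n201921 := rfl
theorem F422381 : act 2 n201921 = n115262 := d3_1 D201921 (iv6 D115262) D115260
theorem F422382 : act 3 n201921 = n115586 := d7_1 D201921 (iv6 D115586) (iv3 F179514)
theorem F422383 : act 4 n201921 = n199024 := d10_1 D201921 (iv6 D199024) (iv4 F179515)
theorem F422384 : act 7 n201921 = n115594 := d14_2 (iv7 F179516) D201921 (iv6 D115594) (iv7 F179503) F330517
def n201922 : Q := act 0 n115262
theorem D201922 : act 0 n115262 = n201922 := rfl
def n201923 : Q := act 1 n115262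
theorem D201923 : act 1 n115262 = n201923 := rfl
theorem F422385 : act 1 n201923 = n115594 := d15_1 D201923 (iv7 F422384) F422381
def n201924 : Q := act 5 n115262
theorem D201924 : act 5 n115262 = n201924 := rfl
theorem F422386 : act 3 n201924 = n115264 := d6_1 D201924 (iv5 D115264) (iv3 F179522)
theorem F422387 : act 6 n201924 = n115609 := d12_2 D115262 D201924 F179935 (iv6 F179510) F330513
theorem F422388 : act 4 n191297 = n201924 := d10_3 F422387 F346053 D191297
def n201925 : Q := act 7 n115262
theorem D201925 : act 7 n115262 = n201925 := rfl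
theorem F422389 : act 2 n201925 = n115594 := d4_1 D201925 (iv7 F422384) F422381
theorem F422390 : act 3 n201925 = n115265 := d8_1 D201925 (iv7 D115265) (iv3 F179522)
theorem F422391 : act 4 n201925 = n199030 := d11_1 D201925 (iv7 D199030) (iv4 F179523)
theorem F422392 : act 6 n201925 = n115562 := d14_1 D201925 (iv7 D115562) (iv6 D53306) (iv7 F83993) D115262
theorem F422393 : act 1 n115594 = n201922 := d15_0 (iv0 D201922) D201925 F422389
def n201926 : Q := act 0 n115263
theorem D201926 : act 0 n115263 = n201926 := rfl
theorem F422394 : act 4 n201926 = n119558 := d18_3 D119296 (iv4 F350936) D201926 (iv5 D119558) (iv4 F131203) (iv0 D60300) F86846 (iv0 D54896) D54898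
theorem F422395 : act 1 n115586 = n201926 := d15_0 (iv0 D201926) F350937 (iv2 F179895)
theorem F422396 : act 2 n115596 = n201926 := d1_3 F422394 F416621 F416625
theorem F422397 : act 7 n115595 = n201926 := d11_0 F422394 F188544 (iv4 F336275)
def n201927 : Q := act 1 n115263
theorem D201927 : act 1 n115263 = n201927 := rfl
theorem F422398 : act 1 n201927 = n115586 := d15_1 D201927 F360168 (iv2 F179524)
theorem F422399 : act 7 n201927 = n115596 := d15_2 (iv0 D201926) D201927 F422396
theorem F422400 : act 4 n119335 = n201927 := d20_6 F166477 (iv1 F163549) (iv4 F93806) (iv3 F203813) F346798 (iv3 F187923) (iv1 D201927) F350936 (iv3 F336264) (iv1 F203799)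
theorem F422401 : act 2 n201927 = n115595 := d1_1 F422400 F336275 (iv2 F187922)
def n201928 : Q := act 5 n115263
theorem D201928 : act 5 n115263 = n201928 := rfl
theorem F422402 : act 2 n201928 = n115604 := d2_1 D201928 (iv5 D115604) (iv2 F179524)
theorem F422403 : act 3 n201928 = n115609 := d6_1 D201928 F179935 (iv3 F350935)
theorem F422404 : act 6 n201928 = n115264 := d12_2 D115263 D201928 (iv5 D115264) (iv6 D53180) D53179
theorem F422405 : act 7 n201928 = n115597 := d13_2 (iv7 F350937) D201928 (iv5 D115597)
theorem F422406 : act 4 n191298 = n201928 := d11_3 F422405 F352986 (iv7 F382934)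
def n201929 : Q := act 7 n115264
theorem D201929 : act 7 n115264 = n201929 := rfl
theorem F422407 : act 2 n201929 = n115609 := d4_1 D201929 (iv7 D115609) (iv2 F179525)
theorem F422408 : act 4 n201929 = n191296 := d11_1 D201929 F382926 F356796
theorem F422409 : act 5 n201929 = n115265 := d13_1 D201929 (iv7 D115265) D115264
theorem F422410 : act 1 n115607 = n201929 := d15_1 D115607 (iv7 D201929) F179525
theorem F422411 : act 1 n201929 = n115606 := d15_1 F422410 (iv7 F220788) F220787
def n201930 : Q := act 6 n115266
theorem D201930 : act 6 n115266 = n201930 := rfl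
theorem F422412 : act 2 n201930 = n115284 := d3_1 D201930 (iv6 D115284) F179531
theorem F422413 : act 3 n201930 = n115611 := d7_1 D201930 (iv6 D115611) (iv3 F179532)
theorem F422414 : act 4 n201930 = n136140 := d10_1 D201930 (iv6 D136140) (iv4 F179533)
theorem F422415 : act 7 n201930 = n160352 := d14_2 (iv7 F179534) D201930 F341522 F245113 F111032
theorem F422416 : act 0 n193195 = n201930 := d18_2 (iv1 F310313) D193195 F422414 F325437 (iv4 D76821) F55805 (iv4 F55821) (iv0 F115322) D160275
def n201931 : Q := act 5 n115267
theorem D201931 : act 5 n115267 = n201931 := rfl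
theorem F422417 : act 2 n201931 = n115270 := d2_1 D201931 (iv5 D115270) D115267
theorem F422418 : act 7 n201931 = n115275 := d13_2 F179536 D201931 (iv5 D115275)
theorem F422419 : act 4 n201931 = n140673 := d16_2 (iv4 F362205) D201931 (iv5 D140673) F101685 (iv5 F95953) D131028 (iv5 F345482) F345481 F331017
theorem F422420 : act 0 n201931 = n115565 := d17_2 (iv1 F362204) D201931 F179878 F164983 F326702 (iv0 F111646) (iv5 F330999) (iv0 F224169) (iv4 F83999)
theorem F422421 : act 6 n196782 = n201931 := d10_0 F422419 (iv6 F386492) D196782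
theorem F422422 : act 6 n115270 = n196665 := d3_2 F422421 F422417 (iv2 F401778)
def n201932 : Q := act 6 n115267
theorem D201932 : act 6 n115267 = n201932 := rfl
theorem F422423 : act 2 n201932 = n115271 := d3_1 D201932 (iv6 D115271) D115267
theorem F422424 : act 3 n201932 = n115270 := d7_1 D201932 F422422 (iv3 F401410)
theorem F422425 : act 4 n201932 = n134190 := d10_1 D201932 F216226 (iv4 F362205)
theorem F422426 : act 5 n201932 = n115268 := d21_6 (iv5 F404202) (iv1 F404201) (iv5 D156022) F111032 (iv1 F362204) D201932 F422375 F422372 F218251 D135735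
theorem F422427 : act 5 n141846 = n115271 := d2_2 F422426 (iv2 F360818) (iv2 F422423)
theorem F422428 : act 1 n115487 = n201932 := d18_8 F422375 F422371 F404994 F223429 F391263 F391259 F343225 (iv4 F179783) F422426
def n201933 : Q := act 1 n115268
theorem D201933 : act 1 n115268 = n201933 := rfl
theorem F422429 : act 1 n201933 = n196807 := d15_1 D201933 F401864 F360818
theorem F422430 : act 3 n115635 = n201933 := d19_19 (iv1 D201933) (iv5 F422426) F422425 (iv3 F409957) (iv1 F409961) F365528 F184081 F105339 (iv1 F84781) F84783 F80448 (iv3 D50446) (iv1 D24588) D24590 F76910 D105640 F397109 (iv5 D195476) (iv4 F179996)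
theorem F422431 : act 4 n196303 = n201933 := d20_0 (iv1 D201933) F180852 (iv3 F349719) (iv1 D137656) D137657 F220828 (iv1 F324046) F324047 D140326 (iv1 F405422)
theorem F422432 : act 6 n201933 = n156176 := d10_2 F404844 F422431 (iv4 F404842)
theorem F422433 : act 2 n115544 = n201933 := d16_9 (iv4 F422431) (iv5 F405417) F405416 (iv5 D146924) (iv4 F183940) F328432 F219453 (iv5 F422372) F422373
def n201934 : Q := act 6 n115268
theorem D201934 : act 6 n115268 = n201934 := rfl
theorem F422434 : act 3 n201934 = n115271 := d7_1 D201934 (iv6 D115271) D115268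
theorem F422435 : act 5 n201934 = n196782 := d12_1 D201934 F422421 (iv5 D201931) D201932 F422426
theorem F422436 : act 7 n196808 = n201934 := d13_0 F422435 F401780 D196808
theorem F422437 : act 0 n196564 = n201934 := d17_2 (iv1 D196562) D196564 F422435 (iv4 D196782) (iv5 F386486) F386484 (iv5 F180732) D196914 (iv4 F402269)
theorem F422438 : act 1 n196570 = n201934 := d17_6 (iv1 F163671) F78287 (iv1 F93290) F182523 D107084 D196570 F422435 (iv0 F401782) (iv4 D195906)
def n201935 : Q := act 0 n115269
theorem D201935 : act 0 n115269 = n201935 := rfl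
theorem F422439 : act 4 n201935 = n201903 := d18_1 D201935 F422306 F219202 (iv5 F330986) F209726 F171561 (iv4 F216008) (iv0 D134033) (iv5 F331018)
theorem F422440 : act 3 n201935 = n137344 := d20_5 D64716 (iv1 F220827) (iv4 F349707) F349706 D201935 F220536 (iv1 F162171) (iv4 D64760) F329328 (iv1 F329342)
theorem F422441 : act 2 n134197 = n201935 := d15_3 (iv0 D201935) (iv0 F179537) (iv7 F331004)
theorem F422442 : act 1 n115274 = n201935 := d15_0 (iv0 D201935) (iv7 F345481) F345449
theorem F422443 : act 7 n201935 = n134198 := d15_2 (iv0 F220548) F422442 F331005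
theorem F422444 : act 6 n160277 = n201935 := d21_3 F115375 (iv1 F115325) D160277 (iv1 F422442) F336763 (iv5 D101404) F289583 D88033 (iv6 F135896) (iv1 F301964)
def n201936 : Q := act 6 n115269
theorem D201936 : act 6 n115269 = n201936 := rfl
theorem F422445 : act 2 n201936 = n134190 := d3_1 D201936 F216226 (iv2 F331017)
theorem F422446 : act 3 n201936 = n193147 := d7_1 D201936 F388919 F349706
theorem F422447 : act 4 n201936 = n115271 := d10_1 D201936 (iv6 D115271) D115269
theorem F422448 : act 5 n201936 = n123861 := d12_1 D201936 F342806 (iv5 D62959) D62960 (iv5 F331018)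
theorem F422449 : act 7 n201936 = n193146 := d14_2 F345481 D201936 (iv6 D193146) F155960 D101409
theorem F422450 : act 0 n137382 = n201936 := d17_2 (iv1 F191909) (iv5 F355559) F422448 F342805 D199385 (iv0 F411921) F383095 F350745 (iv4 F191906)
theorem F422451 : act 1 n160299 = n201936 := d17_6 (iv1 F341416) (iv5 F384616) F406059 (iv5 F355556) F350731 D160299 F422448 F342803 F172441
theorem F422452 : act 0 n193896 = n115271 := d18_2 D102456 D193896 (iv4 F422447) F422448 F342805 F342808 (iv4 F246024) F360245 (iv5 D102458)
theorem F422453 : act 1 n193898 = n115271 := d15_0 (iv0 F422452) F391320 (iv2 F391323)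
def n201937 : Q := act 4 n115270
theorem D201937 : act 4 n115270 = n201937 := rfl
theorem F422454 : act 2 n201937 = n140673 := d1_1 D201937 (iv4 F422419) F422417
theorem F422455 : act 3 n201937 = n196786 := d5_1 D201937 (iv4 F409958) F409957 (iv4 F422425) F422424
theorem F422456 : act 5 n201937 = n134208 := d9_2 D115270 D201937 F216246 F98361 (iv4 F98355) (iv5 F331020) (iv4 D115274) D115275 (iv4 F331019) (iv5 D139621) F101249 F49158 (iv4 F98241) (iv5 F331018) (iv4 D115269)
theorem F422457 : act 6 n201937 = n196757 := d10_2 (iv6 F422422) D201937 (iv4 F401706)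
theorem F422458 : act 0 n201937 = n134724 := d17_0 (iv5 D134724) F102040 D116117 (iv4 F416788) F416785 F400901 F400898 (iv0 F331831) D201937
theorem F422459 : act 1 n201937 = n196320 := d18_8 (iv1 F164752) (iv4 D53521) (iv1 D25924) (iv4 F40978) D53513 D116114 (iv0 F331831) D201937 F400313
theorem F422460 : act 7 n201937 = n134207 := d15_2 F222780 (iv0 F422458) (iv2 F222779)
def n201938 : Q := act 7 n115270
theorem D201938 : act 7 n115270 = n201938 := rfl
theorem F422461 : act 2 n201938 = n115275 := d4_1 D201938 (iv7 F422418) F422417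
theorem F422462 : act 4 n201938 = n134207 := d11_1 D201938 (iv7 F422460) (iv4 D201937)
theorem F422463 : act 5 n201938 = n115272 := d13_1 D201938 (iv7 D115272) D115270
theorem F422464 : act 0 n115565 = n201938 := d17_0 F422463 F345476 D115279 (iv4 F415104) F415105 (iv0 F209743) (iv5 F331824) F331822 (iv4 F364945)
def n201939 : Q := act 7 n115271
theorem D201939 : act 7 n115271 = n201939 := rfl
theorem F422465 : act 3 n201939 = n196808 := d8_1 D201939 F422436 F422434
theorem F422466 : act 4 n201939 = n193146 := d11_1 D201939 (iv7 F422449) F422447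
theorem F422467 : act 5 n201939 = n196807 := d13_1 D201939 F401864 F422427
theorem F422468 : act 6 n201939 = n193145 := d14_1 D201939 F388912 F345480 (iv7 D115272) D115271
theorem F422469 : act 0 n115487 = n201939 := d18_2 F343229 (iv4 F179783) F422466 F388916 (iv4 F342816) (iv0 D146921) (iv4 F183940) F343206 (iv5 F343204)
def n201940 : Q := act 5 n115273
theorem D201940 : act 5 n115273 = n201940 := rfl
theorem F422470 : act 2 n201940 = n196808 := d2_1 D201940 (iv5 D196808) F220503
theorem F422471 : act 3 n201940 = n115275 := d6_1 D201940 (iv5 D115275) D115273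
theorem F422472 : act 0 n201940 = n196564 := d17_2 F398694 D201940 (iv5 D196564) (iv4 D107079) (iv5 F166899) (iv0 D59116) (iv5 F77664) D106424 D195908
theorem F422473 : act 1 n201940 = n196570 := d17_6 (iv1 F401055) (iv5 F401189) (iv1 F401859) (iv5 D196805) (iv4 F220501) D201940 (iv5 D196570) F401089 F401088
def n201941 : Q := act 6 n115273
theorem D201941 : act 6 n115273 = n201941 := rfl
theorem F422474 : act 2 n201941 = n196809 := d3_1 D201941 (iv6 D196809) F220503
theorem F422475 : act 3 n201941 = n115276 := d7_1 D201941 (iv6 D115276) D115273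
theorem F422476 : act 4 n201941 = n196806 := d10_1 D201941 (iv6 D196806) (iv4 F220501)
def n201942 : Q := act 6 n115275
theorem D201942 : act 6 n115275 = n201942 := rfl
theorem F422477 : act 4 n201942 = n196815 := d10_1 D201942 F401880 F331019
theorem F422478 : act 7 n201942 = n196809 := d14_2 F422418 D201942 (iv6 D196809) (iv7 F401780) F422421
def n201943 : Q := act 5 n115276
theorem D201943 : act 5 n115276 = n201943 := rfl
theorem F422479 : act 2 n201943 = n193252 := d2_1 D201943 (iv5 D193252) (iv2 F362201)
theorem F422480 : act 4 n201943 = n194084 := d16_2 F362202 D201943 (iv5 D194084) (iv4 D102664) (iv5 D47615) (iv4 F74400) D101236 F155960 (iv2 F156244)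
def n201944 : Q := act 3 n115280
theorem D201944 : act 3 n115280 = n201944 := rfl
def n201945 : Q := act 6 n115280
theorem D201945 : act 6 n115280 = n201945 := rfl
theorem F422481 : act 0 n201945 = n196565 := d21_4 F179878 D196507 (iv5 F400891) D201945 (iv6 D196565) D196564 F422437 F422435 F422421 F422420
def n201946 : Q := act 3 n115281
theorem D201946 : act 3 n115281 = n201946 := rfl
theorem F422482 : act 5 n201946 = n200102 := d6_2 F400894 D201946 (iv3 F415017)
def n201947 : Q := act 6 n115281
theorem D201947 : act 6 n115281 = n201947 := rfl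
theorem F422483 : act 5 n193195 = n201947 := d21_8 (iv5 D53184) D53181 D115270 F422422 (iv1 D196665) D196668 F401422 (iv1 F389138) (iv6 D201947) (iv1 D115281)
theorem F422484 : act 0 n201947 = n198285 := d17_2 (iv1 F389138) F422483 F407476 (iv4 D124323) (iv5 D57955) (iv0 F299211) D123285 (iv0 F303340) (iv4 F324311)
def n201948 : Q := act 0 n115283
theorem D201948 : act 0 n115283 = n201948 := rfl
def n201949 : Q := act 1 n115283
theorem D201949 : act 1 n115283 = n201949 := rfl
def n201950 : Q := act 5 n115284
theorem D201950 : act 5 n115284 = n201950 := rfl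
theorem F422485 : act 3 n201950 = n115292 := d6_1 D201950 (iv5 D115292) (iv3 F179545)
theorem F422486 : act 6 n201950 = n196428 := d12_2 D115284 D201950 (iv5 F407679) (iv6 F407680) F176353
theorem F422487 : act 7 n201950 = n196668 := d13_2 F245129 D201950 F401422
theorem F422488 : act 4 n201950 = n160360 := d16_2 (iv4 F179546) D201950 (iv5 D160360) (iv4 D76865) (iv5 D35124) D35123 D76860 (iv7 F325438) F219181
theorem F422489 : act 0 n201950 = n160336 := d17_2 F351830 D201950 (iv5 D160336) (iv4 D76843) (iv5 D35119) D35118 D76839 F303347 D124426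
theorem F422490 : act 0 n160399 = n201950 := d18_2 (iv1 D160398) D160399 F422488 (iv5 D160360) (iv4 D76865) (iv0 F301575) D58007 D124408 F302251
def n201951 : Q := act 2 n115285
theorem D201951 : act 2 n115285 = n201951 := rfl
theorem F422491 : act 3 n201951 = n115673 := d0_2 D115285 D201951 (iv2 D115673) (iv3 D53346) F84005
theorem F422492 : act 5 n201951 = n126686 := d2_2 (iv5 F179547) D201951 (iv2 D126686)
theorem F422493 : act 7 n201951 = n115682 := d4_2 (iv7 F179548) D201951 (iv2 D115682)
theorem F422494 : act 1 n201951 = n115577 := d15_0 F357072 (iv7 F179548) D201951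
theorem F422495 : act 1 n115582 = n201951 := d15_0 F422494 (iv7 F422336) F422335
def n201952 : Q := act 4 n115285
theorem D201952 : act 4 n115285 = n201952 := rfl
theorem F422496 : act 3 n201952 = n154528 := d5_1 D201952 F402914 (iv3 D197071) F165993 D115285
theorem F422497 : act 7 n201952 = n115683 := d11_2 (iv7 F179548) D201952 (iv4 D115683)
theorem F422498 : act 5 n182518 = n201952 := d6_0 F422496 F358597 D182518
theorem F422499 : act 6 n154526 = n201952 := d7_0 F422496 (iv6 D154528) (iv3 F242554)
def n201953 : Q := act 6 n115285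
theorem D201953 : act 6 n115285 = n201953 := rfl
theorem F422500 : act 3 n201953 = n115286 := d7_1 D201953 (iv6 D115286) D115285
theorem F422501 : act 4 n201953 = n154526 := d10_1 D201953 F422499 (iv4 D201952)
def n201954 : Q := act 0 n115286
theorem D201954 : act 0 n115286 = n201954 := rfl
theorem F422502 : act 6 n201954 = n197976 := d21_5 F84156 F78181 (iv5 F84003) D115286 D201954 (iv5 F422357) (iv1 D201916) (iv5 D115253) F330510 D53308
theorem F422503 : act 2 n115676 = n201954 := d3_3 F422502 (iv2 F406357) (iv6 F357048)
theorem F422504 : act 4 n200155 = n201954 := d10_3 F422502 F406356 (iv6 F415278)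
theorem F422505 : act 7 n201954 = n115677 := d11_2 (iv7 F415281) F422504 (iv4 F415295)
theorem F422506 : act 0 n201954 = n115679 := d20_7 F203935 (iv1 F100088) (iv4 F203913) (iv3 F346564) (iv1 F347141) (iv3 F415280) F422504 F362475 (iv3 D144355) (iv1 F203937)
def n201955 : Q := act 1 n115286
theorem D201955 : act 1 n115286 = n201955 := rfl
theorem F422507 : act 1 n201955 = n115679 := d15_1 D201955 (iv7 D115679) (iv2 F179549)
theorem F422508 : act 7 n201955 = n115676 := d15_2 (iv0 D201954) D201955 F422503
theorem F422509 : act 4 n174511 = n201955 := d20_0 (iv1 D201955) (iv4 F402918) F402917 (iv1 F231118) (iv3 F336321) (iv4 D117908) F313896 (iv4 F193156) F349402 F350639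
theorem F422510 : act 2 n201955 = n115677 := d1_1 F422509 (iv4 F415295) F360257
theorem F422511 : act 6 n201955 = n174510 := d10_2 D174511 F422509 (iv4 D174510)
def n201956 : Q := act 5 n115286
theorem D201956 : act 5 n115286 = n201956 := rfl
theorem F422512 : act 2 n201956 = n115678 := d2_1 D201956 (iv5 D115678) (iv2 F179549)
theorem F422513 : act 6 n201956 = n126688 := d12_2 D115286 D201956 (iv5 D126688) (iv6 D59438) (iv5 F84003)
def n201957 : Q := act 7 n115286
theorem D201957 : act 7 n115286 = n201957 := rfl
theorem F422514 : act 2 n201957 = n115679 := d4_1 D201957 (iv7 D115679) (iv2 F179549)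
theorem F422515 : act 4 n201957 = n147379 := d11_1 D201957 (iv7 F402920) F402918
theorem F422516 : act 6 n201957 = n115688 := d14_1 D201957 (iv7 D115688) (iv6 D53349) F84006 D115286
theorem F422517 : act 1 n115677 = n201957 := d15_1 D115677 (iv7 D201957) F179549
theorem F422518 : act 1 n201957 = n115676 := d15_1 F422517 (iv7 F422508) F422510
def n201958 : Q := act 6 n115287
theorem D201958 : act 6 n115287 = n201958 := rfl
theorem F422519 : act 3 n201958 = n115288 := d7_1 D201958 (iv6 D115288) D115287
theorem F422520 : act 4 n201958 = n127068 := d10_1 D201958 (iv6 F207640) (iv4 F330578)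
theorem F422521 : act 0 n201958 = n143916 := d21_4 (iv5 F330566) (iv1 D139629) (iv5 F179550) D201958 F226555 (iv5 F179933) (iv1 F422411) F422409 F179528 (iv1 F165204)
theorem F422522 : act 5 n201958 = n156297 := d21_6 D74204 F111026 (iv5 D63823) (iv6 F99210) (iv1 F330576) D201958 (iv1 D156297) (iv5 D74342) (iv6 D34102) (iv1 F53406)
theorem F422523 : act 0 n137019 = n201958 := d21_4 (iv5 F223381) (iv1 F223382) (iv5 D137018) D137019 (iv6 D201958) F179550 (iv1 F330574) (iv5 D66459) (iv6 F101987) F111427
def n201959 : Q := act 7 n115288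
theorem D201959 : act 7 n115288 = n201959 := rfl
theorem F422524 : act 2 n201959 = n115688 := d4_1 D201959 (iv7 D115688) (iv2 F179552)
theorem F422525 : act 5 n201959 = n115668 := d13_1 D201959 (iv7 F359988) F339870
theorem F422526 : act 6 n201959 = n115679 := d14_1 D201959 (iv7 D115679) (iv6 D53347) (iv7 F84008) D115288
theorem F422527 : act 1 n115686 = n201959 := d15_1 D115686 (iv7 D201959) F179552
theorem F422528 : act 1 n201959 = n115685 := d15_1 F422527 (iv7 F359990) F409512
def n201960 : Q := act 5 n115289
theorem D201960 : act 5 n115289 = n201960 := rfl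
theorem F422529 : act 2 n201960 = n115700 := d2_1 D201960 (iv5 D115700) (iv2 F357070)
theorem F422530 : act 7 n201960 = n115705 := d13_2 (iv7 F357071) D201960 (iv5 D115705)
def n201961 : Q := act 5 n115290
theorem D201961 : act 5 n115290 = n201961 := rfl
theorem F422531 : act 2 n201961 = n115705 := d2_1 D201961 (iv5 D115705) (iv2 F357065)
theorem F422532 : act 3 n201961 = n197977 := d6_1 D201961 (iv5 D197977) (iv3 F357066)
theorem F422533 : act 7 n201961 = n115700 := d13_2 (iv7 F357069) D201961 (iv5 D115700)
theorem F422534 : act 4 n201961 = n197412 := d16_2 (iv4 F357067) D201961 (iv5 D197412) F167231 D108286 F338961 (iv5 F388840) F388842 F357033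
def n201962 : Q := act 4 n115292
theorem D201962 : act 4 n115292 = n201962 := rfl
theorem F422535 : act 2 n201962 = n115719 := d1_1 D201962 (iv4 D115719) (iv2 F179558)
theorem F422536 : act 6 n201962 = n199150 := d10_2 F347955 D201962 F410899
theorem F422537 : act 5 n201962 = n156298 := d16_1 D201962 (iv4 D156298) (iv5 D74342) F53512 F26109 (iv4 F53512) D74342 F111537 (iv2 F179558)
theorem F422538 : act 3 n199151 = n201962 := d7_3 F422536 (iv3 D199150) D199151
def n201963 : Q := act 2 n115293
theorem D201963 : act 2 n115293 = n201963 := rfl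
theorem F422539 : act 7 n115294 = n201963 := d15_2 (iv0 D115293) D115294 (iv2 D201963)
def n201964 : Q := act 3 n115293
theorem D201964 : act 3 n115293 = n201964 := rfl
theorem F422540 : act 4 n201964 = n195383 := d20_6 F76863 (iv1 F37865) D25796 D53190 D115293 D201964 (iv1 D195383) F162126 (iv3 D48806) (iv1 F76862)
theorem F422541 : act 2 n197845 = n201964 := d1_3 F422540 F405997 D197845
theorem F422542 : act 7 n197849 = n201964 := d11_0 F422540 F405998 D197849
theorem F422543 : act 7 n115293 = n144416 := d8_2 F422542 (iv3 D201964) (iv3 F406018)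
theorem F422544 : act 2 n144416 = n115294 := d4_1 F422543 F422539 (iv2 D201963)
theorem F422545 : act 7 n200013 = n195482 := d13_2 F422543 (iv5 F414625) (iv5 F397124)
theorem E103841 : n201963 = n144417 := (c15_4 F227211 F227206 (iv7 F422543) D201963)
theorem F422546 : act 2 n144417 = n115293 := (sb E103841 (iv2 D201963))
theorem F422547 : act 7 n144417 = n115294 := (sb E103841 (iv7 F422539))
theorem F422548 : act 7 n195483 = n200014 := d13_2 F422547 (iv5 F397120) F414628
theorem F422549 : act 2 n200014 = n195482 := d15_3 (iv0 D195482) D195483 F422548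
theorem F422550 : act 2 n195483 = n200013 := d4_1 (iv7 F422548) F422545 (iv2 F422549)
def n201965 : Q := act 4 n115293
theorem D201965 : act 4 n115293 = n201965 := rfl
theorem F422551 : act 1 n201965 = n139635 := d18_8 (iv1 D178669) F130439 D85102 D178672 (iv5 F341180) (iv4 F227208) F227210 D201965 F408058
def n201966 : Q := act 6 n115293
theorem D201966 : act 6 n115293 = n201966 := rfl
def n201967 : Q := act 3 n115294
theorem D201967 : act 3 n115294 = n201967 := rfl
theorem F422552 : act 0 n139407 = n201967 := d20_4 (iv4 D68231) D68228 F104392 (iv3 F222623) (iv3 D201967) F330602 F330604 (iv4 F227255) (iv3 D144452) F104393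
theorem F422553 : act 1 n139404 = n201967 := d15_0 (iv0 F422552) (iv7 F227217) (iv2 F227218)
def n201968 : Q := act 6 n115294
theorem D201968 : act 6 n115294 = n201968 := rfl
theorem F422554 : act 2 n201968 = n197415 := d3_1 D201968 (iv6 F414626) F422544
theorem F422555 : act 0 n201968 = n156036 := d21_4 (iv5 F414630) (iv1 F414634) F397120 D201968 (iv6 D156036) (iv5 D74216) F53423 D62136 (iv6 F360878) (iv1 F179732)
theorem F422556 : act 1 n201968 = n197417 := d15_1 (iv0 F422555) (iv7 D197417) (iv2 F245158)
theorem F422557 : act 7 n197414 = n201968 := d15_2 F404189 F404194 F422554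
def n201969 : Q := act 6 n115295
theorem D201969 : act 6 n115295 = n201969 := rfl
theorem F422558 : act 2 n201969 = n115296 := d3_1 D201969 (iv6 D115296) D115295
theorem F422559 : act 3 n201969 = n198392 := d7_1 D201969 (iv6 D198392) (iv3 F179559)
theorem F422560 : act 4 n201969 = n115347 := d10_1 D201969 (iv6 D115347) (iv4 F179560)
def n201970 : Q := act 0 n115296
theorem D201970 : act 0 n115296 = n201970 := rfl
def n201971 : Q := act 1 n115296
theorem D201971 : act 1 n115296 = n201971 := rfl
theorem F422561 : act 3 n184251 = n201971 := d20_3 (iv4 D87888) D87886 D184251 (iv1 D201971) F179561 F84016 D53192 (iv4 F162078) F365055 (iv1 D184255)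
theorem F422562 : act 4 n201971 = n152840 := d20_6 (iv4 D33517) D33515 (iv4 F86015) D118271 F372270 F422561 (iv1 D152840) (iv4 F228067) (iv3 D145102) F104130
theorem F422563 : act 3 n192445 = n152840 := d5_5 (iv4 F422562) (iv3 F422561) (iv4 D184251) (iv3 F154135) D192445
def n201972 : Q := act 5 n115296
theorem D201972 : act 5 n115296 = n201972 := rfl
theorem F422564 : act 3 n201972 = n115297 := d6_1 D201972 (iv5 D115297) (iv3 F179561)
def n201973 : Q := act 4 n115297
theorem D201973 : act 4 n115297 = n201973 := rfl
theorem F422565 : act 2 n201973 = n198398 := d1_1 D201973 (iv4 D198398) (iv2 F179563)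
def n201974 : Q := act 4 n115299
theorem D201974 : act 4 n115299 = n201974 := rfl
theorem F422566 : act 2 n201974 = n136844 := d1_1 D201974 (iv4 F400892) F415019
theorem F422567 : act 3 n201974 = n137125 := d5_1 D201974 F223848 (iv3 D140494) D140495 (iv3 F223657)
theorem F422568 : act 7 n201974 = n136908 := d11_2 F415021 D201974 (iv4 F400886)
theorem F422569 : act 5 n201974 = n116118 := d16_1 D201974 (iv4 D116118) (iv5 D53518) D53517 D116117 (iv4 F416788) F416785 F415018 F415019
theorem F422570 : act 0 n201974 = n136910 := d17_0 F365677 (iv1 F216010) (iv5 F331020) (iv4 D115274) D115275 F331022 (iv5 F400898) F400900 D201974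
theorem F422571 : act 1 n201974 = n134895 := d18_8 F98711 F98241 (iv1 F95961) D131029 F326701 (iv4 F400897) F400900 D201974 (iv5 D134895)
theorem F422572 : act 6 n139306 = n201974 := d21_9 F365677 (iv1 F216010) (iv5 F331020) F336763 F356394 (iv6 F275150) F357156 (iv1 F410600) F410598 F422570
theorem F422573 : act 7 n193333 = n137125 := d8_2 F422568 F400887 (iv3 F422567)
theorem F422574 : act 2 n193333 = n136849 := d15_3 F401348 D137125 (iv7 F422573)
theorem E103842 : n193330 = n193165 := ((c3_3 D193333 F422574 F417152 F389480)).symm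
theorem F422575 : act 2 n193165 = n101458 := (sb E103842 F389480)
theorem F422576 : act 7 n193165 = n101457 := (sb E103842 (iv7 D193330))
theorem F422577 : act 7 n193328 = n136852 := d8_2 F422576 D193328 (iv3 F417153)
theorem E103843 : n193327 = n193164 := (c15_4 (iv0 D193164) D193165 F422576 D193327)
theorem F422578 : act 2 n193164 = n101457 := (sb E103843 (iv2 D193327))
theorem F422579 : act 7 n193164 = n101458 := (sb E103843 (iv7 F389476))
theorem F422580 : act 2 n193328 = n136977 := d15_3 (iv0 D136977) (iv0 F409968) (iv7 F422577)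
def n201975 : Q := act 6 n115299
theorem D201975 : act 6 n115299 = n201975 := rfl
theorem F422581 : act 4 n201975 = n139306 := d10_1 D201975 F422572 (iv4 D201974)
theorem F422582 : act 0 n115429 = n201975 := d18_2 (iv1 D137245) (iv4 F179726) F422581 (iv5 F410598) (iv4 D199085) (iv0 F171834) F171684 F222601 F360376
def n201976 : Q := act 4 n115300
theorem D201976 : act 4 n115300 = n201976 := rfl
theorem F422583 : act 2 n201976 = n136908 := d1_1 D201976 (iv4 F400886) (iv2 F415020)
theorem F422584 : act 3 n201976 = n135952 := d5_1 D201976 (iv4 F410827) F410828 (iv4 F402269) (iv3 F402270)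
theorem F422585 : act 5 n201976 = n116125 := d9_2 F416785 D201976 (iv4 D116125) (iv5 D53522) D53521 D116123 (iv4 F416780) F416779 D201974 F422569 (iv4 D116118) (iv5 D53518) D53517 D116117 (iv4 F416788)
theorem F422586 : act 7 n201976 = n136844 := d11_2 (iv7 F415018) D201976 (iv4 F400892)
theorem F422587 : act 0 n201976 = n134895 := d17_0 (iv5 D134895) F98711 (iv5 F331018) (iv4 D115269) D115270 F364948 (iv5 D115302) D115300 D201976
theorem F422588 : act 1 n201976 = n136910 := d18_8 (iv1 F216010) F98355 (iv1 F47992) D53524 (iv5 F326903) (iv4 F84025) D115300 D201976 F365677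
def n201977 : Q := act 6 n115300
theorem D201977 : act 6 n115300 = n201977 := rfl
theorem F422589 : act 2 n201977 = n152345 := d3_1 D201977 (iv6 F400890) (iv2 F415020)
theorem F422590 : act 0 n201977 = n115374 := d21_4 D115279 F416787 F416785 D201977 (iv6 F327687) D193867 F391255 (iv5 D193252) F345480 F345476
theorem F422591 : act 1 n201977 = n119612 := d15_1 (iv0 F422590) F188650 (iv2 F325052)
theorem F422592 : act 7 n152344 = n201977 := d15_2 F366080 F366081 F422589
def n201978 : Q := act 5 n115301
theorem D201978 : act 5 n115301 = n201978 := rfl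
theorem F422593 : act 2 n201978 = n115302 := d2_1 D201978 (iv5 D115302) D115301
theorem F422594 : act 3 n201978 = n139637 := d6_1 D201978 (iv5 D139637) (iv3 F179566)
theorem F422595 : act 4 n201978 = n116115 := d9_1 D201978 F180903 F84431 (iv5 F46733) D61467 (iv5 F326702) (iv4 F164983) (iv5 F179878) F364945 (iv5 D106879) F78098 (iv5 F47990) D63043 (iv5 F327510) (iv4 F179567)
theorem F422596 : act 7 n201978 = n116114 := d13_2 F400899 D201978 (iv5 F400898)
theorem F422597 : act 0 n201978 = n201931 := d17_2 (iv1 F400888) D201978 (iv5 D201931) F362205 (iv5 D63041) D63040 D134196 F365675 (iv4 F400886)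
theorem F422598 : act 1 n201978 = n201938 := d17_6 (iv1 F224173) (iv5 F330986) (iv1 F209728) (iv5 F327510) (iv4 F179567) D201978 F422463 F345477 F84002
def n201979 : Q := act 6 n115301
theorem D201979 : act 6 n115301 = n201979 := rfl
theorem F422599 : act 2 n201979 = n115303 := d3_1 D201979 (iv6 D115303) D115301
theorem F422600 : act 3 n201979 = n139638 := d7_1 D201979 (iv6 D139638) (iv3 F179566)
theorem F422601 : act 4 n201979 = n136796 := d10_1 D201979 (iv6 D136796) (iv4 F179567)
def n201980 : Q := act 6 n115302
theorem D201980 : act 6 n115302 = n201980 := rfl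
theorem F422602 : act 3 n201980 = n115304 := d7_1 D201980 (iv6 D115304) (iv3 F179568)
theorem F422603 : act 4 n201980 = n175024 := d10_1 D201980 (iv6 F364949) F364941
def n201981 : Q := act 0 n115303
theorem D201981 : act 0 n115303 = n201981 := rfl
def n201982 : Q := act 1 n115303
theorem D201982 : act 1 n115303 = n201982 := rfl
def n201983 : Q := act 7 n115303
theorem D201983 : act 7 n115303 = n201983 := rfl
theorem F422604 : act 3 n201983 = n115308 := d8_1 D201983 (iv7 D115308) (iv3 F179569)
theorem F422605 : act 4 n201983 = n136804 := d11_1 D201983 (iv7 D136804) (iv4 F179570)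
def n201984 : Q := act 0 n115304
theorem D201984 : act 0 n115304 = n201984 := rfl
theorem F422606 : act 4 n201984 = n198858 := d18_3 F350662 (iv4 F179572) D201984 F409605 F276443 (iv0 F343386) F199152 (iv0 F300863) F350663
theorem F422607 : act 6 n201984 = n156284 := d21_5 (iv5 F82575) F82576 D53196 D115304 D201984 (iv5 D156284) (iv1 D74337) F53510 (iv6 D25855) D25852
theorem F422608 : act 1 n139648 = n201984 := d15_0 (iv0 D201984) (iv7 F350651) (iv2 F350652)
theorem F422609 : act 2 n139645 = n201984 := d1_3 F422606 (iv2 F415327) F415322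
theorem F422610 : act 7 n139646 = n201984 := d11_0 F422606 (iv7 F415329) F415332
def n201985 : Q := act 1 n115304
theorem D201985 : act 1 n115304 = n201985 := rfl
theorem F422611 : act 1 n201985 = n139648 := d15_1 D201985 (iv7 D139648) (iv2 F179571)
theorem F422612 : act 7 n201985 = n139645 := d15_2 (iv0 D201984) D201985 F422609
theorem F422613 : act 4 n201985 = n198859 := d18_7 (iv1 F338163) (iv4 F210715) F344906 (iv4 F151636) (iv5 F350649) (iv4 F179572) D201985 F415338 F415336
theorem F422614 : act 2 n139646 = n201985 := d1_3 F422613 (iv2 F415331) F415332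
theorem F422615 : act 3 n156295 = n201985 := d5_5 F422613 (iv3 F409609) F204305 (iv3 F204303) (iv4 F245595)
theorem F422616 : act 6 n156293 = n201985 := d10_0 F422613 F409610 (iv4 F245590)
def n201986 : Q := act 5 n115304
theorem D201986 : act 5 n115304 = n201986 := rfl
theorem F422617 : act 2 n201986 = n139647 := d2_1 D201986 (iv5 D139647) (iv2 F179571)
theorem F422618 : act 6 n201986 = n115307 := d12_2 D115304 D201986 (iv5 D115307) (iv6 D53197) D53196
theorem F422619 : act 0 n192251 = n201986 := d19_0 (iv5 D201986) F179572 F350648 (iv1 D82939) (iv5 D38161) F29431 (iv3 F296290) (iv1 D18125) D18126 D37804 D82417 D172085 F387874 F160529 F153865 (iv1 D46673) D46674 D99936 D192251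
def n201987 : Q := act 6 n115305
theorem D201987 : act 6 n115305 = n201987 := rfl
theorem F422620 : act 2 n201987 = n139651 := d3_1 D201987 (iv6 D139651) (iv2 F182851)
theorem F422621 : act 3 n201987 = n201959 := d7_1 D201987 F422526 (iv3 F362476)
theorem F422622 : act 4 n201987 = n144285 := d10_1 D201987 (iv6 F226980) F179580
theorem F422623 : act 7 n201987 = n201958 := d14_2 F182852 D201987 (iv6 D201958) F179551 (iv6 F330591)
theorem F422624 : act 5 n201987 = n115718 := d21_6 D53179 (iv1 F84029) (iv5 D53196) D53197 D115305 D201987 (iv1 D115718) (iv5 D53358) (iv6 D25857) (iv1 F40755)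
theorem F422625 : act 0 n124386 = n201987 := d21_4 D115264 (iv1 F220794) (iv5 D137638) (iv6 F357245) (iv6 D201987) (iv5 F359522) (iv1 D185484) (iv5 F340573) F100912 (iv1 F166203)
theorem F422626 : act 1 n115378 = n201987 := d15_0 (iv0 F422625) F357246 F220154
def n201988 : Q := act 3 n115306
theorem D201988 : act 3 n115306 = n201988 := rfl
theorem F422627 : act 2 n201988 = n201953 := d0_1 D201988 F422500 F179549 F330592 F182854
theorem F422628 : act 4 n201988 = n139382 := d5_2 F223588 D201988 (iv3 D139382) F171677 D140424
theorem F422629 : act 6 n201988 = n201951 := d7_2 F330584 D201988 F422491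
theorem F422630 : act 7 n201988 = n139649 := d8_2 (iv7 F182853) D201988 (iv3 D139649)
def n201989 : Q := act 0 n115307
theorem D201989 : act 0 n115307 = n201989 := rfl
theorem F422631 : act 5 n201989 = n156004 := d17_1 D201989 (iv1 F245096) D156132 F340574 (iv5 D87720) (iv0 F73263) D99284 (iv0 F383969) F383966
theorem F422632 : act 4 n201989 = n184598 := d18_3 (iv1 F383968) F383966 D201989 (iv5 D184598) (iv4 F147952) F289640 F135287 F134633 (iv5 F340587)
theorem F422633 : act 2 n139654 = n201989 := d15_3 (iv0 D201989) F179575 F222819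
theorem F422634 : act 7 n201989 = n139655 := d4_2 F222819 F422633 F222821
theorem F422635 : act 1 n139657 = n201989 := d15_1 F222823 F422634 F222821
def n201990 : Q := act 7 n115307
theorem D201990 : act 7 n115307 = n201990 := rfl
theorem F422636 : act 2 n201990 = n139657 := d4_1 D201990 (iv7 D139657) (iv2 F179574)
theorem F422637 : act 4 n201990 = n184234 := d11_1 D201990 (iv7 F383967) F383966
theorem F422638 : act 5 n201990 = n115308 := d13_1 D201990 (iv7 D115308) D115307
theorem F422639 : act 1 n139655 = n201990 := d15_1 D139655 (iv7 D201990) F179574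
theorem F422640 : act 1 n201990 = n139654 := d15_1 F422639 (iv7 F222819) (iv2 F222821)
def n201991 : Q := act 3 n115309
theorem D201991 : act 3 n115309 = n201991 := rfl
theorem F422641 : act 4 n201991 = n196894 := d5_2 D115309 D201991 (iv3 D196894) F165710 F165614
theorem F422642 : act 7 n201991 = n139664 := d8_2 (iv7 F179584) D201991 (iv3 D139664)
theorem F422643 : act 0 n115401 = n201991 := d20_7 F104293 (iv1 F78369) (iv4 F165026) D196543 (iv1 F401024) (iv3 F402272) F402273 F422641 (iv3 D196894) (iv1 F165713)
def n201992 : Q := act 3 n115310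
theorem D201992 : act 3 n115310 = n201992 := rfl
theorem F422644 : act 4 n201992 = n197433 := d5_2 D115310 D201992 F404267 F175590 (iv3 F168332)
theorem F422645 : act 6 n201992 = n197431 := d7_2 F218246 D201992 F404263
theorem F422646 : act 7 n201992 = n139660 := d8_2 (iv7 F179588) D201992 (iv3 D139660)
def n201993 : Q := act 3 n115311
theorem D201993 : act 3 n115311 = n201993 := rfl
theorem F422647 : act 4 n201993 = n116979 := d5_2 F179591 D201993 (iv3 F182863) F180704 (iv3 F180212)
theorem F422648 : act 5 n201993 = n115653 := d6_2 F179940 D201993 (iv3 D115653)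
theorem F422649 : act 6 n201993 = n152341 := d7_2 (iv6 F322284) D201993 (iv3 D152341)
theorem F422650 : act 7 n201993 = n139633 := d8_2 F179598 D201993 (iv3 D139633)
theorem F422651 : act 0 n200103 = n201993 := d20_4 F40799 D52000 D112668 D200103 (iv3 D201993) (iv4 F179591) (iv1 F180701) F180703 (iv3 D115399) (iv1 D53237)
theorem F422652 : act 2 n201993 = n144078 := d16_9 (iv4 D144078) (iv5 F365099) F365098 (iv5 D116993) (iv4 F162061) D195353 (iv4 F404223) F404222 (iv7 F422650)
def n201994 : Q := act 6 n115313
theorem D201994 : act 6 n115313 = n201994 := rfl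
theorem F422653 : act 2 n201994 = n115315 := d3_1 D201994 (iv6 D115315) D115313
theorem F422654 : act 4 n201994 = n115806 := d10_1 D201994 (iv6 D115806) (iv4 F179601)
theorem F422655 : act 0 n201994 = n178656 := d21_4 D53330 D115627 F179989 D201994 (iv6 D178656) (iv5 F318300) (iv1 D74325) (iv5 D34095) F26106 D25847
def n201995 : Q := act 4 n115314
theorem D201995 : act 4 n115314 = n201995 := rfl
theorem F422656 : act 2 n201995 = n193953 := d1_1 D201995 F391499 (iv2 F179990)
theorem F422657 : act 3 n201995 = n184381 := d5_1 D201995 (iv4 F347899) F175535 (iv4 F84043) (iv3 F179605)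
theorem F422658 : act 7 n201995 = n139639 := d11_2 (iv7 F179606) D201995 (iv4 D139639)
theorem F422659 : act 5 n201995 = n194270 := d16_1 D201995 F392593 (iv5 F222851) (iv4 D139679) (iv5 D65562) (iv4 F101268) D139637 F222802 (iv2 F179990)
theorem F422660 : act 0 n201995 = n193952 := d17_0 F391496 (iv1 D147670) (iv5 F180021) (iv4 D115651) (iv5 D53339) (iv0 F173699) (iv5 F179993) F181964 D201995
theorem F422661 : act 1 n201995 = n193954 := d18_6 (iv1 F180749) (iv4 D115804) (iv1 D53401) (iv4 F84041) D115314 D201995 F391504 (iv0 F401389) (iv5 F401390)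
theorem F422662 : act 6 n184379 = n201995 := d21_3 (iv5 F367108) F367107 D184379 F422660 (iv6 D193952) F353162 (iv1 D103585) D103586 F158905 D103595
theorem F422663 : act 0 n194452 = n192129 := d21_4 (iv5 D103023) (iv1 F75362) (iv5 F158947) D194452 F385678 (iv5 F349841) F392594 (iv5 F422659) (iv6 F422662) F363044
def n201996 : Q := act 6 n115314
theorem D201996 : act 6 n115314 = n201996 := rfl
theorem F422664 : act 3 n201996 = n115316 := d7_1 D201996 (iv6 D115316) (iv3 F179605)
theorem F422665 : act 4 n201996 = n184379 := d10_1 D201996 F422662 (iv4 D201995)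
theorem F422666 : act 7 n194327 = n201996 := d11_0 F422665 F363046 D194327
def n201997 : Q := act 0 n115315
theorem D201997 : act 0 n115315 = n201997 := rfl
theorem F422667 : act 4 n201997 = n139977 := d18_3 (iv1 D115808) (iv4 F179608) D201997 (iv5 F363475) F312607 F310394 F307078 D74858 (iv5 F341169)
theorem F422668 : act 6 n201997 = n130961 := d21_5 D115613 (iv1 F181963) (iv5 D115314) D115315 D201997 (iv5 F245542) (iv1 D156234) (iv5 D74323) F53506 (iv1 F173695)
theorem F422669 : act 2 n178656 = n201997 := d3_3 F422668 (iv2 F316103) D178656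
theorem F422670 : act 7 n152754 = n201997 := d14_0 F422668 (iv7 F316102) F239971 F239961 D152754
theorem F422671 : act 1 n201994 = n152754 := d15_1 (iv0 F422655) F422670 (iv2 F422669)
theorem F422672 : act 1 n152754 = n156102 := d15_1 F422671 F245275 (iv2 F422653)
def n201998 : Q := act 1 n115315
theorem D201998 : act 1 n115315 = n201998 := rfl
theorem F422673 : act 7 n201998 = n178656 := d15_2 (iv0 D201997) D201998 F422669
theorem F422674 : act 4 n139978 = n201998 := d20_6 F38205 F24487 (iv4 F49760) (iv3 F103732) (iv1 F317341) F363478 (iv1 D201998) F179608 F84260 F40874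
theorem F422675 : act 6 n201998 = n152324 := d10_2 F363479 F422674 F239482
theorem F422676 : act 2 n152754 = n201998 := d3_3 F422675 F239958 D152754
def n201999 : Q := act 5 n115315
theorem D201999 : act 5 n115315 = n201999 := rfl
theorem F422677 : act 3 n201999 = n115319 := d6_1 D201999 (iv5 D115319) (iv3 F179607)
def n202000 : Q := act 1 n115316
theorem D202000 : act 1 n115316 = n202000 := rfl
theorem F422678 : act 1 n202000 = n120069 := d15_1 D202000 (iv7 F350653) F179880
theorem F422679 : act 7 n202000 = n156194 := d15_2 (iv0 F347956) D202000 F245457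
theorem F422680 : act 3 n189186 = n202000 := d20_3 (iv4 F349185) (iv1 F349149) D189186 (iv1 D202000) (iv3 F422664) F422665 F363044 D194230 F392426 F372285
theorem F422681 : act 4 n189187 = n202000 := d20_6 (iv4 D103056) (iv1 F294026) (iv4 F294885) F328602 F329790 D189187 (iv1 D202000) F347896 D120073 F347877
theorem F422682 : act 2 n202000 = n156205 := d1_1 F422681 (iv4 F415363) F415362
def n202001 : Q := act 5 n115316
theorem D202001 : act 5 n115316 = n202001 := rfl
theorem F422683 : act 6 n202001 = n115319 := d12_2 D115316 D202001 (iv5 D115319) (iv6 D53203) D53202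
def n202002 : Q := act 3 n115318
theorem D202002 : act 3 n115318 = n202002 := rfl
theorem F422684 : act 7 n202002 = n197291 := d8_2 (iv7 F179613) D202002 F403861
def n202003 : Q := act 3 n115320
theorem D202003 : act 3 n115320 = n202003 := rfl
theorem F422685 : act 7 n202003 = n136792 := d8_2 (iv7 F392461) D202003 (iv3 F226782)
theorem F422686 : act 4 n202003 = n135944 := d20_6 (iv4 D28224) F41233 F41232 D53204 D115320 D202003 (iv1 D135944) (iv4 F164983) (iv3 D107043) F78181
theorem F422687 : act 2 n136787 = n202003 := d1_3 F422686 F350338 D136787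
theorem F422688 : act 1 n115342 = n202003 := d18_6 F111645 F111644 D74401 (iv4 F216008) (iv5 F365677) F422273 F422686 F218681 F327510
def n202004 : Q := act 4 n115320
theorem D202004 : act 4 n115320 = n202004 := rfl
theorem F422689 : act 7 n202004 = n194240 := d11_2 (iv7 F392461) D202004 (iv4 F392456)
theorem F422690 : act 1 n202004 = n196940 := d18_6 (iv1 D197426) F167242 D108152 D197428 (iv5 F404258) D202004 F402381 (iv0 F402383) F404253
theorem F422691 : act 1 n194386 = n202004 := d15_0 F422690 F402382 (iv2 F393014)
def n202005 : Q := act 6 n115320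
theorem D202005 : act 6 n115320 = n202005 := rfl
def n202006 : Q := act 3 n115321
theorem D202006 : act 3 n115321 = n202006 := rfl
theorem F422692 : act 5 n202006 = n135730 := d6_2 (iv5 F404265) D202006 (iv3 F404263)
theorem F422693 : act 0 n115394 = n202006 := d20_4 F401088 (iv1 F401055) (iv4 D115395) D115394 (iv3 D202006) (iv4 F226852) F402384 F402381 (iv3 D196563) D196561
theorem F422694 : act 1 n196661 = n202006 := d15_0 (iv0 F422693) F330599 (iv2 F401392)
def n202007 : Q := act 5 n115322
theorem D202007 : act 5 n115322 = n202007 := rfl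
theorem F422695 : act 2 n202007 = n115323 := d2_1 D202007 (iv5 D115323) D115322
theorem F422696 : act 3 n202007 = n193894 := d6_1 D202007 (iv5 F400907) F400905
def n202008 : Q := act 6 n115322
theorem D202008 : act 6 n115322 = n202008 := rfl
theorem F422697 : act 2 n202008 = n115324 := d3_1 D202008 (iv6 D115324) D115322
theorem F422698 : act 3 n202008 = n177978 := d7_1 D202008 F400916 F400905
theorem F422699 : act 5 n177977 = n202008 := d6_0 F422698 (iv5 D177978) D177977
def n202009 : Q := act 4 n115323
theorem D202009 : act 4 n115323 = n202009 := rfl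
theorem F422700 : act 3 n202009 = n144460 := d5_1 D202009 F227275 F175447 (iv4 F84048) (iv3 F179615)
theorem F422701 : act 0 n202009 = n195551 := d17_0 F397321 F340502 F219383 (iv4 F220223) (iv5 F336217) F206778 (iv5 F330555) F355427 D202009
theorem F422702 : act 5 n144118 = n202009 := d19_1 D144118 (iv4 D202009) F179615 F84049 (iv5 D49517) (iv4 D24169) (iv3 D11354) (iv1 F18304) F18302 F7740 (iv3 F5089) F5087 D2304 D5544 D11830 F38467 (iv5 F38575) D50424 (iv3 F103416)
theorem F422703 : act 0 n198384 = n202009 := d19_0 (iv5 F422702) (iv4 F227340) (iv3 D144497) (iv1 F103769) D67745 D144548 F338515 (iv1 D106672) (iv5 F107026) F107025 F70627 D44939 (iv5 F337312) (iv4 F81735) (iv3 D51762) F39549 (iv5 F79829) (iv4 F169250) (iv3 F407834)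
def n202010 : Q := act 6 n115323
theorem D202010 : act 6 n115323 = n202010 := rfl
theorem F422704 : act 3 n202010 = n115325 := d7_1 D202010 (iv6 D115325) (iv3 F179615)
def n202011 : Q := act 0 n115324
theorem D202011 : act 0 n115324 = n202011 := rfl
theorem F422705 : act 4 n202011 = n193530 := d20_8 (iv4 D193522) (iv1 F375840) (iv4 F408656) F408655 (iv1 D116985) (iv3 F182872) F182873 D202011 F390172 (iv1 F408232)
theorem F422706 : act 6 n202011 = n156304 := d21_5 (iv5 F330557) F355425 (iv5 D115323) D115324 D202011 (iv5 D156304) (iv1 F168141) D137058 F336218 (iv1 F206784)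
def n202012 : Q := act 1 n115324
theorem D202012 : act 1 n115324 = n202012 := rfl
def n202013 : Q := act 5 n115324
theorem D202013 : act 5 n115324 = n202013 := rfl
theorem F422707 : act 2 n202013 = n177977 := d2_1 D202013 F422699 F422697
theorem F422708 : act 3 n202013 = n115326 := d6_1 D202013 (iv5 D115326) (iv3 F179616)
def n202014 : Q := act 7 n115324
theorem D202014 : act 7 n115324 = n202014 := rfl
theorem F422709 : act 3 n202014 = n115327 := d8_1 D202014 (iv7 D115327) (iv3 F179616)
def n202015 : Q := act 1 n115325
theorem D202015 : act 1 n115325 = n202015 := rfl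
theorem F422710 : act 4 n155721 = n202015 := d20_0 (iv1 D202015) F179617 (iv3 F415316) F415319 F364912 (iv4 F378797) F378798 F340387 F361637 (iv1 F350664)
theorem F422711 : act 3 n202015 = n155719 := d5_1 F422710 (iv4 D155719) (iv3 D74075) D74076 D155721
def n202016 : Q := act 5 n115325
theorem D202016 : act 5 n115325 = n202016 := rfl
theorem F422712 : act 6 n202016 = n115326 := d12_2 D115325 D202016 (iv5 D115326) (iv6 D53206) D53205
def n202017 : Q := act 7 n115325
theorem D202017 : act 7 n115325 = n202017 := rfl
theorem F422713 : act 4 n202017 = n200165 := d11_1 D202017 (iv7 D200165) (iv4 F179617)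
theorem F422714 : act 6 n202017 = n119634 := d14_1 D202017 F346467 (iv6 D115470) (iv7 F84112) D115325
def n202018 : Q := act 7 n115326
theorem D202018 : act 7 n115326 = n202018 := rfl
theorem F422715 : act 2 n202018 = n156125 := d4_1 D202018 (iv7 F400924) F400922
theorem F422716 : act 4 n202018 = n191278 := d11_1 D202018 F382866 (iv4 F369580)
theorem F422717 : act 5 n202018 = n115327 := d13_1 D202018 (iv7 D115327) D115326
theorem F422718 : act 1 n155995 = n202018 := d15_1 F400926 (iv7 D202018) (iv2 F400922)
theorem F422719 : act 1 n202018 = n156127 := d15_1 F422718 (iv7 D156127) (iv2 F245067)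
theorem F422720 : act 1 n191278 = n184598 := d18_8 (iv1 F289655) (iv4 F158371) F158372 F75095 D88354 (iv4 F340591) F422718 F422716 (iv5 D184598)
theorem F422721 : act 1 n156182 = n191278 := d15_0 F422720 (iv7 F391117) F391114
def n202019 : Q := act 5 n115328
theorem D202019 : act 5 n115328 = n202019 := rfl
theorem F422722 : act 3 n202019 = n139673 := d6_1 D202019 (iv5 D139673) (iv3 F179621)
theorem F422723 : act 1 n202019 = n115358 := d17_6 (iv1 F405422) (iv5 F405417) F405419 (iv5 F404991) F223818 D202019 F179637 D115447 (iv4 F223429)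
def n202020 : Q := act 3 n115329
theorem D202020 : act 3 n115329 = n202020 := rfl
theorem F422724 : act 2 n202020 = n139668 := d0_1 D202020 (iv3 D139668) (iv2 F180192) (iv3 F400902) F400914
def n202021 : Q := act 5 n115329
theorem D202021 : act 5 n115329 = n202021 := rfl
theorem F422725 : act 4 n202021 = n122653 := d16_4 (iv4 F404981) (iv5 F404984) F223640 D202021 (iv5 D122653) (iv4 F90561) D123252 F350735 (iv2 F350740)
theorem F422726 : act 0 n202021 = n115358 := d17_2 (iv1 F400915) D202021 F179637 F84105 (iv5 F101671) (iv0 F345321) (iv5 D140496) F180104 (iv4 F400906)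
theorem F422727 : act 6 n202021 = n122657 := d21_3 (iv5 F400907) (iv1 F400915) D202021 F301789 F288747 (iv5 F391305) (iv1 D193891) (iv5 D102454) D102455 D193894
def n202022 : Q := act 6 n115329
theorem D202022 : act 6 n115329 = n202022 := rfl
def n202023 : Q := act 5 n115330
theorem D202023 : act 5 n115330 = n202023 := rfl
theorem F422728 : act 2 n202023 = n115331 := d2_1 D202023 (iv5 D115331) D115330
theorem F422729 : act 4 n202023 = n160299 := d9_1 D202023 (iv5 D160299) (iv4 F350731) F355556 (iv4 D141921) F102401 (iv4 F164985) (iv5 F179772) (iv4 F355558) F355559 (iv4 F350732) (iv5 F375643) F375642 (iv5 D140498) (iv4 F179622)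
theorem F422730 : act 7 n202023 = n193894 := d13_2 F400908 D202023 (iv5 F400907)
theorem F422731 : act 1 n202023 = n193895 := d17_6 D66505 D141847 F345314 (iv5 D140498) (iv4 F179622) D202023 F391315 (iv0 D115446) F84105
theorem F422732 : act 1 n193870 = n202023 := d15_0 F422731 (iv7 D193895) (iv2 F391258)
def n202024 : Q := act 4 n115331
theorem D202024 : act 4 n115331 = n202024 := rfl
theorem F422733 : act 2 n202024 = n160299 := d1_1 D202024 (iv4 F422729) F422728
theorem F422734 : act 3 n202024 = n137364 := d5_1 D202024 F344624 F175484 (iv4 F84052) (iv3 F179623)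
theorem F422735 : act 7 n202024 = n137382 := d11_2 F179773 D202024 F355558
theorem F422736 : act 5 n202024 = n120455 := d16_7 F357683 (iv5 F341409) (iv4 D140502) (iv5 D65945) (iv4 F84051) D115331 D202024 F355545 (iv2 F357681)
theorem F422737 : act 0 n202024 = n193146 := d18_2 (iv1 F391261) D202024 (iv4 F422466) F422467 F401863 (iv0 F165410) (iv4 F165164) D196646 F401321
theorem F422738 : act 1 n202024 = n134190 := d18_8 (iv1 F341471) (iv4 F342801) (iv1 F216085) (iv4 F343200) (iv5 D102458) (iv4 F157407) F360845 D202024 (iv5 D134190)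
def n202025 : Q := act 6 n115331
theorem D202025 : act 6 n115331 = n202025 := rfl
theorem F422739 : act 3 n202025 = n115333 := d7_1 D202025 (iv6 D115333) (iv3 F179623)
def n202026 : Q := act 5 n115332
theorem D202026 : act 5 n115332 = n202026 := rfl
theorem F422740 : act 3 n202026 = n115334 := d6_1 D202026 (iv5 D115334) (iv3 F179624)
theorem F422741 : act 4 n202026 = n139389 := d16_4 (iv4 F169015) F341357 (iv4 F179625) D202026 (iv5 D139389) (iv4 D65421) D65422 (iv7 F168564) F168561
def n202027 : Q := act 5 n115333
theorem D202027 : act 5 n115333 = n202027 := rfl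
theorem F422742 : act 6 n202027 = n115334 := d12_2 D115333 D202027 (iv5 D115334) (iv6 D53209) D53208
theorem F422743 : act 4 n192246 = n202027 := d10_3 F422742 F363752 D192246
theorem F422744 : act 4 n199607 = n191855 := d16_4 (iv4 F409543) F409544 (iv4 F222761) (iv5 F412826) (iv5 F386196) F422743 (iv5 D202027) (iv7 F354575) (iv2 F354580)
theorem F422745 : act 6 n191854 = n199607 := d10_0 F422744 (iv6 D191855) D191854
theorem F422746 : act 3 n199608 = n191854 := d7_3 F422745 (iv3 D199607) D199608
def n202028 : Q := act 0 n115337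
theorem D202028 : act 0 n115337 = n202028 := rfl
def n202029 : Q := act 1 n115337
theorem D202029 : act 1 n115337 = n202029 := rfl
theorem F422747 : act 4 n202029 = n141805 := d18_7 (iv1 F359741) (iv4 F96845) D132409 F347265 (iv5 F220098) (iv4 F203713) D202029 F359757 (iv5 D132322)
theorem F422748 : act 3 n115801 = n202029 := d20_3 F84041 D53400 D115801 (iv1 D202029) (iv3 D115337) D115338 F396954 F404276 F404277 (iv1 D115312)
theorem F422749 : act 6 n202029 = n150608 := d7_2 (iv6 F318386) F422748 F237145
theorem F422750 : act 7 n202029 = n139668 := d8_2 (iv7 F180183) F422748 (iv3 D139668)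
theorem E103844 : n202028 = n202020 := ((c15_4 (iv0 D202028) D202029 F422750 (iv2 F422724))).symm
theorem F422751 : act 1 n202020 = n115337 := (sb E103844 (iv0 D202028))
def n202030 : Q := act 5 n115337
theorem D202030 : act 5 n115337 = n202030 := rfl
theorem F422752 : act 3 n202030 = n115339 := d6_1 D202030 (iv5 D115339) D115337
theorem F422753 : act 4 n202030 = n141538 := d16_2 (iv4 F203713) D202030 (iv5 F395935) F395934 (iv5 F325510) F325509 (iv5 F220092) (iv7 F203950) (iv2 F203952)
theorem F422754 : act 0 n202030 = n196658 := d17_2 (iv1 D202029) D202030 (iv5 D196658) (iv4 F202678) (iv5 F359744) (iv0 F359747) D132481 (iv0 F354187) (iv4 F422747)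
theorem F422755 : act 6 n115360 = n115337 := d21_5 (iv5 D53208) (iv1 D25805) D25807 D53217 D115360 D202030 F422754 (iv5 D196658) (iv6 D107180) (iv1 F84054)
theorem F422756 : act 2 n196529 = n115360 := d3_3 F422755 (iv2 F203954) (iv6 F400987)
theorem F422757 : act 3 n115340 = n115360 := d7_3 F422755 (iv3 D115337) D115340
theorem F422758 : act 7 n115361 = n196529 := d15_2 (iv0 D115360) D115361 F422756
theorem F422759 : act 7 n196530 = n115360 := d15_2 (iv0 D196529) D196530 (iv2 F422756)
theorem F422760 : act 2 n115361 = n196530 := d4_3 F422759 (iv2 F422756) (iv7 F422758)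
def n202031 : Q := act 1 n115338
theorem D202031 : act 1 n115338 = n202031 := rfl
theorem F422761 : act 1 n202031 = n115343 := d15_1 D202031 (iv7 F396815) (iv2 F396817)
theorem F422762 : act 3 n144119 = n202031 := d20_9 (iv4 D115338) (iv1 F179452) (iv4 F227208) F227207 (iv1 F169278) (iv3 F404260) F404262 F402425 F226832 (iv1 D202031)
theorem F422763 : act 2 n202031 = n144452 := d0_1 F422762 (iv3 D144452) (iv2 F162352) D139806 F396806
def n202032 : Q := act 3 n115338
theorem D202032 : act 3 n115338 = n202032 := rfl
def n202033 : Q := act 5 n115338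
theorem D202033 : act 5 n115338 = n202033 := rfl
def n202034 : Q := act 6 n115338
theorem D202034 : act 6 n115338 = n202034 := rfl
theorem F422764 : act 4 n202034 = n115340 := d10_1 D202034 (iv6 D115340) D115338
def n202035 : Q := act 6 n115339
theorem D202035 : act 6 n115339 = n202035 := rfl
theorem F422765 : act 4 n202035 = n141537 := d10_1 D202035 (iv6 D141537) (iv4 F330607)
theorem F422766 : act 7 n202035 = n119630 := d14_2 F349434 D202035 (iv6 D119630) F184283 F349438
theorem F422767 : act 0 n155719 = n202035 := d18_2 F208109 D155719 F422765 F349464 F276301 F315671 (iv4 D157409) (iv0 D74857) D74859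
def n202036 : Q := act 0 n115340
theorem D202036 : act 0 n115340 = n202036 := rfl
def n202037 : Q := act 1 n115340
theorem D202037 : act 1 n115340 = n202037 := rfl
def n202038 : Q := act 5 n115340
theorem D202038 : act 5 n115340 = n202038 := rfl
theorem F422768 : act 0 n137046 = n202038 := d21_7 F341180 (iv1 F360855) F360856 (iv6 F336208) (iv1 D64431) D64433 (iv5 F220180) (iv5 D202038) (iv6 D115340) (iv1 F179452)
def n202039 : Q := act 7 n115340
theorem D202039 : act 7 n115340 = n202039 := rfl
theorem F422769 : act 3 n202039 = n196530 := d8_1 D202039 F422759 (iv3 F422757)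
theorem F422770 : act 0 n139660 = n202039 := d20_4 F49190 D30722 D65546 D139660 F422769 F406388 (iv1 D197984) F168812 F330592 (iv1 D65542)
def n202040 : Q := act 0 n115342
theorem D202040 : act 0 n115342 = n202040 := rfl
theorem F422771 : act 4 n202040 = n135943 := d18_3 F422570 F422273 D202040 F350326 D136195 (iv0 F399259) (iv4 F406299) (iv0 F406301) (iv5 F422569)
theorem F422772 : act 2 n136792 = n202040 := d15_3 (iv0 D202040) F422688 F422685
theorem F422773 : act 7 n202040 = n136787 := d4_2 F422685 F422772 F422687
def n202041 : Q := act 5 n115342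
theorem D202041 : act 5 n115342 = n202041 := rfl
theorem F422774 : act 2 n202041 = n196319 := d2_1 D202041 F400309 (iv2 F422272)
theorem F422775 : act 3 n202041 = n115344 := d6_1 D202041 (iv5 D115344) D115342
theorem F422776 : act 7 n202041 = n196656 := d13_2 F422269 D202041 F422271
theorem F422777 : act 4 n202041 = n134724 := d16_2 F422273 D202041 (iv5 D134724) (iv4 F100604) F100605 (iv4 F98710) D134895 (iv7 F328195) D136910
theorem F422778 : act 0 n202041 = n196657 := d17_2 (iv1 F422688) D202041 F401375 F219202 (iv5 F330986) (iv0 D131030) (iv5 F326702) D135944 (iv4 F422686)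
theorem F422779 : act 1 n202041 = n196654 := d17_6 F179537 F331018 D134033 (iv5 F365677) F422273 D202041 F401366 F224170 (iv4 D137355)
theorem F422780 : act 6 n119631 = n202041 := d7_0 F422775 F349439 D119631
def n202042 : Q := act 6 n115342
theorem D202042 : act 6 n115342 = n202042 := rfl
theorem F422781 : act 3 n202042 = n115345 := d7_1 D202042 (iv6 D115345) D115342
theorem F422782 : act 4 n202042 = n193283 := d10_1 D202042 F389394 F422273
def n202043 : Q := act 5 n115343
theorem D202043 : act 5 n115343 = n202043 := rfl
theorem F422783 : act 3 n202043 = n132426 := d6_1 D202043 (iv5 F396603) F396604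
theorem F422784 : act 1 n202043 = n195550 := d17_6 (iv1 F179470) D115459 (iv1 F360642) (iv5 D115344) D115343 D202043 (iv5 D195550) D195548 F397309
theorem F422785 : act 6 n115343 = n197277 := d21_3 D195550 (iv1 F422784) (iv5 D202043) (iv1 D197277) (iv6 D108065) (iv5 D49909) D49906 D108054 F397311 (iv1 D195548)
theorem F422786 : act 4 n197277 = n115345 := d10_1 F422785 (iv6 D115345) D115343
def n202044 : Q := act 4 n115344
theorem D202044 : act 4 n115344 = n202044 := rfl
theorem F422787 : act 2 n202044 = n141445 := d1_1 D202044 (iv4 F349435) F349433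
theorem F422788 : act 3 n202044 = n127692 := d5_1 D202044 F350032 F350035 (iv4 F422777) F422775
theorem F422789 : act 6 n202044 = n118164 := d10_2 (iv6 F349439) D202044 (iv4 F185673)
theorem F422790 : act 7 n202044 = n141534 := d11_2 F360640 D202044 (iv4 F360638)
theorem F422791 : act 5 n202044 = n144901 := d18_4 F320930 (iv4 F327618) (iv1 F360642) D202044 (iv4 F349452) F349450 (iv4 D117704) F184312 F341179
theorem F422792 : act 0 n115625 = n202044 := d20_1 (iv4 F179978) (iv4 D202044) (iv3 F422775) F422778 F401373 F165188 (iv1 F78285) D53276 D115490 F336240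
theorem F422793 : act 1 n141533 = n202044 := d15_1 D141533 F422790 (iv2 D141534)
def n202045 : Q := act 5 n115345
theorem D202045 : act 5 n115345 = n202045 := rfl
theorem F422794 : act 6 n202045 = n119632 := d12_2 D115345 D202045 (iv5 D119632) (iv6 F349439) (iv5 D115344)
theorem F422795 : act 4 n191498 = n202045 := d10_3 F422794 (iv4 F420932) (iv6 F420937)
def n202046 : Q := act 7 n115345
theorem D202046 : act 7 n115345 = n202046 := rfl
def n202047 : Q := act 0 n115347
theorem D202047 : act 0 n115347 = n202047 := rfl
def n202048 : Q := act 1 n115347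
theorem D202048 : act 1 n115347 = n202048 := rfl
theorem F422796 : act 1 n202048 = n115355 := d15_1 D202048 (iv7 D115355) (iv2 F179630)
theorem F422797 : act 3 n202048 = n152792 := d20_5 (iv4 D30806) (iv1 F111215) (iv4 F84064) (iv3 F179634) (iv1 F422796) F366267 (iv1 D126742) (iv4 F203871) F203870 F101952
def n202049 : Q := act 5 n115347
theorem D202049 : act 5 n115347 = n202049 := rfl
theorem F422798 : act 2 n202049 = n115354 := d2_1 D202049 (iv5 D115354) (iv2 F179630)
def n202050 : Q := act 7 n115347
theorem D202050 : act 7 n115347 = n202050 := rfl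
theorem F422799 : act 2 n202050 = n115355 := d4_1 D202050 (iv7 D115355) (iv2 F179630)
theorem F422800 : act 1 n115355 = n202047 := d15_0 (iv0 D202047) D202050 F422799
theorem F422801 : act 1 n115353 = n202050 := d15_1 D115353 (iv7 D202050) F179630
theorem F422802 : act 1 n202050 = n115352 := d15_0 (iv0 D115352) D115355 (iv2 F422799)
def n202051 : Q := act 3 n115348
theorem D202051 : act 3 n115348 = n202051 := rfl
theorem F422803 : act 5 n202051 = n115450 := d6_2 (iv5 F336248) D202051 (iv3 D115450)
theorem F422804 : act 6 n202051 = n156949 := d7_2 (iv6 F336250) D202051 F247018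
theorem F422805 : act 2 n178779 = n202051 := d3_3 F422804 F318056 D178779
def n202052 : Q := act 3 n115349
theorem D202052 : act 3 n115349 = n202052 := rfl
theorem F422806 : act 5 n202052 = n115455 := d6_2 (iv5 F360856) D202052 (iv3 D115455)
theorem F422807 : act 7 n202052 = n156084 := d8_2 F409706 D202052 F409708
def n202053 : Q := act 4 n115349
theorem D202053 : act 4 n115349 = n202053 := rfl
theorem F422808 : act 6 n202053 = n140914 := d10_2 (iv6 F360857) D202053 (iv4 F351439)
theorem F422809 : act 0 n202053 = n145056 := d17_0 (iv5 D145056) (iv1 F349448) F321267 (iv4 F330607) (iv5 D115339) (iv0 D53210) D53213 D115349 D202053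
theorem F422810 : act 3 n202053 = n140917 := d19_3 (iv1 F179476) (iv5 F360856) D202053 F341034 F279744 (iv4 F243358) F352142 F352131 (iv5 D142443) (iv4 D66791) (iv3 F84649) (iv1 F84651) F180718 D53853 (iv3 F84887) (iv1 F93289) (iv5 F163674) F163673 (iv3 F179471)
def n202054 : Q := act 0 n115351
theorem D202054 : act 0 n115351 = n202054 := rfl
theorem F422811 : act 4 n202054 = n116014 := d20_2 (iv4 F349398) D202054 F180755 (iv1 F341082) (iv3 D67659) F49703 (iv1 F38641) (iv4 F49198) (iv3 F101290) (iv1 F222854)
theorem F422812 : act 6 n202054 = n116012 := d21_5 (iv5 D115344) (iv1 D53211) D53213 D115351 D202054 F401390 F401389 (iv5 D116544) (iv6 F327619) (iv1 F360642)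
def n202055 : Q := act 1 n115351
theorem D202055 : act 1 n115351 = n202055 := rfl
theorem F422813 : act 4 n177173 = n202055 := d20_6 D69661 (iv1 F309220) F199146 F106716 D84423 D177173 (iv1 D202055) F349398 F349395 (iv1 F105965)
def n202056 : Q := act 5 n115351
theorem D202056 : act 5 n115351 = n202056 := rfl
theorem F422814 : act 3 n202056 = n115362 := d6_1 D202056 (iv5 D115362) (iv3 F179632)
theorem F422815 : act 6 n202056 = n115354 := d12_2 D115351 D202056 (iv5 D115354) (iv6 D53214) D53213
def n202057 : Q := act 2 n115352
theorem D202057 : act 2 n115352 = n202057 := rfl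
theorem F422816 : act 7 n115353 = n202057 := d15_2 (iv0 D115352) D115353 (iv2 D202057)
def n202058 : Q := act 3 n115352
theorem D202058 : act 3 n115352 = n202058 := rfl
def n202059 : Q := act 4 n115352
theorem D202059 : act 4 n115352 = n202059 := rfl
theorem F422817 : act 0 n202059 = n118259 := d20_1 D202059 (iv4 F239524) (iv3 D152338) (iv1 F108347) (iv3 F321635) (iv4 D53227) (iv1 D25810) (iv4 F40794) (iv3 F84056) D115352
theorem F422818 : act 0 n150608 = n202058 := d20_4 F52536 (iv1 F52442) D71870 (iv3 F237145) (iv3 D202058) D202059 F422817 (iv4 F239524) (iv3 D152338) (iv1 F108347)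
theorem F422819 : act 1 n152794 = n202058 := d15_0 (iv0 F422818) F237146 D152794
def n202060 : Q := act 5 n115352
theorem D202060 : act 5 n115352 = n202060 := rfl
def n202061 : Q := act 6 n115352
theorem D202061 : act 6 n115352 = n202061 := rfl
def n202062 : Q := act 7 n115352
theorem D202062 : act 7 n115352 = n202062 := rfl
theorem F422820 : act 2 n202062 = n115353 := d4_1 D202062 F422816 (iv2 D202057)
def n202063 : Q := act 3 n115353
theorem D202063 : act 3 n115353 = n202063 := rfl
def n202064 : Q := act 4 n115353
theorem D202064 : act 4 n115353 = n202064 := rfl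
theorem F422821 : act 0 n118259 = n202064 := d20_10 (iv4 D202064) (iv1 D115353) (iv4 F179562) F179561 F111253 F320620 (iv4 D26343) D26341 D54468 D118259
def n202065 : Q := act 5 n115353
theorem D202065 : act 5 n115353 = n202065 := rfl
def n202066 : Q := act 6 n115353
theorem D202066 : act 6 n115353 = n202066 := rfl
def n202067 : Q := act 0 n115354
theorem D202067 : act 0 n115354 = n202067 := rfl
def n202068 : Q := act 1 n115354
theorem D202068 : act 1 n115354 = n202068 := rfl
def n202069 : Q := act 4 n115354
theorem D202069 : act 4 n115354 = n202069 := rfl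
def n202070 : Q := act 7 n115354
theorem D202070 : act 7 n115354 = n202070 := rfl
theorem F422822 : act 3 n202070 = n115372 := d8_1 D202070 (iv7 D115372) (iv3 F179633)
theorem F422823 : act 5 n202070 = n115355 := d13_1 D202070 (iv7 D115355) D115354
def n202071 : Q := act 2 n115358
theorem D202071 : act 2 n115358 = n202071 := rfl
theorem F422824 : act 4 n202071 = n134428 := d1_2 F411708 D202071 (iv2 F411705)
theorem F422825 : act 5 n202071 = n115448 := d2_2 (iv5 F179637) D202071 (iv2 D115448)
theorem F422826 : act 6 n202071 = n199389 := d3_2 F411733 D202071 F411936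
theorem F422827 : act 0 n135733 = n160308 := d18_0 (iv4 D160308) (iv1 F342819) (iv4 F422824) F422825 F179757 F165411 (iv4 F401863) (iv0 F422374) F422372
def n202072 : Q := act 1 n115359
theorem D202072 : act 1 n115359 = n202072 := rfl
theorem F422828 : act 1 n202072 = n200304 := d15_1 D202072 F415917 F206788
theorem F422829 : act 4 n202072 = n115694 := d17_9 (iv1 D115694) D115695 F351485 (iv5 F350670) (iv4 F422278) (iv5 D201897) F404300 F245197 D202072
def n202073 : Q := act 7 n115359
theorem D202073 : act 7 n115359 = n202073 := rfl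
theorem F422830 : act 2 n202073 = n200304 := d4_1 D202073 F415917 F206788
theorem F422831 : act 3 n202073 = n139308 := d8_1 D202073 (iv7 F411734) F411732
theorem F422832 : act 4 n202073 = n200152 := d11_1 D202073 (iv7 D200152) (iv4 F179638)
theorem F422833 : act 6 n202073 = n200301 := d14_1 D202073 F415900 (iv6 D196528) F165004 D115359
def n202074 : Q := act 4 n115360
theorem D202074 : act 4 n115360 = n202074 := rfl
theorem F422834 : act 2 n202074 = n126730 := d1_1 D202074 F400986 F422756
theorem F422835 : act 6 n202074 = n126630 := d10_2 (iv6 F422755) D202074 (iv4 F203713)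
theorem F422836 : act 7 n202074 = n197984 := d11_2 F422759 D202074 (iv4 F406388)
theorem F422837 : act 0 n202074 = n144355 := d20_1 D202074 (iv4 F362475) (iv3 F362476) (iv1 F179578) (iv3 F222815) F222816 (iv1 F222854) (iv4 F349398) F179632 D115360
theorem E103845 : n202037 = n201992 := ((c20_4 F101272 (iv1 F84034) D115310 D201992 (iv1 D202037) F422757 D202074 F422837 (iv4 F362475) (iv3 F362476) (iv1 F179578))).symm
theorem F422838 : act 0 n201992 = n115340 := (sb E103845 (iv1 D202037))
theorem F422839 : act 0 n197072 = n202074 := d20_10 (iv4 D202074) (iv1 F400988) (iv4 F415290) F415289 F408979 F242706 (iv4 F231519) (iv1 F231521) (iv4 F231115) (iv3 F402917)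
theorem F422840 : act 2 n139660 = n202036 := d15_3 (iv0 D202036) (iv0 F422838) F422646
def n202075 : Q := act 5 n115360
theorem D202075 : act 5 n115360 = n202075 := rfl
theorem F422841 : act 3 n202075 = n202038 := d6_1 D202075 (iv5 D202038) F422757
def n202076 : Q := act 3 n115361
theorem D202076 : act 3 n115361 = n202076 := rfl
def n202077 : Q := act 4 n115361
theorem D202077 : act 4 n115361 = n202077 := rfl
theorem F422842 : act 2 n202077 = n197984 := d1_1 D202077 (iv4 F406388) (iv2 F422760)
theorem F422843 : act 7 n202077 = n126730 := d11_2 (iv7 F422758) D202077 F400986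
theorem F422844 : act 1 n202077 = n144355 := d18_8 F364023 (iv4 F274460) F415448 (iv4 D200183) (iv5 D112768) (iv4 F84063) D115361 D202077 F364895
theorem F422845 : act 3 n201571 = n202077 := d20_5 F103652 D67655 (iv4 F322415) (iv3 F347632) F420969 (iv4 D202077) (iv1 D115361) F84063 (iv3 F175565) F322546
theorem F422846 : act 5 n202077 = n201569 := d6_2 D201571 F422845 F420955
theorem F422847 : act 0 n202077 = n197072 := d20_4 F390109 D193507 (iv4 F420968) F422845 F402917 F231115 (iv1 F231522) (iv4 F231523) (iv3 F352358) F390111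
theorem F422848 : act 3 n128217 = n193505 := d20_5 F402918 D201954 (iv4 F422504) F415280 (iv1 F347139) F390109 D193507 (iv4 F420968) F422845 F422847
theorem F422849 : act 4 n193513 = n128217 := d5_0 F422848 F390109 F156802 (iv4 F156810) (iv3 F390132)
theorem F422850 : act 6 n193503 = n128217 := d7_0 F422848 (iv6 D193505) D193503
def n202078 : Q := act 5 n115361
theorem D202078 : act 5 n115361 = n202078 := rfl
def n202079 : Q := act 6 n115361
theorem D202079 : act 6 n115361 = n202079 := rfl
def n202080 : Q := act 0 n115362
theorem D202080 : act 0 n115362 = n202080 := rfl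
def n202081 : Q := act 1 n115362
theorem D202081 : act 1 n115362 = n202081 := rfl
def n202082 : Q := act 4 n115362
theorem D202082 : act 4 n115362 = n202082 := rfl
theorem F422851 : act 6 n202082 = n115371 := d10_2 (iv6 F179639) D202082 (iv4 D115371)
def n202083 : Q := act 7 n115362
theorem D202083 : act 7 n115362 = n202083 := rfl
theorem F422852 : act 5 n202083 = n115363 := d13_1 D202083 (iv7 D115363) D115362
def n202084 : Q := act 2 n115364
theorem D202084 : act 2 n115364 = n202084 := rfl
theorem F422853 : act 3 n202084 = n152811 := d0_2 D115364 D202084 (iv2 F400993) (iv3 D196533) (iv2 F165006)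
theorem F422854 : act 4 n202084 = n190582 := d1_2 F226726 D202084 F380203
theorem F422855 : act 6 n202084 = n193691 := d3_2 F245202 D202084 (iv2 F390701)
theorem F422856 : act 1 n202084 = n194239 := d15_0 (iv0 F392452) F226969 D202084
theorem F422857 : act 1 n194237 = n202084 := d15_0 F422856 (iv7 F393243) F393242
def n202085 : Q := act 5 n115364
theorem D202085 : act 5 n115364 = n202085 := rfl
theorem F422858 : act 3 n202085 = n115365 := d6_1 D202085 (iv5 D115365) D115364
def n202086 : Q := act 4 n115365
theorem D202086 : act 4 n115365 = n202086 := rfl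
def n202087 : Q := act 6 n115365
theorem D202087 : act 6 n115365 = n202087 := rfl
def n202088 : Q := act 1 n115366
theorem D202088 : act 1 n115366 = n202088 := rfl
theorem F422859 : act 7 n202088 = n152813 := d15_2 (iv0 F366268) D202088 (iv2 D152813)
theorem F422860 : act 4 n192938 = n202088 := d20_0 (iv1 D202088) (iv4 F400181) (iv3 D196280) (iv1 D106868) F329666 F73885 (iv1 F73302) (iv4 F74295) D100979 D192938
theorem F422861 : act 3 n152794 = n202088 := d20_3 (iv4 D155841) D155839 F360754 (iv1 D202088) (iv3 D115366) F165010 (iv1 D59440) (iv4 F93825) (iv3 F203870) (iv1 F388836)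
theorem F422862 : act 2 n202088 = n152329 := d0_1 F422861 (iv3 D152329) F108337 D72100 D152794
theorem F422863 : act 0 n152811 = n202088 := d20_4 F393253 F380207 (iv4 F422854) F422853 (iv3 F422861) (iv4 F360754) (iv1 F244837) D155858 (iv3 F360758) (iv1 F393251)
def n202089 : Q := act 2 n115366
theorem D202089 : act 2 n115366 = n202089 := rfl
theorem F422864 : act 7 n202089 = n152811 := d4_2 F400991 D202089 (iv2 F400993)
theorem F422865 : act 1 n202089 = n152329 := d15_0 (iv0 F400992) F400991 D202089
theorem F422866 : act 1 n152813 = n202089 := d15_0 F422865 F239492 D152813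
def n202090 : Q := act 5 n115366
theorem D202090 : act 5 n115366 = n202090 := rfl
theorem F422867 : act 3 n202090 = n115367 := d6_1 D202090 (iv5 D115367) D115366
def n202091 : Q := act 6 n115366
theorem D202091 : act 6 n115366 = n202091 := rfl
theorem F422868 : act 3 n202091 = n115368 := d7_1 D202091 (iv6 D115368) D115366
def n202092 : Q := act 4 n115367
theorem D202092 : act 4 n115367 = n202092 := rfl
def n202093 : Q := act 6 n115367
theorem D202093 : act 6 n115367 = n202093 := rfl
def n202094 : Q := act 5 n115368
theorem D202094 : act 5 n115368 = n202094 := rfl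
theorem F422869 : act 0 n202094 = n156301 := d17_2 (iv1 F226988) D202094 (iv5 D156301) (iv4 D74344) (iv5 F101278) (iv0 F111223) F111225 F100584 D115728
theorem F422870 : act 1 n202094 = n156304 := d17_6 D112702 (iv5 F226974) F402958 F402955 F203873 D202094 (iv5 D156304) F168140 F84104
def n202095 : Q := act 3 n115369
theorem D202095 : act 3 n115369 = n202095 := rfl
theorem F422871 : act 5 n202095 = n137035 := d6_2 (iv5 F201768) D202095 (iv3 D137035)
def n202096 : Q := act 4 n115369
theorem D202096 : act 4 n115369 = n202096 := rfl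
theorem F422872 : act 5 n202096 = n137000 := d16_1 D202096 (iv4 D137000) F328850 (iv4 F184230) F328408 (iv4 F175909) (iv5 F179643) (iv7 F245400) F245399
def n202097 : Q := act 6 n115369
theorem D202097 : act 6 n115369 = n202097 := rfl
def n202098 : Q := act 3 n115370
theorem D202098 : act 3 n115370 = n202098 := rfl
theorem F422873 : act 5 n202098 = n137037 := d6_2 (iv5 F179643) D202098 (iv3 D137037)
theorem F422874 : act 0 n202098 = n152814 := d21_7 F400907 (iv1 F391317) (iv5 F401321) (iv6 F401322) (iv1 F180738) (iv6 F365193) (iv5 F422873) (iv5 D152814) (iv6 F322283) (iv1 F400909)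
def n202099 : Q := act 4 n115370
theorem D202099 : act 4 n115370 = n202099 := rfl
theorem F422875 : act 5 n202099 = n136997 := d9_2 (iv5 F179643) D202099 (iv4 D136997) F201767 (iv4 F201763) (iv5 F201765) F172049 (iv5 F201768) D202096 F422872 (iv4 D137000) F328850 (iv4 F184230) F328408 (iv4 F175909)
def n202100 : Q := act 6 n115370
theorem D202100 : act 6 n115370 = n202100 := rfl
def n202101 : Q := act 0 n115371
theorem D202101 : act 0 n115371 = n202101 := rfl
theorem F422876 : act 5 n202101 = n137003 := d17_1 D202101 (iv1 D137003) D137005 (iv4 F245417) F245418 F111485 (iv5 F201768) (iv0 D115369) D115371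
theorem F422877 : act 4 n202101 = n137031 := d18_3 (iv1 D115370) D115371 D202101 (iv5 D137031) (iv4 D64413) (iv0 D30331) D30333 D64418 (iv5 F179643)
def n202102 : Q := act 1 n115371
theorem D202102 : act 1 n115371 = n202102 := rfl
def n202103 : Q := act 3 n115371
theorem D202103 : act 3 n115371 = n202103 := rfl
def n202104 : Q := act 5 n115371
theorem D202104 : act 5 n115371 = n202104 := rfl
theorem F422878 : act 4 n202104 = n136536 := d16_2 D115371 D202104 F219634 F99921 (iv5 F78194) (iv4 F165013) (iv5 F400997) (iv7 D196535) F165011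
theorem F422879 : act 5 n137002 = n202102 := d17_1 D137002 (iv1 D202102) D202104 F422878 F219634 F179678 (iv5 F201767) (iv0 D64387) D64389
theorem F422880 : act 3 n178079 = n202102 := d19_19 (iv1 D202102) D202104 F422878 F359414 (iv1 D102289) (iv5 D47469) (iv4 F74645) (iv3 F157099) D193735 F390819 F376050 F372402 (iv1 F154804) (iv5 F294201) D188992 (iv3 F406686) (iv1 F406689) F304631 (iv4 F277618)
theorem F422881 : act 4 n202102 = n137034 := d5_2 (iv4 F277618) F422880 (iv3 F366399) F364657 F277616
theorem F422882 : act 6 n202102 = n178078 := d7_2 D178079 F422880 (iv3 D178078)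
theorem F422883 : act 5 n201564 = n193561 := d19_17 D137002 F422879 F422881 (iv3 F366399) (iv1 F239537) (iv5 D152342) (iv4 F323309) F323308 (iv1 D114618) (iv5 D52905) F40608 (iv3 F40602) F50918 D25715 D52978 D114811 D201564 F390287 (iv3 D137004)
theorem F422884 : act 3 n193562 = n201564 := d6_3 F422883 F390286 D193562
theorem F422885 : act 6 n179983 = n201564 := d12_0 F422883 (iv6 D193561) (iv5 D101919) (iv6 F314171) D179983
theorem F422886 : act 7 n136535 = n202104 := d11_0 F422878 (iv7 D136536) D136535
def n202105 : Q := act 7 n115371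
theorem D202105 : act 7 n115371 = n202105 := rfl
theorem F422887 : act 4 n202105 = n115372 := d11_1 D202105 (iv7 D115372) D115371
theorem F422888 : act 5 n202105 = n136535 := d13_1 D202105 F422886 (iv5 D202104)
def n202106 : Q := act 6 n115372
theorem D202106 : act 6 n115372 = n202106 := rfl
def n202107 : Q := act 5 n115373
theorem D202107 : act 5 n115373 = n202107 := rfl
theorem F422889 : act 2 n202107 = n140260 := d2_1 D202107 (iv5 D140260) F179646
theorem F422890 : act 7 n202107 = n126688 := d13_2 (iv7 F179648) D202107 (iv5 D126688)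
theorem F422891 : act 0 n202107 = n137034 := d17_2 D115373 D202107 (iv5 D137034) (iv4 D64416) F101972 F101966 (iv5 F78194) F78198 D53224
theorem F422892 : act 1 n202107 = n137031 := d17_6 D126697 (iv5 F217022) (iv1 F217025) F201776 (iv4 F179645) D202107 (iv5 D137031) F111488 F111029
def n202108 : Q := act 0 n115374
theorem D202108 : act 0 n115374 = n202108 := rfl
theorem F422893 : act 2 n152344 = n202108 := d15_3 (iv0 D202108) (iv0 F422590) (iv7 F422592)
theorem F422894 : act 1 n119612 = n202108 := d15_0 (iv0 D202108) (iv7 F220151) (iv2 F366079)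
theorem F422895 : act 7 n202108 = n152345 := d15_2 F422591 F422894 (iv2 F422589)
def n202109 : Q := act 5 n115374
theorem D202109 : act 5 n115374 = n202109 := rfl
theorem F422896 : act 2 n202109 = n152347 := d2_1 D202109 (iv5 D152347) (iv2 F325052)
theorem F422897 : act 3 n202109 = n115375 := d6_1 D202109 (iv5 D115375) D115374
def n202110 : Q := act 1 n115375
theorem D202110 : act 1 n115375 = n202110 := rfl
theorem F422898 : act 1 n202110 = n115377 := d15_1 D202110 F179655 (iv2 F179651)
theorem F422899 : act 7 n202110 = n140265 := d15_2 (iv0 F179652) D202110 (iv2 F223383)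
theorem F422900 : act 5 n202110 = n156008 := d17_7 (iv1 F53501) F48758 (iv1 F48492) (iv5 F48493) D53224 D115375 D202110 F245109 (iv4 D74286)
theorem F422901 : act 1 n156159 = n140268 := d18_6 (iv1 F245108) (iv4 D74288) (iv1 D34084) (iv4 F53496) D74284 D156159 F362131 D202110 F422900
theorem F422902 : act 2 n140266 = n202110 := d2_3 F422900 F245105 (iv5 F223386)
def n202111 : Q := act 4 n115377
theorem D202111 : act 4 n115377 = n202111 := rfl
theorem F422903 : act 7 n202111 = n140267 := d11_2 (iv7 F179655) D202111 (iv4 D140267)
theorem F422904 : act 1 n202111 = n156159 := d18_6 (iv1 F165016) F165013 (iv1 F78197) D53227 D115377 D202111 (iv4 D156159) (iv0 F179641) (iv5 D115365)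
def n202112 : Q := act 6 n115377
theorem D202112 : act 6 n115377 = n202112 := rfl
theorem F422905 : act 3 n202112 = n152876 := d7_1 D202112 (iv6 D152876) (iv3 F323322)
theorem F422906 : act 5 n152826 = n202112 := d6_0 F422905 F359978 (iv3 F360758)
theorem F422907 : act 7 n202112 = n194242 := d13_2 (iv7 F360760) F422906 (iv5 D194242)
theorem F422908 : act 4 n202112 = n194450 := d16_2 F360759 F422906 (iv5 D194450) (iv4 D103597) (iv5 D47983) F36224 D47983 D103598 F158945
theorem F422909 : act 0 n152867 = n202112 := d19_0 (iv5 F422906) (iv4 F360759) F158273 (iv1 F75042) (iv5 F64858) (iv4 F64855) F33143 (iv1 F35724) (iv5 F31888) D42503 D90771 (iv1 F364435) F364434 D192762 F387689 (iv1 F239713) D152541 F239724 D152867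
theorem F422910 : act 6 n194450 = n202111 := d10_2 D202112 F422908 (iv4 D202111)
def n202113 : Q := act 0 n115378
theorem D202113 : act 0 n115378 = n202113 := rfl
theorem F422911 : act 5 n202113 = n115717 := d17_1 D202113 (iv1 F245155) (iv5 D156034) F111047 F53419 F53422 D53362 (iv0 F84187) (iv4 F179657)
theorem F422912 : act 4 n202113 = n144284 := d18_3 (iv1 F100584) (iv4 F179657) D202113 F226974 F175399 (iv0 D53356) F40843 D25859 D53367
theorem F422913 : act 6 n202113 = n130957 := d21_5 D74308 (iv1 F179656) (iv5 D115377) D115378 D202113 (iv5 F330573) (iv1 F330593) (iv5 D115488) (iv6 F111495) F162013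
theorem F422914 : act 2 n201958 = n202113 := d15_3 (iv0 D202113) F422626 F422623
theorem F422915 : act 1 n124386 = n202113 := d15_0 (iv0 D202113) (iv7 F226556) (iv2 F357243)
theorem F422916 : act 7 n202113 = n139651 := d15_2 (iv0 F422625) F422915 (iv2 F422620)
def n202114 : Q := act 5 n115378
theorem D202114 : act 5 n115378 = n202114 := rfl
theorem F422917 : act 3 n202114 = n152879 := d6_1 D202114 (iv5 D152879) (iv3 F321403)
theorem F422918 : act 6 n202114 = n152826 := d12_2 D115378 D202114 F422906 (iv6 D202112) (iv5 D115377)
theorem F422919 : act 0 n202114 = n156291 := d17_2 (iv1 F422626) D202114 (iv5 D156291) (iv4 F170583) D198825 (iv0 F409429) (iv5 D144286) D144285 (iv4 F422622)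
theorem F422920 : act 1 n202114 = n156294 := d17_6 (iv1 F53515) D74348 F111556 F111225 (iv4 F179657) D202114 (iv5 D156294) F111535 F84013
theorem F422921 : act 4 n193526 = n202114 := d20_0 F422919 (iv4 F408707) F408706 F383656 (iv3 D191521) (iv4 D98503) D98501 F156575 D101868 D193526
theorem E103846 : n194243 = n193526 := (c5_6 F422921 F422917 (iv4 F351510) (iv3 F375969) F375970 (iv3 F392467))
theorem F422922 : act 2 n193526 = n194452 := (sb E103846 (iv2 F393263))
theorem F422923 : act 3 n193526 = n103053 := (sb E103846 F392467)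
theorem F422924 : act 5 n193526 = n194452 := (sb E103846 (iv5 F393265))
theorem F422925 : act 6 n193526 = n103031 := (sb E103846 (iv6 D194243))
theorem E103847 : n193688 = n193527 := ((c15_2 (iv0 D193526) D193527 (iv7 F393266) (iv2 F422922))).symm
theorem F422926 : act 3 n193527 = n194462 := (sb E103847 (iv3 F393308))
theorem F422927 : act 6 n193527 = n102236 := (sb E103847 (iv6 D193688))
theorem F422928 : act 7 n193527 = n194452 := (sb E103847 (iv7 F393266))
def n202115 : Q := act 3 n115379
theorem D202115 : act 3 n115379 = n202115 := rfl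
theorem F422929 : act 4 n202115 = n137030 := d5_2 D115379 D202115 (iv3 D137030) (iv4 D64413) (iv3 F102073)
theorem F422930 : act 7 n202115 = n136540 := d8_2 (iv7 F179659) D202115 (iv3 D136540)
theorem F422931 : act 0 n135919 = n202115 := d20_4 (iv4 F390513) (iv1 F393219) F393220 (iv3 F416304) (iv3 D202115) (iv4 D115379) F84068 (iv4 F99921) (iv3 F219628) (iv1 F352864)
def n202116 : Q := act 5 n115379
theorem D202116 : act 5 n115379 = n202116 := rfl
theorem F422932 : act 2 n202116 = n136538 := d2_1 D202116 (iv5 D136538) (iv2 F179658)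
theorem F422933 : act 4 n202116 = n137002 := d9_1 D202116 F422879 F422881 (iv5 D137034) (iv4 D64416) F101972 D74555 D156767 (iv4 F246605) (iv5 F422876) F422877 (iv5 D137031) (iv4 D64413) (iv5 F84067) D115379
theorem F422934 : act 7 n202116 = n136541 := d13_2 (iv7 F179659) D202116 (iv5 D136541)
theorem F422935 : act 0 n202116 = n137009 := d17_2 (iv1 F179660) D202116 (iv5 D137009) (iv4 F162026) (iv5 F175912) F203895 (iv5 F217022) (iv0 D134843) (iv4 F99400)
theorem F422936 : act 1 n202116 = n126696 := d17_6 (iv1 D14389) D14390 D30331 (iv5 F84067) D115379 D202116 (iv5 D126696) F111426 (iv4 D30328)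
def n202117 : Q := act 6 n115379
theorem D202117 : act 6 n115379 = n202117 := rfl
theorem F422937 : act 2 n202117 = n136539 := d3_1 D202117 (iv6 D136539) (iv2 F179658)
theorem F422938 : act 4 n202117 = n115380 := d10_1 D202117 (iv6 D115380) D115379
theorem F422939 : act 7 n202117 = n136061 := d14_2 (iv7 F179659) D202117 (iv6 D136061) F99999 (iv6 F100010)
theorem F422940 : act 0 n202117 = n136241 := d21_4 D126696 (iv1 F422936) (iv5 D202116) D202117 (iv6 D136241) F327127 (iv1 F185511) F327126 (iv6 D64410) (iv1 F111426)
theorem F422941 : act 1 n202117 = n137471 := d15_1 (iv0 F422940) F399185 (iv2 F219270)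
def n202118 : Q := act 3 n115381
theorem D202118 : act 3 n115381 = n202118 := rfl
theorem F422942 : act 5 n202118 = n136996 := d6_2 F201767 D202118 (iv3 D136996)
theorem F422943 : act 7 n202118 = n136534 := d8_2 (iv7 F179680) D202118 (iv3 D136534)
def n202119 : Q := act 6 n115381
theorem D202119 : act 6 n115381 = n202119 := rfl
theorem F422944 : act 2 n202119 = n136533 := d3_1 D202119 (iv6 D136533) (iv2 F179681)
theorem F422945 : act 4 n202119 = n201076 := d10_1 D202119 F419005 F201763
theorem F422946 : act 7 n202119 = n136054 := d14_2 (iv7 F179680) D202119 (iv6 D136054) F103587 (iv6 F172080)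
theorem F422947 : act 0 n202119 = n135240 := d21_4 D30320 D64387 F201767 D202119 F217425 F327149 (iv1 F321062) F327140 (iv6 D64386) (iv1 D30319)
theorem F422948 : act 5 n202119 = n136444 := d21_6 D64117 F99805 (iv5 D53235) (iv6 F84071) D115381 D202119 (iv1 D136444) (iv5 D64144) (iv6 D30227) (iv1 F48611)
theorem F422949 : act 0 n135236 = n202119 := d21_4 D136018 (iv1 F408848) (iv5 D198678) (iv6 F217421) (iv6 D202119) (iv5 F201767) (iv1 F218779) F218777 F99459 (iv1 F99489)
def n202120 : Q := act 0 n115383
theorem D202120 : act 0 n115383 = n202120 := rfl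
theorem F422950 : act 5 n202120 = n136943 := d17_1 D202120 (iv1 F390872) (iv5 D193742) (iv4 F385587) (iv5 F385589) (iv0 D103278) D103281 (iv0 F352786) (iv4 F179672)
theorem F422951 : act 4 n202120 = n128512 := d18_3 F353024 (iv4 F179672) D202120 F349893 F219973 (iv0 F363880) (iv4 F365291) F393019 F393017
theorem F422952 : act 2 n159434 = n202120 := d1_3 F422951 F349891 D159434
theorem F422953 : act 6 n193451 = n202120 := d10_0 F422951 (iv6 F349897) (iv4 F389881)
theorem F422954 : act 7 n137380 = n202120 := d11_0 F422951 F349894 (iv4 F360743)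
theorem F422955 : act 0 n202120 = n194413 := d20_1 (iv4 F422951) F393107 (iv3 D103359) (iv1 F291978) D189202 F376056 F373453 F206508 (iv3 F114309) (iv1 F206674)
def n202121 : Q := act 1 n115383
theorem D202121 : act 1 n115383 = n202121 := rfl
theorem F422956 : act 7 n202121 = n159434 := d15_2 (iv0 D202120) D202121 F422952
theorem F422957 : act 4 n128511 = n202121 := d20_0 (iv1 D202121) F179672 F166355 F321263 (iv3 D55243) F42783 (iv1 F27657) (iv4 F46272) (iv3 F94956) D128511
theorem F422958 : act 6 n137364 = n202121 := d21_3 F385652 F349944 (iv5 F349939) (iv1 D202121) F179673 D115391 F346458 (iv5 D136383) D136384 F385653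
theorem F422959 : act 2 n202121 = n137380 := d3_1 F422958 (iv6 D137380) (iv2 F349938)
theorem F422960 : act 5 n202121 = n136944 := d12_1 F422958 (iv6 F368480) F347707 (iv6 F178119) (iv5 F349939)
theorem F422961 : act 0 n194413 = n202121 := d17_0 F422960 (iv1 D136944) (iv5 D64368) (iv4 F100056) (iv5 F365292) F393019 F393017 (iv0 F347873) (iv4 F393107)
def n202122 : Q := act 2 n115383
theorem D202122 : act 2 n115383 = n202122 := rfl
theorem F422962 : act 3 n202122 = n136519 := d0_2 D115383 D202122 F219625 F99920 (iv2 F84070)
theorem F422963 : act 4 n202122 = n155827 := d1_2 (iv4 F179672) D202122 F365596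
theorem F422964 : act 6 n202122 = n115390 := d3_2 (iv6 F179673) D202122 (iv2 D115390)
theorem F422965 : act 7 n194413 = n202122 := d15_2 D202121 (iv0 F422961) (iv2 D202122)
theorem F422966 : act 1 n159434 = n202122 := d18_6 F375906 F375902 (iv1 F388700) F388699 F346535 D159434 F422963 (iv0 F375930) F375928
theorem F422967 : act 0 n137380 = n202122 := d20_7 (iv4 D89924) (iv1 F75036) D103044 F336624 (iv1 F203976) F346527 (iv4 F360743) F422963 (iv3 F365595) F158314
theorem F422968 : act 5 n193748 = n202122 := d6_0 F422962 F352863 D193748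
theorem F422969 : act 4 n193068 = n193748 := d16_4 (iv4 F398616) (iv5 F398617) (iv4 D193067) D193068 F422968 F422963 (iv5 F376006) F376007 F347870
theorem F422970 : act 0 n136936 = n193748 := d17_2 D64366 D136936 F422968 F422963 (iv5 F376006) (iv0 F376009) (iv5 F343449) (iv0 D136715) F100056
theorem F422971 : act 1 n136941 = n193748 := d17_6 (iv1 D76266) (iv5 F94468) D127766 (iv5 F362166) (iv4 D136940) D136941 F422968 (iv0 F422967) F360743
def n202123 : Q := act 5 n115383
theorem D202123 : act 5 n115383 = n202123 := rfl
theorem F422972 : act 2 n202123 = n193748 := d2_1 D202123 F422968 (iv2 D202122)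
theorem F422973 : act 3 n202123 = n115384 := d6_1 D202123 (iv5 D115384) D115383
theorem F422974 : act 1 n202123 = n192825 := d17_6 F353019 (iv5 D174564) D174562 F353015 (iv4 F179672) D202123 F387915 F347041 (iv4 F331264)
def n202124 : Q := act 7 n115383
theorem D202124 : act 7 n115383 = n202124 := rfl
theorem F422975 : act 2 n202124 = n194413 := d4_1 D202124 F422965 (iv2 D202122)
theorem F422976 : act 3 n202124 = n115385 := d8_1 D202124 (iv7 D115385) D115383
theorem F422977 : act 4 n202124 = n155807 := d11_1 D202124 F353021 (iv4 F179672)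
theorem F422978 : act 6 n202124 = n136485 := d14_1 D202124 (iv7 D136485) (iv6 D64159) (iv7 F84082) (iv6 F179673)
theorem F422979 : act 1 n137380 = n202124 := d15_1 (iv0 F422967) (iv7 D202124) D202122
theorem F422980 : act 1 n202124 = n159434 := d15_1 F422979 (iv7 F422956) F422959
def n202125 : Q := act 4 n115384
theorem D202125 : act 4 n115384 = n202125 := rfl
theorem F422981 : act 2 n202125 = n136535 := d1_1 D202125 (iv4 D136535) (iv2 F179674)
def n202126 : Q := act 6 n115384
theorem D202126 : act 6 n115384 = n202126 := rfl
theorem F422982 : act 2 n202126 = n136530 := d3_1 D202126 F219629 (iv2 F179674)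
theorem F422983 : act 5 n202126 = n115392 := d12_1 D202126 (iv6 D115392) (iv5 D53235) (iv6 F84071) D115384
def n202127 : Q := act 2 n115386
theorem D202127 : act 2 n115386 = n202127 := rfl
theorem F422984 : act 3 n202127 = n136460 := d0_2 D115386 D202127 (iv2 D136460) (iv3 D64152) F84080
theorem F422985 : act 4 n202127 = n138605 := d1_2 (iv4 F179684) D202127 (iv2 D138605)
theorem F422986 : act 7 n202127 = n136465 := d4_2 (iv7 F179685) D202127 (iv2 D136465)
theorem F422987 : act 1 n202127 = n136463 := d15_0 (iv0 D136463) (iv7 F179685) D202127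
theorem F422988 : act 1 n136464 = n202127 := d15_0 F422987 (iv7 F219582) (iv2 F386800)
def n202128 : Q := act 6 n115386
theorem D202128 : act 6 n115386 = n202128 := rfl
theorem F422989 : act 3 n202128 = n115387 := d7_1 D202128 (iv6 D115387) D115386
theorem F422990 : act 4 n202128 = n138606 := d10_1 D202128 (iv6 D138606) (iv4 F179684)
theorem F422991 : act 7 n202128 = n136028 := d14_2 (iv7 F179685) D202128 (iv6 D136028) F99524 (iv6 F99867)
theorem F422992 : act 5 n171127 = n202128 := d13_3 F422991 (iv5 F384730) F384729
theorem F422993 : act 0 n202128 = n143570 := d21_1 F422992 (iv5 F361936) (iv6 F384310) (iv1 D191742) (iv6 D98875) (iv5 F106728) (iv1 D70192) D70194 D149470 F366229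
def n202129 : Q := act 5 n115390
theorem D202129 : act 5 n115390 = n202129 := rfl
theorem F422994 : act 2 n202129 = n115391 := d2_1 D202129 (iv5 D115391) D115390
theorem F422995 : act 3 n202129 = n136518 := d6_1 D202129 (iv5 D136518) (iv3 F179693)
theorem F422996 : act 4 n202129 = n170714 := d9_1 D202129 (iv5 D170714) F125793 D83045 (iv4 F323564) F217455 F99857 D64158 D136480 F310380 (iv4 D83897) D83898 (iv4 F319429) (iv5 F344828) (iv4 F179694)
theorem F422997 : act 7 n202129 = n136476 := d13_2 (iv7 F179695) D202129 (iv5 D136476)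
theorem F422998 : act 0 n202129 = n136479 := d17_2 (iv1 F179696) D202129 (iv5 F354517) (iv4 F336419) (iv5 F346479) (iv0 D181801) (iv5 D86826) D86824 (iv4 F319243)
theorem F422999 : act 1 n202129 = n136478 := d15_1 (iv0 F422998) (iv7 F354514) (iv2 F354518)
def n202130 : Q := act 6 n115391
theorem D202130 : act 6 n115391 = n202130 := rfl
theorem F423000 : act 3 n202130 = n115392 := d7_1 D202130 (iv6 D115392) (iv3 F179699)
def n202131 : Q := act 1 n115394
theorem D202131 : act 1 n115394 = n202131 := rfl
theorem F423001 : act 1 n202131 = n196661 := d15_1 D202131 F401394 F330563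
theorem F423002 : act 5 n202131 = n135729 := d18_9 F218243 (iv4 F403738) (iv1 F403741) (iv4 D115674) (iv5 F176278) F176277 D139351 (iv4 F222566) D202131
theorem F423003 : act 3 n136787 = n202131 := d19_19 (iv1 D202131) (iv5 F330597) (iv4 F179866) (iv3 F180899) (iv1 F220939) F220936 (iv4 F203283) F327702 (iv1 F106600) (iv5 D63988) F48537 (iv3 D28281) (iv1 D13502) D13504 D28291 D59614 D127037 F350332 D136787
def n202132 : Q := act 6 n115394
theorem D202132 : act 6 n115394 = n202132 := rfl
theorem F423004 : act 3 n202132 = n115397 := d7_1 D202132 (iv6 D115397) D115394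
theorem F423005 : act 5 n202132 = n202100 := d12_1 D202132 (iv6 D202100) F179643 F172055 F330597
def n202133 : Q := act 6 n115395
theorem D202133 : act 6 n115395 = n202133 := rfl
theorem F423006 : act 2 n202133 = n145360 := d3_1 D202133 (iv6 D145360) (iv2 F180679)
theorem F423007 : act 4 n202133 = n115397 := d10_1 D202133 (iv6 D115397) D115395
def n202134 : Q := act 5 n115397
theorem D202134 : act 5 n115397 = n202134 := rfl
theorem F423008 : act 3 n202134 = n202100 := d6_1 D202134 (iv5 F423005) F423004
theorem F423009 : act 6 n202134 = n202098 := d12_2 D115397 D202134 F422873 F365193 (iv5 D115396)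
def n202135 : Q := act 7 n115397
theorem D202135 : act 7 n115397 = n202135 := rfl
def n202136 : Q := act 6 n115399
theorem D202136 : act 6 n115399 = n202136 := rfl
theorem F423010 : act 2 n202136 = n202054 := d3_1 D202136 F422812 F180746
theorem F423011 : act 3 n202136 = n115401 := d7_1 D202136 (iv6 D115401) D115399
theorem F423012 : act 4 n202136 = n194524 := d10_1 D202136 F393579 F180703
theorem F423013 : act 0 n139698 = n202136 := d21_4 (iv5 F349432) (iv1 F179449) D115346 F349429 (iv6 D202136) (iv5 F181936) (iv1 D116582) (iv5 D53723) (iv6 F327061) D115461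
theorem F423014 : act 7 n202055 = n202136 := d11_0 F423012 F393580 F422813
theorem F423015 : act 0 n202136 = n139693 := d20_7 D117900 (iv1 F322403) (iv4 D144385) (iv3 F322401) (iv1 F159154) D194524 (iv4 F423012) (iv4 D139693) (iv3 F321133) (iv1 F313895)
def n202137 : Q := act 4 n115400
theorem D202137 : act 4 n115400 = n202137 := rfl
theorem F423016 : act 2 n202137 = n196292 := d1_1 D202137 F400249 F365190
theorem F423017 : act 6 n197737 = n202137 := d3_0 F423016 F400250 (iv2 F405583)
def n202138 : Q := act 6 n115400
theorem D202138 : act 6 n115400 = n202138 := rfl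
theorem F423018 : act 2 n202138 = n198051 := d3_1 D202138 F406595 F365190
theorem F423019 : act 4 n202138 = n197737 := d10_1 D202138 F423017 (iv4 D202137)
theorem F423020 : act 7 n198054 = n202138 := d11_0 F423019 F405584 D198054
theorem F423021 : act 5 n138640 = n202138 := d16_1 D138640 F423019 (iv5 D197737) (iv4 D108624) (iv5 F80876) (iv4 F172386) (iv5 F222644) F222646 F172384
def n202139 : Q := act 1 n115401
theorem D202139 : act 1 n115401 = n202139 := rfl
def n202140 : Q := act 5 n115401
theorem D202140 : act 5 n115401 = n202140 := rfl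
theorem F423022 : act 6 n202140 = n138640 := d12_2 D115401 D202140 F423021 (iv6 D202138) (iv5 D115400)
theorem F423023 : act 4 n138632 = n202140 := d10_3 F423022 (iv4 D138640) (iv6 F221802)
def n202141 : Q := act 7 n115401
theorem D202141 : act 7 n115401 = n202141 := rfl
theorem F423024 : act 3 n202141 = n202055 := d8_1 D202141 F423014 F423011
def n202142 : Q := act 4 n115402
theorem D202142 : act 4 n115402 = n202142 := rfl
theorem F423025 : act 2 n202142 = n115406 := d1_1 D202142 (iv4 D115406) (iv2 F179705)
theorem F423026 : act 5 n202142 = n196709 := d16_1 D202142 (iv4 D196709) (iv5 D107235) F78303 F37899 (iv4 F78186) D107049 F164997 (iv2 F179705)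
theorem F423027 : act 1 n198033 = n115506 := d17_8 (iv1 F365189) F365191 (iv1 F164988) D115402 D202142 F423026 (iv0 F412404) F406983 (iv4 D115506)
theorem F423028 : act 4 n196564 = n198033 := d18_5 (iv1 D107047) F78186 D49464 D107079 D196564 F423027 (iv4 D115506) D115505 (iv5 F182525)
theorem F423029 : act 6 n198032 = n196564 := d10_0 F423028 (iv6 D198033) D198032
theorem F423030 : act 6 n196383 = n202142 := d12_0 F423026 (iv6 F402470) F402472 (iv6 D196384) D196383
def n202143 : Q := act 6 n115402
theorem D202143 : act 6 n115402 = n202143 := rfl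
theorem F423031 : act 2 n202143 = n115407 := d3_1 D202143 (iv6 D115407) (iv2 F179705)
theorem F423032 : act 4 n202143 = n196383 := d10_1 D202143 F423030 (iv4 D202142)
def n202144 : Q := act 0 n115403
theorem D202144 : act 0 n115403 = n202144 := rfl
theorem F423033 : act 4 n202144 = n145378 := d20_2 (iv4 F179707) D202144 (iv3 D145378) (iv1 F331037) (iv3 F359484) F159242 D103821 D194588 (iv3 F407698) F407699
theorem F423034 : act 3 n202144 = n152801 := d20_5 (iv4 F167245) D197435 (iv4 F415919) F415920 D202144 F351439 F348832 F320485 F351786 (iv1 D156032)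
theorem F423035 : act 6 n202144 = n202052 := d21_5 (iv5 F400943) (iv1 F400942) (iv5 D115402) D115403 D202144 F422806 F180001 (iv5 F330554) (iv6 D107179) D107175
theorem F423036 : act 5 n156052 = n202144 := d12_5 F423035 F422806 F336209 F220230 D156052
theorem F423037 : act 7 n115409 = n202144 := d14_0 F423035 F422807 (iv6 D156084) (iv7 F245380) (iv6 F359948)
theorem F423038 : act 2 n202144 = n115408 := d15_3 (iv0 D115408) D115409 F423037
theorem F423039 : act 7 n156080 = n115408 := d4_2 (iv7 F423037) (iv2 F359949) (iv2 F423038)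
theorem F423040 : act 1 n115411 = n202144 := d15_1 F400955 (iv7 F423037) (iv2 F359949)
def n202145 : Q := act 5 n115403
theorem D202145 : act 5 n115403 = n202145 := rfl
theorem F423041 : act 2 n202145 = n115410 := d2_1 D202145 (iv5 D115410) (iv2 F179706)
def n202146 : Q := act 7 n115403
theorem D202146 : act 7 n115403 = n202146 := rfl
theorem F423042 : act 2 n202146 = n115411 := d4_1 D202146 (iv7 D115411) (iv2 F179706)
theorem F423043 : act 4 n202146 = n200116 := d11_1 D202146 (iv7 D200116) (iv4 F179707)
theorem F423044 : act 1 n115409 = n202146 := d15_1 D115409 (iv7 D202146) F179706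
theorem F423045 : act 1 n202146 = n115408 := d15_1 F423044 (iv7 F423039) F359949
def n202147 : Q := act 3 n115405
theorem D202147 : act 3 n115405 = n202147 := rfl
theorem F423046 : act 2 n202147 = n116572 := d0_1 D202147 F330560 (iv2 F245027) (iv3 F400941) (iv2 F400944)
theorem F423047 : act 5 n202147 = n115500 := d6_2 (iv5 F179708) D202147 (iv3 D115500)
theorem F423048 : act 7 n202147 = n116574 := d8_2 F400949 D202147 F400952
theorem F423049 : act 4 n202147 = n198452 := d20_6 F278478 (iv1 F313719) F349430 (iv3 F400934) (iv1 F400937) D202147 (iv1 F408068) (iv4 D115656) D115655 F404291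
theorem F423050 : act 6 n156046 = n202147 := d10_0 F423049 (iv6 F408070) (iv4 F245175)
theorem F423051 : act 1 n139669 = n202147 := d17_8 (iv1 F408068) F180024 (iv1 F174077) D198448 F408043 F362576 (iv0 F101431) D139669 F423049
theorem F423052 : act 0 n139673 = n202147 := d18_0 F423049 (iv1 F408068) (iv4 D115656) F179595 (iv4 F179592) F180702 F180703 F180706 D139673
def n202148 : Q := act 4 n115405
theorem D202148 : act 4 n115405 = n202148 := rfl
theorem F423053 : act 2 n202148 = n156309 := d1_1 D202148 (iv4 F400946) (iv2 F400944)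
theorem F423054 : act 3 n202148 = n195904 := d5_1 D202148 F398671 (iv3 F408067) (iv4 F423049) (iv3 D202147)
theorem F423055 : act 5 n202148 = n195901 := d9_2 (iv5 F179708) D202148 F398657 (iv5 D195461) D195460 F397059 F165400 (iv5 F359951) (iv4 F359954) (iv5 F398650) F398649 (iv5 D195463) (iv4 F165359) F172096 F165337
theorem F423056 : act 7 n202148 = n195900 := d11_2 F400949 D202148 F400953
theorem F423057 : act 6 n156308 = n202148 := d14_5 F423056 F398655 D200126 (iv6 F415126) (iv7 F245627)
theorem F423058 : act 1 n143930 = n202148 := d15_1 (iv0 F401238) F423056 F398653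
def n202149 : Q := act 6 n115405
theorem D202149 : act 6 n115405 = n202149 := rfl
theorem F423059 : act 2 n202149 = n155981 := d3_1 D202149 F400947 (iv2 F400944)
theorem F423060 : act 3 n202149 = n156046 := d7_1 D202149 F423050 (iv3 D202147)
theorem F423061 : act 4 n202149 = n156308 := d10_1 D202149 F423057 (iv4 D202148)
theorem F423062 : act 0 n202149 = n156050 := d21_4 (iv5 D196653) (iv1 F165178) (iv5 F179708) D202149 F361299 D198044 (iv1 F411468) F411466 F406595 (iv1 F401360)
theorem F423063 : act 5 n178791 = n202149 := d21_8 (iv5 D53239) D53236 D115396 (iv6 F365193) F366541 F319280 (iv5 F247050) F344866 (iv6 D202149) (iv1 D115405)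
theorem F423064 : act 1 n202149 = n156049 := d15_1 (iv0 F423062) (iv7 F366720) F405566
theorem F423065 : act 7 n202149 = n156051 := d15_2 D156050 (iv0 F423062) (iv2 D156051)
def n202150 : Q := act 0 n115406
theorem D202150 : act 0 n115406 = n202150 := rfl
def n202151 : Q := act 1 n115406
theorem D202151 : act 1 n115406 = n202151 := rfl
def n202152 : Q := act 5 n115406
theorem D202152 : act 5 n115406 = n202152 := rfl
theorem F423066 : act 2 n202152 = n196709 := d2_1 D202152 (iv5 F423026) F423025
theorem F423067 : act 6 n202152 = n140669 := d12_2 (iv6 F351863) D202152 F223761 (iv6 D140340) D140339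
theorem F423068 : act 4 n202152 = n196705 := d16_2 D115406 D202152 (iv5 D196705) F165276 F78311 (iv4 F164992) D196517 F400935 F179705
def n202153 : Q := act 0 n115407
theorem D202153 : act 0 n115407 = n202153 := rfl
theorem F423069 : act 4 n202153 = n143927 := d20_2 F351862 D202153 (iv3 F404746) F404749 (iv3 F390042) (iv4 D192467) (iv1 D100197) (iv4 F154141) (iv3 F386749) F386751
theorem F423070 : act 3 n202153 = n156064 := d20_5 (iv4 F409508) (iv1 D198840) F170624 (iv3 F179709) D202153 (iv4 F402954) F402957 (iv4 F422622) F422621 (iv1 F422527)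
theorem F423071 : act 6 n156063 = n202153 := d7_0 F423070 (iv6 D156064) D156063
theorem F423072 : act 7 n202091 = n202153 := d8_0 F423070 F245206 (iv3 F422868)
def n202154 : Q := act 1 n115407
theorem D202154 : act 1 n115407 = n202154 := rfl
theorem F423073 : act 4 n202154 = n143928 := d18_7 (iv1 F168121) F98684 D63382 F169260 D140339 F351862 D202154 (iv0 F400552) (iv5 D196389)
def n202155 : Q := act 5 n115407
theorem D202155 : act 5 n115407 = n202155 := rfl
theorem F423074 : act 3 n202155 = n115414 := d6_1 D202155 (iv5 D115414) (iv3 F179709)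
theorem F423075 : act 6 n202155 = n115410 := d12_2 D115407 D202155 (iv5 D115410) (iv6 D53240) D53239
theorem F423076 : act 4 n140341 = n202155 := d5_0 F423074 F351563 D116713 F345692 (iv3 F407426)
theorem F423077 : act 0 n137056 = n202155 := d20_4 (iv4 F175399) (iv1 F175401) F167000 (iv3 F220222) F423074 F351563 (iv1 D53781) (iv4 F84184) F84183 D53356
theorem F423078 : act 0 n201920 = n115711 := d20_10 (iv4 F411711) F411809 F411808 (iv3 F366469) (iv1 F351562) (iv3 F423074) (iv4 F423076) (iv1 F223449) D197605 (iv3 F422378)
theorem F423079 : act 1 n156167 = n115711 := d15_0 (iv0 F423078) F422380 (iv2 F366633)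
theorem F423080 : act 0 n197373 = n195523 := d20_7 F84104 D112702 F175399 D115711 (iv1 F423079) F245437 (iv4 F404079) F397212 (iv3 D156300) F168138
def n202156 : Q := act 7 n115407
theorem D202156 : act 7 n115407 = n202156 := rfl
theorem F423081 : act 3 n202156 = n115415 := d8_1 D202156 (iv7 D115415) (iv3 F179709)
theorem F423082 : act 4 n202156 = n196381 := d11_1 D202156 F400525 F351862
theorem F423083 : act 0 n202156 = n202091 := d20_4 (iv4 D198882) (iv1 F409519) F409516 (iv3 F423081) F422868 (iv4 F203873) F204302 (iv4 F422520) F422519 (iv1 F409731)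
theorem F423084 : act 1 n202143 = n202091 := d15_0 (iv0 F423083) (iv7 D202156) (iv2 F423031)
def n202157 : Q := act 3 n115408
theorem D202157 : act 3 n115408 = n202157 := rfl
def n202158 : Q := act 4 n115408
theorem D202158 : act 4 n115408 = n202158 := rfl
theorem F423085 : act 2 n202158 = n145378 := d1_1 D202158 (iv4 F423033) F423038
theorem F423086 : act 7 n202158 = n198357 := d11_2 F423039 D202158 F407745
def n202159 : Q := act 5 n115408
theorem D202159 : act 5 n115408 = n202159 := rfl
theorem F423087 : act 2 n202159 = n156052 := d2_1 D202159 F423036 F423038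
theorem F423088 : act 7 n202159 = n200125 := d13_2 F423039 D202159 (iv5 F415119)
theorem F423089 : act 4 n200126 = n202159 := d11_3 F423088 (iv4 D200125) D200126
theorem F423090 : act 6 n156051 = n202159 := d14_5 F423088 F415118 F400949 D202149 F423065
def n202160 : Q := act 6 n115408
theorem D202160 : act 6 n115408 = n202160 := rfl
theorem F423091 : act 2 n202160 = n202052 := d3_1 D202160 (iv6 F423035) F423038
theorem F423092 : act 5 n202160 = n137355 := d21_6 (iv5 F179708) (iv1 D115405) (iv5 D53239) D53240 D115408 D202160 (iv1 F224170) (iv5 F401366) (iv6 D196654) (iv1 F165178)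
def n202161 : Q := act 0 n115410
theorem D202161 : act 0 n115410 = n202161 := rfl
def n202162 : Q := act 1 n115410
theorem D202162 : act 1 n115410 = n202162 := rfl
def n202163 : Q := act 4 n115410
theorem D202163 : act 4 n115410 = n202163 := rfl
theorem F423093 : act 6 n202163 = n140341 := d10_2 F423075 D202163 F423076
theorem F423094 : act 5 n202163 = n145378 := d16_3 (iv4 F84089) D115410 D202163 (iv4 F423033) (iv5 F423036) F245186 (iv5 F415086) (iv7 D200116) F175342
theorem F423095 : act 3 n145380 = n202163 := d6_3 F423094 (iv3 D145378) D145380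
def n202164 : Q := act 7 n115410
theorem D202164 : act 7 n115410 = n202164 := rfl
theorem F423096 : act 3 n202164 = n115424 := d8_1 D202164 (iv7 D115424) (iv3 F179710)
theorem F423097 : act 5 n202164 = n115411 := d13_1 D202164 (iv7 D115411) D115410
def n202165 : Q := act 5 n115412
theorem D202165 : act 5 n115412 = n202165 := rfl
theorem F423098 : act 3 n202165 = n198772 := d6_1 D202165 F409165 (iv3 F409582)
theorem F423099 : act 7 n202165 = n177255 := d13_2 F409714 D202165 (iv5 F409712)
theorem F423100 : act 4 n202165 = n167643 := d16_4 (iv4 F327103) F363850 F409581 D202165 (iv5 D167643) F123673 (iv5 F298815) (iv7 F350683) F262038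
theorem F423101 : act 0 n202165 = n155240 := d18_0 (iv4 D155240) (iv1 F313893) (iv4 F188657) (iv5 F409513) (iv4 F409508) F409505 (iv4 F409721) F409725 D202165
def n202166 : Q := act 6 n115412
theorem D202166 : act 6 n115412 = n202166 := rfl
theorem F423102 : act 3 n202166 = n184626 := d7_1 D202166 (iv6 F288747) (iv3 F409582)
theorem F423103 : act 4 n202166 = n152927 := d10_1 D202166 (iv6 F363849) F409581
def n202167 : Q := act 3 n115413
theorem D202167 : act 3 n115413 = n202167 := rfl
def n202168 : Q := act 4 n115413
theorem D202168 : act 4 n115413 = n202168 := rfl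
theorem F423104 : act 2 n202168 = n200471 := d1_1 D202168 F416590 F409717
theorem F423105 : act 5 n202168 = n174136 := d9_2 F359508 D202168 (iv4 D174136) F298815 (iv4 F123673) D167643 (iv4 F423100) (iv5 D202165) (iv4 F409581) (iv5 F363850) F327103 D166500 F330751 F351490 (iv4 F359511)
theorem F423106 : act 7 n202168 = n200470 := d11_2 (iv7 F409716) D202168 F416586
theorem F423107 : act 0 n202168 = n197070 := d17_0 F402908 (iv1 D177606) D177609 (iv4 F344873) (iv5 F344874) (iv0 F351561) (iv5 D115414) D115413 D202168
theorem F423108 : act 1 n202168 = n200472 := d18_8 F354859 F193280 (iv1 F330760) F192836 (iv5 F323131) F170624 D115413 D202168 F416594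
theorem F423109 : act 6 n126742 = n202168 := d21_3 (iv5 F359963) D194351 (iv5 F392903) F423107 (iv6 D197070) F165985 F79428 D52033 D112732 (iv1 F393003)
theorem F423110 : act 6 n115413 = n152792 := d10_2 F423109 (iv4 D202168) F366267
theorem F423111 : act 6 n202048 = n202167 := d7_2 F423110 (iv3 F422797) (iv3 D202167)
def n202169 : Q := act 0 n115416
theorem D202169 : act 0 n115416 = n202169 := rfl
theorem F423112 : act 3 n202169 = n141075 := d20_5 F101266 D110842 (iv4 F171691) D115416 D202169 (iv4 D141075) (iv1 D66160) (iv4 F101781) (iv3 D66157) F101267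
theorem F423113 : act 1 n202159 = n202169 := d15_0 (iv0 D202169) F245187 (iv2 F423087)
theorem F423114 : act 6 n152329 = n202169 := d7_0 F423112 F318328 D152329
def n202170 : Q := act 1 n115416
theorem D202170 : act 1 n115416 = n202170 := rfl
theorem F423115 : act 1 n202170 = n202159 := d15_1 D202170 F423088 F415117
theorem F423116 : act 3 n202072 = n202170 := d19_19 (iv1 D202170) (iv5 F351416) (iv4 F413643) F413642 (iv1 D145374) (iv5 F331031) (iv4 D140811) (iv3 F348037) F348036 F205946 (iv4 F327594) F152879 D99313 (iv5 F343489) (iv4 F255693) F255692 (iv1 F316556) F350924 (iv4 F422829)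
def n202171 : Q := act 0 n115419
theorem D202171 : act 0 n115419 = n202171 := rfl
def n202172 : Q := act 1 n115419
theorem D202172 : act 1 n115419 = n202172 := rfl
theorem F423117 : act 4 n194238 = n202172 := d20_0 (iv1 D202172) (iv4 F182967) (iv3 D117033) F100360 (iv3 F220247) F220248 F359937 (iv4 F392512) F392511 F392450
theorem F423118 : act 6 n202172 = n194237 := d10_2 D194238 F423117 (iv4 D194237)
def n202173 : Q := act 2 n115419
theorem D202173 : act 2 n115419 = n202173 := rfl
theorem F423119 : act 3 n202173 = n202159 := d0_2 D115419 D202173 F423087 F245185 F111081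
theorem F423120 : act 5 n202157 = n202173 := d6_0 F423119 (iv5 D202159) D202157
def n202174 : Q := act 5 n115419
theorem D202174 : act 5 n115419 = n202174 := rfl
theorem F423121 : act 2 n202174 = n202157 := d2_1 D202174 F423120 (iv2 D202173)
theorem F423122 : act 3 n202174 = n115420 := d6_1 D202174 (iv5 D115420) D115419
theorem F423123 : act 7 n202174 = n178768 := d13_2 F422285 D202174 (iv5 F422283)
theorem F423124 : act 4 n202174 = n193114 := d16_6 (iv4 F262763) (iv5 F345819) (iv4 F414174) F414173 F182967 D202174 F388796 (iv7 D123083) (iv2 F196222)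
def n202175 : Q := act 3 n115421
theorem D202175 : act 3 n115421 = n202175 := rfl
def n202176 : Q := act 3 n115422
theorem D202176 : act 3 n115422 = n202176 := rfl
def n202177 : Q := act 4 n115422
theorem D202177 : act 4 n115422 = n202177 := rfl
theorem F423125 : act 5 n202177 = n181746 := d9_2 F414468 D202177 F352803 (iv5 F346909) (iv4 F223532) (iv5 F403090) F403088 (iv5 F245335) (iv4 F359947) (iv5 D140879) D140878 F347188 (iv4 F174038) D198898 (iv4 F414469)
theorem F423126 : act 6 n202177 = n167920 := d10_2 (iv6 F414470) D202177 F264608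
theorem F423127 : act 3 n202177 = n167922 := d20_3 (iv4 F422296) (iv1 F422298) D202177 F342372 (iv3 D112219) (iv4 D51761) F53722 F317388 (iv3 F238016) (iv1 F348118)
def n202178 : Q := act 3 n115423
theorem D202178 : act 3 n115423 = n202178 := rfl
theorem F423128 : act 2 n202178 = n141057 := d0_1 D202178 (iv3 D141057) F316111 (iv3 F316177) F359943
theorem F423129 : act 4 n202178 = n145380 := d5_2 D115423 D202178 F423095 (iv4 D202163) F179710
theorem F423130 : act 6 n202178 = n116713 := d7_2 (iv6 F351430) D202178 (iv3 D116713)
theorem F423131 : act 0 n202178 = n145542 := d19_4 (iv1 D53243) D53244 D115423 D202178 (iv5 D145542) (iv4 F342415) F342414 F331801 (iv5 D138456) F100838 (iv3 F166050) F166053 (iv5 F81988) F81987 (iv3 F174078) D199924 F414173 F182967 (iv3 D115419)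
theorem F423132 : act 1 n202178 = n142880 := d15_1 (iv0 F423131) F320594 (iv2 F320595)
theorem F423133 : act 7 n202178 = n145569 := d15_2 F342470 (iv0 F423131) (iv2 F351585)
def n202179 : Q := act 7 n115423
theorem D202179 : act 7 n115423 = n202179 := rfl
theorem F423134 : act 2 n202179 = n141054 := d4_1 D202179 (iv7 F348135) F359943
theorem F423135 : act 3 n202179 = n145569 := d8_1 D202179 (iv7 F423133) (iv3 D202178)
theorem F423136 : act 4 n202179 = n115424 := d11_1 D202179 (iv7 D115424) D115423
theorem F423137 : act 5 n202179 = n198412 := d13_1 D202179 F407938 (iv5 F351429)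
theorem F423138 : act 6 n202179 = n157411 := d14_1 D202179 F247896 F316180 F318417 (iv6 F351430)
theorem F423139 : act 1 n116375 = n202179 := d15_1 F316176 (iv7 D202179) (iv2 F359943)
theorem F423140 : act 1 n202179 = n117074 := d15_1 F423139 F348133 (iv2 F318376)
def n202180 : Q := act 6 n115424
theorem D202180 : act 6 n115424 = n202180 := rfl
theorem F423141 : act 4 n202180 = n157411 := d10_1 D202180 (iv6 F423138) F423136
theorem F423142 : act 0 n202035 = n202180 := d21_4 (iv5 D53213) D53210 D115339 D202035 (iv6 D202180) F179715 (iv1 F111083) (iv5 F351440) (iv6 F360857) (iv1 D115349)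
def n202181 : Q := act 5 n115425
theorem D202181 : act 5 n115425 = n202181 := rfl
theorem F423143 : act 2 n202181 = n141066 := d2_1 D202181 (iv5 D141066) F179717
theorem F423144 : act 7 n202181 = n139632 := d13_2 (iv7 F179719) D202181 (iv5 D139632)
def n202182 : Q := act 1 n115429
theorem D202182 : act 1 n115429 = n202182 := rfl
theorem F423145 : act 4 n202182 = n139307 := d18_7 (iv1 F101079) (iv4 F170585) (iv1 D51145) (iv4 F80678) (iv5 F338262) (iv4 F179726) D202182 F222500 (iv5 D111266)
def n202183 : Q := act 5 n115429
theorem D202183 : act 5 n115429 = n202183 := rfl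
theorem F423146 : act 2 n202183 = n201902 := d2_1 D202183 F422301 (iv2 F359211)
theorem F423147 : act 3 n202183 = n115430 := d6_1 D202183 (iv5 D115430) D115429
theorem F423148 : act 7 n202183 = n141174 := d13_2 F422302 D202183 (iv5 F422301)
theorem F423149 : act 4 n202183 = n138607 := d16_2 (iv4 F179726) D202183 (iv5 D138607) F100870 F98291 (iv4 F100870) D138607 F221780 F338267
theorem F423150 : act 0 n202183 = n202182 := d18_0 F423145 (iv1 D139307) D139308 (iv5 F411937) (iv4 D199389) F222499 (iv4 F422581) (iv0 F422582) D202183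
theorem F423151 : act 0 n201975 = n202183 := d18_2 D139306 (iv4 F422581) F423149 (iv5 D138607) F100870 F98294 F168334 (iv0 D65379) D65381
def n202184 : Q := act 3 n115431
theorem D202184 : act 3 n115431 = n202184 := rfl
theorem F423152 : act 7 n202184 = n195475 := d8_2 F360879 D202184 (iv3 D195475)
theorem F423153 : act 4 n202184 = n134727 := d20_6 (iv4 D30204) (iv1 F37503) D25820 D53249 D115431 D202184 (iv1 D134727) F98540 (iv3 D48820) (iv1 F48587)
theorem F423154 : act 0 n202184 = n195311 := d20_10 F396676 (iv1 D141871) D141873 F224912 F179964 D105691 (iv4 F179944) F336241 F336242 D202184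
theorem F423155 : act 2 n196300 = n202184 := d1_3 F423153 (iv2 F397105) D196300
theorem F423156 : act 0 n195319 = n202184 := d20_10 F423153 (iv1 D134727) F98540 (iv3 D48820) (iv1 F48587) D64083 F99690 (iv1 F347194) F173980 (iv3 F396685)
def n202185 : Q := act 6 n115431
theorem D202185 : act 6 n115431 = n202185 := rfl
theorem F423157 : act 2 n202185 = n195479 := d3_1 D202185 (iv6 D195479) (iv2 F360880)
theorem F423158 : act 7 n202185 = n197255 := d14_2 F360879 D202185 (iv6 D197255) F167045 (iv6 F360878)
theorem F423159 : act 1 n202185 = n195523 := d15_0 (iv0 F423080) F404080 (iv2 F423157)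
def n202186 : Q := act 6 n115433
theorem D202186 : act 6 n115433 = n202186 := rfl
theorem F423160 : act 2 n202186 = n115434 := d3_1 D202186 (iv6 D115434) D115433
theorem F423161 : act 3 n202186 = n195463 := d7_1 D202186 (iv6 F397069) (iv3 F179729)
theorem F423162 : act 4 n202186 = n115460 := d10_1 D202186 (iv6 D115460) (iv4 F179730)
theorem F423163 : act 5 n202186 = n195322 := d21_6 (iv5 D74216) F53423 D62136 (iv6 F360878) (iv1 F179732) D202186 (iv1 D195322) (iv5 F166978) (iv6 D108035) (iv1 F111060)
theorem F423164 : act 7 n195515 = n202186 := d13_0 F423163 F396696 D195515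
def n202187 : Q := act 0 n115434
theorem D202187 : act 0 n115434 = n202187 := rfl
theorem F423165 : act 5 n202187 = n144112 := d17_3 (iv1 F396701) F360864 D202187 (iv4 D144112) (iv5 F367029) D191154 (iv5 F382418) F226615 (iv4 F396700)
def n202188 : Q := act 1 n115434
theorem D202188 : act 1 n115434 = n202188 := rfl
theorem F423166 : act 1 n202188 = n195515 := d15_1 D202188 F423164 F423160
theorem F423167 : act 5 n144107 = n202188 := d21_6 (iv5 F411889) F411890 (iv5 F397098) (iv6 F401588) (iv1 F401589) F397130 (iv1 D202188) (iv5 F360864) D195517 F403673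
def n202189 : Q := act 7 n115434
theorem D202189 : act 7 n115434 = n202189 := rfl
theorem F423168 : act 2 n202189 = n195515 := d4_1 D202189 F423164 F423160
theorem F423169 : act 3 n202189 = n115437 := d8_1 D202189 (iv7 D115437) (iv3 F179735)
theorem F423170 : act 4 n202189 = n115468 := d11_1 D202189 (iv7 D115468) (iv4 F179736)
theorem F423171 : act 5 n202189 = n195321 := d13_1 D202189 (iv7 F396691) F360864
theorem F423172 : act 6 n202189 = n195489 := d14_1 D202189 (iv7 D195489) (iv6 D105621) (iv7 F84097) D115434
theorem F423173 : act 1 n195515 = n202187 := d15_0 (iv0 D202187) D202189 F423168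
def n202190 : Q := act 6 n115435
theorem D202190 : act 6 n115435 = n202190 := rfl
theorem F423174 : act 2 n202190 = n195430 := d3_1 D202190 (iv6 D195430) (iv2 F179740)
theorem F423175 : act 3 n202190 = n195501 := d7_1 D202190 (iv6 D195501) F336174
theorem F423176 : act 4 n202190 = n129111 := d10_1 D202190 F207338 F179739
theorem F423177 : act 0 n195522 = n202190 := d18_2 F219889 (iv4 F397210) F423176 (iv5 D129111) D129110 F211973 (iv4 F99021) F213982 (iv5 F219888)
def n202191 : Q := act 4 n115439
theorem D202191 : act 4 n115439 = n202191 := rfl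
theorem F423178 : act 2 n202191 = n141305 := d1_1 D202191 (iv4 D141305) (iv2 F179750)
theorem F423179 : act 6 n202191 = n126537 := d10_2 (iv6 F179752) D202191 (iv4 F203456)
theorem F423180 : act 0 n202191 = n148771 := d17_0 F233571 (iv1 F233558) (iv5 F361829) F211828 (iv5 F217149) F217152 (iv5 F421981) (iv0 F421984) D202191
def n202192 : Q := act 5 n115441
theorem D202192 : act 5 n115441 = n202192 := rfl
theorem F423181 : act 2 n202192 = n115468 := d2_1 D202192 F330557 (iv2 F224182)
theorem F423182 : act 3 n202192 = n136173 := d6_1 D202192 (iv5 D136173) (iv3 F179754)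
theorem F423183 : act 7 n202192 = n115460 := d13_2 F224181 D202192 F330555
theorem F423184 : act 4 n202192 = n195515 := d17_4 F404264 F179635 D115441 D202192 (iv5 D195515) (iv0 D105644) (iv5 F79001) D108153 D197431
theorem F423185 : act 1 n115466 = n202192 := d15_1 D115466 F423183 F179763
theorem E103848 : n202007 = n115466 := ((c19_1 (iv1 F423185) (iv5 D202007) (iv4 F182865) F182864 (iv1 F182840) (iv5 F331456) F176125 D114413 F355729 (iv5 F334859) F314503 F114747 F243327 D68039 D145149 (iv3 F366504) F214872 (iv5 F180902) F331830 (iv3 F423182))).symm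
theorem F423186 : act 2 n115466 = n115323 := (sb E103848 F422695)
theorem F423187 : act 3 n115466 = n193894 := (sb E103848 F422696)
theorem F423188 : act 5 n115466 = n115322 := (sb E103848 (iv5 D202007))
theorem F423189 : act 1 n202192 = n115465 := d15_1 F423185 F365077 (iv2 F423186)
def n202193 : Q := act 0 n115444
theorem D202193 : act 0 n115444 = n202193 := rfl
theorem F423190 : act 5 n202193 = n115728 := d17_3 (iv1 F168114) (iv5 F336202) D202193 (iv4 D115728) (iv5 D53367) F53421 F53419 F53422 D53361
theorem F423191 : act 3 n202193 = n161958 := d20_5 (iv4 F166386) (iv1 F168108) (iv4 F84104) (iv3 F179755) D202193 (iv4 D161958) F117152 (iv4 F324311) F245127 (iv1 F111049)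
theorem F423192 : act 1 n196649 = n202193 := d15_0 (iv0 D202193) (iv7 F336206) (iv2 F401332)
def n202194 : Q := act 1 n115444
theorem D202194 : act 1 n115444 = n202194 := rfl
theorem F423193 : act 1 n202194 = n196649 := d15_1 D202194 F401335 (iv2 F336201)
theorem F423194 : act 5 n202194 = n115725 := d17_7 F204302 (iv5 D127068) (iv1 F168125) F82423 (iv4 F111146) (iv5 F336202) D202194 F245208 (iv4 F203873)
def n202195 : Q := act 0 n115445
theorem D202195 : act 0 n115445 = n202195 := rfl
theorem F423195 : act 5 n202195 = n156305 := d17_3 F168138 D115445 D202195 (iv4 D156305) (iv5 D74348) F53515 F40769 F53514 D74344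
theorem F423196 : act 3 n202195 = n124373 := d20_5 (iv4 F111536) (iv1 F168125) (iv4 F111146) (iv3 F336203) D202195 (iv4 D124373) F325434 (iv4 F179546) F179545 (iv1 F111535)
theorem F423197 : act 1 n137058 = n202195 := d15_0 (iv0 D202195) F336206 F336201
theorem F423198 : act 7 n202193 = n202195 := d8_0 F423196 (iv7 F255954) (iv3 F423191)
theorem F423199 : act 2 n202195 = n202194 := d15_3 F423193 F423192 F423198
def n202196 : Q := act 1 n115445
theorem D202196 : act 1 n115445 = n202196 := rfl
theorem F423200 : act 1 n202196 = n137058 := d15_1 D202196 (iv7 F401335) F401332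
theorem F423201 : act 7 n202196 = n202194 := d15_2 (iv0 D202195) D202196 (iv2 F423199)
theorem F423202 : act 5 n202196 = n139662 := d17_7 F402957 (iv5 F226979) (iv1 F168108) F82191 (iv4 F84104) D115445 D202196 F245207 (iv4 F402954)
theorem F423203 : act 4 n193529 = n202196 := d20_6 (iv4 F168205) (iv1 F82555) (iv4 F94068) (iv3 F204360) F363875 (iv3 F390171) (iv1 D202196) F336204 F175970 (iv1 F103318)
theorem F423204 : act 0 n156298 = n193529 := d18_2 (iv1 D156297) D156298 F423203 F423202 F222833 (iv0 F111223) D143916 (iv0 F422521) F422522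
theorem F423205 : act 1 n201962 = n193529 := d18_6 (iv1 F168139) (iv4 D74344) (iv1 F53514) (iv4 F84013) D115292 D201962 F423203 F423200 (iv5 D137058)
theorem F423206 : act 2 n202193 = n202196 := d16_9 (iv4 F423203) (iv5 D193529) F385680 (iv5 D156304) (iv4 D74347) D74348 D156305 (iv5 F423195) (iv7 F423198)
def n202197 : Q := act 6 n115447
theorem D202197 : act 6 n115447 = n202197 := rfl
theorem F423207 : act 2 n202197 = n116635 := d3_1 D202197 (iv6 D116635) (iv2 F223430)
theorem F423208 : act 3 n202197 = n115515 := d7_1 D202197 (iv6 F401383) F401381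
theorem F423209 : act 7 n202197 = n115507 := d14_2 F401316 D202197 (iv6 D115507) (iv7 F165180) F401322
theorem F423210 : act 1 n115517 = n202197 := d15_1 (iv0 F366261) F423209 F336254
def n202198 : Q := act 6 n115450
theorem D202198 : act 6 n115450 = n202198 := rfl
theorem F423211 : act 2 n202198 = n178782 := d3_1 D202198 (iv6 F351457) F218824
theorem F423212 : act 3 n202198 = n115453 := d7_1 D202198 (iv6 D115453) D115450
theorem F423213 : act 5 n202198 = n156950 := d12_1 D202198 (iv6 D156950) D156949 (iv6 F422804) F422803
def n202199 : Q := act 3 n115451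
theorem D202199 : act 3 n115451 = n202199 := rfl
theorem F423214 : act 2 n202199 = n137801 := d0_1 D202199 (iv3 D137801) F218965 D195416 (iv2 F396944)
theorem F423215 : act 0 n202199 = n126665 := d20_10 (iv4 D126665) (iv1 D59429) (iv4 F76823) (iv3 D48783) (iv1 F40809) D53249 F84096 D53258 D115451 D202199
theorem F423216 : act 0 n126660 = n202199 := d20_4 (iv4 F165359) (iv1 F397061) (iv4 F401609) F401610 (iv3 D202199) (iv4 D115451) (iv1 F179474) F179472 (iv3 F165275) (iv1 F165280)
def n202200 : Q := act 5 n115451
theorem D202200 : act 5 n115451 = n202200 := rfl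
theorem F423217 : act 2 n202200 = n195422 := d2_1 D202200 F396958 (iv2 F396944)
theorem F423218 : act 7 n202200 = n195419 := d13_2 F397308 D202200 F397312
theorem F423219 : act 4 n202200 = n192266 := d16_6 (iv4 F229274) F360613 (iv4 F336249) F336248 D115451 D202200 F386245 (iv7 F360623) F360609
theorem F423220 : act 6 n192265 = n202200 := d10_0 F423219 (iv6 D192266) D192265
theorem F423221 : act 1 n195421 = n202200 := d15_1 D195421 F423218 F396951
theorem F423222 : act 1 n202200 = n195420 := d15_0 (iv0 D195420) D195422 (iv2 F423217)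
theorem F423223 : act 5 n195420 = n202031 := d17_7 (iv1 D53211) D53213 D115348 F336248 D115451 D202200 F423222 F422761 (iv4 D115343)
def n202201 : Q := act 6 n115451
theorem D202201 : act 6 n115451 = n202201 := rfl
theorem F423224 : act 4 n202201 = n115453 := d10_1 D202201 (iv6 D115453) D115451
theorem F423225 : act 7 n202201 = n197329 := d14_2 F397308 D202201 (iv6 D197329) (iv7 F167163) F397311
def n202202 : Q := act 0 n115453
theorem D202202 : act 0 n115453 = n202202 := rfl
theorem F423226 : act 2 n115722 = n202202 := d15_3 (iv0 D202202) F422310 F245608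
theorem F423227 : act 1 n137062 = n202202 := d15_0 (iv0 D202202) (iv7 F336216) F220229
def n202203 : Q := act 0 n115460
theorem D202203 : act 0 n115460 = n202203 := rfl
theorem F423228 : act 5 n202203 = n144072 := d17_3 D128560 (iv5 F330555) D202203 F226785 D144083 F365097 (iv5 D128569) (iv0 D60470) (iv4 F95021)
theorem F423229 : act 2 n115465 = n202203 := d15_3 (iv0 D202203) F355427 (iv7 F365077)
theorem F423230 : act 1 n115468 = n202203 := d15_0 (iv0 D202203) (iv7 F423183) F423181
theorem F423231 : act 7 n202203 = n115466 := d15_2 (iv0 F355425) F423230 F423186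
theorem F423232 : act 3 n202023 = n202203 := d20_3 (iv4 F422447) (iv1 F422451) (iv4 F422729) (iv1 F423230) F179767 F84118 (iv1 F78279) D107185 (iv3 F391319) F422452
theorem F423233 : act 6 n202203 = n137039 := d21_3 (iv5 F404258) (iv1 F226787) (iv5 F423228) (iv1 D137039) F100336 F96861 D34071 (iv5 F111084) (iv6 F336196) F404259
theorem F423234 : act 5 n137039 = n202068 := d21_6 D115339 (iv1 F330603) (iv5 D115459) D115460 D202203 F423233 (iv1 D202068) (iv5 D115354) (iv6 D53214) D53210
def n202204 : Q := act 3 n115461
theorem D202204 : act 3 n115461 = n202204 := rfl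
theorem F423235 : act 5 n202204 = n126732 := d6_2 F349432 D202204 (iv3 F203959)
theorem F423236 : act 7 n202204 = n202030 := d8_2 (iv7 F349434) D202204 F422752
theorem F423237 : act 0 n115475 = n202204 := d17_2 (iv1 D115474) D115475 F423235 (iv4 D126732) D126733 F220095 (iv5 D126836) F179897 (iv4 F326816)
def n202205 : Q := act 6 n115462
theorem D202205 : act 6 n115462 = n202205 := rfl
theorem F423238 : act 2 n202205 = n202035 := d3_1 D202205 (iv6 D202035) F360637
def n202206 : Q := act 4 n115465
theorem D202206 : act 4 n115465 = n202206 := rfl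
theorem F423239 : act 3 n202206 = n139807 := d5_1 D202206 F223002 F170724 (iv4 F84109) (iv3 F365075)
theorem F423240 : act 7 n202206 = n202009 := d11_2 (iv7 F365077) D202206 (iv4 D202009)
theorem F423241 : act 5 n202206 = n139806 := d16_7 (iv4 F408747) (iv5 F408749) (iv4 D144087) (iv5 D67512) (iv4 F103394) (iv5 F365076) D202206 F226831 F396804
theorem F423242 : act 1 n202206 = n136314 := d18_8 (iv1 F336189) F215919 F397198 (iv4 D195514) D195515 (iv4 F423184) F423189 D202206 (iv5 D136314)
theorem F423243 : act 6 n202206 = n197353 := d21_3 (iv5 D195353) F223001 (iv5 F423241) (iv1 D197353) (iv6 D108112) (iv5 D49933) (iv1 F40065) D52198 D113093 (iv1 F404256)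
def n202207 : Q := act 6 n115465
theorem D202207 : act 6 n115465 = n202207 := rfl
theorem F423244 : act 2 n202207 = n137039 := d3_1 D202207 (iv6 F423233) (iv2 F423229)
theorem F423245 : act 3 n202207 = n115470 := d7_1 D202207 (iv6 D115470) (iv3 F365075)
theorem F423246 : act 4 n202207 = n197353 := d10_1 D202207 (iv6 F423243) (iv4 D202206)
theorem F423247 : act 0 n137042 = n202207 := d20_10 F423246 (iv1 D197353) F167195 (iv3 F167161) (iv1 F320452) (iv3 F318377) (iv4 D74286) (iv1 F53501) (iv4 F100337) (iv3 F220172)
theorem F423248 : act 1 n137040 = n202207 := d15_0 (iv0 F423247) (iv7 D137042) D137040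
theorem F423249 : act 7 n137038 = n202207 := d8_0 F423245 (iv7 F346467) (iv3 F415365)
def n202208 : Q := act 4 n115466
theorem D202208 : act 4 n115466 = n202208 := rfl
theorem F423250 : act 2 n202208 = n202009 := d1_1 D202208 (iv4 D202009) (iv2 F423186)
theorem F423251 : act 5 n202208 = n195351 := d16_1 D202208 (iv4 F408747) (iv5 F408749) (iv4 D144087) (iv5 D67512) (iv4 F103394) (iv5 F365076) F365077 (iv2 F423186)
theorem F423252 : act 0 n202208 = n136314 := d17_0 (iv5 D136314) (iv1 F336189) F215920 (iv4 F336195) F179635 D115442 F330553 D115466 D202208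
def n202209 : Q := act 6 n115466
theorem D202209 : act 6 n115466 = n202209 := rfl
theorem F423253 : act 2 n202209 = n202010 := d3_1 D202209 (iv6 D202010) (iv2 F423186)
def n202210 : Q := act 5 n115470
theorem D202210 : act 5 n115470 = n202210 := rfl
theorem F423254 : act 2 n202210 = n202027 := d2_1 D202210 (iv5 D202027) (iv2 F179770)
theorem F423255 : act 6 n202210 = n144075 := d12_2 D115470 D202210 (iv5 D144075) (iv6 D67506) (iv5 F84108)
theorem F423256 : act 1 n202210 = n152795 := d17_6 (iv1 F365525) D193135 F388869 (iv5 F349887) (iv4 F179771) D202210 (iv5 D152795) D152793 (iv4 F347038)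
def n202211 : Q := act 6 n115471
theorem D202211 : act 6 n115471 = n202211 := rfl
theorem F423257 : act 3 n202211 = n115472 := d7_1 D202211 (iv6 D115472) D115471
def n202212 : Q := act 0 n115472
theorem D202212 : act 0 n115472 = n202212 := rfl
theorem F423258 : act 4 n202212 = n161725 := d20_2 (iv4 F179775) D202212 F255731 F318087 (iv3 F189634) (iv4 F314551) F166339 (iv4 F204305) F409609 (iv1 D198859)
theorem F423259 : act 6 n202212 = n161925 := d21_5 (iv5 D49452) D49450 (iv5 F84115) D115472 D202212 (iv5 F422281) (iv1 D200306) (iv5 F206790) (iv6 D128564) F95027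
theorem F423260 : act 2 n178481 = n202212 := d1_3 F423258 F255730 D178481
theorem F423261 : act 7 n202015 = n202212 := d11_0 F423258 (iv7 F350665) F422710
theorem F423262 : act 1 n202017 = n202212 := d18_6 F383333 F237481 (iv1 D133320) D133322 (iv5 F415336) (iv4 F422713) F423258 (iv0 F350641) (iv5 F383332)
def n202213 : Q := act 1 n115472
theorem D202213 : act 1 n115472 = n202213 := rfl
theorem F423263 : act 1 n202213 = n202017 := d15_1 D202213 (iv7 D202017) (iv2 F179774)
theorem F423264 : act 7 n202213 = n178481 := d15_2 (iv0 D202212) D202213 F423260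
theorem F423265 : act 4 n202213 = n174505 := d18_7 F337053 F186458 D118550 (iv4 F409607) (iv5 D198860) (iv4 F179775) D202213 F337056 D174557
theorem F423266 : act 2 n202015 = n202213 := d1_3 F423265 F350666 F422710
def n202214 : Q := act 5 n115472
theorem D202214 : act 5 n115472 = n202214 := rfl
theorem F423267 : act 2 n202214 = n202016 := d2_1 D202214 (iv5 D202016) (iv2 F179774)
theorem F423268 : act 6 n202214 = n196514 := d12_2 D115472 D202214 (iv5 D196514) (iv6 D107045) (iv5 F84115)
def n202215 : Q := act 7 n115472
theorem D202215 : act 7 n115472 = n202215 := rfl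
theorem F423269 : act 2 n202215 = n202017 := d4_1 D202215 (iv7 D202017) (iv2 F179774)
theorem F423270 : act 4 n202215 = n198861 := d11_1 D202215 (iv7 D198861) (iv4 F179775)
theorem F423271 : act 6 n202215 = n155877 := d14_1 D202215 F354575 (iv6 D115333) (iv7 F84114) D115472
theorem F423272 : act 1 n202015 = n202215 := d15_1 D202015 (iv7 D202215) F179774
theorem F423273 : act 1 n202215 = n178481 := d15_1 F423272 (iv7 F423264) (iv2 F423266)
def n202216 : Q := act 5 n115474
theorem D202216 : act 5 n115474 = n202216 := rfl
theorem F423274 : act 3 n202216 = n202160 := d6_1 D202216 F423092 (iv3 F326815)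
theorem F423275 : act 7 n202216 = n178779 := d13_2 (iv7 F326817) D202216 F351459
theorem F423276 : act 6 n202157 = n202216 := d7_0 F423274 (iv6 D202160) D202157
def n202217 : Q := act 1 n115475
theorem D202217 : act 1 n115475 = n202217 := rfl
theorem F423277 : act 5 n126728 = n202217 := d21_6 F84108 F49634 D49452 D107052 D196529 F400987 (iv1 D202217) (iv5 D115475) (iv6 D53265) D53263
theorem F423278 : act 2 n202217 = n202030 := d2_1 F423277 (iv5 D202030) (iv2 F203954)
theorem F423279 : act 4 n115475 = n192402 := d18_1 (iv1 D202217) (iv1 D192402) (iv4 F386645) (iv5 F401106) F401102 (iv0 F350870) F223104 (iv0 F223106) F423277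
theorem F423280 : act 6 n192402 = n115485 := d10_2 (iv6 F179776) F423279 (iv4 D115485)
def n202218 : Q := act 7 n115475
theorem D202218 : act 7 n115475 = n202218 := rfl
theorem F423281 : act 3 n202218 = n116585 := d8_1 D202218 (iv7 D116585) (iv3 F326821)
theorem F423282 : act 5 n202218 = n115476 := d13_1 D202218 (iv7 D115476) D115475
theorem F423283 : act 1 n202030 = n202218 := d15_1 (iv0 F422754) (iv7 D202218) (iv2 F401377)
def n202219 : Q := act 2 n115477
theorem D202219 : act 2 n115477 = n202219 := rfl
theorem F423284 : act 3 n202219 = n115505 := d0_2 D115477 D202219 F182526 F330598 (iv2 F165198)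
theorem F423285 : act 4 n202219 = n199922 := d1_2 F408043 D202219 F414162
theorem F423286 : act 5 n202219 = n139970 := d2_2 (iv5 F362576) D202219 F223189
theorem F423287 : act 7 n202219 = n116582 := d4_2 F401388 D202219 (iv2 F401386)
theorem F423288 : act 1 n202219 = n116544 := d15_0 (iv0 F401389) F401388 D202219
theorem F423289 : act 1 n116585 = n202219 := d15_0 F423288 F181887 (iv2 F181938)
def n202220 : Q := act 0 n115478
theorem D202220 : act 0 n115478 = n202220 := rfl
theorem F423290 : act 5 n202220 = n130956 := d17_1 D202220 F245030 (iv5 F401337) F401339 (iv5 F410339) F410338 (iv5 F354433) F222569 (iv4 F330565)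
theorem F423291 : act 4 n202220 = n139438 := d20_2 (iv4 F330565) D202220 (iv3 D139438) (iv1 D65442) (iv3 D30685) F38991 (iv1 F38990) D24877 D51110 F101434
theorem F423292 : act 3 n202220 = n202040 := d20_5 (iv4 F179592) F179600 D65715 (iv3 F330564) D202220 F422771 (iv1 F218677) (iv4 F179567) F179566 (iv1 F179594)
theorem F423293 : act 1 n115481 = n202220 := d15_0 (iv0 D202220) (iv7 F401394) F401392
theorem F423294 : act 0 n199579 = n139438 := d20_10 (iv4 F423291) (iv1 F423293) F330601 (iv3 F223165) (iv1 F402167) F402164 F375609 (iv1 F388311) F388312 D199579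
theorem F423295 : act 2 n202006 = n202220 := d0_5 F423292 (iv2 F422772) (iv3 F226782) (iv2 F392457) D202006
theorem F423296 : act 7 n202131 = n202220 := d8_0 F423292 F422773 F423003
theorem F423297 : act 6 n192391 = n202220 := d10_0 F423291 (iv6 F357357) D192391
def n202221 : Q := act 1 n115478
theorem D202221 : act 1 n115478 = n202221 := rfl
theorem F423298 : act 1 n202221 = n115481 := d15_1 D202221 (iv7 F330599) (iv2 F330563)
theorem F423299 : act 7 n202221 = n202006 := d15_2 (iv0 D202220) D202221 F423295
theorem F423300 : act 5 n202221 = n130955 := d17_7 F207641 (iv5 F419011) (iv1 D201077) F328379 (iv4 F165193) D115478 D202221 F245031 F245028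
theorem F423301 : act 2 n202131 = n202221 := d2_3 F423300 (iv2 F218241) (iv5 F423002)
theorem F423302 : act 3 n202221 = n144071 := d0_2 F423003 F423301 F392462 D202003 (iv2 F422687)
def n202222 : Q := act 6 n115478
theorem D202222 : act 6 n115478 = n202222 := rfl
theorem F423303 : act 2 n202222 = n202132 := d3_1 D202222 (iv6 D202132) (iv2 F330563)
theorem F423304 : act 3 n202222 = n139974 := d7_1 D202222 (iv6 D139974) (iv3 F330564)
theorem F423305 : act 4 n202222 = n139982 := d10_1 D202222 (iv6 D139982) (iv4 F330565)
def n202223 : Q := act 6 n115481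
theorem D202223 : act 6 n115481 = n202223 := rfl
theorem F423306 : act 3 n202223 = n196516 := d7_1 D202223 (iv6 D196516) (iv3 F330600)
theorem F423307 : act 4 n202223 = n199015 := d10_1 D202223 (iv6 D199015) (iv4 F330601)
def n202224 : Q := act 6 n115483
theorem D202224 : act 6 n115483 = n202224 := rfl
theorem F423308 : act 3 n202224 = n116573 := d7_1 D202224 (iv6 D116573) (iv3 F330539)
theorem F423309 : act 5 n202224 = n137064 := d12_1 D202224 (iv6 D137064) F100347 D74227 (iv5 F179778)
theorem F423310 : act 7 n202224 = n178806 := d14_2 (iv7 F330541) D202224 (iv6 D178806) F319508 (iv6 F323216)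
def n202225 : Q := act 5 n115485
theorem D202225 : act 5 n115485 = n202225 := rfl
theorem F423311 : act 4 n202225 = n135728 := d16_2 D115485 D202225 (iv5 D135728) (iv4 D63817) (iv5 F78282) (iv4 F165188) (iv5 F401403) (iv7 D196663) F165186
theorem F423312 : act 0 n152542 = n202225 := d18_2 F365661 (iv4 F239725) F423311 (iv5 D135728) (iv4 D63817) (iv0 D30109) (iv4 F48383) (iv0 F97705) D133457
def n202226 : Q := act 7 n115485
theorem D202226 : act 7 n115485 = n202226 := rfl
theorem F423313 : act 2 n202226 = n198989 := d4_1 D202226 F410201 F330551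
theorem F423314 : act 4 n202226 = n115486 := d11_1 D202226 (iv7 D115486) D115485
theorem F423315 : act 1 n115545 = n202226 := d15_1 (iv0 F224188) (iv7 D202226) (iv2 F330551)
theorem F423316 : act 1 n202226 = n115540 := d15_1 F423315 (iv7 F422367) F422364
def n202227 : Q := act 6 n115486
theorem D202227 : act 6 n115486 = n202227 := rfl
def n202228 : Q := act 5 n115487
theorem D202228 : act 5 n115487 = n202228 := rfl
theorem F423317 : act 3 n202228 = n115488 := d6_1 D202228 (iv5 D115488) D115487
theorem F423318 : act 4 n202228 = n198041 := d16_2 (iv4 F179783) D202228 (iv5 F412695) F412694 (iv5 D120467) D120466 (iv5 F391265) F391268 F353567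
theorem F423319 : act 1 n202228 = n140495 := d17_8 (iv1 D65943) D65945 D140500 F349729 (iv4 F401863) (iv5 F422467) (iv0 F422469) D202228 (iv4 D140495)
theorem F423320 : act 6 n198040 = n202228 := d10_0 F423318 (iv6 D198041) D198040
theorem F423321 : act 0 n202228 = n140490 := d20_7 (iv4 F182481) F223620 (iv4 D140434) D140433 (iv1 F388311) F406573 (iv4 F423318) (iv4 D140490) D140489 F387842
def n202229 : Q := act 6 n115488
theorem D202229 : act 6 n115488 = n202229 := rfl
theorem F423322 : act 2 n202229 = n141726 := d3_1 D202229 (iv6 D141726) (iv2 F179784)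
theorem F423323 : act 3 n202229 = n198040 := d7_1 D202229 F423320 F423317
theorem F423324 : act 0 n202229 = n156240 := d21_4 F330515 (iv1 F102033) D115488 D202229 (iv6 D156240) F318300 (iv1 F130437) D85138 (iv6 F339878) (iv1 F179513)
def n202230 : Q := act 1 n115490
theorem D202230 : act 1 n115490 = n202230 := rfl
theorem F423325 : act 7 n202230 = n115614 := d15_2 (iv0 F336240) D202230 F179949
theorem F423326 : act 4 n202230 = n141533 := d18_7 F243209 D145055 (iv1 F321906) F321908 F316847 (iv4 F179787) D202230 F422793 F422791
theorem F423327 : act 5 n202230 = n115637 := d18_9 (iv1 F360871) (iv4 F360862) (iv1 D115432) F84096 D53261 F327060 (iv0 F319196) (iv4 F179787) D202230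
theorem F423328 : act 2 n115633 = n202230 := d2_3 F423327 (iv2 D115637) (iv5 F336234)
theorem F423329 : act 0 n115630 = n202230 := d17_0 F423327 (iv1 F360871) (iv5 F224074) F360865 (iv5 F181648) F316211 F131175 F320601 (iv4 F336238)
theorem F423330 : act 6 n202230 = n115648 := d21_5 D72117 D152832 F240049 F336239 F423329 F348363 (iv1 D152766) (iv5 D72086) F52508 D33297
def n202231 : Q := act 2 n115490
theorem D202231 : act 2 n115490 = n202231 := rfl
theorem F423331 : act 4 n202231 = n116229 := d1_2 (iv4 F179787) D202231 (iv2 D116229)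
theorem F423332 : act 7 n202231 = n115630 := d4_2 (iv7 F179788) D202231 F336237
theorem F423333 : act 1 n202231 = n115633 := d15_0 F360885 (iv7 F179788) D202231
theorem F423334 : act 1 n115614 = n202231 := d15_0 F423333 (iv7 D115633) (iv2 F179949)
theorem F423335 : act 5 n201965 = n202231 := d17_5 (iv1 D105618) D105620 D195482 (iv5 F397124) D201965 F423333 F336234 (iv0 F181516) F179841
def n202232 : Q := act 5 n115490
theorem D202232 : act 5 n115490 = n202232 := rfl
theorem F423336 : act 2 n202232 = n201965 := d2_1 D202232 F423335 (iv2 D202231)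
theorem F423337 : act 3 n202232 = n115491 := d6_1 D202232 (iv5 D115491) D115490
theorem F423338 : act 7 n202232 = n141722 := d13_2 (iv7 F179788) D202232 (iv5 D141722)
theorem F423339 : act 4 n202232 = n144417 := d17_4 (iv1 F336243) (iv5 F423327) (iv1 D202230) D202232 (iv5 F414628) F414633 (iv5 D195480) F179728 (iv4 F336242)
theorem F423340 : act 0 n202232 = n156280 := d18_0 (iv4 F404276) F222997 (iv4 D115343) D115344 D202044 (iv0 F422792) F179978 (iv0 F336240) D202232
def n202233 : Q := act 6 n115490
theorem D202233 : act 6 n115490 = n202233 := rfl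
theorem F423341 : act 3 n202233 = n115492 := d7_1 D202233 (iv6 D115492) D115490
theorem F423342 : act 4 n202233 = n116231 := d10_1 D202233 (iv6 D116231) (iv4 F179787)
theorem F423343 : act 7 n202233 = n157412 := d14_2 (iv7 F179788) D202233 F247900 F112365 (iv6 F318781)
def n202234 : Q := act 4 n115491
theorem D202234 : act 4 n115491 = n202234 := rfl
theorem F423344 : act 2 n202234 = n139314 := d1_1 D202234 F222795 (iv2 F330567)
theorem F423345 : act 7 n202234 = n141725 := d11_2 (iv7 F179789) D202234 (iv4 D141725)
theorem F423346 : act 5 n202234 = n152542 := d16_1 D202234 F239725 (iv5 F327479) (iv4 D115489) (iv5 D53273) D53272 D115488 F330568 (iv2 F330567)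
theorem F423347 : act 1 n202234 = n139438 := d18_6 (iv1 F165192) F165188 (iv1 F78285) D53276 D115491 D202234 (iv4 F423291) (iv0 D202220) (iv5 D115478)
def n202235 : Q := act 6 n115491
theorem D202235 : act 6 n115491 = n202235 := rfl
theorem F423348 : act 0 n201988 = n202235 := d21_4 (iv5 F401106) F401104 (iv5 F422492) (iv6 F422629) (iv6 D202235) (iv5 D115491) F97707 (iv5 F330515) (iv6 F330517) (iv1 F386647)
def n202236 : Q := act 0 n115492
theorem D202236 : act 0 n115492 = n202236 := rfl
theorem F423349 : act 5 n202236 = n152834 := d17_1 D202236 F361009 (iv5 F359530) (iv4 D155989) F110983 F83857 D63169 (iv0 F98434) (iv4 F179790)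
theorem F423350 : act 6 n202236 = n152837 := d21_5 (iv5 F176278) (iv1 F330596) (iv5 D115491) D115492 D202236 (iv5 D152837) (iv1 F351411) F339857 (iv6 F330537) F330580
theorem F423351 : act 1 n137032 = n202236 := d15_0 (iv0 D202236) (iv7 F245429) F245427
theorem F423352 : act 7 n202236 = n115713 := d15_2 (iv0 F245596) F423351 (iv2 F245594)
def n202237 : Q := act 5 n115493
theorem D202237 : act 5 n115493 = n202237 := rfl
theorem F423353 : act 2 n202237 = n152545 := d2_1 D202237 F354444 F218539
theorem F423354 : act 3 n202237 = n188117 := d6_1 D202237 (iv5 F418547) F418545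
theorem F423355 : act 6 n202237 = n152538 := d12_2 (iv6 F179791) D202237 (iv5 F419448) F419449 F328385
theorem F423356 : act 7 n202237 = n141728 := d13_2 (iv7 F179792) D202237 (iv5 D141728)
theorem F423357 : act 0 n202237 = n133457 := d17_2 F218319 D202237 (iv5 D133457) F97704 F95162 F179214 (iv5 F211700) (iv0 F211701) (iv4 F218310)
theorem F423358 : act 1 n202237 = n135722 := d17_6 D30109 (iv5 F78282) (iv1 F78285) D53277 D115493 D202237 (iv5 D135722) (iv0 D63814) F48383
def n202238 : Q := act 3 n115494
theorem D202238 : act 3 n115494 = n202238 := rfl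
theorem F423359 : act 4 n202238 = n194013 := d5_2 F203479 D202238 F391765 F209726 (iv3 F203478)
theorem F423360 : act 6 n202238 = n194014 := d7_2 (iv6 F217952) D202238 F391771
theorem F423361 : act 0 n202238 = n137400 := d20_4 F99198 (iv1 F203482) F203479 D202238 F365157 F209362 F330912 (iv4 F95934) F95933 D61435
theorem F423362 : act 2 n194041 = n202238 := d3_3 F423360 F391770 (iv6 F391847)
def n202239 : Q := act 5 n115494
theorem D202239 : act 5 n115494 = n202239 := rfl
def n202240 : Q := act 4 n115496
theorem D202240 : act 4 n115496 = n202240 := rfl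
theorem F423363 : act 5 n202240 = n198989 := d9_2 D115496 D202240 F410199 F401403 F165188 F78282 D63817 D135728 (iv4 F423311) (iv5 D202225) (iv4 D115485) (iv5 D53268) F40815 D25829 D53279
theorem F423364 : act 0 n202240 = n152542 := d18_2 (iv1 F363768) D202240 F239725 (iv5 F327479) (iv4 D115489) (iv0 F179284) F363764 F363779 (iv5 F363770)
theorem F423365 : act 3 n202240 = n139445 := d19_3 (iv1 D115494) D115496 D202240 (iv1 D139445) (iv5 D65444) (iv4 F99432) (iv3 D63922) (iv1 F48479) D30160 (iv4 F48655) (iv3 F100053) F143111 (iv5 F100470) D137298 F391760 (iv1 D194012) D194013 (iv4 F423359) (iv3 D202238)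
def n202241 : Q := act 6 n115496
theorem D202241 : act 6 n115496 = n202241 := rfl
theorem F423366 : act 3 n202241 = n201427 := d7_1 D202241 F420474 F338619
theorem F423367 : act 5 n202241 = n133439 := d12_1 D202241 (iv6 D133439) (iv5 D62629) (iv6 F84123) D115496
theorem F423368 : act 0 n201483 = n202241 := d17_2 (iv1 F259242) D201483 F423367 F214567 F318594 (iv0 F339250) D125457 (iv0 F336517) F347814
theorem F423369 : act 0 n202241 = n201481 := d19_4 D115918 (iv5 F372573) (iv4 F420472) (iv3 F423366) (iv5 D201481) F347804 (iv3 F347789) F166887 (iv5 D51937) (iv4 D25201) F38834 (iv1 F37741) (iv5 D24096) (iv4 D11315) F10152 (iv1 F8978) D12290 D25892 D53448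
def n202242 : Q := act 1 n115501
theorem D202242 : act 1 n115501 = n202242 := rfl
theorem F423370 : act 4 n202242 = n162074 := d18_7 F325846 F101696 D66181 D141111 (iv5 F351528) (iv4 F351524) D202242 (iv0 F344462) (iv5 D160360)
theorem F423371 : act 2 n115726 = n202242 := d1_3 F423370 (iv2 F351084) (iv4 F180050)
theorem F423372 : act 5 n122657 = n202242 := d16_1 D122657 F423370 (iv5 D162074) (iv4 D77863) (iv5 F298108) (iv4 F115393) (iv5 F301971) F198816 F300543
def n202243 : Q := act 5 n115501
theorem D202243 : act 5 n115501 = n202243 := rfl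
theorem F423373 : act 2 n202243 = n160317 := d2_1 D202243 (iv5 F401355) F401353
theorem F423374 : act 3 n202243 = n178794 := d6_1 D202243 (iv5 F344874) F351523
theorem F423375 : act 6 n202243 = n178791 := d12_2 D115501 D202243 F423063 (iv6 D202149) F179708
theorem F423376 : act 7 n202243 = n160325 := d13_2 (iv7 F351525) D202243 (iv5 F351461)
theorem F423377 : act 4 n202243 = n160275 := d16_4 D141111 (iv5 F351528) (iv4 F351524) D202243 (iv5 D160275) (iv4 F115323) F325839 (iv7 F325827) F325826
theorem F423378 : act 0 n202243 = n124373 := d18_0 (iv4 D124373) F325434 (iv4 F179546) D201950 F422488 F351090 (iv4 F245614) (iv0 F351526) D202243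
theorem F423379 : act 0 n124366 = n202243 := d18_2 (iv1 F325433) D124366 F423377 (iv5 D160275) (iv4 F115323) (iv0 F115324) F57378 (iv0 F112810) (iv5 F324298)
def n202244 : Q := act 4 n115502
theorem D202244 : act 4 n115502 = n202244 := rfl
theorem F423380 : act 2 n202244 = n115506 := d1_1 D202244 (iv4 D115506) (iv2 F179798)
theorem F423381 : act 5 n202244 = n196598 := d16_1 D202244 (iv4 D196598) (iv5 D107128) F78239 (iv5 F37885) (iv4 F78273) D107178 F165180 (iv2 F179798)
def n202245 : Q := act 0 n115503
theorem D202245 : act 0 n115503 = n202245 := rfl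
theorem F423382 : act 4 n202245 = n142809 := d20_8 (iv4 D72708) F320563 D66968 (iv3 F342498) F342496 (iv3 F398697) F398698 D202245 (iv3 D142809) (iv1 F322351)
theorem F423383 : act 7 n115509 = n202245 := d11_0 F423382 (iv7 F401873) F401874
theorem F423384 : act 0 n202245 = n115511 := d20_7 F163690 (iv1 D24915) (iv4 F39062) (iv3 F49518) D66939 D142809 (iv4 F423382) (iv4 F398704) F398703 (iv1 F163689)
theorem F423385 : act 0 n196806 = n142809 := d18_0 (iv4 F423382) F423384 (iv4 F398704) F398705 F221657 (iv0 F409144) F409142 D198768 F409153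
theorem F423386 : act 3 n202245 = n116638 := d20_9 (iv4 D152320) F320926 (iv4 F348346) (iv3 F385968) F385970 (iv3 F422475) F422476 F423385 (iv4 F423382) (iv1 F366203)
theorem F423387 : act 3 n152716 = n115509 := d8_3 F423383 F423386 (iv7 F366202)
theorem F423388 : act 2 n202245 = n115508 := d15_3 (iv0 D115508) D115509 F423383
theorem F423389 : act 4 n115508 = n196812 := d1_2 (iv4 F423382) F423388 (iv2 F401875)
def n202246 : Q := act 1 n115503
theorem D202246 : act 1 n115503 = n202246 := rfl
theorem F423390 : act 1 n202246 = n115511 := d15_1 D202246 (iv7 D115511) (iv2 F179799)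
theorem F423391 : act 7 n202246 = n115508 := d15_2 (iv0 D202245) D202246 (iv2 F423388)
theorem F423392 : act 2 n115509 = n202246 := d4_3 F423391 (iv2 F423388) (iv7 F423383)
def n202247 : Q := act 5 n115503
theorem D202247 : act 5 n115503 = n202247 := rfl
theorem F423393 : act 2 n202247 = n115510 := d2_1 D202247 (iv5 D115510) (iv2 F179799)
def n202248 : Q := act 7 n115503
theorem D202248 : act 7 n115503 = n202248 := rfl
theorem F423394 : act 2 n202248 = n115511 := d4_1 D202248 (iv7 D115511) (iv2 F179799)
theorem F423395 : act 6 n202248 = n136173 := d14_1 D202248 F401367 (iv6 D196654) F165176 D115503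
theorem F423396 : act 1 n115509 = n202248 := d15_1 D115509 (iv7 D202248) F179799
theorem F423397 : act 1 n202248 = n115508 := d15_1 F423396 (iv7 F423391) (iv2 F423392)
def n202249 : Q := act 4 n115505
theorem D202249 : act 4 n115505 = n202249 := rfl
theorem F423398 : act 2 n202249 = n116106 := d1_1 D202249 (iv4 F364943) (iv2 F182526)
theorem F423399 : act 3 n202249 = n196674 := d5_1 D202249 F401440 (iv3 F414163) (iv4 F423285) F423284
theorem F423400 : act 7 n202249 = n202137 := d11_2 (iv7 F182527) D202249 (iv4 D202137)
theorem F423401 : act 1 n202249 = n141848 := d15_0 (iv0 F400253) F400251 (iv2 F423398)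
def n202250 : Q := act 5 n115506
theorem D202250 : act 5 n115506 = n202250 := rfl
theorem F423402 : act 2 n202250 = n196598 := d2_1 D202250 (iv5 F423381) F423380
theorem F423403 : act 3 n202250 = n196789 := d6_1 D202250 (iv5 F416616) F416615
theorem F423404 : act 4 n202250 = n196596 := d16_2 D115506 D202250 (iv5 D196596) F165109 (iv5 F78287) (iv4 F165175) D196653 F401359 F179798
def n202251 : Q := act 6 n115506
theorem D202251 : act 6 n115506 = n202251 := rfl
theorem F423405 : act 4 n202251 = n115507 := d10_1 D202251 (iv6 D115507) D115506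
def n202252 : Q := act 1 n115507
theorem D202252 : act 1 n115507 = n202252 := rfl
theorem F423406 : act 1 n202252 = n116635 := d15_1 D202252 F366273 (iv2 F336254)
theorem F423407 : act 2 n115517 = n202252 := d15_3 F423406 (iv0 F422333) F422332
theorem F423408 : act 4 n202252 = n141952 := d1_2 (iv4 F179805) F423407 (iv2 D141952)
def n202253 : Q := act 5 n115507
theorem D202253 : act 5 n115507 = n202253 := rfl
theorem F423409 : act 3 n202253 = n115514 := d6_1 D202253 (iv5 D115514) (iv3 F179800)
theorem F423410 : act 6 n202253 = n115510 := d12_2 D115507 D202253 (iv5 D115510) (iv6 D53284) D53283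
def n202254 : Q := act 3 n115508
theorem D202254 : act 3 n115508 = n202254 := rfl
def n202255 : Q := act 5 n115508
theorem D202255 : act 5 n115508 = n202255 := rfl
def n202256 : Q := act 6 n115508
theorem D202256 : act 6 n115508 = n202256 := rfl
def n202257 : Q := act 5 n115509
theorem D202257 : act 5 n115509 = n202257 := rfl
def n202258 : Q := act 6 n115509
theorem D202258 : act 6 n115509 = n202258 := rfl
def n202259 : Q := act 0 n115510
theorem D202259 : act 0 n115510 = n202259 := rfl
def n202260 : Q := act 1 n115510
theorem D202260 : act 1 n115510 = n202260 := rfl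
def n202261 : Q := act 7 n115510
theorem D202261 : act 7 n115510 = n202261 := rfl
theorem F423411 : act 3 n202261 = n115526 := d8_1 D202261 (iv7 D115526) (iv3 F179801)
theorem F423412 : act 5 n202261 = n115511 := d13_1 D202261 (iv7 D115511) D115510
def n202262 : Q := act 5 n115512
theorem D202262 : act 5 n115512 = n202262 := rfl
theorem F423413 : act 2 n202262 = n117645 := d2_1 D202262 F422326 (iv2 F422323)
theorem F423414 : act 7 n202262 = n119538 := d13_2 (iv7 F336267) D202262 (iv5 D119538)
theorem F423415 : act 4 n202262 = n117517 := d16_2 (iv4 F336266) D202262 (iv5 D117517) F85471 F41602 (iv4 F42521) D54898 D119299 F187781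
def n202263 : Q := act 6 n115512
theorem D202263 : act 6 n115512 = n202263 := rfl
theorem F423416 : act 4 n202263 = n119540 := d10_1 D202263 (iv6 D119540) (iv4 F336266)
theorem F423417 : act 5 n202263 = n202081 := d21_6 F84057 (iv1 F40812) D25832 D53285 D115512 D202263 (iv1 D202081) (iv5 D115362) (iv6 D53217) D53215
theorem F423418 : act 0 n202263 = n155879 := d20_1 (iv4 F423416) F244859 F110857 D74139 (iv3 F321594) (iv4 D107683) (iv1 D49747) (iv4 F78615) (iv3 F166300) F355514
def n202264 : Q := act 5 n115513
theorem D202264 : act 5 n115513 = n202264 := rfl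
theorem F423419 : act 2 n202264 = n119538 := d2_1 D202264 (iv5 D119538) (iv2 F336268)
theorem F423420 : act 4 n202264 = n117646 := d9_1 D202264 F184236 F85518 F41609 (iv4 F42590) (iv5 F87000) (iv4 F336266) D202262 F423415 (iv5 D117517) F85471 F41602 (iv4 F42521) D54898 (iv4 F336269)
theorem F423421 : act 7 n202264 = n117645 := d13_2 F422325 D202264 F422326
def n202265 : Q := act 6 n115513
theorem D202265 : act 6 n115513 = n202265 := rfl
theorem F423422 : act 2 n202265 = n119491 := d3_1 D202265 F188280 (iv2 F336268)
theorem F423423 : act 4 n202265 = n119287 := d10_1 D202265 F187755 (iv4 F336269)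
theorem F423424 : act 0 n161925 = n202265 := d18_0 F423423 (iv1 F404636) F404635 (iv5 D156279) D156278 F404273 F403812 D200306 F422281
def n202266 : Q := act 0 n115514
theorem D202266 : act 0 n115514 = n202266 := rfl
def n202267 : Q := act 1 n115514
theorem D202267 : act 1 n115514 = n202267 := rfl
def n202268 : Q := act 4 n115514
theorem D202268 : act 4 n115514 = n202268 := rfl
theorem F423425 : act 2 n202268 = n117664 := d1_1 D202268 (iv4 F422329) F422327
theorem F423426 : act 6 n202268 = n115525 := d10_2 (iv6 F179803) D202268 (iv4 D115525)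
theorem F423427 : act 5 n202268 = n117522 := d16_3 F176330 D115514 D202268 (iv4 D117522) (iv5 F85473) (iv4 F315086) (iv5 F326828) (iv7 D126324) (iv2 F176329)
theorem F423428 : act 7 n117658 = n202268 := d13_0 F423427 F184115 D117658
def n202269 : Q := act 7 n115514
theorem D202269 : act 7 n115514 = n202269 := rfl
theorem F423429 : act 4 n202269 = n117658 := d11_1 D202269 F423428 (iv4 D202268)
theorem F423430 : act 5 n202269 = n115515 := d13_1 D202269 (iv7 D115515) D115514
def n202270 : Q := act 5 n115517
theorem D202270 : act 5 n115517 = n202270 := rfl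
theorem F423431 : act 3 n202270 = n115518 := d6_1 D202270 (iv5 D115518) D115517
def n202271 : Q := act 6 n115517
theorem D202271 : act 6 n115517 = n202271 := rfl
theorem F423432 : act 3 n202271 = n115519 := d7_1 D202271 (iv6 D115519) D115517
theorem F423433 : act 4 n202271 = n141954 := d10_1 D202271 (iv6 D141954) (iv4 F179805)
def n202272 : Q := act 6 n115518
theorem D202272 : act 6 n115518 = n202272 := rfl
theorem F423434 : act 4 n202272 = n193780 := d10_1 D202272 (iv6 D193780) F357602
theorem F423435 : act 5 n202272 = n116638 := d12_1 D202272 F422290 F422287 (iv6 D115519) D115518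
theorem F423436 : act 1 n138081 = n202272 := d17_6 (iv1 F320710) F316289 D58439 F199918 D72075 (iv5 F364903) F423435 (iv0 D116638) F84768
theorem F423437 : act 0 n152748 = n202272 := d21_7 (iv5 D115236) D115235 (iv5 F351446) (iv6 F351447) (iv1 F246106) F313698 D152748 F423435 F422290 (iv1 D201900)
def n202273 : Q := act 5 n115521
theorem D202273 : act 5 n115521 = n202273 := rfl
theorem F423438 : act 3 n202273 = n115522 := d6_1 D202273 (iv5 D115522) D115521
theorem F423439 : act 0 n202273 = n149119 := d17_2 F391304 D202273 (iv5 F346246) (iv4 D102238) (iv5 F137322) (iv0 F337136) (iv5 F385999) F385997 (iv4 F391302)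
theorem F423440 : act 4 n193558 = n202273 := d18_1 D193558 F423439 (iv4 D149119) (iv5 D69979) (iv4 F191109) (iv0 D58285) (iv4 F92145) F314166 D101919
def n202274 : Q := act 6 n115522
theorem D202274 : act 6 n115522 = n202274 := rfl
theorem F423441 : act 4 n202274 = n193023 := d10_1 D202274 F388538 F357611
def n202275 : Q := act 3 n115524
theorem D202275 : act 3 n115524 = n202275 := rfl
theorem F423442 : act 5 n202275 = n156062 := d6_2 (iv5 F179809) D202275 (iv3 D156062)
theorem F423443 : act 4 n136992 = n202275 := d19_2 D70003 (iv5 F365483) (iv3 D202275) (iv1 D115524) (iv5 D53288) F40818 (iv3 F37517) D49178 (iv5 F82456) (iv4 F163598) D127113 F381999 (iv5 F110952) (iv4 F175182) (iv3 F397772) F397776 F346729 F272774 (iv3 F309522)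
theorem F423444 : act 6 n202275 = n136991 := d10_2 D136992 F423443 (iv4 D136991)
def n202276 : Q := act 6 n115524
theorem D202276 : act 6 n115524 = n202276 := rfl
theorem F423445 : act 2 n202276 = n136982 := d3_1 D202276 F346061 F220797
theorem F423446 : act 3 n202276 = n136991 := d7_1 D202276 (iv6 F423444) (iv3 D202275)
theorem F423447 : act 4 n202276 = n135981 := d10_1 D202276 (iv6 F382885) F382884
theorem F423448 : act 5 n202276 = n202087 := d12_1 D202276 (iv6 D202087) (iv5 D115365) F166213 (iv5 F179809)
theorem E103849 : n202087 = n202086 := (c16_2 (iv4 F423447) F423448 (iv4 D202086) (iv5 D115365) (iv4 F111431) F111432 F111190 D135983 F218763 (iv2 F218757))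
theorem F423449 : act 5 n202086 = n202276 := (sb E103849 (iv5 F423448))
theorem F423450 : act 6 n202086 = n115365 := (sb E103849 (iv6 D202087))
theorem F423451 : act 7 n136991 = n202276 := d11_0 F423447 F218758 D136991
theorem F423452 : act 1 n136595 = n202276 := d18_6 F328849 (iv4 F184230) F328404 F92811 D64211 D136595 F423447 F219635 F219634
def n202277 : Q := act 6 n115526
theorem D202277 : act 6 n115526 = n202277 := rfl
def n202278 : Q := act 0 n115527
theorem D202278 : act 0 n115527 = n202278 := rfl
theorem F423453 : act 3 n202278 = n115644 := d20_5 F40818 D25834 D53292 D115527 D202278 F366576 F385990 F204377 (iv3 D115521) (iv1 D53287)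
theorem F423454 : act 2 n115648 = n202278 := d15_3 (iv0 D202278) F348351 D115648
theorem F423455 : act 1 n115646 = n202278 := d15_0 (iv0 D202278) F179812 (iv2 F348345)
theorem F423456 : act 7 n202278 = n115634 := d15_2 D115646 F423455 F179995
theorem F423457 : act 6 n115633 = n202278 := d14_5 F423456 (iv6 D115634) (iv7 D53332) D53331 D115633
def n202279 : Q := act 5 n115527
theorem D202279 : act 5 n115527 = n202279 := rfl
theorem F423458 : act 3 n202279 = n115528 := d6_1 D202279 (iv5 D115528) D115527
theorem F423459 : act 7 n202279 = n142325 := d13_2 (iv7 F179812) D202279 (iv5 D142325)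
theorem F423460 : act 0 n202279 = n136975 := d17_2 (iv1 F348351) D202279 F363881 D152752 (iv5 F280211) F330101 (iv5 F264606) (iv0 F319615) F180008
theorem F423461 : act 1 n202279 = n152758 := d17_6 (iv1 F108335) (iv5 F199923) (iv1 D58440) (iv5 F316289) (iv4 F179811) D202279 (iv5 D152758) F239490 F239489
theorem F423462 : act 6 n202279 = n115528 := d21_9 F388338 (iv1 F220783) D137638 F346024 D149145 (iv6 F366578) (iv5 D115647) (iv1 F348351) D202279 (iv1 F388341)
theorem F423463 : act 4 n138080 = n202279 := d10_3 F423462 F357614 F362120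
def n202280 : Q := act 6 n115527
theorem D202280 : act 6 n115527 = n202280 := rfl
theorem F423464 : act 3 n202280 = n115529 := d7_1 D202280 (iv6 D115529) D115527
theorem F423465 : act 4 n202280 = n116375 := d10_1 D202280 (iv6 D116375) (iv4 F179811)
theorem F423466 : act 5 n202280 = n115529 := d12_1 D202280 (iv6 D115529) D115528 (iv6 F423462) (iv5 D202279)
theorem F423467 : act 0 n202280 = n139632 := d21_10 (iv5 D139632) (iv1 F179469) (iv5 F339857) F316901 F314630 (iv6 F316203) D152758 (iv1 F423461) (iv5 D202279) D202280
theorem F423468 : act 1 n202280 = n141066 := d15_1 (iv0 F423467) (iv7 F406360) F406358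
def n202281 : Q := act 1 n115529
theorem D202281 : act 1 n115529 = n202281 := rfl
theorem F423469 : act 1 n202281 = n198415 := d15_1 D202281 (iv7 F414136) F414134
theorem F423470 : act 7 n202281 = n115716 := d15_2 F351408 D202281 (iv2 F245589)
theorem F423471 : act 5 n202281 = n141067 := d17_7 (iv1 F180846) (iv5 F318329) (iv1 F183098) F320588 (iv4 F423465) F423466 D202281 F339859 (iv4 F339854)
theorem F423472 : act 4 n202281 = n126333 := d17_9 (iv1 F409792) (iv5 D198898) (iv1 F175068) F101588 (iv4 F101266) D139632 (iv0 F423467) F423466 D202281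
theorem F423473 : act 2 n152837 = n202281 := d1_3 F423472 (iv2 F397838) F397840
def n202282 : Q := act 6 n115531
theorem D202282 : act 6 n115531 = n202282 := rfl
theorem F423474 : act 2 n202282 = n142329 := d3_1 D202282 (iv6 D142329) (iv2 F179816)
theorem F423475 : act 4 n202282 = n193638 := d10_1 D202282 (iv6 D193638) (iv4 F346047)
def n202283 : Q := act 1 n115539
theorem D202283 : act 1 n115539 = n202283 := rfl
theorem F423476 : act 1 n202283 = n115635 := d15_1 D202283 F360876 F360883
theorem F423477 : act 7 n202283 = n115637 := d15_2 (iv0 F181516) D202283 (iv2 D115637)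
theorem F423478 : act 5 n202283 = n115614 := d17_7 F320930 D116552 F220207 F102725 (iv4 F209567) F360884 D202283 F423334 F423331
theorem F423479 : act 4 n202283 = n195549 := d17_9 (iv1 F397315) D202200 (iv1 F423221) F396953 F404276 F404286 (iv0 F404292) F360884 D202283
theorem F423480 : act 3 n115617 = n202283 := d19_19 (iv1 D202283) (iv5 F360884) F209567 (iv3 D61474) (iv1 F311328) (iv5 D32234) F110641 F319505 F181667 F41109 (iv4 F41247) (iv3 D26074) D26072 D53919 F85038 (iv3 F182870) (iv1 F365085) (iv5 D128569) F179958
theorem F423481 : act 6 n115619 = n202283 := d21_9 (iv5 F360884) F404292 (iv5 F404286) (iv6 D156280) (iv1 F245151) (iv6 F404237) F404236 (iv1 D115616) D115619 (iv1 D202283)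
theorem F423482 : act 2 n202283 = n115612 := d0_1 F423480 (iv3 D115612) (iv2 D53327) D53328 D115617
def n202284 : Q := act 6 n115539
theorem D202284 : act 6 n115539 = n202284 := rfl
theorem F423483 : act 3 n202284 = n115542 := d7_1 D202284 (iv6 D115542) D115539
theorem F423484 : act 4 n202284 = n195479 := d10_1 D202284 (iv6 D195479) (iv4 F179841)
theorem F423485 : act 5 n202284 = n156167 := d12_1 D202284 (iv6 D156167) F111497 (iv6 F209568) F360884
theorem F423486 : act 7 n202284 = n130963 := d14_2 (iv7 F360882) D202284 (iv6 D130963) (iv7 F100340) D137052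
def n202285 : Q := act 3 n115540
theorem D202285 : act 3 n115540 = n202285 := rfl
theorem F423487 : act 2 n202285 = n199036 := d0_1 D202285 (iv3 D199036) F361311 D141124 F361318
theorem F423488 : act 4 n202285 = n195477 := d5_2 D115540 D202285 (iv3 D195477) (iv4 F179841) (iv3 D115539)
theorem F423489 : act 7 n202285 = n199043 := d8_2 F422367 D202285 (iv3 F422365)
theorem F423490 : act 0 n202285 = n199047 := d20_4 (iv4 D53304) D53301 D115540 D202285 F410466 F359135 (iv1 F398730) F398735 F181261 (iv1 D115552)
theorem F423491 : act 0 n199044 = n202285 := d18_2 D133991 F410457 F423488 (iv5 F397112) F225901 (iv0 F321986) (iv4 F242910) (iv0 F336185) (iv5 D133994)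
def n202286 : Q := act 5 n115540
theorem D202286 : act 5 n115540 = n202286 := rfl
theorem F423492 : act 4 n202286 = n135726 := d9_1 D202286 F218234 F99191 (iv5 F99212) (iv4 F330536) (iv5 D115546) D115545 F330532 (iv4 D130950) (iv5 D61436) F46723 D29083 D61442 F330524 D115540
theorem F423493 : act 7 n202286 = n135725 := d13_2 F422367 D202286 (iv5 F422368)
theorem F423494 : act 1 n202286 = n199790 := d17_6 (iv1 F330595) F176278 (iv1 F330579) F330524 D115540 D202286 F413515 (iv0 F423294) F412751
def n202287 : Q := act 6 n115540
theorem D202287 : act 6 n115540 = n202287 := rfl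
theorem F423495 : act 4 n202287 = n115542 := d10_1 D202287 (iv6 D115542) D115540
def n202288 : Q := act 0 n115542
theorem D202288 : act 0 n115542 = n202288 := rfl
theorem F423496 : act 1 n178667 = n202288 := d15_0 (iv0 D202288) (iv7 F363691) F366633
def n202289 : Q := act 1 n115542
theorem D202289 : act 1 n115542 = n202289 := rfl
theorem F423497 : act 1 n202289 = n178667 := d15_1 D202289 (iv7 F422380) F422377
def n202290 : Q := act 4 n115544
theorem D202290 : act 4 n115544 = n202290 := rfl
theorem F423498 : act 2 n202290 = n196303 := d1_1 D202290 F422431 (iv2 F422433)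
theorem F423499 : act 3 n202290 = n196344 := d5_1 D202290 F400409 F179843 (iv4 D115545) D115544
theorem F423500 : act 6 n202290 = n197663 := d10_2 (iv6 F339879) D202290 F405281
theorem F423501 : act 7 n202290 = n197604 := d11_2 F422373 D202290 (iv4 F422371)
theorem F423502 : act 5 n202290 = n197601 := d18_4 (iv1 F180857) D141851 F345485 D202290 F404977 F404709 F404706 F345322 (iv5 F345311)
theorem F423503 : act 0 n202290 = n134733 := d20_1 D202290 F401318 (iv3 F401317) F326818 F219198 (iv4 F331003) F345484 (iv4 F345479) F345478 F345485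
theorem F423504 : act 0 n116623 = n202290 := d20_10 (iv4 D202290) (iv1 F360819) (iv4 D141846) (iv3 F336123) F336122 (iv3 D66520) (iv4 F84645) F102849 D53739 D116623
def n202291 : Q := act 5 n115544
theorem D202291 : act 5 n115544 = n202291 := rfl
theorem F423505 : act 3 n202291 = n115546 := d6_1 D202291 (iv5 D115546) D115544
theorem F423506 : act 6 n202291 = n201902 := d12_2 (iv6 F339879) D202291 F422301 (iv6 F359212) F359214
theorem F423507 : act 7 n202291 = n135733 := d13_2 F422373 D202291 (iv5 F422372)
def n202292 : Q := act 5 n115548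
theorem D202292 : act 5 n115548 = n202292 := rfl
theorem F423508 : act 2 n202292 = n115553 := d2_1 D202292 (iv5 D115553) (iv2 F179844)
theorem F423509 : act 3 n202292 = n198253 := d6_1 D202292 F407358 F179847
theorem F423510 : act 4 n202292 = n135722 := d9_1 D202292 (iv5 D135722) (iv4 F99196) F95403 (iv4 F179509) F330513 F83992 D110867 (iv4 F349534) (iv5 D133457) F97704 F95162 F84155 (iv5 F330515) D115548
theorem F423511 : act 7 n202292 = n199023 := d13_2 (iv7 F179845) D202292 (iv5 D199023)
theorem F423512 : act 0 n202292 = n199025 := d17_2 (iv1 F179848) D202292 F410377 (iv4 F222566) (iv5 F330597) (iv0 D107181) D107183 F330548 F224446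
theorem F423513 : act 1 n202292 = n152774 := d17_6 (iv1 F330596) (iv5 D115491) F97707 (iv5 F330515) D115548 D202292 (iv5 F363775) (iv0 F180757) (iv4 F176277)
theorem F423514 : act 0 n201917 = n193119 := d21_4 F363775 (iv1 F423513) (iv5 D202292) (iv6 F422361) (iv6 D193119) (iv5 D101197) (iv1 F143950) F339894 (iv6 D139353) F180757
theorem F423515 : act 1 n134951 = n193119 := d15_0 (iv0 F423514) F422362 F360201
def n202293 : Q := act 5 n115551
theorem D202293 : act 5 n115551 = n202293 := rfl
theorem F423516 : act 2 n202293 = n199017 := d2_1 D202293 F410339 (iv2 F179854)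
theorem F423517 : act 3 n202293 = n116296 := d6_1 D202293 (iv5 D116296) (iv3 F179851)
theorem F423518 : act 7 n202293 = n141416 := d13_2 F179853 D202293 (iv5 D141416)
theorem F423519 : act 4 n202293 = n202239 := d16_2 F330540 D202293 (iv5 D202239) (iv4 F203479) (iv5 F403739) F403738 F179781 (iv7 F401338) F401336
theorem F423520 : act 0 n202293 = n199016 := d17_2 D115551 D202293 (iv5 D199016) (iv4 F222796) F330573 (iv0 D130957) F330524 (iv0 D53301) D53304
theorem F423521 : act 1 n202293 = n134012 := d17_6 F422693 F422692 F218248 (iv5 F179778) F330540 D202293 F215943 D139351 (iv4 F222566)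
def n202294 : Q := act 6 n115551
theorem D202294 : act 6 n115551 = n202294 := rfl
theorem F423522 : act 2 n202294 = n137218 := d3_1 D202294 (iv6 F361556) (iv2 F179854)
theorem F423523 : act 3 n202294 = n116297 := d7_1 D202294 (iv6 D116297) (iv3 F179851)
theorem F423524 : act 4 n202294 = n202224 := d10_1 D202294 (iv6 D202224) F330540
theorem F423525 : act 7 n202294 = n199349 := d14_2 F179853 D202294 (iv6 D199349) (iv7 F212024) F323218
theorem F423526 : act 0 n139303 = n202294 := d20_7 (iv4 D157101) (iv1 D74691) (iv4 F111530) F111529 D74340 D156290 F245585 F423524 F423308 (iv1 F351567)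
theorem F423527 : act 1 n139303 = n199293 := d15_1 (iv0 F423526) F411512 (iv2 F423522)
theorem F423528 : act 5 n137217 = n202294 := d2_0 F423522 (iv5 D137218) D137217
def n202295 : Q := act 5 n115552
theorem D202295 : act 5 n115552 = n202295 := rfl
theorem F423529 : act 2 n202295 = n141416 := d2_1 D202295 (iv5 D141416) F179858
theorem F423530 : act 3 n202295 = n193049 := d6_1 D202295 F388589 F181261
theorem F423531 : act 4 n202295 = n131869 := d9_1 D202295 (iv5 D131869) F96460 D61881 (iv4 F111079) (iv5 F179778) F330540 D202293 F423519 (iv5 D202239) (iv4 F203479) (iv5 F403739) F403738 F179781 F330545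
theorem F423532 : act 7 n202295 = n199017 := d13_2 (iv7 F179856) D202295 F410339
theorem F423533 : act 0 n202295 = n134012 := d17_2 (iv1 F179855) D202295 F215943 (iv4 F176277) F176278 (iv0 F330580) (iv5 D115546) F179519 F179515
theorem F423534 : act 1 n202295 = n199016 := d17_6 (iv1 F423001) F423002 F218243 F179781 F330545 D202295 (iv5 D199016) F180758 (iv4 F401395)
def n202296 : Q := act 6 n115553
theorem D202296 : act 6 n115553 = n202296 := rfl
theorem F423535 : act 3 n202296 = n133997 := d7_1 D202296 (iv6 D133997) (iv3 F179859)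
theorem F423536 : act 5 n202296 = n199690 := d12_1 D202296 F413136 F360208 (iv6 D115554) D115553
theorem F423537 : act 7 n199689 = n202296 := d13_0 F423536 (iv7 D199690) D199689
def n202297 : Q := act 0 n115554
theorem D202297 : act 0 n115554 = n202297 := rfl
theorem F423538 : act 4 n202297 = n202204 := d18_3 (iv1 D115560) (iv4 F179862) D202297 F423235 (iv4 D126732) F203718 F357037 (iv0 F357043) (iv5 F357047)
theorem F423539 : act 3 n202297 = n141446 := d20_5 F171610 (iv1 D110811) (iv4 F98206) (iv3 F179861) D202297 (iv4 D141446) (iv1 F102268) (iv4 F101830) F101829 (iv1 F101805)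
theorem F423540 : act 6 n202297 = n150779 := d21_5 D199014 F410331 (iv5 D115553) D115554 D202297 F349188 (iv1 D93336) D93338 F354435 (iv1 F222574)
theorem F423541 : act 1 n115593 = n202297 := d15_0 (iv0 D202297) F360206 (iv2 F360201)
theorem F423542 : act 2 n193119 = n202297 := d3_3 F423540 F349189 D193119
theorem F423543 : act 7 n141538 = n202297 := d15_2 (iv0 F423514) (iv0 F422363) (iv2 F423542)
def n202298 : Q := act 1 n115554
theorem D202298 : act 1 n115554 = n202298 := rfl
theorem F423544 : act 1 n202298 = n115593 := d15_1 D202298 (iv7 F422362) F422359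
theorem F423545 : act 7 n202298 = n193119 := d15_2 (iv0 D202297) D202298 F423542
theorem F423546 : act 2 n141538 = n202298 := d4_3 F423545 F423542 (iv7 F423543)
theorem F423547 : act 4 n202298 = n202217 := d1_2 F422753 F423546 F423278
theorem F423548 : act 5 n202298 = n137196 := d2_2 F395935 F423546 (iv2 F395933)
theorem F423549 : act 3 n137198 = n202298 := d6_3 F423548 (iv3 D137196) D137198
def n202299 : Q := act 3 n115559
theorem D202299 : act 3 n115559 = n202299 := rfl
def n202300 : Q := act 6 n115560
theorem D202300 : act 6 n115560 = n202300 := rfl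
def n202301 : Q := act 6 n115565
theorem D202301 : act 6 n115565 = n202301 := rfl
theorem F423550 : act 3 n202301 = n115566 := d7_1 D202301 (iv6 D115566) D115565
theorem F423551 : act 4 n202301 = n196289 := d10_1 D202301 F400235 (iv4 F364945)
def n202302 : Q := act 5 n115566
theorem D202302 : act 5 n115566 = n202302 := rfl
theorem F423552 : act 2 n202302 = n202001 := d2_1 D202302 (iv5 D202001) (iv2 F179880)
theorem F423553 : act 6 n202302 = n156105 := d12_2 D115566 D202302 (iv5 D156105) F111133 (iv5 F84156)
theorem F423554 : act 4 n202302 = n183855 := d16_2 (iv4 F347895) D202302 (iv5 F372954) (iv4 F374332) F374333 F357084 F357016 (iv7 F347888) (iv2 F347889)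
def n202303 : Q := act 4 n115577
theorem D202303 : act 4 n115577 = n202303 := rfl
theorem F423555 : act 3 n202303 = n191545 := d19_3 D53314 D115577 D202303 (iv1 F395961) (iv5 D195144) F161520 (iv3 D48704) (iv1 F45879) (iv5 D28380) (iv4 D13539) (iv3 F11246) D14604 (iv5 F38859) (iv4 F79685) F79686 F38805 F40836 (iv4 D25844) D25843
theorem F423556 : act 5 n191528 = n202303 := d6_0 F423555 (iv5 D191545) (iv3 F383666)
theorem F423557 : act 6 n191529 = n202303 := d7_0 F423555 F383756 (iv3 F383667)
def n202304 : Q := act 6 n115577
theorem D202304 : act 6 n115577 = n202304 := rfl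
theorem F423558 : act 2 n202304 = n156249 := d3_1 D202304 (iv6 F422353) F422349
theorem F423559 : act 4 n202304 = n191529 := d10_1 D202304 F423557 (iv4 D202303)
theorem F423560 : act 7 n202304 = n156236 := d14_2 F422336 D202304 (iv6 D156236) (iv7 F245481) (iv6 F422339)
theorem F423561 : act 0 n115703 = n202304 := d21_4 (iv5 F330524) D130957 (iv5 F330573) (iv6 F357052) (iv6 D202304) (iv5 D115577) (iv1 F179499) F330520 (iv6 D53306) D53301
theorem F423562 : act 1 n156248 = n202304 := d15_0 (iv0 F423561) (iv7 F388802) F388798
def n202305 : Q := act 0 n115580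
theorem D202305 : act 0 n115580 = n202305 := rfl
theorem F423563 : act 4 n202305 = n116962 := d20_0 (iv1 F182818) (iv4 F206780) F206779 F401320 (iv3 F401317) (iv4 F202678) (iv1 F350849) (iv4 D115581) D115580 D202305
theorem F423564 : act 2 n115621 = n202305 := d15_3 (iv0 D202305) F224450 D115621
theorem F423565 : act 1 n115616 = n202305 := d15_0 (iv0 D202305) (iv7 F422345) F422343
theorem F423566 : act 7 n202305 = n115617 := d15_2 D115616 F423565 (iv2 D115617)
theorem F423567 : act 3 n115637 = n202305 := d8_3 F423566 F423480 F423477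
def n202306 : Q := act 4 n115580
theorem D202306 : act 4 n115580 = n202306 := rfl
theorem F423568 : act 2 n202306 = n196771 := d1_1 D202306 F401743 F401411
theorem F423569 : act 3 n202306 = n126921 := d5_1 D202306 (iv4 D126921) F179888 (iv4 D115581) D115580
theorem F423570 : act 6 n202306 = n156298 := d10_2 (iv6 F351406) D202306 (iv4 D156298)
theorem F423571 : act 5 n202306 = n191169 := d16_1 D202306 (iv4 F410105) F392705 F361837 (iv5 F167243) (iv4 F404235) F404236 (iv7 F401412) F401411
theorem F423572 : act 1 n191169 = n189963 := d17_6 F422651 F422648 F404240 (iv5 F351405) D202306 F423571 (iv5 F392455) (iv0 F392459) (iv4 F415022)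
def n202307 : Q := act 5 n115581
theorem D202307 : act 5 n115581 = n202307 := rfl
theorem F423573 : act 2 n202307 = n132714 := d2_1 D202307 F351373 F351369
theorem F423574 : act 3 n202307 = n126922 := d6_1 D202307 (iv5 D126922) F179888
theorem F423575 : act 6 n202307 = n132698 := d12_2 F351382 D202307 F324967 F333779 D121095
theorem F423576 : act 7 n202307 = n132607 := d13_2 F351364 D202307 (iv5 F350852)
theorem F423577 : act 0 n202307 = n127007 := d21_1 D202307 (iv5 F223105) (iv6 F357074) (iv1 F350643) (iv6 D110426) F80328 (iv1 F45311) D59010 D125997 (iv1 F350849)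
def n202308 : Q := act 4 n115582
theorem D202308 : act 4 n115582 = n202308 := rfl
theorem F423578 : act 6 n202308 = n156246 := d10_2 (iv6 F339876) D202308 F245560
def n202309 : Q := act 1 n115583
theorem D202309 : act 1 n115583 = n202309 := rfl
def n202310 : Q := act 5 n115586
theorem D202310 : act 5 n115586 = n202310 := rfl
theorem F423579 : act 2 n202310 = n115597 := d2_1 D202310 (iv5 D115597) (iv2 F179895)
theorem F423580 : act 7 n202310 = n115604 := d13_2 (iv7 F360168) D202310 (iv5 D115604)
theorem F423581 : act 4 n202310 = n193801 := d16_4 F236232 F187779 F360178 D202310 F391045 (iv4 F184102) D127647 F233874 (iv2 F236231)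
def n202311 : Q := act 5 n115587
theorem D202311 : act 5 n115587 = n202311 := rfl
theorem F423582 : act 2 n202311 = n126738 := d2_1 D202311 F347037 (iv2 F218814)
theorem F423583 : act 3 n202311 = n137357 := d6_1 D202311 (iv5 D137357) (iv3 F179896)
theorem F423584 : act 7 n202311 = n126737 := d13_2 (iv7 F218815) D202311 F233516
theorem F423585 : act 0 n202311 = n126735 := d17_2 D115587 D202311 (iv5 D126735) (iv4 F203869) (iv5 F422492) F422494 (iv5 D115577) (iv0 D53314) D53317
theorem F423586 : act 4 n202311 = n159576 := d19_2 D115587 D202311 (iv3 D159576) (iv1 F176961) F176958 F163127 F77429 (iv1 F37355) (iv5 D13543) (iv4 D6445) F4463 (iv1 F4430) F8033 (iv4 F8388) (iv3 F19108) F22606 F22605 D28216 (iv3 F84161)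
theorem F423587 : act 5 n132405 = n201036 := d17_1 (iv1 F350880) (iv1 D201036) (iv5 F251339) (iv4 F423586) (iv5 D202311) (iv0 D115587) D115589 F220099 (iv4 F347269)
theorem F423588 : act 0 n126632 = n202311 := d21_7 D197116 F403121 (iv5 D197093) D197094 F403020 (iv6 D126633) D126632 (iv5 D202311) F351556 (iv1 F245459)
theorem F423589 : act 2 n201036 = n132411 := d2_1 F423587 (iv5 D132411) (iv2 F212467)
theorem F423590 : act 6 n159576 = n132550 := d21_3 F423587 (iv1 D201036) (iv5 F251339) (iv1 D132550) (iv6 D62187) D62186 (iv1 F208676) (iv5 D129462) D129463 (iv1 F350880)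
theorem F423591 : act 3 n132550 = n159577 := d7_1 F423590 (iv6 D159577) D159576
def n202312 : Q := act 3 n115588
theorem D202312 : act 3 n115588 = n202312 := rfl
theorem F423592 : act 2 n202312 = n137346 := d0_1 D202312 (iv3 D137346) F218827 (iv3 D126827) (iv2 F218817)
theorem F423593 : act 4 n202312 = n202199 := d5_2 F179899 D202312 (iv3 D202199) (iv4 D115451) D115450
theorem F423594 : act 7 n202312 = n126832 := d8_2 (iv7 F218818) D202312 (iv3 D126832)
theorem F423595 : act 5 n126747 = n202312 := d13_3 F423594 F364307 F362710
def n202313 : Q := act 5 n115588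
theorem D202313 : act 5 n115588 = n202313 := rfl
theorem F423596 : act 2 n202313 = n126737 := d2_1 D202313 F233516 (iv2 F218817)
theorem F423597 : act 3 n202313 = n126747 := d6_1 D202313 F423595 (iv3 D202312)
theorem F423598 : act 7 n202313 = n126738 := d13_2 (iv7 F218818) D202313 F347037
theorem F423599 : act 0 n202313 = n126632 := d17_2 (iv1 F179898) D202313 (iv5 D126632) (iv4 F168785) F168786 (iv0 F357073) (iv5 D115582) F179501 F179497
theorem F423600 : act 6 n202313 = n121196 := d21_9 (iv5 D166744) (iv1 F122851) D80061 (iv6 F351662) (iv1 F402891) F402890 (iv5 D126836) (iv1 F179898) D202313 (iv1 F262475)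
theorem F423601 : act 0 n126735 = n202313 := d19_0 (iv5 D202313) (iv4 F179899) (iv3 D115450) (iv1 F179474) (iv5 F336244) F239938 F231203 (iv1 F231207) F310611 F58162 (iv3 F70348) D95855 F354591 (iv4 D113450) (iv3 F161175) (iv1 F161180) D113423 D200755 (iv3 F417796)
def n202314 : Q := act 6 n115588
theorem D202314 : act 6 n115588 = n202314 := rfl
theorem F423602 : act 2 n202314 = n126830 := d3_1 D202314 (iv6 D126830) (iv2 F218817)
theorem F423603 : act 4 n202314 = n202198 := d10_1 D202314 (iv6 D202198) F179899
theorem F423604 : act 5 n202314 = n121197 := d12_1 D202314 (iv6 D121197) D121196 (iv6 F423600) (iv5 D202313)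
theorem F423605 : act 0 n202314 = n127070 := d20_7 F53512 D34103 D74344 D156300 (iv1 F422310) (iv3 F423212) (iv4 F423603) (iv4 F245590) (iv3 D156293) (iv1 D74341)
def n202315 : Q := act 4 n115589
theorem D202315 : act 4 n115589 = n202315 := rfl
theorem F423606 : act 3 n202315 = n136103 := d5_1 D202315 (iv4 D136103) F99586 (iv4 F93789) (iv3 F179901)
theorem F423607 : act 6 n202315 = n126600 := d10_2 F336277 D202315 (iv4 F214705)
theorem F423608 : act 7 n202315 = n126840 := d11_2 (iv7 F179902) D202315 (iv4 D126840)
theorem F423609 : act 0 n202315 = n132480 := d18_2 (iv1 F220099) D202315 (iv4 D132480) D132481 F357044 (iv0 D126684) F93824 D59463 D126733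
theorem F423610 : act 1 n202315 = n132319 := d18_6 (iv1 F350849) (iv4 D115581) (iv1 D53315) D53317 D115589 D202315 F212227 D132321 F359744
def n202316 : Q := act 6 n115593
theorem D202316 : act 6 n115593 = n202316 := rfl
theorem F423611 : act 2 n202316 = n199030 := d3_1 D202316 F410386 (iv2 F360201)
theorem F423612 : act 3 n202316 = n189183 := d7_1 D202316 (iv6 D189183) (iv3 F354215)
theorem F423613 : act 4 n202316 = n115594 := d10_1 D202316 (iv6 D115594) D115593
theorem F423614 : act 7 n202316 = n199024 := d14_2 F422362 D202316 (iv6 D199024) (iv7 F179845) (iv6 F422361)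
theorem F423615 : act 1 n199028 = n202316 := d15_1 D199028 F423614 F410373
theorem F423616 : act 1 n202316 = n199027 := d15_0 (iv0 D199027) D199030 (iv2 F423611)
def n202317 : Q := act 5 n115594
theorem D202317 : act 5 n115594 = n202317 := rfl
theorem F423617 : act 3 n202317 = n115604 := d6_1 D202317 (iv5 D115604) (iv3 F179905)
theorem F423618 : act 6 n202317 = n115597 := d12_2 D115594 D202317 (iv5 D115597) (iv6 D53319) D53318
theorem F423619 : act 4 n193802 = n202317 := d10_3 F423618 F352986 D193802
def n202318 : Q := act 3 n115595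
theorem D202318 : act 3 n115595 = n202318 := rfl
def n202319 : Q := act 5 n115595
theorem D202319 : act 5 n115595 = n202319 := rfl
def n202320 : Q := act 6 n115595
theorem D202320 : act 6 n115595 = n202320 := rfl
theorem F423620 : act 4 n202320 = n161685 := d10_1 D202320 F255694 (iv4 F336275)
def n202321 : Q := act 5 n115596
theorem D202321 : act 5 n115596 = n202321 := rfl
theorem F423621 : act 6 n202321 = n137003 := d21_9 D137005 (iv1 F245415) F223387 F362128 (iv1 D115607) (iv6 F179932) (iv5 D115604) (iv1 F360179) D202321 (iv1 D137003)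
def n202322 : Q := act 6 n115596
theorem D202322 : act 6 n115596 = n202322 := rfl
theorem F423622 : act 4 n202322 = n155881 := d10_1 D202322 (iv6 F416619) F416625
def n202323 : Q := act 0 n115597
theorem D202323 : act 0 n115597 = n202323 := rfl
theorem F423623 : act 1 n115604 = n202323 := d15_0 (iv0 D202323) (iv7 F422405) F422402
def n202324 : Q := act 1 n115597
theorem D202324 : act 1 n115597 = n202324 := rfl
theorem F423624 : act 1 n202324 = n115604 := d15_1 D202324 (iv7 F423580) F423579
def n202325 : Q := act 6 n115610
theorem D202325 : act 6 n115610 = n202325 := rfl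
theorem F423625 : act 2 n202325 = n115667 := d3_1 D202325 (iv6 D115667) (iv2 F179936)
theorem F423626 : act 3 n202325 = n196397 := d7_1 D202325 (iv6 F416792) F416789
theorem F423627 : act 4 n202325 = n200309 := d10_1 D202325 (iv6 F415937) F349837
theorem F423628 : act 0 n202325 = n156262 := d21_10 (iv5 F403857) (iv1 F403860) F347949 (iv6 F422344) F422346 F336229 (iv5 D53330) D53326 D115610 D202325
theorem F423629 : act 5 n155998 = n202325 := d21_2 (iv5 D156001) D155998 (iv6 D202325) (iv1 F179938) D115657 F339865 (iv1 D53357) D53358 (iv6 F180044) F351399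
theorem F423630 : act 7 n202325 = n156186 := d13_2 (iv7 F359958) F423629 (iv5 D156186)
theorem F423631 : act 1 n202325 = n156028 := d17_6 (iv1 D178915) D178917 F351336 F279189 (iv4 F359957) F423629 F245130 (iv0 F347950) (iv4 F351341)
theorem F423632 : act 1 n193696 = n200309 := d18_6 (iv1 F347951) F176356 D113193 D200511 (iv5 F416801) F390711 (iv4 F423627) F423631 F245130
def n202326 : Q := act 5 n115611
theorem D202326 : act 5 n115611 = n202326 := rfl
theorem F423633 : act 2 n202326 = n115670 := d2_1 D202326 (iv5 D115670) (iv2 F179942)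
theorem F423634 : act 4 n202326 = n121090 := d9_1 D202326 (iv5 D121090) D121089 F359991 (iv4 D155232) (iv5 F312563) (iv4 F111530) (iv5 F339873) (iv4 F351381) (iv5 D121095) D121094 (iv5 F354799) (iv4 D155227) (iv5 F317232) (iv4 F179943)
theorem F423635 : act 6 n202326 = n155998 := d12_2 D115611 D202326 F423629 (iv6 D202325) (iv5 D115610)
theorem F423636 : act 7 n202326 = n201913 := d13_2 F245487 D202326 F422341
theorem F423637 : act 1 n202326 = n156293 := d17_8 F354505 (iv5 D177609) (iv1 F354860) (iv5 F416594) F416593 F351509 F245565 D202326 F245590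
theorem F423638 : act 3 n121090 = n174592 := d20_9 (iv4 D196843) (iv1 D107386) (iv4 F165433) F165432 F168126 D127070 (iv4 F245590) (iv1 F423637) F423634 (iv1 F402023)
theorem F423639 : act 5 n174592 = n121088 := d6_2 D121090 F423638 (iv3 D121088)
theorem F423640 : act 6 n174592 = n179257 := d7_2 (iv6 F351390) F423638 F279180
theorem F423641 : act 1 n202309 = n202326 := d15_1 D202309 F423636 F422340
theorem F423642 : act 2 n115714 = n202309 := d15_3 F423641 F423637 F245591
def n202327 : Q := act 6 n115612
theorem D202327 : act 6 n115612 = n202327 := rfl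
theorem F423643 : act 2 n202327 = n115619 := d3_1 D202327 F423481 F423482
theorem F423644 : act 3 n202327 = n115614 := d7_1 D202327 (iv6 D115614) D115612
theorem F423645 : act 4 n202327 = n195551 := d10_1 D202327 (iv6 D195551) (iv4 F179944)
theorem F423646 : act 5 n202327 = n115617 := d12_1 D202327 F336229 (iv5 D53330) D53331 (iv5 F336232)
def n202328 : Q := act 0 n115619
theorem D202328 : act 0 n115619 = n202328 := rfl
def n202329 : Q := act 1 n115619
theorem D202329 : act 1 n115619 = n202329 := rfl
theorem F423647 : act 5 n202329 = n196563 := d18_9 F401091 F222799 (iv1 D67510) (iv4 F103394) (iv5 F365076) D202206 F423242 (iv4 F219380) D202329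
theorem F423648 : act 3 n196564 = n202329 := d20_3 D115506 (iv1 F423027) (iv4 F423028) (iv1 D202329) F179952 F174123 (iv1 F414166) (iv4 F423285) F423284 (iv1 D115505)
def n202330 : Q := act 7 n115619
theorem D202330 : act 7 n115619 = n202330 := rfl
theorem F423649 : act 3 n202330 = n115629 := d8_1 D202330 (iv7 D115629) (iv3 F179952)
theorem F423650 : act 4 n202330 = n198384 := d11_1 D202330 F407835 (iv4 F219380)
theorem F423651 : act 5 n202330 = n115621 := d13_1 D202330 (iv7 D115621) D115619
def n202331 : Q := act 6 n115621
theorem D202331 : act 6 n115621 = n202331 := rfl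
theorem F423652 : act 3 n202331 = n115634 := d7_1 D202331 (iv6 D115634) (iv3 F179954)
theorem F423653 : act 4 n202331 = n128572 := d10_1 D202331 (iv6 D128572) (iv4 F179955)
theorem F423654 : act 7 n202331 = n115644 := d14_2 D115621 D202331 (iv6 D115644) (iv7 F179947) F336231
theorem F423655 : act 5 n193566 = n202331 := d21_8 F422348 (iv1 F404233) (iv5 F404253) F393254 (iv1 D194448) (iv6 F393213) F393215 F390301 (iv6 D202331) F422347
def n202332 : Q := act 6 n115623
theorem D202332 : act 6 n115623 = n202332 := rfl
theorem F423656 : act 2 n202332 = n141341 := d3_1 D202332 (iv6 D141341) (iv2 F179970)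
theorem F423657 : act 3 n202332 = n115625 := d7_1 D202332 (iv6 D115625) D115623
theorem F423658 : act 4 n202332 = n142361 := d10_1 D202332 (iv6 D142361) (iv4 F179972)
theorem F423659 : act 5 n202332 = n134395 := d12_1 D202332 (iv6 D134395) D134394 F346392 F223813
theorem F423660 : act 0 n202332 = n116170 := d21_4 (iv5 F225094) (iv1 F225097) F223813 D202332 F319284 (iv5 F182657) F182656 F104064 F322608 F180643
def n202333 : Q := act 6 n115624
theorem D202333 : act 6 n115624 = n202333 := rfl
theorem F423661 : act 2 n202333 = n195545 := d3_1 D202333 (iv6 D195545) (iv2 F179976)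
theorem F423662 : act 3 n202333 = n134394 := d7_1 D202333 F346392 (iv3 F223814)
theorem F423663 : act 0 n202333 = n142079 := d21_4 F105779 F102252 D115624 D202333 (iv6 D142079) F180308 (iv1 F180263) (iv5 F162358) F321627 F180185
theorem F423664 : act 0 n141496 = n202333 := d21_4 F340797 F340792 (iv5 F337163) (iv6 F360157) (iv6 D202333) (iv5 D115624) D115622 (iv5 F205292) (iv6 F354092) F346188
theorem F423665 : act 5 n134393 = n202333 := d21_8 (iv5 D139971) F104309 (iv5 F162354) (iv6 F319635) D70048 D149241 F234629 (iv1 F331623) (iv6 D202333) (iv1 F223196)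
theorem F423666 : act 7 n202333 = n199380 := d13_2 F216384 F423665 (iv5 D199380)
def n202334 : Q := act 5 n115625
theorem D202334 : act 5 n115625 = n202334 := rfl
theorem F423667 : act 2 n202334 = n195547 := d2_1 D202334 (iv5 D195547) (iv2 F179977)
theorem F423668 : act 3 n202334 = n134395 := d6_1 D202334 (iv5 F423659) F423657
theorem F423669 : act 6 n202334 = n134393 := d12_2 D115625 D202334 F423665 (iv6 D202333) (iv5 D115624)
theorem F423670 : act 4 n202334 = n134425 := d19_2 (iv1 F336235) D202334 F216400 (iv1 F342818) D134190 (iv4 F422425) F422424 F331831 (iv5 F400898) F400897 F218678 F169573 (iv5 F169671) D137976 (iv3 F229690) F229692 F330621 (iv4 D66390) D66389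
theorem F423671 : act 0 n117412 = n202334 := d19_0 (iv5 D202334) F179978 (iv3 F336230) (iv1 F181963) (iv5 D115314) F84041 (iv3 D25872) F20357 (iv5 F20465) F20466 (iv3 F20568) D26104 F50426 (iv4 F24765) (iv3 F41541) (iv1 D26180) D26182 D54109 D117412
def n202335 : Q := act 7 n115625
theorem D202335 : act 7 n115625 = n202335 := rfl
theorem F423672 : act 2 n202335 = n141533 := d4_1 D202335 F336236 (iv2 F179977)
theorem F423673 : act 4 n202335 = n115633 := d11_1 D202335 (iv7 D115633) (iv4 F179978)
theorem F423674 : act 1 n141534 = n202335 := d15_1 (iv0 F397307) (iv7 D202335) F179977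
theorem F423675 : act 1 n202335 = n141445 := d15_1 F423674 F320810 D141534
def n202336 : Q := act 6 n115627
theorem D202336 : act 6 n115627 = n202336 := rfl
theorem F423676 : act 2 n202336 = n201996 := d3_1 D202336 (iv6 D201996) F179990
theorem F423677 : act 4 n202336 = n188401 := d10_1 D202336 F391500 F391499
theorem F423678 : act 0 n202336 = n200331 := d21_4 F180017 (iv1 F179603) (iv5 F179989) D202336 (iv6 D200331) F245083 (iv1 F245084) (iv5 F351402) (iv6 D115667) (iv1 F180015)
theorem F423679 : act 7 n202336 = n194561 := d15_2 F416017 (iv0 F423678) F393694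
def n202337 : Q := act 6 n115629
theorem D202337 : act 6 n115629 = n202337 := rfl
theorem F423680 : act 2 n202337 = n115644 := d3_1 D202337 (iv6 D115644) (iv2 F179991)
theorem F423681 : act 4 n202337 = n198468 := d10_1 D202337 (iv6 D198468) (iv4 F179992)
def n202338 : Q := act 5 n115630
theorem D202338 : act 5 n115630 = n202338 := rfl
theorem F423682 : act 2 n202338 = n141722 := d2_1 D202338 (iv5 D141722) (iv2 F336237)
theorem F423683 : act 7 n202338 = n201965 := d13_2 F423332 D202338 F423335
theorem F423684 : act 4 n202338 = n144416 := d17_4 F339868 F336232 D115630 D202338 (iv5 F414625) (iv0 D200013) F174596 D115432 F360862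
theorem F423685 : act 1 n202338 = n156280 := d17_6 (iv1 F313718) F200708 (iv1 D117690) F320932 (iv4 F336238) D202338 F404286 (iv0 F404292) F209567
theorem F423686 : act 6 n202338 = n156265 := d21_3 F336232 D115630 D202338 (iv1 D156265) (iv6 D74333) F78963 F78961 D64423 D137052 F339868
theorem F423687 : act 4 n156265 = n197415 := d10_1 F423686 (iv6 F414626) (iv4 F423684)
theorem F423688 : act 0 n197271 = n197304 := d20_4 (iv4 F423687) (iv1 D156265) (iv4 F167083) (iv3 F403801) (iv3 D197304) F167110 (iv1 F164864) F110995 D144439 (iv1 F404189)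
def n202339 : Q := act 4 n115637
theorem D202339 : act 4 n115637 = n202339 := rfl
theorem F423689 : act 2 n202339 = n115638 := d1_1 D202339 (iv4 D115638) D115637
theorem F423690 : act 3 n202339 = n136312 := d5_1 D202339 (iv4 F414208) F414207 (iv4 F423563) (iv3 F423567)
theorem F423691 : act 7 n202339 = n195549 := d11_2 F423477 D202339 (iv4 F423479)
theorem F423692 : act 1 n202339 = n195416 := d18_6 (iv1 F360642) D202044 (iv1 F422793) (iv4 F423326) F423327 D202339 F396942 F179475 D115459
theorem F423693 : act 0 n202339 = n195548 := d20_7 (iv4 F202678) (iv1 F350849) (iv4 D115581) D115580 D202305 (iv3 F423567) D202339 F397309 (iv3 F204078) (iv1 F326819)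
def n202340 : Q := act 6 n115637
theorem D202340 : act 6 n115637 = n202340 := rfl
theorem F423694 : act 2 n202340 = n115640 := d3_1 D202340 (iv6 D115640) D115637
def n202341 : Q := act 5 n115638
theorem D202341 : act 5 n115638 = n202341 := rfl
theorem F423695 : act 3 n202341 = n141333 := d6_1 D202341 (iv5 D141333) (iv3 F179997)
theorem F423696 : act 7 n202341 = n195550 := d13_2 (iv7 F179998) D202341 (iv5 D195550)
def n202342 : Q := act 6 n115638
theorem D202342 : act 6 n115638 = n202342 := rfl
theorem F423697 : act 3 n202342 = n118223 := d7_1 D202342 F319621 (iv3 F179997)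
theorem F423698 : act 4 n202342 = n115640 := d10_1 D202342 (iv6 D115640) D115638
def n202343 : Q := act 0 n115640
theorem D202343 : act 0 n115640 = n202343 := rfl
def n202344 : Q := act 1 n115640
theorem D202344 : act 1 n115640 = n202344 := rfl
def n202345 : Q := act 5 n115640
theorem D202345 : act 5 n115640 = n202345 := rfl
theorem F423699 : act 3 n202345 = n115647 := d6_1 D202345 (iv5 D115647) (iv3 F180003)
def n202346 : Q := act 7 n115640
theorem D202346 : act 7 n115640 = n202346 := rfl
theorem F423700 : act 3 n202346 = n115648 := d8_1 D202346 (iv7 D115648) (iv3 F180003)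
def n202347 : Q := act 1 n115642
theorem D202347 : act 1 n115642 = n202347 := rfl
theorem F423701 : act 3 n150534 = n202347 := d20_9 F180008 (iv1 F348351) F179811 (iv3 D53636) F53802 (iv3 F49523) (iv4 F102895) (iv1 F225668) (iv4 F353398) (iv1 D202347)
theorem F423702 : act 2 n202347 = n116334 := d0_1 F423701 (iv3 D116334) (iv2 F319696) (iv3 F321315) F321314
theorem F423703 : act 4 n202347 = n152716 := d5_2 (iv4 F353398) F423701 F423387 (iv4 F401874) (iv3 F401872)
theorem F423704 : act 6 n202347 = n177141 := d7_2 (iv6 F330087) F423701 F276558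
def n202348 : Q := act 5 n115646
theorem D202348 : act 5 n115646 = n202348 := rfl
theorem F423705 : act 2 n202348 = n142325 := d2_1 D202348 (iv5 D142325) (iv2 F348345)
theorem F423706 : act 1 n202348 = n136975 := d17_6 D33280 (iv5 F199918) (iv1 F322170) (iv5 D116657) (iv4 F348346) D202348 F363881 (iv0 D72083) (iv4 D33282)
theorem F423707 : act 4 n202348 = n138079 := d18_5 (iv1 F366203) (iv4 D152320) F320926 (iv4 F348346) D202348 (iv0 D138079) D138081 F423436 F423435
theorem F423708 : act 0 n202348 = n152758 := d21_1 D202348 (iv5 D152758) F316203 F167082 (iv6 F209568) F360884 F181516 (iv5 F336234) F423457 (iv1 F423455)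
theorem E103850 : n156223 = n152788 := (c21_5 (iv5 F111497) (iv1 F167146) (iv5 D74314) D74315 D156223 F348347 D202348 F423708 (iv5 D152758) F316203 F167082)
theorem F423709 : act 1 n152788 = n74315 := (sb E103850 (iv0 D156223))
theorem E103851 : n156224 = n151303 := (c15_2 F423709 D156224 F320479 F348376)
theorem F423710 : act 0 n151303 = n74315 := (sb E103851 (iv1 D156224))
theorem F423711 : act 0 n200320 = n200225 := d20_7 F245069 (iv1 F111011) D74270 (iv3 F320478) F423710 (iv3 F245496) (iv4 F415984) F415603 (iv3 D156120) (iv1 F245072)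
def n202349 : Q := act 4 n115647
theorem D202349 : act 4 n115647 = n202349 := rfl
theorem F423712 : act 2 n202349 = n193568 := d1_1 D202349 (iv4 F390308) (iv2 F348365)
theorem F423713 : act 6 n202349 = n175524 := d10_2 (iv6 F366578) D202349 (iv4 F338054)
theorem F423714 : act 5 n202349 = n190564 := d16_5 F108311 (iv5 F319618) F180008 D115647 D202349 (iv4 F421418) (iv5 D152306) F187642 (iv2 F187620)
theorem F423715 : act 3 n175527 = n202349 := d6_3 F423714 (iv3 D190564) (iv5 F274868)
def n202350 : Q := act 6 n115649
theorem D202350 : act 6 n115649 = n202350 := rfl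
theorem F423716 : act 2 n202350 = n115654 := d3_1 D202350 (iv6 D115654) F180013
theorem F423717 : act 5 n202350 = n152844 := d12_1 D202350 (iv6 D152844) (iv5 D72120) F322286 (iv5 F180012)
def n202351 : Q := act 1 n115651
theorem D202351 : act 1 n115651 = n202351 := rfl
theorem F423718 : act 1 n202351 = n115663 := d15_1 D202351 (iv7 D115663) (iv2 F180020)
theorem F423719 : act 7 n202351 = n115658 := d15_2 F414257 D202351 (iv2 F414252)
theorem F423720 : act 5 n202351 = n148243 := d17_7 (iv1 D112554) (iv5 F81995) (iv1 D32183) D32185 D69206 (iv5 F180021) D202351 (iv0 F414046) F414042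
theorem F423721 : act 4 n202351 = n139669 := d17_9 (iv1 F224454) (iv5 D141410) (iv1 F181465) D116544 (iv4 F391504) F391505 (iv0 F170224) (iv5 F180021) D202351
theorem F423722 : act 2 n115659 = n202351 := d16_9 F423721 (iv5 D139669) (iv4 D65554) F105785 D32265 D69480 (iv4 F174156) D199943 F414254
theorem F423723 : act 3 n199709 = n202351 := d20_5 (iv4 D130540) (iv1 D61247) (iv4 F95710) (iv3 F209107) (iv1 F413206) F423721 (iv1 F224454) (iv4 F408074) (iv3 F408075) (iv1 F211368)
def n202352 : Q := act 3 n115651
theorem D202352 : act 3 n115651 = n202352 := rfl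
theorem F423724 : act 2 n202352 = n194590 := d0_1 D202352 F393771 F392989 (iv3 D115660) (iv2 F180020)
theorem F423725 : act 5 n202352 = n147671 := d6_2 (iv5 F180021) D202352 (iv3 D147671)
theorem F423726 : act 7 n202352 = n200310 := d8_2 (iv7 F349839) D202352 F415940
theorem F423727 : act 0 n202352 = n190631 := d20_4 F180019 (iv1 D115650) D115651 D202352 F380383 F209113 (iv1 D61897) D61898 D131913 F359067
theorem F423728 : act 1 n202352 = n194601 := d15_1 (iv0 F423727) (iv7 F393790) (iv2 F380382)
theorem F423729 : act 6 n194467 = n202352 := d14_5 F423726 (iv6 D200310) F358270 (iv6 F358272) (iv7 F393334)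
def n202353 : Q := act 6 n115651
theorem D202353 : act 6 n115651 = n202353 := rfl
theorem F423730 : act 2 n202353 = n115662 := d3_1 D202353 (iv6 D115662) (iv2 F180020)
theorem F423731 : act 3 n202353 = n194467 := d7_1 D202353 F423729 (iv3 D202352)
theorem F423732 : act 4 n202353 = n115652 := d10_1 D202353 (iv6 D115652) D115651
theorem F423733 : act 7 n202353 = n194587 := d14_2 (iv7 F349839) D202353 (iv6 F415910) (iv7 F415935) (iv6 F415937)
theorem F423734 : act 0 n202353 = n194446 := d21_4 F391496 (iv1 D147670) (iv5 F180021) D202353 (iv6 D194446) (iv5 F367108) F367107 D184379 F422662 F422660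
theorem F423735 : act 0 n192898 = n193197 := d19_16 F423734 (iv5 F394598) F394597 F319512 (iv1 F319510) (iv5 F331728) (iv4 F151518) (iv3 D98200) (iv1 D45892) D45893 (iv4 F308261) F35142 D22614 D47039 D100930 D192898 F415102 F415092 (iv3 F423731)
theorem F423736 : act 1 n202353 = n158861 := d15_1 (iv0 F423734) F392451 (iv2 F393245)
def n202354 : Q := act 1 n115652
theorem D202354 : act 1 n115652 = n202354 := rfl
theorem F423737 : act 1 n202354 = n115666 := d15_1 D202354 (iv7 D115666) (iv2 F180022)
theorem F423738 : act 7 n202354 = n115664 := d15_2 (iv0 F415098) D202354 (iv2 F404229)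
theorem F423739 : act 4 n198656 = n202354 := d20_0 (iv1 D202354) (iv4 F423732) F423731 (iv1 D194467) (iv3 F359498) F165838 (iv1 F78427) D53938 D117033 F408734
theorem F423740 : act 2 n202354 = n115665 := d1_1 F423739 F404227 (iv2 F408737)
theorem F423741 : act 3 n202354 = n156031 := d20_9 (iv4 F245580) (iv1 F404306) (iv4 F415925) (iv3 F415924) (iv1 F179464) D115419 (iv4 F182967) F408734 F423739 (iv1 F245149)
def n202355 : Q := act 7 n115652
theorem D202355 : act 7 n115652 = n202355 := rfl
theorem F423742 : act 2 n202355 = n115666 := d4_1 D202355 (iv7 D115666) (iv2 F180022)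
theorem F423743 : act 4 n202355 = n194587 := d11_1 D202355 (iv7 F423733) F423732
theorem F423744 : act 5 n202355 = n202304 := d13_1 D202355 F423560 F245548
theorem F423745 : act 6 n202355 = n156186 := d14_1 D202355 (iv7 F423630) (iv6 D202325) F179937 D115652
theorem F423746 : act 1 n115665 = n202355 := d15_1 D115665 (iv7 D202355) F180022
theorem F423747 : act 1 n202355 = n115664 := d15_1 F423746 (iv7 F423738) F423740
def n202356 : Q := act 6 n115653
theorem D202356 : act 6 n115653 = n202356 := rfl
theorem F423748 : act 3 n202356 = n115654 := d7_1 D202356 (iv6 D115654) D115653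
def n202357 : Q := act 0 n115654
theorem D202357 : act 0 n115654 = n202357 := rfl
theorem F423749 : act 6 n202357 = n196563 := d21_5 (iv5 D115314) D115311 (iv5 F179940) D115654 D202357 (iv5 F423647) (iv1 D202329) (iv5 D115619) (iv6 F336231) (iv1 F181963)
theorem F423750 : act 3 n196565 = n202357 := d7_3 F423749 (iv3 D196563) D196565
def n202358 : Q := act 1 n115654
theorem D202358 : act 1 n115654 = n202358 := rfl
def n202359 : Q := act 5 n115654
theorem D202359 : act 5 n115654 = n202359 := rfl
theorem F423751 : act 2 n202359 = n152844 := d2_1 D202359 (iv5 F423717) F423716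
theorem F423752 : act 6 n202359 = n152342 := d12_2 D115654 D202359 (iv5 D152342) (iv6 F322284) (iv5 F179940)
def n202360 : Q := act 7 n115654
theorem D202360 : act 7 n115654 = n202360 := rfl
theorem F423753 : act 6 n202360 = n115712 := d14_1 D202360 (iv7 F245588) (iv6 F351403) F180016 D115654
def n202361 : Q := act 4 n115655
theorem D202361 : act 4 n115655 = n202361 := rfl
theorem F423754 : act 5 n202361 = n195585 := d17_5 (iv1 D202230) D202232 F423340 F404286 D202361 (iv0 D195585) F321267 D141533 (iv4 F423326)
theorem F423755 : act 0 n202361 = n202053 := d18_2 F404292 D202361 (iv4 D202053) F360856 D115456 (iv0 F180000) (iv4 D115638) (iv0 F181516) (iv5 F360884)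
theorem F423756 : act 1 n202361 = n156515 := d18_6 D53210 D115338 F396954 F404276 F404286 D202361 (iv4 F336249) (iv0 D115348) (iv5 D53213)
def n202362 : Q := act 6 n115656
theorem D202362 : act 6 n115656 = n202362 := rfl
theorem F423757 : act 2 n202362 = n198651 := d3_1 D202362 (iv6 D198651) (iv2 F180023)
theorem F423758 : act 4 n202362 = n115657 := d10_1 D202362 (iv6 D115657) D115656
theorem F423759 : act 5 n200339 = n202362 := d21_8 F408073 (iv1 D112235) (iv5 F174121) F336227 (iv1 F182824) (iv6 F416059) (iv5 D200341) D200339 (iv6 D202362) (iv1 F408071)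
def n202363 : Q := act 0 n115657
theorem D202363 : act 0 n115657 = n202363 := rfl
theorem F423760 : act 5 n202363 = n143916 := d17_3 (iv1 F111049) (iv5 F339865) D202363 (iv4 D143916) F111225 F100584 (iv5 D53367) F53421 (iv4 F111047)
theorem F423761 : act 1 n115712 = n202363 := d15_0 (iv0 D202363) F339866 F245592
theorem F423762 : act 3 n115685 = n202363 := d19_19 (iv1 F423761) (iv5 D115712) (iv4 F175399) F175398 (iv1 F171627) F80604 (iv4 F111877) (iv3 F338259) (iv1 F221409) (iv5 D138228) (iv4 F221399) F221398 F170735 (iv5 D110380) D110379 D198853 (iv1 F409579) (iv5 F409500) F409503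
theorem F423763 : act 7 n202363 = n202114 := d8_2 F359990 F423762 F422917
def n202364 : Q := act 1 n115657
theorem D202364 : act 1 n115657 = n202364 := rfl
theorem F423764 : act 1 n202364 = n115712 := d15_1 D202364 (iv7 F245588) (iv2 F339864)
theorem F423765 : act 5 n202364 = n137019 := d17_7 F409427 (iv5 F402955) F402957 (iv5 F226979) F166386 (iv5 F339865) D202364 F245344 (iv4 F409426)
theorem F423766 : act 2 n202114 = n202364 := d2_3 F423765 F220154 D202114
theorem F423767 : act 4 n194452 = n202364 := d16_4 (iv4 F179657) D202114 (iv4 F422921) F422924 F423765 F220155 (iv5 F100581) F100582 F100326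
theorem F423768 : act 6 n202364 = n194451 := d21_3 F245599 (iv1 F245344) (iv5 F423765) (iv1 F393261) (iv6 F422649) F422648 F404240 (iv5 F351405) F351406 D156296
def n202365 : Q := act 3 n115658
theorem D202365 : act 3 n115658 = n202365 := rfl
theorem F423769 : act 2 n202365 = n198523 := d0_1 D202365 F408217 (iv2 F174158) (iv3 F414253) F414252
theorem F423770 : act 5 n202365 = n195328 := d6_2 (iv5 F414251) D202365 (iv3 F414245)
theorem F423771 : act 7 n202365 = n199709 := d8_2 F423719 D202365 F423723
theorem F423772 : act 1 n136266 = n202365 := d15_1 (iv0 F390185) F423771 (iv2 F413207)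
theorem F423773 : act 1 n202365 = n199702 := d15_1 F423772 F413175 F349531
def n202366 : Q := act 4 n115658
theorem D202366 : act 4 n115658 = n202366 := rfl
theorem F423774 : act 2 n202366 = n139673 := d1_1 D202366 (iv4 F414255) F414252
theorem F423775 : act 7 n202366 = n139669 := d11_2 F423719 D202366 (iv4 F423721)
theorem F423776 : act 5 n202366 = n115801 := d16_1 D202366 (iv4 D115801) F171348 D53765 (iv5 F171347) F171242 F349841 (iv7 F414254) F414252
theorem F423777 : act 0 n202366 = n116572 := d17_0 (iv5 D116572) (iv1 F84757) D53743 (iv4 F344566) F344567 F334027 D176893 F349844 D202366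
theorem F423778 : act 1 n202366 = n116574 := d18_6 D111995 (iv4 F409917) (iv1 F409921) (iv4 F414246) (iv5 F414251) D202366 (iv4 F408639) F408642 F169717
theorem F423779 : act 6 n202366 = n202012 := d21_3 F423286 F223192 (iv5 F423776) (iv1 D202012) (iv6 D115324) D115323 (iv1 F355427) F330555 (iv6 F330559) (iv1 F423288)
def n202367 : Q := act 6 n115658
theorem D202367 : act 6 n115658 = n202367 := rfl
theorem F423780 : act 4 n202367 = n202012 := d10_1 D202367 (iv6 F423779) (iv4 D202366)
def n202368 : Q := act 4 n115659
theorem D202368 : act 4 n115659 = n202368 := rfl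
theorem F423781 : act 2 n202368 = n139669 := d1_1 D202368 (iv4 F423721) (iv2 F423722)
theorem F423782 : act 5 n202368 = n115804 := d9_2 F349841 D202368 (iv4 D115804) F171172 D53770 D116681 (iv4 F414246) (iv5 F414251) D202366 F423776 (iv4 D115801) F171348 D53765 (iv5 F171347) F171242
theorem F423783 : act 6 n202368 = n115727 := d10_2 F385678 D202368 (iv4 F385677)
theorem F423784 : act 7 n202368 = n139673 := d11_2 F414254 D202368 (iv4 F414255)
theorem F423785 : act 0 n202368 = n116574 := d17_0 (iv5 D116574) (iv1 D53721) D53723 D116583 F349836 F349851 (iv5 D115661) D115659 D202368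
theorem F423786 : act 1 n202368 = n116572 := d18_6 (iv1 F174076) (iv4 F373738) F373736 F171242 F349841 D202368 F330561 F408056 (iv5 D198450)
def n202369 : Q := act 1 n115662
theorem D202369 : act 1 n115662 = n202369 := rfl
theorem F423787 : act 1 n202369 = n194587 := d15_1 D202369 (iv7 F423733) F423730
theorem F423788 : act 7 n202369 = n194446 := d15_2 (iv0 F392450) D202369 F393245
theorem F423789 : act 4 n202171 = n202369 := d20_0 (iv1 D202369) F180032 F84180 D53352 F357003 (iv4 F168794) (iv1 F168796) F85073 D115419 D202171
theorem F423790 : act 5 n202369 = n158860 := d18_4 F414439 F182967 D202171 F423789 F250112 F250698 (iv4 F414324) F414326 D199976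
theorem F423791 : act 2 n158861 = n202369 := d2_3 F423790 (iv2 D158860) D158861
theorem F423792 : act 6 n202004 = n202369 := d14_5 F423788 (iv6 D194446) F270490 D194240 (iv7 F422689)
theorem E103852 : n202171 = n202005 := (c10_2 F423792 (iv4 F423789) (iv6 D202005) D202004)
theorem F423793 : act 1 n202005 = n115419 := (sb E103852 (iv0 D202171))
theorem F423794 : act 4 n202005 = n202369 := (sb E103852 F423789)
def n202370 : Q := act 5 n115662
theorem D202370 : act 5 n115662 = n202370 := rfl
theorem F423795 : act 3 n202370 = n194838 := d6_1 D202370 F394678 F392511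
theorem F423796 : act 6 n202370 = n174210 := d12_2 D115662 D202370 F338789 F349850 (iv5 D115661)
theorem F423797 : act 0 n202370 = n173833 := d18_0 F304028 (iv1 F345368) (iv4 F414174) F414173 F182967 D202172 (iv4 F423117) (iv0 F392450) D202370
def n202371 : Q := act 4 n115664
theorem D202371 : act 4 n115664 = n202371 := rfl
theorem F423798 : act 2 n202371 = n199976 := d1_1 D202371 (iv4 F414440) F404229
theorem F423799 : act 3 n202371 = n198609 := d5_1 D202371 F408512 (iv3 F397004) F403816 (iv3 F404293)
theorem F423800 : act 7 n202371 = n198656 := d11_2 F423738 D202371 F423739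
theorem F423801 : act 5 n202371 = n199974 := d18_4 (iv1 D202369) F180032 D115664 D202371 (iv4 F414429) (iv0 F389008) F394824 F394826 (iv5 F423790)
theorem F423802 : act 0 n137096 = n202371 := d20_10 (iv4 D202371) (iv1 F423747) F423743 (iv3 D194587) (iv1 F359496) F165821 F78422 D49655 (iv4 F100366) D137096
def n202372 : Q := act 5 n115664
theorem D202372 : act 5 n115664 = n202372 := rfl
theorem F423803 : act 3 n202372 = n156284 := d6_1 D202372 (iv5 D156284) (iv3 F404293)
def n202373 : Q := act 5 n115665
theorem D202373 : act 5 n115665 = n202373 := rfl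
theorem F423804 : act 3 n202373 = n156292 := d6_1 D202373 F351404 (iv3 F404226)
theorem F423805 : act 1 n202373 = n192332 := d17_8 D192330 F386456 F333751 (iv5 F335203) F245559 F111526 D115665 D202373 (iv4 D192332)
theorem F423806 : act 6 n202373 = n202289 := d21_3 (iv5 F423744) (iv1 F423746) D202373 (iv1 D202289) (iv6 D115542) (iv5 F330524) D130957 (iv5 F330573) (iv6 F357052) F423561
theorem E103853 : n202289 = n156290 := (c7_1 F423806 (iv3 D156290) D156292 (iv3 F423804))
theorem F423807 : act 0 n156290 = n115542 := (sb E103853 (iv1 D202289))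
theorem F423808 : act 1 n156290 = n178667 := (sb E103853 F423497)
theorem F423809 : act 6 n156290 = n202373 := (sb E103853 (iv6 F423806))
theorem F423810 : act 0 n195479 = n197438 := d20_7 F111146 (iv1 F170582) F170583 D156290 F423807 (iv3 F423483) F423484 F404316 (iv3 D115722) (iv1 F168114)
theorem F423811 : act 2 n115711 = n202288 := d15_3 (iv0 D202288) (iv0 F423807) F245586
theorem F423812 : act 1 n197255 = n197438 := d15_0 (iv0 F423810) (iv7 F404080) F404078
def n202374 : Q := act 6 n115666
theorem D202374 : act 6 n115666 = n202374 := rfl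
theorem F423813 : act 2 n202374 = n156186 := d3_1 D202374 (iv6 F423745) F423742
theorem F423814 : act 3 n202374 = n115707 := d7_1 D202374 (iv6 D115707) (iv3 F180034)
theorem F423815 : act 5 n202374 = n155999 := d12_1 D202374 (iv6 F359972) D201915 F422353 F245562
theorem F423816 : act 7 n202374 = n115667 := d14_2 D115666 D202374 (iv6 D115667) (iv7 D53344) D53343
theorem F423817 : act 1 n156028 = n202374 := d15_1 F423631 F423816 (iv2 F423625)
theorem F423818 : act 1 n202374 = n156262 := d15_1 F423817 (iv7 F355486) F355484
def n202375 : Q := act 4 n115668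
theorem D202375 : act 4 n115668 = n202375 := rfl
theorem F423819 : act 2 n202375 = n141362 := d1_1 D202375 F245566 F359987
theorem F423820 : act 7 n202375 = n177199 := d11_2 F359988 D202375 (iv4 F351501)
theorem F423821 : act 0 n202375 = n174104 := d18_2 D115668 D202375 F351465 D178782 F351458 (iv0 F403252) F403250 (iv0 F404287) (iv5 D115670)
theorem F423822 : act 1 n202375 = n116295 := d18_8 (iv1 F272911) F324290 F342340 (iv4 F309664) F314269 (iv4 F245486) F245489 D202375 F351497
theorem F423823 : act 5 n170282 = n202375 := d19_1 (iv1 F351937) (iv4 D202375) F416052 (iv1 D115718) (iv5 D53358) F40843 F20333 D12333 D26023 D53835 D116832 F318150 (iv5 D157457) (iv4 F162876) (iv3 F309604) (iv1 F311811) F78847 (iv4 F106206) (iv3 F233950)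
def n202376 : Q := act 6 n115668
theorem D202376 : act 6 n115668 = n202376 := rfl
theorem F423824 : act 0 n157412 = n202376 := d21_4 D72120 (iv1 F240053) F240055 (iv6 F247900) (iv6 D202376) (iv5 F422525) (iv1 F422527) F409513 (iv6 D119614) (iv1 F87036)
def n202377 : Q := act 3 n115669
theorem D202377 : act 3 n115669 = n202377 := rfl
theorem F423825 : act 5 n202377 = n115684 := d6_2 (iv5 F359985) D202377 F180038
theorem F423826 : act 6 n202377 = n201961 := d7_2 F406359 D202377 F422532
theorem F423827 : act 0 n130963 = n202377 := d21_4 F111036 F78567 D61445 D130963 F423826 (iv5 D201961) (iv1 D115290) (iv5 F111045) (iv6 D74213) D74211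
def n202378 : Q := act 1 n115670
theorem D202378 : act 1 n115670 = n202378 := rfl
theorem F423828 : act 1 n202378 = n201913 := d15_1 D202378 (iv7 F423636) F423633
theorem F423829 : act 7 n202378 = n202309 := d15_2 (iv0 F404287) D202378 (iv2 F423642)
theorem F423830 : act 2 n156293 = n202378 := d4_3 F423829 (iv2 F423642) (iv7 F245591)
theorem F423831 : act 5 n152878 = n202378 := d16_7 (iv4 F403250) (iv5 F403256) F210802 D131554 F307275 (iv5 F351493) F244893 F423829 (iv2 F423642)
theorem F423832 : act 3 n202378 = n202288 := d0_2 D156293 F423830 (iv2 F423811) (iv3 D115711) (iv2 F171849)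
theorem F423833 : act 6 n202378 = n139646 := d3_2 (iv6 F422616) F423830 F422614
def n202379 : Q := act 5 n115676
theorem D202379 : act 5 n115676 = n202379 := rfl
def n202380 : Q := act 3 n115677
theorem D202380 : act 3 n115677 = n202380 := rfl
def n202381 : Q := act 5 n115677
theorem D202381 : act 5 n115677 = n202381 := rfl
def n202382 : Q := act 6 n115677
theorem D202382 : act 6 n115677 = n202382 := rfl
theorem F423834 : act 2 n202382 = n174510 := d3_1 D202382 (iv6 F422511) F422510
theorem F423835 : act 4 n202382 = n128060 := d10_1 D202382 F360256 F415295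
def n202383 : Q := act 0 n115678
theorem D202383 : act 0 n115678 = n202383 := rfl
def n202384 : Q := act 1 n115678
theorem D202384 : act 1 n115678 = n202384 := rfl
theorem F423836 : act 5 n202322 = n202384 := d21_6 F82605 (iv1 F40764) D25845 D53321 (iv1 F360179) D202322 (iv1 D202384) (iv5 D115678) (iv6 D53347) (iv1 F82608)
theorem F423837 : act 6 n202384 = n202101 := d12_2 D202322 F423836 F422876 (iv6 F423621) (iv5 D202321)
def n202385 : Q := act 4 n115678
theorem D202385 : act 4 n115678 = n202385 := rfl
theorem F423838 : act 3 n202385 = n185118 := d5_1 D202385 (iv4 D185118) D185117 F363545 F365194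
def n202386 : Q := act 7 n115678
theorem D202386 : act 7 n115678 = n202386 := rfl
theorem F423839 : act 3 n202386 = n185484 := d8_1 D202386 (iv7 F359524) F365194
theorem F423840 : act 5 n202386 = n115679 := d13_1 D202386 (iv7 D115679) D115678
def n202387 : Q := act 4 n115682
theorem D202387 : act 4 n115682 = n202387 := rfl
theorem F423841 : act 2 n202387 = n115683 := d1_1 D202387 (iv4 D115683) D115682
theorem F423842 : act 3 n202387 = n134969 := d5_1 D202387 F217194 (iv3 F217195) (iv4 F217196) F357061
def n202388 : Q := act 6 n115682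
theorem D202388 : act 6 n115682 = n202388 := rfl
theorem F423843 : act 2 n202388 = n115684 := d3_1 D202388 (iv6 D115684) D115682
theorem F423844 : act 3 n202388 = n202113 := d7_1 D202388 F422913 F357061
def n202389 : Q := act 0 n115683
theorem D202389 : act 0 n115683 = n202389 := rfl
theorem F423845 : act 4 n202389 = n202216 := d18_3 F357073 D115683 D202389 (iv5 D202216) F326816 (iv0 D115587) (iv4 D53317) D53315 D115582
def n202390 : Q := act 1 n115683
theorem D202390 : act 1 n115683 = n202390 := rfl
theorem F423846 : act 3 n146484 = n202390 := d20_3 (iv4 F229943) F322551 (iv4 F322558) (iv1 D202390) (iv3 F416581) (iv4 D200469) F414723 F414721 (iv3 F395972) (iv1 D195146)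
theorem F423847 : act 4 n202051 = n202390 := d20_6 D25854 F45318 (iv4 F40793) (iv3 F84055) D115348 D202051 (iv1 D202390) (iv4 D115683) (iv3 D53348) (iv1 D25853)
theorem F423848 : act 6 n202390 = n156516 := d10_2 (iv6 F422804) F423847 (iv4 F247019)
theorem F423849 : act 5 n202390 = n134174 := d16_1 F423847 F366221 (iv5 F251339) (iv4 F423586) (iv5 D202311) (iv4 F326816) D202216 F423275 F422805
def n202391 : Q := act 5 n115683
theorem D202391 : act 5 n115683 = n202391 := rfl
theorem F423850 : act 3 n202391 = n182326 := d6_1 D202391 F416585 F416581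
theorem F423851 : act 7 n202391 = n182518 := d13_2 F422497 D202391 F422498
theorem F423852 : act 1 n202391 = n195139 := d17_6 (iv1 F422355) F422357 (iv1 D197976) F168786 D115683 D202391 F395935 (iv0 F365268) F360202
theorem F423853 : act 6 n202391 = n198936 := d21_9 (iv5 D110738) D110735 F330978 (iv6 D63037) D63033 D134174 (iv5 F423849) (iv1 D202390) D202391 (iv1 D198936)
def n202392 : Q := act 6 n115683
theorem D202392 : act 6 n115683 = n202392 := rfl
theorem F423854 : act 3 n202392 = n184685 := d7_1 D202392 (iv6 F416582) F416581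
theorem F423855 : act 4 n202392 = n115684 := d10_1 D202392 (iv6 D115684) D115683
def n202393 : Q := act 0 n115684
theorem D202393 : act 0 n115684 = n202393 := rfl
def n202394 : Q := act 1 n115684
theorem D202394 : act 1 n115684 = n202394 := rfl
def n202395 : Q := act 7 n115684
theorem D202395 : act 7 n115684 = n202395 := rfl
theorem F423856 : act 3 n202395 = n115688 := d8_1 D202395 (iv7 D115688) (iv3 F180038)
def n202396 : Q := act 6 n115685
theorem D202396 : act 6 n115685 = n202396 := rfl
def n202397 : Q := act 6 n115686
theorem D202397 : act 6 n115686 = n202397 := rfl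
theorem F423857 : act 2 n202397 = n155858 := d3_1 D202397 F359977 F409512
theorem F423858 : act 3 n202397 = n196574 := d7_1 D202397 F401113 F404600
theorem F423859 : act 4 n202397 = n148671 := d10_1 D202397 F409509 F409508
theorem F423860 : act 7 n155841 = n202397 := d11_0 F423859 F353030 D155841
theorem F423861 : act 0 n115701 = n202397 := d20_7 F365291 F363880 (iv4 F219973) (iv3 D136771) (iv1 F111383) (iv3 F203969) (iv4 F357058) F423859 F393021 (iv1 F393019)
def n202398 : Q := act 3 n115689
theorem D202398 : act 3 n115689 = n202398 := rfl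
theorem F423862 : act 5 n202398 = n200176 := d6_2 F344703 D202398 (iv3 D200176)
def n202399 : Q := act 6 n115689
theorem D202399 : act 6 n115689 = n202399 := rfl
theorem F423863 : act 2 n202399 = n128216 := d3_1 D202399 (iv6 F409690) F409685
theorem F423864 : act 0 n202399 = n128219 := d21_4 (iv5 D112749) D112746 F344703 D202399 (iv6 F347140) F333070 (iv1 D126936) (iv5 D59574) D59575 (iv1 F347898)
theorem F423865 : act 0 n123713 = n202399 := d21_4 (iv5 D128063) (iv1 D60180) D60181 (iv6 F198198) (iv6 D202399) (iv5 F344703) (iv1 F175528) (iv5 F347145) F347146 (iv1 F305713)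
theorem F423866 : act 7 n202399 = n128217 := d15_2 F415297 (iv0 F423864) (iv2 F347142)
def n202400 : Q := act 4 n115690
theorem D202400 : act 4 n115690 = n202400 := rfl
theorem F423867 : act 2 n202400 = n198640 := d1_1 D202400 (iv4 F409682) F409680
theorem F423868 : act 3 n202400 = n131911 := d5_1 D202400 F211359 F214313 (iv4 F214316) F344732
theorem F423869 : act 5 n202400 = n189880 := d9_2 (iv5 F344730) D202400 F378070 F350213 F361851 F158560 F344702 F344703 (iv4 F408100) (iv5 D198464) F323177 (iv5 F318533) (iv4 F361854) F361852 (iv4 F344696)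
theorem F423870 : act 1 n202400 = n133363 := d18_6 (iv1 F351993) (iv4 F380627) (iv1 F380631) (iv4 F344696) (iv5 F344730) D202400 F366161 (iv0 F414058) F414056
def n202401 : Q := act 6 n115694
theorem D202401 : act 6 n115694 = n202401 := rfl
theorem F423871 : act 2 n202401 = n139884 := d3_1 D202401 (iv6 F357074) (iv2 F350925)
theorem F423872 : act 3 n202401 = n140458 := d7_1 D202401 (iv6 F354200) (iv3 F350926)
theorem F423873 : act 0 n202401 = n132322 := d21_10 (iv5 D132322) (iv1 F359741) F324737 (iv6 F326829) F326826 (iv6 F255694) (iv5 D161685) (iv1 F316556) F350924 D202401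
theorem F423874 : act 0 n132481 = n202401 := d21_4 (iv5 F233684) F415425 (iv5 D200180) F350848 (iv6 D202401) (iv5 F350924) (iv1 F255199) D161879 (iv6 F357007) (iv1 D179318)
theorem F423875 : act 4 n202401 = n202020 := d20_2 (iv4 F357044) F423874 (iv3 D202020) (iv1 D115329) (iv3 D53207) F45678 (iv1 D28223) D28224 D59437 D126684
theorem F423876 : act 6 n202020 = n202072 := d10_2 D202401 F423875 F422829
theorem E103854 : n202170 = n202022 := (c7_2 F423876 F423116 (iv6 D202022) D202020)
theorem F423877 : act 0 n202022 = n115416 := (sb E103854 (iv1 D202170))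
theorem F423878 : act 1 n202022 = n202159 := (sb E103854 F423115)
theorem F423879 : act 3 n202022 = n202072 := (sb E103854 (iv3 F423116))
def n202402 : Q := act 0 n115700
theorem D202402 : act 0 n115700 = n202402 := rfl
theorem F423880 : act 5 n202402 = n202320 := d17_3 D53352 D115700 D202402 F423620 (iv5 D161685) (iv0 F316557) D77748 F351489 F84185
theorem F423881 : act 1 n115705 = n202402 := d15_0 (iv0 D202402) (iv7 F422533) F422531
def n202403 : Q := act 1 n115700
theorem D202403 : act 1 n115700 = n202403 := rfl
theorem F423882 : act 1 n202403 = n115705 := d15_1 D202403 (iv7 F422530) F422529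
def n202404 : Q := act 6 n115700
theorem D202404 : act 6 n115700 = n202404 := rfl
def n202405 : Q := act 5 n115701
theorem D202405 : act 5 n115701 = n202405 := rfl
theorem F423883 : act 3 n202405 = n202107 := d6_1 D202405 (iv5 D202107) (iv3 F357057)
theorem F423884 : act 0 n202405 = n202302 := d17_2 F392465 D202405 (iv5 D202302) F347895 (iv5 F357010) (iv0 D150600) (iv5 F189405) (iv0 F357004) (iv4 F392463)
def n202406 : Q := act 5 n115703
theorem D202406 : act 5 n115703 = n202406 := rfl
theorem F423885 : act 3 n202406 = n115705 := d6_1 D202406 (iv5 D115705) D115703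
theorem F423886 : act 6 n202406 = n115717 := d12_2 (iv6 F357052) D202406 (iv5 F422911) F422913 (iv5 F330573)
def n202407 : Q := act 4 n115705
theorem D202407 : act 4 n115705 = n202407 := rfl
theorem F423887 : act 2 n202407 = n197412 := d1_1 D202407 (iv4 F422534) F422531
theorem F423888 : act 5 n202407 = n197388 := d9_2 D115705 D202407 F404107 F315121 F316596 (iv5 F350928) (iv4 D115699) D115700 (iv4 F350931) (iv5 D141360) F102222 D66315 (iv4 F344031) (iv5 F357035) (iv4 D115704)
def n202408 : Q := act 6 n115705
theorem D202408 : act 6 n115705 = n202408 := rfl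
theorem F423889 : act 2 n202408 = n202377 := d3_1 D202408 F423826 F422531
theorem F423890 : act 3 n202408 = n115717 := d7_1 D202408 (iv6 F423886) F423885
theorem F423891 : act 5 n202408 = n202388 := d12_1 D202408 (iv6 D202388) F357060 (iv6 D115706) D115705
theorem F423892 : act 0 n202408 = n202284 := d21_4 F245148 (iv1 F179556) D115705 D202408 (iv6 D202284) (iv5 F360884) F404292 (iv5 F404286) (iv6 D156280) (iv1 F245151)
theorem F423893 : act 0 n135740 = n202408 := d21_4 (iv5 F78931) F78932 D63823 D135740 (iv6 D202408) (iv5 D115705) (iv1 D53353) (iv5 F53510) (iv6 D34100) D34097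
def n202409 : Q := act 6 n115709
theorem D202409 : act 6 n115709 = n202409 := rfl
theorem F423894 : act 2 n202409 = n119519 := d3_1 D202409 F345601 (iv2 F355509)
theorem F423895 : act 3 n202409 = n156239 := d7_1 D202409 (iv6 D156239) (iv3 F355510)
theorem F423896 : act 4 n202409 = n119294 := d10_1 D202409 F345600 (iv4 F355511)
theorem F423897 : act 7 n119505 = n202409 := d11_0 F423896 F187776 D119505
def n202410 : Q := act 4 n115710
theorem D202410 : act 4 n115710 = n202410 := rfl
theorem F423898 : act 2 n202410 = n199150 := d1_1 D202410 F410899 (iv2 F347953)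
theorem F423899 : act 3 n202410 = n179277 := d5_1 D202410 (iv4 D179277) (iv3 D85547) (iv4 F321540) (iv3 F351401)
theorem F423900 : act 6 n202410 = n115719 := d10_2 (iv6 F180044) D202410 (iv4 D115719)
theorem F423901 : act 7 n202410 = n194334 := d11_2 F347952 D202410 F392859
theorem F423902 : act 0 n202410 = n194231 := d17_0 F392430 F380953 (iv5 F415934) (iv4 F423627) (iv5 F423629) (iv0 D155998) D156001 (iv0 F351399) D202410
theorem F423903 : act 1 n202410 = n200299 := d18_6 D200302 F415903 F347851 F170804 D115710 D202410 (iv4 D200299) (iv0 D112963) D112966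
def n202411 : Q := act 5 n115711
theorem D202411 : act 5 n115711 = n202411 := rfl
theorem F423904 : act 3 n202411 = n115712 := d6_1 D202411 (iv5 D115712) D115711
def n202412 : Q := act 6 n115711
theorem D202412 : act 6 n115711 = n202412 := rfl
theorem F423905 : act 3 n202412 = n115713 := d7_1 D202412 (iv6 D115713) D115711
def n202413 : Q := act 4 n115712
theorem D202413 : act 4 n115712 = n202413 := rfl
theorem F423906 : act 5 n202413 = n200340 := d9_2 D115712 D202413 F416051 (iv5 F422624) F422622 (iv5 F226979) F166386 (iv5 F339865) (iv4 F423758) (iv5 F423759) F416064 (iv5 F422911) F422912 F226974 F175399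
theorem F423907 : act 7 n202413 = n198651 := d11_2 F245588 D202413 F408707
theorem F423908 : act 3 n198652 = n202413 := d20_5 (iv4 F406905) (iv1 D198118) (iv4 F393827) (iv3 F408004) (iv1 F408711) (iv4 D202413) (iv1 F423764) (iv4 F423767) F393264 D194472
def n202414 : Q := act 5 n115713
theorem D202414 : act 5 n115713 = n202414 := rfl
theorem F423909 : act 2 n202414 = n185036 := d2_1 D202414 F359537 F245594
theorem F423910 : act 7 n202414 = n152834 := d13_2 F423352 D202414 (iv5 F423349)
theorem F423911 : act 4 n202414 = n192242 := d16_2 F415244 D202414 F386178 F367762 F344371 F179264 D129676 F207854 (iv2 F415242)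
theorem F423912 : act 0 n202414 = n156105 := d17_2 (iv1 F415249) D202414 (iv5 D156105) (iv4 D74254) (iv5 F53467) D53120 (iv5 F84188) (iv0 F111493) (iv4 F245428)
theorem F423913 : act 1 n202414 = n156103 := d17_6 F166012 (iv5 F203287) F211408 (iv5 F415245) F415244 D202414 (iv5 D156103) (iv0 F167104) F167102
def n202415 : Q := act 6 n115718
theorem D202415 : act 6 n115718 = n202415 := rfl
theorem F423914 : act 3 n202415 = n202376 := d7_1 D202415 (iv6 D202376) F416052
def n202416 : Q := act 0 n115719
theorem D202416 : act 0 n115719 = n202416 := rfl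
theorem F423915 : act 4 n202416 = n202194 := d18_3 (iv1 D115718) D115719 D202416 F423194 (iv4 D115725) (iv0 F84187) (iv4 F179657) F422626 F422624
theorem F423916 : act 7 n193529 = n202416 := d11_0 F423915 (iv7 F423201) (iv4 F423203)
theorem F423917 : act 5 n192129 = n202416 := d16_1 (iv4 F385677) F423915 F423194 (iv4 D115725) (iv5 D53362) D53361 D115723 (iv7 F245610) F245609
theorem F423918 : act 3 n192130 = n202416 := d20_5 (iv4 F175815) (iv1 D52196) (iv4 F82520) (iv3 F176169) (iv1 F385684) F423915 (iv1 D202194) (iv4 F182829) F182828 (iv1 F175813)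
def n202417 : Q := act 1 n115719
theorem D202417 : act 1 n115719 = n202417 := rfl
theorem F423919 : act 4 n202417 = n202193 := d18_7 F168101 (iv4 D53366) (iv1 D25859) (iv4 F40843) D53358 D115719 D202417 (iv0 D202193) F336202
theorem F423920 : act 2 n193529 = n202417 := d1_3 F423919 F423206 (iv4 F423203)
theorem F423921 : act 3 n191516 = n202417 := d5_5 F423919 F423191 (iv4 D161958) (iv3 F314156) D191516
theorem F423922 : act 5 n193528 = n202417 := d9_0 F423919 F423190 (iv4 D115728) (iv5 D53367) D53366 D115727 (iv4 F385677) F423917 F423915 F423194 (iv4 D115725) (iv5 D53362) D53361 D115723 (iv4 F390170)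
theorem F423923 : act 1 n194452 = n193528 := d18_8 (iv1 D202417) (iv4 D115719) D115717 (iv4 F416064) F423759 F423758 D202364 (iv4 F423767) F423922
def n202418 : Q := act 3 n115719
theorem D202418 : act 3 n115719 = n202418 := rfl
theorem F423924 : act 2 n202418 = n194337 := d0_1 D202418 (iv3 F393728) (iv2 F410903) F422538 F422535
theorem F423925 : act 4 n202418 = n179279 := d5_2 D115719 D202418 F279194 (iv4 F351385) F180036
theorem F423926 : act 6 n202418 = n179277 := d7_2 F423900 D202418 (iv3 F423899)
theorem F423927 : act 5 n196772 = n202418 := d12_5 F423926 (iv5 F379494) F379493 F306960 D196772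
def n202419 : Q := act 5 n115719
theorem D202419 : act 5 n115719 = n202419 := rfl
theorem F423928 : act 2 n202419 = n156298 := d2_1 D202419 (iv5 F422537) F422535
theorem F423929 : act 3 n202419 = n196772 := d6_1 D202419 F423927 (iv3 D202418)
theorem F423930 : act 7 n202419 = n201962 := d13_2 F245601 D202419 F422537
theorem F423931 : act 4 n202419 = n156034 := d16_2 D115719 D202419 (iv5 D156034) F111047 F53419 (iv4 F111047) D156034 F245153 F179558
theorem F423932 : act 0 n202419 = n202417 := d17_2 (iv1 D202417) D202419 (iv5 F423922) F390170 (iv5 D115723) F168116 D196649 F423192 (iv4 F423919)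
theorem F423933 : act 1 n202419 = n202416 := d17_6 (iv1 D202364) F339865 (iv1 D53357) D53358 D115719 D202419 (iv5 F423917) (iv0 F422663) F423767
theorem F423934 : act 6 n196771 = n202419 := d21_5 D115661 (iv1 F349851) (iv5 F349836) F416220 F416219 (iv5 D202419) D202416 (iv5 F423917) F385678 (iv1 D115659)
def n202420 : Q := act 4 n115720
theorem D202420 : act 4 n115720 = n202420 := rfl
theorem F423935 : act 2 n202420 = n144723 := d1_1 D202420 F227562 (iv2 F222747)
theorem F423936 : act 6 n202420 = n145657 := d10_2 F209563 D202420 F228683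
theorem F423937 : act 7 n202420 = n144724 := d11_2 F222753 D202420 (iv4 F227564)
theorem F423938 : act 5 n202420 = n197442 := d16_1 D202420 F404333 (iv5 D145583) D145582 (iv5 F351846) (iv4 D107419) D107420 F222750 (iv2 F222747)
theorem F423939 : act 0 n202420 = n144726 := d17_0 F351850 (iv1 F397209) (iv5 D195521) F163991 (iv5 F222745) (iv0 D139599) (iv5 F221535) (iv0 F221538) D202420
theorem F423940 : act 1 n202420 = n144712 := d18_6 (iv1 F79007) (iv4 F162006) (iv1 F167246) (iv4 F167248) D115720 D202420 F227546 F167255 (iv5 D108160)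
def n202421 : Q := act 0 n115722
theorem D202421 : act 0 n115722 = n202421 := rfl
def n202422 : Q := act 1 n115722
theorem D202422 : act 1 n115722 = n202422 := rfl
def n202423 : Q := act 5 n115722
theorem D202423 : act 5 n115722 = n202423 := rfl
theorem F423941 : act 3 n202423 = n115723 := d6_1 D202423 (iv5 D115723) D115722
theorem F423942 : act 4 n192452 = n202423 := d5_0 F423941 (iv4 F390170) F390169 (iv4 F389811) F390048
def n202424 : Q := act 6 n115722
theorem D202424 : act 6 n115722 = n202424 := rfl
theorem F423943 : act 3 n202424 = n115724 := d7_1 D202424 (iv6 D115724) D115722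
def n202425 : Q := act 0 n115723
theorem D202425 : act 0 n115723 = n202425 := rfl
theorem F423944 : act 5 n202425 = n144283 := d17_3 (iv1 F168116) D115723 D202425 F226971 D144286 (iv0 F226983) (iv5 D127068) (iv0 F168124) (iv4 F165168)
theorem F423945 : act 4 n202425 = n144291 := d18_1 D202425 F414168 F408707 (iv5 D156291) (iv4 F170583) F170582 (iv4 F111146) F168114 D115723
theorem F423946 : act 1 n115727 = n202425 := d15_0 (iv0 D202425) (iv7 F245610) F245609
theorem F423947 : act 3 n144283 = n202425 := d19_19 (iv1 F423946) (iv5 D115727) (iv4 D53366) F165544 (iv1 D49185) F37519 (iv4 F37908) (iv3 F78346) D107385 F402000 (iv4 D124488) D124487 (iv1 F353250) F349871 (iv4 D127074) (iv3 F204301) F226983 (iv5 D144286) (iv4 F226971)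
theorem F423948 : act 6 n202425 = n144282 := d7_2 D144283 F423947 (iv3 D144282)
theorem F423949 : act 2 n202094 = n202425 := d2_3 F423944 F226970 D202094
def n202426 : Q := act 1 n115723
theorem D202426 : act 1 n115723 = n202426 := rfl
theorem F423950 : act 1 n202426 = n115727 := d15_1 D202426 (iv7 F245617) F245616
theorem F423951 : act 7 n202426 = n202094 := d15_2 (iv0 D202425) D202426 F423949
theorem F423952 : act 5 n202426 = n156064 := d17_7 F111556 F111225 F84187 (iv5 D53362) D53361 D115723 D202426 F245622 (iv4 D156305)
def n202427 : Q := act 6 n115723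
theorem D202427 : act 6 n115723 = n202427 := rfl
theorem F423953 : act 2 n202427 = n202011 := d3_1 D202427 F422706 F245616
theorem F423954 : act 7 n202427 = n202012 := d14_2 F245610 D202427 (iv6 F423779) F423775 (iv6 F361877)
theorem F423955 : act 0 n202008 = n202427 := d21_4 D202192 (iv1 F423185) F423188 D202008 (iv6 D202427) (iv5 D115723) (iv1 F168114) (iv5 F336202) (iv6 D115444) D115441
def n202428 : Q := act 5 n115724
theorem D202428 : act 5 n115724 = n202428 := rfl
theorem F423956 : act 2 n202428 = n185028 := d2_1 D202428 (iv5 F339544) F216432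
theorem F423957 : act 7 n202428 = n152799 := d13_2 F216430 D202428 F359504
theorem F423958 : act 4 n202428 = n183853 := d16_2 (iv4 F180049) D202428 F344318 (iv4 F376151) F376152 (iv4 D115116) D115117 F179275 F99272
theorem F423959 : act 1 n202428 = n156095 := d17_6 D34066 (iv5 F53464) (iv1 F83853) (iv5 F84188) (iv4 F180049) D202428 (iv5 D156095) (iv0 D74250) F53461
theorem F423960 : act 0 n202428 = n144075 := d21_1 D202428 (iv5 D144075) (iv6 D67506) F49634 D49453 D107054 (iv1 F245402) (iv5 D156155) D156156 F386207
def n202429 : Q := act 3 n115725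
theorem D202429 : act 3 n115725 = n202429 := rfl
def n202430 : Q := act 3 n115728
theorem D202430 : act 3 n115728 = n202430 := rfl
theorem F423961 : act 4 n202430 = n198284 := d5_2 D115728 D202430 (iv3 F407471) (iv4 D195935) F165551
theorem F423962 : act 5 n202430 = n161958 := d6_2 F423190 D202430 (iv3 F423191)
theorem F423963 : act 6 n202430 = n201991 := d7_2 (iv6 F180051) D202430 (iv3 D201991)
theorem F423964 : act 0 n198772 = n202430 := d17_0 F423962 (iv1 F366036) (iv5 F401355) F401354 (iv5 F302251) F198959 D124432 (iv0 F358856) D198772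
def n202431 : Q := act 5 n115731
theorem D202431 : act 5 n115731 = n202431 := rfl
theorem F423965 : act 2 n202431 = n115732 := d2_1 D202431 (iv5 D115732) D115731
theorem F423966 : act 3 n202431 = n140463 := d6_1 D202431 (iv5 D140463) (iv3 F180053)
theorem F423967 : act 4 n202431 = n201424 := d9_1 D202431 (iv5 F420462) F209362 (iv5 F330915) F93859 (iv5 F78212) F78211 D65920 D140440 F346550 (iv4 D131007) D131008 F346547 F165019 (iv4 F180054)
theorem F423968 : act 7 n202431 = n140436 := d13_2 (iv7 F180055) D202431 (iv5 D140436)
theorem F423969 : act 0 n202431 = n140439 := d17_2 (iv1 F180056) D202431 (iv5 F228366) F181252 D111061 D199193 F411111 (iv0 F223611) (iv4 D140429)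
theorem F423970 : act 1 n202431 = n140438 := d17_6 (iv1 F336125) F336126 (iv1 F165021) F165019 (iv4 F180054) D202431 F228371 F181255 F78113
theorem F423971 : act 6 n202431 = n198119 := d21_3 F225650 (iv1 F180056) D202431 (iv1 F406915) (iv6 D187880) F291192 F74128 (iv5 F292308) F332992 D106917
def n202432 : Q := act 6 n115731
theorem D202432 : act 6 n115731 = n202432 := rfl
theorem F423972 : act 2 n202432 = n115733 := d3_1 D202432 (iv6 D115733) D115731
theorem F423973 : act 3 n202432 = n140464 := d7_1 D202432 (iv6 D140464) (iv3 F180053)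
theorem F423974 : act 4 n202432 = n145350 := d10_1 D202432 (iv6 D145350) (iv4 F180054)
theorem F423975 : act 5 n202432 = n178307 := d12_1 D202432 (iv6 F365526) (iv5 F406912) (iv6 F423971) (iv5 D202431)
theorem F423976 : act 7 n178340 = n202432 := d13_0 F423975 F277891 D178340
def n202433 : Q := act 0 n115733
theorem D202433 : act 0 n115733 = n202433 := rfl
def n202434 : Q := act 1 n115733
theorem D202434 : act 1 n115733 = n202434 := rfl
theorem F423977 : act 1 n202434 = n178340 := d15_1 D202434 F423976 F423972
def n202435 : Q := act 7 n115733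
theorem D202435 : act 7 n115733 = n202435 := rfl
theorem F423978 : act 2 n202435 = n178340 := d4_1 D202435 F423976 F423972
theorem F423979 : act 3 n202435 = n115738 := d8_1 D202435 (iv7 D115738) (iv3 F180061)
theorem F423980 : act 4 n202435 = n145354 := d11_1 D202435 (iv7 D145354) (iv4 F180062)
theorem F423981 : act 5 n202435 = n178322 := d13_1 D202435 (iv7 D178322) (iv5 F353305)
theorem F423982 : act 6 n202435 = n138492 := d14_1 D202435 F221679 (iv6 D65921) (iv7 F84192) D115733
theorem F423983 : act 1 n178340 = n202433 := d15_0 (iv0 D202433) D202435 F423978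
def n202436 : Q := act 3 n115735
theorem D202436 : act 3 n115735 = n202436 := rfl
theorem F423984 : act 7 n202436 = n140480 := d8_2 (iv7 F202600) D202436 (iv3 D140480)
theorem F423985 : act 0 n202436 = n199604 := d19_4 F203100 F202667 (iv4 F180075) D202436 (iv5 D199604) F361604 F322454 (iv1 F340178) (iv5 D134610) F319732 F128063 F300725 F300671 D82593 (iv3 F329145) (iv1 F418164) (iv5 D200853) F176709 (iv3 F203097)
def n202437 : Q := act 6 n115735
theorem D202437 : act 6 n115735 = n202437 := rfl
theorem F423986 : act 2 n202437 = n140479 := d3_1 D202437 (iv6 D140479) (iv2 F202606)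
theorem F423987 : act 4 n202437 = n134869 := d10_1 D202437 F217052 (iv4 F180075)
theorem F423988 : act 5 n202437 = n140342 := d12_1 D202437 F407164 F407162 (iv6 F407160) F364137
theorem F423989 : act 0 n202437 = n115799 := d21_4 D197557 F404813 F364137 D202437 (iv6 D115799) D115798 (iv1 F345051) (iv5 F345068) (iv6 F167879) (iv1 F167880)
theorem F423990 : act 0 n197546 = n202437 := d21_4 D106901 D196330 F400349 D197546 (iv6 D202437) (iv5 F364137) F226743 F336741 (iv6 D66581) (iv1 F166087)
def n202438 : Q := act 3 n115736
theorem D202438 : act 3 n115736 = n202438 := rfl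
theorem F423991 : act 4 n202438 = n136812 := d5_2 (iv4 F180066) D202438 (iv3 D136812) F203879 (iv3 F203876)
theorem F423992 : act 5 n202438 = n198348 := d6_2 (iv5 F364139) D202438 F407705
theorem F423993 : act 6 n202438 = n196760 := d7_2 F226752 D202438 F401709
theorem F423994 : act 7 n202438 = n140477 := d8_2 F202605 D202438 (iv3 D140477)
theorem F423995 : act 0 n202438 = n140774 := d20_4 F336697 (iv1 F168657) (iv4 F180066) D202438 F223868 F101729 F337758 (iv4 F222918) (iv3 D139734) (iv1 F336695)
def n202439 : Q := act 3 n115739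
theorem D202439 : act 3 n115739 = n202439 := rfl
theorem F423996 : act 4 n202439 = n139388 := d5_2 D115739 D202439 (iv3 D139388) (iv4 D65421) (iv3 F168311)
theorem F423997 : act 6 n202439 = n192467 := d7_2 F223456 D202439 F390042
theorem F423998 : act 7 n202439 = n140485 := d8_2 (iv7 F180080) D202439 (iv3 D140485)
theorem F423999 : act 0 n140363 = n202439 := d20_7 F180540 F165728 (iv4 F168890) F349414 F337914 (iv3 F391035) F391036 F423996 (iv3 D139388) (iv1 F180543)
def n202440 : Q := act 3 n115740
theorem D202440 : act 3 n115740 = n202440 := rfl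
theorem F424000 : act 2 n202440 = n140724 := d0_1 D202440 (iv3 D140724) F180224 F182464 F182467
theorem F424001 : act 5 n202440 = n135195 := d6_2 F404831 D202440 (iv3 F362325)
theorem F424002 : act 7 n202440 = n140457 := d8_2 (iv7 F182468) D202440 (iv3 D140457)
theorem F424003 : act 4 n202440 = n196511 := d20_6 (iv4 D14598) (iv1 F20341) D25862 D53374 D115740 D202440 (iv1 D196511) F164985 (iv3 D53377) (iv1 F40854)
theorem F424004 : act 6 n192454 = n202440 := d10_0 F424003 F400912 (iv4 F386748)
theorem F424005 : act 0 n198041 = n202440 := d20_10 F424003 (iv1 D196511) F164985 (iv3 D53377) (iv1 F40854) D30828 (iv4 F81165) D111447 (iv4 F388312) F406573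
theorem F424006 : act 0 n202440 = n178102 := d21_4 (iv5 F375355) (iv1 F412538) (iv5 F412541) F424004 (iv6 D178102) (iv5 D84778) D84775 (iv5 F304970) (iv6 F356032) (iv1 F359355)
def n202441 : Q := act 4 n115740
theorem D202441 : act 4 n115740 = n202441 := rfl
theorem F424007 : act 2 n202441 = n139882 := d1_1 D202441 F223101 F182467
theorem F424008 : act 7 n202441 = n140458 := d11_2 (iv7 F182468) D202441 (iv4 D140458)
theorem F424009 : act 0 n132445 = n202441 := d20_10 (iv4 D202441) (iv1 F180083) (iv4 F203929) (iv3 F346546) F346543 F337538 (iv4 F411172) F411173 F177034 (iv3 F354172)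
theorem F424010 : act 6 n202441 = n149762 := d21_5 F187938 (iv1 F86875) D84951 (iv6 F348505) F424009 (iv5 F237144) (iv1 F357008) F353039 (iv6 F347858) (iv1 F187941)
def n202442 : Q := act 6 n115740
theorem D202442 : act 6 n115740 = n202442 := rfl
theorem F424011 : act 2 n202442 = n140462 := d3_1 D202442 (iv6 D140462) F182467
theorem F424012 : act 3 n202442 = n192454 := d7_1 D202442 F424004 (iv3 D202440)
theorem F424013 : act 4 n202442 = n149762 := d10_1 D202442 (iv6 F424010) (iv4 D202441)
theorem F424014 : act 0 n115797 = n202442 := d20_10 F424013 (iv1 F237140) (iv4 F357084) (iv3 D93105) F293158 D46769 F329511 (iv1 F78088) D53398 D115797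
def n202443 : Q := act 5 n115742
theorem D202443 : act 5 n115742 = n202443 := rfl
theorem F424015 : act 2 n202443 = n115743 := d2_1 D202443 (iv5 D115743) D115742
theorem F424016 : act 3 n202443 = n140436 := d6_1 D202443 (iv5 D140436) (iv3 F180084)
theorem F424017 : act 7 n202443 = n140463 := d13_2 (iv7 F180085) D202443 (iv5 D140463)
theorem F424018 : act 0 n202443 = n134736 := d17_2 (iv1 F180086) D202443 (iv5 D134736) F324049 (iv5 D60872) (iv0 F348923) D129322 F354199 (iv4 D140458)
theorem F424019 : act 6 n202443 = n183042 := d21_3 F404829 (iv1 F180086) D202443 (iv1 F375753) (iv6 F389632) F389634 (iv1 F167887) F343118 (iv6 D109203) D109200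
theorem F424020 : act 4 n183044 = n202443 := d10_3 F424019 (iv4 D183042) D183044
theorem F424021 : act 1 n202443 = n134734 := d18_8 (iv1 F101518) (iv4 F204070) (iv1 F216735) (iv4 F224899) (iv5 F420010) F420009 (iv0 F384563) F424020 (iv5 D134734)
theorem F424022 : act 5 n193006 = n198327 := d17_3 (iv1 F372825) F372823 D193006 (iv4 D198327) F354184 F180088 D202443 F424021 F331087
def n202444 : Q := act 6 n115742
theorem D202444 : act 6 n115742 = n202444 := rfl
theorem F424023 : act 2 n202444 = n115744 := d3_1 D202444 (iv6 D115744) D115742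
theorem F424024 : act 3 n202444 = n140437 := d7_1 D202444 (iv6 D140437) (iv3 F180084)
theorem F424025 : act 4 n202444 = n119358 := d10_1 D202444 F330965 F219936
theorem F424026 : act 5 n202444 = n198183 := d12_1 D202444 (iv6 D198183) F333848 (iv6 F424019) (iv5 D202443)
theorem F424027 : act 0 n202444 = n198014 := d21_4 D134734 (iv1 F424021) (iv5 D202443) D202444 F406515 F372901 (iv1 D108578) (iv5 D50133) (iv6 F48058) D63317
theorem F424028 : act 1 n202444 = n198024 := d15_1 (iv0 F424027) (iv7 D198024) (iv2 F406513)
theorem F424029 : act 7 n202444 = n154971 := d15_2 (iv0 F406517) (iv0 F424027) (iv2 F341268)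
def n202445 : Q := act 4 n115743
theorem D202445 : act 4 n115743 = n202445 := rfl
theorem F424030 : act 2 n202445 = n183044 := d1_1 D202445 F424020 F424015
theorem F424031 : act 3 n202445 = n189072 := d5_1 D202445 F375633 (iv3 D109063) (iv4 F84215) (iv3 F180089)
theorem F424032 : act 6 n202445 = n183007 := d10_2 F341400 D202445 F333849
theorem F424033 : act 7 n202445 = n140467 := d11_2 (iv7 F180090) D202445 (iv4 D140467)
theorem F424034 : act 5 n183978 = n202445 := d19_1 F410497 (iv4 D202445) F180089 F84217 (iv5 D49390) F46307 (iv3 F48558) F48559 (iv5 D24832) F19115 F11002 F10170 D5823 D12276 D25866 D53381 (iv5 F180883) D141891 (iv3 F410496)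
def n202446 : Q := act 1 n115744
theorem D202446 : act 1 n115744 = n202446 := rfl
theorem F424035 : act 1 n202446 = n154971 := d15_1 D202446 (iv7 F424029) F424023
theorem F424036 : act 7 n202446 = n198014 := d15_2 F353059 D202446 F406513
theorem F424037 : act 5 n202446 = n198015 := d17_7 F331717 (iv5 F337705) (iv1 D154981) (iv5 F317879) F302626 (iv5 F341269) D202446 F406523 F352216
theorem F424038 : act 4 n202446 = n178500 := d17_9 (iv1 F278156) (iv5 D84951) (iv1 D39297) D39298 D84955 D178522 F341261 (iv5 F341269) D202446
theorem F424039 : act 3 n140737 = n202446 := d19_19 (iv1 D202446) F341269 (iv4 F302626) (iv3 D58216) (iv1 F88899) F318785 F104983 D68792 (iv1 F242954) F51010 (iv4 F51039) (iv3 F105207) (iv1 F346811) (iv5 D119132) F86759 F58155 (iv1 F296890) D79712 (iv4 F324360)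
theorem F424040 : act 2 n202446 = n198024 := d0_1 F424039 F406546 (iv2 F405576) F405577 (iv2 F324359)
def n202447 : Q := act 3 n115746
theorem D202447 : act 3 n115746 = n202447 := rfl
theorem F424041 : act 2 n202447 = n193302 := d0_1 D202447 F389421 F352705 (iv3 D140451) (iv2 F180097)
theorem F424042 : act 4 n202447 = n144448 := d5_2 F180096 D202447 (iv3 D144448) (iv4 D67688) D67687
theorem F424043 : act 5 n202447 = n194489 := d6_2 F344441 D202447 F393420
theorem F424044 : act 6 n202447 = n193299 := d7_2 F216979 D202447 F389417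
theorem F424045 : act 7 n202447 = n140449 := d8_2 (iv7 F180095) D202447 (iv3 D140449)
theorem F424046 : act 0 n198037 = n202447 := d17_2 F412989 (iv5 F412987) F424043 (iv4 D194489) F370015 (iv0 F370018) F369704 F160644 D194822
def n202448 : Q := act 4 n115748
theorem D202448 : act 4 n115748 = n202448 := rfl
theorem F424047 : act 2 n202448 = n140495 := d1_1 D202448 (iv4 D140495) (iv2 F349743)
theorem F424048 : act 3 n202448 = n196561 := d5_1 D202448 F401088 (iv3 D196550) D196551 F401060
theorem F424049 : act 7 n202448 = n140490 := d11_2 (iv7 F349744) D202448 (iv4 D140490)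
theorem F424050 : act 5 n202448 = n160308 := d16_1 D202448 (iv4 D160308) (iv5 D76830) (iv4 F87628) D120308 (iv4 F349737) F349736 F349741 (iv2 F349743)
def n202449 : Q := act 3 n115749
theorem D202449 : act 3 n115749 = n202449 := rfl
theorem F424051 : act 7 n202449 = n140494 := d8_2 (iv7 F349741) D202449 (iv3 D140494)
theorem F424052 : act 4 n202449 = n193333 := d20_6 (iv4 F223826) (iv1 F182839) F182837 F180114 (iv1 F180103) D202449 F389486 F218715 D197994 F406437
theorem F424053 : act 6 n188953 = n202449 := d10_0 F424052 (iv6 D193333) (iv4 F375247)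
theorem F424054 : act 0 n140355 = n202449 := d20_10 F424052 F389486 F218715 D197994 F406437 (iv3 F388223) F388224 F357565 (iv4 D140356) D140355
def n202450 : Q := act 4 n115749
theorem D202450 : act 4 n115749 = n202450 := rfl
theorem F424055 : act 2 n202450 = n140490 := d1_1 D202450 (iv4 D140490) (iv2 F349740)
theorem F424056 : act 3 n202450 = n196507 := d5_1 D202450 F400886 F400887 (iv4 F424052) (iv3 D202449)
theorem F424057 : act 7 n202450 = n140495 := d11_2 (iv7 F349741) D202450 (iv4 D140495)
theorem F424058 : act 5 n201944 = n202450 := d6_0 F424056 (iv5 F400891) D201944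
def n202451 : Q := act 6 n115749
theorem D202451 : act 6 n115749 = n202451 := rfl
theorem F424059 : act 2 n202451 = n140492 := d3_1 D202451 (iv6 D140492) (iv2 F349740)
theorem F424060 : act 3 n202451 = n188953 := d7_1 D202451 F424053 (iv3 D202449)
theorem F424061 : act 5 n202451 = n124021 := d12_1 D202451 (iv6 D124021) F304627 (iv6 F349738) F349736
theorem F424062 : act 0 n202451 = n115786 := d21_10 (iv5 F413412) (iv1 F413410) D199804 F413577 (iv1 F246210) F216803 (iv5 F223722) (iv1 F345320) F349736 D202451
def n202452 : Q := act 3 n115754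
theorem D202452 : act 3 n115754 = n202452 := rfl
theorem F424063 : act 4 n202452 = n126712 := d5_2 F367003 D202452 F367015 F158505 (iv3 F158503)
theorem F424064 : act 5 n202452 = n201439 := d6_2 F331455 D202452 (iv3 D201439)
theorem F424065 : act 6 n202452 = n189056 := d7_2 (iv6 F367010) D202452 (iv3 F375614)
theorem F424066 : act 7 n202452 = n140515 := d8_2 (iv7 F339980) D202452 (iv3 D140515)
theorem F424067 : act 0 n202452 = n140360 := d20_4 (iv4 F103434) (iv1 F367001) F367003 D202452 (iv3 D140360) D140361 (iv1 F357566) (iv4 F388224) F388223 (iv1 D140729)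
def n202453 : Q := act 3 n115755
theorem D202453 : act 3 n115755 = n202453 := rfl
theorem F424068 : act 5 n202453 = n201440 := d6_2 (iv5 F340478) D202453 (iv3 D201440)
theorem F424069 : act 6 n202453 = n196627 := d7_2 (iv6 F340481) D202453 (iv3 D196627)
theorem F424070 : act 7 n202453 = n140520 := d8_2 (iv7 F340479) D202453 (iv3 D140520)
theorem F424071 : act 0 n202453 = n140543 := d20_10 (iv4 F223685) (iv1 F396594) F396592 (iv3 F405437) (iv1 F405442) D197994 F406435 (iv1 F392997) F226824 D202453
theorem F424072 : act 0 n115760 = n202453 := d20_4 F101715 F180186 (iv4 D115761) D115760 (iv3 D202453) (iv4 F226824) F340473 F103434 (iv3 D66037) D66035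
def n202454 : Q := act 6 n115756
theorem D202454 : act 6 n115756 = n202454 := rfl
theorem F424073 : act 2 n202454 = n115757 := d3_1 D202454 (iv6 D115757) D115756
theorem F424074 : act 3 n202454 = n140418 := d7_1 D202454 F351309 (iv3 F180114)
theorem F424075 : act 1 n202454 = n193728 := d15_0 (iv0 F405130) F405129 (iv2 F424073)
def n202455 : Q := act 0 n115757
theorem D202455 : act 0 n115757 = n202455 := rfl
theorem F424076 : act 4 n202455 = n193732 := d20_8 (iv4 D60289) D60287 D128250 F354128 (iv1 F97615) (iv3 F182844) F182845 D202455 F390805 (iv1 D128259)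
theorem F424077 : act 6 n202455 = n138457 := d21_5 (iv5 F331546) F331544 F102404 D115757 D202455 (iv5 F405851) F405850 F331542 (iv6 F180863) (iv1 F180867)
theorem F424078 : act 7 n193728 = n202455 := d14_0 F424077 F390758 (iv6 F390756) F390750 D193728
def n202456 : Q := act 1 n115757
theorem D202456 : act 1 n115757 = n202456 := rfl
def n202457 : Q := act 1 n115760
theorem D202457 : act 1 n115760 = n202457 := rfl
def n202458 : Q := act 2 n115760
theorem D202458 : act 2 n115760 = n202458 := rfl
theorem F424079 : act 3 n202458 = n140557 := d0_2 D115760 D202458 (iv2 D140557) (iv3 D65966) (iv2 F182513)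
theorem F424080 : act 4 n202458 = n195288 := d1_2 (iv4 F180123) D202458 (iv2 F396587)
theorem F424081 : act 7 n202458 = n140543 := d4_2 (iv7 F182536) D202458 (iv2 D140543)
theorem F424082 : act 1 n202458 = n140520 := d15_0 F340492 (iv7 F182536) D202458
theorem F424083 : act 1 n202457 = n140543 := d15_1 D202457 (iv7 F424081) (iv2 D202458)
theorem F424084 : act 2 n140520 = n202457 := d15_3 F424083 (iv0 F424071) F424070
theorem F424085 : act 7 n140542 = n202457 := d15_2 F340492 D140542 (iv2 F424084)
theorem F424086 : act 2 n202453 = n140542 := d4_3 F424085 (iv2 F424084) (iv7 F424070)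
theorem F424087 : act 1 n140542 = n202458 := d15_0 F424082 (iv7 F424070) F424086
def n202459 : Q := act 6 n115760
theorem D202459 : act 6 n115760 = n202459 := rfl
theorem F424088 : act 3 n202459 = n115763 := d7_1 D202459 (iv6 D115763) D115760
theorem F424089 : act 4 n202459 = n195390 := d10_1 D202459 (iv6 D195390) (iv4 F180123)
theorem F424090 : act 5 n172563 = n202459 := d6_0 F424088 F352246 (iv3 F352241)
def n202460 : Q := act 0 n115763
theorem D202460 : act 0 n115763 = n202460 := rfl
theorem F424091 : act 6 n202460 = n154691 := d21_5 D31052 D66525 F180883 D115763 D202460 F344022 (iv1 F338946) (iv5 D141882) (iv6 D66522) (iv1 D31050)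
theorem F424092 : act 2 n139734 = n202460 := d15_3 (iv0 D202460) (iv0 F359814) F227176
theorem F424093 : act 4 n202460 = n115835 := d1_2 (iv4 F222918) F424092 F350161
theorem F424094 : act 7 n202460 = n140563 := d4_2 F227176 F424092 (iv2 F363686)
theorem F424095 : act 1 n140565 = n202460 := d15_1 F359815 F424094 (iv2 F363686)
def n202461 : Q := act 7 n115763
theorem D202461 : act 7 n115763 = n202461 := rfl
theorem F424096 : act 2 n202461 = n140565 := d4_1 D202461 (iv7 D140565) F182553
theorem F424097 : act 4 n202461 = n147059 := d11_1 D202461 F241167 (iv4 F352245)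
theorem F424098 : act 6 n202461 = n138478 := d14_1 D202461 F326243 (iv6 D65964) F182517 D115763
theorem F424099 : act 1 n140563 = n202461 := d15_1 D140563 (iv7 D202461) (iv2 F182553)
theorem F424100 : act 1 n202461 = n139734 := d15_1 F424099 (iv7 F227176) F363686
def n202462 : Q := act 2 n115765
theorem D202462 : act 2 n115765 = n202462 := rfl
theorem F424101 : act 3 n202462 = n140543 := d0_2 D115765 D202462 (iv2 D140543) (iv3 D65961) F182516
theorem F424102 : act 4 n202462 = n126156 := d1_2 (iv4 F180134) D202462 F202851
theorem F424103 : act 5 n202462 = n196794 := d2_2 F224937 D202462 (iv2 F401818)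
theorem F424104 : act 7 n202462 = n140557 := d4_2 F182554 D202462 (iv2 D140557)
theorem F424105 : act 1 n202462 = n140555 := d15_0 (iv0 D140555) F182554 D202462
theorem F424106 : act 1 n140489 = n202462 := d15_0 F424105 (iv7 F401042) F401041
def n202463 : Q := act 6 n115765
theorem D202463 : act 6 n115765 = n202463 := rfl
theorem F424107 : act 3 n202463 = n115767 := d7_1 D202463 (iv6 D115767) D115765
theorem F424108 : act 4 n202463 = n145475 := d10_1 D202463 (iv6 D145475) (iv4 F180134)
def n202464 : Q := act 5 n115767
theorem D202464 : act 5 n115767 = n202464 := rfl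
theorem F424109 : act 2 n202464 = n140553 := d2_1 D202464 (iv5 D140553) (iv2 F182541)
theorem F424110 : act 6 n202464 = n180778 := d12_2 D115767 D202464 (iv5 F364846) (iv6 D141895) F180318
theorem F424111 : act 4 n202464 = n181222 := d16_2 (iv4 F180135) D202464 (iv5 D181222) F325285 (iv5 F325288) (iv4 F310655) F310656 (iv7 F324145) F223694
theorem F424112 : act 1 n202464 = n180131 := d17_6 (iv1 F308546) (iv5 F148980) F131293 F324150 (iv4 F180135) D202464 F347417 (iv0 F360576) F231710
def n202465 : Q := act 3 n115770
theorem D202465 : act 3 n115770 = n202465 := rfl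
theorem F424113 : act 5 n202465 = n116088 := d6_2 (iv5 F180363) D202465 (iv3 D116088)
theorem F424114 : act 7 n202465 = n140572 := d8_2 (iv7 F180364) D202465 (iv3 D140572)
theorem F424115 : act 0 n202465 = n201440 := d20_4 (iv4 F358530) F338911 (iv4 F358531) D202465 (iv3 D201440) F178567 (iv1 D60010) D60011 (iv3 F340007) (iv1 F223820)
def n202466 : Q := act 4 n115771
theorem D202466 : act 4 n115771 = n202466 := rfl
theorem F424116 : act 2 n202466 = n140573 := d1_1 D202466 (iv4 D140573) F180360
theorem F424117 : act 5 n202466 = n183152 := d9_2 (iv5 F180359) D202466 F373022 F373020 F321182 (iv5 F321183) (iv4 D116089) (iv5 F180363) F358531 F358534 F358479 (iv5 D114318) F316767 (iv5 D66893) F84421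
theorem F424118 : act 6 n202466 = n184096 := d10_2 F370783 D202466 F394226
theorem F424119 : act 7 n202466 = n140576 := d11_2 F180361 D202466 (iv4 D140576)
theorem F424120 : act 0 n202466 = n184057 := d18_2 (iv1 F180145) D202466 F358530 (iv5 D140725) F101715 F180187 F84229 (iv0 F84230) D65969
def n202467 : Q := act 0 n115784
theorem D202467 : act 0 n115784 = n202467 := rfl
theorem F424121 : act 5 n202467 = n199802 := d17_1 D202467 (iv1 D199802) (iv5 D111750) D111749 (iv5 F332959) (iv0 F390553) F253226 (iv0 F373203) F373202
theorem F424122 : act 4 n202467 = n159137 := d18_3 F373204 F373202 D202467 (iv5 F341515) (iv4 F245112) (iv0 D156009) D156012 (iv0 F245117) F344818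
theorem F424123 : act 6 n202467 = n123155 := d21_5 F337429 (iv1 D53390) D53391 (iv6 F180161) D202467 (iv5 F405151) (iv1 D197641) F329074 (iv6 F349180) F349175
theorem F424124 : act 2 n124014 = n202467 := d15_3 (iv0 D202467) F405904 (iv7 F363281)
theorem F424125 : act 1 n197823 = n202467 := d15_0 (iv0 D202467) (iv7 F351232) (iv2 F405900)
theorem F424126 : act 7 n202467 = n124010 := d15_2 (iv0 F405903) F424125 F363277
theorem F424127 : act 3 n123155 = n202467 := d8_3 F424126 (iv3 D124010) (iv7 F253272)
def n202468 : Q := act 0 n115786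
theorem D202468 : act 0 n115786 = n202468 := rfl
theorem F424128 : act 3 n202468 = n154686 := d20_5 F79556 D50198 F111368 D115786 D202468 (iv4 F401147) (iv1 D196583) (iv4 F222735) (iv3 D139593) (iv1 F101923)
theorem F424129 : act 7 n140492 = n202468 := d8_0 F424128 (iv7 F399024) (iv3 F371650)
theorem F424130 : act 5 n202468 = n199501 := d13_1 F424129 F413259 (iv5 F413245)
theorem F424131 : act 6 n202468 = n140631 := d14_1 F424129 F415130 (iv6 F415115) F349744 D140492
def n202469 : Q := act 2 n115786
theorem D202469 : act 2 n115786 = n202469 := rfl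
theorem F424132 : act 3 n202469 = n190583 := d0_2 D115786 D202469 F380209 (iv3 D144272) F103522
theorem F424133 : act 4 n202469 = n152811 := d1_2 F400989 D202469 (iv2 F400993)
theorem F424134 : act 1 n202469 = n140492 := d15_0 (iv0 F400183) F400182 D202469
def n202470 : Q := act 2 n115788
theorem D202470 : act 2 n115788 = n202470 := rfl
theorem F424135 : act 4 n202470 = n188025 := d1_2 F331287 D202470 F372160
theorem F424136 : act 7 n202470 = n190583 := d4_2 F226959 D202470 F380209
theorem F424137 : act 1 n202470 = n194251 := d15_0 F392504 F226959 D202470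
theorem F424138 : act 1 n140523 = n202470 := d15_0 F424137 F392503 F367025
def n202471 : Q := act 6 n115788
theorem D202471 : act 6 n115788 = n202471 := rfl
theorem F424139 : act 3 n202471 = n115790 := d7_1 D202471 (iv6 D115790) D115788
theorem F424140 : act 4 n202471 = n194615 := d10_1 D202471 (iv6 D194615) F331287
theorem F424141 : act 1 n193542 = n202471 := d17_8 F393838 (iv5 D138260) (iv1 F168127) D116967 (iv4 F345302) (iv5 D141867) D141866 F398665 F424140
theorem F424142 : act 0 n193539 = n202471 := d18_0 F424140 F393838 (iv4 F411017) F411018 F401269 F365021 (iv4 F345302) F345306 F401482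
def n202472 : Q := act 3 n115792
theorem D202472 : act 3 n115792 = n202472 := rfl
theorem F424143 : act 5 n202472 = n138772 := d6_2 (iv5 F180167) D202472 (iv3 D138772)
theorem F424144 : act 0 n202472 = n194380 := d19_4 (iv1 F295001) D100019 (iv4 F345080) D202472 (iv5 D194380) (iv4 D103264) (iv3 D47851) (iv1 D23023) (iv5 D10862) F7372 F3326 D2040 D4959 F292945 F65729 (iv1 F292049) (iv5 D20089) D20088 D42551
theorem F424145 : act 4 n201783 = n202472 := d19_2 F372184 (iv5 F421792) (iv3 D202472) (iv1 D115792) (iv5 D53391) F40868 F20346 D12286 F20371 F317409 (iv3 F25596) (iv1 F52442) (iv5 F52443) (iv4 F55305) F55304 (iv1 F46283) F46282 D53089 D115053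
theorem F424146 : act 6 n145321 = n202472 := d12_0 F424143 (iv6 F400238) (iv5 F400241) (iv6 F207059) D145321
def n202473 : Q := act 6 n115792
theorem D202473 : act 6 n115792 = n202473 := rfl
theorem F424147 : act 2 n202473 = n123890 := d3_1 D202473 F384909 F384904
theorem F424148 : act 3 n202473 = n145321 := d7_1 D202473 F424146 (iv3 D202472)
theorem F424149 : act 4 n202473 = n192294 := d10_1 D202473 (iv6 D192294) (iv4 F345080)
theorem F424150 : act 5 n202473 = n145320 := d12_1 D202473 F400247 (iv5 D196291) F171593 (iv5 F180167)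
theorem F424151 : act 7 n202473 = n123891 := d14_2 F384890 D202473 (iv6 F364127) (iv7 F343746) (iv6 F384894)
theorem F424152 : act 0 n202473 = n123894 := d21_10 F413602 (iv1 D199811) (iv5 D111760) (iv6 D51524) (iv1 F81059) D111355 F337422 (iv1 F167846) (iv5 F180167) D202473
theorem F424153 : act 0 n123131 = n202473 := d21_4 (iv5 D85873) D85870 F304542 (iv6 F197314) (iv6 D202473) F180167 (iv1 D65161) D65162 F329735 (iv1 F195845)
def n202474 : Q := act 6 n115796
theorem D202474 : act 6 n115796 = n202474 := rfl
theorem F424154 : act 2 n202474 = n199608 := d3_1 D202474 (iv6 D199608) F343797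
theorem F424155 : act 4 n202474 = n134295 := d10_1 D202474 (iv6 F343846) F343858
theorem F424156 : act 5 n202474 = n199670 := d12_1 D202474 (iv6 F413066) (iv5 D156339) F111580 D115796
def n202475 : Q := act 2 n115797
theorem D202475 : act 2 n115797 = n202475 := rfl
theorem F424157 : act 3 n202475 = n192541 := d0_2 D115797 D202475 F387011 (iv3 D139593) F101229
theorem F424158 : act 4 n202475 = n194382 := d1_2 F219977 D202475 F393000
theorem F424159 : act 5 n202475 = n192540 := d2_2 (iv5 F362386) D202475 F387007
theorem F424160 : act 6 n202475 = n163185 := d3_2 F409564 D202475 (iv2 F409562)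
theorem F424161 : act 0 n202475 = n140462 := d20_7 (iv4 D26699) (iv1 F42792) (iv4 F53320) D74031 D155617 (iv3 F393001) (iv4 F424158) F354207 (iv3 D70349) F51718
def n202476 : Q := act 6 n115798
theorem D202476 : act 6 n115798 = n202476 := rfl
theorem F424162 : act 2 n202476 = n188710 := d3_1 D202476 F374512 F345071
theorem F424163 : act 3 n202476 = n192546 := d7_1 D202476 F387022 F345052
theorem F424164 : act 0 n202476 = n198777 := d21_4 F406031 (iv1 F168662) D115798 D202476 (iv6 D198777) (iv5 D110174) F325710 (iv5 F341344) (iv6 F360052) (iv1 F406033)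
theorem F424165 : act 5 n202476 = n192455 := d21_6 F304274 (iv1 F277356) (iv5 F195847) (iv6 F345065) (iv1 F180171) D202476 (iv1 F388283) F412934 (iv6 F412933) F198472
theorem F424166 : act 0 n202090 = n152781 := d17_2 (iv1 D202088) D202090 (iv5 D152781) (iv4 F230545) (iv5 F409190) (iv0 F424164) F424165 F388281 F422860
def n202477 : Q := act 0 n115799
theorem D202477 : act 0 n115799 = n202477 := rfl
theorem F424167 : act 5 n202477 = n140341 := d17_1 D202477 (iv1 F223449) (iv5 D108499) F79291 F38307 F163971 D53828 F163964 (iv4 F180172)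
theorem F424168 : act 4 n202477 = n134870 := d18_3 F111584 (iv4 F180172) D202477 (iv5 D134870) F168118 (iv0 D65865) F49243 D30823 D65875
theorem F424169 : act 1 n197546 = n202477 := d15_0 (iv0 D202477) (iv7 F226572) (iv2 F404763)
theorem F424170 : act 7 n202477 = n140479 := d15_2 (iv0 F423990) F424169 (iv2 F423986)
theorem F424171 : act 3 n193142 = n202477 := d8_3 F424170 F407419 (iv7 F388896)
theorem F424172 : act 6 n134204 = n202477 := d14_5 F424170 (iv6 D140479) F202605 (iv6 F226752) F226753
theorem E103855 : n192467 = n188958 := (c20_4 F404764 F167673 D140347 (iv3 F390042) (iv1 D188958) (iv3 F242856) F242858 F241823 (iv4 F388897) F424171 (iv1 F424169))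
theorem F424173 : act 3 n188958 = n140347 := (sb E103855 F390042)
theorem F424174 : act 4 n188958 = n100197 := (sb E103855 (iv4 D192467))
theorem F424175 : act 6 n188958 = n202439 := (sb E103855 (iv6 F423997))
def n202478 : Q := act 5 n115799
theorem D202478 : act 5 n115799 = n202478 := rfl
theorem F424176 : act 2 n202478 = n192456 := d2_1 D202478 F386750 F222740
theorem F424177 : act 6 n202478 = n192455 := d12_2 D115799 D202478 (iv5 F424165) (iv6 D202476) (iv5 D115798)
theorem F424178 : act 0 n202478 = n196383 := d17_2 F423989 D202478 (iv5 D196383) (iv4 F168142) D143967 (iv0 F410416) F410414 (iv0 F405452) (iv4 F423987)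
theorem F424179 : act 1 n202478 = n196381 := d17_6 D49403 D106937 F164809 F163967 (iv4 F180172) D202478 (iv5 D196381) (iv0 D106933) F78129
theorem F424180 : act 5 n202091 = n202154 := d17_1 F423083 (iv1 D202154) D202155 (iv4 F423076) (iv5 F424167) (iv0 D202477) D202478 F424179 (iv4 F423082)
theorem F424181 : act 0 n202163 = n178089 := d21_4 (iv5 D202478) D202477 F424167 (iv6 F423093) (iv6 D178089) (iv5 D84770) (iv1 F300877) D124220 (iv6 F400524) (iv1 F424179)
theorem F424182 : act 3 n202154 = n202094 := d6_1 F424180 (iv5 D202094) (iv3 F422868)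
theorem F424183 : act 2 n202091 = n202154 := d0_5 F424182 F423949 (iv3 F423947) F226970 (iv3 F422868)
theorem F424184 : act 6 n202154 = n202089 := d3_2 D202091 F424183 (iv2 D202089)
def n202479 : Q := act 5 n115806
theorem D202479 : act 5 n115806 = n202479 := rfl
theorem F424185 : act 2 n202479 = n115809 := d2_1 D202479 (iv5 D115809) (iv2 F180196)
theorem F424186 : act 3 n202479 = n139209 := d6_1 D202479 F342565 (iv3 F180197)
theorem F424187 : act 6 n202479 = n148389 := d12_2 D115806 D202479 F361077 (iv6 D116592) F175003
theorem F424188 : act 0 n202479 = n167717 := d21_1 D202479 (iv5 F360899) (iv6 F423138) (iv1 F423139) (iv6 D116375) F316289 D58439 F199918 D72077 (iv1 F318276)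
theorem F424189 : act 0 n155720 = n202479 := d21_10 (iv5 D202479) F318275 F307601 (iv6 D40097) D40094 (iv6 F303705) (iv5 F207743) F212240 (iv5 F355256) (iv6 F355259)
theorem F424190 : act 4 n202479 = n192358 := d20_0 (iv1 D192358) (iv4 F386544) F386543 F357079 F320625 F321977 (iv1 F321978) F213880 (iv3 F244731) F424189
theorem F424191 : act 2 n192358 = n153666 := d1_1 F424190 (iv4 F311564) (iv2 F424185)
theorem F424192 : act 3 n192358 = n118195 := d5_1 F424190 (iv4 F190222) F313494 D139209 (iv3 F424186)
theorem F424193 : act 6 n192358 = n118192 := d10_2 (iv6 F424187) F424190 (iv4 F319992)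
def n202480 : Q := act 4 n115807
theorem D202480 : act 4 n115807 = n202480 := rfl
theorem F424194 : act 2 n202480 = n178651 := d1_1 D202480 F278460 (iv2 F313689)
theorem F424195 : act 6 n202480 = n124956 := d10_2 (iv6 F313692) D202480 (iv4 D124956)
theorem F424196 : act 7 n202480 = n152744 := d11_2 (iv7 F313693) D202480 F239943
def n202481 : Q := act 4 n115808
theorem D202481 : act 4 n115808 = n202481 := rfl
theorem F424197 : act 2 n202481 = n152744 := d1_1 D202481 F239943 (iv2 F341167)
theorem F424198 : act 6 n202481 = n152321 := d10_2 (iv6 F341170) D202481 (iv4 D152321)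
theorem F424199 : act 7 n202481 = n178651 := d11_2 (iv7 F341171) D202481 F278460
def n202482 : Q := act 0 n115822
theorem D202482 : act 0 n115822 = n202482 := rfl
def n202483 : Q := act 1 n115822
theorem D202483 : act 1 n115822 = n202483 := rfl
def n202484 : Q := act 7 n115822
theorem D202484 : act 7 n115822 = n202484 := rfl
theorem F424200 : act 3 n202484 = n115838 := d8_1 D202484 (iv7 D115838) (iv3 F180215)
theorem F424201 : act 6 n202484 = n138561 := d14_1 D202484 F324369 (iv6 D66033) F180250 D115822
theorem F424202 : act 1 n139847 = n202484 := d15_1 (iv0 F420705) (iv7 D202484) (iv2 F226863)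
def n202485 : Q := act 3 n115824
theorem D202485 : act 3 n115824 = n202485 := rfl
theorem F424203 : act 2 n202485 = n140457 := d0_1 D202485 (iv3 D140457) (iv2 F182466) (iv3 F180221) (iv2 F180219)
theorem F424204 : act 4 n202485 = n196510 := d5_2 (iv4 F180217) D202485 F400902 (iv4 D115804) D115803
theorem F424205 : act 7 n202485 = n140724 := d8_2 F180218 D202485 (iv3 D140724)
theorem F424206 : act 0 n202485 = n198041 := d20_4 (iv4 F84885) F180282 (iv4 F180217) D202485 (iv3 F406573) F388312 (iv1 F172956) (iv4 F164686) F164685 (iv1 F84234)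
theorem F424207 : act 5 n135190 = n202485 := d17_1 (iv1 F360242) F424206 (iv5 F412695) F412694 (iv5 D120467) F191570 (iv5 F404707) (iv0 D197530) (iv4 F167932)
theorem F424208 : act 1 n202485 = n178102 := d15_1 (iv0 F424206) (iv7 F406016) (iv2 F406572)
def n202486 : Q := act 5 n115824
theorem D202486 : act 5 n115824 = n202486 := rfl
theorem F424209 : act 2 n202486 = n140727 := d2_1 D202486 (iv5 D140727) (iv2 F180219)
theorem F424210 : act 3 n202486 = n135190 := d6_1 D202486 F424207 (iv3 D202485)
theorem F424211 : act 6 n202486 = n142811 := d12_2 F348836 D202486 (iv5 D142811) D142812 F353388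
theorem F424212 : act 7 n202486 = n140725 := d13_2 F180218 D202486 (iv5 D140725)
theorem F424213 : act 0 n202486 = n116139 := d17_2 D115824 D202486 (iv5 D116139) (iv4 D53532) F180357 F84272 (iv5 D30900) F40875 D53407
theorem F424214 : act 1 n202486 = n116132 := d17_6 F321145 F320386 F318230 (iv5 F180189) (iv4 F180217) D202486 (iv5 D116132) D116130 F322867
def n202487 : Q := act 5 n115826
theorem D202487 : act 5 n115826 = n202487 := rfl
theorem F424215 : act 2 n202487 = n201317 := d2_1 D202487 F419994 F406434
theorem F424216 : act 3 n202487 = n115827 := d6_1 D202487 (iv5 D115827) D115826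
theorem F424217 : act 7 n202487 = n140731 := d13_2 (iv7 F180267) D202487 (iv5 D140731)
theorem F424218 : act 4 n202487 = n127776 := d16_2 F182940 D202487 F205414 (iv4 F161863) (iv5 F179079) (iv4 F419751) F419750 (iv7 F392998) (iv2 F392996)
theorem F424219 : act 0 n202487 = n157720 := d17_2 F388307 D202487 F331517 F164776 D143976 F331464 (iv5 D144045) F182835 (iv4 F388303)
theorem F424220 : act 1 n202487 = n157728 := d17_6 F396262 (iv5 F340496) F340495 F225392 F182940 D202487 F331516 (iv0 F400326) F400324
theorem F424221 : act 6 n202487 = n201342 := d21_3 F388305 F388307 D202487 (iv1 F420079) (iv6 D114386) F83394 F83374 (iv5 D52779) (iv6 F83354) D114328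
def n202488 : Q := act 6 n115826
theorem D202488 : act 6 n115826 = n202488 := rfl
theorem F424222 : act 3 n202488 = n115828 := d7_1 D202488 (iv6 D115828) D115826
theorem F424223 : act 0 n196763 = n202488 := d21_4 F410968 F212658 (iv5 F165355) D196763 (iv6 D202488) D202487 F424219 F331517 F340042 D199166
def n202489 : Q := act 6 n115827
theorem D202489 : act 6 n115827 = n202489 := rfl
theorem F424224 : act 2 n202489 = n140776 := d3_1 D202489 (iv6 D140776) F180279
theorem F424225 : act 3 n202489 = n201342 := d7_1 D202489 (iv6 F424221) F424216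
theorem F424226 : act 7 n202489 = n198761 := d14_2 (iv7 F180268) D202489 F412665 F412663 (iv6 D140735)
theorem F424227 : act 0 n202489 = n198762 := d21_4 F407618 (iv1 D115825) D115827 D202489 (iv6 F420162) (iv5 D201359) D201357 F420137 (iv6 F340011) F407622
theorem F424228 : act 5 n127354 = n202489 := d17_1 F406107 F424227 F409127 F170312 D126255 (iv0 F417253) (iv5 D200622) D200621 (iv4 F417248)
theorem F424229 : act 1 n202489 = n198760 := d17_6 (iv1 D52361) D52363 D113427 (iv5 F203742) D127354 F424228 (iv5 D198760) F176614 (iv4 D113422)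
def n202490 : Q := act 0 n115828
theorem D202490 : act 0 n115828 = n202490 := rfl
theorem F424230 : act 6 n202490 = n193219 := d21_5 D142011 F225046 (iv5 D115827) D115828 D202490 F389211 F351595 (iv5 D142042) (iv6 D66612) (iv1 F102505)
theorem F424231 : act 2 n140777 = n202490 := d3_3 F424230 (iv2 F389213) (iv6 F360591)
theorem F424232 : act 3 n178100 = n202490 := d7_3 F424230 F389216 F363361
theorem F424233 : act 7 n202490 = n140778 := d8_2 F304488 F424232 F390355
def n202491 : Q := act 1 n115828
theorem D202491 : act 1 n115828 = n202491 := rfl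
theorem F424234 : act 1 n202491 = n140780 := d15_1 D202491 (iv7 D140780) F180270
theorem F424235 : act 7 n202491 = n140777 := d15_2 (iv0 D202490) D202491 F424231
theorem F424236 : act 4 n202491 = n146720 := d18_7 (iv1 F105130) (iv4 F105509) (iv1 F230530) F330016 (iv5 D115837) (iv4 F180226) D202491 F243030 (iv5 D147059)
theorem F424237 : act 2 n140778 = n202491 := d1_3 F424236 (iv2 F360891) (iv4 F360894)
theorem F424238 : act 3 n202491 = n140470 := d20_3 F424097 (iv1 F243030) (iv4 F424236) (iv1 D140470) F101628 F49314 F163959 D65587 D139734 (iv1 F424100)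
theorem F424239 : act 1 n140780 = n202490 := d15_1 F424234 F424233 F424237
def n202492 : Q := act 5 n115828
theorem D202492 : act 5 n115828 = n202492 := rfl
theorem F424240 : act 2 n202492 = n140779 := d2_1 D202492 (iv5 D140779) F180270
theorem F424241 : act 6 n202492 = n127354 := d12_2 D115828 D202492 F424228 (iv6 D202489) (iv5 D115827)
theorem F424242 : act 4 n202492 = n127355 := d16_2 (iv4 F180226) D202492 F350089 F122427 D79789 (iv4 F338183) F223875 (iv7 D66065) (iv2 F180247)
theorem F424243 : act 0 n202492 = n178092 := d17_2 (iv1 D202491) D202492 (iv5 F356028) (iv4 D147065) (iv5 D68956) D68955 (iv5 F322079) F322077 (iv4 F424236)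
def n202493 : Q := act 7 n115828
theorem D202493 : act 7 n115828 = n202493 := rfl
theorem F424244 : act 2 n202493 = n140780 := d4_1 D202493 (iv7 D140780) F180270
theorem F424245 : act 4 n202493 = n115838 := d11_1 D202493 (iv7 D115838) (iv4 F180226)
theorem F424246 : act 6 n202493 = n138562 := d14_1 D202493 F324370 (iv6 D66039) F180252 D115828
theorem F424247 : act 1 n140778 = n202493 := d15_1 D140778 (iv7 D202493) (iv2 F180270)
theorem F424248 : act 1 n202493 = n140777 := d15_1 F424247 (iv7 F424235) (iv2 F424237)
def n202494 : Q := act 5 n115835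
theorem D202494 : act 5 n115835 = n202494 := rfl
theorem F424249 : act 2 n202494 = n139739 := d2_1 D202494 (iv5 D139739) (iv2 F350161)
theorem F424250 : act 3 n202494 = n139958 := d6_1 D202494 (iv5 D139958) (iv3 F350162)
theorem F424251 : act 6 n202494 = n177062 := d12_2 (iv6 F350163) D202494 (iv5 D177062) (iv6 F350151) F350150
theorem F424252 : act 7 n202494 = n140796 := d13_2 (iv7 F350164) D202494 (iv5 D140796)
theorem F424253 : act 1 n202494 = n150855 := d17_8 (iv1 F337727) (iv5 D166173) (iv1 D79787) D79789 (iv4 F338183) F223875 F180276 D202494 (iv4 F339606)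
theorem F424254 : act 0 n202494 = n142164 := d18_0 F330046 (iv1 F337732) F230045 D146720 (iv4 F424236) F424234 F223870 F180276 D202494
theorem F424255 : act 4 n201181 = n202494 := d17_9 F424254 (iv5 D142164) (iv1 F322975) (iv5 F104530) (iv4 F105414) D147439 F339607 D166491 (iv0 F419352)
def n202495 : Q := act 6 n115842
theorem D202495 : act 6 n115842 = n202495 := rfl
theorem F424256 : act 2 n202495 = n192091 := d3_1 D202495 F385502 (iv2 F218723)
theorem F424257 : act 3 n202495 = n193160 := d7_1 D202495 F388981 F220312
theorem F424258 : act 4 n202495 = n115843 := d10_1 D202495 (iv6 D115843) D115842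
theorem F424259 : act 0 n192057 = n202495 := d21_4 (iv5 F334878) F288488 F288487 D192057 (iv6 D202495) F180301 (iv1 F103041) (iv5 D31241) D31242 D67126
theorem F424260 : act 1 n192094 = n202495 := d15_0 (iv0 F424259) F385374 (iv2 F385512)
theorem F424261 : act 7 n202495 = n192092 := d15_2 (iv0 F390675) F424260 (iv2 F385509)
def n202496 : Q := act 5 n115845
theorem D202496 : act 5 n115845 = n202496 := rfl
theorem F424262 : act 2 n202496 = n140738 := d2_1 D202496 (iv5 D140738) (iv2 F180322)
theorem F424263 : act 4 n202496 = n166314 := d9_1 D202496 (iv5 D166314) (iv4 D79861) D79862 (iv4 F312838) (iv5 D138563) D138562 F412923 F412922 (iv5 D121709) (iv4 D56243) F43879 (iv4 F297929) F322679 (iv4 F180323)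
theorem F424264 : act 6 n202496 = n197757 := d12_2 D115845 D202496 (iv5 F412659) F412661 (iv5 D115844)
def n202497 : Q := act 6 n115857
theorem D202497 : act 6 n115857 = n202497 := rfl
theorem F424265 : act 3 n202497 = n115860 := d7_1 D202497 (iv6 D115860) D115857
theorem F424266 : act 4 n202497 = n187492 := d10_1 D202497 (iv6 F370563) (iv4 F182177)
theorem F424267 : act 7 n148484 = n202497 := d11_0 F424266 F370561 (iv4 F233246)
def n202498 : Q := act 4 n115868
theorem D202498 : act 4 n115868 = n202498 := rfl
theorem F424268 : act 2 n202498 = n140580 := d1_1 D202498 F366487 (iv2 F316770)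
theorem F424269 : act 5 n202498 = n140566 := d9_2 D115868 D202498 (iv4 D140566) (iv5 D65969) F49322 D30900 D66066 D140803 (iv4 F383107) F383108 (iv4 D115772) (iv5 D53384) F40865 D25877 D53419
theorem F424270 : act 6 n202498 = n188290 := d10_2 (iv6 F316771) D202498 F372973
theorem F424271 : act 7 n202498 = n140849 := d11_2 (iv7 F180379) D202498 (iv4 D140849)
theorem F424272 : act 0 n202498 = n134911 := d17_0 (iv5 F332714) (iv1 D141897) (iv5 F356696) (iv4 F373024) F373025 F180951 D142098 F225138 D202498
theorem F424273 : act 0 n189116 = n202498 := d20_7 (iv4 F229786) (iv1 F375161) F375158 (iv3 F375018) (iv1 F421698) (iv3 F421700) (iv4 F375805) (iv4 D202498) F180378 (iv1 F104895)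
def n202499 : Q := act 3 n115902
theorem D202499 : act 3 n115902 = n202499 := rfl
theorem F424274 : act 4 n202499 = n193324 := d5_2 (iv4 F180435) D202499 F389464 F222732 F167976
theorem F424275 : act 6 n202499 = n137233 := d7_2 F180439 D202499 (iv3 D137233)
theorem F424276 : act 7 n202499 = n126695 := d8_2 (iv7 F180438) D202499 F203889
theorem F424277 : act 0 n190912 = n202499 := d20_4 (iv4 F252616) F349202 (iv4 F356751) (iv3 F381530) (iv3 D202499) F180435 (iv1 F111442) (iv4 D64384) D64383 (iv1 F366272)
theorem F424278 : act 5 n137233 = n194705 := d21_6 (iv5 D48217) F291776 D97029 D190912 F424277 F424275 (iv1 D194705) (iv5 F381535) (iv6 D190913) (iv1 F292809)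
theorem F424279 : act 1 n154590 = n202499 := d15_0 (iv0 F424277) F381533 F375250
theorem F424280 : act 3 n194705 = n137234 := d6_1 F424278 (iv5 D137234) D137233
theorem F424281 : act 7 n194705 = n184337 := d13_2 (iv7 F406422) F424278 F406421
theorem F424282 : act 2 n184337 = n194704 := d15_3 (iv0 D194704) D194705 F424281
theorem F424283 : act 2 n194705 = n184338 := d15_3 F394167 F394168 (iv7 F424281)
theorem F424284 : act 7 n184338 = n194704 := d4_2 (iv7 F424281) F424283 (iv2 F424282)
theorem F424285 : act 2 n202499 = n194725 := d15_3 (iv0 D194725) (iv0 F365464) (iv7 F424276)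
def n202500 : Q := act 5 n115902
theorem D202500 : act 5 n115902 = n202500 := rfl
theorem F424286 : act 2 n202500 = n137009 := d2_1 D202500 (iv5 D137009) F180436
theorem F424287 : act 7 n202500 = n126696 := d13_2 (iv7 F180438) D202500 (iv5 D126696)
theorem F424288 : act 0 n202500 = n136541 := d17_2 D115902 D202500 (iv5 D136541) (iv4 D64192) F81361 F53497 F48758 (iv0 F111192) D53436
theorem F424289 : act 1 n202500 = n136538 := d17_6 D125466 (iv5 F201765) (iv1 F203901) F203898 (iv4 F180435) D202500 (iv5 D136538) F162114 (iv4 F92811)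
def n202501 : Q := act 4 n115904
theorem D202501 : act 4 n115904 = n202501 := rfl
theorem F424290 : act 2 n202501 = n137015 := d1_1 D202501 (iv4 D137015) (iv2 F180442)
theorem F424291 : act 6 n202501 = n137636 := d10_2 (iv6 F363006) D202501 (iv4 F346029)
theorem F424292 : act 7 n202501 = n137025 := d11_2 (iv7 F180443) D202501 (iv4 D137025)
theorem F424293 : act 5 n202501 = n140268 := d16_1 D202501 F362131 (iv5 D115375) (iv4 D53224) F48493 D63942 D135990 F218782 (iv2 F180442)
theorem F424294 : act 0 n202501 = n202125 := d18_2 (iv1 F219672) D202501 (iv4 D202125) (iv5 D115384) (iv4 D53231) (iv0 F101965) D74555 F167838 (iv5 F219671)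
theorem F424295 : act 1 n202501 = n202104 := d18_6 (iv1 D63934) F48490 F111193 D53436 D115904 D202501 F422878 F219636 (iv5 D135983)
theorem F424296 : act 3 n152768 = n202501 := d6_3 F424293 F325053 (iv5 F239977)
def n202502 : Q := act 4 n115918
theorem D202502 : act 4 n115918 = n202502 := rfl
theorem F424297 : act 2 n202502 = n134004 := d1_1 D202502 (iv4 D134004) F180477
theorem F424298 : act 3 n202502 = n145658 := d5_1 D202502 (iv4 F347243) (iv3 D137340) D137341 (iv3 F220533)
theorem F424299 : act 5 n202502 = n145651 := d9_2 F372573 D202502 F228675 (iv5 F181095) (iv4 F420581) F420582 F420467 F372570 (iv4 F180475) F353530 F201222 (iv5 F131944) (iv4 F280365) F420473 F420472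
theorem F424300 : act 7 n202502 = n134001 := d11_2 F180479 D202502 (iv4 D134001)
theorem F424301 : act 0 n202502 = n195496 := d17_0 F397148 (iv1 F349959) (iv5 F349981) F227216 D198073 F406672 (iv5 D134007) F180473 D202502
theorem F424302 : act 1 n202502 = n195477 := d18_8 (iv1 F349996) (iv4 D116199) F320126 (iv4 F162309) F364295 F215916 F180473 D202502 (iv5 F397112)
def n202503 : Q := act 6 n115918
theorem D202503 : act 6 n115918 = n202503 := rfl
theorem F424303 : act 2 n202503 = n134006 := d3_1 D202503 (iv6 D134006) F180477
theorem F424304 : act 3 n202503 = n194016 := d7_1 D202503 F391784 (iv3 F220533)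
theorem F424305 : act 0 n116279 = n202503 := d20_4 F171794 (iv1 F84530) D53597 D116279 F424304 (iv4 F391783) F365513 (iv4 F181222) (iv3 D116266) (iv1 F171797)
def n202504 : Q := act 6 n115919
theorem D202504 : act 6 n115919 = n202504 := rfl
theorem F424306 : act 2 n202504 = n134003 := d3_1 D202504 (iv6 D134003) (iv2 F180478)
theorem F424307 : act 3 n202504 = n141385 := d7_1 D202504 (iv6 D141385) F180474
theorem F424308 : act 4 n202504 = n195497 := d10_1 D202504 (iv6 D195497) F180475
theorem F424309 : act 0 n202504 = n141154 := d21_4 D198074 (iv1 F406678) F372570 D202504 (iv6 F246511) F329911 (iv1 F157780) (iv5 F349987) (iv6 D139406) (iv1 F168904)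
theorem F424310 : act 0 n141309 = n202504 := d20_7 F206656 F317974 (iv4 F396826) (iv3 D195366) (iv1 F162076) (iv3 F162140) F364299 F424308 F397151 (iv1 F349959)
theorem F424311 : act 7 n141308 = n202504 := d8_0 F424307 (iv7 F330618) F366347
theorem E103856 : n141307 = n134003 := ((c15_4 (iv0 D141307) D141308 F424311 F424306)).symm
theorem F424312 : act 1 n134003 = n66289 := (sb E103856 (iv0 D141307))
def n202505 : Q := act 6 n115920
theorem D202505 : act 6 n115920 = n202505 := rfl
theorem F424313 : act 2 n202505 = n115922 := d3_1 D202505 (iv6 D115922) D115920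
theorem F424314 : act 3 n202505 = n139288 := d7_1 D202505 (iv6 D139288) (iv3 F180481)
theorem F424315 : act 7 n202505 = n199365 := d14_2 (iv7 F180482) D202505 (iv6 D199365) F172547 (iv6 F98208)
theorem F424316 : act 1 n199382 = n202505 := d15_1 D199382 F424315 F411867
theorem F424317 : act 1 n202505 = n199381 := d15_0 (iv0 D199381) (iv7 F180488) (iv2 F424313)
def n202506 : Q := act 6 n115921
theorem D202506 : act 6 n115921 = n202506 := rfl
theorem F424318 : act 3 n202506 = n115923 := d7_1 D202506 (iv6 D115923) (iv3 F180485)
theorem F424319 : act 4 n202506 = n192796 := d10_1 D202506 (iv6 F419640) F363999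
def n202507 : Q := act 0 n115922
theorem D202507 : act 0 n115922 = n202507 := rfl
theorem F424320 : act 5 n202507 = n193437 := d21_0 (iv1 D193437) D193439 (iv6 F389827) (iv1 F365066) F349995 D198073 F406671 (iv5 D115921) D115922 D202507
theorem F424321 : act 1 n199365 = n202507 := d15_0 (iv0 D202507) F180488 (iv2 F411867)
def n202508 : Q := act 1 n115922
theorem D202508 : act 1 n115922 = n202508 := rfl
theorem F424322 : act 1 n202508 = n199365 := d15_1 D202508 (iv7 F424315) F424313
theorem F424323 : act 3 n141391 = n202508 := d20_3 F130706 D85504 (iv4 F361578) (iv1 D202508) F180487 F84337 F168226 D31325 D67393 (iv1 F319711)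
theorem F424324 : act 6 n123547 = n202508 := d21_3 F388037 (iv1 F197947) D123547 (iv1 D202508) (iv6 D115922) D115921 (iv1 F406663) (iv5 D198072) (iv6 F366484) (iv1 F388040)
def n202509 : Q := act 5 n115922
theorem D202509 : act 5 n115922 = n202509 := rfl
theorem F424325 : act 3 n202509 = n115924 := d6_1 D202509 (iv5 D115924) (iv3 F180487)
theorem F424326 : act 7 n202509 = n199383 := d13_2 (iv7 F180488) D202509 (iv5 D199383)
def n202510 : Q := act 5 n115923
theorem D202510 : act 5 n115923 = n202510 := rfl
theorem F424327 : act 2 n202510 = n136386 := d2_1 D202510 F356113 (iv2 F180489)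
theorem F424328 : act 6 n202510 = n115924 := d12_2 D115923 D202510 (iv5 D115924) (iv6 D53450) D53449
theorem F424329 : act 4 n202510 = n156056 := d16_2 F215902 D202510 F245194 F111148 (iv5 F351200) (iv4 F400477) (iv5 F412689) (iv7 D199565) (iv2 F215901)
def n202511 : Q := act 4 n115924
theorem D202511 : act 4 n115924 = n202511 := rfl
theorem F424330 : act 2 n202511 = n139308 := d1_1 D202511 (iv4 D139308) (iv2 F180490)
theorem F424331 : act 6 n202511 = n156056 := d10_2 F424328 D202511 (iv4 F424329)
theorem F424332 : act 7 n202511 = n199389 := d11_2 (iv7 F180491) D202511 (iv4 D199389)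
theorem F424333 : act 5 n202511 = n199330 := d16_1 D202511 (iv4 D199330) (iv5 D111199) F80899 F39081 (iv4 F80899) D111199 F172450 (iv2 F180490)
theorem F424334 : act 3 n202511 = n156057 := d19_3 (iv1 F172443) D115924 D202511 (iv1 F404300) D201897 F422278 (iv3 D161401) (iv1 F116313) F56173 F28160 F12867 (iv1 F9488) D12892 D26944 D55856 D121062 (iv5 F360764) (iv4 F389152) F389150
def n202512 : Q := act 5 n115927
theorem D202512 : act 5 n115927 = n202512 := rfl
theorem F424335 : act 2 n202512 = n115928 := d2_1 D202512 (iv5 D115928) D115927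
theorem F424336 : act 3 n202512 = n139410 := d6_1 D202512 (iv5 D139410) (iv3 F180493)
theorem F424337 : act 7 n202512 = n139365 := d13_2 (iv7 F180495) D202512 (iv5 D139365)
theorem F424338 : act 1 n202512 = n133975 := d17_6 D113058 D200382 F416224 (iv5 D144145) (iv4 F180494) D202512 (iv5 D133975) (iv0 D62936) (iv4 F82504)
theorem F424339 : act 1 n133979 = n202512 := d15_0 F424338 (iv7 F222477) F222475
theorem F424340 : act 0 n133980 = n116276 := d21_4 D202512 (iv1 F424339) (iv5 D133979) D133980 (iv6 F364234) (iv5 D100822) (iv1 F154872) F357491 (iv6 D139359) (iv1 F180496)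
def n202513 : Q := act 6 n115927
theorem D202513 : act 6 n115927 = n202513 := rfl
theorem F424341 : act 2 n202513 = n115929 := d3_1 D202513 (iv6 D115929) D115927
theorem F424342 : act 3 n202513 = n139411 := d7_1 D202513 (iv6 D139411) (iv3 F180493)
theorem F424343 : act 4 n202513 = n144146 := d10_1 D202513 (iv6 D144146) (iv4 F180494)
def n202514 : Q := act 4 n115928
theorem D202514 : act 4 n115928 = n202514 := rfl
theorem F424344 : act 3 n202514 = n199637 := d5_1 D202514 (iv4 D199637) (iv3 D111523) (iv4 F84342) (iv3 F180499)
theorem F424345 : act 7 n202514 = n139369 := d11_2 (iv7 F180500) D202514 (iv4 D139369)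
theorem F424346 : act 5 n194138 = n202514 := d16_1 (iv4 F392174) (iv4 D202514) (iv5 D115928) F84339 D67532 D144149 (iv5 F340910) F366236 F366237
def n202515 : Q := act 6 n115928
theorem D202515 : act 6 n115928 = n202515 := rfl
theorem F424347 : act 3 n202515 = n115930 := d7_1 D202515 (iv6 D115930) (iv3 F180499)
theorem F424348 : act 0 n188143 = n202515 := d21_4 (iv5 F375723) (iv1 F375724) (iv5 F293917) D188143 (iv6 D202515) (iv5 D115928) D115925 F357530 (iv6 F372431) (iv1 F372433)
def n202516 : Q := act 0 n115929
theorem D202516 : act 0 n115929 = n202516 := rfl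
theorem F424349 : act 6 n202516 = n138273 := d21_5 D139285 (iv1 F386895) (iv5 D115928) D115929 D202516 (iv5 F411586) (iv1 D199308) (iv5 D111180) (iv6 F98185) (iv1 F101073)
def n202517 : Q := act 1 n115929
theorem D202517 : act 1 n115929 = n202517 := rfl
def n202518 : Q := act 5 n115929
theorem D202518 : act 5 n115929 = n202518 := rfl
theorem F424350 : act 3 n202518 = n115932 := d6_1 D202518 (iv5 D115932) (iv3 F180501)
def n202519 : Q := act 0 n115930
theorem D202519 : act 0 n115930 = n202519 := rfl
def n202520 : Q := act 1 n115930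
theorem D202520 : act 1 n115930 = n202520 := rfl
theorem F424351 : act 1 n202520 = n139423 := d15_1 D202520 (iv7 D139423) (iv2 F180503)
theorem F424352 : act 6 n188411 = n202520 := d21_3 (iv5 F343848) F343859 (iv5 F373360) (iv1 D202520) (iv6 D115930) (iv5 D53452) F40918 D51102 (iv6 F337442) (iv1 F268835)
theorem F424353 : act 2 n202520 = n139421 := d3_1 F424352 (iv6 F364132) D188411
theorem F424354 : act 3 n202520 = n189010 := d7_1 F424352 (iv6 D189010) (iv3 F373358)
theorem F424355 : act 4 n202520 = n189013 := d10_1 F424352 (iv6 D189013) (iv4 F373359)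
def n202521 : Q := act 5 n115930
theorem D202521 : act 5 n115930 = n202521 := rfl
theorem F424356 : act 2 n202521 = n139422 := d2_1 D202521 (iv5 D139422) (iv2 F180503)
theorem F424357 : act 6 n202521 = n115932 := d12_2 D115930 D202521 (iv5 D115932) (iv6 D53453) D53452
def n202522 : Q := act 7 n115930
theorem D202522 : act 7 n115930 = n202522 := rfl
theorem F424358 : act 2 n202522 = n139423 := d4_1 D202522 (iv7 D139423) (iv2 F180503)
theorem F424359 : act 4 n202522 = n199642 := d11_1 D202522 (iv7 D199642) (iv4 F180504)
theorem F424360 : act 6 n202522 = n124023 := d14_1 D202522 F364224 (iv6 D65415) (iv7 F84343) D115930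
theorem F424361 : act 1 n139423 = n202519 := d15_0 (iv0 D202519) D202522 F424358
theorem F424362 : act 1 n139421 = n202522 := d15_1 D139421 (iv7 D202522) F180503
theorem F424363 : act 7 n202519 = n139421 := d15_2 F424351 F424361 (iv2 F424353)
theorem F424364 : act 3 n188414 = n202519 := d8_3 F424363 F364133 D188414
theorem F424365 : act 4 n198331 = n202519 := d11_3 F424363 F364134 (iv7 F407637)
theorem F424366 : act 6 n124005 = n202519 := d14_5 F424363 (iv6 F364132) F140495 D188374 F400484
theorem F424367 : act 2 n202519 = n139420 := d15_3 (iv0 D139420) D139421 (iv7 F424363)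
theorem F424368 : act 4 n139420 = n140710 := d1_2 F424365 F424367 (iv2 F407636)
theorem F424369 : act 7 n139420 = n202520 := d4_2 (iv7 F424363) F424367 F424353
theorem F424370 : act 1 n202522 = n139420 := d15_1 F424362 F424369 F424353
def n202523 : Q := act 3 n115931
theorem D202523 : act 3 n115931 = n202523 := rfl
theorem F424371 : act 7 n202523 = n134166 := d8_2 (iv7 F180506) D202523 F216201
theorem F424372 : act 0 n202523 = n139982 := d20_4 (iv4 F166269) (iv1 F166272) F180508 D202523 F223208 F101435 F341101 (iv4 F111682) F111681 D74418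
def n202524 : Q := act 5 n115931
theorem D202524 : act 5 n115931 = n202524 := rfl
theorem F424373 : act 2 n202524 = n139425 := d2_1 D202524 (iv5 D139425) F180507
theorem F424374 : act 7 n202524 = n134167 := d13_2 (iv7 F180506) D202524 (iv5 D134167)
theorem F424375 : act 1 n202524 = n141316 := d17_6 (iv1 F410193) F410190 (iv1 F216215) F216212 F180508 D202524 (iv5 D141316) (iv0 F227001) F222497
def n202525 : Q := act 1 n115932
theorem D202525 : act 1 n115932 = n202525 := rfl
theorem F424376 : act 1 n202525 = n139429 := d15_1 D202525 (iv7 D139429) (iv2 F180510)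
theorem F424377 : act 7 n202525 = n139426 := d15_2 F362323 D202525 F342831
theorem F424378 : act 5 n202525 = n199327 := d17_7 F168237 (iv5 F168238) (iv1 D29832) (iv5 F40921) (iv4 F84345) D115932 D202525 (iv0 F411720) F224335
theorem F424379 : act 2 n139427 = n202525 := d2_3 F424378 F411717 F222630
def n202526 : Q := act 4 n115932
theorem D202526 : act 4 n115932 = n202526 := rfl
theorem F424380 : act 2 n202526 = n139428 := d1_1 D202526 (iv4 D139428) (iv2 F180510)
def n202527 : Q := act 3 n115933
theorem D202527 : act 3 n115933 = n202527 := rfl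
theorem F424381 : act 6 n202527 = n194697 := d7_2 F385230 D202527 F394136
theorem F424382 : act 7 n202527 = n139433 := d8_2 (iv7 F360381) D202527 (iv3 D139433)
theorem F424383 : act 4 n202527 = n116998 := d20_6 (iv4 D28249) D28248 F45743 D53454 D115933 D202527 (iv1 D116998) F85043 (iv3 D30672) (iv1 F45749)
theorem F424384 : act 2 n139495 = n202527 := d1_3 F424383 F357474 (iv4 F222679)
theorem F424385 : act 0 n139497 = n202527 := d20_10 F424383 (iv1 D116998) F85043 (iv3 D30672) (iv1 F45749) D59490 F93902 D59500 D126787 (iv3 F222680)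
theorem F424386 : act 0 n202527 = n115950 := d20_1 (iv4 F424383) F180554 (iv3 D67724) D67722 D144497 F227340 (iv1 F396802) F396800 F182901 (iv1 F182917)
def n202528 : Q := act 4 n115933
theorem D202528 : act 4 n115933 = n202528 := rfl
theorem F424387 : act 2 n202528 = n139439 := d1_1 D202528 (iv4 D139439) (iv2 F360380)
theorem F424388 : act 6 n202528 = n192920 := d10_2 F385230 D202528 F388228
theorem F424389 : act 7 n202528 = n139434 := d11_2 (iv7 F360381) D202528 (iv4 D139434)
def n202529 : Q := act 3 n115934
theorem D202529 : act 3 n115934 = n202529 := rfl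
theorem F424390 : act 4 n202529 = n202131 := d5_2 F220009 D202529 (iv3 F423003) (iv4 D136787) D136786
theorem F424391 : act 6 n202529 = n192327 := d7_2 F403485 D202529 (iv3 F403481)
theorem F424392 : act 7 n202529 = n139438 := d8_2 (iv7 F360379) D202529 (iv3 D139438)
theorem F424393 : act 0 n139314 = n202529 := d18_2 F330569 (iv4 F222795) F424390 F423002 (iv4 D135729) (iv0 D63818) D63820 (iv0 F330581) F330583
theorem F424394 : act 1 n141725 = n202529 := d18_6 (iv1 D107182) F78278 F102002 D31023 D66459 D141725 F424390 F423001 (iv5 D196661)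
def n202530 : Q := act 6 n115935
theorem D202530 : act 6 n115935 = n202530 := rfl
theorem F424395 : act 2 n202530 = n115936 := d3_1 D202530 (iv6 D115936) D115935
theorem F424396 : act 3 n202530 = n139467 := d7_1 D202530 (iv6 D139467) (iv3 F180512)
theorem F424397 : act 4 n202530 = n136878 := d10_1 D202530 (iv6 D136878) (iv4 F180513)
def n202531 : Q := act 0 n115936
theorem D202531 : act 0 n115936 = n202531 := rfl
def n202532 : Q := act 1 n115936
theorem D202532 : act 1 n115936 = n202532 := rfl
def n202533 : Q := act 5 n115936
theorem D202533 : act 5 n115936 = n202533 := rfl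
theorem F424398 : act 3 n202533 = n115937 := d6_1 D202533 (iv5 D115937) (iv3 F180518)
def n202534 : Q := act 0 n115937
theorem D202534 : act 0 n115937 = n202534 := rfl
theorem F424399 : act 5 n202534 = n123275 := d17_3 (iv1 F111700) D115937 D202534 F332938 (iv5 D63069) (iv0 D29831) (iv5 F40921) F53601 (iv4 F111698)
theorem F424400 : act 6 n202534 = n120382 := d21_5 F383539 (iv1 D141228) D141229 F224254 D202534 F191767 F121514 D57862 (iv6 F198615) F383540
theorem F424401 : act 2 n122428 = n202534 := d15_3 (iv0 D202534) (iv0 F226505) (iv7 F356532)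
theorem F424402 : act 1 n139483 = n202534 := d15_0 (iv0 D202534) (iv7 F246032) F246031
theorem F424403 : act 7 n202534 = n139481 := d15_2 F226504 F424402 (iv2 F226502)
theorem F424404 : act 3 n191449 = n202534 := d8_3 F424403 F384760 F383501
def n202535 : Q := act 4 n115937
theorem D202535 : act 4 n115937 = n202535 := rfl
theorem F424405 : act 2 n202535 = n139482 := d1_1 D202535 (iv4 D139482) (iv2 F180520)
def n202536 : Q := act 3 n115938
theorem D202536 : act 3 n115938 = n202536 := rfl
theorem F424406 : act 4 n202536 = n139395 := d5_2 F228408 D202536 (iv3 F402422) (iv4 F402421) (iv3 F402419)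
theorem F424407 : act 6 n202536 = n192348 := d7_2 (iv6 F362369) D202536 F386530
theorem F424408 : act 7 n202536 = n139460 := d8_2 (iv7 F362370) D202536 (iv3 D139460)
theorem F424409 : act 0 n202536 = n139319 := d20_4 (iv4 F104312) D145366 F228408 D202536 (iv3 D139319) D139320 F375061 F375060 (iv3 F357569) (iv1 D139934)
def n202537 : Q := act 6 n115940
theorem D202537 : act 6 n115940 = n202537 := rfl
theorem F424410 : act 2 n202537 = n115941 := d3_1 D202537 (iv6 D115941) D115940
theorem F424411 : act 3 n202537 = n139443 := d7_1 D202537 (iv6 D139443) (iv3 F180522)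
theorem F424412 : act 4 n202537 = n196889 := d10_1 D202537 (iv6 D196889) (iv4 F180523)
def n202538 : Q := act 0 n115941
theorem D202538 : act 0 n115941 = n202538 := rfl
theorem F424413 : act 6 n202538 = n198686 := d21_5 D110895 (iv1 F172284) F101835 D115941 D202538 (iv5 D198686) (iv1 D109758) D109760 (iv6 F338252) (iv1 F171802)
def n202539 : Q := act 1 n115941
theorem D202539 : act 1 n115941 = n202539 := rfl
theorem F424414 : act 3 n184992 = n202539 := d20_3 F231519 F231623 (iv4 F337992) (iv1 D202539) F180535 F84353 D65914 (iv4 F168899) (iv3 F349409) D147778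
def n202540 : Q := act 5 n115941
theorem D202540 : act 5 n115941 = n202540 := rfl
theorem F424415 : act 3 n202540 = n115942 := d6_1 D202540 (iv5 D115942) (iv3 F180535)
def n202541 : Q := act 7 n115941
theorem D202541 : act 7 n115941 = n202541 := rfl
theorem F424416 : act 3 n202541 = n115943 := d8_1 D202541 (iv7 D115943) (iv3 F180535)
theorem F424417 : act 4 n202541 = n196893 := d11_1 D202541 (iv7 D196893) (iv4 F180536)
theorem F424418 : act 6 n202541 = n139475 := d14_1 D202541 (iv7 D139475) (iv6 D65455) (iv7 F84351) D115941
def n202542 : Q := act 4 n115942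
theorem D202542 : act 4 n115942 = n202542 := rfl
theorem F424419 : act 2 n202542 = n139457 := d1_1 D202542 (iv4 D139457) (iv2 F180537)
theorem F424420 : act 1 n202542 = n199358 := d18_6 (iv1 F168897) F171677 (iv1 D65915) (iv4 F84353) D115942 D202542 (iv4 D199358) F406650 F406649
def n202543 : Q := act 6 n115945
theorem D202543 : act 6 n115945 = n202543 := rfl
theorem F424421 : act 3 n202543 = n115948 := d7_1 D202543 (iv6 D115948) D115945
theorem F424422 : act 4 n202543 = n197105 := d10_1 D202543 (iv6 F403063) (iv4 F203693)
theorem F424423 : act 7 n202543 = n184995 := d14_2 (iv7 F183035) D202543 (iv6 D184995) (iv7 F336318) (iv6 D139487)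
theorem F424424 : act 5 n202543 = n154327 := d21_6 (iv5 D104128) (iv1 F75732) (iv5 F134902) D184303 (iv1 F362378) D202543 (iv1 F358791) (iv5 D174459) F332005 (iv1 F307357)
def n202544 : Q := act 6 n115946
theorem D202544 : act 6 n115946 = n202544 := rfl
theorem F424425 : act 2 n202544 = n117043 := d3_1 D202544 (iv6 D117043) (iv2 F183028)
theorem F424426 : act 3 n202544 = n124960 := d7_1 D202544 F318248 (iv3 F320392)
theorem F424427 : act 4 n202544 = n115948 := d10_1 D202544 (iv6 D115948) D115946
theorem F424428 : act 7 n202544 = n148599 := d14_2 F183030 D202544 (iv6 D148599) (iv7 F184918) F320791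
theorem F424429 : act 0 n202544 = n124932 := d21_4 D67014 (iv1 F224541) F224540 D202544 (iv6 D124932) F305703 (iv1 F232314) (iv5 F307107) F320415 F102935
theorem F424430 : act 0 n139768 = n202544 := d21_4 F322186 F278277 (iv5 F385496) F385497 (iv6 D202544) (iv5 F224540) (iv1 F224542) (iv5 D67108) D67109 (iv1 F322294)
def n202545 : Q := act 5 n115948
theorem D202545 : act 5 n115948 = n202545 := rfl
theorem F424431 : act 2 n202545 = n139504 := d2_1 D202545 (iv5 D139504) F183041
theorem F424432 : act 3 n202545 = n154327 := d6_1 D202545 (iv5 F424424) F424421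
theorem F424433 : act 7 n202545 = n185285 := d13_2 F341122 D202545 F341129
def n202546 : Q := act 0 n115950
theorem D202546 : act 0 n115950 = n202546 := rfl
theorem F424434 : act 4 n202546 = n116997 := d18_3 (iv1 D144500) (iv4 F180554) D202546 F357478 F113718 D98044 F355655 (iv0 F378567) F378565
theorem F424435 : act 2 n139433 = n202546 := d15_3 (iv0 D202546) (iv0 F424386) F424382
theorem F424436 : act 1 n139497 = n202546 := d15_0 (iv0 D202546) (iv7 F183042) D139497
theorem F424437 : act 7 n202546 = n139495 := d15_2 (iv0 F424385) F424436 F424384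
theorem F424438 : act 6 n158864 = n202546 := d10_0 F424434 F357479 D158864
def n202547 : Q := act 2 n115950
theorem D202547 : act 2 n115950 = n202547 := rfl
theorem F424439 : act 3 n202547 = n139485 := d0_2 D115950 D202547 (iv2 D139485) (iv3 D65460) F183033
theorem F424440 : act 4 n202547 = n144501 := d1_2 (iv4 F180554) D202547 (iv2 D144501)
theorem F424441 : act 7 n202547 = n139497 := d4_2 F183042 D202547 (iv2 D139497)
theorem F424442 : act 1 n202547 = n139495 := d15_0 (iv0 D139495) F183042 D202547
theorem F424443 : act 1 n139433 = n202547 := d15_0 F424442 (iv7 F424437) (iv2 F424435)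
theorem F424444 : act 1 n139515 = n199787 := d17_6 (iv1 F357564) (iv5 F357468) F355823 F355630 F181718 (iv5 F222694) F413507 F424443 F424440
def n202548 : Q := act 6 n115950
theorem D202548 : act 6 n115950 = n202548 := rfl
theorem F424445 : act 3 n202548 = n115952 := d7_1 D202548 (iv6 D115952) D115950
theorem F424446 : act 4 n202548 = n144503 := d10_1 D202548 (iv6 D144503) (iv4 F180554)
def n202549 : Q := act 5 n115952
theorem D202549 : act 5 n115952 = n202549 := rfl
theorem F424447 : act 2 n202549 = n139493 := d2_1 D202549 (iv5 D139493) (iv2 F183040)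
theorem F424448 : act 0 n202549 = n184988 := d17_2 F395975 D202549 (iv5 F363385) F185940 (iv5 F182660) (iv0 F341088) (iv5 D116022) D116021 (iv4 F395974)
theorem F424449 : act 1 n202549 = n184987 := d17_6 (iv1 F233412) F232267 (iv1 F183683) F322278 (iv4 F180555) D202549 F341093 (iv0 F348386) (iv4 D148650)
theorem F424450 : act 3 n202549 = n193803 := d20_5 F361676 D189912 (iv4 F386225) F386224 (iv1 F424449) (iv4 D193803) (iv1 F368562) F368558 F157147 D102343
theorem F424451 : act 5 n193803 = n202548 := d6_2 D202549 F424450 F424445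
theorem F424452 : act 7 n202549 = n184989 := d15_2 D184988 (iv0 F424448) (iv2 D184989)
def n202550 : Q := act 7 n115952
theorem D202550 : act 7 n115952 = n202550 := rfl
theorem F424453 : act 2 n202550 = n139494 := d4_1 D202550 (iv7 D139494) (iv2 F183040)
theorem F424454 : act 4 n202550 = n144496 := d11_1 D202550 (iv7 D144496) (iv4 F180555)
theorem F424455 : act 5 n202550 = n184989 := d13_1 D202550 (iv7 F424452) (iv5 D202549)
theorem F424456 : act 6 n202550 = n139505 := d14_1 D202550 (iv7 D139505) (iv6 D65467) (iv7 F183031) D115952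
theorem F424457 : act 1 n139392 = n202550 := d15_1 (iv0 F349408) (iv7 D202550) F183040
theorem F424458 : act 1 n202550 = n139491 := d15_1 F424457 (iv7 F395977) F395973
def n202551 : Q := act 4 n115953
theorem D202551 : act 4 n115953 = n202551 := rfl
theorem F424459 : act 2 n202551 = n115957 := d1_1 D202551 (iv4 D115957) (iv2 F180556)
theorem F424460 : act 6 n202551 = n192592 := d10_2 (iv6 F334425) D202551 F387186
theorem F424461 : act 7 n202551 = n139506 := d11_2 (iv7 F180557) D202551 (iv4 D139506)
theorem F424462 : act 5 n202551 = n140058 := d16_1 D202551 (iv4 D140058) (iv5 D65745) (iv4 D30780) (iv5 D14579) (iv4 F24190) D30694 (iv7 F84362) (iv2 F180556)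
theorem F424463 : act 0 n202551 = n139519 := d17_0 F361418 F385290 (iv5 D141204) (iv4 D66235) (iv5 D30952) D30950 (iv5 F105781) F180561 D202551
theorem F424464 : act 1 n202551 = n139518 := d18_6 (iv1 D65697) (iv4 D30768) (iv1 F40943) (iv4 F84356) D115953 D202551 F222695 (iv0 F223162) (iv5 D139932)
theorem F424465 : act 3 n193377 = n202551 := d6_3 F424462 F413433 (iv5 F389641)
def n202552 : Q := act 6 n115955
theorem D202552 : act 6 n115955 = n202552 := rfl
theorem F424466 : act 2 n202552 = n139517 := d3_1 D202552 (iv6 D139517) (iv2 F181691)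
theorem F424467 : act 4 n202552 = n116260 := d10_1 D202552 (iv6 F407556) (iv4 F407558)
theorem F424468 : act 5 n202552 = n149583 := d12_1 D202552 F356827 (iv5 D125020) F319672 (iv5 F181692)
def n202553 : Q := act 3 n115956
theorem D202553 : act 3 n115956 = n202553 := rfl
theorem F424469 : act 5 n202553 = n116249 := d6_2 (iv5 F181704) D202553 (iv3 D116249)
theorem F424470 : act 7 n202553 = n139515 := d8_2 (iv7 F181705) D202553 (iv3 D139515)
def n202554 : Q := act 4 n115956
theorem D202554 : act 4 n115956 = n202554 := rfl
theorem F424471 : act 2 n202554 = n135166 := d1_1 D202554 F350364 (iv2 F181703)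
theorem F424472 : act 7 n202554 = n139516 := d11_2 (iv7 F181705) D202554 (iv4 D139516)
theorem F424473 : act 0 n202554 = n191754 := d18_2 (iv1 F180565) D202554 (iv4 F388433) (iv5 D139930) F101420 F180708 F84355 F84359 D65468
theorem F424474 : act 6 n135164 = n202554 := d21_3 (iv5 F405045) (iv1 F405046) F404651 F424473 (iv6 D191754) (iv5 D98892) (iv1 F92428) D125111 F327317 D135069
theorem F424475 : act 3 n202554 = n191804 := d7_1 F424474 F389672 (iv3 F389673)
def n202555 : Q := act 6 n115956
theorem D202555 : act 6 n115956 = n202555 := rfl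
theorem F424476 : act 2 n202555 = n135165 := d3_1 D202555 F350365 (iv2 F181703)
theorem F424477 : act 4 n202555 = n135164 := d10_1 D202555 F424474 (iv4 D202554)
def n202556 : Q := act 0 n115957
theorem D202556 : act 0 n115957 = n202556 := rfl
theorem F424478 : act 4 n202556 = n116284 := d18_3 (iv1 D115956) D115957 D202556 (iv5 D116284) (iv4 D53600) (iv0 D25954) (iv4 F41011) D53582 (iv5 F181704)
theorem F424479 : act 1 n139506 = n202556 := d15_0 (iv0 D202556) F180566 (iv2 F222683)
theorem F424480 : act 2 n139519 = n202556 := d1_3 F424478 F181262 F223160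
theorem F424481 : act 7 n139518 = n202556 := d11_0 F424478 F181263 (iv4 F222695)
def n202557 : Q := act 1 n115957
theorem D202557 : act 1 n115957 = n202557 := rfl
theorem F424482 : act 1 n202557 = n139506 := d15_1 D202557 (iv7 F424461) F424459
theorem F424483 : act 7 n202557 = n139519 := d15_2 (iv0 D202556) D202557 F424480
theorem F424484 : act 4 n116296 = n202557 := d20_6 F80590 (iv1 F81059) (iv4 F98211) D134012 (iv1 F423521) F423517 (iv1 D202557) (iv4 D115957) F84361 (iv1 F80592)
theorem F424485 : act 2 n202557 = n139518 := d1_1 F424484 F222695 (iv2 F181285)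
theorem F424486 : act 5 n202557 = n191785 := d16_1 F424484 F384422 (iv5 F359688) (iv4 D116032) (iv5 F181689) D53600 D116284 F181263 (iv2 F181285)
theorem F424487 : act 1 n191785 = n193001 := d17_6 D139938 F223169 (iv1 F102994) D116296 F424484 F424486 F388484 F224208 (iv4 D139940)
def n202558 : Q := act 5 n115957
theorem D202558 : act 5 n115957 = n202558 := rfl
theorem F424488 : act 2 n202558 = n140058 := d2_1 D202558 (iv5 F424462) F424459
theorem F424489 : act 7 n202558 = n139520 := d13_2 (iv7 F180566) D202558 (iv5 D139520)
theorem F424490 : act 4 n202558 = n140011 := d16_2 D115957 D202558 (iv5 D140011) (iv4 D65727) (iv5 D30776) (iv4 F49138) D65468 (iv7 F180557) F180556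
theorem F424491 : act 6 n202558 = n191752 := d21_3 (iv5 F424486) (iv1 D202557) D202558 (iv1 F384360) (iv6 F384362) (iv5 D188768) F177370 D101084 D193001 (iv1 F424487)
def n202559 : Q := act 6 n115957
theorem D202559 : act 6 n115957 = n202559 := rfl
theorem F424492 : act 2 n202559 = n192592 := d3_1 D202559 (iv6 F424460) F424459
theorem F424493 : act 4 n202559 = n115958 := d10_1 D202559 (iv6 D115958) D115957
theorem F424494 : act 5 n202559 = n191746 := d12_1 D202559 F384332 D191752 (iv6 F424491) (iv5 D202558)
theorem F424495 : act 7 n202559 = n192565 := d14_2 (iv7 F180566) D202559 F387095 F365355 (iv6 D139521)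
theorem F424496 : act 1 n140059 = n202559 := d15_1 F366714 F424495 F387094
theorem F424497 : act 0 n192591 = n202559 := d17_2 F387088 F402780 F424494 (iv4 D191746) D191747 (iv0 F384339) F154487 F154421 D192563
def n202560 : Q := act 3 n115960
theorem D202560 : act 3 n115960 = n202560 := rfl
theorem F424498 : act 2 n202560 = n124682 := d0_1 D202560 F199451 F92126 (iv3 F109472) (iv2 F327044)
theorem F424499 : act 4 n202560 = n158840 := d5_2 (iv4 F320763) D202560 (iv3 F348117) F247493 (iv3 F314642)
theorem F424500 : act 5 n202560 = n124679 := d6_2 (iv5 F327045) D202560 F199450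
theorem F424501 : act 6 n202560 = n138305 := d7_2 (iv6 F320764) D202560 (iv3 D138305)
theorem F424502 : act 0 n202560 = n158864 := d20_10 (iv4 D158864) D158862 (iv4 F356153) D192858 (iv1 F388039) (iv3 F397555) F397556 F233203 (iv4 F320763) D202560
theorem F424503 : act 0 n158696 = n202560 := d21_4 (iv5 D87913) (iv1 F157774) D183920 (iv6 F356147) F424501 F396191 F396189 (iv5 F416281) (iv6 F416282) (iv1 D184320)
def n202561 : Q := act 2 n115967
theorem D202561 : act 2 n115967 = n202561 := rfl
theorem F424504 : act 3 n202561 = n192975 := d0_2 D115967 D202561 (iv2 F388402) (iv3 D145419) F104324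
theorem F424505 : act 4 n202561 = n137206 := d1_2 (iv4 F180574) D202561 (iv2 D137206)
theorem F424506 : act 5 n202561 = n123226 := d2_2 (iv5 F328882) D202561 F197517
theorem F424507 : act 7 n202561 = n123225 := d4_2 (iv7 F328883) D202561 F197516
theorem F424508 : act 1 n202561 = n123241 := d15_0 (iv0 D123241) (iv7 F328883) D202561
theorem F424509 : act 1 n123242 = n202561 := d15_0 F424508 (iv7 F364469) F366686
theorem F424510 : act 6 n123239 = n141170 := d21_3 F424506 (iv1 F197519) D123239 (iv1 D141170) (iv6 D66218) (iv5 F81284) D111739 F395998 (iv6 F364749) (iv1 F424508)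
def n202562 : Q := act 6 n115967
theorem D202562 : act 6 n115967 = n202562 := rfl
theorem F424511 : act 3 n202562 = n115969 := d7_1 D202562 (iv6 D115969) D115967
theorem F424512 : act 4 n202562 = n137208 := d10_1 D202562 (iv6 D137208) (iv4 F180574)
theorem F424513 : act 7 n202562 = n138292 := d14_2 (iv7 F328883) D202562 (iv6 D138292) (iv7 F111662) F328881
theorem F424514 : act 5 n202562 = n137907 := d21_6 (iv5 F173436) (iv1 F410215) F410217 (iv6 F403485) F403483 D202562 F221166 (iv5 F221287) F353580 (iv1 F171616)
def n202563 : Q := act 6 n115977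
theorem D202563 : act 6 n115977 = n202563 := rfl
theorem F424515 : act 2 n202563 = n192859 := d3_1 D202563 (iv6 D192859) F356152
theorem F424516 : act 3 n202563 = n115979 := d7_1 D202563 (iv6 D115979) D115977
theorem F424517 : act 4 n202563 = n199702 := d10_1 D202563 F413174 F402399
theorem F424518 : act 5 n202563 = n134957 := d12_1 D202563 F365362 (iv5 D101474) D101475 (iv5 F329507)
theorem F424519 : act 7 n202563 = n138277 := d14_2 F356135 D202563 (iv6 D138277) (iv7 F111655) (iv6 F356134)
def n202564 : Q := act 1 n115992
theorem D202564 : act 1 n115992 = n202564 := rfl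
theorem F424520 : act 1 n202564 = n177176 := d15_1 D202564 (iv7 F357276) F228405
theorem F424521 : act 7 n202564 = n195609 := d15_2 F333344 D202564 F397587
theorem F424522 : act 5 n202564 = n131251 := d17_7 F247957 F247958 (iv1 F340994) F340995 D131613 (iv5 F333343) D202564 F215347 F215344
theorem F424523 : act 4 n202564 = n145478 := d17_9 (iv1 D145478) D145479 F362765 (iv5 D175030) (iv4 F322782) (iv5 F211145) (iv0 F227763) (iv5 F333343) D202564
theorem F424524 : act 6 n153692 = n202564 := d21_3 F339622 (iv1 F360592) (iv5 F306652) (iv1 D202564) (iv6 D115992) (iv5 F181538) F204483 (iv5 D59718) D59719 D127210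
theorem F424525 : act 2 n202564 = n139901 := d3_1 F424524 (iv6 F366105) (iv2 F241560)
theorem F424526 : act 3 n202564 = n166049 := d7_1 F424524 (iv6 F339145) F339142
theorem F424527 : act 3 n145478 = n196906 := d20_3 (iv4 F357275) (iv1 F424520) F424523 (iv1 D196906) F165752 F78385 F38202 (iv4 F79050) (iv3 F167316) (iv1 F357277)
theorem F424528 : act 6 n196906 = n153691 := d7_2 (iv6 F360599) F424527 (iv3 D153691)
theorem F424529 : act 4 n193854 = n196906 := d10_3 F424528 F363853 D193854
def n202565 : Q := act 5 n115994
theorem D202565 : act 5 n115994 = n202565 := rfl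
theorem F424530 : act 2 n202565 = n139932 := d2_1 D202565 (iv5 D139932) F205136
theorem F424531 : act 3 n202565 = n192049 := d6_1 D202565 F385339 F220058
theorem F424532 : act 6 n202565 = n192037 := d12_2 (iv6 F322921) D202565 F385313 (iv6 F349197) (iv5 D160071)
theorem F424533 : act 7 n202565 = n139930 := d13_2 F205138 D202565 (iv5 D139930)
theorem F424534 : act 0 n202565 = n116296 := d17_2 D115994 D202565 (iv5 D116296) (iv4 D53605) (iv5 F181672) F84384 (iv5 D30776) F40940 D53473
theorem F424535 : act 1 n202565 = n116284 := d17_6 F102870 (iv5 F318916) (iv1 D76654) D76655 (iv4 F322920) D202565 (iv5 D116284) (iv0 F103067) (iv4 D67107)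
def n202566 : Q := act 5 n115995
theorem D202566 : act 5 n115995 = n202566 := rfl
theorem F424536 : act 2 n202566 = n139930 := d2_1 D202566 (iv5 D139930) (iv2 F205133)
theorem F424537 : act 3 n202566 = n134009 := d6_1 D202566 F353543 (iv3 F182982)
theorem F424538 : act 7 n202566 = n139932 := d13_2 (iv7 F205137) D202566 (iv5 D139932)
theorem F424539 : act 0 n202566 = n116284 := d17_2 (iv1 F180620) D202566 (iv5 D116284) (iv4 D53600) F181689 (iv0 D53483) (iv5 D25908) D25906 D53478
theorem F424540 : act 1 n202566 = n116296 := d17_6 (iv1 F102979) F320542 F321940 (iv5 F321946) F182976 D202566 (iv5 D116296) F102994 (iv4 D67013)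
def n202567 : Q := act 2 n115996
theorem D202567 : act 2 n115996 = n202567 := rfl
theorem F424541 : act 3 n202567 = n139351 := d0_2 D115996 D202567 (iv2 F222571) (iv3 D65718) (iv2 F180651)
theorem F424542 : act 4 n202567 = n196918 := d1_2 (iv4 F180621) D202567 (iv2 D196918)
theorem F424543 : act 7 n202567 = n139935 := d4_2 F180683 D202567 (iv2 D139935)
theorem F424544 : act 1 n202567 = n139356 := d15_0 (iv0 F222579) F180683 D202567
theorem F424545 : act 1 n139934 = n202567 := d15_0 F424544 (iv7 F402180) F402177
def n202568 : Q := act 6 n115996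
theorem D202568 : act 6 n115996 = n202568 := rfl
theorem F424546 : act 3 n202568 = n115998 := d7_1 D202568 (iv6 D115998) D115996
theorem F424547 : act 4 n202568 = n196919 := d10_1 D202568 (iv6 D196919) (iv4 F180621)
def n202569 : Q := act 6 n115997
theorem D202569 : act 6 n115997 = n202569 := rfl
theorem F424548 : act 2 n202569 = n139984 := d3_1 D202569 (iv6 D139984) F180696
def n202570 : Q := act 1 n115998
theorem D202570 : act 1 n115998 = n202570 := rfl
theorem F424549 : act 1 n202570 = n139988 := d15_1 D202570 (iv7 D139988) F180687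
theorem F424550 : act 7 n202570 = n139985 := d15_2 (iv0 F330624) D202570 (iv2 F348291)
theorem F424551 : act 4 n193352 = n202570 := d20_0 (iv1 D202570) F180622 (iv3 F180614) (iv1 F333344) F201240 (iv4 F130600) F322568 (iv4 F323725) (iv3 F233351) F389547
theorem F424552 : act 2 n202570 = n139986 := d1_1 F424551 (iv4 F361510) (iv2 F389543)
theorem F424553 : act 6 n202570 = n195601 := d10_2 (iv6 F389545) F424551 F397545
theorem F424554 : act 3 n202570 = n139417 := d20_3 (iv4 F341133) F389547 F424551 (iv1 D139417) F101152 F49134 F26147 (iv4 F53591) (iv3 F111681) D156481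
def n202571 : Q := act 5 n115998
theorem D202571 : act 5 n115998 = n202571 := rfl
theorem F424555 : act 2 n202571 = n139987 := d2_1 D202571 (iv5 D139987) F180687
def n202572 : Q := act 4 n116007
theorem D202572 : act 4 n116007 = n202572 := rfl
theorem F424556 : act 2 n202572 = n140008 := d1_1 D202572 (iv4 D140008) F180688
theorem F424557 : act 6 n202572 = n170027 := d10_2 (iv6 F332433) D202572 (iv4 D170027)
theorem F424558 : act 5 n202572 = n193353 := d17_5 (iv1 F313268) F312216 F332413 D116007 D202572 (iv0 D193353) (iv5 D101495) F332407 (iv4 F129402)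
theorem F424559 : act 0 n202572 = n157603 := d17_0 (iv5 F349694) F403427 (iv5 D197182) F166779 D107924 F366298 (iv5 F366297) F357373 D202572
theorem F424560 : act 1 n202572 = n192005 := d18_6 F389547 F424551 (iv1 D202570) F180622 D116007 D202572 F385169 (iv0 F252458) (iv5 F233352)
def n202573 : Q := act 6 n116010
theorem D202573 : act 6 n116010 = n202573 := rfl
theorem F424561 : act 2 n202573 = n139799 := d3_1 D202573 (iv6 D139799) F180632
theorem F424562 : act 3 n202573 = n140714 := d7_1 D202573 (iv6 D140714) (iv3 F180635)
theorem F424563 : act 4 n202573 = n139634 := d10_1 D202573 (iv6 D139634) (iv4 F180631)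
theorem F424564 : act 5 n202573 = n140714 := d12_1 D202573 (iv6 D140714) D140713 F323314 F180634
theorem F424565 : act 7 n202573 = n152831 := d14_2 F180633 D202573 (iv6 D152831) (iv7 F323311) (iv6 D139969)
theorem F424566 : act 0 n116054 = n202573 := d21_4 (iv5 F313367) F131875 F315000 (iv6 F327175) (iv6 D202573) (iv5 F180634) (iv1 F223256) F223254 (iv6 F321206) (iv1 D108237)
theorem F424567 : act 1 n140914 = n202573 := d15_0 (iv0 F424566) (iv7 F351436) (iv2 F348825)
def n202574 : Q := act 0 n116014
theorem D202574 : act 0 n116014 = n202574 := rfl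
theorem F424568 : act 6 n202574 = n177034 := d21_5 D115641 (iv1 F181549) F181550 D116014 D202574 (iv5 D177034) (iv1 F333732) D84430 (iv6 F321208) (iv1 F179966)
theorem F424569 : act 5 n202574 = n177031 := d21_0 F348721 D177141 (iv6 F423704) (iv1 D202347) (iv6 D115642) D115641 (iv1 F181549) F181550 D116014 D202574
theorem F424570 : act 2 n139842 = n202574 := d2_3 F424569 F276449 F364631
theorem F424571 : act 0 n202574 = n177173 := d21_10 (iv5 F341009) F404568 (iv5 D197491) (iv6 D108239) (iv1 F245502) D156725 (iv5 F351468) F333733 D177034 (iv6 F424568)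
def n202575 : Q := act 1 n116014
theorem D202575 : act 1 n116014 = n202575 := rfl
theorem F424572 : act 1 n202575 = n177173 := d15_1 D202575 (iv7 F393580) F393577
theorem F424573 : act 7 n202575 = n139842 := d15_2 (iv0 D202574) D202575 F424570
theorem F424574 : act 6 n145056 = n202575 := d21_3 F422791 F243209 D145056 (iv1 D202575) (iv6 D116014) (iv5 F181550) F181548 (iv5 D115624) D115625 F422792
theorem F424575 : act 3 n202575 = n139819 := d7_1 F424574 F318732 (iv3 F228001)
theorem F424576 : act 5 n202575 = n146014 := d12_1 F424574 (iv6 D146014) F228003 (iv6 D145057) D145056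
theorem F424577 : act 4 n202575 = n139642 := d20_6 F79951 (iv1 F39913) (iv4 F49214) (iv3 F101378) (iv1 F223015) (iv3 F424575) (iv1 D139642) F101271 F49194 D30731
def n202576 : Q := act 5 n116014
theorem D202576 : act 5 n116014 = n202576 := rfl
theorem F424578 : act 2 n202576 = n170405 := d2_1 D202576 (iv5 F393578) F393577
theorem F424579 : act 3 n202576 = n116022 := d6_1 D202576 (iv5 D116022) (iv3 F180755)
theorem F424580 : act 6 n202576 = n170402 := d12_2 D116014 D202576 F352582 (iv6 D141469) F181550
theorem F424581 : act 0 n197491 = n202576 := d21_10 (iv5 D202576) D202574 F424569 (iv6 D177031) F129499 (iv6 F315992) (iv5 D60303) D60300 F205207 (iv6 F404544)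
theorem F424582 : act 1 n201050 = n202576 := d15_0 (iv0 F424581) F404545 (iv2 F418892)
def n202577 : Q := act 7 n116014
theorem D202577 : act 7 n116014 = n202577 := rfl
theorem F424583 : act 2 n202577 = n177173 := d4_1 D202577 (iv7 F393580) F393577
theorem F424584 : act 3 n202577 = n116023 := d8_1 D202577 (iv7 D116023) (iv3 F180755)
theorem F424585 : act 6 n202577 = n139980 := d14_1 D202577 (iv7 D139980) (iv6 D65717) (iv7 F180646) D116014
theorem F424586 : act 1 n202577 = n139842 := d15_0 (iv0 F393581) F393580 (iv2 F424583)
def n202578 : Q := act 6 n116015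
theorem D202578 : act 6 n116015 = n202578 := rfl
theorem F424587 : act 2 n202578 = n199015 := d3_1 D202578 (iv6 D199015) (iv2 F222573)
theorem F424588 : act 3 n202578 = n116017 := d7_1 D202578 (iv6 D116017) D116015
theorem F424589 : act 5 n202578 = n185177 := d21_6 (iv5 D101197) (iv1 F143950) F339894 (iv6 D139353) F180757 D202578 (iv1 D185177) D185178 F287517 F348535
theorem F424590 : act 6 n119640 = n185177 := d12_4 (iv6 D202578) F363775 (iv6 D152774) (iv5 F188682) (iv5 F424589)
theorem F424591 : act 4 n185177 = n119641 := d10_1 F424590 (iv6 D119641) D119640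
theorem F424592 : act 0 n139382 = n202578 := d20_4 (iv4 F171672) (iv1 F171676) (iv4 F171677) D139382 F424588 F180762 (iv1 F341082) D144394 F227158 (iv1 F168888)
def n202579 : Q := act 1 n116017
theorem D202579 : act 1 n116017 = n202579 := rfl
theorem F424593 : act 1 n202579 = n139945 := d15_1 D202579 (iv7 D139945) (iv2 F180761)
theorem F424594 : act 7 n202579 = n139942 := d15_2 F396341 D202579 (iv2 F396338)
theorem F424595 : act 4 n202579 = n146619 := d18_7 (iv1 F183691) (iv4 F420829) F420833 F339442 (iv5 D116022) (iv4 F180762) D202579 (iv0 F363466) F363469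
theorem F424596 : act 2 n139943 = n202579 := d1_3 F424595 (iv2 F333258) F334971
def n202580 : Q := act 5 n116017
theorem D202580 : act 5 n116017 = n202580 := rfl
theorem F424597 : act 2 n202580 = n139944 := d2_1 D202580 (iv5 D139944) (iv2 F180761)
theorem F424598 : act 3 n202580 = n185177 := d6_1 D202580 (iv5 F424589) F424588
def n202581 : Q := act 7 n116017
theorem D202581 : act 7 n116017 = n202581 := rfl
theorem F424599 : act 2 n202581 = n139945 := d4_1 D202581 (iv7 D139945) (iv2 F180761)
theorem F424600 : act 4 n202581 = n116023 := d11_1 D202581 (iv7 D116023) (iv4 F180762)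
theorem F424601 : act 6 n202581 = n139988 := d14_1 D202581 (iv7 D139988) (iv6 D65720) (iv7 F180654) D116017
theorem F424602 : act 1 n139943 = n202581 := d15_1 D139943 (iv7 D202581) F180761
theorem F424603 : act 1 n202581 = n139942 := d15_1 F424602 (iv7 F424594) (iv2 F424596)
def n202582 : Q := act 3 n116024
theorem D202582 : act 3 n116024 = n202582 := rfl
theorem F424604 : act 2 n202582 = n117686 := d0_1 D202582 (iv3 D117686) F85538 (iv3 F84385) (iv2 F180773)
theorem F424605 : act 4 n202582 = n140802 := d5_2 D116024 D202582 (iv3 D140802) (iv4 D66066) (iv3 F84377)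
theorem F424606 : act 6 n202582 = n117605 := d7_2 (iv6 F322682) D202582 (iv3 D117605)
theorem F424607 : act 7 n202582 = n140010 := d8_2 (iv7 F180774) D202582 (iv3 D140010)
theorem F424608 : act 0 n202582 = n118756 := d19_4 (iv1 F40943) D53481 D116024 D202582 F361655 (iv4 F373016) F373015 F356662 (iv5 D114318) F316767 F102748 (iv1 F166932) F84799 (iv4 F78397) (iv3 F80714) (iv1 F80719) (iv5 F166900) (iv4 F50034) (iv3 D30767)
theorem F424609 : act 0 n118752 = n202582 := d20_4 (iv4 F206189) F311873 D147593 (iv3 F314119) (iv3 D202582) (iv4 D116024) (iv1 F84379) D65740 D140043 F316668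
def n202583 : Q := act 5 n116024
theorem D202583 : act 5 n116024 = n202583 := rfl
theorem F424610 : act 2 n202583 = n116042 := d2_1 D202583 (iv5 D116042) (iv2 F180773)
theorem F424611 : act 4 n202583 = n139520 := d9_1 D202583 (iv5 D139520) (iv4 D65472) (iv5 D30694) F24190 D14579 D30780 D65745 D140058 (iv5 F424462) (iv4 D202551) (iv5 D115953) F84356 D53481 D116024
theorem F424612 : act 7 n202583 = n140011 := d13_2 (iv7 F180774) D202583 (iv5 D140011)
theorem F424613 : act 0 n202583 = n140057 := d17_2 (iv1 F180776) D202583 F223266 (iv4 F181319) (iv5 F181595) D117041 F321946 (iv0 F321940) F318912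
theorem F424614 : act 1 n202583 = n140056 := d17_6 F181587 (iv5 D30769) (iv1 F40943) D53481 D116024 D202583 F223265 (iv0 D116320) (iv4 D53612)
def n202584 : Q := act 3 n116032
theorem D202584 : act 3 n116032 = n202584 := rfl
theorem F424615 : act 2 n202584 = n195194 := d0_1 D202584 (iv3 F396193) F347997 (iv3 D140043) (iv2 F181687)
theorem F424616 : act 4 n202584 = n201465 := d5_2 D116032 D202584 (iv3 D201465) (iv4 F253014) F316589
theorem F424617 : act 5 n202584 = n191780 := d6_2 (iv5 F359688) D202584 F384417
theorem F424618 : act 6 n202584 = n187118 := d7_2 F359687 D202584 (iv3 D187118)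
theorem F424619 : act 7 n202584 = n140034 := d8_2 (iv7 F181688) D202584 (iv3 D140034)
theorem F424620 : act 0 n202584 = n153331 := d19_4 D25954 F181689 D116032 D202584 F355662 (iv4 D139291) F101075 (iv1 F93908) (iv5 D59491) (iv4 D28249) F22641 (iv1 F22561) F20486 F19109 F19002 (iv1 F8240) F5456 D5843 D12312
theorem F424621 : act 1 n202584 = n195196 := d15_1 (iv0 F424620) (iv7 D195196) (iv2 F240902)
def n202585 : Q := act 6 n116036
theorem D202585 : act 6 n116036 = n202585 := rfl
theorem F424622 : act 2 n202585 = n170051 := d3_1 D202585 F354092 (iv2 F205293)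
theorem F424623 : act 3 n202585 = n116039 := d7_1 D202585 (iv6 D116039) D116036
theorem F424624 : act 4 n202585 = n144347 := d10_1 D202585 (iv6 F337703) F182039
theorem F424625 : act 5 n202585 = n133747 := d12_1 D202585 F344125 (iv5 F351497) (iv6 D116295) (iv5 F181676)
theorem F424626 : act 0 n202585 = n147679 := d21_10 F332125 (iv1 F317485) D81719 D170465 F403562 (iv6 D195545) (iv5 D105687) (iv1 F179963) (iv5 F181676) D202585
theorem F424627 : act 1 n202585 = n147684 := d15_1 (iv0 F424626) (iv7 F344142) (iv2 F344147)
theorem F424628 : act 7 n202585 = n148553 := d15_2 (iv0 F332124) (iv0 F424626) F337677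
def n202586 : Q := act 5 n116037
theorem D202586 : act 5 n116037 = n202586 := rfl
theorem F424629 : act 2 n202586 = n140035 := d2_1 D202586 (iv5 D140035) (iv2 F181678)
theorem F424630 : act 7 n202586 = n140044 := d13_2 (iv7 F181679) D202586 (iv5 D140044)
theorem F424631 : act 0 n202586 = n191787 := d17_2 F320213 D202586 F384431 (iv4 F223183) (iv5 D67108) (iv0 F102978) F320542 F235333 (iv4 F114980)
theorem F424632 : act 1 n202586 = n191786 := d17_6 (iv1 F181586) (iv5 D30990) (iv1 F41021) (iv5 F181672) D116037 D202586 F384424 F343186 (iv4 D65704)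
theorem F424633 : act 6 n191790 = n202586 := d14_5 F424630 F359692 F294859 D98922 D191790
def n202587 : Q := act 6 n116037
theorem D202587 : act 6 n116037 = n202587 := rfl
theorem F424634 : act 2 n202587 = n140036 := d3_1 D202587 (iv6 D140036) (iv2 F181678)
theorem F424635 : act 4 n202587 = n116039 := d10_1 D202587 (iv6 D116039) D116037
theorem F424636 : act 7 n202587 = n148554 := d14_2 (iv7 F181679) D202587 F360915 F286031 F337100
theorem F424637 : act 5 n202587 = n192609 := d21_6 F106195 (iv1 F74053) F74050 D76652 F320213 D202587 (iv1 F387236) (iv5 D160077) (iv6 D76660) (iv1 F106197)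
def n202588 : Q := act 5 n116040
theorem D202588 : act 5 n116040 = n202588 := rfl
theorem F424638 : act 2 n202588 = n140054 := d2_1 D202588 (iv5 D140054) (iv2 F181671)
theorem F424639 : act 3 n202588 = n148051 := d6_1 D202588 (iv5 D148051) (iv3 F322082)
theorem F424640 : act 6 n202588 = n189101 := d12_2 (iv6 F356789) D202588 F375754 (iv6 F391748) F391747
theorem F424641 : act 7 n202588 = n140051 := d13_2 F181702 D202588 (iv5 D140051)
theorem F424642 : act 0 n202588 = n141438 := d17_2 D116040 D202588 (iv5 D141438) (iv4 D66359) (iv5 D30990) F41017 F181689 (iv0 D53483) D53485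
theorem F424643 : act 1 n202588 = n116322 := d17_6 F182977 (iv5 D31238) D31234 D67105 F181670 D202588 (iv5 D116322) D116321 (iv4 F181319)
def n202589 : Q := act 3 n116041
theorem D202589 : act 3 n116041 = n202589 := rfl
theorem F424644 : act 4 n202589 = n142375 := d5_2 F181694 D202589 (iv3 D142375) (iv4 D66766) (iv3 F102623)
theorem F424645 : act 7 n202589 = n140053 := d8_2 (iv7 F181700) D202589 (iv3 D140053)
theorem F424646 : act 0 n120301 = n202589 := d20_4 F350732 (iv1 D76829) (iv4 F87628) (iv3 F191560) (iv3 D202589) (iv4 F181694) F181271 D67187 (iv3 F321947) (iv1 F197547)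
def n202590 : Q := act 5 n116041
theorem D202590 : act 5 n116041 = n202590 := rfl
theorem F424647 : act 2 n202590 = n140051 := d2_1 D202590 (iv5 D140051) (iv2 F181701)
theorem F424648 : act 7 n202590 = n140054 := d13_2 (iv7 F181700) D202590 (iv5 D140054)
theorem F424649 : act 4 n202590 = n116257 := d16_2 F181694 D202590 (iv5 F407555) (iv4 F407558) F181692 (iv4 F84533) D67105 (iv7 F321951) F318911
theorem F424650 : act 0 n202590 = n116322 := d17_2 (iv1 F180792) D202590 (iv5 D116322) (iv4 D53612) (iv5 D25957) D25955 (iv5 F181672) F84384 D65727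
theorem F424651 : act 1 n202590 = n141438 := d17_6 (iv1 F323720) (iv5 D142350) (iv1 D66753) D66755 F181694 D202590 (iv5 D141438) F181316 F323724
theorem F424652 : act 6 n116256 = n202590 := d10_0 F424649 (iv6 D116257) D116256
def n202591 : Q := act 6 n116041
theorem D202591 : act 6 n116041 = n202591 := rfl
theorem F424653 : act 2 n202591 = n140052 := d3_1 D202591 (iv6 D140052) (iv2 F181701)
theorem F424654 : act 4 n202591 = n142352 := d10_1 D202591 (iv6 D142352) F181694
theorem F424655 : act 7 n202591 = n148526 := d14_2 (iv7 F181700) D202591 F356858 F349358 (iv6 D140055)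
theorem F424656 : act 0 n143494 = n202591 := d21_4 D160114 (iv1 F366558) (iv5 D143493) D143494 (iv6 D202591) D202590 F424650 (iv5 D116322) (iv6 F319684) F185064
theorem F424657 : act 1 n117846 = n202591 := d18_6 D105919 F191321 F190223 (iv4 F186900) F315621 (iv4 F184790) F424654 F342591 (iv5 F314153)
def n202592 : Q := act 4 n116042
theorem D202592 : act 4 n116042 = n202592 := rfl
theorem F424658 : act 2 n202592 = n139520 := d1_1 D202592 (iv4 F424611) F424610
theorem F424659 : act 5 n202592 = n139506 := d9_2 D116042 D202592 (iv4 D139506) (iv5 D65468) F49138 D30776 D65727 D140011 (iv4 F424490) (iv5 D202558) (iv4 D115957) (iv5 D53461) F40930 D25908 D53485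
theorem F424660 : act 7 n202592 = n140058 := d11_2 (iv7 F180795) D202592 (iv4 D140058)
def n202593 : Q := act 6 n116042
theorem D202593 : act 6 n116042 = n202593 := rfl
theorem F424661 : act 3 n202593 = n117697 := d7_1 D202593 (iv6 D117697) (iv3 F180794)
theorem F424662 : act 5 n202593 = n143475 := d12_1 D202593 (iv6 D143475) (iv5 D67204) (iv6 F320919) D116042
def n202594 : Q := act 6 n116045
theorem D202594 : act 6 n116045 = n202594 := rfl
theorem F424663 : act 2 n202594 = n140833 := d3_1 D202594 (iv6 D140833) (iv2 F320910)
theorem F424664 : act 5 n202594 = n133777 := d12_1 D202594 F333284 (iv5 F333283) (iv6 D137895) (iv5 F320913)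
theorem F424665 : act 7 n202594 = n149340 := d14_2 (iv7 F318767) D202594 (iv6 D149340) (iv7 F234073) (iv6 F235098)
theorem F424666 : act 0 n202594 = n150387 := d21_4 (iv5 D64813) D64810 (iv5 F320913) D202594 (iv6 F309258) F183405 (iv1 F334912) (iv5 F334916) (iv6 F334918) F177261
theorem F424667 : act 0 n122602 = n202594 := d21_4 F115131 F305913 D118655 (iv6 F196373) (iv6 D202594) F320913 (iv1 F100661) D64832 (iv6 F320782) F188378
def n202595 : Q := act 5 n116050
theorem D202595 : act 5 n116050 = n202595 := rfl
theorem F424668 : act 2 n202595 = n191743 := d2_1 D202595 F384323 (iv2 F362449)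
theorem F424669 : act 3 n202595 = n153869 := d6_1 D202595 F241764 (iv3 F342380)
theorem F424670 : act 6 n202595 = n153867 := d12_2 F362452 D202595 (iv5 F349318) (iv6 F161508) (iv5 F229944)
theorem F424671 : act 7 n202595 = n177806 := d13_2 (iv7 F362447) D202595 F351774
theorem F424672 : act 4 n202595 = n124359 := d16_2 D116050 D202595 (iv5 F388242) F388241 (iv5 F364512) (iv4 F363125) (iv5 D116056) F326375 F325518
theorem F424673 : act 0 n202595 = n191742 := d18_0 (iv4 F384309) (iv1 D154065) F109457 D72964 (iv4 F327046) (iv0 F232947) (iv4 F244608) F362448 D202595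
theorem F424674 : act 1 n202595 = n191741 := d15_1 (iv0 F424673) (iv7 F384314) (iv2 F384311)
def n202596 : Q := act 0 n116051
theorem D202596 : act 0 n116051 = n202596 := rfl
theorem F424675 : act 5 n202596 = n199998 := d17_3 D53487 D116051 D202596 F414544 F386506 F197564 (iv5 F327050) (iv0 D115959) F84364
theorem F424676 : act 6 n202596 = n166052 := d21_5 F334905 F183263 D146632 (iv6 F342381) D202596 (iv5 F307962) (iv1 F334085) F390671 (iv6 F393511) (iv1 F393515)
theorem F424677 : act 2 n140976 = n202596 := d15_3 (iv0 D202596) (iv0 F342379) F228727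
theorem F424678 : act 1 n116056 = n202596 := d15_0 (iv0 D202596) F361191 (iv2 F327178)
theorem F424679 : act 3 n202596 = n140888 := d0_2 D140976 F424677 (iv2 F350116) F226591 F103296
def n202597 : Q := act 4 n116051
theorem D202597 : act 4 n116051 = n202597 := rfl
theorem F424680 : act 5 n202597 = n191744 := d9_2 D116051 D202597 (iv4 D191744) (iv5 D98878) (iv4 F152439) (iv5 F351773) (iv4 D116055) D116056 F363125 F364512 (iv4 F388241) F388242 (iv4 F424672) (iv5 D202595) (iv4 D116050)
def n202598 : Q := act 5 n116054
theorem D202598 : act 5 n116054 = n202598 := rfl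
theorem F424681 : act 2 n202598 = n142134 := d2_1 D202598 (iv5 F351418) F351421
theorem F424682 : act 3 n202598 = n116056 := d6_1 D202598 (iv5 D116056) D116054
theorem F424683 : act 6 n202598 = n142131 := d12_2 (iv6 F327175) D202598 F356226 (iv6 D175154) F315000
theorem F424684 : act 4 n202598 = n155965 := d16_2 F351445 D202598 (iv5 D155965) (iv4 F163185) (iv5 F166052) F166051 (iv5 F351440) F351442 F351443
theorem F424685 : act 0 n202598 = n199928 := d18_0 (iv4 D199928) F174338 (iv4 F339855) (iv5 F316908) F339854 (iv0 F351407) (iv4 F424563) (iv0 F424566) D202598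
def n202599 : Q := act 4 n116058
theorem D202599 : act 4 n116058 = n202599 := rfl
theorem F424686 : act 7 n202599 = n140901 := d11_2 (iv7 F348038) D202599 (iv4 D140901)
theorem F424687 : act 0 n202599 = n198692 := d17_0 F408896 (iv1 D192925) (iv5 F364512) (iv4 F363125) (iv5 D116056) (iv0 F318715) (iv5 F205946) (iv0 F348036) D202599
theorem F424688 : act 0 n198604 = n202599 := d20_1 (iv4 F408490) (iv4 D202599) F348037 (iv1 F101735) F49356 F24318 (iv1 F19018) D24672 D50664 (iv1 F209608)
def n202600 : Q := act 5 n116060
theorem D202600 : act 5 n116060 = n202600 := rfl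
theorem F424689 : act 3 n202600 = n193426 := d6_1 D202600 (iv5 D193426) F353386
theorem F424690 : act 6 n202600 = n138007 := d12_2 (iv6 F320751) D202600 (iv5 D138007) (iv6 D64862) (iv5 F169581)
theorem F424691 : act 4 n202600 = n143404 := d16_2 D116060 D202600 F349509 F152876 D99293 F327594 (iv5 F205946) (iv7 F348042) F180780
def n202601 : Q := act 6 n116081
theorem D202601 : act 6 n116081 = n202601 := rfl
theorem F424692 : act 2 n202601 = n141848 := d3_1 D202601 (iv6 D141848) (iv2 F349722)
theorem F424693 : act 4 n202601 = n201934 := d10_1 D202601 (iv6 D201934) F180852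
theorem F424694 : act 0 n202601 = n116106 := d21_4 (iv5 F224960) (iv1 F224964) F345332 D202601 (iv6 F405156) (iv5 F412430) (iv1 F413243) (iv5 F413245) (iv6 D140492) (iv1 F180102)
theorem F424695 : act 0 n202137 = n202601 := d21_4 (iv5 D140352) F168498 D197737 F423017 (iv6 D202601) (iv5 F345332) (iv1 D140501) (iv5 D65945) D65946 (iv1 F351250)
theorem F424696 : act 5 n195898 = n202601 := d21_8 F345288 D135184 F349747 F415115 (iv1 D200124) (iv6 F398655) (iv5 D195900) D195898 (iv6 D202601) (iv1 D116081)
def n202602 : Q := act 0 n116084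
theorem D202602 : act 0 n116084 = n202602 := rfl
theorem F424697 : act 5 n202602 = n196390 := d17_3 (iv1 F168123) D116084 D202602 (iv4 D196390) (iv5 D106937) (iv0 D49403) F37775 F163962 D31338
theorem F424698 : act 3 n202602 = n196847 := d20_5 (iv4 F168111) (iv1 F103301) (iv4 F111751) (iv3 F345295) D202602 (iv4 D196847) (iv1 D107389) (iv4 F164788) F164787 D106933
theorem F424699 : act 2 n141868 = n202602 := d15_3 (iv0 D202602) (iv0 F226582) F226581
theorem F424700 : act 1 n134868 = n202602 := d15_0 (iv0 D202602) F345298 F345292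
theorem F424701 : act 7 n202602 = n141869 := d15_2 F226583 F424700 (iv2 F226580)
def n202603 : Q := act 3 n116085
theorem D202603 : act 3 n116085 = n202603 := rfl
theorem F424702 : act 6 n202603 = n196673 := d7_2 (iv6 F339933) D202603 F401435
theorem F424703 : act 7 n202603 = n141855 := d8_2 (iv7 F331557) D202603 (iv3 D141855)
theorem F424704 : act 0 n202603 = n141815 := d20_4 (iv4 F102661) D142469 F225384 D202603 (iv3 D141815) D141816 F390054 (iv4 F400418) F400415 (iv1 D142013)
theorem F424705 : act 4 n202603 = n126822 := d20_6 F46307 (iv1 D28712) F40972 D53504 D116085 D202603 (iv1 D126822) F93939 (iv3 D30820) (iv1 F37768)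
theorem F424706 : act 7 n126822 = n134719 := d11_2 (iv7 F424703) F424705 (iv4 F224899)
theorem F424707 : act 2 n134719 = n126821 := d15_3 (iv0 D126821) D126822 F424706
theorem F424708 : act 2 n126822 = n134718 := d15_3 (iv0 D134718) D134719 (iv7 F424706)
theorem F424709 : act 7 n134718 = n126821 := d4_2 (iv7 F424706) F424708 (iv2 F424707)
def n202604 : Q := act 3 n116086
theorem D202604 : act 3 n116086 = n202604 := rfl
theorem F424710 : act 7 n202604 = n141860 := d8_2 (iv7 F331554) D202604 (iv3 D141860)
theorem F424711 : act 0 n202604 = n141872 := d20_4 F400324 F396262 F340497 D202604 (iv3 F371987) (iv4 F371993) (iv1 F225612) (iv4 D106906) D106905 F400327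
theorem F424712 : act 0 n116088 = n202604 := d20_4 (iv4 F181463) F181461 (iv4 D116089) D116088 (iv3 D202604) (iv4 F340497) (iv1 D142470) F102661 (iv3 D66597) D66595
theorem F424713 : act 2 n202604 = n141871 := d15_3 F401812 (iv0 F401811) (iv7 F424710)
def n202605 : Q := act 6 n116086
theorem D202605 : act 6 n116086 = n202605 := rfl
theorem F424714 : act 2 n202605 = n141858 := d3_1 D202605 (iv6 D141858) (iv2 F331552)
theorem F424715 : act 7 n202605 = n141960 := d14_2 (iv7 F331554) D202605 F382003 (iv7 F204322) F339932
theorem F424716 : act 0 n202605 = n141833 := d21_4 (iv5 F224977) (iv1 F331563) (iv5 F331553) D202605 F342475 (iv5 F342472) F342473 F175348 F339988 (iv1 F180116)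
theorem F424717 : act 1 n202605 = n141961 := d15_0 F392748 F392745 (iv2 F424714)
def n202606 : Q := act 1 n116088
theorem D202606 : act 1 n116088 = n202606 := rfl
theorem F424718 : act 1 n202606 = n141872 := d15_1 D202606 (iv7 F401810) F401808
theorem F424719 : act 7 n202606 = n141871 := d15_2 (iv0 F424712) D202606 (iv2 F424713)
theorem F424720 : act 2 n141860 = n202606 := d4_3 F424719 (iv2 F424713) F424710
theorem F424721 : act 6 n202606 = n199212 := d3_2 (iv6 F396684) F424720 F411187
theorem F424722 : act 0 n196627 = n199211 := d21_4 (iv5 F424113) F424115 (iv5 F424068) F424069 F411186 (iv5 D111076) D111074 D199212 (iv6 F424721) (iv1 D202606)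
def n202607 : Q := act 6 n116088
theorem D202607 : act 6 n116088 = n202607 := rfl
theorem F424723 : act 3 n202607 = n116090 := d7_1 D202607 (iv6 D116090) D116088
theorem F424724 : act 4 n202607 = n145653 := d10_1 D202607 F404006 (iv4 F180869)
theorem F424725 : act 5 n163137 = n202607 := d16_1 D163137 F424724 (iv5 F414456) (iv4 D199981) (iv5 D112135) F326490 D78431 (iv7 F350819) F350817
def n202608 : Q := act 5 n116099
theorem D202608 : act 5 n116099 = n202608 := rfl
theorem F424726 : act 4 n202608 = n198608 := d9_1 D202608 F408509 (iv4 F357988) F147544 F314855 F105406 (iv4 F110083) D154736 (iv4 F382089) (iv5 D191069) (iv4 D97206) (iv5 D45423) (iv4 F71136) D96666 F350001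
theorem F424727 : act 6 n194594 = n202608 := d21_5 F294324 (iv1 F153815) F294719 D103848 D194594 (iv5 D202608) (iv1 D116099) D116100 F365134 (iv1 F294323)
def n202609 : Q := act 0 n116100
theorem D202609 : act 0 n116100 = n202609 := rfl
theorem F424728 : act 5 n202609 = n156316 := d17_3 (iv1 D116099) D116100 D202609 F366688 F199619 (iv0 F231217) F230861 (iv0 F308550) F350001
theorem F424729 : act 4 n202609 = n199889 := d18_1 D202609 (iv1 F413994) F391521 F363393 (iv4 D154738) (iv0 D73381) (iv4 F110083) (iv0 F349998) D116100
theorem F424730 : act 6 n202609 = n199222 := d21_5 (iv5 F294497) (iv1 D91277) D91279 (iv6 F365134) D202609 F411226 (iv1 D194557) (iv5 D103767) F75500 D48069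
theorem F424731 : act 3 n196676 = n202609 := d7_3 F424730 F411224 F401452
theorem F424732 : act 7 n199189 = n202609 := d14_0 F424730 (iv7 D199222) (iv6 D111083) (iv7 F172251) D199189
def n202610 : Q := act 1 n116100
theorem D202610 : act 1 n116100 = n202610 := rfl
theorem F424733 : act 4 n202610 = n199890 := d17_9 (iv1 D199890) (iv5 D111963) (iv1 F340704) D191069 F382089 (iv5 D154736) (iv0 F349998) D116100 D202610
theorem F424734 : act 3 n196338 = n202610 := d19_19 (iv1 D202610) (iv5 D116100) F84430 F40991 D25933 (iv5 F314554) (iv4 F41112) F318239 (iv1 F41098) (iv5 D26005) (iv4 F40838) (iv3 F83998) (iv1 F362204) D201931 F422419 F386490 F386491 (iv5 F340046) (iv4 F400388)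
theorem F424735 : act 6 n196336 = n202610 := d21_3 (iv5 D116857) D116855 F400378 (iv1 D202610) F365134 (iv5 D91279) D91276 F294499 D103839 F363552
theorem F424736 : act 2 n202610 = n199189 := d3_1 F424735 (iv6 D199189) (iv2 F400374)
theorem F424737 : act 0 n196338 = n147515 := d19_4 (iv1 F174515) (iv5 F414000) (iv4 F424733) (iv3 F424734) F357300 F165391 (iv3 F165387) D196788 F401801 F223443 F204237 (iv1 F321545) F316250 (iv4 F56506) (iv3 F322538) (iv1 F39355) (iv5 F38659) (iv4 F79980) (iv3 F169678)
def n202611 : Q := act 7 n116100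
theorem D202611 : act 7 n116100 = n202611 := rfl
theorem F424738 : act 3 n202611 = n116115 := d8_1 D202611 (iv7 D116115) (iv3 F180891)
theorem F424739 : act 4 n202611 = n199154 := d11_1 D202611 F410915 F373309
theorem F424740 : act 5 n202611 = n116101 := d13_1 D202611 (iv7 D116101) D116100
theorem F424741 : act 1 n199189 = n202611 := d15_1 (iv0 F411096) (iv7 D202611) (iv2 F373456)
def n202612 : Q := act 3 n116102
theorem D202612 : act 3 n116102 = n202612 := rfl
theorem F424742 : act 2 n202612 = n126162 := d0_1 D202612 F202860 F93294 (iv3 F165064) F351296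
theorem F424743 : act 5 n202612 = n126159 := d6_2 (iv5 F351297) D202612 F202859
theorem F424744 : act 6 n202612 = n198233 := d7_2 (iv6 F342495) D202612 (iv3 D198233)
theorem F424745 : act 7 n202612 = n138455 := d8_2 F373409 D202612 (iv3 F373411)
def n202613 : Q := act 1 n116104
theorem D202613 : act 1 n116104 = n202613 := rfl
theorem F424746 : act 1 n202613 = n198333 := d15_1 D202613 F407647 F400233
theorem F424747 : act 7 n202613 = n125494 := d15_2 (iv0 F345412) D202613 F362344
theorem F424748 : act 5 n202613 = n180792 := d17_7 (iv1 F351118) (iv5 F351117) (iv1 F351196) F351197 F331073 D116104 D202613 (iv0 D180792) (iv4 F351121)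
theorem F424749 : act 3 n125497 = n202613 := d19_19 (iv1 D202613) (iv5 D116104) (iv4 F331073) (iv3 D90916) (iv1 F139622) F139623 (iv4 D42532) (iv3 F66007) D90809 F362399 (iv4 F387806) F387805 (iv1 D139589) (iv5 D65509) (iv4 D30703) D30702 (iv1 F111254) (iv5 F111466) (iv4 F201845)
theorem F424750 : act 6 n196430 = n202613 := d21_3 (iv5 F363569) (iv1 F410555) F410552 (iv1 D202613) F180895 (iv5 D53513) D53511 D116108 F415068 (iv1 D200113)
theorem F424751 : act 2 n202613 = n198332 := d3_1 F424750 (iv6 F413590) F413589
theorem F424752 : act 4 n202613 = n156149 := d5_2 (iv4 F201845) F424749 F245389 F111482 (iv3 F111465)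
def n202614 : Q := act 4 n116104
theorem D202614 : act 4 n116104 = n202614 := rfl
theorem F424753 : act 2 n202614 = n202301 := d1_1 D202614 F423551 F400233
theorem F424754 : act 3 n202614 = n202336 := d5_1 D202614 F423677 F373304 F140467 F365133
theorem F424755 : act 6 n202614 = n116114 := d10_2 (iv6 F180895) D202614 (iv4 D116114)
def n202615 : Q := act 0 n116106
theorem D202615 : act 0 n116106 = n202615 := rfl
theorem F424756 : act 5 n202615 = n195899 := d17_1 D202615 (iv1 D195899) D195900 F400953 F400950 (iv0 F165173) D115502 (iv0 F180737) F364943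
theorem F424757 : act 4 n202615 = n201940 := d18_3 (iv1 F180738) F364943 D202615 (iv5 D201940) F220501 (iv0 F401349) (iv4 D196651) (iv0 D107175) D107178
theorem F424758 : act 3 n198033 = n196312 := d20_3 F424757 F422472 F423028 (iv1 D196312) F164750 (iv4 F94993) F180900 (iv4 D116107) D116106 D202615
theorem F424759 : act 1 n202137 = n202615 := d15_0 (iv0 D202615) (iv7 F400251) (iv2 F423016)
theorem F424760 : act 7 n202615 = n141848 := d15_2 (iv0 F424695) F424759 (iv2 F424692)
theorem F424761 : act 6 n141950 = n202615 := d21_3 (iv5 F389402) (iv1 F381933) (iv5 F381929) (iv1 F424759) (iv6 F423017) (iv5 D197737) F168497 (iv5 F223572) (iv6 F377745) D193286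
theorem F424762 : act 5 n196312 = n138115 := d6_2 F406983 F424758 F406987
theorem F424763 : act 6 n196312 = n198028 := d7_2 D198033 F424758 F406557
def n202616 : Q := act 5 n116106
theorem D202616 : act 5 n116106 = n202616 := rfl
theorem F424764 : act 3 n202616 = n116108 := d6_1 D202616 (iv5 D116108) D116106
theorem F424765 : act 6 n202616 = n196619 := d12_2 F405156 D202616 (iv5 F401230) (iv6 F412431) F412430
theorem F424766 : act 7 n202616 = n198235 := d13_2 F400251 D202616 F407303
theorem F424767 : act 4 n202616 = n195467 := d16_2 F364943 D202616 F397072 (iv4 F172016) (iv5 F180732) F165766 D115400 (iv7 F182527) F182526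
theorem F424768 : act 1 n202616 = n196623 := d17_6 (iv1 D115405) (iv5 D53239) D53236 D115396 F364943 D202616 F401237 F423058 (iv4 D202148)
def n202617 : Q := act 4 n116108
theorem D202617 : act 4 n116108 = n202617 := rfl
theorem F424769 : act 5 n202617 = n136792 := d16_1 D202617 (iv4 D136792) (iv5 F350340) F326054 F207325 F172148 D116110 (iv7 F400245) F400243
theorem F424770 : act 0 n202617 = n156084 := d17_0 (iv5 F422304) F422306 (iv5 F401375) F401374 F331824 (iv0 F216237) (iv5 F407684) F407686 D202617
theorem F424771 : act 1 n202617 = n202160 := d18_8 (iv1 F224170) (iv4 D136144) (iv1 F224168) (iv4 F84002) (iv5 F176353) (iv4 F407683) F407686 D202617 F423092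
theorem F424772 : act 6 n202617 = n202139 := d21_3 F400309 (iv1 F400312) (iv5 F424769) (iv1 D202139) (iv6 D115401) D115400 F180741 (iv5 D107178) D107179 (iv1 F400311)
theorem F424773 : act 4 n202139 = n200113 := d10_1 F424772 (iv6 F415068) D202617
theorem F424774 : act 2 n139664 = n202139 := d1_3 F424773 F415069 F228358
def n202618 : Q := act 2 n116109
theorem D202618 : act 2 n116109 = n202618 := rfl
theorem F424775 : act 3 n202618 = n202137 := d0_2 D116109 D202618 F423016 (iv3 D196292) (iv2 F172151)
theorem F424776 : act 5 n202618 = n128802 := d2_2 F353085 D202618 F227031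
theorem F424777 : act 7 n202618 = n196674 := d4_2 F400239 D202618 (iv2 F401438)
theorem F424778 : act 1 n202618 = n127086 := d15_0 (iv0 F400240) F400239 D202618
theorem F424779 : act 1 n127081 = n202618 := d15_0 F424778 F204331 (iv2 F204321)
def n202619 : Q := act 6 n116109
theorem D202619 : act 6 n116109 = n202619 := rfl
theorem F424780 : act 3 n202619 = n116111 := d7_1 D202619 (iv6 D116111) D116109
theorem F424781 : act 5 n202619 = n199262 := d12_1 D202619 (iv6 D199262) F172329 (iv6 F227029) F353085
theorem F424782 : act 0 n202619 = n196996 := d21_4 (iv5 D144316) D144314 F353085 D202619 (iv6 D196996) (iv5 D107517) F83904 D52006 (iv6 F163639) (iv1 F227041)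
def n202620 : Q := act 4 n116110
theorem D202620 : act 4 n116110 = n202620 := rfl
theorem F424783 : act 3 n202620 = n135729 := d5_1 D202620 (iv4 D135729) (iv3 F165682) (iv4 F227028) (iv3 F353084)
theorem F424784 : act 5 n202620 = n136787 := d9_2 D116110 D202620 (iv4 D136787) (iv5 F350332) (iv4 F410357) F410358 (iv4 D116107) D116108 D202617 F424769 (iv4 D136792) (iv5 F350340) F326054 F207325 F172148
theorem F424785 : act 0 n202620 = n202160 := d17_0 F423092 (iv1 F224170) (iv5 F401366) F401365 F331819 F216239 (iv5 F415105) (iv0 F415107) D202620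
theorem F424786 : act 1 n202620 = n156084 := d18_6 (iv1 F216748) (iv4 F220935) (iv1 F220938) F172148 D116110 D202620 (iv4 F407715) (iv0 F407718) (iv5 D196295)
def n202621 : Q := act 3 n116112
theorem D202621 : act 3 n116112 = n202621 := rfl
theorem F424787 : act 2 n202621 = n195901 := d0_1 D202621 F398656 F163640 (iv3 F165217) F331823
theorem F424788 : act 4 n202621 = n196597 := d5_2 (iv4 F331830) D202621 (iv3 F401200) (iv4 F423184) F423182
theorem F424789 : act 5 n202621 = n156309 := d6_2 (iv5 F180902) D202621 F245631
theorem F424790 : act 7 n202621 = n195897 := d8_2 F331820 D202621 F398648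
theorem F424791 : act 0 n202621 = n195899 := d19_4 F219199 D136173 (iv4 F331830) D202621 (iv5 F424756) F424757 F422471 (iv1 F364942) (iv5 D115302) F84025 (iv3 D30293) (iv1 F45759) (iv5 F45760) (iv4 F45761) (iv3 F93864) D126737 F233516 D126828 F219198
theorem F424792 : act 6 n140627 = n202621 := d14_5 F424790 (iv6 D195897) F163629 D107251 (iv7 F363140)
theorem F424793 : act 0 n195898 = n202621 := d17_2 F424695 (iv5 F424696) F424789 (iv4 F400946) F400943 (iv0 D107175) D107178 (iv0 F180741) D202137
def n202622 : Q := act 6 n116112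
theorem D202622 : act 6 n116112 = n202622 := rfl
theorem F424794 : act 2 n202622 = n195913 := d3_1 D202622 F398706 F331823
theorem F424795 : act 3 n202622 = n140627 := d7_1 D202622 F424792 (iv3 D202621)
theorem F424796 : act 4 n202622 = n202248 := d10_1 D202622 F423395 (iv4 F331830)
theorem F424797 : act 5 n202622 = n138763 := d12_1 D202622 (iv6 D138763) F100931 D74350 (iv5 F180902)
theorem F424798 : act 7 n202622 = n195909 := d14_2 F331820 D202622 (iv6 D195909) F163675 D107197
theorem F424799 : act 0 n202622 = n195911 := d21_4 F400583 F214872 (iv5 F180902) D202622 (iv6 F413597) F413594 F424153 F424150 F400247 (iv1 F400585)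
theorem F424800 : act 1 n137648 = n202257 := d17_6 F424799 F413598 F405154 (iv5 D196404) F164832 D137648 (iv5 D202257) F423396 (iv4 F424796)
theorem F424801 : act 0 n156145 = n202258 := d21_4 F245367 (iv1 D74277) D74279 D156145 (iv6 D202258) D202257 (iv1 F424800) (iv5 D137648) (iv6 F110969) D155983
theorem F424802 : act 0 n195910 = n202622 := d19_0 F424797 F221902 F365137 D136814 F220019 F218607 F167119 (iv1 F166958) (iv5 F175025) (iv4 F332135) (iv3 F350696) F346950 F346945 (iv4 F346949) F150018 (iv1 F334488) (iv5 F320990) D194531 (iv3 F398699)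
def n202623 : Q := act 6 n116115
theorem D202623 : act 6 n116115 = n202623 := rfl
theorem F424803 : act 2 n202623 = n175024 := d3_1 D202623 (iv6 F364949) (iv2 F364938)
theorem F424804 : act 5 n202623 = n141978 := d12_1 D202623 (iv6 D141978) F102411 (iv6 F84432) (iv5 F180903)
theorem F424805 : act 0 n196876 = n202623 := d21_4 (iv5 D109129) D109127 (iv5 F351079) D196876 (iv6 D202623) F180903 (iv1 F164722) D196293 F400255 (iv1 F324504)
def n202624 : Q := act 5 n116116
theorem D202624 : act 5 n116116 = n202624 := rfl
theorem F424806 : act 3 n202624 = n116117 := d6_1 D202624 (iv5 D116117) D116116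
theorem F424807 : act 6 n202624 = n145352 := d21_3 F400373 F400372 D202624 (iv1 D145352) (iv6 D68148) (iv5 F78206) F180531 (iv5 D49589) D49590 D107341
theorem F424808 : act 5 n188884 = n145352 := d12_5 (iv6 F424807) (iv5 D202624) (iv6 F405166) (iv5 F419633) F419631
theorem F424809 : act 0 n196803 = n202624 := d21_4 F388206 F384768 D193498 (iv6 F401851) F424807 (iv5 F424808) (iv1 D188884) D188885 F375132 D192915
theorem F424810 : act 0 n202624 = n197455 := d20_4 F415104 F416787 F416788 (iv3 F424806) F404413 F167301 F165686 (iv4 F227028) (iv3 F353084) F415107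
def n202625 : Q := act 1 n116117
theorem D202625 : act 1 n116117 = n202625 := rfl
theorem F424811 : act 1 n202625 = n116123 := d15_1 D202625 (iv7 F400265) F400264
theorem F424812 : act 7 n202625 = n198351 := d15_2 F413651 D202625 (iv2 F413648)
theorem F424813 : act 5 n202625 = n134204 := d17_7 (iv1 F163955) F163957 F98795 (iv5 D53518) D53517 D116117 D202625 (iv0 D134204) (iv4 D63046)
theorem F424814 : act 3 n145381 = n202625 := d20_9 (iv4 F416788) (iv1 D200509) (iv4 F407683) F407682 D200505 (iv3 F416764) F276669 (iv1 F341035) (iv4 F348827) (iv1 D202625)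
theorem F424815 : act 4 n202625 = n202052 := d5_2 (iv4 F348827) F424814 (iv3 D202052) D202053 F422810
theorem F424816 : act 6 n202625 = n145378 := d7_2 D145381 F424814 (iv3 D145378)
def n202626 : Q := act 6 n116117
theorem D202626 : act 6 n116117 = n202626 := rfl
theorem F424817 : act 3 n202626 = n145352 := d7_1 D202626 (iv6 F424807) F424806
theorem F424818 : act 5 n202626 = n123882 := d12_1 D202626 F405175 (iv5 D197645) F167858 D116117
def n202627 : Q := act 4 n116120
theorem D202627 : act 4 n116120 = n202627 := rfl
theorem F424819 : act 2 n202627 = n137320 := d1_1 D202627 (iv4 D137320) (iv2 F180910)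
theorem F424820 : act 6 n202627 = n126536 := d10_2 (iv6 F180913) D202627 F203453
theorem F424821 : act 7 n202627 = n137319 := d11_2 (iv7 F180912) D202627 (iv4 D137319)
theorem F424822 : act 0 n202627 = n129685 := d17_0 (iv5 F362477) D198019 F406529 F204111 (iv5 F175357) F214312 (iv5 F217896) F217898 D202627
theorem F424823 : act 1 n202627 = n129860 := d18_6 F162104 (iv4 F93954) F180909 (iv4 D116119) D116120 D202627 F208213 (iv0 F162271) (iv5 D105669)
def n202628 : Q := act 1 n116122
theorem D202628 : act 1 n116122 = n202628 := rfl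
theorem F424824 : act 7 n202628 = n140331 := d15_2 (iv0 F360185) D202628 F223442
theorem F424825 : act 4 n202628 = n155768 := d18_7 F325672 F324569 F330732 (iv4 F262030) (iv5 F362472) (iv4 F344431) D202628 F350834 (iv5 F350824)
theorem F424826 : act 3 n154738 = n202628 := d20_3 F110083 D73381 D154738 (iv1 D202628) (iv3 D116122) (iv4 D53521) (iv1 D25924) (iv4 F40978) (iv3 F84429) F349998
theorem F424827 : act 5 n202628 = n193956 := d6_2 F363393 F424826 F391522
theorem F424828 : act 6 n202628 = n141993 := d7_2 (iv6 F243411) F424826 F366179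
theorem F424829 : act 0 n154770 = n202628 := d20_4 F165391 D107341 (iv4 F400403) F400402 (iv3 F424826) (iv4 D154738) (iv1 F308551) F350001 F401839 (iv1 D196799)
theorem F424830 : act 2 n200476 = n202628 := d15_3 (iv0 F424829) F400262 (iv7 F416617)
def n202629 : Q := act 2 n116122
theorem D202629 : act 2 n116122 = n202629 := rfl
theorem F424831 : act 6 n202629 = n198022 := d3_2 F344433 D202629 F406536
theorem F424832 : act 7 n202629 = n154770 := d4_2 F400260 D202629 F400261
theorem F424833 : act 1 n202629 = n200476 := d15_0 (iv0 F416618) F400260 D202629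
theorem F424834 : act 1 n140331 = n202629 := d15_0 F424833 F416617 (iv2 F223442)
def n202630 : Q := act 5 n116122
theorem D202630 : act 5 n116122 = n202630 := rfl
theorem F424835 : act 3 n202630 = n116123 := d6_1 D202630 (iv5 D116123) D116122
def n202631 : Q := act 1 n116129
theorem D202631 : act 1 n116129 = n202631 := rfl
theorem F424836 : act 1 n202631 = n181764 := d15_1 D202631 (iv7 F359917) F225381
theorem F424837 : act 5 n202631 = n192349 := d18_9 F386536 (iv4 F335225) F335229 (iv4 D143796) (iv5 D67353) D67352 (iv0 F321332) F181805 D202631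
theorem F424838 : act 4 n142370 = n202631 := d20_0 (iv1 D202631) (iv4 F181805) (iv3 F355200) D200452 (iv3 F416478) F393792 F348423 D177563 F366322 (iv1 F366287)
theorem F424839 : act 3 n177199 = n202631 := d20_3 (iv4 F111530) D156251 F351501 (iv1 D202631) F180922 (iv4 F180928) (iv1 F389183) F389181 F316178 (iv1 D74691)
theorem F424840 : act 2 n202631 = n141367 := d0_1 F424839 (iv3 D141367) (iv2 F359889) D197504 (iv2 F404602)
theorem F424841 : act 6 n199928 = n202631 := d3_0 F424840 (iv6 F408024) (iv2 F414187)
def n202632 : Q := act 6 n116130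
theorem D202632 : act 6 n116130 = n202632 := rfl
theorem F424842 : act 2 n202632 = n142010 := d3_1 D202632 (iv6 D142010) F181470
theorem F424843 : act 3 n202632 = n140331 := d7_1 D202632 (iv6 D140331) F181445

end Cfsg.Agent.Helper17.ONTC
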