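import Cfsg.Agent.Helper17.ONTC.Facts50

set_option autoImplicit false
set_option linter.all false

noncomputable section

namespace Cfsg.Agent.Helper17.ONTC

theorem F424844 : act 4 n202632 = n120050 := d10_1 D202632 F189620 (iv4 F322867)
theorem F424845 : act 5 n202632 = n194626 := d12_1 D202632 (iv6 D194626) F293322 (iv6 F358481) F223832
theorem F424846 : act 7 n202632 = n154738 := d14_2 (iv7 F181473) D202632 F243411 (iv7 F348344) (iv6 D142012)
theorem F424847 : act 0 n202632 = n116171 := d21_4 D66058 (iv1 F223831) F223832 D202632 F319286 D147923 F231722 (iv5 D128034) F323806 (iv1 F101720)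
theorem F424848 : act 0 n116176 = n202632 := d21_4 (iv5 F354280) F354278 (iv5 D166068) (iv6 F323351) (iv6 D202632) (iv5 F223832) (iv1 D140733) (iv5 D66038) D66039 (iv1 F324357)
def n202633 : Q := act 3 n116145
theorem D202633 : act 3 n116145 = n202633 := rfl
theorem F424849 : act 2 n202633 = n117322 := d0_1 D202633 (iv3 D117322) F85324 (iv3 F84450) (iv2 F180948)
theorem F424850 : act 4 n202633 = n141437 := d5_2 D116145 D202633 (iv3 D141437) (iv4 D66359) (iv3 F84442)
theorem F424851 : act 7 n202633 = n142058 := d8_2 (iv7 F180949) D202633 (iv3 D142058)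
theorem F424852 : act 0 n146399 = n202633 := d20_4 (iv4 D193589) F356506 (iv4 F419506) F419505 (iv3 D202633) (iv4 D116145) (iv1 F84444) D66632 D142090 F390378
theorem F424853 : act 1 n146400 = n202633 := d15_1 D146400 F424851 F225070
theorem F424854 : act 2 n201217 = n146400 := d15_3 F424853 (iv0 F424852) (iv7 F419482)
theorem F424855 : act 6 n146400 = n195820 := d3_2 D201217 F424854 (iv2 F398323)
def n202634 : Q := act 6 n116145
theorem D202634 : act 6 n116145 = n202634 := rfl
theorem F424856 : act 2 n202634 = n116164 := d3_1 D202634 (iv6 D116164) (iv2 F180948)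
theorem F424857 : act 4 n202634 = n116146 := d10_1 D202634 (iv6 D116146) D116145
theorem F424858 : act 5 n202634 = n200985 := d12_1 D202634 (iv6 F418628) F420059 (iv6 F420058) F373025
theorem F424859 : act 0 n202634 = n142827 := d21_4 D140842 (iv1 F373027) F373025 D202634 (iv6 D142827) (iv5 F326249) (iv1 F350234) (iv5 D140853) (iv6 D66085) D66082
theorem F424860 : act 1 n202634 = n191110 := d15_1 (iv0 F424859) F382273 F228576
def n202635 : Q := act 0 n116171
theorem D202635 : act 0 n116171 = n202635 := rfl
theorem F424861 : act 5 n202635 = n198371 := d17_1 D202635 F407793 D199162 F410953 (iv5 F341029) (iv0 F341066) (iv5 F316879) F180962 D116171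
theorem F424862 : act 4 n202635 = n147430 := d18_3 D53541 D116171 D202635 (iv5 F242594) F361114 D190929 F381578 (iv0 D116179) (iv5 D53543)
theorem F424863 : act 3 n202635 = n202244 := d20_5 (iv4 F347201) D199882 F413958 F401493 D202635 (iv4 D202244) (iv1 F182531) D202137 (iv3 F424775) (iv1 F424779)
theorem F424864 : act 6 n202635 = n142136 := d21_5 D128031 (iv1 F231723) (iv5 D147923) (iv6 F319286) D202635 (iv5 F389452) (iv1 F389454) F352716 F94701 D60159
theorem F424865 : act 2 n154738 = n202635 := d15_3 (iv0 D202635) (iv0 F424847) F424846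
theorem F424866 : act 1 n116176 = n202635 := d15_0 (iv0 D202635) F362629 (iv2 F362627)
theorem F424867 : act 7 n202635 = n142010 := d15_2 (iv0 F424848) F424866 (iv2 F424842)
def n202636 : Q := act 5 n116171
theorem D202636 : act 5 n116171 = n202636 := rfl
theorem F424868 : act 2 n202636 = n154760 := d2_1 D202636 (iv5 D154760) (iv2 F319285)
theorem F424869 : act 3 n202636 = n128801 := d6_1 D202636 (iv5 F401492) F401493
theorem F424870 : act 4 n202636 = n190631 := d16_2 D116171 D202636 (iv5 D190631) (iv4 D96268) (iv5 D44941) (iv4 F70637) F323352 (iv7 F319225) F319224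
theorem F424871 : act 0 n202636 = n199087 := d17_2 F424847 D202636 (iv5 F410965) F410964 (iv5 D147425) (iv0 D69110) D69112 F231205 (iv4 F424844)
theorem F424872 : act 6 n202636 = n145325 := d21_3 (iv5 F424845) F424847 D202636 (iv1 F410816) (iv6 D110971) F180711 (iv1 F78396) (iv5 F80767) D111022 F393864
def n202637 : Q := act 5 n116176
theorem D202637 : act 5 n116176 = n202637 := rfl
theorem F424873 : act 4 n202637 = n194601 := d9_1 D202637 F393789 F378311 F147114 F317483 F319287 D116171 D202636 F424870 (iv5 D190631) (iv4 D96268) (iv5 D44941) (iv4 F70637) F323352 D116176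
theorem F424874 : act 6 n202637 = n194599 := d12_2 (iv6 F323351) D202637 (iv5 F412578) F412579 (iv5 D166068)
theorem F424875 : act 7 n202637 = n154760 := d13_2 (iv7 F362628) D202637 (iv5 D154760)
theorem F424876 : act 1 n202637 = n199087 := d17_6 (iv1 F328586) (iv5 D127554) F314499 F323352 D116176 D202637 (iv5 F410965) (iv0 D199165) F331029
def n202638 : Q := act 3 n116179
theorem D202638 : act 3 n116179 = n202638 := rfl
theorem F424877 : act 5 n202638 = n156359 := d6_2 (iv5 F341070) D202638 F245726
theorem F424878 : act 6 n202638 = n144932 := d7_2 (iv6 F341071) D202638 (iv3 F259440)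
theorem F424879 : act 7 n202638 = n194522 := d8_2 (iv7 F341072) D202638 F393565
theorem F424880 : act 0 n134395 = n202638 := d21_4 F349369 F334143 (iv5 D134394) D134395 F424878 (iv5 F307158) F307156 D179979 F334466 F355307
def n202639 : Q := act 6 n116199
theorem D202639 : act 6 n116199 = n202639 := rfl
theorem F424881 : act 3 n202639 = n195430 := d7_1 D202639 (iv6 D195430) (iv3 F181083)
theorem F424882 : act 4 n202639 = n116201 := d10_1 D202639 (iv6 D116201) D116199
theorem F424883 : act 7 n202639 = n145126 := d14_2 (iv7 F181084) D202639 (iv6 D145126) (iv7 D68027) F319602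
def n202640 : Q := act 3 n116244
theorem D202640 : act 3 n116244 = n202640 := rfl
theorem F424884 : act 4 n202640 = n144414 := d5_2 D116244 D202640 (iv3 F396647) F396641 (iv3 F165255)
theorem F424885 : act 6 n202640 = n171027 := d7_2 (iv6 F336655) D202640 F268743
theorem F424886 : act 7 n202640 = n116279 := d8_2 (iv7 F181187) D202640 (iv3 D116279)
theorem F424887 : act 0 n134006 = n202640 := d20_4 (iv4 F348329) (iv1 D143241) (iv4 F226059) F226058 (iv3 D202640) (iv4 D116244) F84524 (iv4 F84544) F321533 D167923
theorem F424888 : act 5 n146945 = n202640 := d13_3 F424886 F397025 F396491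
theorem F424889 : act 2 n202640 = n144444 := d16_9 (iv4 D144444) (iv5 D67684) F49728 F24480 (iv4 F47185) D62191 D132563 (iv5 F397025) (iv7 F424886)
theorem F424890 : act 1 n144444 = n202503 := d15_0 (iv0 F424305) (iv7 F424886) F424889
def n202641 : Q := act 5 n116244
theorem D202641 : act 5 n116244 = n202641 := rfl
theorem F424891 : act 2 n202641 = n116277 := d2_1 D202641 (iv5 D116277) (iv2 F181186)
theorem F424892 : act 3 n202641 = n146945 := d6_1 D202641 F424888 (iv3 D202640)
theorem F424893 : act 6 n202641 = n120314 := d12_2 (iv6 F336655) D202641 (iv5 D120314) (iv6 F298983) D81976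
theorem F424894 : act 7 n202641 = n116280 := d13_2 (iv7 F181187) D202641 (iv5 D116280)
theorem F424895 : act 1 n202641 = n134089 := d17_6 (iv1 D51263) F39074 D31043 (iv5 F84523) D116244 D202641 (iv5 D134089) (iv0 F172365) (iv4 D111137)
def n202642 : Q := act 3 n116245
theorem D202642 : act 3 n116245 = n202642 := rfl
theorem F424896 : act 4 n202642 = n127116 := d5_2 D116245 D202642 (iv3 D127116) F163578 (iv3 F163579)
theorem F424897 : act 6 n202642 = n138642 := d7_2 (iv6 F181191) D202642 (iv3 D138642)
theorem F424898 : act 7 n202642 = n116276 := d8_2 (iv7 F181192) D202642 (iv3 D116276)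
theorem F424899 : act 0 n202642 = n139283 := d20_4 F84544 (iv1 F84525) D116245 D202642 F222479 F172286 (iv1 F393619) D196735 F401635 F171729
theorem F424900 : act 2 n194052 = n202642 := d3_3 F424897 F411575 (iv6 F415577)
def n202643 : Q := act 5 n116245
theorem D202643 : act 5 n116245 = n202643 := rfl
theorem F424901 : act 2 n202643 = n116280 := d2_1 D202643 (iv5 D116280) (iv2 F181190)
theorem F424902 : act 7 n202643 = n116277 := d13_2 (iv7 F181192) D202643 (iv5 D116277)
theorem F424903 : act 0 n202643 = n134089 := d17_2 F181194 D202643 (iv5 D134089) F98296 (iv5 F76898) (iv0 F166498) (iv5 F166140) F93969 (iv4 F171726)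
def n202644 : Q := act 0 n116249
theorem D202644 : act 0 n116249 = n202644 := rfl
theorem F424904 : act 3 n202644 = n202226 := d20_5 (iv4 F102947) (iv1 D66753) F84534 D116249 D202644 F423314 F330547 F224446 (iv3 D66350) (iv1 F102246)
theorem F424905 : act 4 n202644 = n127104 := d20_0 (iv1 F204354) F176145 (iv3 F98207) (iv1 F180480) (iv3 F180474) (iv4 F102947) (iv1 D66753) F84534 D116249 D202644
theorem F424906 : act 2 n141161 = n202644 := d15_3 (iv0 D202644) (iv0 F410197) F410196
theorem F424907 : act 1 n141184 = n202644 := d15_0 (iv0 D202644) F181201 D141184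
theorem F424908 : act 7 n202644 = n141183 := d15_2 (iv0 F410198) F424907 (iv2 F410194)
theorem F424909 : act 6 n202644 = n194029 := d3_2 (iv6 F364748) F424906 (iv2 D194029)
def n202645 : Q := act 2 n116249
theorem D202645 : act 2 n116249 = n202645 := rfl
theorem F424910 : act 3 n202645 = n141176 := d0_2 D116249 D202645 (iv2 D141176) (iv3 D66223) (iv2 F102972)
theorem F424911 : act 4 n202645 = n142362 := d1_2 (iv4 F181200) D202645 (iv2 D142362)
theorem F424912 : act 7 n202645 = n141184 := d4_2 (iv7 F181201) D202645 (iv2 D141184)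
theorem F424913 : act 1 n202645 = n141183 := d15_0 (iv0 D141183) (iv7 F181201) D202645
theorem F424914 : act 1 n141161 = n202645 := d15_0 F424913 (iv7 F424908) (iv2 F424906)
def n202646 : Q := act 6 n116249
theorem D202646 : act 6 n116249 = n202646 := rfl
theorem F424915 : act 3 n202646 = n116251 := d7_1 D202646 (iv6 D116251) D116249
theorem F424916 : act 4 n202646 = n142364 := d10_1 D202646 (iv6 D142364) (iv4 F181200)
theorem F424917 : act 5 n193465 = n202646 := d16_1 D193465 F424916 (iv5 F361827) (iv4 F384956) (iv5 D191948) (iv4 F195697) (iv5 F156788) (iv7 F337647) F337648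
theorem F424918 : act 1 n193434 = n202646 := d17_8 (iv1 F385642) (iv5 D192118) D192117 (iv5 F388011) (iv4 F394158) F394159 F383168 D193434 F424916
theorem F424919 : act 0 n193432 = n202646 := d18_0 F424916 (iv1 F385642) (iv4 F411648) F411647 (iv4 F368286) F368285 (iv4 F389814) (iv0 D193431) D193432
def n202647 : Q := act 4 n116252
theorem D202647 : act 4 n116252 = n202647 := rfl
theorem F424920 : act 2 n202647 = n116256 := d1_1 D202647 (iv4 D116256) (iv2 F181206)
theorem F424921 : act 6 n202647 = n140051 := d10_2 (iv6 F387215) D202647 (iv4 F387213)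
theorem F424922 : act 7 n202647 = n141190 := d11_2 (iv7 F181207) D202647 (iv4 D141190)
theorem F424923 : act 5 n202647 = n141484 := d16_1 D202647 (iv4 D141484) (iv5 D66377) (iv4 D30994) (iv5 D14665) (iv4 F24334) D30952 (iv7 F84541) (iv2 F181206)
theorem F424924 : act 0 n202647 = n141203 := d18_2 (iv1 F181209) D202647 F224232 (iv5 D116016) (iv4 D53478) F40944 (iv4 F49138) F84354 (iv5 F181569)
theorem F424925 : act 1 n202647 = n141202 := d18_6 (iv1 D66330) (iv4 D30982) (iv1 F41020) (iv4 F84535) D116252 D202647 F224228 (iv0 F224428) (iv5 D141384)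
def n202648 : Q := act 5 n116253
theorem D202648 : act 5 n116253 = n202648 := rfl
theorem F424926 : act 2 n202648 = n116260 := d2_1 D202648 (iv5 D116260) (iv2 F181210)
theorem F424927 : act 3 n202648 = n186292 := d6_1 D202648 (iv5 F410427) F410425
theorem F424928 : act 6 n202648 = n139516 := d12_2 D116253 D202648 F387217 (iv6 F387215) (iv5 D116252)
theorem F424929 : act 7 n202648 = n191773 := d13_2 (iv7 F319297) D202648 F384408
theorem F424930 : act 4 n202648 = n139517 := d16_2 (iv4 F181211) D202648 (iv5 F337090) (iv4 D155541) (iv5 F321724) F57660 D36779 F317424 (iv2 F84566)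
theorem F424931 : act 1 n202648 = n188170 := d17_6 D65007 (iv5 F315871) F190058 F319298 (iv4 F181211) D202648 F372544 F315863 F100767
theorem F424932 : act 1 n191774 = n202648 := d15_1 F384412 F424929 (iv2 F384409)
def n202649 : Q := act 5 n116256
theorem D202649 : act 5 n116256 = n202649 := rfl
theorem F424933 : act 2 n202649 = n141484 := d2_1 D202649 (iv5 F424923) F424920
theorem F424934 : act 4 n202649 = n141438 := d9_1 D202649 (iv5 D141438) (iv4 D66359) (iv5 D30990) (iv4 F49382) D66231 D141190 (iv5 F388484) (iv4 F388485) (iv5 D116322) (iv4 D53612) (iv5 D25957) (iv4 F41011) D53584 D116256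
theorem F424935 : act 7 n202649 = n141204 := d13_2 (iv7 F181214) D202649 (iv5 D141204)
theorem F424936 : act 1 n202649 = n191785 := d17_6 (iv1 F180565) F181704 (iv1 D53582) D53584 D116256 D202649 (iv5 F424486) F424482 (iv4 D139506)
def n202650 : Q := act 3 n116259
theorem D202650 : act 3 n116259 = n202650 := rfl
theorem F424937 : act 7 n202650 = n194027 := d8_2 (iv7 F319679) D202650 F391808
theorem F424938 : act 0 n192177 = n202650 := d20_4 (iv4 D192175) (iv1 D99824) D99825 D192177 (iv3 D202650) F348316 (iv1 D67118) (iv4 F103072) (iv3 F226069) F385871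
theorem F424939 : act 1 n194029 = n202650 := d15_0 (iv0 F424938) F385879 D194029
def n202651 : Q := act 5 n116259
theorem D202651 : act 5 n116259 = n202651 := rfl
theorem F424940 : act 0 n202651 = n138316 := d17_2 (iv1 F319676) D202651 (iv5 D138316) F100767 (iv5 F313398) D70491 F319704 (iv0 F319299) D167913
def n202652 : Q := act 6 n116259
theorem D202652 : act 6 n116259 = n202652 := rfl
theorem F424941 : act 2 n202652 = n138622 := d3_1 D202652 (iv6 F360544) (iv2 F319677)
theorem F424942 : act 4 n202652 = n138964 := d10_1 D202652 F361404 (iv4 F348316)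
theorem F424943 : act 7 n202652 = n138623 := d14_2 (iv7 F319679) D202652 (iv6 F334428) (iv7 F384714) F384716
theorem F424944 : act 0 n138617 = n202652 := d21_4 D124941 F315852 (iv5 D138616) D138617 (iv6 D202652) D202651 F424940 (iv5 D138316) (iv6 D64968) (iv1 F313389)
theorem F424945 : act 1 n118332 = n202652 := d15_0 (iv0 F424944) (iv7 F353415) F244706
def n202653 : Q := act 0 n116260
theorem D202653 : act 0 n116260 = n202653 := rfl
theorem F424946 : act 5 n202653 = n150687 := d17_3 (iv1 D116259) D116260 D202653 F237234 (iv5 F320355) (iv0 D143271) (iv5 D67119) D67118 (iv4 F348316)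
theorem F424947 : act 2 n191774 = n202653 := d15_3 (iv0 D202653) (iv0 F365646) D191774
theorem F424948 : act 1 n191773 = n202653 := d15_0 (iv0 D202653) F319680 F384409
theorem F424949 : act 7 n202653 = n188170 := d15_2 D191773 F424948 F372542
theorem F424950 : act 6 n191779 = n202653 := d14_5 F424949 (iv6 D188170) (iv7 F294365) D98914 D191779
theorem F424951 : act 4 n202653 = n148528 := d16_0 (iv5 D148528) F105888 (iv5 F317921) (iv4 F303932) (iv5 F186692) F237236 F365644 D191774 F424947
def n202654 : Q := act 3 n116263
theorem D202654 : act 3 n116263 = n202654 := rfl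
theorem F424952 : act 5 n202654 = n140467 := d6_2 F406056 D202654 (iv3 F406055)
theorem F424953 : act 7 n202654 = n183978 := d8_2 F384901 D202654 (iv3 F384896)
def n202655 : Q := act 6 n116263
theorem D202655 : act 6 n116263 = n202655 := rfl
theorem F424954 : act 4 n202655 = n123891 := d10_1 D202655 (iv6 F364127) (iv4 F363316)
theorem F424955 : act 7 n202655 = n192294 := d14_2 F384901 D202655 (iv6 D192294) (iv7 F154196) D191935
theorem F424956 : act 0 n202655 = n122701 := d21_4 (iv5 F409079) F409080 F406056 D202655 F196560 (iv5 D57355) (iv1 F91146) D27599 (iv6 F337483) D111715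
def n202656 : Q := act 4 n116267
theorem D202656 : act 4 n116267 = n202656 := rfl
theorem F424957 : act 2 n202656 = n141937 := d1_1 D202656 (iv4 F363284) F363035
theorem F424958 : act 3 n202656 = n201106 := d5_1 D202656 F419103 (iv3 F419068) F419069 F403439
theorem F424959 : act 6 n202656 = n197640 := d10_2 (iv6 F343173) D202656 F405144
theorem F424960 : act 7 n202656 = n201104 := d11_2 F410408 D202656 F419101
theorem F424961 : act 5 n202656 = n141964 := d16_1 D202656 (iv4 D141964) (iv5 D66549) D66548 (iv5 F166140) F166139 D116270 F363036 F363035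
def n202657 : Q := act 5 n116269
theorem D202657 : act 5 n116269 = n202657 := rfl
theorem F424962 : act 3 n202657 = n116270 := d6_1 D202657 (iv5 D116270) D116269
def n202658 : Q := act 4 n116270
theorem D202658 : act 4 n116270 = n202658 := rfl
theorem F424963 : act 2 n202658 = n201104 := d1_1 D202658 F419101 F410406
theorem F424964 : act 5 n202658 = n141957 := d9_2 D116270 D202658 (iv4 D141957) (iv5 D66544) D66543 (iv5 F166463) (iv4 F166465) D116267 D202656 F424961 (iv4 D141964) (iv5 D66549) D66548 (iv5 F166140) F166139
theorem F424965 : act 7 n202658 = n141937 := d11_2 (iv7 F363036) D202658 (iv4 F363284)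
theorem F424966 : act 3 n141830 = n202658 := d8_3 F424965 (iv3 D141937) (iv7 F406947)
theorem F424967 : act 4 n202657 = n198127 := d5_4 (iv4 F406945) F424966 (iv4 D202658) (iv3 F424962) (iv3 D198127)
theorem F424968 : act 6 n202658 = n198262 := d7_2 (iv6 F406946) F424966 (iv3 D198262)
def n202659 : Q := act 6 n116270
theorem D202659 : act 6 n116270 = n202659 := rfl
theorem F424969 : act 4 n202659 = n198262 := d10_1 D202659 (iv6 F424968) (iv4 D202658)
theorem F424970 : act 0 n198779 = n202659 := d21_4 F407394 F360070 (iv5 F360066) D198779 (iv6 D202659) (iv5 D116270) (iv1 D53588) D53589 (iv6 F360068) (iv1 F407398)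
def n202660 : Q := act 3 n116271
theorem D202660 : act 3 n116271 = n202660 := rfl
theorem F424971 : act 5 n202660 = n192953 := d6_2 (iv5 F215966) D202660 F388317
theorem F424972 : act 7 n202660 = n194032 := d8_2 F221519 D202660 F391816
theorem F424973 : act 2 n202660 = n194031 := d15_3 (iv0 D194031) D194032 (iv7 F424972)
def n202661 : Q := act 6 n116271
theorem D202661 : act 6 n116271 = n202661 := rfl
theorem F424974 : act 2 n202661 = n179771 := d3_1 D202661 (iv6 F370516) F221522
theorem F424975 : act 7 n202661 = n179770 := d14_2 F221519 D202661 F280003 (iv7 F294281) (iv6 F343169)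
theorem F424976 : act 0 n202661 = n125130 := d21_4 F221529 (iv1 F172351) (iv5 F215966) D202661 (iv6 D125130) F301828 (iv1 F87782) D55508 D120544 F364785
theorem F424977 : act 0 n135192 = n202661 := d21_4 (iv5 F355556) (iv1 F197548) F360238 D135192 (iv6 D202661) F215966 (iv1 D111133) D111134 (iv6 F384617) F406059
theorem F424978 : act 3 n201602 = n202661 := d20_3 F421163 (iv1 D201601) D201602 F424976 (iv3 F367996) (iv4 D93301) (iv1 D43641) (iv4 F68572) (iv3 F143872) D189122
theorem F424979 : act 6 n202660 = n201602 := d7_0 F424978 (iv6 D202661) D202660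
theorem F424980 : act 4 n201603 = n202660 := d10_3 F424979 (iv4 D201602) D201603
def n202662 : Q := act 3 n116273
theorem D202662 : act 3 n116273 = n202662 := rfl
theorem F424981 : act 7 n202662 = n197687 := d8_2 (iv7 F343195) D202662 F405364
def n202663 : Q := act 0 n116276
theorem D202663 : act 0 n116276 = n202663 := rfl
theorem F424982 : act 3 n202663 = n199228 := d20_5 F41014 D25951 D53593 D116276 D202663 F411245 (iv1 F400446) F398717 (iv3 D116269) (iv1 D53588)
theorem F424983 : act 1 n194052 = n202663 := d15_0 (iv0 D202663) (iv7 F424898) (iv2 F424900)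
theorem F424984 : act 7 n202663 = n139283 := d15_2 (iv0 F391885) F424983 F222478
theorem F424985 : act 6 n141288 = n202663 := d14_5 F424984 (iv6 D139283) (iv7 F181256) D133976 (iv7 F393173)
def n202664 : Q := act 2 n116276
theorem D202664 : act 2 n116276 = n202664 := rfl
theorem F424986 : act 3 n202664 = n144444 := d0_2 D116276 D202664 (iv2 F424889) (iv3 D202640) F181186
theorem F424987 : act 4 n202664 = n192191 := d1_2 F362228 D202664 (iv2 F385930)
theorem F424988 : act 6 n202664 = n192830 := d3_2 F364234 D202664 F387935
theorem F424989 : act 7 n202664 = n194052 := d4_2 F424898 D202664 F424900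
theorem F424990 : act 1 n202664 = n139283 := d15_0 (iv0 F424899) F424898 D202664
def n202665 : Q := act 5 n116276
theorem D202665 : act 5 n116276 = n202665 := rfl
theorem F424991 : act 3 n202665 = n116277 := d6_1 D202665 (iv5 D116277) D116276
theorem F424992 : act 6 n202665 = n120488 := d12_2 F364234 D202665 (iv5 D120488) F300967 D100822
def n202666 : Q := act 0 n116277
theorem D202666 : act 0 n116277 = n202666 := rfl
theorem F424993 : act 5 n202666 = n134090 := d17_3 F166482 D116277 D202666 F216112 (iv5 F162203) (iv0 F166084) (iv5 F166202) (iv0 D51127) (iv4 F80646)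
theorem F424994 : act 1 n116280 = n202666 := d15_0 (iv0 D202666) (iv7 F424902) F424901
theorem F424995 : act 7 n134089 = n202666 := d13_0 F424993 (iv7 D134090) D134089
def n202667 : Q := act 1 n116277
theorem D202667 : act 1 n116277 = n202667 := rfl
theorem F424996 : act 1 n202667 = n116280 := d15_1 D202667 (iv7 F424894) F424891
theorem F424997 : act 5 n202667 = n134018 := d17_7 (iv1 D30525) F24125 D14692 (iv5 F80864) D53593 D116277 D202667 F215959 (iv4 D64980)
theorem F424998 : act 6 n199385 = n202667 := d21_3 (iv5 F171540) (iv1 F342808) D199385 (iv1 D202667) F362808 (iv5 D55467) (iv1 D26787) D26788 (iv6 F87756) (iv1 F341496)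
theorem F424999 : act 2 n202667 = n134089 := d3_1 F424998 (iv6 F411655) (iv2 F411919)
def n202668 : Q := act 4 n116277
theorem D202668 : act 4 n116277 = n202668 := rfl
theorem F425000 : act 6 n202668 = n120490 := d10_2 (iv6 F362808) D202668 (iv4 D120490)
theorem F425001 : act 5 n202668 = n141997 := d16_1 D202668 (iv4 D141997) (iv5 D66580) (iv4 D31068) (iv5 F84548) D53597 D116280 (iv7 F424894) F424891
theorem F425002 : act 0 n202668 = n141976 := d17_0 (iv5 D141976) D141973 (iv5 F405375) F405376 F343816 F216114 (iv5 F424993) (iv0 D202666) D202668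
theorem F425003 : act 1 n202668 = n138329 := d18_6 (iv1 D53588) F41014 D25951 D53593 D116277 D202668 (iv4 D138329) (iv0 F181224) (iv5 D116270)
def n202669 : Q := act 1 n116279
theorem D202669 : act 1 n116279 = n202669 := rfl
theorem F425004 : act 7 n202669 = n134006 := d15_2 (iv0 F424305) D202669 (iv2 F424303)
theorem F425005 : act 6 n141308 = n202669 := d14_5 F425004 (iv6 D134006) (iv7 F180476) D202504 (iv7 F424311)
def n202670 : Q := act 2 n116279
theorem D202670 : act 2 n116279 = n202670 := rfl
theorem F425006 : act 3 n202670 = n194052 := d0_2 D116279 D202670 F424900 (iv3 D202642) F181190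
theorem F425007 : act 4 n202670 = n144445 := d1_2 F397020 D202670 F397022
theorem F425008 : act 5 n202670 = n146946 := d2_2 (iv5 F397025) D202670 F398424
theorem F425009 : act 7 n202670 = n144444 := d4_2 F424886 D202670 (iv2 F424889)
theorem F425010 : act 1 n202669 = n144444 := d15_1 D202669 (iv7 F425009) (iv2 D202670)
theorem F425011 : act 1 n134006 = n202670 := d15_1 (iv0 F424887) F425009 (iv2 F424889)
theorem F425012 : act 6 n199376 = n202670 := d21_5 (iv5 F329114) (iv1 F356566) (iv5 D111244) D111245 D199376 F425008 (iv1 D146946) D146947 F230340 (iv1 F356546)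
theorem F425013 : act 2 n199284 = n199376 := d3_3 F425012 (iv2 D202670) (iv6 F411470)
theorem F425014 : act 3 n199305 = n199376 := d7_3 F425012 F425006 F415577
theorem E103857 : n199377 = n138647 := (c15_2 (iv0 D199376) D199377 (iv7 F411471) F425013)
theorem F425015 : act 0 n138647 = n111245 := (sb E103857 (iv1 D199377))
def n202671 : Q := act 4 n116280
theorem D202671 : act 4 n116280 = n202671 := rfl
theorem F425016 : act 5 n202671 = n141988 := d9_2 D116280 D202671 (iv4 D141988) (iv5 D66568) (iv4 D31063) (iv5 F80864) D53593 D116277 D202668 F425001 (iv4 D141997) (iv5 D66580) (iv4 D31068) (iv5 F84548) D53597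
theorem F425017 : act 0 n202671 = n138329 := d18_2 (iv1 F424994) D202671 (iv4 D138329) (iv5 D64973) F48917 D30525 D64980 F216114 (iv5 F424993)
theorem F425018 : act 1 n202671 = n141976 := d18_6 (iv1 F171797) F171794 (iv1 F84530) D53597 D116280 D202671 (iv4 F411406) F411409 (iv5 D116267)
theorem F425019 : act 6 n198185 = n202671 := d12_0 F425016 F406232 (iv5 F406231) (iv6 F400347) D198185
def n202672 : Q := act 6 n116280
theorem D202672 : act 6 n116280 = n202672 := rfl
theorem F425020 : act 4 n202672 = n198185 := d10_1 D202672 F425019 (iv4 D202671)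
theorem F425021 : act 5 n202672 = n185131 := d12_1 D202672 F411476 (iv5 D199285) F172390 D116280
theorem F425022 : act 7 n202672 = n120480 := d14_2 F424894 D202672 (iv6 D120480) (iv7 F191584) (iv6 F424893)
def n202673 : Q := act 5 n116283
theorem D202673 : act 5 n116283 = n202673 := rfl
theorem F425023 : act 2 n202673 = n193049 := d2_1 D202673 F388589 (iv2 F181260)
theorem F425024 : act 3 n202673 = n116284 := d6_1 D202673 (iv5 D116284) D116283
theorem F425025 : act 7 n202673 = n136379 := d13_2 (iv7 F181239) D202673 F361546
theorem F425026 : act 0 n202673 = n192974 := d17_2 (iv1 F181249) D202673 F402183 (iv4 D196888) F220819 F80827 (iv5 D51238) (iv0 F181245) (iv4 F172263)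
theorem F425027 : act 1 n202673 = n192998 := d17_6 F228411 (iv5 D107327) (iv1 F220494) F172103 (iv4 F181238) D202673 (iv5 F402166) F402167 (iv4 F228409)
def n202674 : Q := act 6 n116284
theorem D202674 : act 6 n116284 = n202674 := rfl
theorem F425028 : act 2 n202674 = n141418 := d3_1 D202674 (iv6 D141418) (iv2 F181262)
theorem F425029 : act 5 n202674 = n155504 := d12_1 D202674 F348307 (iv5 D156719) F319670 D116284
def n202675 : Q := act 6 n116296
theorem D202675 : act 6 n116296 = n202675 := rfl
theorem F425030 : act 2 n202675 = n136378 := d3_1 D202675 F361544 (iv2 F181285)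
theorem F425031 : act 5 n136377 = n202675 := d2_0 F425030 (iv5 D136378) D136377
def n202676 : Q := act 0 n116297
theorem D202676 : act 0 n116297 = n202676 := rfl
theorem F425032 : act 4 n202676 = n155689 := d18_3 (iv1 D116301) (iv4 F181288) D202676 (iv5 F307338) (iv4 D148898) (iv0 D69795) (iv4 F106206) (iv0 F306007) (iv5 F361955)
theorem F425033 : act 2 n141390 = n202676 := d15_3 (iv0 D202676) F361543 (iv7 F361585)
theorem F425034 : act 1 n137207 = n202676 := d15_0 (iv0 D202676) F361538 (iv2 F361534)
theorem F425035 : act 7 n202676 = n141391 := d15_2 (iv0 F361533) F425034 (iv2 F361584)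
theorem F425036 : act 6 n155687 = n202676 := d10_0 F425032 (iv6 D155689) D155687
theorem F425037 : act 3 n202676 = n199382 := d20_3 F323828 F252455 (iv4 F425032) (iv1 D199382) F172558 F80959 F168209 D53839 D116833 F342364
theorem F425038 : act 7 n199382 = n202508 := d8_2 (iv7 F425035) F425037 (iv3 F424323)
theorem F425039 : act 2 n202508 = n199381 := d15_3 (iv0 D199381) D199382 F425038
theorem F425040 : act 2 n199382 = n202507 := d15_3 (iv0 D202507) D202508 (iv7 F425038)
theorem F425041 : act 7 n202507 = n199381 := d4_2 (iv7 F425038) F425040 (iv2 F425039)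
def n202677 : Q := act 5 n116297
theorem D202677 : act 5 n116297 = n202677 := rfl
theorem F425042 : act 2 n202677 = n123243 := d2_1 D202677 F361542 (iv2 F181287)
theorem F425043 : act 3 n202677 = n137217 := d6_1 D202677 F423528 F423523
theorem F425044 : act 4 n202677 = n123225 := d9_1 D202677 (iv5 D123225) (iv4 F114883) (iv5 F307151) F302572 F319896 (iv4 F361535) (iv5 D137207) (iv4 F180574) F328882 (iv4 F121564) F313374 (iv4 F323436) (iv5 D116302) (iv4 F181288)
theorem F425045 : act 6 n202677 = n136377 := d12_2 D116297 D202677 F425031 (iv6 D202675) (iv5 D116296)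
theorem F425046 : act 7 n202677 = n137206 := d13_2 (iv7 F361538) D202677 (iv5 F361591)
theorem F425047 : act 0 n202677 = n136876 := d17_2 (iv1 F361543) D202677 F385247 (iv4 D155609) (iv5 F311957) (iv0 D149876) (iv5 F313831) F339078 D143567
theorem F425048 : act 1 n202677 = n137204 := d17_6 (iv1 F332419) F332420 (iv1 F323434) (iv5 D116302) (iv4 F181288) D202677 (iv5 F382830) F360993 F360988
def n202678 : Q := act 3 n116304
theorem D202678 : act 3 n116304 = n202678 := rfl
theorem F425049 : act 2 n202678 = n117238 := d0_1 D202678 (iv3 D117238) F85254 (iv3 F84570) (iv2 F181299)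
theorem F425050 : act 4 n202678 = n142058 := d5_2 D116304 D202678 (iv3 D142058) (iv4 D66619) (iv3 F84562)
theorem F425051 : act 6 n202678 = n151340 := d7_2 F349354 D202678 F348663
theorem F425052 : act 7 n202678 = n141437 := d8_2 (iv7 F181300) D202678 (iv3 D141437)
theorem F425053 : act 1 n146823 = n202678 := d15_1 D146823 F425052 F224468
theorem F425054 : act 5 n202678 = n188323 := d21_6 (iv5 D88823) (iv1 F136197) (iv5 F309264) F259161 F348666 (iv6 F425051) (iv1 D188323) (iv5 F361655) F361656 (iv1 F289292)
theorem F425055 : act 4 n188323 = n118753 := d16_6 D118756 F361655 (iv4 F373016) F373017 (iv4 F425050) F425054 (iv5 D118753) (iv7 F283574) F283573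
theorem F425056 : act 1 n202678 = n146822 := d15_0 (iv0 D146822) (iv7 F183444) (iv2 F425049)
theorem F425057 : act 4 n121320 = n146822 := d20_0 (iv1 F425056) F425050 (iv3 D142058) (iv1 F180966) F324166 F163450 (iv1 F163514) (iv4 F178990) (iv3 F421195) (iv1 F421197)
theorem F425058 : act 6 n146822 = n121318 := d10_2 D121320 F425057 (iv4 D121318)
theorem F425059 : act 3 n153823 = n146822 := d7_3 F425058 F354976 D153823
def n202679 : Q := act 5 n116304
theorem D202679 : act 5 n116304 = n202679 := rfl
theorem F425060 : act 2 n202679 = n116322 := d2_1 D202679 (iv5 D116322) (iv2 F181299)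
theorem F425061 : act 3 n202679 = n188323 := d6_1 D202679 (iv5 F425054) (iv3 D202678)
theorem F425062 : act 4 n202679 = n141204 := d9_1 D202679 (iv5 D141204) (iv4 D66235) (iv5 D30952) F24334 D14665 D30994 D66377 D141484 (iv5 F424923) (iv4 D202647) (iv5 D116252) F84535 D53608 D116304
theorem F425063 : act 7 n202679 = n141438 := d13_2 (iv7 F181300) D202679 (iv5 D141438)
theorem F425064 : act 0 n202679 = n140054 := d17_2 (iv1 F181302) D202679 (iv5 D140054) (iv4 F318915) F318916 (iv0 F102870) D67108 F224542 (iv4 D141478)
theorem F425065 : act 1 n202679 = n140051 := d17_6 D30778 (iv5 F105775) (iv1 F41020) D53608 D116304 D202679 (iv5 D140051) (iv0 D65743) (iv4 D30780)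
def n202680 : Q := act 6 n116320
theorem D202680 : act 6 n116320 = n202680 := rfl
theorem F425066 : act 2 n202680 = n141483 := d3_1 D202680 (iv6 D141483) (iv2 F183046)
theorem F425067 : act 3 n202680 = n117383 := d7_1 D202680 F320616 (iv3 F323723)
theorem F425068 : act 4 n202680 = n116435 := d10_1 D202680 F318645 (iv4 F323724)
theorem F425069 : act 0 n202680 = n154954 := d21_4 D65745 D140056 F223265 D202680 (iv6 D154954) D154953 (iv1 F349360) (iv5 F349357) (iv6 D140055) (iv1 D65744)
theorem F425070 : act 0 n158954 = n202680 := d21_4 D67152 (iv1 F184220) (iv5 F204406) F359463 (iv6 D202680) (iv5 F223265) (iv1 F424614) (iv5 D202583) F322682 (iv1 F85506)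
theorem F425071 : act 5 n135600 = n202680 := d21_8 D141438 (iv1 F424651) (iv5 D202590) D202591 (iv1 F424657) (iv6 F250287) F359676 F218060 (iv6 D202680) (iv1 F181316)
theorem F425072 : act 7 n202680 = n142649 := d13_2 (iv7 F218059) F425071 (iv5 F335168)
def n202681 : Q := act 3 n116321
theorem D202681 : act 3 n116321 = n202681 := rfl
theorem F425073 : act 4 n202681 = n142511 := d5_2 F181319 D202681 (iv3 D142511) (iv4 D66813) D66812
theorem F425074 : act 7 n202681 = n141481 := d8_2 F183048 D202681 (iv3 D141481)
theorem F425075 : act 0 n199384 = n202681 := d20_4 (iv4 F172441) (iv1 F342803) F342805 (iv3 F411916) (iv3 D202681) (iv4 F181319) F182977 D67115 (iv3 F356498) F356495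
theorem F425076 : act 6 n123818 = n202681 := d10_0 F425073 (iv6 F403143) F415424
def n202682 : Q := act 6 n116321
theorem D202682 : act 6 n116321 = n202682 := rfl
theorem F425077 : act 2 n202682 = n141480 := d3_1 D202682 (iv6 D141480) (iv2 F183049)
theorem F425078 : act 3 n202682 = n123818 := d7_1 D202682 F425076 (iv3 D202681)
theorem F425079 : act 4 n202682 = n142508 := d10_1 D202682 (iv6 D142508) F181319
theorem F425080 : act 0 n160041 = n202682 := d21_4 (iv5 F129882) F129883 (iv5 F114937) D160041 (iv6 D202682) (iv5 F223266) (iv1 D140057) (iv5 D65745) F314110 (iv1 F106750)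
theorem F425081 : act 7 n160093 = n202682 := d11_0 F425079 F322309 D160093
theorem F425082 : act 0 n202682 = n155508 := d20_1 (iv4 F425079) F244527 F110753 F314040 F324170 (iv4 F362079) F362078 (iv4 F230854) F230853 (iv1 F337191)
def n202683 : Q := act 3 n116330
theorem D202683 : act 3 n116330 = n202683 := rfl
theorem F425083 : act 7 n202683 = n199226 := d8_2 F361415 D202683 (iv3 F411238)
theorem F425084 : act 0 n202683 = n199228 := d20_10 F411245 (iv1 F400446) F398717 (iv3 D116269) (iv1 D53588) (iv3 F84542) F84543 D53614 D116330 D202683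
theorem F425085 : act 1 n202683 = n199206 := d15_1 (iv0 F425084) F411166 (iv2 F411244)
theorem F425086 : act 2 n202683 = n199225 := d15_3 (iv0 D199225) D199226 (iv7 F425083)
theorem F425087 : act 6 n150084 = n202683 := d3_0 F425086 F411233 (iv2 F236178)
def n202684 : Q := act 5 n116330
theorem D202684 : act 5 n116330 = n202684 := rfl
theorem F425088 : act 4 n202684 = n160077 := d16_2 D116330 D202684 (iv5 D160077) F114991 D76663 F312456 F319704 (iv7 F319686) F319685
theorem F425089 : act 1 n202684 = n141485 := d17_6 (iv1 D65008) (iv5 F313398) D70490 F319693 D116330 D202684 F364012 (iv0 F315879) (iv4 D138410)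
theorem F425090 : act 6 n191748 = n202684 := d10_0 F425088 F252624 D191748
def n202685 : Q := act 6 n116330
theorem D202685 : act 6 n116330 = n202685 := rfl
theorem F425091 : act 3 n202685 = n150084 := d7_1 D202685 F425087 (iv3 D202683)
theorem F425092 : act 4 n202685 = n116332 := d10_1 D202685 (iv6 D116332) D116330
theorem F425093 : act 5 n202685 = n150083 := d12_1 D202685 F338844 (iv5 F384340) F425090 (iv5 D202684)
def n202686 : Q := act 3 n116335
theorem D202686 : act 3 n116335 = n202686 := rfl
theorem F425094 : act 7 n202686 = n199027 := d8_2 F361412 D202686 F410380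
theorem F425095 : act 0 n202686 = n199024 := d20_4 (iv4 D167913) F319299 D116335 D202686 F410374 F375801 (iv1 F358553) F364533 F364532 F319673
theorem F425096 : act 0 n199030 = n202686 := d20_4 F166465 (iv1 F93973) (iv4 F171726) (iv3 F410384) (iv3 D202686) (iv4 D116335) (iv1 D53615) (iv4 F84543) F84542 D53587
theorem F425097 : act 2 n202686 = n199028 := d15_3 F423615 F423616 (iv7 F425094)
def n202687 : Q := act 5 n116335
theorem D202687 : act 5 n116335 = n202687 := rfl
theorem F425098 : act 0 n202687 = n141485 := d17_2 (iv1 F348333) D202687 F364012 F278923 (iv5 F232646) (iv0 F348330) F348327 F226061 (iv4 F226073)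
def n202688 : Q := act 6 n116335
theorem D202688 : act 6 n116335 = n202688 := rfl
theorem F425099 : act 2 n202688 = n138688 := d3_1 D202688 F361416 F361413
theorem F425100 : act 4 n202688 = n116337 := d10_1 D202688 (iv6 D116337) D116335
theorem F425101 : act 0 n178966 = n202688 := d21_4 D138362 (iv1 F360927) (iv5 D178965) D178966 (iv6 D202688) D202687 F425098 F364012 (iv6 D179010) F317047
theorem F425102 : act 7 n138693 = n202688 := d11_0 F425100 F319537 D138693
theorem F425103 : act 1 n146358 = n202688 := d18_6 (iv1 F341090) (iv4 F339442) (iv1 D146343) F104825 D68626 D146358 F425100 F319541 D138671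
theorem F425104 : act 3 n199352 = n202688 := d20_5 (iv4 F223576) (iv1 F223579) (iv4 F101611) (iv3 F172515) D199352 F425100 F319705 (iv4 F185940) F319534 (iv1 F172381)
theorem F425105 : act 6 n202686 = n199352 := d7_0 F425104 (iv6 D202688) D202686
def n202689 : Q := act 6 n116389
theorem D202689 : act 6 n116389 = n202689 := rfl
theorem F425106 : act 2 n202689 = n196727 := d3_1 D202689 (iv6 D196727) (iv2 F181492)
theorem F425107 : act 3 n202689 = n116390 := d7_1 D202689 (iv6 D116390) D116389
theorem F425108 : act 4 n202689 = n141879 := d10_1 D202689 (iv6 D141879) (iv4 F181493)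
theorem F425109 : act 7 n202689 = n177368 := d14_2 (iv7 F181494) D202689 F333032 F246677 F322257
theorem F425110 : act 1 n196727 = n198225 := d15_0 (iv0 F407275) (iv7 F425109) F425106
theorem F425111 : act 1 n198220 = n196727 := d15_0 F425110 (iv7 F411326) (iv2 F411328)
theorem F425112 : act 0 n196847 = n141879 := d20_1 D196847 (iv4 F425108) F425107 (iv1 F360015) (iv3 F360016) F273950 (iv1 F345558) (iv4 F401917) F401916 F400772
theorem F425113 : act 0 n202689 = n199252 := d20_4 (iv4 D67363) F322211 (iv4 F181500) (iv3 F425107) (iv3 D199252) F361562 (iv1 D137212) D137213 F361560 F322217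
def n202690 : Q := act 5 n116390
theorem D202690 : act 5 n116390 = n202690 := rfl
theorem F425114 : act 2 n202690 = n142749 := d2_1 D202690 (iv5 D142749) (iv2 F181499)
theorem F425115 : act 4 n202690 = n145449 := d9_1 D202690 (iv5 D145449) F104363 F324554 D38900 F321157 (iv4 F222184) F351101 F360011 (iv5 D176998) (iv4 D84359) (iv5 D38898) D38897 F322073 (iv4 F181500)
theorem F425116 : act 7 n202690 = n177288 := d13_2 (iv7 F322072) D202690 F276667
theorem F425117 : act 0 n202690 = n177020 := d17_2 (iv1 F347185) D202690 F276427 F129598 F59970 (iv0 F59925) F322810 (iv0 F322808) D167679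
theorem F425118 : act 1 n202690 = n176988 := d17_6 (iv1 F308513) (iv5 D95241) F121264 F322073 (iv4 F181500) D202690 (iv5 D176988) (iv0 F308518) F241577
def n202691 : Q := act 5 n116397
theorem D202691 : act 5 n116397 = n202691 := rfl
theorem F425119 : act 2 n202691 = n143019 := d2_1 D202691 (iv5 D143019) (iv2 F181511)
theorem F425120 : act 3 n202691 = n196726 := d6_1 D202691 (iv5 D196726) (iv3 F181512)
theorem F425121 : act 7 n202691 = n142737 := d13_2 (iv7 F181513) D202691 (iv5 D142737)
theorem F425122 : act 4 n202691 = n126662 := d16_2 D116397 D202691 (iv5 F409071) F409072 F205302 (iv4 F205301) F184455 F102871 (iv2 F102860)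
theorem F425123 : act 0 n202691 = n139807 := d17_2 F181515 D202691 (iv5 D139807) (iv4 D65630) F101363 F76982 (iv5 D48871) F49398 D66300
theorem F425124 : act 1 n202691 = n139802 := d17_6 F180129 F169672 (iv1 F184459) (iv5 D116398) D116397 D202691 (iv5 D139802) D139800 F222994
theorem F425125 : act 4 n196835 = n196726 := d5_4 F425122 (iv3 F401972) F401973 (iv3 F401970) (iv3 F425120)
theorem F425126 : act 6 n126660 = n202691 := d10_0 F425122 (iv6 D126662) D126660
theorem F425127 : act 6 n196726 = n196724 := d7_2 F425126 F425120 F401610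
theorem F425128 : act 0 n196598 = n196835 := d18_2 (iv1 D196597) D196598 F425125 (iv5 D196726) (iv4 D107244) (iv0 D49550) (iv4 F78303) D107233 (iv5 F401198)
def n202692 : Q := act 6 n116407
theorem D202692 : act 6 n116407 = n202692 := rfl
theorem F425129 : act 2 n202692 = n116416 := d3_1 D202692 (iv6 D116416) (iv2 F181535)
theorem F425130 : act 4 n202692 = n116408 := d10_1 D202692 (iv6 D116408) D116407
theorem F425131 : act 5 n202692 = n190005 := d12_1 D202692 (iv6 D190005) F147173 (iv6 F363532) F226688
theorem F425132 : act 7 n202692 = n147295 := d14_2 (iv7 F181536) D202692 F230916 (iv7 F199568) F320224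
theorem F425133 : act 0 n202692 = n140783 := d21_4 (iv5 F225742) (iv1 F226691) F226688 D202692 (iv6 D140783) D140782 (iv1 F366144) (iv5 D143665) (iv6 D67286) D67283
theorem F425134 : act 0 n170478 = n202692 := d21_4 (iv5 F317908) F297918 F125654 D170478 (iv6 D202692) (iv5 F226688) F226690 F225743 (iv6 F321029) F317907
def n202693 : Q := act 4 n116427
theorem D202693 : act 4 n116427 = n202693 := rfl
theorem F425135 : act 2 n202693 = n143055 := d1_1 D202693 (iv4 D143055) (iv2 F340762)
theorem F425136 : act 7 n202693 = n143050 := d11_2 (iv7 F340764) D202693 (iv4 D143050)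
theorem F425137 : act 5 n202693 = n139395 := d16_7 F364961 (iv5 F373276) F373275 (iv5 D119097) (iv4 F187350) F340765 D202693 F396776 F396772
theorem F425138 : act 1 n202693 = n141626 := d18_6 D31643 D67997 F315232 (iv4 F187350) F340765 D202693 (iv4 D141626) (iv0 D66428) (iv5 F317980)
theorem F425139 : act 0 n202693 = n133994 := d20_1 D202693 F336187 (iv3 F224367) (iv1 F344490) F344492 (iv4 F321995) (iv1 F225861) F103042 (iv3 F103030) (iv1 F340761)
def n202694 : Q := act 3 n116428
theorem D202694 : act 3 n116428 = n202694 := rfl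
theorem F425140 : act 7 n202694 = n195898 := d8_2 (iv7 F360682) D202694 F398651
theorem F425141 : act 0 n202694 = n195897 := d20_4 (iv4 D147510) F320113 D116428 D202694 F398648 (iv4 F401365) (iv1 F422779) F422777 (iv3 F350035) (iv1 F350031)
theorem F425142 : act 0 n195901 = n202694 := d20_4 (iv4 D49532) (iv1 F77662) (iv4 F163641) (iv3 F398656) (iv3 D202694) (iv4 D116428) (iv1 D53662) (iv4 F78324) F78323 (iv1 F102175)
theorem F425143 : act 2 n202694 = n195899 := d15_3 (iv0 F424791) (iv0 F424793) (iv7 F425140)
def n202695 : Q := act 3 n116432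
theorem D202695 : act 3 n116432 = n202695 := rfl
theorem F425144 : act 2 n202695 = n143059 := d0_1 D202695 (iv3 F340735) (iv2 F393280) F393281 F335073
theorem F425145 : act 7 n202695 = n143058 := d8_2 (iv7 F318122) D202695 F360676
theorem F425146 : act 6 n194541 = n202695 := d14_5 F425145 (iv6 F360675) (iv7 F233066) (iv6 F357840) (iv7 F393652)
theorem F425147 : act 0 n202695 = n121373 := d21_4 D146315 (iv1 F334986) (iv5 F393651) F425146 F326633 (iv5 F356831) (iv1 F346243) (iv5 F380963) F380964 F334439
theorem F425148 : act 0 n143061 = n202695 := d21_4 D147831 F242764 (iv5 F240735) (iv6 F318107) (iv6 F425146) F393651 (iv1 D139088) D139089 F314677 (iv1 F232282)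
def n202696 : Q := act 4 n116432
theorem D202696 : act 4 n116432 = n202696 := rfl
theorem F425149 : act 2 n202696 = n157702 := d1_1 D202696 (iv4 F354561) F335073
theorem F425150 : act 7 n202696 = n148842 := d11_2 (iv7 F318122) D202696 F355111
theorem F425151 : act 5 n202696 = n148843 := d17_5 (iv1 F105308) D147335 (iv1 F318458) F228592 D202696 F248340 (iv5 F350773) F230996 F105425
theorem F425152 : act 0 n202696 = n146167 := d17_0 (iv5 F354088) F354104 (iv5 D69124) F51124 D32160 F319188 D53663 D116432 D202696
theorem F425153 : act 0 n154605 = n202696 := d20_10 (iv4 D202696) (iv1 D116432) (iv4 F322861) F104999 (iv1 F324238) (iv3 F178520) (iv4 F403574) (iv1 F409809) F409815 (iv3 F363179)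
theorem F425154 : act 3 n202696 = n167585 := d20_5 (iv4 F403574) (iv1 F409809) F409815 (iv3 F363179) F425153 F347975 (iv1 F252113) F252111 F114768 (iv1 F322760)
def n202697 : Q := act 6 n116432
theorem D202697 : act 6 n116432 = n202697 := rfl
theorem F425155 : act 2 n202697 = n146718 := d3_1 D202697 (iv6 F335071) F335073
theorem F425156 : act 3 n202697 = n194541 := d7_1 D202697 F425146 (iv3 D202695)
theorem F425157 : act 5 n202697 = n124887 := d12_1 D202697 (iv6 F318456) (iv5 D145542) D145543 F228592
theorem F425158 : act 7 n202697 = n146719 := d14_2 (iv7 F318122) D202697 F243028 F200424 D144827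
theorem F425159 : act 0 n202697 = n120705 := d21_4 D147335 (iv1 F318458) F228592 D202697 (iv6 D120705) F88023 F43653 D45139 (iv6 F308663) (iv1 F105308)
theorem F425160 : act 0 n146709 = n202697 := d21_4 (iv5 F312759) F312755 (iv5 D146708) D146709 (iv6 D202697) (iv5 F228592) F318457 (iv5 D117713) D117714 F242935
def n202698 : Q := act 4 n116438
theorem D202698 : act 4 n116438 = n202698 := rfl
theorem F425161 : act 3 n202698 = n117393 := d5_1 D202698 (iv4 D117393) (iv3 D54097) (iv4 F110652) D116438
theorem F425162 : act 5 n202698 = n194333 := d9_2 (iv5 F317643) D202698 (iv4 F403676) (iv5 F411898) F411897 F335197 F335194 (iv5 D144519) (iv4 F227375) F405010 F405009 F403665 (iv4 F210277) F356861 (iv4 F352577)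
theorem F425163 : act 6 n202698 = n154601 := d10_2 (iv6 F181630) D202698 F242686
theorem F425164 : act 7 n202698 = n142521 := d11_2 (iv7 F321857) D202698 F225418
def n202699 : Q := act 4 n116444
theorem D202699 : act 4 n116444 = n202699 := rfl
theorem F425165 : act 2 n202699 = n143212 := d1_1 D202699 (iv4 D143212) (iv2 F208261)
theorem F425166 : act 3 n202699 = n142823 := d5_1 D202699 F225716 F204380 (iv4 F320302) D116444
theorem F425167 : act 6 n202699 = n133718 := d10_2 (iv6 F313463) D202699 F313462
theorem F425168 : act 7 n202699 = n142671 := d11_2 (iv7 F181645) D202699 (iv4 D142671)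
theorem F425169 : act 0 n202699 = n155325 := d17_0 (iv5 F349341) F349342 (iv5 D105870) F314113 F317046 F320527 (iv5 F103056) F225554 D202699
theorem F425170 : act 1 n202699 = n175930 := d18_8 (iv1 D147991) D147992 F379929 F379926 (iv5 D159768) (iv4 F323671) F225554 D202699 (iv5 F359059)
def n202700 : Q := act 4 n116446
theorem D202700 : act 4 n116446 = n202700 := rfl
theorem F425171 : act 3 n202700 = n137949 := d5_1 D202700 (iv4 D137949) (iv3 F102773) (iv4 F317720) D116446
theorem F425172 : act 5 n202700 = n143482 := d9_2 (iv5 F181648) D202700 (iv4 F414213) F414212 (iv4 F336242) (iv5 D178670) F130439 D85104 (iv4 F347288) (iv5 D143090) (iv4 F225900) (iv5 F360858) F360862 (iv5 F224074) F360865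
theorem F425173 : act 6 n202700 = n154955 := d10_2 F346823 D202700 (iv4 F346822)
theorem F425174 : act 7 n202700 = n142664 := d11_2 (iv7 F181649) D202700 (iv4 D142664)
theorem F425175 : act 0 n202700 = n134425 := d18_2 (iv1 F316211) D202700 (iv4 F423670) (iv5 D202334) F179978 (iv0 F336240) F179787 (iv0 F316846) (iv5 F131175)
def n202701 : Q := act 2 n116456
theorem D202701 : act 2 n116456 = n202701 := rfl
theorem F425176 : act 3 n202701 = n126932 := d0_2 D116456 D202701 (iv2 F206740) (iv3 D66779) (iv2 F102967)
theorem F425177 : act 4 n202701 = n141184 := d1_2 (iv4 F181718) D202701 (iv2 D141184)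
theorem F425178 : act 5 n202701 = n189641 := d2_2 F355630 D202701 F377235
theorem F425179 : act 6 n202701 = n199302 := d3_2 (iv6 F366290) D202701 F411566
theorem F425180 : act 7 n202701 = n142362 := d4_2 (iv7 F181719) D202701 (iv2 D142362)
theorem F425181 : act 1 n202701 = n133978 := d15_0 (iv0 F215906) (iv7 F181719) D202701
theorem F425182 : act 1 n133974 = n202701 := d15_0 F425181 F215905 (iv2 F215903)
def n202702 : Q := act 0 n116457
theorem D202702 : act 0 n116457 = n202702 := rfl
theorem F425183 : act 5 n202702 = n117045 := d17_1 D202702 (iv1 F183000) D117061 (iv4 F225394) (iv5 F331692) F331691 (iv5 F226880) (iv0 F334850) F346406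
theorem F425184 : act 4 n202702 = n195864 := d18_1 D202702 F398519 (iv4 D142463) (iv5 D66798) D66797 (iv0 F179987) (iv4 F181709) (iv0 D116454) D116457
theorem F425185 : act 2 n142366 = n202702 := d15_3 (iv0 D202702) (iv0 F413859) F413857
theorem F425186 : act 1 n116470 = n202702 := d15_0 (iv0 D202702) F181721 (iv2 F181752)
theorem F425187 : act 7 n202702 = n142365 := d15_2 F413860 F425186 (iv2 F413855)
theorem F425188 : act 6 n191216 = n202702 := d21_9 (iv5 D116470) (iv1 F181713) (iv5 F227353) F364971 (iv1 F238566) (iv6 F363168) (iv5 D183224) (iv1 F150148) D191216 (iv1 F425186)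
def n202703 : Q := act 6 n116457
theorem D202703 : act 6 n116457 = n202703 := rfl
theorem F425189 : act 2 n202703 = n142408 := d3_1 D202703 (iv6 D142408) (iv2 F181720)
theorem F425190 : act 3 n202703 = n189296 := d7_1 D202703 F376359 (iv3 F355631)
theorem F425191 : act 4 n202703 = n201515 := d10_1 D202703 F420808 F346406
theorem F425192 : act 3 n200255 = n200446 := d20_5 F399535 (iv1 F176060) (iv4 F176085) F176084 D200255 F416460 F420811 (iv4 F425191) F425190 (iv1 F399533)
theorem F425193 : act 7 n189635 = n202703 := d8_0 F425190 F376360 D189635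
def n202704 : Q := act 3 n116459
theorem D202704 : act 3 n116459 = n202704 := rfl
theorem F425194 : act 2 n202704 = n147486 := d0_1 D202704 (iv3 D147486) (iv2 F242926) F316675 (iv2 F181724)
theorem F425195 : act 4 n202704 = n140053 := d5_2 D116459 D202704 (iv3 D140053) (iv4 F318915) F318914
theorem F425196 : act 5 n202704 = n198908 := d6_2 F419648 D202704 F419650
theorem F425197 : act 7 n202704 = n142375 := d8_2 (iv7 F181725) D202704 (iv3 D142375)
theorem F425198 : act 0 n202704 = n201407 := d19_4 D25981 D53676 D116459 D202704 F420381 F233920 (iv3 D111844) (iv1 F81400) (iv5 D50528) (iv4 D24617) (iv3 F19633) (iv1 F19635) (iv5 F20327) F20326 F19836 (iv1 F8719) F5483 (iv4 F9004) D12321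
theorem F425199 : act 0 n147365 = n202704 := d20_4 (iv4 D114204) (iv1 F177987) (iv4 F419656) F419655 (iv3 D202704) (iv4 D116459) F181665 D67247 (iv3 F225360) (iv1 F352069)
theorem F425200 : act 6 n202704 = n175137 := d21_5 D147139 (iv1 F354861) (iv5 D147364) D147365 F425199 (iv5 F404641) F404642 (iv5 F337077) (iv6 F354871) (iv1 D147137)
def n202705 : Q := act 6 n116459
theorem D202705 : act 6 n116459 = n202705 := rfl
theorem F425201 : act 2 n202705 = n142415 := d3_1 D202705 (iv6 D142415) (iv2 F181724)
theorem F425202 : act 3 n202705 = n175137 := d7_1 D202705 (iv6 F425200) (iv3 D202704)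
theorem F425203 : act 4 n202705 = n116460 := d10_1 D202705 (iv6 D116460) D116459
theorem F425204 : act 5 n202705 = n152711 := d12_1 D202705 (iv6 F244496) F339364 F419651 F419648
theorem F425205 : act 0 n202705 = n147686 := d21_4 (iv5 F331686) (iv1 F419646) F419648 D202705 (iv6 D147686) D147685 F344148 F331694 (iv6 D144556) (iv1 F227365)
theorem F425206 : act 7 n202705 = n143712 := d15_2 (iv0 F346281) (iv0 F425205) (iv2 F362038)
theorem F425207 : act 0 n175455 = n202705 := d17_2 F305700 D175455 F425204 F239916 (iv5 F131186) (iv0 D55071) (iv5 D26616) D26615 D55068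
def n202706 : Q := act 4 n116470
theorem D202706 : act 4 n116470 = n202706 := rfl
theorem F425208 : act 2 n202706 = n142367 := d1_1 D202706 (iv4 D142367) (iv2 F181752)
theorem F425209 : act 5 n202706 = n144947 := d9_2 D116470 D202706 (iv4 F419649) F419648 (iv4 D116459) (iv5 D53676) D53675 D116457 (iv4 F346406) (iv5 D151622) D151621 (iv5 F346402) (iv4 D116472) (iv5 D53681) D53680
theorem F425210 : act 7 n202706 = n142407 := d11_2 (iv7 F181753) D202706 (iv4 D142407)
theorem F425211 : act 0 n202706 = n117011 := d17_0 (iv5 F422189) (iv1 F422194) F229066 F225393 (iv5 D117048) D117046 F413858 F413860 D202706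
theorem F425212 : act 1 n202706 = n144178 := d18_6 (iv1 F84699) (iv4 D31135) (iv1 F41068) D53680 D116470 D202706 (iv4 D144178) (iv0 F181794) (iv5 D116487)
theorem F425213 : act 3 n196138 = n202706 := d6_3 F425209 (iv3 F338513) (iv5 F399578)
theorem F425214 : act 6 n196137 = n202706 := d21_5 F108017 (iv1 F80517) D51060 D110751 (iv1 F420325) F425209 F319088 (iv5 F171446) (iv6 D110757) F108020
def n202707 : Q := act 6 n116470
theorem D202707 : act 6 n116470 = n202707 := rfl
theorem F425215 : act 2 n202707 = n142368 := d3_1 D202707 (iv6 D142368) (iv2 F181752)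
theorem F425216 : act 3 n202707 = n191243 := d7_1 D202707 (iv6 D191243) F355423
theorem F425217 : act 4 n202707 = n196137 := d10_1 D202707 F425214 (iv4 D202706)
theorem F425218 : act 0 n202707 = n200290 := d19_4 D131796 (iv5 F349606) (iv4 F382726) (iv3 F425216) F415846 (iv4 D197270) F167075 D108064 F167078 F78969 F39091 (iv1 F19249) F11938 (iv4 F20009) F20008 F19888 (iv5 F23227) D29306 D61845
def n202708 : Q := act 0 n116471
theorem D202708 : act 0 n116471 = n202708 := rfl
theorem F425219 : act 2 n142369 = n202708 := d15_3 (iv0 D202708) (iv0 F408014) (iv7 F408012)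
theorem F425220 : act 1 n138899 = n202708 := d15_0 (iv0 D202708) F366285 F316047
theorem F425221 : act 7 n202708 = n142370 := d15_2 (iv0 F408013) F425220 (iv2 F408009)
theorem F425222 : act 3 n200340 = n202708 := d20_9 F222061 (iv1 F320421) (iv4 F407918) F407916 F407899 (iv3 F423929) F423931 (iv1 F245154) (iv4 F416051) (iv1 F425220)
theorem F425223 : act 5 n202708 = n198652 := d6_2 F423906 F425222 F423908
theorem F425224 : act 4 n193509 = n144434 := d18_1 (iv1 F408710) (iv1 D144434) (iv4 F169307) D198407 F407918 F320421 (iv4 F222061) F425220 F425223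
def n202709 : Q := act 5 n116471
theorem D202709 : act 5 n116471 = n202709 := rfl
theorem F425225 : act 2 n202709 = n142371 := d2_1 D202709 (iv5 D142371) (iv2 F181754)
def n202710 : Q := act 6 n116472
theorem D202710 : act 6 n116472 = n202710 := rfl
theorem F425226 : act 2 n202710 = n142377 := d3_1 D202710 (iv6 D142377) (iv2 F181756)
theorem F425227 : act 3 n202710 = n147505 := d7_1 D202710 (iv6 D147505) (iv3 F316674)
theorem F425228 : act 4 n202710 = n116473 := d10_1 D202710 (iv6 D116473) D116472
theorem F425229 : act 7 n202710 = n148379 := d14_2 (iv7 F181757) D202710 F363211 (iv7 F366560) (iv6 D142415)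
def n202711 : Q := act 5 n116486
theorem D202711 : act 5 n116486 = n202711 := rfl
theorem F425230 : act 2 n202711 = n137518 := d2_1 D202711 (iv5 D137518) F181791
theorem F425231 : act 3 n202711 = n116487 := d6_1 D202711 (iv5 D116487) D116486
theorem F425232 : act 7 n202711 = n137530 := d13_2 (iv7 F181790) D202711 (iv5 D137530)
theorem F425233 : act 0 n202711 = n194225 := d21_1 D202711 F392407 (iv6 D193741) (iv1 D102276) (iv6 D47466) (iv5 F63942) D88867 (iv5 F136276) D99855 F333110
theorem F425234 : act 0 n194223 = n202711 := d21_10 (iv5 D202711) (iv1 F345455) (iv5 F391903) (iv6 F414714) F414716 F377572 (iv5 F377571) (iv1 F248919) F248917 D194223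
def n202712 : Q := act 6 n116487
theorem D202712 : act 6 n116487 = n202712 := rfl
theorem F425235 : act 2 n202712 = n142474 := d3_1 D202712 (iv6 D142474) (iv2 F181792)
theorem F425236 : act 4 n202712 = n194170 := d10_1 D202712 (iv6 F392243) (iv4 F352140)
theorem F425237 : act 7 n202712 = n200442 := d14_2 (iv7 F181793) D202712 (iv6 D200442) (iv7 F178458) F355184
theorem F425238 : act 1 n200447 = n202712 := d15_1 D200447 F425237 F416445
theorem F425239 : act 0 n200446 = n202712 := d18_2 F420854 (iv4 F416460) F425236 (iv5 F392244) (iv4 F230828) F183340 (iv4 F318646) D114770 D201523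
def n202713 : Q := act 3 n116495
theorem D202713 : act 3 n116495 = n202713 := rfl
theorem F425240 : act 2 n202713 = n189162 := d0_1 D202713 (iv3 D189162) F294829 D102011 (iv2 F356241)
theorem F425241 : act 7 n202713 = n193606 := d8_2 (iv7 F356240) D202713 F390439
theorem F425242 : act 0 n202713 = n193605 := d19_4 (iv1 F278516) (iv5 F319309) F225083 D202713 (iv5 F390435) F314183 D106140 F338681 F328385 (iv4 D63304) (iv3 D29909) (iv1 F23708) F11000 (iv4 F23707) (iv3 F48039) D63281 (iv5 F309873) F280214 F280210
theorem F425243 : act 1 n202713 = n136303 := d15_0 (iv0 F382004) (iv7 F375895) (iv2 F425240)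
def n202714 : Q := act 5 n116495
theorem D202714 : act 5 n116495 = n202714 := rfl
theorem F425244 : act 2 n202714 = n191088 := d2_1 D202714 F382173 (iv2 F356241)
theorem F425245 : act 7 n202714 = n155953 := d13_2 (iv7 F356240) D202714 F346907
theorem F425246 : act 0 n202714 = n152951 := d17_2 (iv1 F356242) D202714 (iv5 D152951) (iv4 D72195) (iv5 F58347) (iv0 F130234) F322200 (iv0 F321229) D119241
theorem F425247 : act 1 n202714 = n191089 := d17_8 F342272 F122667 F350677 (iv5 F262036) F346918 F346742 D116495 D202714 F382178
theorem F425248 : act 4 n202714 = n199655 := d18_5 D178713 (iv4 F420697) F420698 F225083 D202714 F417667 F417666 (iv0 D166525) (iv5 F339839)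
def n202715 : Q := act 3 n116498
theorem D202715 : act 3 n116498 = n202715 := rfl
theorem F425249 : act 4 n202715 = n117462 := d5_2 F225093 D202715 (iv3 F222935) (iv4 F204436) (iv3 F225092)
theorem F425250 : act 7 n202715 = n128210 := d8_2 F181818 D202715 F354087
theorem F425251 : act 0 n202715 = n147470 := d20_4 F225407 (iv1 F225096) F225093 D202715 (iv3 F347938) (iv4 F411917) F425075 F425073 (iv3 D142511) D142509
theorem F425252 : act 2 n202715 = n147467 := d15_3 (iv0 D147467) (iv0 F354104) (iv7 F425250)
theorem F425253 : act 0 n147326 = n202715 := d18_0 F425249 (iv1 D117462) (iv4 F106138) F106139 (iv4 F233637) F350041 (iv4 F243358) (iv0 D147324) D147326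
def n202716 : Q := act 3 n116499
theorem D202716 : act 3 n116499 = n202716 := rfl
theorem F425254 : act 4 n202716 = n140741 := d5_2 F181814 D202716 (iv3 D140741) (iv4 D66043) (iv3 F101712)
theorem F425255 : act 6 n202716 = n154671 := d7_2 F337168 D202716 F352362
theorem F425256 : act 7 n202716 = n142528 := d8_2 (iv7 F181815) D202716 (iv3 D142528)
theorem F425257 : act 0 n202716 = n167585 := d19_4 (iv1 D66030) D66032 F181814 D202716 F263839 (iv4 F253764) F350706 (iv1 F324023) F174329 F93465 (iv3 D59009) F45310 (iv5 F80333) (iv4 F80335) (iv3 F84181) (iv1 F180015) F180017 (iv4 F180631) F180635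
theorem F425258 : act 2 n202716 = n167582 := d15_3 (iv0 D167582) (iv0 F355110) (iv7 F425256)
theorem F425259 : act 0 n157697 = n202716 := d21_4 (iv5 D75765) F296748 D80412 (iv6 F347971) F425255 (iv5 F352361) F352368 F304136 (iv6 D84068) (iv1 F113623)
def n202717 : Q := act 0 n116548
theorem D202717 : act 0 n116548 = n202717 := rfl
theorem F425260 : act 5 n202717 = n188502 := d17_1 D202717 F373736 F171347 (iv4 D53765) (iv5 F171348) (iv0 D53400) (iv5 F49499) (iv0 F181961) D116548
theorem F425261 : act 4 n202717 = n139971 := d18_1 D202717 F223195 F180006 (iv5 D112533) F81961 D112235 F330679 F254488 (iv5 F349848)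
theorem F425262 : act 3 n202717 = n147072 := d20_5 D199576 F412736 (iv4 F402972) F402971 D202717 F343350 F353834 (iv4 F334786) D175939 F353833
theorem F425263 : act 6 n202717 = n176333 := d21_5 F339417 (iv1 F318487) F318489 (iv6 F339411) D202717 F328616 (iv1 F341748) (iv5 F320874) (iv6 F192321) F330640
theorem F425264 : act 2 n116593 = n202717 := d15_3 (iv0 D202717) (iv0 F224522) F224521
theorem F425265 : act 1 n116596 = n202717 := d15_0 (iv0 D202717) F181893 (iv2 F181955)
theorem F425266 : act 7 n202717 = n116594 := d15_2 F224523 F425265 (iv2 F224520)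
def n202718 : Q := act 5 n116573
theorem D202718 : act 5 n116573 = n202718 := rfl
theorem F425267 : act 2 n202718 = n178794 := d2_1 D202718 (iv5 F344874) F351517
theorem F425268 : act 3 n202718 = n137064 := d6_1 D202718 (iv5 F423309) F423308
theorem F425269 : act 6 n202718 = n137063 := d12_2 D116573 D202718 F220226 (iv6 F330562) (iv5 D116572)
theorem F425270 : act 7 n202718 = n202198 := d13_2 F351499 D202718 F423213
def n202719 : Q := act 6 n116574
theorem D202719 : act 6 n116574 = n202719 := rfl
theorem F425271 : act 2 n202719 = n201898 := d3_1 D202719 F422284 F224451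
theorem F425272 : act 3 n202719 = n200125 := d7_1 D202719 F415118 (iv3 F400952)
theorem F425273 : act 4 n202719 = n200130 := d10_1 D202719 F415146 F408639
theorem F425274 : act 0 n202005 = n202719 := d21_4 (iv5 F179635) F404259 (iv5 F404258) D202005 (iv6 D202719) (iv5 D116574) (iv1 D53721) D53723 (iv6 F330556) (iv1 D115442)
theorem F425275 : act 1 n202172 = n202719 := d18_6 (iv1 F414424) (iv4 F414422) F345821 (iv4 F250036) (iv5 F392449) F423117 F425273 (iv0 F415150) F408735
theorem F425276 : act 7 n202719 = n202173 := d15_2 D202172 F425275 (iv2 D202173)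
def n202720 : Q := act 6 n116582
theorem D202720 : act 6 n116582 = n202720 := rfl
theorem F425277 : act 3 n202720 = n202138 := d7_1 D202720 (iv6 D202138) F181937
def n202721 : Q := act 6 n116591
theorem D202721 : act 6 n116591 = n202721 := rfl
theorem F425278 : act 2 n202721 = n142611 := d3_1 D202721 (iv6 D142611) (iv2 F181946)
theorem F425279 : act 4 n202721 = n116592 := d10_1 D202721 (iv6 D116592) D116591
theorem F425280 : act 0 n120680 = n202721 := d21_4 (iv5 F72633) (iv1 F89587) (iv5 F89588) D120680 (iv6 D202721) F181947 (iv1 D112554) (iv5 F81995) (iv6 F321623) (iv1 D68905)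
def n202722 : Q := act 3 n116593
theorem D202722 : act 3 n116593 = n202722 := rfl
theorem F425281 : act 2 n202722 = n147269 := d0_1 D202722 (iv3 D147269) (iv2 F343349) (iv3 F425262) (iv2 F425264)
theorem F425282 : act 4 n202722 = n139989 := d5_2 (iv4 F181951) D202722 (iv3 D139989) (iv4 D65721) (iv3 F101432)
theorem F425283 : act 5 n202722 = n200624 := d6_2 F232046 D202722 F417262
theorem F425284 : act 6 n202722 = n128221 := d7_2 F346120 D202722 (iv3 F346112)
theorem F425285 : act 7 n202722 = n176476 := d8_2 F224521 D202722 F359705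
theorem F425286 : act 1 n176494 = n202722 := d15_1 D176494 F425285 F275778
theorem F425287 : act 0 n176493 = n202722 := d17_2 F416549 (iv5 F353638) F425283 F417261 F415206 (iv0 F417856) (iv5 D200769) (iv0 F416550) F416546
def n202723 : Q := act 3 n116613
theorem D202723 : act 3 n116613 = n202723 := rfl
theorem F425288 : act 2 n202723 = n178691 := d0_1 D202723 F348479 (iv2 F359449) (iv3 F359451) (iv2 F359455)
theorem F425289 : act 4 n202723 = n178565 := d5_2 D116613 D202723 F348475 F323149 F319162
theorem F425290 : act 6 n202723 = n146963 := d7_2 (iv6 F319163) D202723 (iv3 D146963)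
def n202724 : Q := act 5 n116613
theorem D202724 : act 5 n116613 = n202724 := rfl
theorem F425291 : act 2 n202724 = n195484 := d2_1 D202724 F397122 (iv2 F359455)
theorem F425292 : act 4 n202724 = n195480 := d9_1 D202724 (iv5 D195480) (iv4 F179472) (iv5 F336244) F239938 (iv5 F131175) (iv4 F244500) (iv5 F414620) F414619 F174596 F84096 D53261 F327060 D53733 D116613
theorem F425293 : act 0 n202724 = n117538 := d21_1 D202724 (iv5 D117538) F347737 (iv1 F105008) D68828 (iv5 F346304) F140607 (iv5 F284556) F360603 (iv1 F359458)
def n202725 : Q := act 5 n116623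
theorem D202725 : act 5 n116623 = n202725 := rfl
theorem F425294 : act 3 n202725 = n116624 := d6_1 D202725 (iv5 D116624) D116623
theorem F425295 : act 4 n202725 = n134433 := d16_2 (iv4 F181992) D202725 (iv5 D134433) (iv4 F343191) F343212 (iv4 F219200) (iv5 F401321) F401316 F223430
theorem F425296 : act 1 n202725 = n198189 := d17_6 (iv1 D115329) D115331 (iv1 F360845) F360847 (iv4 F181992) D202725 F407155 (iv0 F407157) F223640
theorem F425297 : act 6 n202725 = n138329 := d21_3 D197700 F405427 D202725 (iv1 F425003) F425000 F191931 D123989 F304463 (iv6 F350738) F360244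
def n202726 : Q := act 6 n116623
theorem D202726 : act 6 n116623 = n202726 := rfl
theorem F425298 : act 3 n202726 = n116625 := d7_1 D202726 (iv6 D116625) D116623
theorem F425299 : act 4 n202726 = n116635 := d10_1 D202726 (iv6 D116635) (iv4 F181992)
def n202727 : Q := act 6 n116624
theorem D202727 : act 6 n116624 = n202727 := rfl
theorem F425300 : act 3 n202727 = n138329 := d7_1 D202727 (iv6 F425297) F425294
theorem F425301 : act 4 n202727 = n184086 := d10_1 D202727 (iv6 F394219) F394217
theorem F425302 : act 7 n202727 = n184082 := d14_2 F225039 D202727 (iv6 D184082) (iv7 F159719) F358482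
theorem F425303 : act 0 n188426 = n202727 := d20_1 D188426 F425301 (iv3 F387234) (iv1 F387236) (iv3 F384992) F411222 (iv1 D194687) F159477 F75655 D91373
theorem F425304 : act 0 n202727 = n123727 := d20_1 (iv4 F425301) (iv4 D123727) F90862 D57722 D123881 (iv4 F355576) F177559 (iv4 F372336) F393077 F393085
theorem F425305 : act 1 n194407 = n123727 := d15_0 (iv0 F425304) F425302 (iv2 F393074)
def n202728 : Q := act 5 n116625
theorem D202728 : act 5 n116625 = n202728 := rfl
theorem F425306 : act 2 n202728 = n193322 := d2_1 D202728 F389456 F225048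
theorem F425307 : act 7 n202728 = n193321 := d13_2 (iv7 F322146) D202728 F389452
theorem F425308 : act 4 n202728 = n190890 := d16_2 (iv4 F181996) D202728 (iv5 F381464) (iv4 F302236) F321727 (iv4 D72636) D72637 (iv7 F322135) F181991
theorem F425309 : act 0 n202728 = n190894 := d17_2 (iv1 F322145) D202728 F381478 F352710 F94702 F188310 F317015 D66622 D142071
theorem F425310 : act 1 n202728 = n193323 := d17_6 (iv1 D72640) (iv5 D33523) D33521 F322147 (iv4 F181996) D202728 F389463 (iv0 F241490) (iv4 D153616)
def n202729 : Q := act 5 n116627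
theorem D202729 : act 5 n116627 = n202729 := rfl
theorem F425311 : act 2 n202729 = n183150 := d2_1 D202729 F358475 (iv2 F225106)
theorem F425312 : act 4 n202729 = n182040 := d16_2 D116627 D202729 F283454 (iv4 F358480) F223832 F322867 (iv5 F316382) F322872 F181989
theorem F425313 : act 0 n202729 = n188304 := d17_2 (iv1 F182001) D202729 F373035 (iv4 D115863) (iv5 F180357) F40987 D31081 F180968 D66043
theorem F425314 : act 1 n202729 = n187874 := d17_6 D70329 (iv5 F320386) F102849 D53740 D116627 D202729 F371740 F322667 F106793
theorem F425315 : act 6 n182039 = n202729 := d21_5 (iv5 F376145) F377313 (iv5 F377312) (iv6 D188295) F295200 (iv5 D202729) F182000 D140782 (iv6 F376561) (iv1 F412727)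
def n202730 : Q := act 4 n116638
theorem D202730 : act 4 n116638 = n202730 := rfl
theorem F425316 : act 2 n202730 = n167920 := d1_1 D202730 F264608 F366200
theorem F425317 : act 3 n202730 = n127210 := d5_1 D202730 F350097 D142809 (iv4 F423382) F423386
theorem F425318 : act 7 n202730 = n202347 := d11_2 F366202 D202730 F423703
theorem F425319 : act 5 n202730 = n149074 := d18_4 (iv1 D53748) (iv4 F84768) D116638 D202730 F389766 F389764 (iv4 D125001) (iv0 F322169) (iv5 D116657)
theorem F425320 : act 1 n202730 = n152665 := d18_8 F307997 F133479 (iv1 F306644) (iv4 D71861) D71862 D152320 F366203 D202730 (iv5 D152665)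
theorem F425321 : act 1 n152681 = n202730 := d17_6 (iv1 F239428) (iv5 F239880) (iv1 F239881) (iv5 D72024) D72023 D152681 F425319 (iv0 F280170) F243946
def n202731 : Q := act 3 n116639
theorem D202731 : act 3 n116639 = n202731 := rfl
theorem F425322 : act 4 n202731 = n202686 := d5_2 F366197 D202731 (iv3 D202686) (iv4 D116335) D116334
def n202732 : Q := act 5 n116639
theorem D202732 : act 5 n116639 = n202732 := rfl
theorem F425323 : act 0 n202732 = n152748 := d17_2 F366199 D202732 (iv5 D152748) (iv4 D72080) (iv5 F199923) (iv0 F322169) (iv5 D116657) (iv0 F320926) D152320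
theorem F425324 : act 1 n202732 = n138081 := d17_6 F239484 F185771 (iv1 F280172) (iv5 F319700) F366197 D202732 F364903 D152741 (iv4 F239941)
def n202733 : Q := act 0 n116640
theorem D202733 : act 0 n116640 = n202733 := rfl
def n202734 : Q := act 1 n116640
theorem D202734 : act 1 n116640 = n202734 := rfl
theorem F425325 : act 5 n202734 = n195597 := d17_7 (iv1 D71865) (iv5 D33210) D33208 F320464 (iv4 F84768) D116640 D202734 F397530 (iv4 D152323)
theorem F425326 : act 4 n202734 = n136971 := d17_9 F390309 F390307 F390999 (iv5 F390997) (iv4 F423434) F423435 (iv0 D116638) D116640 D202734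
def n202735 : Q := act 0 n116642
theorem D202735 : act 0 n116642 = n202735 := rfl
theorem F425327 : act 4 n202735 = n146540 := d18_1 D202735 F353818 (iv4 F403009) F403010 (iv4 F412301) (iv0 D199464) F349854 D125456 F339254
theorem F425328 : act 3 n202735 = n147153 := d20_5 (iv4 D116591) (iv1 F84761) D53745 D116642 D202735 F230739 (iv1 F322760) (iv4 F403574) F403571 (iv1 F222865)
theorem F425329 : act 5 n202735 = n198923 := d21_2 F339254 D202735 (iv6 F409914) (iv1 D165646) (iv6 F306736) (iv5 F119633) (iv1 F339266) (iv5 D163062) (iv6 F336518) (iv1 F339251)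
theorem F425330 : act 2 n146541 = n202735 := d15_3 (iv0 D202735) (iv0 F182010) (iv7 F229854)
theorem F425331 : act 1 n129502 = n202735 := d15_0 (iv0 D202735) (iv7 F402974) F402970
theorem F425332 : act 7 n202735 = n147160 := d15_2 (iv0 F339247) F425331 (iv2 D147160)
def n202736 : Q := act 1 n116644
theorem D202736 : act 1 n116644 = n202736 := rfl
theorem F425333 : act 1 n202736 = n119697 := d15_1 D202736 (iv7 F239929) (iv2 F322161)
theorem F425334 : act 7 n202736 = n119664 := d15_2 (iv0 F353462) D202736 (iv2 F234534)
theorem F425335 : act 5 n202736 = n119643 := d18_9 (iv1 D119643) F87050 D55048 (iv4 F305942) F308639 (iv4 D55073) F322149 (iv4 F182012) D202736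
theorem F425336 : act 4 n149151 = n202736 := d20_0 (iv1 D202736) F182012 (iv3 F182002) F322156 (iv3 F199492) F234599 (iv1 D149212) (iv4 D70035) D70034 (iv1 F397574)
theorem F425337 : act 3 n128200 = n202736 := d20_3 F348690 (iv1 F240948) (iv4 F206337) (iv1 D202736) F339230 (iv4 D152231) (iv1 D71809) (iv4 F108262) F108261 D127902
theorem F425338 : act 6 n155005 = n202736 := d21_3 (iv5 F317879) D124626 (iv5 F341257) (iv1 D202736) (iv6 D116644) (iv5 F345362) (iv1 D86312) D86313 (iv6 F337706) (iv1 D154981)
theorem F425339 : act 2 n202736 = n119667 := d3_1 F425338 F339398 F353918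
def n202737 : Q := act 5 n116644
theorem D202737 : act 5 n116644 = n202737 := rfl
theorem F425340 : act 2 n202737 = n152672 := d2_1 D202737 F353457 (iv2 F322161)
theorem F425341 : act 3 n202737 = n148520 := d6_1 D202737 (iv5 F339219) (iv3 F339230)
theorem F425342 : act 4 n202737 = n152318 := d9_1 D202737 F349366 (iv4 F425203) F425204 F239916 (iv5 F131186) D119697 F316420 F112622 (iv5 F110193) D154987 F346283 F239452 F322162 (iv4 F182012)
theorem F425343 : act 6 n202737 = n152591 := d12_2 D116644 D202737 (iv5 F345359) F345361 F345362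
theorem F425344 : act 7 n202737 = n152616 := d16_8 F112622 (iv5 F110193) D154987 F346283 F239452 F322162 (iv4 F182012) D202737 F239813
theorem F425345 : act 1 n202737 = n152674 := d17_6 (iv1 F349364) (iv5 F349366) (iv1 D152318) F322162 (iv4 F182012) D202737 (iv5 F339231) (iv0 D119669) (iv4 F325889)
theorem F425346 : act 0 n202737 = n152304 := d21_1 D202737 F239417 (iv6 F352082) (iv1 D148386) F317783 (iv5 F317879) D124626 (iv5 F341257) F425338 (iv1 D202736)
theorem F425347 : act 1 n148962 = n118215 := d18_6 F353462 (iv4 F346285) F234586 D149208 (iv5 F339378) F239807 (iv4 F239416) (iv0 F425346) (iv5 D202737)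
def n202738 : Q := act 7 n116644
theorem D202738 : act 7 n116644 = n202738 := rfl
theorem F425348 : act 2 n202738 = n119697 := d4_1 D202738 (iv7 F239929) (iv2 F322161)
theorem F425349 : act 3 n202738 = n152379 := d8_1 D202738 (iv7 F348643) (iv3 F339230)
theorem F425350 : act 4 n202738 = n116648 := d11_1 D202738 (iv7 D116648) (iv4 F182012)
theorem F425351 : act 5 n202738 = n152616 := d13_1 D202738 (iv7 F425344) (iv5 D202737)
theorem F425352 : act 6 n202738 = n146977 := d14_1 D202738 F339416 (iv6 F339411) F181893 D116644
theorem F425353 : act 1 n119667 = n202738 := d15_1 F353459 (iv7 D202738) F322161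
theorem F425354 : act 1 n202738 = n119664 := d15_1 F425353 (iv7 F425334) F425339
def n202739 : Q := act 4 n116657
theorem D202739 : act 4 n116657 = n202739 := rfl
theorem F425355 : act 2 n202739 = n124990 := d1_1 D202739 F200765 (iv2 F322171)
theorem F425356 : act 3 n202739 = n124979 := d5_1 D202739 F200743 F92288 F318563 (iv3 F322172)
theorem F425357 : act 6 n202739 = n124977 := d10_2 (iv6 F322173) D202739 (iv4 F305191)
theorem F425358 : act 7 n202739 = n124979 := d11_2 (iv7 F322174) D202739 F200743
theorem F425359 : act 0 n202739 = n124988 := d17_0 (iv5 F325866) (iv1 F326671) F305863 F25590 D16066 D33281 (iv5 F199923) (iv0 F322169) D202739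
theorem F425360 : act 1 n202739 = n124987 := d18_8 (iv1 F98941) F347012 (iv1 D64882) (iv4 F93931) (iv5 F331977) (iv4 D125001) (iv0 F322169) D202739 F309873
def n202740 : Q := act 0 n116664
theorem D202740 : act 0 n116664 = n202740 := rfl
theorem F425361 : act 4 n202740 = n128083 := d18_3 F313430 (iv4 F182023) D202740 (iv5 D128083) F188769 (iv0 D54918) F42545 D26566 D54930
theorem F425362 : act 1 n116696 = n202740 := d15_0 (iv0 D202740) (iv7 F346269) (iv2 F346270)
theorem F425363 : act 3 n200728 = n202740 := d20_3 D79928 D166525 (iv4 F417666) (iv1 F425362) F182093 F105509 (iv1 F105124) D147062 F354262 (iv1 D79927)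
theorem F425364 : act 7 n202740 = n116694 := d8_2 F417669 F425363 F413019
theorem F425365 : act 2 n202740 = n116693 := d15_3 (iv0 D116693) D116694 (iv7 F425364)
def n202741 : Q := act 1 n116664
theorem D202741 : act 1 n116664 = n202741 := rfl
theorem F425366 : act 1 n202741 = n116696 := d15_1 D202741 (iv7 D116696) (iv2 F182022)
theorem F425367 : act 7 n202741 = n116693 := d15_2 (iv0 D202740) D202741 (iv2 F425365)
theorem F425368 : act 2 n116694 = n202741 := d4_3 F425367 (iv2 F425365) F425364
theorem F425369 : act 4 n128086 = n202741 := d11_3 F425367 (iv4 F362045) F278137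
theorem F425370 : act 3 n202741 = n124663 := d19_3 (iv1 F188168) D128086 F425369 (iv1 D124663) (iv5 D58251) (iv4 F91977) (iv3 D58188) D58186 D124610 F341953 (iv3 D60970) F53623 D28945 D61080 D130084 F315946 F313482 (iv4 F232336) F307087
def n202742 : Q := act 5 n116678
theorem D202742 : act 5 n116678 = n202742 := rfl
theorem F425371 : act 2 n202742 = n143665 := d2_1 D202742 (iv5 D143665) (iv2 F320880)
theorem F425372 : act 6 n202742 = n183089 := d12_2 (iv6 F320881) D202742 F335096 (iv6 F356960) (iv5 F225397)
theorem F425373 : act 7 n202742 = n148234 := d13_2 (iv7 F182060) D202742 (iv5 D148234)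
theorem F425374 : act 4 n202742 = n183090 := d16_2 D116678 D202742 F366835 (iv4 F407620) F407618 F322668 (iv5 D70331) (iv7 F316506) (iv2 F318749)
theorem F425375 : act 0 n202742 = n142091 := d17_2 (iv1 F182062) D202742 (iv5 D142091) (iv4 D66632) F180303 F40879 D30900 F84271 D115858
theorem F425376 : act 1 n202742 = n142083 := d17_6 F181990 (iv5 F180723) F180282 F180189 D116678 D202742 (iv5 D142083) D142081 F225105
def n202743 : Q := act 5 n116690
theorem D202743 : act 5 n116690 = n202743 := rfl
theorem F425377 : act 2 n202743 = n147657 := d2_1 D202743 (iv5 D147657) (iv2 F182087)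
theorem F425378 : act 3 n202743 = n198910 := d6_1 D202743 (iv5 D198910) (iv3 F182088)
theorem F425379 : act 4 n202743 = n195861 := d9_1 D202743 (iv5 F419691) F419692 F225290 F180704 (iv5 F205310) (iv4 F225297) F323290 (iv4 F398523) (iv5 F419697) F419698 F225287 F103764 (iv5 F162358) (iv4 F323317)
theorem F425380 : act 6 n202743 = n195859 := d12_2 D116690 D202743 F398495 (iv6 D110599) (iv5 F84783)
theorem F425381 : act 7 n202743 = n197126 := d13_2 (iv7 F323318) D202743 F403158
theorem F425382 : act 0 n202743 = n144555 := d17_2 (iv1 F323316) D202743 (iv5 D144555) (iv4 D67747) (iv5 D31454) F41260 F319499 (iv0 F320150) D66766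
theorem F425383 : act 1 n202743 = n144515 := d17_6 F225026 F180308 (iv1 F180263) (iv5 F162358) (iv4 F323317) D202743 (iv5 D144515) D144513 F227367
def n202744 : Q := act 3 n116693
theorem D202744 : act 3 n116693 = n202744 := rfl
theorem F425384 : act 2 n202744 = n124662 := d0_1 D202744 F413015 F417668 F425363 F425365
theorem F425385 : act 7 n202744 = n124663 := d8_2 F425367 D202744 (iv3 F425370)
theorem F425386 : act 0 n202744 = n124665 := d19_4 (iv1 F188403) D178498 F362045 D202744 F199413 (iv4 F199311) F199310 (iv1 F199177) (iv5 F341955) F212913 (iv3 D62239) F49207 (iv5 F95602) (iv4 F315516) (iv3 F244277) (iv1 D128314) (iv5 D60326) D60325 F306332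
theorem F425387 : act 4 n158384 = n202744 := d20_2 F347983 (iv1 F346429) (iv3 D202744) (iv1 F362043) (iv3 F362042) D197988 (iv1 F415461) (iv4 D200186) (iv3 F334602) F347984
theorem F425388 : act 5 n202744 = n178174 := d16_7 (iv4 F277080) F352529 F352525 (iv5 D89180) F184700 D158384 F425387 (iv7 F336442) F336439
theorem F425389 : act 1 n202744 = n124661 := d18_6 (iv1 F184674) F54744 D41657 F184700 D158384 F425387 F352177 F359843 (iv5 D98541)
theorem F425390 : act 3 n178174 = n178545 := d6_1 F425388 (iv5 F362044) D202744
def n202745 : Q := act 6 n116693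
theorem D202745 : act 6 n116693 = n202745 := rfl
theorem F425391 : act 0 n202745 = n142377 := d21_4 D85011 D178545 (iv5 F362044) D202745 (iv6 D142377) (iv5 F330344) (iv1 F419660) F419657 F319629 (iv1 D85009)
theorem F425392 : act 5 n130221 = n202745 := d21_8 F346272 D197981 F406368 F331679 D134667 F334169 (iv5 D130223) D130221 (iv6 D202745) (iv1 F362043)
theorem F425393 : act 1 n202745 = n148379 := d15_1 (iv0 F425391) (iv7 F425229) F425226
def n202746 : Q := act 6 n116694
theorem D202746 : act 6 n116694 = n202746 := rfl
theorem F425394 : act 4 n202746 = n149187 := d10_1 D202746 (iv6 D149187) (iv4 F346261)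
theorem F425395 : act 0 n146837 = n202746 := d21_4 (iv5 D81848) D81846 F125801 (iv6 F230200) (iv6 D202746) F346262 (iv1 D178546) (iv5 D85011) F87998 (iv1 F125811)
theorem F425396 : act 1 n146988 = n202746 := d18_6 F230427 (iv4 F331629) (iv1 F331634) F105070 (iv5 F105076) (iv4 F230381) F425394 (iv0 F253031) F253030
def n202747 : Q := act 3 n116709
theorem D202747 : act 3 n116709 = n202747 := rfl
theorem F425397 : act 4 n202747 = n162792 := d5_2 D116709 D202747 F257074 F311392 F318409
theorem F425398 : act 5 n202747 = n155240 := d6_2 F409722 D202747 (iv3 F409720)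
theorem F425399 : act 6 n202747 = n202015 := d7_2 (iv6 F366520) D202747 F422711
theorem F425400 : act 0 n202747 = n202718 := d19_4 F208106 F318410 D116709 D202747 (iv5 D202718) F181929 F181284 F326909 (iv5 F316555) (iv4 F307958) (iv3 D55315) (iv1 F86743) (iv5 F186468) (iv4 F209854) (iv3 D63285) (iv1 F48269) (iv5 F302495) F302494 (iv3 F186434)
theorem F425401 : act 0 n178782 = n202747 := d20_4 (iv4 D124426) (iv1 F303347) D160325 F351559 (iv3 D202747) (iv4 D116709) (iv1 F112046) (iv4 F245486) F341525 F366894
def n202748 : Q := act 6 n116715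
theorem D202748 : act 6 n116715 = n202748 := rfl
theorem F425402 : act 2 n202748 = n139790 := d3_1 D202748 (iv6 F348134) (iv2 F345696)
theorem F425403 : act 3 n202748 = n131610 := d7_1 D202748 (iv6 F215538) F345695
theorem F425404 : act 4 n202748 = n129566 := d10_1 D202748 (iv6 F212315) (iv4 F345697)
theorem F425405 : act 5 n202748 = n120017 := d12_1 D202748 F345704 (iv5 F351429) F351430 D116715
theorem F425406 : act 7 n202748 = n129562 := d14_2 (iv7 F345698) D202748 (iv6 D129562) (iv7 F96753) (iv6 F209899)
theorem F425407 : act 0 n202748 = n133323 := d21_10 F340942 (iv1 F340949) F312476 (iv6 F188573) F188575 D120226 F314269 (iv1 F112045) D116715 D202748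
theorem F425408 : act 0 n117053 = n202748 := d21_4 F86272 F322307 D142516 F225412 (iv6 D202748) (iv5 D116715) (iv1 D53781) D53782 F84796 (iv1 F317234)
def n202749 : Q := act 5 n116719
theorem D202749 : act 5 n116719 = n202749 := rfl
theorem F425409 : act 2 n202749 = n121094 := d2_1 D202749 (iv5 F354799) (iv2 F333753)
theorem F425410 : act 6 n202749 = n120985 := d12_2 (iv6 F182100) D202749 F326803 D126367 F351644
theorem F425411 : act 7 n202749 = n121089 := d13_2 F314271 D202749 F359991
theorem F425412 : act 4 n202749 = n120987 := d18_5 (iv1 F188031) F123345 F315021 D116719 D202749 F361875 F304261 D159266 F330763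
theorem F425413 : act 0 n160953 = n202749 := d19_0 (iv5 D202749) (iv4 D116719) F84795 D53821 (iv5 F313729) (iv4 F316213) (iv3 F94135) F171964 F171961 (iv4 F165070) (iv3 F364415) (iv1 D137228) D137230 (iv4 F340596) F160329 D104630 (iv5 F340607) F349862 D160953
theorem F425414 : act 1 n160953 = n174825 := d15_1 (iv0 F425413) (iv7 F354800) (iv2 F425409)
def n202750 : Q := act 0 n116821
theorem D202750 : act 0 n116821 = n202750 := rfl
theorem F425415 : act 5 n202750 = n143933 := d17_3 (iv1 F168106) D116821 D202750 (iv4 F405450) (iv5 F410414) (iv0 F410417) (iv5 D143966) (iv0 D67447) F49598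
theorem F425416 : act 4 n202750 = n202091 := d18_1 D202750 (iv1 F423084) F423032 (iv5 D196383) (iv4 F168142) F103302 (iv4 F111751) (iv0 F168105) D116821
theorem F425417 : act 3 n202750 = n143933 := d20_5 (iv4 D101232) F304947 (iv4 F248368) F359319 D202750 (iv4 F405450) F405451 (iv4 F424168) (iv3 F424171) (iv1 D193142)
theorem F425418 : act 1 n140345 = n202750 := d15_0 (iv0 D202750) F182407 (iv2 F223451)
theorem F425419 : act 6 n196280 = n202750 := d7_0 F425417 F226577 D196280
theorem F425420 : act 7 n143927 = n202750 := d8_0 F425417 (iv7 F404747) F404746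
theorem F425421 : act 2 n202750 = n143928 := d15_3 (iv0 F400552) F400553 F425420
def n202751 : Q := act 1 n116821
theorem D202751 : act 1 n116821 = n202751 := rfl
theorem F425422 : act 1 n202751 = n140345 := d15_1 D202751 (iv7 F400551) F400549
theorem F425423 : act 7 n202751 = n143928 := d15_2 (iv0 D202750) D202751 (iv2 F425421)
theorem F425424 : act 5 n202751 = n143934 := d17_7 F164809 F163967 (iv1 F163964) (iv5 D53828) D53827 D116821 D202751 (iv0 F400558) (iv4 D196390)
theorem F425425 : act 2 n143927 = n202751 := d2_3 F425424 (iv2 F404745) F404748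
def n202752 : Q := act 4 n116821
theorem D202752 : act 4 n116821 = n202752 := rfl
theorem F425426 : act 3 n202752 = n124384 := d5_1 D202752 F304597 F115374 (iv4 F248368) F359319
theorem F425427 : act 7 n202752 = n143929 := d11_2 (iv7 F182407) D202752 (iv4 D143929)
def n202753 : Q := act 2 n116832
theorem D202753 : act 2 n116832 = n202753 := rfl
theorem F425428 : act 3 n202753 = n143921 := d0_2 D116832 D202753 (iv2 D143921) (iv3 D67414) (iv2 F84862)
theorem F425429 : act 5 n202753 = n154619 := d2_2 F224415 D202753 (iv2 F344018)
theorem F425430 : act 6 n202753 = n156372 := d3_2 (iv6 F318153) D202753 (iv2 F341077)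
theorem F425431 : act 7 n202753 = n128047 := d4_2 (iv7 F182428) D202753 F320344
theorem F425432 : act 1 n202753 = n118309 := d15_0 F320342 (iv7 F182428) D202753
theorem F425433 : act 1 n128017 = n202753 := d15_0 F425432 (iv7 F248076) F248074
def n202754 : Q := act 4 n116834
theorem D202754 : act 4 n116834 = n202754 := rfl
theorem F425434 : act 7 n202754 = n143878 := d11_2 (iv7 F182431) D202754 (iv4 D143878)
def n202755 : Q := act 5 n116844
theorem D202755 : act 5 n116844 = n202755 := rfl
theorem F425435 : act 2 n202755 = n135430 := d2_1 D202755 (iv5 F332336) F332334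
theorem F425436 : act 3 n202755 = n173815 := d6_1 D202755 F303577 (iv3 F328146)
theorem F425437 : act 6 n202755 = n135387 := d12_2 (iv6 F328147) D202755 F340189 F301368 D84186
theorem F425438 : act 7 n202755 = n197606 := d13_2 (iv7 F182449) D202755 (iv5 D197606)
def n202756 : Q := act 0 n116853
theorem D202756 : act 0 n116853 = n202756 := rfl
theorem F425439 : act 5 n202756 = n169956 := d17_3 (iv1 F105124) (iv5 F322079) D202756 (iv4 F337729) (iv5 D166173) F194227 (iv5 F338186) F230530 F105509
theorem F425440 : act 4 n202756 = n202490 := d18_1 D202756 (iv1 F424239) F223870 (iv5 F223875) F338183 F338189 F105123 D68955 (iv5 F322079)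
theorem F425441 : act 6 n202756 = n147912 := d21_5 D116621 F181990 (iv5 F180723) D116853 D202756 F307655 (iv1 F307654) (iv5 F200552) (iv6 F338950) (iv1 F181476)
theorem F425442 : act 2 n147880 = n202756 := d15_3 (iv0 D202756) F322077 (iv7 F243047)
theorem F425443 : act 1 n147059 = n202756 := d15_0 (iv0 D202756) F322080 (iv2 F241166)
theorem F425444 : act 7 n202756 = n139697 := d15_2 F243030 F425443 F360891
theorem F425445 : act 3 n139681 = n202756 := d8_3 F425444 (iv3 D139697) (iv7 F349392)
def n202757 : Q := act 6 n116856
theorem D202757 : act 6 n116856 = n202757 := rfl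
theorem F425446 : act 2 n202757 = n196616 := d3_1 D202757 (iv6 D196616) (iv2 F182480)
theorem F425447 : act 3 n202757 = n116858 := d7_1 D202757 (iv6 D116858) D116856
theorem F425448 : act 4 n202757 = n140559 := d10_1 D202757 (iv6 D140559) (iv4 F182481)
def n202758 : Q := act 6 n116857
theorem D202758 : act 6 n116857 = n202758 := rfl
theorem F425449 : act 2 n202758 = n145513 := d3_1 D202758 (iv6 D145513) F182551
theorem F425450 : act 4 n202758 = n144005 := d10_1 D202758 (iv6 D144005) (iv4 F182482)
def n202759 : Q := act 5 n116858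
theorem D202759 : act 5 n116858 = n202759 := rfl
theorem F425451 : act 2 n202759 = n145516 := d2_1 D202759 (iv5 D145516) F182568
def n202760 : Q := act 6 n116867
theorem D202760 : act 6 n116867 = n202760 := rfl
theorem F425452 : act 2 n202760 = n116869 := d3_1 D202760 (iv6 D116869) D116867
theorem F425453 : act 3 n202760 = n140548 := d7_1 D202760 (iv6 D140548) (iv3 F182578)
theorem F425454 : act 5 n202760 = n159114 := d12_1 D202760 F300259 D167345 F334993 F225725
theorem F425455 : act 7 n202760 = n181198 := d14_2 (iv7 F182579) D202760 (iv6 F420846) F420844 (iv6 D145504)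
theorem F425456 : act 0 n202760 = n139765 := d21_4 D67031 (iv1 F225727) F225725 D202760 F222946 F214876 (iv1 F222368) F208903 F322254 F102938
theorem F425457 : act 0 n153561 = n202760 := d21_4 (iv5 D124817) D124815 F241307 D153561 (iv6 D202760) (iv5 F225725) (iv1 F225728) F103028 D67045 (iv1 F322287)
def n202761 : Q := act 6 n116868
theorem D202761 : act 6 n116868 = n202761 := rfl
theorem F425458 : act 3 n202761 = n196613 := d7_1 D202761 (iv6 D196613) (iv3 F182592)
theorem F425459 : act 4 n202761 = n116869 := d10_1 D202761 (iv6 D116869) D116868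
def n202762 : Q := act 5 n116869
theorem D202762 : act 5 n116869 = n202762 := rfl
theorem F425460 : act 2 n202762 = n159114 := d2_1 D202762 (iv5 F425454) F425452
theorem F425461 : act 3 n202762 = n116873 := d6_1 D202762 (iv5 D116873) (iv3 F182596)
theorem F425462 : act 6 n202762 = n158458 := d12_2 D116869 D202762 F334996 (iv6 D142834) (iv5 F180720)
theorem F425463 : act 0 n170091 = n202762 := d21_10 (iv5 D202762) F340750 (iv5 D169822) (iv6 F302282) F110133 (iv6 F296470) (iv5 F310259) (iv1 F312410) (iv5 F317114) D170091
theorem F425464 : act 4 n167343 = n202762 := d10_3 F425462 (iv4 F303002) D167343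
def n202763 : Q := act 7 n116869
theorem D202763 : act 7 n116869 = n202763 := rfl
theorem F425465 : act 2 n202763 = n181198 := d4_1 D202763 (iv7 F425455) F425452
theorem F425466 : act 3 n202763 = n116874 := d8_1 D202763 (iv7 D116874) (iv3 F182596)
theorem F425467 : act 6 n202763 = n145512 := d14_1 D202763 (iv7 D145512) (iv6 D68233) (iv7 F182491) D116869
theorem F425468 : act 1 n153561 = n202763 := d15_1 (iv0 F425457) (iv7 D202763) (iv2 F425452)
theorem F425469 : act 1 n202763 = n139765 := d15_1 F425468 F340778 (iv2 F340756)
def n202764 : Q := act 0 n116870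
theorem D202764 : act 0 n116870 = n202764 := rfl
theorem F425470 : act 5 n202764 = n190297 := d17_1 D202764 (iv1 D190297) (iv5 F366096) (iv4 F366093) (iv5 D96662) (iv0 F308538) (iv5 F309113) F340814 (iv4 F182599)
theorem F425471 : act 4 n202764 = n195609 := d18_3 (iv1 D116872) (iv4 F182599) D202764 (iv5 D195609) F162813 (iv0 F308650) F112393 D74881 (iv5 F340810)
theorem F425472 : act 2 n145477 = n202764 := d1_3 F425471 F397587 (iv4 F341147)
theorem F425473 : act 6 n197465 = n202764 := d10_0 F425471 F397589 (iv4 F404446)
theorem F425474 : act 7 n145478 = n202764 := d11_0 F425471 (iv7 F424521) F424523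
theorem F425475 : act 1 n145480 = n202764 := d17_8 F397590 (iv5 F363148) (iv1 F342570) F311175 (iv4 F360018) (iv5 F378978) (iv0 F382285) F382284 F425471
def n202765 : Q := act 1 n116870
theorem D202765 : act 1 n116870 = n202765 := rfl
theorem F425476 : act 1 n202765 = n145480 := d15_1 D202765 (iv7 D145480) (iv2 F182597)
theorem F425477 : act 7 n202765 = n145477 := d15_2 (iv0 D202764) D202765 F425472
theorem F425478 : act 4 n202765 = n139901 := d18_7 (iv1 F342570) F311174 D153231 (iv4 F323832) (iv5 D116873) (iv4 F182599) D202765 (iv0 F366107) (iv5 F363148)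
theorem F425479 : act 5 n202765 = n190296 := d18_9 (iv1 F381888) F381885 (iv1 F149868) (iv4 F379003) (iv5 F379004) F167317 F340814 (iv4 F182599) D202765
theorem F425480 : act 3 n174520 = n202765 := d20_9 F182599 (iv1 F340814) (iv4 F167317) F167316 (iv1 F164008) (iv3 F228383) F330955 (iv1 F298756) (iv4 F273399) (iv1 D202765)
theorem F425481 : act 2 n145478 = n202765 := d2_3 F425479 (iv2 F379311) (iv5 F379321)
theorem F425482 : act 6 n153455 = n202765 := d21_5 F204803 F110089 (iv5 D72582) (iv6 F109048) D153455 F425479 (iv1 F381888) F381886 (iv6 D128385) (iv1 F204805)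
def n202766 : Q := act 5 n116870
theorem D202766 : act 5 n116870 = n202766 := rfl
theorem F425483 : act 2 n202766 = n145479 := d2_1 D202766 (iv5 D145479) (iv2 F182597)
theorem F425484 : act 3 n202766 = n196614 := d6_1 D202766 (iv5 D196614) (iv3 F182598)
theorem F425485 : act 4 n202766 = n191007 := d9_1 D202766 (iv5 F381856) F381003 (iv5 F240648) (iv4 F240646) F324910 (iv4 F228529) (iv5 F382284) (iv4 D191113) (iv5 D97293) (iv4 F150037) F334467 (iv4 F323832) (iv5 D116873) (iv4 F182599)
theorem F425486 : act 1 n202766 = n190147 := d17_6 F210851 (iv5 D131609) (iv1 F323831) (iv5 D116873) (iv4 F182599) D202766 F378978 (iv0 F360019) F237855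
theorem F425487 : act 1 n190142 = n202766 := d15_0 F425486 F378977 (iv2 F378963)
def n202767 : Q := act 7 n116870
theorem D202767 : act 7 n116870 = n202767 := rfl
theorem F425488 : act 2 n202767 = n145480 := d4_1 D202767 (iv7 D145480) (iv2 F182597)
theorem F425489 : act 3 n202767 = n196615 := d8_1 D202767 (iv7 D196615) (iv3 F182598)
theorem F425490 : act 4 n202767 = n116874 := d11_1 D202767 (iv7 D116874) (iv4 F182599)
theorem F425491 : act 6 n202767 = n145517 := d14_1 D202767 (iv7 D145517) (iv6 D68235) (iv7 F182501) D116870
theorem F425492 : act 1 n145478 = n202767 := d15_1 D145478 (iv7 D202767) F182597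
theorem F425493 : act 1 n202767 = n145477 := d15_1 F425492 (iv7 F425477) (iv2 F425481)
theorem E103858 : n196615 = n196418 := ((c20_5 F50032 F39773 (iv4 F78151) (iv3 F164872) D196418 (iv3 F425489) F425490 F324902 D139786 F222969 (iv1 F103750))).symm
theorem F425494 : act 3 n196418 = n202767 := (sb E103858 (iv3 F425489))
theorem F425495 : act 7 n196418 = n107139 := (sb E103858 (iv7 D196615))
def n202768 : Q := act 4 n116901
theorem D202768 : act 4 n116901 = n202768 := rfl
theorem F425496 : act 2 n202768 = n155791 := d1_1 D202768 (iv4 F396865) F396863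
theorem F425497 : act 3 n202768 = n198397 := d5_1 D202768 F407878 F244882 F110863 (iv3 F322397)
theorem F425498 : act 7 n202768 = n144721 := d11_2 (iv7 F182639) D202768 (iv4 D144721)
theorem F425499 : act 5 n202768 = n155787 := d16_1 D202768 (iv4 D155787) F324658 (iv4 D59475) F101941 D67815 D144711 (iv7 F396864) F396863
theorem F425500 : act 6 n195370 = n202768 := d12_0 F425499 F397040 F397037 (iv6 F167085) D195370
def n202769 : Q := act 6 n116901
theorem D202769 : act 6 n116901 = n202769 := rfl
theorem F425501 : act 3 n202769 = n118283 := d7_1 D202769 (iv6 D118283) (iv3 F322397)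
theorem F425502 : act 4 n202769 = n195370 := d10_1 D202769 F425500 (iv4 D202768)
def n202770 : Q := act 2 n116914
theorem D202770 : act 2 n116914 = n202770 := rfl
theorem F425503 : act 3 n202770 = n145755 := d0_2 D116914 D202770 (iv2 D145755) (iv3 D68337) (iv2 F84956)
theorem F425504 : act 4 n202770 = n152491 := d1_2 (iv4 F347977) D202770 F347989
theorem F425505 : act 5 n202770 = n145755 := d2_2 (iv5 F182677) D202770 (iv2 D145755)
theorem F425506 : act 7 n202770 = n145764 := d4_2 (iv7 F182678) D202770 (iv2 D145764)
theorem F425507 : act 1 n202770 = n122498 := d15_0 F325856 (iv7 F182678) D202770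
theorem F425508 : act 1 n145763 = n202770 := d15_0 F425507 (iv7 F414852) F414850
theorem F425509 : act 6 n202770 = n188555 := d21_5 (iv5 D36470) (iv1 F296130) D56852 D122498 (iv1 F425507) F373934 (iv1 D133538) (iv5 F319755) (iv6 D122333) F89593
def n202771 : Q := act 6 n116914
theorem D202771 : act 6 n116914 = n202771 := rfl
theorem F425510 : act 2 n202771 = n188555 := d3_1 D202771 (iv6 F425509) (iv2 D202770)
theorem F425511 : act 3 n202771 = n116915 := d7_1 D202771 (iv6 D116915) D116914
theorem F425512 : act 4 n202771 = n160738 := d10_1 D202771 (iv6 D160738) (iv4 F347977)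
theorem F425513 : act 5 n202771 = n129214 := d12_1 D202771 (iv6 F319948) F139292 F321004 (iv5 F182677)
def n202772 : Q := act 0 n116918
theorem D202772 : act 0 n116918 = n202772 := rfl
theorem F425514 : act 5 n202772 = n146163 := d19_1 D202772 (iv4 F368750) (iv3 F393621) (iv1 F393624) (iv5 D137278) F100449 (iv3 D48676) (iv1 F37880) D49514 F78266 (iv3 F49902) D67902 F103977 F50299 F24704 (iv1 F20620) D26119 (iv4 F84971) D116918
theorem F425515 : act 3 n202772 = n160733 := d20_5 (iv4 D32372) (iv1 F41327) (iv4 F84971) D116918 D202772 F253893 F353594 F105413 (iv3 D68342) (iv1 F51412)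
theorem F425516 : act 2 n145782 = n202772 := d15_3 (iv0 D202772) (iv0 F357690) F353677
theorem F425517 : act 1 n145783 = n202772 := d15_0 (iv0 D202772) F182688 D145783
theorem F425518 : act 7 n202772 = n145781 := d15_2 (iv0 F382019) F425517 F347962
theorem F425519 : act 6 n166484 = n202772 := d21_3 F348476 F330732 D166484 (iv1 F425517) (iv6 F391582) F391580 (iv1 D131473) D131474 F359776 F361319
def n202773 : Q := act 2 n116918
theorem D202773 : act 2 n116918 = n202773 := rfl
theorem F425520 : act 3 n202773 = n145778 := d0_2 D116918 D202773 (iv2 D145778) (iv3 D68347) F84972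
theorem F425521 : act 4 n202773 = n146783 := d1_2 (iv4 F182686) D202773 (iv2 D146783)
theorem F425522 : act 5 n202773 = n145778 := d2_2 (iv5 F182687) D202773 (iv2 D145778)
theorem F425523 : act 7 n202773 = n145783 := d4_2 (iv7 F182688) D202773 (iv2 D145783)
theorem F425524 : act 1 n202773 = n145781 := d15_0 (iv0 D145781) (iv7 F182688) D202773
theorem F425525 : act 1 n145782 = n202773 := d15_0 F425524 (iv7 F425518) (iv2 F425516)
def n202774 : Q := act 6 n116918
theorem D202774 : act 6 n116918 = n202774 := rfl
theorem F425526 : act 3 n202774 = n116919 := d7_1 D202774 (iv6 D116919) D116918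
theorem F425527 : act 4 n202774 = n146785 := d10_1 D202774 (iv6 D146785) (iv4 F182686)
theorem F425528 : act 5 n202774 = n130746 := d12_1 D202774 F209308 F358024 (iv6 D145779) (iv5 F182687)
theorem F425529 : act 0 n200189 = n202774 := d21_4 F409891 F332165 (iv5 F332138) D200189 (iv6 D202774) F182687 (iv1 F354584) (iv5 F353671) F353670 D198920
def n202775 : Q := act 4 n116948
theorem D202775 : act 4 n116948 = n202775 := rfl
theorem F425530 : act 3 n202775 = n131038 := d5_1 D202775 (iv4 D131038) (iv3 D61470) (iv4 F313906) (iv3 F182783)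
theorem F425531 : act 6 n202775 = n154690 := d10_2 F318153 D202775 (iv4 F318152)
theorem F425532 : act 7 n202775 = n145149 := d11_2 (iv7 F182784) D202775 (iv4 D145149)
theorem F425533 : act 0 n202775 = n140590 := d17_0 (iv5 F411095) F411096 F373458 F180886 D116149 (iv0 F341059) F341061 (iv0 F328587) D202775
theorem F425534 : act 1 n202775 = n124796 := d18_6 F337313 F71136 D45421 (iv4 F315628) D116948 D202775 F200462 D124798 (iv5 F337317)
def n202776 : Q := act 1 n116964
theorem D202776 : act 1 n116964 = n202776 := rfl
theorem F425535 : act 1 n202776 = n128573 := d15_1 D202776 F365025 F365023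
theorem F425536 : act 7 n202776 = n128575 := d15_2 (iv0 F365090) D202776 F365101
theorem F425537 : act 5 n202776 = n116979 := d17_7 (iv1 F226789) F404265 F404264 F179635 (iv4 F85002) D116964 D202776 F182868 (iv4 F226785)
theorem F425538 : act 3 n142366 = n202776 := d19_19 (iv1 D202776) (iv5 D116964) F85002 (iv3 D53255) (iv1 F40812) D25832 (iv4 F82595) (iv3 F176327) (iv1 F350828) F350830 D163847 (iv3 F354867) (iv1 F414843) F414839 (iv4 F342083) (iv3 F177585) F398508 (iv5 F419691) F419692
theorem F425539 : act 6 n189960 = n202776 := d21_3 (iv5 D190029) F205497 D189960 (iv1 D202776) F365022 (iv5 F175947) (iv1 F175949) D112988 D200332 F416023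
theorem F425540 : act 2 n202776 = n128574 := d3_1 F425539 (iv6 F380907) F380902
def n202777 : Q := act 4 n116964
theorem D202777 : act 4 n116964 = n202777 := rfl
theorem F425541 : act 2 n202777 = n200282 := d1_1 D202777 F415817 F365023
theorem F425542 : act 3 n202777 = n144085 := d5_1 D202777 F365087 F176211 (iv4 F85006) (iv3 F182826)
theorem F425543 : act 6 n202777 = n200281 := d10_2 (iv6 F365022) D202777 F415812
theorem F425544 : act 7 n202777 = n128576 := d11_2 (iv7 F182827) D202777 (iv4 D128576)
theorem F425545 : act 5 n202777 = n199932 := d16_5 (iv4 F336195) F179635 (iv4 F85002) D116964 D202777 F414208 (iv5 F416363) (iv7 D200422) F176192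
def n202778 : Q := act 0 n116965
theorem D202778 : act 0 n116965 = n202778 := rfl
theorem F425546 : act 4 n202778 = n156296 := d18_3 (iv1 D202194) (iv4 F182829) D202778 F245599 (iv4 F409426) (iv0 F409429) (iv4 F226984) (iv0 F226986) (iv5 F423194)
theorem F425547 : act 1 n200318 = n202778 := d15_0 (iv0 D202778) F182830 (iv2 F415974)
theorem F425548 : act 2 n200340 = n202778 := d1_3 F425546 (iv2 F416055) (iv4 F416051)
theorem F425549 : act 7 n200339 = n202778 := d11_0 F425546 F416056 (iv4 F416064)
def n202779 : Q := act 1 n116965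
theorem D202779 : act 1 n116965 = n202779 := rfl
theorem F425550 : act 1 n202779 = n200318 := d15_1 D202779 (iv7 F416060) F416057
theorem F425551 : act 7 n202779 = n200340 := d15_2 (iv0 D202778) D202779 F425548
theorem F425552 : act 5 n202779 = n198651 := d17_7 (iv1 F423946) (iv5 D115727) (iv1 F168115) D196649 (iv4 F415976) F415977 D202779 (iv0 F414168) (iv4 F423945)
theorem F425553 : act 4 n202779 = n156297 := d17_9 (iv1 D156297) (iv5 D74342) D74340 D156291 (iv4 F408707) (iv5 F425552) F425550 F415977 D202779
theorem F425554 : act 3 n142370 = n202779 := d20_3 F346677 (iv1 F424836) (iv4 F424838) (iv1 D202779) F182828 F85008 F168096 D105743 F162376 (iv1 F346678)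
theorem F425555 : act 6 n199926 = n202779 := d21_3 (iv5 F415149) (iv1 D199925) D199926 (iv1 D202779) (iv6 D116965) D116964 F365090 (iv5 F226839) F408736 F415150
theorem F425556 : act 2 n200339 = n202779 := d1_3 F425553 F416054 (iv4 F416064)
def n202780 : Q := act 6 n116970
theorem D202780 : act 6 n116970 = n202780 := rfl
theorem F425557 : act 2 n202780 = n116972 := d3_1 D202780 (iv6 D116972) D116970
theorem F425558 : act 3 n202780 = n144084 := d7_1 D202780 (iv6 D144084) (iv3 F182836)
theorem F425559 : act 4 n202780 = n202454 := d10_1 D202780 (iv6 D202454) (iv4 F182837)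
def n202781 : Q := act 0 n116972
theorem D202781 : act 0 n116972 = n202781 := rfl
theorem F425560 : act 6 n202781 = n130548 := d21_5 D143976 (iv1 F331518) (iv5 D116971) D116972 D202781 F405865 (iv1 F176104) (iv5 D112889) (iv6 F95011) (iv1 F103311)
def n202782 : Q := act 1 n116972
theorem D202782 : act 1 n116972 = n202782 := rfl
def n202783 : Q := act 5 n116972
theorem D202783 : act 5 n116972 = n202783 := rfl
theorem F425561 : act 3 n202783 = n116974 := d6_1 D202783 (iv5 D116974) (iv3 F182844)
def n202784 : Q := act 5 n116973
theorem D202784 : act 5 n116973 = n202784 := rfl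
theorem F425562 : act 2 n202784 = n144095 := d2_1 D202784 (iv5 D144095) (iv2 F182846)
theorem F425563 : act 6 n202784 = n116974 := d12_2 D116973 D202784 (iv5 D116974) (iv6 D53910) D53909
def n202785 : Q := act 7 n116973
theorem D202785 : act 7 n116973 = n202785 := rfl
theorem F425564 : act 2 n202785 = n144096 := d4_1 D202785 (iv7 D144096) (iv2 F182846)
theorem F425565 : act 3 n202785 = n198821 := d8_1 D202785 (iv7 F409406) F331462
theorem F425566 : act 6 n202785 = n144058 := d14_1 D202785 (iv7 D144058) (iv6 D67493) (iv7 F85013) D116973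
theorem F425567 : act 1 n144094 = n202785 := d15_1 D144094 (iv7 D202785) F182846
theorem F425568 : act 1 n202785 = n144093 := d15_1 F425567 (iv7 F415640) F370185
def n202786 : Q := act 0 n116974
theorem D202786 : act 0 n116974 = n202786 := rfl
theorem F425569 : act 5 n202786 = n200719 := d17_3 (iv1 F97615) D116974 D202786 F417620 F176556 (iv0 D63050) F82452 F82450 (iv4 F97613)
theorem F425570 : act 1 n144102 = n202786 := d15_0 (iv0 D202786) (iv7 F214438) (iv2 F226818)
theorem F425571 : act 4 n202786 = n187297 := d18_7 (iv1 D194890) F363902 (iv1 D128860) D128861 (iv5 F381276) (iv4 F381277) F425570 (iv0 F394885) F394882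
theorem F425572 : act 3 n187295 = n202786 := d19_19 (iv1 F425570) F226819 F103410 (iv3 F103399) (iv1 F203856) (iv5 F327157) (iv4 D92730) F68144 D43388 (iv5 F69116) (iv4 F291060) F291059 (iv1 F72336) F290863 (iv4 F63701) D44686 F70260 D89884 D187295
theorem F425573 : act 2 n202786 = n190250 := d0_1 F425572 (iv3 D190250) (iv2 F149917) D191046 (iv2 F381974)
theorem F425574 : act 6 n202786 = n190260 := d7_2 F381988 F425572 (iv3 F381986)
theorem F425575 : act 7 n202786 = n144100 := d8_2 (iv7 F369745) F425572 (iv3 F366034)
theorem E103859 : n190250 = n144099 := (c15_4 (iv0 D144099) D144100 (iv7 F425575) F425573)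
theorem F425576 : act 2 n144099 = n202786 := (sb E103859 (iv2 F425573))
theorem F425577 : act 3 n144099 = n95772 := (sb E103859 (iv3 D190250))
theorem F425578 : act 6 n144099 = n95778 := (sb E103859 F379196)
def n202787 : Q := act 1 n116974
theorem D202787 : act 1 n116974 = n202787 := rfl
theorem F425579 : act 1 n202787 = n144102 := d15_1 D202787 (iv7 D144102) (iv2 F182847)
theorem F425580 : act 7 n202787 = n144099 := d15_2 (iv0 D202786) D202787 F425576
theorem F425581 : act 5 n202787 = n200264 := d17_7 F172059 (iv5 D60606) (iv1 D28776) (iv5 F41228) (iv4 F85016) D116974 D202787 (iv0 F415737) F401176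
theorem F425582 : act 4 n202787 = n190955 := d17_9 F394883 F394882 (iv1 D194890) (iv5 F369662) (iv4 F369663) (iv5 D113004) (iv0 F85017) D116974 D202787
theorem F425583 : act 2 n144100 = n202787 := d1_3 F425582 (iv2 D190955) (iv4 F366035)
theorem F425584 : act 3 n190252 = n202787 := d5_5 F425582 F381689 (iv4 F379131) F379130 (iv4 F379201)
def n202788 : Q := act 4 n116974
theorem D202788 : act 4 n116974 = n202788 := rfl
theorem F425585 : act 2 n202788 = n144101 := d1_1 D202788 (iv4 D144101) (iv2 F182847)
theorem F425586 : act 3 n190258 = n202788 := d20_5 (iv4 F340377) F36653 D44728 D95778 D190258 (iv4 D202788) D202786 F425571 (iv3 D187297) F340376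
def n202789 : Q := act 5 n116975
theorem D202789 : act 5 n116975 = n202789 := rfl
theorem F425587 : act 2 n202789 = n144354 := d2_1 D202789 (iv5 D144354) (iv2 F182850)
theorem F425588 : act 3 n202789 = n125702 := d6_1 D202789 F202185 F182849
theorem F425589 : act 6 n202789 = n125701 := d12_2 F409428 D202789 (iv5 F409434) (iv6 D198826) D198825
theorem F425590 : act 7 n202789 = n125758 := d13_2 F223586 D202789 (iv5 F223590)
theorem F425591 : act 4 n202789 = n190633 := d16_2 (iv4 F182848) D202789 F380393 D199940 F414239 F363545 (iv5 D139653) F182852 F182851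
theorem F425592 : act 1 n202789 = n125945 := d17_6 (iv1 F245096) D156132 F245351 (iv5 D139650) (iv4 F182848) D202789 F202442 F175783 (iv4 F245094)
theorem F425593 : act 0 n202789 = n200297 := d18_0 F415887 F392555 F346835 F84035 D115310 F245261 (iv4 F405981) F405985 D202789
def n202790 : Q := act 4 n116978
theorem D202790 : act 4 n116978 = n202790 := rfl
theorem F425594 : act 2 n202790 = n139633 := d1_1 D202790 F222799 F182998
theorem F425595 : act 6 n202790 = n202354 := d10_2 (iv6 F408736) D202790 (iv4 F423739)
theorem F425596 : act 7 n202790 = n144078 := d11_2 (iv7 F182999) D202790 (iv4 D144078)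
theorem F425597 : act 5 n202790 = n156287 := d16_5 (iv4 D67522) D67523 D144124 (iv5 F226839) D202790 (iv4 F411768) F411770 F396801 F226826
theorem F425598 : act 0 n202790 = n200103 := d20_1 D202790 F415022 (iv3 D144006) (iv1 D67470) (iv3 D31353) (iv4 D14780) (iv1 F20542) D26070 D53912 D116978
def n202791 : Q := act 6 n116979
theorem D202791 : act 6 n116979 = n202791 := rfl
theorem F425599 : act 2 n202791 = n144080 := d3_1 D202791 (iv6 D144080) (iv2 F182997)
theorem F425600 : act 3 n202791 = n119190 := d7_1 D202791 F330005 F182863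
theorem F425601 : act 4 n202791 = n152341 := d10_1 D202791 (iv6 F422649) F422647
theorem F425602 : act 5 n202791 = n189961 := d12_1 D202791 (iv6 D189961) D189960 F425539 F425537
theorem F425603 : act 7 n202791 = n119262 := d14_2 F182996 D202791 (iv6 F414441) F414438 (iv6 D144082)
theorem F425604 : act 0 n202791 = n144030 := d21_4 D128573 (iv1 F425535) F425537 D202791 (iv6 F415559) F415558 (iv1 D149212) D149214 (iv6 F408122) (iv1 F182818)
theorem F425605 : act 1 n202791 = n144289 := d15_1 (iv0 F425604) (iv7 F380205) F380203
def n202792 : Q := act 5 n116980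
theorem D202792 : act 5 n116980 = n202792 := rfl
theorem F425606 : act 2 n202792 = n116981 := d2_1 D202792 (iv5 D116981) D116980
theorem F425607 : act 3 n202792 = n144045 := d6_1 D202792 (iv5 D144045) (iv3 F182864)
theorem F425608 : act 7 n202792 = n144083 := d13_2 (iv7 F182866) D202792 (iv5 D144083)
theorem F425609 : act 0 n202792 = n144086 := d17_2 (iv1 F182867) D202792 F365078 (iv4 D115618) D115619 D202329 F423647 (iv0 F402383) (iv4 D144078)
theorem F425610 : act 1 n202792 = n144085 := d17_6 D115441 D202192 (iv1 F423185) F423188 (iv4 F182865) D202792 (iv5 F365089) (iv0 D116962) F85002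
def n202793 : Q := act 6 n116980
theorem D202793 : act 6 n116980 = n202793 := rfl
theorem F425611 : act 2 n202793 = n116982 := d3_1 D202793 (iv6 D116982) D116980
theorem F425612 : act 3 n202793 = n144046 := d7_1 D202793 (iv6 D144046) (iv3 F182864)
theorem F425613 : act 4 n202793 = n202008 := d10_1 D202793 (iv6 D202008) (iv4 F182865)
theorem F425614 : act 0 n198454 = n202793 := d21_4 (iv5 D198448) (iv1 D109316) D109318 D198454 (iv6 D202793) D202792 F425609 F365078 (iv6 F414202) (iv1 F414205)
def n202794 : Q := act 4 n116981
theorem D202794 : act 4 n116981 = n202794 := rfl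
theorem F425615 : act 3 n202794 = n128574 := d5_1 D202794 F365098 F182906 F85038 (iv3 F182870)
theorem F425616 : act 7 n202794 = n144087 := d11_2 (iv7 F182871) D202794 (iv4 D144087)
theorem F425617 : act 5 n202794 = n144077 := d16_7 F227340 F422702 (iv4 D202009) (iv5 D115323) (iv4 F85021) D116981 D202794 (iv7 F408748) F408745
theorem F425618 : act 6 n190811 = n202794 := d12_0 F425617 F393798 F393795 (iv6 D190812) D190811
def n202795 : Q := act 6 n116981
theorem D202795 : act 6 n116981 = n202795 := rfl
theorem F425619 : act 3 n202795 = n116983 := d7_1 D202795 (iv6 D116983) (iv3 F182870)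
theorem F425620 : act 4 n202795 = n190811 := d10_1 D202795 F425618 (iv4 D202794)
theorem F425621 : act 0 n191148 = n202795 := d21_4 (iv5 D188495) (iv1 F258623) (iv5 F414686) F414689 (iv6 D202795) (iv5 D116981) D116978 F226839 F365091 (iv1 F373701)
theorem F425622 : act 1 n191146 = n202795 := d18_6 F372689 (iv4 D188211) (iv1 F370942) (iv4 D185626) (iv5 F357386) D191146 F425620 F381197 (iv5 D188471)
def n202796 : Q := act 0 n116982
theorem D202796 : act 0 n116982 = n202796 := rfl
theorem F425623 : act 6 n202796 = n202413 := d21_5 D128571 (iv1 F355426) (iv5 D116981) D116982 D202796 F423906 (iv1 D200340) D200341 F416059 (iv1 F182825)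
theorem F425624 : act 3 n198459 = n202796 := d7_3 F425623 (iv3 F423908) F408709
theorem F425625 : act 4 n202360 = n202796 := d10_3 F425623 (iv4 D202413) (iv6 F423753)
theorem F425626 : act 7 n198454 = n202796 := d14_0 F425623 F423907 (iv6 D198651) F169718 D198454
def n202797 : Q := act 1 n116982
theorem D202797 : act 1 n116982 = n202797 := rfl
theorem F425627 : act 6 n198450 = n202797 := d21_3 (iv5 D199922) (iv1 F174072) D198450 (iv1 D202797) (iv6 D116982) D116981 (iv1 F365085) (iv5 D128569) (iv6 F336227) (iv1 F414166)
theorem F425628 : act 2 n202797 = n198454 := d3_1 F425627 (iv6 D198454) (iv2 F408053)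
theorem F425629 : act 3 n202797 = n144509 := d7_1 F425627 (iv6 F408687) F408682
theorem F425630 : act 4 n202797 = n202350 := d10_1 F425627 (iv6 D202350) (iv4 F408054)
def n202798 : Q := act 5 n116982
theorem D202798 : act 5 n116982 = n202798 := rfl
theorem F425631 : act 3 n202798 = n116986 := d6_1 D202798 (iv5 D116986) (iv3 F182872)
def n202799 : Q := act 7 n116982
theorem D202799 : act 7 n116982 = n202799 := rfl
theorem F425632 : act 3 n202799 = n116987 := d8_1 D202799 (iv7 D116987) (iv3 F182872)
theorem F425633 : act 4 n202799 = n202014 := d11_1 D202799 (iv7 D202014) (iv4 F182873)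
theorem F425634 : act 6 n202799 = n144092 := d14_1 D202799 (iv7 D144092) (iv6 D67513) (iv7 F85022) D116982
theorem F425635 : act 1 n198454 = n202799 := d15_1 (iv0 F425614) (iv7 D202799) (iv2 F425611)
def n202800 : Q := act 0 n116983
theorem D202800 : act 0 n116983 = n202800 := rfl
theorem F425636 : act 4 n202800 = n144093 := d20_8 F358961 F257742 (iv4 F326270) (iv3 F150111) D191194 (iv3 F382551) F182910 D202800 (iv3 F415639) (iv1 F370202)
theorem F425637 : act 6 n202800 = n200261 := d21_5 F95013 F48473 D53913 D116983 D202800 (iv5 D200261) (iv1 D112896) (iv5 F95020) (iv6 D60465) D60463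
theorem F425638 : act 2 n144055 = n202800 := d3_3 F425637 F415727 (iv6 F415680)
theorem F425639 : act 7 n144056 = n202800 := d15_2 (iv0 D144055) D144056 (iv2 F425638)
theorem F425640 : act 4 n187400 = n144056 := d11_3 F425639 F425636 (iv7 F415640)
theorem F425641 : act 6 n187399 = n144056 := d14_5 F425639 F425637 F415728 F415703 (iv7 F370183)
def n202801 : Q := act 1 n116983
theorem D202801 : act 1 n116983 = n202801 := rfl
theorem F425642 : act 1 n202801 = n144058 := d15_1 D202801 (iv7 D144058) (iv2 F182874)
theorem F425643 : act 7 n202801 = n144055 := d15_2 (iv0 D202800) D202801 F425638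
theorem F425644 : act 4 n144094 = n202801 := d20_0 (iv1 D202801) (iv4 F182910) F382551 (iv1 F382550) F222131 F167331 D113014 (iv4 F409403) (iv3 F425565) (iv1 F425567)
theorem F425645 : act 2 n202801 = n144056 := d1_1 F425644 (iv4 F425640) F370185
theorem F425646 : act 1 n144058 = n202800 := d15_1 F425642 (iv7 F425639) (iv2 F425645)
def n202802 : Q := act 5 n116983
theorem D202802 : act 5 n116983 = n202802 := rfl
theorem F425647 : act 2 n202802 = n144057 := d2_1 D202802 (iv5 D144057) (iv2 F182874)
theorem F425648 : act 6 n202802 = n116986 := d12_2 D116983 D202802 (iv5 D116986) (iv6 D53914) D53913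
def n202803 : Q := act 7 n116983
theorem D202803 : act 7 n116983 = n202803 := rfl
theorem F425649 : act 2 n202803 = n144058 := d4_1 D202803 (iv7 D144058) (iv2 F182874)
theorem F425650 : act 6 n202803 = n144096 := d14_1 D202803 (iv7 D144096) (iv6 D67514) (iv7 F85024) D116983
theorem F425651 : act 1 n144056 = n202803 := d15_1 D144056 (iv7 D202803) F182874
theorem F425652 : act 1 n202803 = n144055 := d15_1 F425651 (iv7 F425643) F425645
def n202804 : Q := act 3 n116984
theorem D202804 : act 3 n116984 = n202804 := rfl
theorem F425653 : act 2 n202804 = n193513 := d0_1 D202804 F390132 (iv2 F357417) (iv3 D144059) F182876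
theorem F425654 : act 4 n202804 = n144346 := d5_2 (iv4 F182875) D202804 (iv3 D144346) F176376 F176375
theorem F425655 : act 6 n202804 = n193511 := d7_2 F416491 D202804 F416498
theorem F425656 : act 7 n202804 = n144061 := d8_2 F182877 D202804 (iv3 D144061)
def n202805 : Q := act 5 n116984
theorem D202805 : act 5 n116984 = n202805 := rfl
theorem F425657 : act 2 n202805 = n144060 := d2_1 D202805 (iv5 D144060) F182876
theorem F425658 : act 7 n202805 = n144062 := d13_2 F182877 D202805 (iv5 D144062)
theorem F425659 : act 4 n202805 = n198420 := d16_6 (iv4 F345721) F202175 F176560 (iv5 F176370) (iv4 F182875) D202805 (iv5 D198420) D198421 F407973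
theorem F425660 : act 0 n202805 = n197482 := d17_2 D116984 D202805 (iv5 D197482) (iv4 D108223) D108224 (iv0 F167343) (iv5 F168056) F168055 (iv4 F85027)
theorem F425661 : act 1 n202805 = n197486 := d17_6 (iv1 F82543) (iv5 F161230) F176155 (iv5 F176370) (iv4 F182875) D202805 (iv5 D197486) F175780 F175778
def n202806 : Q := act 5 n116985
theorem D202806 : act 5 n116985 = n202806 := rfl
theorem F425662 : act 2 n202806 = n144062 := d2_1 D202806 (iv5 D144062) F182882
theorem F425663 : act 3 n202806 = n174674 := d6_1 D202806 (iv5 F408657) F408655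
theorem F425664 : act 6 n202806 = n174670 := d12_2 (iv6 F211356) D202806 (iv5 D174670) (iv6 F326390) (iv5 F349529)
theorem F425665 : act 7 n202806 = n144060 := d13_2 (iv7 F182880) D202806 (iv5 D144060)
theorem F425666 : act 0 n202806 = n197486 := d17_2 (iv1 F182879) D202806 (iv5 D197486) (iv4 D108226) (iv5 F93175) (iv0 F182898) (iv5 D116989) F85028 (iv4 F103357)
theorem F425667 : act 1 n202806 = n197482 := d17_6 D52204 D113102 F395465 F395462 (iv4 F182881) D202806 (iv5 D197482) (iv0 F171778) F82436
def n202807 : Q := act 4 n116986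
theorem D202807 : act 4 n116986 = n202807 := rfl
theorem F425668 : act 2 n202807 = n144064 := d1_1 D202807 (iv4 D144064) (iv2 F182883)
theorem F425669 : act 5 n202807 = n194282 := d16_1 D202807 F415516 (iv5 D200208) (iv4 D112837) (iv5 F82307) (iv4 F103357) (iv5 F226775) (iv7 D144065) (iv2 F182883)
theorem F425670 : act 0 n202807 = n187257 := d17_0 F369648 D194971 (iv5 F395244) (iv4 F415623) (iv5 D200229) F175943 (iv5 F415970) F415973 D202807
theorem F425671 : act 1 n202807 = n200224 := d18_6 F182893 (iv4 D116988) (iv1 D53916) (iv4 F85027) D116986 D202807 (iv4 D200224) F226850 F226849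
def n202808 : Q := act 3 n116988
theorem D202808 : act 3 n116988 = n202808 := rfl
theorem F425672 : act 4 n202808 = n145325 := d5_2 D116988 D202808 (iv3 D145325) (iv4 D68137) (iv3 F168052)
theorem F425673 : act 6 n202808 = n190631 := d7_2 (iv6 F209115) D202808 F380383
theorem F425674 : act 7 n202808 = n144066 := d8_2 (iv7 F182891) D202808 (iv3 D144066)
theorem F425675 : act 0 n202808 = n144005 := d20_4 F103357 (iv1 F85028) D116988 D202808 (iv3 F393011) F393012 (iv1 F415297) (iv4 F425654) (iv3 D202804) (iv1 F182878)
theorem F425676 : act 5 n187298 = n202808 := d12_5 F425673 (iv5 D190631) F148061 (iv5 F137986) D187298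
def n202809 : Q := act 5 n116988
theorem D202809 : act 5 n116988 = n202809 := rfl
theorem F425677 : act 2 n202809 = n144069 := d2_1 D202809 (iv5 D144069) (iv2 F182890)
theorem F425678 : act 3 n202809 = n187298 := d6_1 D202809 F425676 (iv3 D202808)
theorem F425679 : act 6 n202809 = n187297 := d12_2 (iv6 F209115) D202809 F369747 F363493 F349594
theorem F425680 : act 7 n202809 = n144067 := d13_2 (iv7 F182891) D202809 (iv5 D144067)
theorem F425681 : act 4 n202809 = n190260 := d16_6 (iv4 F392630) F392631 (iv4 F326906) (iv5 D116989) D116988 D202809 (iv5 F395154) F395155 (iv2 D194283)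
theorem F425682 : act 0 n202809 = n197476 := d17_2 F182893 D202809 (iv5 D197476) (iv4 F167332) (iv5 F82763) (iv0 F176401) F176399 F175995 F175992
theorem F425683 : act 1 n202809 = n197474 := d17_6 D49981 D108224 F182899 (iv5 D116989) D116988 D202809 (iv5 D197474) (iv0 D108218) F79063
def n202810 : Q := act 4 n116990
theorem D202810 : act 4 n116990 = n202810 := rfl
theorem F425684 : act 2 n202810 = n144112 := d1_1 D202810 (iv4 D144112) (iv2 F340488)
theorem F425685 : act 7 n202810 = n144107 := d11_2 (iv7 F340489) D202810 (iv4 D144107)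
theorem F425686 : act 0 n202810 = n197432 := d17_0 (iv5 D197432) (iv1 D108153) F79001 (iv4 F162241) D195513 F397193 (iv5 D144116) F182900 D202810
theorem F425687 : act 1 n202810 = n197429 := d18_8 (iv1 F403721) F403716 (iv1 F404233) F416361 F416360 (iv4 D144115) F182900 D202810 (iv5 D197429)
def n202811 : Q := act 4 n116991
theorem D202811 : act 4 n116991 = n202811 := rfl
theorem F425688 : act 2 n202811 = n144107 := d1_1 D202811 (iv4 D144107) (iv2 F340508)
theorem F425689 : act 6 n202811 = n196716 := d10_2 F392967 D202811 F401575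
theorem F425690 : act 7 n202811 = n144112 := d11_2 (iv7 F340509) D202811 (iv4 D144112)
theorem F425691 : act 0 n202811 = n197429 := d17_0 (iv5 D197429) (iv1 F403721) F403717 F396700 (iv5 F419757) (iv0 F419760) (iv5 D116993) D116991 D202811
theorem F425692 : act 1 n202811 = n197432 := d18_8 (iv1 D108153) (iv4 F167242) D197425 F404223 (iv5 D195353) F162061 D116991 D202811 (iv5 D197432)
theorem F425693 : act 3 n202811 = n195333 := d20_3 (iv4 D144115) (iv1 F182904) D202811 (iv1 F396733) F323666 F103708 (iv1 F49740) D65630 D139806 (iv1 F226827)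
def n202812 : Q := act 5 n116992
theorem D202812 : act 5 n116992 = n202812 := rfl
theorem F425694 : act 2 n202812 = n116993 := d2_1 D202812 (iv5 D116993) D116992
theorem F425695 : act 3 n202812 = n144145 := d6_1 D202812 (iv5 D144145) (iv3 F182901)
theorem F425696 : act 4 n202812 = n202776 := d9_1 D202812 F425537 (iv4 F422647) F422648 F226834 (iv5 D144120) (iv4 D67522) D67523 D144124 (iv5 F226839) D202790 F425597 (iv4 F411768) F411770 F396800
theorem F425697 : act 7 n202812 = n144116 := d13_2 (iv7 F182902) D202812 (iv5 D144116)
theorem F425698 : act 1 n202812 = n144122 := d17_6 (iv1 F336189) F215920 D199339 F411770 F396800 D202812 F365093 F347194 (iv4 F99690)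
theorem F425699 : act 1 n144123 = n202812 := d15_0 F425698 (iv7 F419758) F419755
def n202813 : Q := act 6 n116992
theorem D202813 : act 6 n116992 = n202813 := rfl
theorem F425700 : act 2 n202813 = n116994 := d3_1 D202813 (iv6 D116994) D116992
theorem F425701 : act 3 n202813 = n144146 := d7_1 D202813 (iv6 D144146) (iv3 F182901)
def n202814 : Q := act 0 n116994
theorem D202814 : act 0 n116994 = n202814 := rfl
theorem F425702 : act 6 n202814 = n133345 := d21_5 D195513 F404257 (iv5 D116993) D116994 D202814 F361841 (iv1 F178456) (iv5 D113117) (iv6 F176210) (iv1 F347191)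
def n202815 : Q := act 5 n116994
theorem D202815 : act 5 n116994 = n202815 := rfl
theorem F425703 : act 3 n202815 = n116996 := d6_1 D202815 (iv5 D116996) (iv3 F182908)
def n202816 : Q := act 0 n116995
theorem D202816 : act 0 n116995 = n202816 := rfl
def n202817 : Q := act 1 n116995
theorem D202817 : act 1 n116995 = n202817 := rfl
theorem F425704 : act 1 n202817 = n144157 := d15_1 D202817 (iv7 D144157) (iv2 F182909)
theorem F425705 : act 6 n189996 = n202817 := d21_3 F350525 (iv1 F350523) (iv5 F378503) (iv1 D202817) (iv6 D116995) (iv5 D53919) (iv1 F41240) D31354 D67474 D144019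
theorem F425706 : act 2 n202817 = n144155 := d3_1 F425705 (iv6 F350481) D189996
theorem F425707 : act 3 n202817 = n190408 := d7_1 F425705 (iv6 D190408) (iv3 F378501)
theorem F425708 : act 7 n202817 = n144154 := d14_2 (iv7 F378504) F425705 F416400 F416396 (iv6 D190434)
theorem F425709 : act 2 n144154 = n202816 := d15_3 (iv0 D202816) D202817 F425708
theorem F425710 : act 7 n144155 = n202816 := d4_2 (iv7 F425708) F425706 (iv2 F425709)
theorem F425711 : act 3 n202816 = n190001 := d8_1 F425710 (iv7 D190001) (iv3 F350482)
theorem F425712 : act 6 n202816 = n190437 := d14_1 F425710 (iv7 D190437) (iv6 D96031) (iv7 F147165) F350481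
theorem F425713 : act 1 n144157 = n202816 := d15_1 F425704 (iv7 F425710) (iv2 F425706)
def n202818 : Q := act 5 n116995
theorem D202818 : act 5 n116995 = n202818 := rfl
theorem F425714 : act 2 n202818 = n144156 := d2_1 D202818 (iv5 D144156) (iv2 F182909)
theorem F425715 : act 6 n202818 = n116996 := d12_2 D116995 D202818 (iv5 D116996) (iv6 D53920) D53919
def n202819 : Q := act 7 n116995
theorem D202819 : act 7 n116995 = n202819 := rfl
theorem F425716 : act 2 n202819 = n144157 := d4_1 D202819 (iv7 D144157) (iv2 F182909)
theorem F425717 : act 4 n202819 = n202803 := d11_1 D202819 (iv7 D202803) (iv4 F182910)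
theorem F425718 : act 6 n202819 = n144133 := d14_1 D202819 (iv7 D144133) (iv6 D67525) (iv7 F85037) D116995
theorem F425719 : act 1 n144155 = n202819 := d15_1 D144155 (iv7 D202819) F182909
theorem F425720 : act 1 n202819 = n144154 := d15_1 F425719 (iv7 F425708) F425706
def n202820 : Q := act 0 n116996
theorem D202820 : act 0 n116996 = n202820 := rfl
theorem F425721 : act 5 n202820 = n128865 := d17_3 (iv1 F112218) D116996 D202820 (iv4 D128865) (iv5 D60602) (iv0 D28775) (iv5 F41228) F53926 (iv4 F112217)
theorem F425722 : act 4 n202820 = n174670 := d18_1 D202820 F381278 (iv4 F381277) F226819 F103410 F53920 (iv4 F82432) (iv0 F85042) D116996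
theorem F425723 : act 1 n133385 = n202820 := d15_0 (iv0 D202820) (iv7 F247458) F247457
theorem F425724 : act 1 n174670 = n202788 := d18_6 (iv1 F415738) F410944 F172161 D128865 (iv5 F425721) F425722 (iv4 D202788) D202787 F425581
theorem F425725 : act 2 n144158 = n202820 := d2_3 F425721 (iv2 F212918) (iv5 F226861)
theorem F425726 : act 7 n144159 = n202820 := d13_0 F425721 F226657 F226862
def n202821 : Q := act 1 n116996
theorem D202821 : act 1 n116996 = n202821 := rfl
theorem F425727 : act 1 n202821 = n133385 := d15_1 D202821 F214441 (iv2 F182911)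
theorem F425728 : act 7 n202821 = n144158 := d15_2 (iv0 D202820) D202821 F425725
theorem F425729 : act 5 n202821 = n128869 := d17_7 F176255 F176254 F168149 F48369 (iv4 F85041) D116996 D202821 (iv0 F410893) F410891
theorem F425730 : act 2 n144159 = n202821 := d2_3 F425729 (iv2 F226655) F226862
def n202822 : Q := act 3 n116997
theorem D202822 : act 3 n116997 = n202822 := rfl
theorem F425731 : act 5 n202822 = n158906 := d6_2 (iv5 F357478) D202822 F250199
theorem F425732 : act 6 n202822 = n158861 := d7_2 (iv6 F357479) D202822 F250114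
theorem F425733 : act 7 n202822 = n144138 := d8_2 (iv7 F357480) D202822 (iv3 D144138)
theorem F425734 : act 0 n202822 = n144006 := d20_4 (iv4 F180554) D202546 F424434 D202822 (iv3 D144006) (iv4 F175340) (iv1 F363553) (iv4 F373266) F373265 (iv1 D144500)
theorem F425735 : act 4 n202822 = n144071 := d20_6 (iv4 D30276) (iv1 F24046) (iv4 F41245) D53921 D116997 D202822 (iv1 D144071) F103394 (iv3 D31368) (iv1 F48671)
theorem F425736 : act 2 n202004 = n202822 := d1_3 F425735 F392462 D202004
def n202823 : Q := act 5 n116999
theorem D202823 : act 5 n116999 = n202823 := rfl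
theorem F425737 : act 2 n202823 = n117000 := d2_1 D202823 (iv5 D117000) D116999
theorem F425738 : act 3 n202823 = n144116 := d6_1 D202823 (iv5 D144116) (iv3 F182913)
theorem F425739 : act 7 n202823 = n144145 := d13_2 (iv7 F182915) D202823 (iv5 D144145)
theorem F425740 : act 1 n202823 = n144147 := d17_6 D65373 D139282 (iv1 F386893) (iv5 D139365) (iv4 F182914) D202823 F385934 (iv0 D127104) F94066
theorem F425741 : act 0 n202823 = n144148 := d21_1 D202823 (iv5 F386896) (iv6 F413193) F413195 (iv6 F349158) F349157 (iv1 F375513) F375510 (iv6 D144140) (iv1 F182916)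
theorem F425742 : act 6 n202823 = n188485 := d21_3 (iv5 D144139) (iv1 F182916) D202823 (iv1 F373798) F373796 (iv5 F376426) F376427 (iv5 D113029) F331477 (iv1 F357463)
def n202824 : Q := act 6 n116999
theorem D202824 : act 6 n116999 = n202824 := rfl
theorem F425743 : act 2 n202824 = n117001 := d3_1 D202824 (iv6 D117001) D116999
theorem F425744 : act 3 n202824 = n144117 := d7_1 D202824 (iv6 D144117) (iv3 F182913)
theorem F425745 : act 4 n202824 = n139366 := d10_1 D202824 (iv6 D139366) (iv4 F182914)
def n202825 : Q := act 4 n117000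
theorem D202825 : act 4 n117000 = n202825 := rfl
theorem F425746 : act 3 n202825 = n195199 := d5_1 D202825 F396215 F182842 (iv4 F85046) (iv3 F182919)
theorem F425747 : act 6 n202825 = n186248 := d10_2 F373781 D202825 (iv4 F373783)
theorem F425748 : act 7 n202825 = n144149 := d11_2 (iv7 F182920) D202825 (iv4 D144149)
theorem F425749 : act 5 n202825 = n145917 := d17_5 F357481 (iv5 F357475) (iv1 D116998) D117000 D202825 (iv0 D145917) D145920 (iv0 F355667) (iv4 F356089)
theorem F425750 : act 0 n202825 = n194176 := d17_0 (iv5 F392260) (iv1 F343300) F343305 F355661 (iv5 F355628) F204357 D200382 F416226 D202825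
theorem F425751 : act 1 n202825 = n144972 := d18_8 F331478 (iv4 F161717) F365028 (iv4 F226337) (iv5 F392356) (iv4 F416223) F416226 D202825 (iv5 D144972)
def n202826 : Q := act 1 n117001
theorem D202826 : act 1 n117001 = n202826 := rfl
theorem F425752 : act 6 n198523 = n202826 := d21_3 F219347 F174007 D198523 (iv1 D202826) (iv6 D117001) D117000 (iv1 F416226) (iv5 D200382) D200383 F416230
theorem F425753 : act 3 n202826 = n198525 := d7_1 F425752 (iv6 D198525) (iv3 F408217)
def n202827 : Q := act 5 n117001
theorem D202827 : act 5 n117001 = n202827 := rfl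
theorem F425754 : act 3 n202827 = n117003 := d6_1 D202827 (iv5 D117003) (iv3 F182921)
def n202828 : Q := act 7 n117001
theorem D202828 : act 7 n117001 = n202828 := rfl
theorem F425755 : act 3 n202828 = n117004 := d8_1 D202828 (iv7 D117004) (iv3 F182921)
theorem F425756 : act 4 n202828 = n139374 := d11_1 D202828 (iv7 D139374) (iv4 F182922)
theorem F425757 : act 6 n202828 = n133384 := d14_1 D202828 F214440 (iv6 D67533) (iv7 F85044) D117001
def n202829 : Q := act 0 n117002
theorem D202829 : act 0 n117002 = n202829 := rfl
theorem F425758 : act 4 n202829 = n202816 := d20_2 (iv4 F182924) D202829 F425711 (iv1 F378520) (iv3 F399895) (iv4 F367194) F358963 F294906 (iv3 F370186) F370187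
theorem F425759 : act 6 n202829 = n200451 := d21_5 (iv5 D31354) (iv1 F41243) D53922 D117002 D202829 (iv5 D200451) (iv1 D113124) (iv5 F176214) (iv6 D113101) F82541
theorem F425760 : act 2 n144130 = n202829 := d3_3 F425759 F416469 (iv6 F416338)
theorem F425761 : act 7 n144131 = n202829 := d14_0 F425759 F416471 (iv6 D190435) F377505 F377507
def n202830 : Q := act 1 n117002
theorem D202830 : act 1 n117002 = n202830 := rfl
theorem F425762 : act 1 n202830 = n144133 := d15_1 D202830 (iv7 D144133) (iv2 F182923)
theorem F425763 : act 7 n202830 = n144130 := d15_2 (iv0 D202829) D202830 F425760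
theorem F425764 : act 4 n202817 = n202830 := d20_6 F97862 D62734 D133658 (iv3 F376737) (iv1 F379697) (iv3 F425707) (iv1 D202830) F182924 (iv3 F331462) (iv1 D133654)
theorem F425765 : act 6 n176858 = n202830 := d21_3 F350530 (iv1 F158080) (iv5 F364555) (iv1 D202830) (iv6 D117002) (iv5 D53922) (iv1 D26073) D26075 D53930 D117019
theorem F425766 : act 2 n202830 = n144131 := d3_1 F425765 (iv6 F377507) (iv2 F377506)
theorem F425767 : act 1 n144133 = n202829 := d15_1 F425762 (iv7 F425761) (iv2 F425766)
theorem F425768 : act 3 n202830 = n189612 := d5_1 F425764 (iv4 D189612) (iv3 F377100) (iv4 F379695) (iv3 F425707)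
def n202831 : Q := act 5 n117002
theorem D202831 : act 5 n117002 = n202831 := rfl
theorem F425769 : act 2 n202831 = n144132 := d2_1 D202831 (iv5 D144132) (iv2 F182923)
theorem F425770 : act 6 n202831 = n117003 := d12_2 D117002 D202831 (iv5 D117003) (iv6 D53923) D53922
def n202832 : Q := act 7 n117002
theorem D202832 : act 7 n117002 = n202832 := rfl
theorem F425771 : act 2 n202832 = n144133 := d4_1 D202832 (iv7 D144133) (iv2 F182923)
theorem F425772 : act 3 n202832 = n188486 := d8_1 D202832 F373784 (iv3 F373782)
theorem F425773 : act 4 n202832 = n202785 := d11_1 D202832 (iv7 D202785) (iv4 F182924)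
theorem F425774 : act 6 n202832 = n144157 := d14_1 D202832 (iv7 D144157) (iv6 D67534) (iv7 F85047) D117002
theorem F425775 : act 1 n144131 = n202832 := d15_1 D144131 (iv7 D202832) F182923
theorem F425776 : act 1 n202832 = n144130 := d15_1 F425775 (iv7 F425763) F425766
def n202833 : Q := act 4 n117003
theorem D202833 : act 4 n117003 = n202833 := rfl
theorem F425777 : act 2 n202833 = n144135 := d1_1 D202833 (iv4 D144135) (iv2 F182925)
theorem F425778 : act 5 n202833 = n186300 := d16_1 D202833 (iv4 F415522) (iv5 D200209) F175701 (iv5 F175993) F175992 (iv5 F226849) (iv7 D144136) (iv2 F182925)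
theorem F425779 : act 1 n202833 = n200316 := d18_6 (iv1 F182888) F175997 (iv1 D64437) (iv4 F85050) D117003 D202833 (iv4 D200316) D200315 F415963
def n202834 : Q := act 1 n117005
theorem D202834 : act 1 n117005 = n202834 := rfl
theorem F425780 : act 1 n202834 = n135958 := d15_1 D202834 F218717 (iv2 F182936)
theorem F425781 : act 7 n202834 = n137130 := d15_2 F396255 D202834 (iv2 F390865)
theorem F425782 : act 3 n202004 = n202834 := d20_3 F85021 D115320 D202004 (iv1 D202834) (iv3 D117005) F180260 (iv1 F180264) (iv4 F180704) F182863 (iv1 D116979)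
theorem F425783 : act 2 n202834 = n137131 := d0_1 F425782 F390837 (iv2 F357477) D202822 (iv2 F425736)
theorem F425784 : act 5 n194223 = n202834 := d2_0 F425783 F390838 (iv2 F392405)
def n202835 : Q := act 5 n117006
theorem D202835 : act 5 n117006 = n202835 := rfl
theorem F425785 : act 2 n202835 = n144176 := d2_1 D202835 (iv5 D144176) (iv2 F182939)
theorem F425786 : act 3 n202835 = n190184 := d6_1 D202835 (iv5 F385780) F385777
theorem F425787 : act 4 n190186 = n202835 := d5_0 F425786 (iv4 D190184) (iv3 D95685) D95686 D190186
def n202836 : Q := act 6 n117007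
theorem D202836 : act 6 n117007 = n202836 := rfl
theorem F425788 : act 3 n202836 = n117008 := d7_1 D202836 (iv6 D117008) D117007
theorem F425789 : act 4 n202836 = n202488 := d10_1 D202836 (iv6 D202488) (iv4 F182940)
theorem F425790 : act 0 n198419 = n202836 := d21_4 (iv5 F353195) (iv1 D109297) D109299 D198419 (iv6 D202836) (iv5 F225392) (iv1 F340491) (iv5 F331558) (iv6 F401445) F401447
def n202837 : Q := act 1 n117008
theorem D202837 : act 1 n117008 = n202837 := rfl
theorem F425791 : act 1 n202837 = n144167 := d15_1 D202837 (iv7 D144167) (iv2 F182942)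
theorem F425792 : act 7 n202837 = n144164 := d15_2 (iv0 F408450) D202837 (iv2 F408445)
theorem F425793 : act 4 n202837 = n117064 := d18_7 (iv1 F183432) (iv4 F346305) F286184 (iv4 F346301) (iv5 F330013) (iv4 F182943) D202837 F183084 (iv5 F322280)
theorem F425794 : act 6 n178885 = n202837 := d21_3 D142497 F378305 F378306 (iv1 D202837) (iv6 D117008) F181601 (iv1 D66804) (iv5 D31140) D31141 D66807
theorem F425795 : act 2 n202837 = n139724 := d3_1 F425794 (iv6 F347166) (iv2 F278749)
theorem F425796 : act 5 n202837 = n190217 := d12_1 F425794 F379113 F369543 (iv6 F378303) F378306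
def n202838 : Q := act 5 n117008
theorem D202838 : act 5 n117008 = n202838 := rfl
theorem F425797 : act 2 n202838 = n144166 := d2_1 D202838 (iv5 D144166) (iv2 F182942)
theorem F425798 : act 6 n202838 = n198508 := d12_2 D117008 D202838 F408169 (iv6 D142484) (iv5 F181601)
theorem F425799 : act 4 n202838 = n190864 := d16_4 (iv4 F346301) (iv5 F330013) (iv4 F182943) D202838 (iv5 D190864) F149590 D183385 F356592 (iv2 F356590)
theorem F425800 : act 0 n202838 = n151279 := d17_2 (iv1 D202837) D202838 (iv5 D151279) F107785 (iv5 F85247) (iv0 F237514) F322014 D117064 (iv4 F425793)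
def n202839 : Q := act 7 n117008
theorem D202839 : act 7 n117008 = n202839 := rfl
theorem F425801 : act 2 n202839 = n144167 := d4_1 D202839 (iv7 D144167) (iv2 F182942)
theorem F425802 : act 4 n202839 = n202484 := d11_1 D202839 (iv7 D202484) (iv4 F182943)
theorem F425803 : act 6 n202839 = n144177 := d14_1 D202839 (iv7 D144177) (iv6 D67543) (iv7 F180258) D117008
theorem F425804 : act 1 n139724 = n202839 := d15_1 (iv0 F352561) (iv7 D202839) F182942
theorem F425805 : act 1 n202839 = n144164 := d15_1 F425804 (iv7 F425792) F425795
def n202840 : Q := act 3 n117013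
theorem D202840 : act 3 n117013 = n202840 := rfl
theorem F425806 : act 2 n202840 = n137178 := d0_1 D202840 F360843 F165852 (iv3 F331784) F348050
theorem F425807 : act 5 n202840 = n198410 := d6_2 (iv5 F346904) D202840 (iv3 D198410)
theorem F425808 : act 7 n202840 = n137183 := d8_2 (iv7 F352804) D202840 (iv3 F352807)
theorem F425809 : act 4 n202840 = n137154 := d20_6 (iv4 D53938) (iv1 D26078) (iv4 F41250) (iv3 F85060) D117013 D202840 (iv1 F220337) (iv4 F220256) F220255 (iv1 F100370)
theorem F425810 : act 6 n198521 = n202840 := d10_0 F425809 (iv6 F385661) (iv4 F408207)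
def n202841 : Q := act 6 n117013
theorem D202841 : act 6 n117013 = n202841 := rfl
theorem F425811 : act 2 n202841 = n199176 := d3_1 D202841 F411024 F348050
theorem F425812 : act 3 n202841 = n198521 := d7_1 D202841 F425810 (iv3 D202840)
theorem F425813 : act 5 n202841 = n198091 := d12_1 D202841 F406752 (iv5 F354539) (iv6 F175102) (iv5 F346904)
theorem F425814 : act 7 n202841 = n197446 := d14_2 (iv7 F352804) D202841 (iv6 D197446) (iv7 F245774) D157226
theorem F425815 : act 0 n178884 = n202841 := d21_4 F355199 D200448 F416461 F385692 (iv6 D202841) F346904 (iv1 D109290) D109291 (iv6 F407917) F407919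
theorem F425816 : act 1 n178885 = n202841 := d15_0 (iv0 F425815) F278748 (iv2 F278749)
def n202842 : Q := act 6 n117017
theorem D202842 : act 6 n117017 = n202842 := rfl
theorem F425817 : act 2 n202842 = n193697 := d3_1 D202842 (iv6 F390715) (iv2 F355627)
theorem F425818 : act 3 n202842 = n117018 := d7_1 D202842 (iv6 D117018) D117017
theorem F425819 : act 4 n202842 = n200368 := d10_1 D202842 (iv6 D200368) (iv4 F355660)
theorem F425820 : act 7 n202842 = n193698 := d14_2 (iv7 F182957) D202842 (iv6 F390718) (iv7 D113031) F331477
theorem F425821 : act 0 n202842 = n193699 := d21_10 F390721 (iv1 F362572) (iv5 F377557) F377558 F377450 (iv6 F386897) (iv5 F386896) (iv1 D127105) (iv5 F182956) D202842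
theorem F425822 : act 1 n202842 = n192158 := d15_1 (iv0 F425821) (iv7 F416317) F416319
def n202843 : Q := act 1 n117018
theorem D202843 : act 1 n117018 = n202843 := rfl
theorem F425823 : act 1 n202843 = n144210 := d15_1 D202843 (iv7 D144210) (iv2 F182958)
theorem F425824 : act 7 n202843 = n144207 := d15_2 F420317 D202843 F420320
theorem F425825 : act 4 n202843 = n200255 := d18_7 (iv1 F176238) F351258 (iv1 D113057) F82503 (iv5 F95020) (iv4 F182959) D202843 (iv0 D200255) F331506
theorem F425826 : act 6 n189976 = n202843 := d21_3 F355232 (iv1 F342957) D189976 (iv1 D202843) (iv6 D117018) F85064 (iv1 D28313) D28314 D59664 D127109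
theorem F425827 : act 3 n202843 = n189980 := d7_1 F425826 (iv6 D189980) (iv3 F378391)
theorem F425828 : act 5 n202843 = n193712 := d12_1 F425826 (iv6 D193712) F378399 (iv6 D189977) D189976
theorem F425829 : act 2 n144208 = n202843 := d2_3 F425828 F390752 (iv5 F379763)
def n202844 : Q := act 5 n117018
theorem D202844 : act 5 n117018 = n202844 := rfl
theorem F425830 : act 2 n202844 = n144209 := d2_1 D202844 (iv5 D144209) (iv2 F182958)
theorem F425831 : act 4 n202844 = n197566 := d9_1 D202844 (iv5 F420192) F420191 F205569 (iv4 F175973) (iv5 F206812) (iv4 F226902) F340015 (iv4 F314696) F340014 F178382 F83378 F82503 (iv5 F95020) (iv4 F182959)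
theorem F425832 : act 6 n202844 = n127108 := d12_2 D117018 D202844 (iv5 D127108) (iv6 D59663) (iv5 F85064)
theorem F425833 : act 7 n202844 = n200428 := d13_2 F415721 D202844 F416389
theorem F425834 : act 0 n202844 = n134854 := d17_2 (iv1 D202843) D202844 (iv5 F379757) F392220 (iv5 F392221) (iv0 D113123) (iv5 F176214) F415716 (iv4 F425825)
theorem F425835 : act 1 n202844 = n134849 := d17_8 D134846 F351255 (iv1 F351256) F364953 (iv4 F390791) (iv5 F420312) F420317 D202844 (iv4 D134849)
def n202845 : Q := act 6 n117019
theorem D202845 : act 6 n117019 = n202845 := rfl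
theorem F425836 : act 2 n202845 = n176924 := d3_1 D202845 (iv6 D176924) (iv2 F350528)
theorem F425837 : act 5 n202845 = n201879 := d12_1 D202845 F422186 F364556 F356056 (iv5 F350530)
theorem F425838 : act 7 n190357 = n202845 := d13_0 F425837 F422187 (iv5 F379540)
theorem F425839 : act 0 n190354 = n202845 := d17_2 (iv1 F361699) D190354 F425837 (iv4 D201879) (iv5 D115195) (iv0 F342952) F161577 F120364 (iv4 F259569)
theorem F425840 : act 0 n202845 = n189976 := d21_7 (iv5 D193607) F382004 (iv5 F325807) F325808 D155972 (iv6 F422186) (iv5 F425837) (iv5 D189976) D189977 F390448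
def n202846 : Q := act 5 n117023
theorem D202846 : act 5 n117023 = n202846 := rfl
theorem F425841 : act 2 n202846 = n162745 := d2_1 D202846 F359250 (iv2 F361843)
theorem F425842 : act 3 n202846 = n117024 := d6_1 D202846 (iv5 D117024) D117023
theorem F425843 : act 6 n202846 = n136263 := d12_2 (iv6 F361844) D202846 (iv5 D136263) (iv6 D64063) D64062
theorem F425844 : act 0 n194921 = n202846 := d19_0 (iv5 D202846) (iv4 F396640) F396639 (iv1 F162148) D145641 (iv4 F409570) F388270 (iv1 F391234) F402517 (iv4 F407273) (iv3 F410777) (iv1 F410780) D199188 F411086 F408547 F354477 F148400 (iv4 F160483) (iv3 F395009)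
def n202847 : Q := act 6 n117024
theorem D202847 : act 6 n117024 = n202847 := rfl
theorem F425845 : act 2 n202847 = n137261 := d3_1 D202847 (iv6 F402409) F402404
theorem F425846 : act 3 n202847 = n136263 := d7_1 D202847 (iv6 F425843) F425842
theorem F425847 : act 4 n202847 = n177456 := d10_1 D202847 F417606 F417605
theorem F425848 : act 5 n202847 = n136261 := d12_1 D202847 (iv6 D136261) (iv5 F344601) (iv6 D117025) D117024
theorem F425849 : act 0 n202847 = n137262 := d21_4 (iv5 D53932) D53931 D117024 D202847 F220403 (iv5 F100457) D127593 F347764 (iv6 F346884) (iv1 D117027)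
theorem F425850 : act 0 n137264 = n202847 := d21_4 F331196 (iv1 F159107) (iv5 F393446) F393447 (iv6 D202847) (iv5 D117024) (iv1 F165841) (iv5 F394720) (iv6 D194844) F360317
theorem F425851 : act 7 n202847 = n137260 := d15_2 (iv0 F357680) (iv0 F425849) (iv2 F365886)
def n202848 : Q := act 3 n117026
theorem D202848 : act 3 n117026 = n202848 := rfl
theorem F425852 : act 2 n202848 = n158852 := d0_1 D202848 (iv3 D158852) F296597 D160638 F346886
theorem F425853 : act 6 n202848 = n166673 := d7_2 (iv6 F346887) D202848 F262309
theorem F425854 : act 7 n202848 = n194966 := d8_2 (iv7 F346889) D202848 F395209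
theorem F425855 : act 4 n202848 = n199646 := d20_6 F81619 D51694 D112097 F346877 D117026 D202848 (iv1 D199646) F408728 F408725 (iv1 D112094)
theorem F425856 : act 0 n176823 = n202848 := d18_0 F425855 (iv1 D199646) F408728 (iv5 D198655) D198654 (iv0 F408723) F396640 F392969 F392966
theorem F425857 : act 1 n194961 = n202848 := d15_0 (iv0 F425856) F362549 (iv2 F395192)
def n202849 : Q := act 4 n117026
theorem D202849 : act 4 n117026 = n202849 := rfl
theorem F425858 : act 2 n202849 = n166624 := d1_1 D202849 F296355 F346886
theorem F425859 : act 5 n202849 = n129057 := d9_2 F415595 D202849 F355905 F355903 F170872 (iv5 F165323) (iv4 F401683) F401684 (iv4 F346882) F365658 F365656 (iv5 F365655) F174040 (iv5 F176220) (iv4 F415593)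
theorem F425860 : act 6 n202849 = n169912 := d10_2 (iv6 F346887) D202849 F267335
theorem F425861 : act 1 n202849 = n137100 := d18_6 F221459 F221457 (iv1 F176223) (iv4 F415593) F415595 D202849 (iv4 D137100) D137099 (iv5 F220261)
def n202850 : Q := act 1 n117028
theorem D202850 : act 1 n117028 = n202850 := rfl
theorem F425862 : act 1 n202850 = n177440 := d15_1 D202850 (iv7 F402412) F402410
theorem F425863 : act 5 n202850 = n128787 := d17_7 (iv1 F365654) (iv5 F365655) F176525 (iv5 F176553) (iv4 F343937) (iv5 F343938) D202850 F417634 F417631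
theorem F425864 : act 2 n195028 = n202850 := d2_3 F425863 F348395 (iv5 F395487)
theorem F425865 : act 3 n166607 = n202850 := d6_3 F425863 F348391 (iv5 F322995)
theorem F425866 : act 6 n125704 = n202850 := d21_5 F329450 (iv1 F161209) (iv5 D105257) (iv6 F161092) (iv1 F202193) F425863 (iv1 D128787) (iv5 F329196) F175370 D112691
def n202851 : Q := act 0 n117031
theorem D202851 : act 0 n117031 = n202851 := rfl
theorem F425867 : act 5 n202851 = n138261 := d17_3 (iv1 F100368) D117031 D202851 F221457 (iv5 F168341) F76528 (iv5 F82712) F82714 (iv4 F100359)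
theorem F425868 : act 4 n202851 = n129059 := d18_3 (iv1 F417578) F417575 D202851 (iv5 D129059) F95270 (iv0 F348399) (iv4 F202021) F348405 (iv5 F415188)
theorem F425869 : act 2 n200723 = n202851 := d15_3 (iv0 D202851) F395611 (iv7 F417641)
theorem F425870 : act 1 n117034 = n202851 := d15_0 (iv0 D202851) (iv7 F202914) F202913
theorem F425871 : act 7 n202851 = n200718 := d15_2 F395610 F425870 F417615
theorem F425872 : act 3 n193490 = n202851 := d6_3 F425867 (iv3 F365682) D193490
def n202852 : Q := act 2 n117033
theorem D202852 : act 2 n117033 = n202852 := rfl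
theorem F425873 : act 3 n202852 = n200132 := d0_2 D117033 D202852 F415157 (iv3 D126179) F93330
theorem F425874 : act 4 n202852 = n202173 := d1_2 (iv4 F182967) D202852 (iv2 D202173)
theorem F425875 : act 6 n202852 = n130557 := d3_2 (iv6 F182968) D202852 (iv2 D130557)
theorem F425876 : act 7 n202852 = n200130 := d4_2 F220258 D202852 F415145
theorem F425877 : act 1 n202852 = n202371 := d15_0 (iv0 F423802) F220258 D202852
theorem F425878 : act 1 n144082 = n202852 := d15_0 F425877 F423800 F408737
def n202853 : Q := act 6 n117034
theorem D202853 : act 6 n117034 = n202853 := rfl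
theorem F425879 : act 2 n202853 = n129046 := d3_1 D202853 F343931 F202913
theorem F425880 : act 3 n202853 = n164152 := d7_1 D202853 F414176 (iv3 F414175)
theorem F425881 : act 4 n202853 = n129045 := d10_1 D202853 F362769 F332911
theorem F425882 : act 5 n202853 = n130560 := d12_1 D202853 (iv6 D130560) (iv5 D61257) (iv6 F85075) D117034
def n202854 : Q := act 5 n117043
theorem D202854 : act 5 n117043 = n202854 := rfl
theorem F425883 : act 3 n202854 = n117053 := d6_1 D202854 (iv5 D117053) (iv3 F182983)
theorem F425884 : act 6 n202854 = n122680 := d12_2 D117043 D202854 F332481 (iv6 D142508) (iv5 F181595)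
theorem F425885 : act 1 n202854 = n155688 := d17_8 (iv1 F424560) F424558 (iv1 F389549) (iv5 D123668) (iv4 F108068) (iv5 F307108) (iv0 F350007) D202854 (iv4 F385169)
theorem F425886 : act 0 n202854 = n143574 := d21_1 D202854 F338980 (iv6 F338991) F226269 F348321 (iv5 F348319) (iv1 F215277) (iv5 F342592) (iv6 F389545) (iv1 F389548)
theorem F425887 : act 4 n122682 = n202854 := d17_9 F425886 F338980 (iv1 D74064) (iv5 F96076) (iv4 F307625) (iv5 F361492) (iv0 D138044) D138046 (iv0 F361491)
def n202855 : Q := act 3 n117045
theorem D202855 : act 3 n117045 = n202855 := rfl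
theorem F425888 : act 2 n202855 = n144077 := d0_1 D202855 (iv3 D144077) (iv2 F182997) (iv3 F182863) F182989
theorem F425889 : act 4 n202855 = n139806 := d5_2 (iv4 F182988) D202855 (iv3 D139806) (iv4 D65630) D65629
theorem F425890 : act 6 n202855 = n119266 := d7_2 (iv6 F323292) D202855 (iv3 D119266)
theorem F425891 : act 7 n202855 = n144497 := d8_2 F182990 D202855 (iv3 D144497)
theorem F425892 : act 0 n202855 = n199130 := d20_4 (iv4 F49643) (iv1 F180644) (iv4 F182988) D202855 (iv3 D199130) (iv4 D110969) (iv1 F80713) (iv4 F165817) F165816 (iv1 F85057)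
def n202856 : Q := act 2 n117047
theorem D202856 : act 2 n117047 = n202856 := rfl
theorem F425893 : act 3 n202856 = n136733 := d0_2 D117047 D202856 (iv2 F220245) (iv3 D67744) (iv2 F183017)
theorem F425894 : act 4 n202856 = n139497 := d1_2 (iv4 F183001) D202856 (iv2 D139497)
theorem F425895 : act 7 n202856 = n144501 := d4_2 F183043 D202856 (iv2 D144501)
theorem F425896 : act 1 n202856 = n144038 := d15_0 (iv0 F226758) F183043 D202856
theorem F425897 : act 1 n144500 = n202856 := d15_0 F425896 (iv7 F357519) (iv2 F357525)
def n202857 : Q := act 5 n117047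
theorem D202857 : act 5 n117047 = n202857 := rfl
theorem F425898 : act 3 n202857 = n117048 := d6_1 D202857 (iv5 D117048) D117047
theorem F425899 : act 7 n202857 = n144502 := d13_2 F183043 D202857 (iv5 D144502)
theorem F425900 : act 4 n202857 = n194141 := d16_6 (iv4 F377180) F373186 F373185 (iv5 D139498) (iv4 F183001) D202857 (iv5 D194141) F377168 F377171
def n202858 : Q := act 6 n117047
theorem D202858 : act 6 n117047 = n202858 := rfl
theorem F425901 : act 3 n202858 = n117049 := d7_1 D202858 (iv6 D117049) D117047
theorem F425902 : act 4 n202858 = n139499 := d10_1 D202858 (iv6 D139499) (iv4 F183001)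
def n202859 : Q := act 0 n117049
theorem D202859 : act 0 n117049 = n202859 := rfl
theorem F425903 : act 4 n202859 = n140720 := d20_2 (iv4 F183002) D202859 (iv3 F357104) F312680 F103732 F49760 (iv1 F27071) (iv4 F53930) (iv3 F112227) F340948
theorem F425904 : act 6 n202859 = n124995 := d21_5 D142360 F225280 (iv5 D117048) D117049 D202859 (iv5 F279038) (iv1 D179100) (iv5 D85460) F319063 (iv1 F102627)
theorem F425905 : act 1 n144553 = n202859 := d15_0 (iv0 D202859) (iv7 F341155) (iv2 F341156)
theorem F425906 : act 2 n144550 = n202859 := d3_3 F425904 F201205 (iv6 F361614)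
theorem F425907 : act 3 n200020 = n202859 := d7_3 F425904 (iv3 F390583) D200020
theorem F425908 : act 7 n144551 = n202859 := d14_0 F425904 F201203 (iv6 F189712) (iv7 F414389) (iv6 F414393)
def n202860 : Q := act 1 n117049
theorem D202860 : act 1 n117049 = n202860 := rfl
theorem F425909 : act 1 n202860 = n144553 := d15_1 D202860 (iv7 D144553) F183058
theorem F425910 : act 7 n202860 = n144550 := d15_2 (iv0 D202859) D202860 F425906
theorem F425911 : act 6 n119244 = n202860 := d21_3 F339839 D166525 F363701 (iv1 D202860) (iv6 D117049) D117048 (iv1 F330353) F330355 D142359 F319632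
theorem F425912 : act 2 n202860 = n144551 := d3_1 F425911 F414393 F414387
theorem F425913 : act 4 n140721 = n202860 := d1_0 F425912 (iv4 F341153) F357106
def n202861 : Q := act 5 n117049
theorem D202861 : act 5 n117049 = n202861 := rfl
theorem F425914 : act 2 n202861 = n144552 := d2_1 D202861 (iv5 D144552) F183058
theorem F425915 : act 0 n202861 = n198564 := d21_1 D202861 F408612 F408613 (iv1 F408029) F339844 F339839 D166525 F363701 F425911 (iv1 D202860)
def n202862 : Q := act 5 n117060
theorem D202862 : act 5 n117060 = n202862 := rfl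
theorem F425916 : act 3 n202862 = n117061 := d6_1 D202862 (iv5 D117061) D117060
theorem F425917 : act 7 n202862 = n144546 := d13_2 (iv7 F183078) D202862 (iv5 D144546)
theorem F425918 : act 0 n128533 = n202862 := d20_4 F85038 (iv1 F95033) F95030 (iv3 F206742) F425916 (iv4 F225394) (iv1 D142486) (iv4 D66805) (iv3 F76916) (iv1 F85039)
def n202863 : Q := act 6 n117060
theorem D202863 : act 6 n117060 = n202863 := rfl
theorem F425919 : act 3 n202863 = n117062 := d7_1 D202863 (iv6 D117062) D117060
theorem F425920 : act 4 n202863 = n148645 := d10_1 D202863 F366550 (iv4 F366244)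
theorem F425921 : act 5 n202863 = n194421 := d21_6 (iv5 F75146) (iv1 D45501) D45502 (iv6 F331251) F183079 D202863 (iv1 D194421) (iv5 D103363) (iv6 D47897) (iv1 F75145)
theorem F425922 : act 0 n144061 = n202863 := d17_0 F425921 (iv1 D194421) (iv5 D103363) (iv4 F158647) F347138 F198203 (iv5 F347134) F347141 (iv4 F346565)
theorem F425923 : act 1 n193513 = n202863 := d15_0 (iv0 F425922) (iv7 F425656) F425653
def n202864 : Q := act 0 n117062
theorem D202864 : act 0 n117062 = n202864 := rfl
def n202865 : Q := act 5 n117062
theorem D202865 : act 5 n117062 = n202865 := rfl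
theorem F425924 : act 2 n202865 = n144510 := d2_1 D202865 (iv5 D144510) (iv2 F183082)
theorem F425925 : act 3 n202865 = n194421 := d6_1 D202865 (iv5 F425921) F425919
theorem F425926 : act 4 n202865 = n187231 := d16_2 (iv4 F183083) D202865 (iv5 D187231) (iv4 F137892) D186484 (iv4 F346300) F322280 (iv7 D67736) F183027
theorem F425927 : act 7 n190233 = n202865 := d11_0 F425926 F369575 D190233
def n202866 : Q := act 7 n117062
theorem D202866 : act 7 n117062 = n202866 := rfl
theorem F425928 : act 2 n202866 = n144511 := d4_1 D202866 (iv7 D144511) (iv2 F183082)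
theorem F425929 : act 4 n202866 = n117066 := d11_1 D202866 (iv7 D117066) (iv4 F183083)
theorem F425930 : act 5 n202866 = n190233 := d13_1 D202866 F425927 (iv5 D202865)
theorem F425931 : act 6 n202866 = n144553 := d14_1 D202866 (iv7 D144553) (iv6 D67746) (iv7 F183020) D117062
theorem F425932 : act 1 n144511 = n202864 := d15_0 (iv0 D202864) D202866 F425928
theorem F425933 : act 1 n144509 = n202866 := d15_1 D144509 (iv7 D202866) F183082
theorem F425934 : act 7 n202864 = n144509 := d15_2 F408697 F425932 (iv2 F408693)
theorem F425935 : act 2 n202864 = n144508 := d15_3 (iv0 D144508) D144509 (iv7 F425934)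
theorem F425936 : act 7 n144508 = n198646 := d4_2 (iv7 F425934) F425935 F408693
theorem F425937 : act 3 n198650 = n144508 := d8_3 F425936 F408694 D198650
theorem F425938 : act 1 n202866 = n144508 := d15_1 F425933 F425936 F408693
theorem F425939 : act 4 n144508 = n202482 := d18_7 (iv1 D144966) (iv4 F105681) (iv1 F278624) (iv4 D117896) (iv5 F322274) (iv4 F425929) F425938 (iv0 D202482) F330013
theorem F425940 : act 3 n139818 = n202482 := d20_5 D146724 F230055 (iv4 D127762) (iv3 F319627) D139818 (iv4 F425939) (iv1 F425938) F425929 F322273 F104975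
theorem F425941 : act 5 n202482 = n201511 := d6_2 F333622 F425940 F420786
theorem F425942 : act 7 n202482 = n139847 := d8_2 (iv7 F333633) F425940 (iv3 D139847)
def n202867 : Q := act 5 n117072
theorem D202867 : act 5 n117072 = n202867 := rfl
theorem F425943 : act 2 n202867 = n138743 := d2_1 D202867 (iv5 F221890) (iv2 F352797)
theorem F425944 : act 3 n202867 = n117074 := d6_1 D202867 (iv5 D117074) D117072
theorem F425945 : act 6 n202867 = n138741 := d12_2 (iv6 F352799) D202867 F334954 (iv6 D144877) D144876
theorem F425946 : act 7 n202867 = n142308 := d13_2 (iv7 F352800) D202867 F321219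
theorem F425947 : act 1 n202867 = n139221 := d17_6 (iv1 F384726) (iv5 D154089) (iv1 F197562) F334423 (iv4 F352798) D202867 (iv5 F224051) (iv0 D141048) D141050
theorem F425948 : act 0 n202867 = n142314 := d21_1 D202867 (iv5 F333269) F339082 (iv1 F339078) F322292 F320542 F321940 (iv5 F321946) F321941 (iv1 F352796)
def n202868 : Q := act 4 n117074
theorem D202868 : act 4 n117074 = n202868 := rfl
theorem F425949 : act 5 n202868 = n198415 := d9_2 D117074 D202868 (iv4 D198415) (iv5 D109294) D109293 (iv5 F359482) (iv4 D117078) F320588 (iv4 F423465) F423466 F179814 (iv5 F161273) D66174 (iv5 F348127) (iv4 D117073)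
theorem F425950 : act 0 n202868 = n141066 := d17_0 (iv5 D141066) (iv1 D66156) D66158 (iv4 F339853) D116078 (iv0 F407936) (iv5 F423137) F423140 D202868
theorem F425951 : act 1 n202868 = n139632 := d18_8 (iv1 F179469) (iv4 D115238) (iv1 F83961) (iv4 F84090) (iv5 F179715) (iv4 F423136) F423140 D202868 (iv5 D139632)
def n202869 : Q := act 3 n117083
theorem D202869 : act 3 n117083 = n202869 := rfl
theorem F425952 : act 4 n202869 = n117089 := d5_2 D117083 D202869 (iv3 D117089) (iv4 D53956) (iv3 F85081)
theorem F425953 : act 6 n202869 = n139668 := d7_2 (iv6 F318443) D202869 (iv3 D139668)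
theorem F425954 : act 7 n202869 = n152796 := d8_2 (iv7 F318322) D202869 F239995
theorem F425955 : act 0 n202869 = n128564 := d20_10 F206789 F350932 (iv4 D115699) F357003 (iv1 D66156) D66157 F101781 F318442 D117083 D202869
theorem F425956 : act 0 n202073 = n202869 := d20_4 F423145 (iv1 D139307) D139308 (iv3 F422831) (iv3 D202869) (iv4 D117083) (iv1 F318319) F339854 (iv3 F423147) F423150
theorem F425957 : act 3 n201948 = n202182 := d20_5 F425952 (iv1 F350643) F170800 (iv3 F179544) D201948 F423145 (iv1 D139307) D139308 (iv3 F422831) F425956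
theorem F425958 : act 2 n202869 = n202072 := d15_3 F422828 (iv0 F415918) (iv7 F425954)
def n202870 : Q := act 5 n117097
theorem D202870 : act 5 n117097 = n202870 := rfl
theorem F425959 : act 2 n202870 = n145646 := d2_1 D202870 (iv5 D145646) F183137
theorem F425960 : act 7 n202870 = n144420 := d13_2 (iv7 F183135) D202870 (iv5 D144420)
theorem F425961 : act 0 n202870 = n196607 := d17_2 (iv1 F183134) D202870 (iv5 F401215) F397051 F162211 F82239 F82236 F76887 D68271
theorem F425962 : act 1 n202870 = n196606 := d17_6 F245306 F245305 (iv1 F168807) F168803 (iv4 F183136) D202870 (iv5 F409593) F409594 F402139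
def n202871 : Q := act 0 n117098
theorem D202871 : act 0 n117098 = n202871 := rfl
theorem F425963 : act 3 n202871 = n196729 := d20_5 F166980 (iv1 F78910) D105657 F351839 D202871 F401619 F331099 (iv4 F397205) (iv3 D195520) (iv1 F166983)
theorem F425964 : act 2 n145653 = n202871 := d15_3 (iv0 D202871) F404009 (iv7 F404007)
theorem F425965 : act 1 n145643 = n202871 := d15_0 (iv0 D202871) F183139 (iv2 F228657)
theorem F425966 : act 7 n202871 = n145652 := d15_2 (iv0 F404008) F425965 (iv2 F404003)
theorem F425967 : act 6 n195298 = n202871 := d14_5 F425966 F403633 F403641 F387487 (iv7 F396623)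
def n202872 : Q := act 6 n117098
theorem D202872 : act 6 n117098 = n202872 := rfl
theorem F425968 : act 3 n202872 = n125990 := d7_1 D202872 F202669 F351839
theorem F425969 : act 5 n202872 = n197255 := d12_1 D202872 (iv6 D197255) (iv5 D108052) (iv6 F85111) D117098
def n202873 : Q := act 5 n117106
theorem D202873 : act 5 n117106 = n202873 := rfl
theorem F425970 : act 2 n202873 = n194176 := d2_1 D202873 (iv5 F392260) F343298
theorem F425971 : act 3 n202873 = n117107 := d6_1 D202873 (iv5 D117107) D117106
theorem F425972 : act 6 n202873 = n186264 := d12_2 F419523 D202873 (iv5 F419528) (iv6 D201226) D201225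
theorem F425973 : act 7 n202873 = n144972 := d13_2 (iv7 F183162) D202873 (iv5 D144972)
theorem F425974 : act 4 n202873 = n201388 := d16_2 F184316 D202873 F420293 F206753 D139285 F367973 F367972 (iv7 F396208) F396206
theorem F425975 : act 0 n202873 = n144149 := d21_1 D202873 (iv5 F340910) (iv6 D106182) F340901 (iv6 D52679) F52200 (iv1 F37031) D48720 D105382 (iv1 F355817)
def n202874 : Q := act 6 n117107
theorem D202874 : act 6 n117107 = n202874 := rfl
theorem F425976 : act 2 n202874 = n144998 := d3_1 D202874 (iv6 D144998) (iv2 F183163)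
theorem F425977 : act 3 n202874 = n186264 := d7_1 D202874 (iv6 F425972) F425971
theorem F425978 : act 4 n202874 = n201385 := d10_1 D202874 (iv6 D201385) F318220
theorem F425979 : act 5 n202874 = n164274 := d12_1 D202874 (iv6 D164274) (iv5 F319197) (iv6 D117108) D117107
theorem F425980 : act 0 n202874 = n152447 := d21_4 F163784 (iv1 F316849) D117107 D202874 F345009 (iv5 D105147) (iv1 F136030) (iv5 F291020) F326238 (iv1 F316853)
theorem F425981 : act 0 n152442 = n202874 := d21_4 (iv5 F214907) (iv1 F247872) (iv5 D157393) (iv6 F364637) (iv6 D202874) (iv5 D117107) F316848 (iv5 F317679) F187353 (iv1 F178685)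
theorem F425982 : act 7 n194172 = n202874 := d8_0 F425977 (iv7 F377426) D194172
def n202875 : Q := act 0 n117109
theorem D202875 : act 0 n117109 = n202875 := rfl
theorem F425983 : act 2 n127679 = n202875 := d15_3 (iv0 D202875) (iv0 F364334) F364213
theorem F425984 : act 3 n202875 = n138697 := d0_2 D127679 F425983 (iv2 F359204) F341043 F341040
theorem F425985 : act 5 n202875 = n202577 := d2_2 (iv5 F341009) F425983 F424583
theorem F425986 : act 7 n202875 = n202576 := d4_2 F364213 F425983 F424578
theorem F425987 : act 4 n117648 = n202875 := d20_2 (iv4 F85520) D117648 F425984 (iv1 D138697) F100897 D65134 (iv1 F323543) (iv4 F324810) (iv3 F317762) (iv1 D54206)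
def n202876 : Q := act 5 n117110
theorem D202876 : act 5 n117110 = n202876 := rfl
theorem F425988 : act 2 n202876 = n147992 := d2_1 D202876 (iv5 F353535) (iv2 F353555)
theorem F425989 : act 3 n202876 = n117111 := d6_1 D202876 (iv5 D117111) D117110
theorem F425990 : act 7 n202876 = n144996 := d13_2 (iv7 F183168) D202876 (iv5 D144996)
theorem F425991 : act 4 n202876 = n147940 := d16_2 F184132 D202876 (iv5 D147940) F105584 F320523 F343287 D137923 F347769 (iv2 F347771)
theorem F425992 : act 1 n202876 = n201391 := d17_6 F396450 F396447 (iv1 D137465) (iv5 F329157) F184132 D202876 F420304 F229169 (iv4 F354832)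
theorem F425993 : act 6 n197174 = n202876 := d21_5 (iv5 D107894) F78784 D49845 D107916 D197174 (iv5 D202876) F343309 D159900 F252154 (iv1 F166719)
def n202877 : Q := act 6 n117110
theorem D202877 : act 6 n117110 = n202877 := rfl
theorem F425994 : act 3 n202877 = n117112 := d7_1 D202877 (iv6 D117112) D117110
theorem F425995 : act 0 n159982 = n202877 := d20_4 (iv4 D149287) (iv1 F122585) D166272 (iv3 F261790) F425994 F183172 (iv1 F325096) D195593 F397502 F346258
def n202878 : Q := act 6 n117111
theorem D202878 : act 6 n117111 = n202878 := rfl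
theorem F425996 : act 2 n202878 = n144975 := d3_1 D202878 (iv6 D144975) (iv2 F183169)
theorem F425997 : act 3 n202878 = n197174 := d7_1 D202878 F425993 F425989
theorem F425998 : act 4 n202878 = n201470 := d10_1 D202878 (iv6 D201470) F318209
theorem F425999 : act 0 n130860 = n202878 := d21_4 F120071 (iv1 F56586) D61396 D130860 (iv6 D202878) (iv5 D117111) F316850 (iv5 F163784) (iv6 D106521) (iv1 F120073)
theorem F426000 : act 1 n157398 = n202878 := d18_6 (iv1 F329178) F179430 F329470 (iv4 F327774) D159605 (iv4 F364641) F425998 (iv0 F420798) (iv5 D164512)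
theorem F426001 : act 7 n157396 = n202878 := d15_2 F319885 D157396 F425996
def n202879 : Q := act 0 n117112
theorem D202879 : act 0 n117112 = n202879 := rfl
theorem F426002 : act 5 n202879 = n189008 := d17_1 D202879 F375392 (iv5 F419448) F419447 (iv5 D139849) F223020 F333653 F325096 (iv4 F183172)
theorem F426003 : act 4 n202879 = n145889 := d20_2 (iv4 F183172) D202879 (iv3 F334972) F324925 F111985 D74585 F320072 (iv4 F320073) (iv3 F101377) (iv1 F321608)
theorem F426004 : act 6 n202879 = n187440 := d21_5 D144911 F227878 (iv5 D117111) D117112 D202879 F370328 F290621 F318687 (iv6 D67939) D67935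
theorem F426005 : act 2 n144976 = n202879 := d15_3 (iv0 D202879) F366072 F278626
theorem F426006 : act 1 n144979 = n202879 := d15_0 (iv0 D202879) (iv7 F404565) F404563
theorem F426007 : act 7 n202879 = n144977 := d15_2 (iv0 F366071) F426006 F356609
theorem F426008 : act 3 n164384 = n202879 := d20_3 F421049 (iv1 F415556) F415552 (iv1 F426006) (iv3 F372364) F372363 (iv1 D186568) D186569 (iv3 F347694) (iv1 F421053)
def n202880 : Q := act 5 n117112
theorem D202880 : act 5 n117112 = n202880 := rfl
theorem F426009 : act 2 n202880 = n144978 := d2_1 D202880 (iv5 D144978) (iv2 F183171)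
theorem F426010 : act 7 n202880 = n152523 := d13_2 F404565 D202880 (iv5 F404569)
def n202881 : Q := act 1 n117164
theorem D202881 : act 1 n117164 = n202881 := rfl
theorem F426011 : act 1 n202881 = n146100 := d15_1 D202881 F317778 (iv2 F313266)
theorem F426012 : act 7 n202881 = n146107 := d15_2 F243220 D202881 F243256
theorem F426013 : act 5 n190329 = n202881 := d21_6 F75482 (iv1 D45052) F33834 D44766 D95880 D190329 (iv1 D202881) (iv5 D117164) F312998 (iv1 F75480)
theorem F426014 : act 2 n202881 = n127669 := d2_1 F426013 (iv5 F392654) (iv2 F392656)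
theorem F426015 : act 6 n127666 = n202881 := d21_5 (iv5 F348034) F319540 D138671 F335049 (iv1 F233830) (iv5 F426013) F379416 F316394 (iv6 F319650) F353440
def n202882 : Q := act 4 n117164
theorem D202882 : act 4 n117164 = n202882 := rfl
theorem F426016 : act 2 n202882 = n194284 := d1_1 D202882 (iv4 D194284) (iv2 F313266)
theorem F426017 : act 3 n202882 = n178377 := d5_1 D202882 F277929 F130075 F313267 (iv3 F183289)
theorem F426018 : act 7 n202882 = n146108 := d11_2 (iv7 F183290) D202882 (iv4 D146108)
theorem F426019 : act 0 n202882 = n166280 := d18_2 (iv1 D202881) D202882 F261818 (iv5 F314423) F364015 (iv0 D105833) (iv4 F162524) (iv0 F379416) F426013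
theorem F426020 : act 6 n201216 = n202882 := d21_3 F114717 (iv1 F377198) D201216 F426019 (iv6 F307830) F312177 (iv1 F162602) F335873 F337877 F337872
def n202883 : Q := act 6 n117164
theorem D202883 : act 6 n117164 = n202883 := rfl
theorem F426021 : act 2 n202883 = n124506 := d3_1 D202883 F199148 (iv2 F313266)
theorem F426022 : act 3 n202883 = n117167 := d7_1 D202883 (iv6 D117167) (iv3 F183289)
theorem F426023 : act 4 n202883 = n201216 := d10_1 D202883 F426020 (iv4 D202882)
theorem F426024 : act 5 n202883 = n117916 := d12_1 D202883 (iv6 D117916) F85706 (iv6 F312998) D117164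
def n202884 : Q := act 6 n117181
theorem D202884 : act 6 n117181 = n202884 := rfl
theorem F426025 : act 3 n202884 = n117182 := d7_1 D202884 (iv6 D117182) D117181
theorem F426026 : act 4 n202884 = n143604 := d10_1 D202884 (iv6 D143604) (iv4 F183336)
theorem F426027 : act 7 n202884 = n201510 := d14_2 (iv7 F183337) D202884 (iv6 D201510) F178781 (iv6 F321736)
theorem F426028 : act 0 n201513 = n202884 := d21_4 F338534 (iv1 F318212) F178807 D201513 (iv6 D202884) (iv5 F229205) (iv1 F229207) (iv5 F338525) F338531 F338533
def n202885 : Q := act 5 n117191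
theorem D202885 : act 5 n117191 = n202885 := rfl
theorem F426029 : act 2 n202885 = n201523 := d2_1 D202885 (iv5 D201523) (iv2 F331609)
theorem F426030 : act 3 n202885 = n131298 := d6_1 D202885 (iv5 F309949) F331611
theorem F426031 : act 7 n202885 = n201515 := d13_2 (iv7 F363911) D202885 (iv5 D201515)
theorem F426032 : act 0 n202885 = n201467 := d17_2 D117191 D202885 (iv5 D201467) (iv4 F334445) (iv5 D139839) (iv0 F333616) F333612 (iv0 D54015) (iv4 F85210)
theorem F426033 : act 1 n202885 = n201468 := d17_6 (iv1 F382269) F382266 (iv1 F346242) F356831 (iv4 F331610) D202885 (iv5 D201468) F178655 (iv4 F189724)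
theorem F426034 : act 6 n202885 = n198949 := d21_3 F333589 D117191 D202885 (iv1 D198949) (iv6 D110751) (iv5 D51060) (iv1 D24837) D24839 D51066 D110766
theorem F426035 : act 4 n189635 = n202885 := d11_3 F426031 (iv4 F425191) (iv7 F425193)
theorem F426036 : act 0 n194168 = n189635 := d18_2 (iv1 D194170) (iv4 F392236) F426035 (iv5 D202885) F331610 (iv0 D69026) (iv4 F105239) D147240 F392244
def n202886 : Q := act 5 n117192
theorem D202886 : act 5 n117192 = n202886 := rfl
theorem F426037 : act 2 n202886 = n201515 := d2_1 D202886 (iv5 D201515) (iv2 F363908)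
theorem F426038 : act 3 n202886 = n121344 := d6_1 D202886 (iv5 D121344) (iv3 F331594)
theorem F426039 : act 6 n202886 = n142407 := d12_2 (iv6 F331595) D202886 (iv5 F338525) F338531 (iv5 D121340)
theorem F426040 : act 7 n202886 = n201523 := d13_2 F331601 D202886 (iv5 D201523)
theorem F426041 : act 0 n202886 = n201468 := d17_2 (iv1 F331606) D202886 (iv5 D201468) (iv4 F317837) (iv5 D146279) (iv0 F363629) (iv5 D117203) F183346 (iv4 F331605)
theorem F426042 : act 1 n202886 = n201467 := d17_6 F380967 F380963 F346230 F316977 (iv4 F230846) D202886 (iv5 D201467) (iv0 D114566) (iv4 F178654)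
theorem F426043 : act 4 n142408 = n202886 := d16_2 (iv4 F395061) (iv5 F366491) (iv5 D202886) F230846 (iv5 F316977) (iv4 F393203) F393205 F393209 F393210
theorem F426044 : act 1 n194168 = n142408 := d18_6 (iv1 F178657) (iv4 F189724) (iv1 F382269) F382265 (iv5 F367082) (iv4 F392236) F426043 F426042 (iv5 D201467)
def n202887 : Q := act 5 n117197
theorem D202887 : act 5 n117197 = n202887 := rfl
theorem F426045 : act 2 n202887 = n194169 := d2_1 D202887 F392237 (iv2 F230832)
theorem F426046 : act 3 n202887 = n195020 := d6_1 D202887 F398462 (iv3 F398461)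
theorem F426047 : act 6 n202887 = n200441 := d12_2 F397339 D202887 F416442 (iv6 F419640) (iv5 F397341)
theorem F426048 : act 7 n202887 = n194170 := d13_2 F230831 D202887 (iv5 F392244)
theorem F426049 : act 0 n202887 = n194171 := d17_2 (iv1 F230835) D202887 F392247 (iv4 F355308) F355311 F334981 (iv5 F319178) F242773 (iv4 F227886)
theorem F426050 : act 4 n202887 = n200442 := d17_4 F399044 F399042 (iv1 F230835) D202887 F416447 (iv0 F416326) F416324 (iv0 F415803) F415801
theorem F426051 : act 1 n202887 = n194164 := d17_6 F339770 (iv5 D146279) (iv1 F333617) F333612 D117197 D202887 F392233 F258972 (iv4 F334455)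
def n202888 : Q := act 3 n117202
theorem D202888 : act 3 n117202 = n202888 := rfl
theorem F426052 : act 2 n202888 = n199315 := d0_1 D202888 (iv3 D199315) F352393 (iv3 F352394) F230829
theorem F426053 : act 4 n202888 = n199323 := d5_2 D117202 D202888 F411699 (iv4 F228933) (iv3 D117201)
theorem F426054 : act 6 n202888 = n151322 := d7_2 (iv6 F321129) D202888 F355081
theorem F426055 : act 0 n151402 = n202888 := d20_4 F225111 D142085 (iv4 F398308) F398307 (iv3 D202888) (iv4 D117202) (iv1 D54016) (iv4 F85210) (iv3 F181614) (iv1 F363634)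
def n202889 : Q := act 5 n117202
theorem D202889 : act 5 n117202 = n202889 := rfl
theorem F426056 : act 2 n202889 = n194170 := d2_1 D202889 (iv5 F392244) F230829
theorem F426057 : act 6 n202889 = n142473 := d12_2 (iv6 F321129) D202889 F330339 (iv6 F258971) (iv5 D164342)
theorem F426058 : act 7 n202889 = n194169 := d13_2 (iv7 F230833) D202889 F392237
theorem F426059 : act 1 n202889 = n194171 := d17_6 F333615 (iv5 D139839) (iv1 F363630) (iv5 D117203) D117202 D202889 F392247 (iv0 D164344) (iv4 F178663)
theorem F426060 : act 0 n202889 = n194164 := d21_1 D202889 F392233 F374031 (iv1 D188573) D188575 F374042 F339556 F338686 F316448 (iv1 F230837)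
theorem F426061 : act 4 n142474 = n202889 := d11_3 F426058 (iv4 F392240) (iv7 F355225)
def n202890 : Q := act 4 n117203
theorem D202890 : act 4 n117203 = n202890 := rfl
theorem F426062 : act 2 n202890 = n149215 := d1_1 D202890 F234604 F187651
theorem F426063 : act 3 n202890 = n198925 := d5_1 D202890 F409924 F186483 D134669 (iv3 F331670)
theorem F426064 : act 6 n202890 = n149063 := d10_2 F183359 D202890 (iv4 D149063)
theorem F426065 : act 7 n202890 = n199852 := d11_2 (iv7 F333614) D202890 F413826
theorem F426066 : act 5 n202890 = n198960 := d16_1 D202890 (iv4 F416127) (iv5 F416447) (iv4 F426050) (iv5 D202887) (iv4 D117197) (iv5 F333612) F333613 F187651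
def n202891 : Q := act 3 n117205
theorem D202891 : act 3 n117205 = n202891 := rfl
theorem F426067 : act 5 n202891 = n190577 := d6_2 (iv5 F333593) D202891 F380182
theorem F426068 : act 6 n202891 = n127719 := d7_2 (iv6 F320012) D202891 (iv3 D127719)
theorem F426069 : act 0 n202891 = n160201 := d21_10 (iv5 F331674) (iv1 D134392) D134394 F346392 (iv1 D140718) D140719 F324345 (iv1 F340793) (iv5 F340797) (iv6 F426068)
theorem F426070 : act 1 n202891 = n191078 := d15_1 (iv0 F426069) F382132 (iv2 F252884)
def n202892 : Q := act 4 n117205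
theorem D202892 : act 4 n117205 = n202892 := rfl
theorem F426071 : act 6 n202892 = n127720 := d10_2 (iv6 F320012) D202892 (iv4 D127720)
theorem F426072 : act 0 n202892 = n190590 := d18_2 F310972 D202892 F380240 (iv5 D147231) (iv4 F227886) (iv0 F230699) (iv4 D117202) F183346 (iv5 F310976)
theorem F426073 : act 3 n202892 = n198962 := d19_3 F261876 (iv5 F333593) D202892 (iv1 F410078) (iv5 F238564) (iv4 D151688) (iv3 D71483) (iv1 F78511) F78508 F52225 (iv3 F42129) (iv1 F42131) D26399 D54590 F185309 (iv1 F186353) D131233 F336904 (iv3 F333602)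
def n202893 : Q := act 4 n117224
theorem D202893 : act 4 n117224 = n202893 := rfl
theorem F426074 : act 2 n202893 = n178965 := d1_1 D202893 F348297 F311481
theorem F426075 : act 3 n202893 = n123536 := d5_1 D202893 (iv4 F352577) (iv3 D147031) F105873 D117224
theorem F426076 : act 5 n202893 = n124893 := d9_2 (iv5 F183405) D202893 (iv4 D124893) (iv5 D58387) D58386 (iv5 F301293) (iv4 F149996) F334908 F334910 (iv5 D139144) (iv4 D65307) F310033 (iv4 F86394) (iv5 F301287) F311493
theorem F426077 : act 7 n202893 = n146287 := d11_2 (iv7 F183406) D202893 (iv4 D146287)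
theorem F426078 : act 0 n202893 = n149685 := d17_0 F330635 (iv1 F314746) F338219 F224471 F321516 (iv0 F191360) (iv5 F115141) (iv0 F228962) D202893
theorem F426079 : act 1 n202893 = n156517 := d18_8 (iv1 F314741) (iv4 D124930) (iv1 F92245) (iv4 F313387) D138306 F328073 (iv0 F228962) D202893 (iv5 D156517)
def n202894 : Q := act 0 n117226
theorem D202894 : act 0 n117226 = n202894 := rfl
theorem F426080 : act 2 n146798 = n202894 := d15_3 (iv0 D202894) F419027 F419025
theorem F426081 : act 1 n135664 = n202894 := d15_0 (iv0 D202894) (iv7 F362731) (iv2 F362732)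
theorem F426082 : act 7 n202894 = n146799 := d15_2 (iv0 F419026) F426081 (iv2 F419028)
theorem F426083 : act 6 n202894 = n135641 := d3_2 F349041 F426080 (iv2 F365390)
def n202895 : Q := act 0 n117228
theorem D202895 : act 0 n117228 = n202895 := rfl
theorem F426084 : act 4 n202895 = n201247 := d18_3 (iv1 D145782) (iv4 F183421) D202895 F419642 F354559 (iv0 D157641) F112588 D75137 (iv5 F353675)
theorem F426085 : act 5 n202895 = n199563 := d19_1 D202895 (iv4 D199563) (iv3 D111412) (iv1 D51380) (iv5 D24977) (iv4 D11859) (iv3 F10185) (iv1 F19803) (iv5 D11985) F8681 F3709 D2367 F3711 F5146 D5902 D12399 D26139 D54031 D117228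
theorem F426086 : act 3 n202895 = n153331 := d20_5 (iv4 D26220) F41424 D54031 D117228 D202895 F240903 (iv1 F355817) (iv4 F184316) (iv3 D117694) (iv1 D54213)
theorem F426087 : act 6 n202895 = n153329 := d21_5 F363720 (iv1 F157474) (iv5 F354875) (iv6 F346295) D202895 (iv5 D153329) F303448 D98305 F151726 D98314
theorem F426088 : act 1 n146783 = n202895 := d15_0 (iv0 D202895) F183422 D146783
theorem F426089 : act 2 n146782 = n202895 := d3_3 F426087 F240893 (iv6 F391590)
theorem F426090 : act 7 n146781 = n202895 := d14_0 F426087 F240896 D201274 (iv7 F419798) F419662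
def n202896 : Q := act 1 n117228
theorem D202896 : act 1 n117228 = n202896 := rfl
theorem F426091 : act 1 n202896 = n146783 := d15_1 D202896 F391587 F391583
theorem F426092 : act 7 n202896 = n146782 := d15_2 (iv0 D202895) D202896 F426089
theorem F426093 : act 2 n146781 = n202896 := d4_3 F426092 F426089 (iv7 F426090)
def n202897 : Q := act 5 n117228
theorem D202897 : act 5 n117228 = n202897 := rfl
theorem F426094 : act 2 n202897 = n186648 := d2_1 D202897 (iv5 F391586) F391583
theorem F426095 : act 3 n202897 = n117229 := d6_1 D202897 (iv5 D117229) D117228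
theorem F426096 : act 6 n202897 = n186646 := d12_2 (iv6 F346295) D202897 F367544 F291612 (iv5 F354875)
theorem F426097 : act 7 n202897 = n146784 := d13_2 (iv7 F183422) D202897 (iv5 D146784)
theorem F426098 : act 0 n202897 = n199637 := d21_7 (iv5 F274448) (iv1 D175404) (iv5 D83756) (iv6 F128760) D175280 (iv6 F346295) D202897 F412943 F403166 F274357
def n202898 : Q := act 6 n117231
theorem D202898 : act 6 n117231 = n202898 := rfl
theorem F426099 : act 2 n202898 = n117898 := d3_1 D202898 (iv6 D117898) (iv2 F237511)
theorem F426100 : act 3 n202898 = n146350 := d7_1 D202898 (iv6 D146350) (iv3 F327712)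
theorem F426101 : act 5 n202898 = n133321 := d12_1 D202898 (iv6 F361622) (iv5 D157286) (iv6 F323786) (iv5 F322280)
theorem F426102 : act 0 n202898 = n117705 := d21_4 (iv5 F316637) F322270 (iv5 F322280) D202898 (iv6 D117705) (iv5 F130440) (iv1 F313726) (iv5 F181648) (iv6 F346823) (iv1 F346825)
theorem F426103 : act 0 n146691 = n202898 := d21_4 D54046 F180398 D68757 D146691 (iv6 D202898) F322280 (iv1 F183084) F318380 (iv6 D117270) (iv1 D54045)
def n202899 : Q := act 6 n117236
theorem D202899 : act 6 n117236 = n202899 := rfl
theorem F426104 : act 2 n202899 = n146789 := d3_1 D202899 (iv6 D146789) (iv2 F183438)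
theorem F426105 : act 3 n202899 = n186657 := d7_1 D202899 F367571 F346316
theorem F426106 : act 7 n202899 = n186654 := d14_2 (iv7 F183439) D202899 (iv6 D186654) F136570 F346313
theorem F426107 : act 5 n192696 = n202899 := d13_3 F426106 F367566 D192696
def n202900 : Q := act 0 n117237
theorem D202900 : act 0 n117237 = n202900 := rfl
theorem F426108 : act 4 n202900 = n147741 := d20_2 (iv4 F183441) D202900 (iv3 D147741) D147740 (iv3 F232196) (iv4 D148447) (iv1 F184831) (iv4 D117868) F85672 (iv1 F130861)
theorem F426109 : act 2 n146790 = n202900 := d15_3 (iv0 D202900) (iv0 F397481) F397480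
theorem F426110 : act 1 n117842 = n202900 := d15_0 (iv0 D202900) (iv7 F183442) (iv2 F184561)
theorem F426111 : act 7 n202900 = n146791 := d15_2 F397482 F426110 (iv2 F397479)
theorem F426112 : act 3 n147736 = n202900 := d5_5 F426108 (iv3 D147741) (iv4 D69224) D69223 D147736
theorem F426113 : act 0 n147736 = n184085 := d20_4 (iv4 F230220) F231473 (iv4 F426108) (iv3 F426112) F360917 (iv4 D148554) (iv1 D69618) (iv4 F105888) (iv3 D69607) (iv1 F230226)
def n202901 : Q := act 5 n117237
theorem D202901 : act 5 n117237 = n202901 := rfl
theorem F426114 : act 2 n202901 = n146792 := d2_1 D202901 (iv5 D146792) (iv2 F183440)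
theorem F426115 : act 3 n202901 = n191958 := d6_1 D202901 (iv5 F391617) F391615
theorem F426116 : act 4 n202901 = n201369 := d9_1 D202901 F420212 F335528 (iv5 D119839) (iv4 D55147) (iv5 F130934) D117842 F355595 (iv4 D152236) (iv5 D71810) (iv4 F108262) F305733 F86213 (iv5 F85253) (iv4 F183441)
theorem F426117 : act 6 n202901 = n192696 := d12_2 D117237 D202901 F426107 (iv6 D202899) (iv5 D117236)
theorem F426118 : act 7 n202901 = n148516 := d13_2 F183442 D202901 (iv5 D148516)
theorem F426119 : act 0 n202901 = n197161 := d17_2 F397481 D202901 F403335 F354071 (iv5 D154434) (iv0 F184590) (iv5 F230221) (iv0 F234157) D195589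
theorem F426120 : act 3 n192770 = n155454 := d20_5 (iv4 F372227) (iv1 D187993) F295005 (iv3 F154737) D192770 (iv4 F355586) (iv1 F420215) (iv4 F426116) F426115 (iv1 F384996)
theorem F426121 : act 5 n155453 = n192770 := d6_0 F426120 (iv5 D155454) D155453
def n202902 : Q := act 0 n117238
theorem D202902 : act 0 n117238 = n202902 := rfl
theorem F426122 : act 1 n141437 = n202902 := d15_0 (iv0 D202902) F183444 (iv2 F224468)
theorem F426123 : act 4 n201632 = n202902 := d20_0 (iv1 F426122) (iv4 F424850) (iv3 D202633) F180950 (iv3 F324160) (iv4 F83210) F163451 (iv4 F177830) (iv3 F178980) D201632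
theorem F426124 : act 2 n202902 = n146823 := d1_1 F426123 (iv4 F421309) F421305
theorem F426125 : act 7 n202902 = n146822 := d11_2 (iv7 F421307) F426123 (iv4 F425057)
def n202903 : Q := act 1 n117238
theorem D202903 : act 1 n117238 = n202903 := rfl
theorem F426126 : act 1 n202903 = n141437 := d15_1 D202903 (iv7 F425052) F425049
theorem F426127 : act 7 n202903 = n146823 := d15_2 (iv0 D202902) D202903 (iv2 F426124)
theorem F426128 : act 4 n201633 = n202903 := d20_6 (iv4 D34975) F54351 D59874 D127475 F393626 F421189 (iv1 D202903) F183443 (iv3 D68643) (iv1 F55383)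
theorem F426129 : act 2 n202903 = n146822 := d1_1 F426128 (iv4 F425057) F421191
def n202904 : Q := act 5 n117238
theorem D202904 : act 5 n117238 = n202904 := rfl
theorem F426130 : act 2 n202904 = n188323 := d2_1 D202904 (iv5 F425054) F425049
theorem F426131 : act 3 n202904 = n117239 := d6_1 D202904 (iv5 D117239) D117238
theorem F426132 : act 7 n202904 = n146824 := d13_2 (iv7 F183444) D202904 (iv5 D146824)
theorem F426133 : act 4 n187859 = n202904 := d11_3 F426132 (iv4 F361652) F371713
theorem F426134 : act 6 n202904 = n187858 := d10_2 D187859 F426133 (iv4 D187858)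
theorem F426135 : act 0 n188324 = n202904 := d20_4 F373122 (iv1 F139110) (iv4 F140260) (iv3 F373084) F426131 F183446 (iv1 F230135) F230133 F346312 D99032
theorem F426136 : act 1 n188321 = n202904 := d15_0 (iv0 F426135) (iv7 D188324) (iv2 F373081)
def n202905 : Q := act 6 n117239
theorem D202905 : act 6 n117239 = n202905 := rfl
theorem F426137 : act 2 n202905 = n117257 := d3_1 D202905 (iv6 D117257) (iv2 F183445)
theorem F426138 : act 3 n202905 = n187858 := d7_1 D202905 (iv6 F426134) F426131
theorem F426139 : act 4 n202905 = n146883 := d10_1 D202905 (iv6 D146883) (iv4 F183446)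
def n202906 : Q := act 4 n117242
theorem D202906 : act 4 n117242 = n202906 := rfl
theorem F426140 : act 2 n202906 = n117268 := d1_1 D202906 (iv4 D117268) (iv2 F183591)
theorem F426141 : act 6 n202906 = n183388 := d10_2 (iv6 F345707) D202906 F347299
theorem F426142 : act 7 n202906 = n117263 := d11_2 (iv7 F183592) D202906 (iv4 D117263)
theorem F426143 : act 0 n202906 = n146894 := d18_2 (iv1 F183452) D202906 F230275 F227827 (iv4 F329754) F329753 (iv4 D117287) (iv0 F183640) F183515
def n202907 : Q := act 2 n117244
theorem D202907 : act 2 n117244 = n202907 := rfl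
theorem F426144 : act 3 n202907 = n146899 := d0_2 D117244 D202907 (iv2 D146899) (iv3 D68863) (iv2 F85261)
theorem F426145 : act 4 n202907 = n190919 := d1_2 F230656 D202907 F381548
theorem F426146 : act 5 n202907 = n188614 := d2_2 (iv5 F370527) D202907 F374192
theorem F426147 : act 6 n202907 = n190917 := d3_2 F378956 D202907 F381544
theorem F426148 : act 7 n202907 = n146913 := d4_2 (iv7 F183463) D202907 (iv2 D146913)
theorem F426149 : act 1 n202907 = n146911 := d15_0 (iv0 D146911) (iv7 F183463) D202907
theorem F426150 : act 1 n146912 = n202907 := d15_0 F426149 (iv7 F343210) F343196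
def n202908 : Q := act 0 n117246
theorem D202908 : act 0 n117246 = n202908 := rfl
theorem F426151 : act 4 n202908 = n124539 := d20_2 (iv4 F183467) D202908 F199203 D124541 (iv3 F337875) (iv4 D164323) F337872 F314147 (iv3 F232586) (iv1 D117247)
theorem F426152 : act 6 n202908 = n155489 := d21_5 D146776 F230138 (iv5 D117245) D117246 D202908 F372337 (iv1 F372338) (iv5 D146792) (iv6 D68819) D68815
theorem F426153 : act 2 n146905 = n202908 := d15_3 (iv0 D202908) (iv0 F357747) F357746
theorem F426154 : act 3 n202908 = n194134 := d0_2 (iv3 F357749) F426153 (iv2 F392155) (iv3 D119604) (iv2 F187832)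
theorem F426155 : act 7 n202908 = n146906 := d4_2 F357746 F426153 F357742
theorem F426156 : act 1 n146908 = n202908 := d15_1 (iv0 F357748) F426155 F357742
def n202909 : Q := act 5 n117246
theorem D202909 : act 5 n117246 = n202909 := rfl
theorem F426157 : act 2 n202909 = n146907 := d2_1 D202909 (iv5 D146907) (iv2 F183466)
def n202910 : Q := act 7 n117246
theorem D202910 : act 7 n117246 = n202910 := rfl
theorem F426158 : act 2 n202910 = n146908 := d4_1 D202910 (iv7 D146908) (iv2 F183466)
theorem F426159 : act 3 n202910 = n190850 := d8_1 D202910 F381326 F378955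
theorem F426160 : act 4 n202910 = n117249 := d11_1 D202910 (iv7 D117249) (iv4 F183467)
theorem F426161 : act 6 n202910 = n146920 := d14_1 D202910 (iv7 D146920) (iv6 D68871) (iv7 F85262) D117246
theorem F426162 : act 1 n146906 = n202910 := d15_1 D146906 (iv7 D202910) F183466
theorem F426163 : act 1 n202910 = n146905 := d15_1 F426162 (iv7 F357746) (iv2 F357742)
def n202911 : Q := act 5 n117247
theorem D202911 : act 5 n117247 = n202911 := rfl
theorem F426164 : act 2 n202911 = n133686 := d2_1 D202911 F215129 F183470
theorem F426165 : act 3 n202911 = n146532 := d6_1 D202911 (iv5 D146532) (iv3 F232586)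
theorem F426166 : act 6 n202911 = n129898 := d12_2 (iv6 F310208) D202911 (iv5 F308196) (iv6 D149797) (iv5 F115069)
theorem F426167 : act 7 n202911 = n146910 := d13_2 (iv7 F183469) D202911 (iv5 D146910)
theorem F426168 : act 0 n202911 = n155514 := d18_0 F306838 F252830 (iv4 F118459) D124539 (iv4 F426151) (iv0 D202908) F183467 D117247 D202911
theorem F426169 : act 0 n155242 = n202911 := d21_10 (iv5 D202911) (iv1 D117247) D117248 F183473 (iv1 F86246) D54601 F86288 D72133 (iv5 F311858) D155242
theorem F426170 : act 4 n202911 = n173359 := d20_2 (iv4 F244144) F426169 (iv3 D173359) (iv1 D82961) F59043 (iv4 F31218) F296151 (iv4 F296148) D38419 D83401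
def n202912 : Q := act 0 n117252
theorem D202912 : act 0 n117252 = n202912 := rfl
theorem F426171 : act 5 n202912 = n188331 := d19_1 D202912 F378690 (iv3 D141199) (iv1 D66234) (iv5 D30952) F24334 (iv3 D7004) D7003 F11263 (iv4 D6459) (iv3 F10526) D13567 (iv5 F50824) (iv4 F41183) F49912 (iv1 D31590) D31592 F85266 D117252
theorem F426172 : act 3 n202912 = n186992 := d20_5 F105054 (iv1 D67931) F85266 D117252 D202912 (iv4 F387991) F387992 F204855 (iv3 D68869) (iv1 F105053)
theorem F426173 : act 4 n202912 = n189625 := d20_0 (iv1 F377172) (iv4 F392179) F392178 F362988 (iv3 D146895) F105054 (iv1 D67931) F85266 D117252 D202912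
theorem F426174 : act 0 n188331 = n186777 := d21_1 F426171 F367972 (iv6 F362411) (iv1 F289509) D186892 (iv5 F368430) (iv1 F153872) (iv5 F290627) (iv6 F346100) D202912
theorem F426175 : act 2 n146932 = n202912 := d15_3 (iv0 D202912) (iv0 F411603) (iv7 F411605)
theorem F426176 : act 1 n146933 = n202912 := d15_0 (iv0 D202912) F183481 D146933
theorem F426177 : act 7 n202912 = n146931 := d15_2 F411604 F426176 (iv2 F411601)
theorem F426178 : act 6 n186990 = n202912 := d14_5 F426177 F411583 (iv7 F411593) D199313 F411618
def n202913 : Q := act 3 n117255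
theorem D202913 : act 3 n117255 = n202913 := rfl
theorem F426179 : act 4 n202913 = n139282 := d5_2 F418346 D202913 F222476 D199223 (iv3 F418344)
theorem F426180 : act 5 n202913 = n117694 := d6_2 (iv5 F183490) D202913 (iv3 D117694)
theorem F426181 : act 7 n202913 = n146941 := d8_2 (iv7 F183489) D202913 (iv3 D146941)
theorem F426182 : act 0 n202913 = n188331 := d20_4 (iv4 F418905) F418906 F418346 D202913 (iv3 D188331) (iv4 F378008) (iv1 D186656) F294986 (iv3 F346312) (iv1 F230148)
theorem F426183 : act 0 n191780 = n202514 := d20_10 (iv4 D202514) (iv1 F386894) (iv4 F426179) (iv3 D202913) (iv1 D117255) (iv3 F181320) F388485 (iv1 F424487) F384422 (iv3 F384417)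
def n202914 : Q := act 6 n117255
theorem D202914 : act 6 n117255 = n202914 := rfl
theorem F426184 : act 2 n202914 = n146940 := d3_1 D202914 (iv6 D146940) F183491
def n202915 : Q := act 0 n117257
theorem D202915 : act 0 n117257 = n202915 := rfl
theorem F426185 : act 4 n202915 = n193041 := d20_0 F420562 (iv4 F398403) (iv3 D195839) D195837 (iv3 F398398) F388481 (iv1 D192999) D193000 (iv3 F388488) D202915
def n202916 : Q := act 1 n117257
theorem D202916 : act 1 n117257 = n202916 := rfl
theorem F426186 : act 4 n195876 = n202916 := d20_0 (iv1 D202916) (iv4 F388495) (iv3 D193003) (iv1 F362782) (iv3 D159362) F114217 (iv1 D49157) D49158 D106392 D195876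
def n202917 : Q := act 5 n117257
theorem D202917 : act 5 n117257 = n202917 := rfl
theorem F426187 : act 6 n202917 = n117260 := d12_2 D117257 D202917 (iv5 D117260) (iv6 D54043) D54042
def n202918 : Q := act 7 n117257
theorem D202918 : act 7 n117257 = n202918 := rfl
theorem F426188 : act 6 n202918 = n146948 := d14_1 D202918 (iv7 D146948) (iv6 D68883) (iv7 F85271) D117257
def n202919 : Q := act 5 n117259
theorem D202919 : act 5 n117259 = n202919 := rfl
theorem F426189 : act 3 n202919 = n186886 := d6_1 D202919 F390394 F390392
theorem F426190 : act 4 n202919 = n185435 := d9_1 D202919 (iv5 D185435) (iv4 F157412) (iv5 F369007) F369008 F369009 F198259 D123780 (iv4 F369011) (iv5 D185431) F159832 F369424 (iv4 F369423) F368611 F229085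
def n202920 : Q := act 0 n117260
theorem D202920 : act 0 n117260 = n202920 := rfl
theorem F426191 : act 5 n202920 = n148534 := d17_1 D202920 (iv1 F250276) (iv5 F368838) (iv4 D187013) (iv5 D89471) (iv0 F337236) (iv5 F368034) (iv0 F372872) F372870
theorem F426192 : act 4 n202920 = n182229 := d18_3 (iv1 F372873) F372870 D202920 (iv5 D182229) F335673 F134125 D150138 F337233 D153539
theorem F426193 : act 7 n182981 = n202920 := d11_0 F426192 F335707 D182981
theorem F426194 : act 1 n187028 = n202920 := d17_8 F335703 (iv5 D185341) (iv1 F135280) D185435 (iv4 F426190) (iv5 D202919) F356539 (iv5 F368869) F426192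
def n202921 : Q := act 1 n117260
theorem D202921 : act 1 n117260 = n202921 := rfl
theorem F426195 : act 1 n202921 = n187028 := d15_1 D202921 (iv7 F372917) F372916
theorem F426196 : act 5 n202921 = n148535 := d17_7 (iv1 F130922) F183506 (iv1 D117271) (iv5 D54046) (iv4 F85272) D117260 D202921 F250275 F250273
theorem F426197 : act 4 n202921 = n150134 := d17_9 F289959 (iv5 D88339) D88336 D185431 F369011 (iv5 D123780) (iv0 F356472) D117260 D202921
theorem F426198 : act 2 n182981 = n202921 := d1_3 F426197 F236303 D182981
theorem F426199 : act 3 n192311 = n202921 := d5_5 F426197 (iv3 F383528) (iv4 F386379) F386377 D192311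
def n202922 : Q := act 7 n117260
theorem D202922 : act 7 n117260 = n202922 := rfl
theorem F426200 : act 2 n202922 = n187028 := d4_1 D202922 (iv7 F372917) F372916
theorem F426201 : act 3 n202922 = n143501 := d8_1 D202922 F349351 (iv3 F366452)
theorem F426202 : act 4 n202922 = n186792 := d11_1 D202922 F372875 F372870
theorem F426203 : act 5 n202922 = n117261 := d13_1 D202922 (iv7 D117261) D117260
theorem F426204 : act 1 n182981 = n202922 := d15_1 F372919 (iv7 D202922) (iv2 F372916)
def n202923 : Q := act 0 n117263
theorem D202923 : act 0 n117263 = n202923 := rfl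
theorem F426205 : act 4 n202923 = n145994 := d18_3 D54044 D117263 D202923 (iv5 F418898) F418897 (iv0 D146686) (iv4 D68756) (iv0 F180398) (iv5 D54046)
theorem F426206 : act 1 n117268 = n202923 := d15_0 (iv0 D202923) (iv7 F426142) F426140
theorem F426207 : act 7 n202923 = n146894 := d15_2 (iv0 F243338) F426206 (iv2 F233619)
theorem F426208 : act 5 n185370 = n202923 := d13_3 F426207 F365327 F287708
theorem F426209 : act 6 n146962 = n202923 := d14_5 F426207 (iv6 D146894) F106111 D148789 (iv7 F233611)
def n202924 : Q := act 3 n117263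
theorem D202924 : act 3 n117263 = n202924 := rfl
theorem F426210 : act 4 n202924 = n146140 := d5_2 D117263 D202924 (iv3 D146140) F183266 (iv3 F183264)
theorem F426211 : act 6 n202924 = n154329 := d7_2 (iv6 F361670) D202924 F242416
theorem F426212 : act 0 n202924 = n200193 := d20_4 F85272 D54044 D117263 D202924 F415476 (iv4 D195846) (iv1 F163506) (iv4 F390393) F390392 (iv1 D117259)
theorem F426213 : act 0 n200065 = n202924 := d20_4 F238389 (iv1 F343519) (iv4 F357118) (iv3 F414872) (iv3 D202924) (iv4 D117263) (iv1 F183462) (iv4 F340879) F340887 F340892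
def n202925 : Q := act 5 n117263
theorem D202925 : act 5 n117263 = n202925 := rfl
def n202926 : Q := act 6 n117264
theorem D202926 : act 6 n117264 = n202926 := rfl
theorem F426214 : act 2 n202926 = n181684 := d3_1 D202926 (iv6 F354312) F233320
theorem F426215 : act 3 n202926 = n117720 := d7_1 D202926 F184352 (iv3 F183498)
theorem F426216 : act 5 n202926 = n155564 := d12_1 D202926 (iv6 F307762) (iv5 F120271) (iv6 F311981) D117264
theorem F426217 : act 7 n202926 = n117552 := d14_2 F183588 D202926 (iv6 D117552) F183598 D69351
theorem F426218 : act 0 n202926 = n117672 := d21_4 (iv5 D54046) D54044 D117264 D202926 (iv6 D117672) D117671 F341172 D139699 (iv6 F349376) (iv1 D117271)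
def n202927 : Q := act 0 n117280
theorem D202927 : act 0 n117280 = n202927 := rfl
theorem F426219 : act 4 n202927 = n124525 := d18_1 D202927 F315635 (iv4 D147186) (iv5 F339750) F189170 (iv0 F328939) F328942 (iv0 F307886) (iv5 F345663)
theorem F426220 : act 3 n202927 = n127902 := d20_5 F182012 (iv1 F322149) D55073 (iv3 F310763) D202927 F348690 (iv1 F240948) (iv4 F206337) F425337 (iv1 D202736)
theorem F426221 : act 6 n202927 = n147001 := d21_5 F305679 F128677 F128259 (iv6 F310764) D202927 F355165 (iv1 F200790) D178936 F355159 (iv1 F305677)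
theorem F426222 : act 2 n146711 = n202927 := d15_3 (iv0 D202927) (iv0 F243105) (iv7 F243011)
theorem F426223 : act 1 n146707 = n202927 := d15_0 (iv0 D202927) F183533 (iv2 F230041)
theorem F426224 : act 7 n202927 = n127436 := d15_2 F243117 F426223 (iv2 F227727)
def n202928 : Q := act 6 n117287
theorem D202928 : act 6 n117287 = n202928 := rfl
theorem F426225 : act 2 n202928 = n186935 := d3_1 D202928 (iv6 D186935) (iv2 F337249)
theorem F426226 : act 3 n202928 = n154968 := d7_1 D202928 (iv6 D154968) (iv3 F314947)
theorem F426227 : act 4 n202928 = n117289 := d10_1 D202928 (iv6 D117289) D117287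
theorem F426228 : act 7 n202928 = n160107 := d14_2 (iv7 F183545) D202928 (iv6 D160107) (iv7 D76678) (iv6 F312493)
theorem F426229 : act 0 n177140 = n202928 := d18_2 F348721 D177140 F426227 (iv5 F349396) (iv4 F349398) D202055 (iv4 F422813) (iv0 F424571) F424569
def n202929 : Q := act 4 n117288
theorem D202929 : act 4 n117288 = n202929 := rfl
theorem F426230 : act 2 n202929 = n148544 := d1_1 D202929 (iv4 D148544) (iv2 F183546)
theorem F426231 : act 3 n202929 = n121743 := d5_1 D202929 (iv4 D121743) F88978 F316527 (iv3 F183547)
theorem F426232 : act 6 n202929 = n117702 := d10_2 F183645 D202929 (iv4 D117702)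
theorem F426233 : act 7 n202929 = n146690 := d11_2 (iv7 F183548) D202929 (iv4 D146690)
theorem F426234 : act 5 n202929 = n186793 := d16_1 D202929 (iv4 D186793) (iv5 D89154) (iv4 F127381) (iv5 F310780) (iv4 D117452) D117453 F183956 (iv2 F183546)
def n202930 : Q := act 0 n117289
theorem D202930 : act 0 n117289 = n202930 := rfl
theorem F426235 : act 3 n202930 = n144877 := d20_5 F313293 (iv1 F88030) (iv4 F311047) (iv3 F183549) D202930 F227832 (iv1 F243195) (iv4 F315422) F159144 (iv1 F313292)
theorem F426236 : act 5 n202930 = n117678 := d21_2 F349396 D202930 (iv6 F348132) (iv1 F423140) F423138 F360899 F360898 F313918 F111741 (iv1 F222854)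
theorem F426237 : act 6 n202930 = n142459 := d21_5 F130902 F183644 (iv5 D117288) D117289 D202930 (iv5 F225374) F320289 F200239 F183503 F230372
theorem F426238 : act 2 n142603 = n202930 := d15_3 (iv0 D202930) (iv0 F233279) (iv7 F320613)
theorem F426239 : act 1 n159012 = n202930 := d15_0 (iv0 D202930) F313296 (iv2 F349383)
theorem F426240 : act 7 n202930 = n146660 := d15_2 D159012 F426239 F229956
def n202931 : Q := act 3 n117300
theorem D202931 : act 3 n117300 = n202931 := rfl
def n202932 : Q := act 5 n117302
theorem D202932 : act 5 n117302 = n202932 := rfl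
theorem F426241 : act 2 n202932 = n146340 := d2_1 D202932 F229679 (iv2 F183650)
theorem F426242 : act 3 n202932 = n152545 := d6_1 D202932 F354444 (iv3 F349039)
theorem F426243 : act 4 n202932 = n117314 := d9_1 D202932 (iv5 D117314) (iv4 D54069) (iv5 D26156) D26155 D54068 D117311 (iv5 F397537) F397536 (iv5 D117305) (iv4 D54065) (iv5 D26153) D26152 D54064 D117302
theorem F426244 : act 6 n202932 = n151346 := d12_2 F349038 D202932 F238059 (iv6 F186614) (iv5 F349037)
theorem F426245 : act 7 n202932 = n146325 := d13_2 (iv7 F183651) D202932 (iv5 D146325)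
theorem F426246 : act 0 n202932 = n117359 := d17_2 (iv1 F183653) D202932 F183800 (iv4 D68641) (iv5 D31939) F41496 D54075 (iv0 F85334) D105345
theorem F426247 : act 1 n202932 = n117337 := d17_6 (iv1 F163258) (iv5 D106235) F77502 D54064 D117302 D202932 (iv5 D117337) D117335 F183739
def n202933 : Q := act 1 n117305
theorem D202933 : act 1 n117305 = n202933 := rfl
theorem F426248 : act 1 n202933 = n117314 := d15_1 D202933 F183680 (iv2 F183658)
theorem F426249 : act 7 n202933 = n146339 := d15_2 F397420 D202933 (iv2 F397417)
theorem F426250 : act 5 n202933 = n117342 := d17_7 (iv1 D26166) (iv5 D12411) D12407 D26153 D54065 D117305 D202933 F183757 (iv4 D54082)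
theorem F426251 : act 4 n202933 = n201372 := d17_9 (iv1 D201372) F335950 (iv1 F335961) D201147 F419265 F229817 F114746 D117305 D202933
theorem F426252 : act 3 n188847 = n202933 := d19_19 (iv1 D202933) (iv5 D117305) (iv4 D54065) (iv3 F50133) (iv1 F51085) F51082 (iv4 F55388) (iv3 F55393) F49873 (iv5 F50367) (iv4 F94316) D127447 F397358 F397355 (iv4 F173031) (iv3 F215893) (iv1 F215898) D199613 F412850
theorem F426253 : act 6 n201372 = n202933 := d21_3 (iv5 D146446) (iv1 F229779) (iv5 F420226) (iv1 D202933) (iv6 F349240) (iv5 F349238) (iv1 F369156) F369153 D188893 (iv1 F375149)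
theorem F426254 : act 2 n127476 = n202933 := d16_9 F426251 F420226 F229781 (iv5 D105750) F77054 D48896 D105760 D195577 F397418
def n202934 : Q := act 6 n117314
theorem D202934 : act 6 n117314 = n202934 := rfl
theorem F426255 : act 2 n202934 = n146341 := d3_1 D202934 (iv6 D146341) (iv2 F183679)
theorem F426256 : act 3 n202934 = n201063 := d7_1 D202934 F418953 F366605
theorem F426257 : act 4 n202934 = n151346 := d10_1 D202934 (iv6 F426244) F426243
theorem F426258 : act 7 n202934 = n151345 := d14_2 (iv7 F183680) D202934 F238058 (iv7 F229671) F335902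
theorem F426259 : act 0 n151534 = n202934 := d21_4 (iv5 D68084) F103972 (iv5 F107974) D151534 (iv6 D202934) (iv5 D117314) F314506 D105421 F161814 (iv1 F104211)
def n202935 : Q := act 0 n117315
theorem D202935 : act 0 n117315 = n202935 := rfl
theorem F426260 : act 5 n202935 = n195138 := d17_1 D202935 (iv1 F395931) F161526 (iv4 F161837) (iv5 F333259) F333257 (iv5 D69641) (iv0 F247753) (iv4 F183682)
theorem F426261 : act 4 n202935 = n138697 := d18_3 (iv1 D117317) (iv4 F183682) D202935 (iv5 F332417) (iv4 F424600) F424603 (iv4 F359173) (iv0 D144493) (iv5 F322278)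
theorem F426262 : act 6 n202935 = n201380 := d21_5 D195577 F397419 (iv5 D117314) D117315 D202935 (iv5 F420262) (iv1 F335477) (iv5 D121330) (iv6 F321026) (iv1 F162419)
theorem F426263 : act 2 n146342 = n202935 := d15_3 (iv0 D202935) (iv0 F334966) (iv7 F355712)
theorem F426264 : act 1 n146345 = n202935 := d15_0 (iv0 D202935) (iv7 F420832) F420828
theorem F426265 : act 7 n202935 = n146343 := d15_2 F334967 F426264 F339441
theorem F426266 : act 3 n187457 = n202935 := d8_3 F426265 F369520 (iv7 F370419)
def n202936 : Q := act 4 n117317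
theorem D202936 : act 4 n117317 = n202936 := rfl
theorem F426267 : act 2 n202936 = n117905 := d1_1 D202936 (iv4 D117905) (iv2 F247754)
theorem F426268 : act 3 n202936 = n159914 := d5_1 D202936 F356613 (iv3 F356602) (iv4 D144533) (iv3 F322277)
theorem F426269 : act 6 n202936 = n159911 := d10_2 F333256 D202936 F335180
theorem F426270 : act 7 n202936 = n146348 := d11_2 F327181 D202936 (iv4 D146348)
theorem F426271 : act 0 n202936 = n117735 := d18_2 (iv1 F183683) D202936 F184398 F182660 (iv4 F185940) F424945 F424942 (iv0 F361405) F232267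
theorem F426272 : act 1 n202936 = n147960 := d18_6 (iv1 F180766) (iv4 F395974) F395975 F180555 (iv5 F322278) D202936 (iv4 F335048) F341091 F223188
def n202937 : Q := act 4 n117318
theorem D202937 : act 4 n117318 = n202937 := rfl
theorem F426273 : act 2 n202937 = n146358 := d1_1 D202937 (iv4 D146358) (iv2 F183684)
theorem F426274 : act 6 n202937 = n117320 := d10_2 (iv6 F183686) D202937 (iv4 D117320)
theorem F426275 : act 7 n202937 = n178966 := d11_2 F233005 D202937 F278853
theorem F426276 : act 0 n202937 = n138693 := d18_2 F361406 D202937 (iv4 D138693) (iv5 F355715) (iv4 D105446) F161821 F319422 (iv0 F314150) (iv5 F361403)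
theorem F426277 : act 1 n202937 = n138688 := d18_6 (iv1 F325726) D139967 F334966 F183682 D117318 D202937 (iv4 D138688) (iv0 D65120) D65122
theorem F426278 : act 3 n192489 = n202937 := d7_3 F426274 (iv3 F352997) D192489
def n202938 : Q := act 3 n117321
theorem D202938 : act 3 n117321 = n202938 := rfl
theorem F426279 : act 4 n202938 = n187759 := d5_2 D117321 D202938 (iv3 D187759) (iv4 D90541) (iv3 F85319)
theorem F426280 : act 5 n202938 = n146562 := d6_2 (iv5 F183699) D202938 (iv3 D146562)
theorem F426281 : act 6 n202938 = n187752 := d7_2 (iv6 F183697) D202938 (iv3 D187752)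
theorem F426282 : act 7 n202938 = n146394 := d8_2 (iv7 F183698) D202938 (iv3 D146394)
theorem F426283 : act 0 n135552 = n202938 := d20_4 (iv4 F211850) F347625 (iv4 F99100) (iv3 F217977) (iv3 D202938) (iv4 D117321) (iv1 F85323) D68660 (iv3 F333185) (iv1 F364475)
theorem F426284 : act 1 n143275 = n202938 := d18_6 (iv1 F391758) F391762 (iv1 D143244) F103071 D67122 D143275 F426279 F391852 F391851
def n202939 : Q := act 1 n117322
theorem D202939 : act 1 n117322 = n202939 := rfl
theorem F426285 : act 1 n202939 = n142058 := d15_1 D202939 (iv7 F424851) F424849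
theorem F426286 : act 7 n202939 = n146400 := d15_2 (iv0 F419494) D202939 (iv2 F424854)
theorem F426287 : act 2 n146399 = n202939 := d4_3 F426286 (iv2 F424854) F419482
def n202940 : Q := act 5 n117322
theorem D202940 : act 5 n117322 = n202940 := rfl
theorem F426288 : act 3 n202940 = n117323 := d6_1 D202940 (iv5 D117323) D117322
theorem F426289 : act 7 n202940 = n146401 := d13_2 (iv7 F183703) D202940 (iv5 D146401)
theorem F426290 : act 1 n188986 = n202940 := d15_1 (iv0 F375337) F426289 (iv2 F373014)
def n202941 : Q := act 6 n117322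
theorem D202941 : act 6 n117322 = n202941 := rfl
theorem F426291 : act 3 n202941 = n117324 := d7_1 D202941 (iv6 D117324) D117322
theorem F426292 : act 4 n202941 = n146825 := d10_1 D202941 (iv6 D146825) (iv4 F183702)
theorem F426293 : act 7 n202941 = n151337 := d14_2 (iv7 F183703) D202941 (iv6 D151337) (iv7 F348658) F348657
theorem F426294 : act 5 n159920 = n202941 := d21_2 D76555 D159920 (iv6 D202941) F419494 (iv6 D201217) D201216 F419480 (iv5 F360945) (iv6 D159919) (iv1 D76554)
theorem F426295 : act 1 n146825 = n159739 := d18_6 F329171 (iv4 F227810) F404648 F404646 F426294 F426292 F251684 (iv0 F335490) (iv5 F329172)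
def n202942 : Q := act 3 n117332
theorem D202942 : act 3 n117332 = n202942 := rfl
theorem F426296 : act 4 n202942 = n200981 := d5_2 D117332 D202942 (iv3 D200981) F176920 F94257
theorem F426297 : act 5 n202942 = n197815 := d6_2 F231788 D202942 (iv3 F405866)
theorem F426298 : act 7 n202942 = n146439 := d8_2 (iv7 F183730) D202942 (iv3 D146439)
theorem F426299 : act 0 n202942 = n151259 := d19_4 D28359 (iv5 F85343) D117332 D202942 (iv5 D151259) (iv4 F363672) (iv3 D109061) (iv1 F79733) (iv5 D24555) (iv4 F37368) (iv3 D23942) (iv1 D11218) (iv5 D5148) F3448 F1950 F9939 D2839 D6434 D13529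
theorem F426300 : act 1 n202942 = n151254 := d15_1 (iv0 F426299) F237981 F237978
def n202943 : Q := act 0 n117333
theorem D202943 : act 0 n117333 = n202943 := rfl
theorem F426301 : act 6 n202943 = n151553 := d21_5 F40357 D28359 (iv5 F85343) D117333 D202943 (iv5 D151553) (iv1 D71443) (iv5 F104869) (iv6 D68656) (iv1 F50545)
theorem F426302 : act 2 n144782 = n202943 := d15_3 (iv0 D202943) (iv0 F421295) F415235
theorem F426303 : act 3 n202943 = n201040 := d0_2 D144782 F426302 (iv2 F418845) F179068 F161790
theorem F426304 : act 7 n146449 = n202943 := d15_2 F258994 D146449 (iv2 F426302)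
theorem F426305 : act 2 n200146 = n146449 := d4_3 F426304 (iv2 F426302) (iv7 F415235)
theorem F426306 : act 1 n146450 = n202943 := d15_1 F421296 (iv7 F426304) (iv2 F426305)
def n202944 : Q := act 7 n117333
theorem D202944 : act 7 n117333 = n202944 := rfl
theorem F426307 : act 2 n202944 = n146450 := d4_1 D202944 (iv7 D146450) (iv2 F183731)
theorem F426308 : act 5 n202944 = n151694 := d13_1 D202944 (iv7 D151694) (iv5 F183732)
theorem F426309 : act 6 n202944 = n146444 := d14_1 D202944 (iv7 D146444) (iv6 D68659) (iv7 F85342) D117333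
theorem F426310 : act 1 n146449 = n202944 := d15_1 D146449 (iv7 D202944) F183731
theorem F426311 : act 1 n202944 = n144782 := d15_1 F426310 (iv7 F415235) F426305
def n202945 : Q := act 0 n117336
theorem D202945 : act 0 n117336 = n202945 := rfl
theorem F426312 : act 1 n146459 = n202945 := d15_0 (iv0 D202945) F183742 D146459
def n202946 : Q := act 1 n117336
theorem D202946 : act 1 n117336 = n202946 := rfl
theorem F426313 : act 4 n202946 = n200781 := d18_7 F416550 F202958 (iv1 D126202) (iv4 D59164) D59165 (iv4 F183741) D202946 (iv0 F417888) F401533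
theorem F426314 : act 2 n146457 = n202946 := d1_3 F426313 F417885 (iv4 F409941)
theorem F426315 : act 7 n146458 = n202946 := d11_0 F426313 F417887 F401530
theorem F426316 : act 0 n146459 = n202946 := d18_2 F231076 (iv4 F229792) F426313 F417886 F395825 F338356 (iv4 F338353) F161111 D113298
theorem F426317 : act 1 n196703 = n200781 := d18_6 (iv1 D201335) F416556 (iv1 D183146) (iv4 F284750) F416547 (iv4 F401536) (iv4 F426313) (iv0 F426316) F420059
theorem F426318 : act 7 n202945 = n146457 := d15_2 (iv0 F426316) F426312 F426314
theorem F426319 : act 2 n146458 = n202945 := d4_3 F426318 F426314 (iv7 F426315)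
def n202947 : Q := act 2 n117336
theorem D202947 : act 2 n117336 = n202947 := rfl
theorem F426320 : act 4 n202947 = n126200 := d1_2 (iv4 F183741) D202947 F202949
theorem F426321 : act 5 n202947 = n188302 := d2_2 F356634 D202947 F373028
theorem F426322 : act 7 n202947 = n146459 := d4_2 (iv7 F183742) D202947 (iv2 D146459)
theorem F426323 : act 1 n202947 = n146457 := d15_0 (iv0 D146457) (iv7 F183742) D202947
theorem F426324 : act 1 n146458 = n202947 := d15_0 F426323 (iv7 F426318) (iv2 F426319)
def n202948 : Q := act 0 n117338
theorem D202948 : act 0 n117338 = n202948 := rfl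
theorem F426325 : act 4 n202948 = n188726 := d18_3 (iv1 D117340) (iv4 F183747) D202948 (iv5 F376876) F376875 F367362 D187124 F369183 F183749
theorem F426326 : act 6 n202948 = n188726 := d21_5 (iv5 F397537) F397538 (iv5 D117337) D117338 D202948 (iv5 F376876) (iv1 F376879) F374577 (iv6 F374576) (iv1 F183676)
theorem F426327 : act 2 n187750 = n202948 := d15_3 (iv0 D202948) (iv0 F371350) F371399
theorem F426328 : act 1 n187754 = n202948 := d15_0 (iv0 D202948) (iv7 F422165) F422163
theorem F426329 : act 7 n202948 = n187751 := d15_2 F371410 F426328 (iv2 F371402)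
theorem F426330 : act 3 n133450 = n202948 := d8_3 F426329 (iv3 F371403) (iv7 F214600)
def n202949 : Q := act 3 n117339
theorem D202949 : act 3 n117339 = n202949 := rfl
theorem F426331 : act 2 n202949 = n187779 := d0_1 D202949 (iv3 D187779) F283562 F283595 F283594
theorem F426332 : act 5 n202949 = n191863 := d6_2 (iv5 F377308) D202949 F384610
theorem F426333 : act 7 n202949 = n187747 := d8_2 (iv7 F283593) D202949 (iv3 D187747)
theorem F426334 : act 4 n202949 = n187722 := d20_6 D113750 F177001 F93363 (iv3 F85346) D117339 D202949 (iv1 F371319) F326333 F105044 (iv1 F94266)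
theorem F426335 : act 2 n187722 = n146884 := d1_1 F426334 (iv4 F371466) (iv2 F426331)
theorem F426336 : act 7 n187722 = n146885 := d11_2 (iv7 F426333) F426334 (iv4 F371389)
theorem F426337 : act 0 n148701 = n202949 := d18_0 F426334 (iv1 F371319) F326333 F135535 F135530 F139257 (iv4 F370572) (iv0 D187494) (iv5 F233465)
theorem F426338 : act 1 n133184 = n202949 := d15_0 (iv0 F426337) (iv7 F363898) (iv2 F213983)
theorem F426339 : act 2 n146885 = n187723 := d15_3 F371320 F371319 F426336
theorem F426340 : act 7 n146884 = n187723 := d4_2 (iv7 F426336) F426335 (iv2 F426339)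
def n202950 : Q := act 6 n117342
theorem D202950 : act 6 n117342 = n202950 := rfl
theorem F426341 : act 2 n202950 = n127477 := d3_1 D202950 (iv6 D127477) F183760
theorem F426342 : act 3 n202950 = n189628 := d7_1 D202950 (iv6 F377185) (iv3 F356503)
theorem F426343 : act 4 n202950 = n127471 := d10_1 D202950 (iv6 D127471) (iv4 F183759)
theorem F426344 : act 5 n202950 = n135700 := d12_1 D202950 F355834 (iv5 F420226) F426253 F426250
theorem F426345 : act 7 n202950 = n201595 := d14_2 (iv7 F183758) D202950 (iv6 D201595) F332533 (iv6 F319824)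
theorem F426346 : act 0 n202950 = n117367 := d21_4 D117314 (iv1 F426248) F426250 D202950 F319180 (iv5 F324996) F355729 (iv5 F334859) F314504 F114745
theorem F426347 : act 0 n117372 = n202950 := d21_4 (iv5 D194133) (iv1 F333321) (iv5 D155319) (iv6 F232921) (iv6 D202950) (iv5 F426250) (iv1 D202933) (iv5 D117305) D117306 (iv1 F392149)
theorem F426348 : act 0 n151337 = n188590 := d20_4 (iv4 D117367) (iv1 F183718) (iv4 F422012) F422010 F374119 F368694 F368695 (iv4 F377181) (iv3 F426342) F426346
def n202951 : Q := act 6 n117350
theorem D202951 : act 6 n117350 = n202951 := rfl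
theorem F426349 : act 2 n202951 = n146494 := d3_1 D202951 (iv6 D146494) (iv2 F183776)
theorem F426350 : act 4 n202951 = n147976 := d10_1 D202951 F356767 F231799
theorem F426351 : act 5 n202951 = n197031 := d12_1 D202951 (iv6 F402753) (iv5 F309949) (iv6 D117351) D117350
theorem F426352 : act 0 n202951 = n188650 := d21_4 (iv5 D195577) F162418 D117350 D202951 (iv6 D188650) F142663 D93907 F349238 F349240 (iv1 F397420)
def n202952 : Q := act 5 n117356
theorem D202952 : act 5 n117356 = n202952 := rfl
theorem F426353 : act 2 n202952 = n146556 := d2_1 D202952 (iv5 D146556) (iv2 F183790)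
theorem F426354 : act 3 n202952 = n127738 := d6_1 D202952 F325814 (iv3 F337880)
theorem F426355 : act 7 n202952 = n144997 := d13_2 (iv7 F337881) D202952 F319879
theorem F426356 : act 0 n159919 = n202952 := d19_0 (iv5 D202952) (iv4 F204902) F312106 (iv1 D86672) (iv5 D40168) F30302 F13859 D8916 D19039 D40287 (iv3 F325157) D51022 (iv5 F328004) (iv4 F125432) (iv3 D81555) (iv1 D37250) D37251 D81560 (iv3 F360944)
def n202953 : Q := act 6 n117358
theorem D202953 : act 6 n117358 = n202953 := rfl
theorem F426357 : act 2 n202953 = n146559 := d3_1 D202953 (iv6 D146559) F183798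
theorem F426358 : act 3 n202953 = n192791 := d7_1 D202953 F387794 F372218
theorem F426359 : act 4 n202953 = n150771 := d10_1 D202953 (iv6 F420231) F420229
theorem F426360 : act 7 n202953 = n150768 := d14_2 (iv7 F183796) D202953 (iv6 D150768) (iv7 F360976) F360975
theorem E103860 : n201800 = n201794 := ((c20_1 D201794 (iv1 D201800) F179171 (iv3 F251163) (iv1 F387796) (iv3 F426358) F426359 (iv1 F237337) D201639 (iv3 F421208) (iv1 F250886))).symm
theorem F426361 : act 0 n201794 = n115066 := (sb E103860 (iv1 D201800))
def n202954 : Q := act 3 n117359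
theorem D202954 : act 3 n117359 = n202954 := rfl
theorem F426362 : act 5 n202954 = n146394 := d6_2 (iv5 F183800) D202954 (iv3 D146394)
theorem F426363 : act 6 n202954 = n202940 := d7_2 F356765 D202954 F426288
theorem F426364 : act 7 n202954 = n146562 := d8_2 (iv7 F183801) D202954 (iv3 D146562)
theorem F426365 : act 1 n118869 = n202954 := d15_1 (iv0 F397544) F426364 (iv2 F371027)
def n202955 : Q := act 0 n117377
theorem D202955 : act 0 n117377 = n202955 := rfl
theorem F426366 : act 4 n202955 = n149326 := d18_3 (iv1 D117376) D117377 D202955 (iv5 F382104) F382103 (iv0 F349083) F349079 (iv0 F349086) (iv5 F334938)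
theorem F426367 : act 3 n202955 = n151557 := d20_5 D134375 (iv1 F352591) F339498 (iv3 F352592) D202955 F253047 (iv1 F193591) (iv4 F238472) F347357 (iv1 F216369)
theorem F426368 : act 2 n143499 = n202955 := d15_3 (iv0 D202955) (iv0 F352605) (iv7 F359678)
theorem F426369 : act 6 n202955 = n143380 := d3_2 D143499 F426368 F323283
def n202956 : Q := act 7 n117377
theorem D202956 : act 7 n117377 = n202956 := rfl
theorem F426370 : act 3 n202956 = n134543 := d8_1 D202956 F352627 (iv3 F352592)
theorem F426371 : act 4 n202956 = n117378 := d11_1 D202956 (iv7 D117378) D117377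
theorem F426372 : act 6 n202956 = n138362 := d14_1 D202956 (iv7 F330636) (iv6 D149685) F106748 (iv6 F183807)
theorem F426373 : act 0 n143499 = n202956 := d18_2 F191342 (iv4 F314583) F426371 F183809 (iv4 F183802) F323485 F321781 (iv0 F252891) F204895
def n202957 : Q := act 2 n117400
theorem D202957 : act 2 n117400 = n202957 := rfl
theorem F426374 : act 3 n202957 = n147035 := d0_2 D117400 D202957 (iv2 D147035) (iv3 D68943) (iv2 F85392)
theorem F426375 : act 4 n202957 = n134544 := d1_2 (iv4 F339498) D202957 F352606
theorem F426376 : act 5 n202957 = n117482 := d2_2 (iv5 F310213) D202957 F188828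
theorem F426377 : act 6 n202957 = n117403 := d3_2 (iv6 F183868) D202957 (iv2 D117403)
theorem F426378 : act 0 n202957 = n117677 := d21_4 F308211 F151570 (iv5 F183875) (iv6 F426377) (iv6 D117677) (iv5 F318281) D65568 (iv5 F321134) (iv6 D76736) F309660
def n202958 : Q := act 1 n117404
theorem D202958 : act 1 n117404 = n202958 := rfl
theorem F426379 : act 1 n202958 = n117509 := d15_1 D202958 F184082 (iv2 F183876)
theorem F426380 : act 7 n202958 = n117508 := d15_2 F355613 D202958 F353586
theorem F426381 : act 4 n202958 = n166484 := d17_9 (iv1 F324023) F174329 D126347 F348486 F348483 (iv5 F409959) F409962 F365529 D202958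
theorem F426382 : act 3 n153285 = n202958 := d19_19 (iv1 D202958) (iv5 F365529) F218930 (iv3 D127085) F96435 D106416 D195903 (iv3 F408638) F408641 (iv5 D198450) F169338 (iv3 F175126) (iv1 F175130) (iv5 F409811) F409815 (iv3 F363179) F425153 F425151 (iv4 F240828)
theorem F426383 : act 2 n202958 = n117507 := d0_1 F426382 F353584 F191905 F115368 (iv2 F240827)
def n202959 : Q := act 6 n117404
theorem D202959 : act 6 n117404 = n202959 := rfl
theorem F426384 : act 2 n202959 = n143377 := d3_1 D202959 (iv6 D143377) (iv2 F183876)
theorem F426385 : act 3 n202959 = n117405 := d7_1 D202959 (iv6 D117405) D117404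
theorem F426386 : act 4 n202959 = n147051 := d10_1 D202959 (iv6 D147051) (iv4 F183877)
theorem F426387 : act 0 n200186 = n202959 := d21_4 F361288 (iv1 F216023) (iv5 F360775) F415462 (iv6 D202959) (iv5 F365529) (iv1 F409962) F409959 (iv6 D134183) D134180
theorem F426388 : act 1 n200188 = n202959 := d18_6 F366442 (iv4 F411740) F411741 (iv4 F332145) (iv5 F332138) D200188 F426386 (iv0 F406400) F406397
def n202960 : Q := act 0 n117405
theorem D202960 : act 0 n117405 = n202960 := rfl
theorem F426389 : act 4 n202960 = n127679 := d20_8 F330078 (iv1 D97276) (iv4 F150022) F334485 (iv1 D68955) (iv3 F85404) (iv4 F183880) D202960 (iv3 D127679) (iv1 F204800)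
theorem F426390 : act 2 n117648 = n202960 := d1_3 F426389 F425983 (iv4 F425987)
theorem F426391 : act 7 n117649 = n202960 := d11_0 F426389 (iv7 F364213) F352620
theorem F426392 : act 0 n202960 = n117647 := d20_1 (iv4 F426389) F184238 F85525 (iv1 F41682) D32332 D69655 (iv1 F356573) (iv4 F227935) (iv3 F418893) F418894
def n202961 : Q := act 1 n117405
theorem D202961 : act 1 n117405 = n202961 := rfl
theorem F426393 : act 1 n202961 = n117647 := d15_1 D202961 F184239 (iv2 F183879)
theorem F426394 : act 7 n202961 = n117648 := d15_2 (iv0 D202960) D202961 F426390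
theorem F426395 : act 4 n202961 = n202576 := d18_7 D197490 (iv4 F404541) (iv1 D152785) F108550 (iv5 F85405) (iv4 F183880) D202961 (iv0 F424581) (iv5 D197491)
theorem F426396 : act 6 n134515 = n202961 := d21_3 F359671 F213222 D134515 (iv1 D202961) (iv6 D117405) F328444 (iv1 D63971) D63972 (iv6 F218920) F328458
theorem F426397 : act 2 n202961 = n117649 := d3_1 F426396 F352619 (iv2 F216467)
theorem F426398 : act 3 n202961 = n192895 := d7_1 F426396 F388129 F364197
theorem F426399 : act 5 n202961 = n192894 := d12_1 F426396 F388127 (iv5 F367184) F328609 D134515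
def n202962 : Q := act 5 n117405
theorem D202962 : act 5 n117405 = n202962 := rfl
theorem F426400 : act 2 n202962 = n117650 := d2_1 D202962 (iv5 D117650) (iv2 F183879)
theorem F426401 : act 6 n202962 = n193671 := d12_2 D117405 D202962 F390646 (iv6 D136054) (iv5 F328444)
def n202963 : Q := act 7 n117405
theorem D202963 : act 7 n117405 = n202963 := rfl
theorem F426402 : act 2 n202963 = n117647 := d4_1 D202963 F184239 (iv2 F183879)
theorem F426403 : act 4 n202963 = n117408 := d11_1 D202963 (iv7 D117408) (iv4 F183880)
theorem F426404 : act 6 n202963 = n117518 := d14_1 D202963 (iv7 D117518) (iv6 D54148) (iv7 F85400) D117405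
theorem F426405 : act 1 n117649 = n202963 := d15_1 D117649 (iv7 D202963) F183879
theorem F426406 : act 1 n202963 = n117648 := d15_1 F426405 (iv7 F426394) F426397
def n202964 : Q := act 4 n117406
theorem D202964 : act 4 n117406 = n202964 := rfl
theorem F426407 : act 2 n202964 = n117670 := d1_1 D202964 (iv4 D117670) (iv2 F237563)
theorem F426408 : act 7 n202964 = n117675 := d11_2 (iv7 F237564) D202964 (iv4 D117675)
theorem F426409 : act 0 n117532 = n202964 := d20_1 (iv4 F184133) (iv4 D202964) F316827 (iv1 F101340) (iv3 F111985) D156826 (iv1 F366429) F267881 (iv3 F267878) F364334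
def n202965 : Q := act 3 n117410
theorem D202965 : act 3 n117410 = n202965 := rfl
theorem F426410 : act 2 n202965 = n137410 := d0_1 D202965 (iv3 F365406) F365405 F366220 (iv2 F183892)
theorem F426411 : act 4 n202965 = n133258 := d5_2 D117410 D202965 F214216 (iv4 F319943) F143122
theorem F426412 : act 7 n202965 = n195134 := d8_2 (iv7 F183893) D202965 (iv3 D195134)
theorem F426413 : act 6 n133257 = n202965 := d14_5 F426412 F395906 F241761 (iv6 F338473) (iv7 F327809)
theorem F426414 : act 0 n199205 = n202965 := d21_4 (iv5 F201782) F411146 F411147 (iv6 F411159) (iv6 F426413) (iv5 F216529) (iv1 F216528) (iv5 D63245) D63246 (iv1 F342186)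
def n202966 : Q := act 6 n117410
theorem D202966 : act 6 n117410 = n202966 := rfl
theorem F426415 : act 2 n202966 = n134171 := d3_1 D202966 F366216 (iv2 F183892)
theorem F426416 : act 3 n202966 = n133257 := d7_1 D202966 F426413 (iv3 D202965)
theorem F426417 : act 4 n202966 = n117411 := d10_1 D202966 (iv6 D117411) D117410
theorem F426418 : act 5 n202966 = n202956 := d12_1 D202966 F426372 (iv5 D138362) D138363 F330622
theorem F426419 : act 7 n202966 = n137412 := d14_2 (iv7 F183893) D202966 (iv6 F359674) F349301 (iv6 F161508)
theorem F426420 : act 0 n135551 = n202966 := d19_0 F426418 F426371 F183808 (iv1 F85397) (iv5 F311592) (iv4 D54102) (iv3 F85362) D117375 F359682 F251446 F114483 (iv1 F55219) D69701 (iv4 F327790) (iv3 D132658) (iv1 D62252) D62254 D132662 (iv3 F217976)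
def n202967 : Q := act 1 n117412
theorem D202967 : act 1 n117412 = n202967 := rfl
theorem F426421 : act 7 n202967 = n195547 := d15_2 (iv0 F423671) D202967 (iv2 F423667)
theorem F426422 : act 5 n202967 = n141533 := d18_9 (iv1 D141533) (iv4 F330607) (iv1 F330603) F327618 D116552 (iv4 F359453) (iv0 D117437) (iv4 F183896) D202967
theorem F426423 : act 4 n155503 = n202967 := d20_0 (iv1 D202967) F183896 (iv3 D54120) D54118 D117431 F183937 (iv1 F341545) (iv4 D143118) (iv3 F225939) F347295
theorem F426424 : act 3 n202967 = n141627 := d5_1 F426423 (iv4 F353541) (iv3 F419430) F419431 (iv3 F360706)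
theorem F426425 : act 6 n202967 = n155501 := d10_2 D155503 F426423 (iv4 D155501)
theorem F426426 : act 0 n155503 = n202700 := d20_7 D53671 (iv1 F102343) (iv4 D66446) D66445 (iv1 F318140) (iv3 F426424) (iv4 F426423) (iv4 D202700) (iv3 D116446) (iv1 D53670)
def n202968 : Q := act 2 n117412
theorem D202968 : act 2 n117412 = n202968 := rfl
theorem F426427 : act 3 n202968 = n146644 := d0_2 D117412 D202968 (iv2 D146644) (iv3 D68720) (iv2 F85415)
theorem F426428 : act 4 n202968 = n117439 := d1_2 (iv4 F183896) D202968 (iv2 D117439)
theorem F426429 : act 5 n202053 = n202968 := d9_0 F426428 (iv5 F386245) (iv4 F423219) (iv5 D202200) (iv4 D115451) (iv5 F336248) F336249 (iv5 F360613) F229274 F329158 (iv4 F162180) F344610 (iv4 D115456) (iv5 F360856) D202053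
theorem F426430 : act 1 n195547 = n202968 := d17_8 (iv1 F359458) D202724 F425293 (iv5 D117538) (iv4 F184119) (iv5 F349466) (iv0 F363489) D195547 F426428
def n202969 : Q := act 5 n117412
theorem D202969 : act 5 n117412 = n202969 := rfl
theorem F426431 : act 2 n202969 = n202053 := d2_1 D202969 F426429 (iv2 D202968)
theorem F426432 : act 3 n202969 = n117413 := d6_1 D202969 (iv5 D117413) D117412
theorem F426433 : act 7 n202969 = n156515 := d13_2 F229275 D202969 (iv5 F360613)
theorem F426434 : act 4 n202969 = n198876 := d16_2 (iv4 F183896) D202969 F409700 (iv4 F397309) (iv5 F397312) F396952 (iv5 F360622) F360623 (iv2 D117439)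
theorem F426435 : act 6 n202969 = n150913 := d21_3 (iv5 F426422) (iv1 D202967) D202969 (iv1 F351435) (iv6 D152831) (iv5 F166757) (iv1 F166759) (iv5 F185670) (iv6 F422789) (iv1 F422793)
def n202970 : Q := act 6 n117412
theorem D202970 : act 6 n117412 = n202970 := rfl
theorem F426436 : act 3 n202970 = n117414 := d7_1 D202970 (iv6 D117414) D117412
theorem F426437 : act 4 n202970 = n117441 := d10_1 D202970 (iv6 D117441) (iv4 F183896)
theorem F426438 : act 7 n202970 = n194511 := d14_2 F229275 D202970 F393510 F230319 F360611
def n202971 : Q := act 4 n117413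
theorem D202971 : act 4 n117413 = n202971 := rfl
theorem F426439 : act 2 n202971 = n146647 := d1_1 D202971 (iv4 D146647) (iv2 F183897)
theorem F426440 : act 5 n202971 = n144861 := d9_2 D117413 D202971 (iv4 D144861) F103977 F50299 (iv5 F50330) F324054 (iv5 F323526) (iv4 F221600) F330622 (iv4 D117410) (iv5 D54108) (iv4 D26181) D26182 D54109
theorem F426441 : act 6 n202971 = n150914 := d10_2 (iv6 F320851) D202971 (iv4 D150914)
theorem F426442 : act 7 n202971 = n146484 := d11_2 (iv7 F320852) D202971 F322558
def n202972 : Q := act 2 n117431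
theorem D202972 : act 2 n117431 = n202972 := rfl
theorem F426443 : act 3 n202972 = n134419 := d0_2 D117431 D202972 F341445 F341449 (iv2 F183520)
theorem F426444 : act 4 n202972 = n144939 := d1_2 (iv4 F183937) D202972 (iv2 D144939)
theorem F426445 : act 7 n202972 = n137930 := d4_2 F229153 D202972 (iv2 F354833)
theorem F426446 : act 1 n202972 = n137933 := d15_0 (iv0 F359062) F229153 D202972
theorem F426447 : act 1 n137878 = n202972 := d15_0 F426446 (iv7 D137933) (iv2 F221101)
theorem F426448 : act 6 n138318 = n202972 := d14_5 F426445 F354834 (iv7 F251582) (iv6 F360941) F246018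
def n202973 : Q := act 6 n117431
theorem D202973 : act 6 n117431 = n202973 := rfl
theorem F426449 : act 2 n202973 = n138318 := d3_1 D202973 F426448 (iv2 D202972)
theorem F426450 : act 3 n202973 = n117433 := d7_1 D202973 (iv6 D117433) D117431
theorem F426451 : act 4 n202973 = n144941 := d10_1 D202973 (iv6 D144941) (iv4 F183937)
theorem F426452 : act 5 n202973 = n138605 := d12_1 D202973 (iv6 F353373) (iv5 D137238) D137239 (iv5 F329161)
def n202974 : Q := act 3 n117438
theorem D202974 : act 3 n117438 = n202974 := rfl
theorem F426453 : act 2 n202974 = n194079 := d0_1 D202974 (iv3 D194079) (iv2 F324383) (iv3 F353337) (iv2 F359457)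
theorem F426454 : act 4 n202974 = n163838 := d5_2 F359459 D202974 F258287 (iv4 F320522) (iv3 F319168)
theorem F426455 : act 7 n202974 = n202723 := d8_2 (iv7 F359456) D202974 (iv3 D202723)
theorem F426456 : act 0 n202974 = n191413 := d20_10 F383404 (iv1 D175352) (iv4 F333957) F259446 F225491 (iv3 F359461) (iv4 D142664) (iv1 F319166) F359459 D202974
theorem F426457 : act 0 n137891 = n202974 := d18_2 D175351 F354815 F426454 (iv5 D163838) F119854 D78712 D163847 F354864 (iv5 D175353)
def n202975 : Q := act 5 n117438
theorem D202975 : act 5 n117438 = n202975 := rfl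
theorem F426458 : act 2 n202975 = n200012 := d2_1 D202975 F414620 (iv2 F359457)
theorem F426459 : act 4 n202975 = n200015 := d9_1 D202975 F414630 F179730 D115459 F327618 D116552 (iv4 F359453) (iv5 F397122) (iv4 D195484) (iv5 D105620) (iv4 F83970) D115242 F327621 (iv5 F181970) F359459
theorem F426460 : act 7 n202975 = n202724 := d13_2 (iv7 F359456) D202975 (iv5 D202724)
def n202976 : Q := act 6 n117448
theorem D202976 : act 6 n117448 = n202976 := rfl
theorem F426461 : act 3 n202976 = n120377 := d7_1 D202976 F191752 (iv3 F321336)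
theorem F426462 : act 4 n202976 = n194518 := d10_1 D202976 (iv6 F393545) F356977
theorem F426463 : act 7 n202976 = n120369 := d14_2 (iv7 F321338) D202976 (iv6 D120369) F87705 D57114
theorem F426464 : act 0 n153639 = n202976 := d20_10 F426462 (iv1 D194518) D194520 F393553 (iv1 F367315) F305477 (iv4 F198163) (iv1 F348668) (iv4 D153640) D153639
def n202977 : Q := act 4 n117453
theorem D202977 : act 4 n117453 = n202977 := rfl
theorem F426465 : act 2 n202977 = n146690 := d1_1 D202977 (iv4 D146690) (iv2 F183955)
theorem F426466 : act 7 n202977 = n148544 := d11_2 (iv7 F183956) D202977 (iv4 D148544)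
def n202978 : Q := act 6 n117453
theorem D202978 : act 6 n117453 = n202978 := rfl
theorem F426467 : act 2 n202978 = n146691 := d3_1 D202978 (iv6 D146691) (iv2 F183955)
theorem F426468 : act 3 n202978 = n147209 := d7_1 D202978 (iv6 D147209) (iv3 F242999)
theorem F426469 : act 5 n202978 = n155514 := d12_1 D202978 F306839 (iv5 D76732) (iv6 F308666) D117453
theorem F426470 : act 7 n202978 = n117705 := d14_2 (iv7 F183956) D202978 (iv6 D117705) F184301 F184299
theorem F426471 : act 0 n202978 = n117898 := d21_4 F85260 D54124 D117453 D202978 (iv6 D117898) (iv5 F322274) F322272 D139725 (iv6 F345707) (iv1 D117242)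
theorem F426472 : act 4 n187087 = n202978 := d5_0 F426468 (iv4 F378291) F378290 (iv4 D187088) D187087
theorem F426473 : act 6 n202977 = n187087 := d10_0 F426472 (iv6 D202978) D202977
theorem F426474 : act 3 n187090 = n202977 := d7_3 F426473 (iv3 D187087) D187090
theorem F426475 : act 0 n143512 = n187090 := d20_4 F49563 D31275 D67216 D143512 F426474 (iv4 D202977) F183957 (iv4 F314578) (iv3 D143496) (iv1 D67211)
def n202979 : Q := act 3 n117461
theorem D202979 : act 3 n117461 = n202979 := rfl
theorem F426476 : act 2 n202979 = n143131 := d0_1 D202979 (iv3 D143131) F225865 F394309 F394313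
theorem F426477 : act 4 n202979 = n201577 := d20_6 (iv4 D35976) (iv1 F41572) D26195 D54130 D117461 D202979 F420997 (iv4 F328479) F220586 (iv1 F328455)
theorem F426478 : act 6 n201199 = n202979 := d10_0 F426477 (iv6 D201577) (iv4 F419418)
theorem F426479 : act 5 n202979 = n201294 := d21_6 F87746 (iv1 F92118) (iv5 F92113) D114111 D201199 F426478 (iv1 D201294) (iv5 D114268) (iv6 D52740) D52738
def n202980 : Q := act 4 n117461
theorem D202980 : act 4 n117461 = n202980 := rfl
theorem F426480 : act 2 n202980 = n128210 := d1_1 D202980 (iv4 F394308) F394313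
theorem F426481 : act 3 n202980 = n167582 := d5_1 D202980 F420374 (iv3 F420995) (iv4 F426477) (iv3 D202979)
theorem F426482 : act 7 n202980 = n147467 := d11_2 (iv7 F394314) D202980 (iv4 F394305)
theorem F426483 : act 0 n202980 = n147326 := d17_0 (iv5 D147326) D147324 (iv5 F350722) F350726 F350790 (iv0 F329315) (iv5 F350038) F360602 D202980
theorem F426484 : act 1 n202980 = n147470 := d18_8 (iv1 F230996) F243297 F243344 F105461 D69184 D147626 F360602 D202980 F231254
theorem F426485 : act 6 n123711 = n202980 := d7_0 F426481 (iv6 F420375) (iv3 F354960)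
def n202981 : Q := act 5 n117461
theorem D202981 : act 5 n117461 = n202981 := rfl
theorem F426486 : act 3 n202981 = n201294 := d6_1 D202981 (iv5 F426479) (iv3 D202979)
theorem F426487 : act 0 n202981 = n153308 := d17_2 D117461 D202981 (iv5 D153308) (iv4 F206183) F312503 (iv0 D146748) D146751 (iv0 F230103) F106138
def n202982 : Q := act 6 n117461
theorem D202982 : act 6 n117461 = n202982 := rfl
theorem F426488 : act 2 n202982 = n128208 := d3_1 D202982 (iv6 F394310) F394313
theorem F426489 : act 3 n202982 = n201199 := d7_1 D202982 F426478 (iv3 D202979)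
theorem F426490 : act 4 n202982 = n123711 := d10_1 D202982 F426485 (iv4 D202980)
theorem F426491 : act 0 n124673 = n202982 := d21_4 (iv5 D27767) (iv1 F44812) D58262 D124673 (iv6 D202982) D202981 F426487 (iv5 D153308) (iv6 D72430) F52725
theorem F426492 : act 1 n188426 = n194407 := d18_6 F426491 F426490 (iv1 F198202) (iv4 F198120) (iv5 F359719) D188426 F393075 D194409 (iv5 F393089)
theorem F426493 : act 7 n128213 = n202982 := d11_0 F426490 F354961 D128213
theorem F426494 : act 0 n202982 = n153368 := d20_7 F230913 F109428 D72801 D153889 (iv1 F352417) (iv3 F354960) (iv4 F426490) (iv4 F354075) (iv3 D184836) (iv1 F337912)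
def n202983 : Q := act 5 n117462
theorem D202983 : act 5 n117462 = n202983 := rfl
theorem F426495 : act 3 n202983 = n143134 := d6_1 D202983 (iv5 D143134) F222935
theorem F426496 : act 1 n202983 = n153308 := d17_8 F389195 (iv5 D107287) D107285 F350036 F100598 (iv5 F328818) D117462 D202983 (iv4 F389194)
def n202984 : Q := act 6 n117468
theorem D202984 : act 6 n117468 = n202984 := rfl
theorem F426497 : act 2 n202984 = n119576 := d3_1 D202984 F331660 (iv2 F329413)
theorem F426498 : act 4 n202984 = n195616 := d10_1 D202984 F397637 F228933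
theorem F426499 : act 0 n202984 = n119304 := d21_4 (iv5 D63123) D63119 (iv5 F329414) D202984 F310222 F107827 (iv1 D27492) D27494 D57481 (iv1 F328722)
theorem F426500 : act 1 n202984 = n119315 := d15_1 (iv0 F426499) F187833 (iv2 F187798)
theorem F426501 : act 7 n202984 = n119575 := d15_2 (iv0 F355071) (iv0 F426499) (iv2 F364974)
def n202985 : Q := act 6 n117478
theorem D202985 : act 6 n117478 = n202985 := rfl
theorem F426502 : act 2 n202985 = n119574 := d3_1 D202985 F188561 (iv2 F183992)
theorem F426503 : act 3 n202985 = n123819 := d7_1 D202985 (iv6 F365395) (iv3 F331621)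
theorem F426504 : act 4 n202985 = n117480 := d10_1 D202985 (iv6 D117480) D117478
theorem F426505 : act 5 n202985 = n193800 := d12_1 D202985 (iv6 F391042) (iv5 D136966) (iv6 F339485) F331619
theorem F426506 : act 0 n202985 = n128275 := d21_4 (iv5 D134515) (iv1 F216305) F331619 D202985 F318175 F307580 F190809 (iv5 F306387) (iv6 F352604) (iv1 F352590)
theorem F426507 : act 1 n202985 = n155373 := d15_1 (iv0 F426506) F346085 (iv2 F318173)
theorem F426508 : act 7 n202985 = n119572 := d15_2 (iv0 F206398) (iv0 F426506) F188558
def n202986 : Q := act 0 n117483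
theorem D202986 : act 0 n117483 = n202986 := rfl
theorem F426509 : act 5 n202986 = n119438 := d17_3 D63274 (iv5 F331616) D202986 F188203 (iv5 F314811) F95853 F211219 (iv0 D29898) D29900
theorem F426510 : act 6 n202986 = n175455 := d21_5 F106453 (iv1 F125804) F125807 (iv6 F183998) D202986 (iv5 D175455) F307713 D101598 F304865 (iv1 F106455)
theorem F426511 : act 2 n175092 = n202986 := d3_3 F426510 (iv2 F355213) (iv6 F274069)
theorem F426512 : act 3 n173347 = n202986 := d7_3 F426510 F274706 (iv6 F306609)
theorem F426513 : act 0 n202986 = n134665 := d21_10 (iv5 D134665) (iv1 D63275) D63276 (iv6 F331679) (iv1 F188018) (iv6 F339389) (iv5 D119690) F305700 D175455 (iv6 F426510)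
theorem F426514 : act 7 n202986 = n147681 := d8_2 (iv7 F320211) F426512 F344162
def n202987 : Q := act 1 n117483
theorem D202987 : act 1 n117483 = n202987 := rfl
theorem F426515 : act 1 n202987 = n134665 := d15_1 D202987 F332293 (iv2 F332286)
theorem F426516 : act 7 n202987 = n175092 := d15_2 (iv0 D202986) D202987 F426511
theorem F426517 : act 5 n202987 = n120136 := d17_7 (iv1 F216530) F208679 D133255 F315479 (iv4 F315477) (iv5 F331616) D202987 F315821 F315329
theorem F426518 : act 4 n202987 = n202891 := d17_9 F426069 (iv5 F331674) (iv1 D134392) D134394 (iv4 F334152) F334153 F308846 (iv5 F331616) D202987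
theorem F426519 : act 3 n120137 = n202987 := d20_9 (iv4 D117483) (iv1 F313426) F334109 F188749 D121463 F379446 F379442 D198962 F410077 (iv1 D202987)
theorem F426520 : act 6 n147665 = n202987 := d21_3 (iv5 D107679) D107677 F344153 (iv1 D202987) F183998 (iv5 F125807) (iv1 D81847) D81848 D170728 (iv1 F346276)
theorem F426521 : act 2 n202987 = n147681 := d3_1 F426520 (iv6 D147681) (iv2 F344143)
def n202988 : Q := act 3 n117483
theorem D202988 : act 3 n117483 = n202988 := rfl
theorem F426522 : act 2 n202988 = n147582 := d0_1 D202988 F334535 F234231 D83749 (iv2 F332286)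
theorem F426523 : act 4 n202988 = n117765 := d5_2 D117483 D202988 F184438 (iv4 F308394) (iv3 F85443)
theorem F426524 : act 5 n202988 = n134661 := d6_2 (iv5 F331616) D202988 (iv3 D134661)
theorem F426525 : act 6 n202988 = n117488 := d7_2 (iv6 F183998) D202988 (iv3 D117488)
theorem F426526 : act 0 n202988 = n147752 := d20_10 F233745 D148860 F233885 F334051 F326287 F334106 (iv4 F334102) (iv1 D117482) D117483 D202988
theorem F426527 : act 0 n147390 = n202988 := d20_4 F349371 (iv1 F313155) F336914 (iv3 F334046) (iv3 D202988) (iv4 D117483) (iv1 F313426) F334109 F188749 D121463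
theorem F426528 : act 7 n202988 = n147750 := d15_2 (iv0 F334053) (iv0 F426526) F334537
def n202989 : Q := act 7 n117483
theorem D202989 : act 7 n117483 = n202989 := rfl
theorem F426529 : act 2 n202989 = n134665 := d4_1 D202989 F332293 (iv2 F332286)
theorem F426530 : act 3 n202989 = n147750 := d8_1 D202989 (iv7 F426528) (iv3 D202988)
theorem F426531 : act 4 n202989 = n117484 := d11_1 D202989 (iv7 D117484) D117483
theorem F426532 : act 5 n202989 = n118563 := d13_1 D202989 (iv7 F212056) (iv5 F331616)
theorem F426533 : act 6 n202989 = n146988 := d14_1 D202989 (iv7 D146988) F105074 (iv7 F85450) (iv6 F183998)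
theorem F426534 : act 1 n147681 = n202989 := d15_1 (iv0 F344161) (iv7 D202989) F332286
theorem F426535 : act 1 n202989 = n175092 := d15_1 F426534 (iv7 F426516) F426521
def n202990 : Q := act 6 n117489
theorem D202990 : act 6 n117489 = n202990 := rfl
theorem F426536 : act 2 n202990 = n117532 := d3_1 D202990 (iv6 D117532) F184022
theorem F426537 : act 4 n202990 = n201050 := d10_1 D202990 (iv6 D201050) (iv4 F184021)
theorem F426538 : act 0 n117675 = n202990 := d21_4 (iv5 D63130) F95640 D130214 (iv6 F352601) (iv6 D202990) F329156 F101958 (iv5 F328817) D117451 F329076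
theorem F426539 : act 1 n117670 = n202990 := d15_0 (iv0 F426538) (iv7 F426408) F426407
def n202991 : Q := act 5 n117490
theorem D202991 : act 5 n117490 = n202991 := rfl
theorem F426540 : act 3 n202991 = n117491 := d6_1 D202991 (iv5 D117491) D117490
theorem F426541 : act 7 n202991 = n117560 := d13_2 (iv7 F184026) D202991 (iv5 D117560)
theorem F426542 : act 1 n202991 = n202983 := d17_6 (iv1 F350771) (iv5 D146755) (iv1 D68804) D68806 (iv4 F184025) D202991 (iv5 D202983) F350045 (iv4 D147626)
theorem F426543 : act 4 n202991 = n196760 := d18_5 D75015 (iv4 F350721) (iv1 D146759) (iv4 F184025) D202991 (iv0 D196760) (iv4 F368238) (iv0 D157587) (iv5 D75017)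
theorem F426544 : act 6 n136812 = n202991 := d10_0 F426543 (iv6 F423993) F423991
theorem F426545 : act 1 n202981 = n202991 := d15_1 (iv0 F426487) F426541 F314960
theorem F426546 : act 5 n183135 = n136812 := d21_8 (iv5 D202981) (iv1 F360602) F350038 (iv6 D104206) (iv1 F134171) (iv6 F284746) (iv5 D183137) D183135 F426544 (iv1 F426545)
theorem F426547 : act 3 n136813 = n183135 := d6_3 F426546 (iv3 D136812) D136813
theorem F426548 : act 7 n190518 = n183135 := d13_0 F426546 (iv7 F408394) F408396
theorem F426549 : act 2 n183135 = n190517 := d15_3 (iv0 D190517) D190518 F426548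
theorem F426550 : act 2 n190518 = n183136 := d15_3 F379981 F379982 (iv7 F426548)
theorem F426551 : act 7 n183136 = n190517 := d4_2 (iv7 F426548) F426550 (iv2 F426549)
def n202992 : Q := act 0 n117492
theorem D202992 : act 0 n117492 = n202992 := rfl
theorem F426552 : act 5 n202992 = n183039 := d19_1 D202992 F341406 (iv3 D108943) (iv1 D50298) (iv5 D24531) (iv4 D11607) D11606 (iv1 F36876) F36874 F17991 (iv3 F22465) F19575 D12078 D25400 D52295 F320721 F318601 D147595 F348002
theorem F426553 : act 4 n202992 = n170360 := d20_2 (iv4 F184032) D202992 F337291 (iv1 F397467) F397462 F231392 (iv1 F243368) (iv4 D147334) (iv3 F242922) (iv1 D117493)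
theorem F426554 : act 3 n202992 = n123251 := d20_5 (iv4 F353597) (iv1 F202964) D147595 F348002 D202992 (iv4 F357683) (iv1 D120456) F87755 (iv3 F87747) D120435
theorem F426555 : act 6 n202992 = n189890 := d21_5 F328819 F328426 (iv5 D117491) D117492 D202992 (iv5 D189890) F293407 F321343 (iv6 D54122) D54118
theorem F426556 : act 2 n117543 = n202992 := d15_3 (iv0 D202992) F228025 F264373
theorem F426557 : act 1 n117546 = n202992 := d15_0 (iv0 D202992) F348003 (iv2 F312096)
theorem F426558 : act 7 n202992 = n117544 := d15_2 (iv0 F228024) F426557 (iv2 F348012)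
def n202993 : Q := act 5 n117492
theorem D202993 : act 5 n117492 = n202993 := rfl
theorem F426559 : act 2 n202993 = n117545 := d2_1 D202993 (iv5 D117545) (iv2 F184031)
theorem F426560 : act 6 n202993 = n136813 := d12_2 D117492 D202993 (iv5 D136813) (iv6 F328032) (iv5 D117491)
theorem F426561 : act 7 n202993 = n135156 := d13_2 (iv7 F348003) D202993 F337788
theorem F426562 : act 4 n202993 = n197807 := d16_2 (iv4 F184032) D202993 F407993 (iv4 D198431) F347155 (iv4 D142455) (iv5 F321228) (iv7 D54162) (iv2 F85453)
theorem F426563 : act 1 n202993 = n135140 := d17_6 (iv1 D142459) (iv5 D66795) (iv1 F319190) (iv5 F85455) (iv4 F184032) D202993 F217352 F342810 (iv4 F325092)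
theorem F426564 : act 0 n202993 = n135157 := d20_7 (iv4 F98554) (iv1 F98555) F78126 (iv3 F79515) D108680 D197807 (iv4 F426562) F356120 F223518 F101574
def n202994 : Q := act 4 n117493
theorem D202994 : act 4 n117493 = n202994 := rfl
theorem F426565 : act 2 n202994 = n117550 := d1_1 D202994 (iv4 D117550) F184035
theorem F426566 : act 7 n202994 = n117548 := d11_2 (iv7 F184034) D202994 (iv4 D117548)
theorem F426567 : act 0 n202994 = n117503 := d18_2 (iv1 F184033) D202994 F184072 (iv5 F319283) (iv4 F225346) (iv0 D142438) F102647 D66794 (iv5 F321228)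
theorem F426568 : act 0 n117593 = n202994 := d20_10 (iv4 D202994) (iv1 D117493) (iv4 F184032) (iv3 F348002) F316670 F396193 F396192 (iv1 D194227) F355645 (iv3 F337284)
def n202995 : Q := act 6 n117493
theorem D202995 : act 6 n117493 = n202995 := rfl
theorem F426569 : act 2 n202995 = n117552 := d3_1 D202995 (iv6 D117552) F184035
theorem F426570 : act 3 n202995 = n147336 := d7_1 D202995 (iv6 D147336) (iv3 F242922)
theorem F426571 : act 7 n202995 = n181684 := d14_2 (iv7 F184034) D202995 (iv6 F354312) F233318 (iv6 F183503)
theorem F426572 : act 5 n202995 = n165316 := d21_6 F55692 D35987 D79080 (iv6 F309893) (iv1 F184033) D202995 F312434 F306196 F310167 F151576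
theorem F426573 : act 0 n117672 = n202995 := d21_4 F321134 (iv1 F341173) (iv5 D117671) D117672 (iv6 D202995) (iv5 F278694) (iv1 F278698) F320505 D142603 F345703
def n202996 : Q := act 5 n117496
theorem D202996 : act 5 n117496 = n202996 := rfl
theorem F426574 : act 3 n202996 = n117497 := d6_1 D202996 (iv5 D117497) D117496
theorem F426575 : act 6 n202996 = n191512 := d12_2 (iv6 F349461) D202996 F383627 (iv6 D122828) D122827
theorem F426576 : act 7 n202996 = n117538 := d13_2 (iv7 F184050) D202996 (iv5 D117538)
theorem F426577 : act 4 n202996 = n202043 := d16_2 (iv4 F184049) D202996 (iv5 D202043) (iv4 D115343) D115344 D202044 F422791 (iv7 F397466) (iv2 D195586)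
theorem F426578 : act 0 n202996 = n195484 := d17_2 (iv1 F349459) D202996 F397122 F359453 (iv5 D116552) (iv0 F320930) (iv5 F341179) F184313 D117702
theorem F426579 : act 1 n202996 = n202975 := d17_8 (iv1 F414634) F397120 (iv1 D115294) (iv5 F174125) (iv4 F349489) F349490 (iv0 F349447) D202996 F426459
def n202997 : Q := act 5 n117503
theorem D202997 : act 5 n117503 = n202997 := rfl
theorem F426580 : act 2 n202997 = n117592 := d2_1 D202997 (iv5 D117592) (iv2 F184071)
theorem F426581 : act 3 n202997 = n189127 := d6_1 D202997 F375841 F368340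
theorem F426582 : act 6 n202997 = n189125 := d12_2 D117503 D202997 (iv5 F375832) (iv6 F327697) (iv5 D117502)
theorem F426583 : act 4 n202997 = n197872 := d16_4 F225346 F319283 (iv4 F184072) D202997 (iv5 D197872) F326452 (iv5 F344505) F344489 (iv2 F344477)
def n202998 : Q := act 5 n117504
theorem D202998 : act 5 n117504 = n202998 := rfl
theorem F426584 : act 2 n202998 = n192121 := d2_1 D202998 F385652 F338495
theorem F426585 : act 3 n202998 = n117505 := d6_1 D202998 (iv5 D117505) D117504
theorem F426586 : act 6 n202998 = n138257 := d12_2 (iv6 F338494) D202998 F356074 (iv6 D122797) (iv5 F161805)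
theorem F426587 : act 7 n202998 = n117585 := d13_2 (iv7 F184073) D202998 (iv5 D117585)
theorem F426588 : act 1 n202998 = n193648 := d17_8 F346483 F277103 (iv1 F324546) (iv5 F349930) (iv4 D137378) D137379 (iv0 F338497) D202998 F390556
def n202999 : Q := act 5 n117507
theorem D202999 : act 5 n117507 = n202999 := rfl
theorem F426589 : act 1 n202999 = n164575 := d17_6 (iv1 D178693) F328010 D110587 F330805 F355560 D202999 (iv5 D164575) D164573 (iv4 F348478)
def n203000 : Q := act 6 n117507
theorem D203000 : act 6 n117507 = n203000 := rfl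
theorem F426590 : act 3 n203000 = n120309 := d7_1 D203000 (iv6 F191907) (iv3 F353584)
theorem F426591 : act 4 n203000 = n145782 := d10_1 D203000 F353676 F355560
theorem F426592 : act 7 n203000 = n120301 := d14_2 F353585 D203000 (iv6 D120301) (iv7 F87753) D120454
theorem F426593 : act 0 n203000 = n140053 := d21_4 D164575 (iv1 F426589) (iv5 D202999) D203000 (iv6 F368196) F368195 (iv1 D101382) D101383 (iv6 F383420) (iv1 D164573)
def n203001 : Q := act 5 n117508
theorem D203001 : act 5 n117508 = n203001 := rfl
theorem F426594 : act 3 n203001 = n153284 := d6_1 D203001 (iv5 D153284) (iv3 F353587)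
theorem F426595 : act 6 n203001 = n153280 := d12_2 (iv6 F353589) D203001 (iv5 D153280) (iv6 D72408) D72407
theorem F426596 : act 0 n203001 = n164575 := d17_2 (iv1 F184083) D203001 (iv5 D164575) F120260 D147139 (iv0 F343340) (iv5 D147369) F182020 F182018
def n203002 : Q := act 6 n117509
theorem D203002 : act 6 n117509 = n203002 := rfl
theorem F426597 : act 2 n203002 = n117511 := d3_1 D203002 (iv6 D117511) D117509
theorem F426598 : act 3 n203002 = n117613 := d7_1 D203002 (iv6 D117613) (iv3 F184080)
theorem F426599 : act 4 n203002 = n147372 := d10_1 D203002 (iv6 D147372) (iv4 F184081)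
def n203003 : Q := act 0 n117511
theorem D203003 : act 0 n117511 = n203003 := rfl
def n203004 : Q := act 5 n117511
theorem D203004 : act 5 n117511 = n203004 := rfl
theorem F426600 : act 3 n203004 = n117517 := d6_1 D203004 (iv5 D117517) (iv3 F184085)
theorem F426601 : act 0 n203004 = n123820 := d17_2 F369513 D203004 (iv5 D123820) (iv4 F198195) (iv5 F360259) F415293 F415291 (iv0 F415434) F415430
def n203005 : Q := act 7 n117511
theorem D203005 : act 7 n117511 = n203005 := rfl
theorem F426602 : act 3 n203005 = n117518 := d8_1 D203005 (iv7 D117518) (iv3 F184085)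
theorem F426603 : act 4 n203005 = n147380 := d11_1 D203005 (iv7 D147380) (iv4 F184086)
def n203006 : Q := act 4 n117516
theorem D203006 : act 4 n117516 = n203006 := rfl
theorem F426604 : act 2 n203006 = n117640 := d1_1 D203006 (iv4 D117640) (iv2 F233833)
theorem F426605 : act 3 n203006 = n127666 := d5_1 D203006 (iv4 F369491) (iv3 D187205) (iv4 F368428) F368427
theorem F426606 : act 7 n203006 = n117635 := d11_2 (iv7 F233834) D203006 (iv4 D117635)
theorem F426607 : act 5 n203006 = n150104 := d16_1 D203006 F236232 F187779 F360178 D202310 F423581 F391045 F233832 (iv2 F233833)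
theorem F426608 : act 0 n203006 = n127426 := d17_0 F204822 F184589 D60303 D128275 (iv5 F346073) (iv0 F346076) (iv5 D117517) D117516 D203006
theorem F426609 : act 1 n203006 = n127645 := d18_8 F187774 (iv4 D119293) (iv1 D54897) F42521 (iv5 F41602) (iv4 F85471) D117516 D203006 (iv5 F205207)
def n203007 : Q := act 7 n117517
theorem D203007 : act 7 n117517 = n203007 := rfl
theorem F426610 : act 2 n203007 = n117646 := d4_1 D203007 (iv7 D117646) (iv2 F184097)
theorem F426611 : act 4 n203007 = n119538 := d11_1 D203007 (iv7 F423414) F423415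
theorem F426612 : act 5 n203007 = n117518 := d13_1 D203007 (iv7 D117518) D117517
theorem F426613 : act 1 n117644 = n203007 := d15_1 D117644 (iv7 D203007) F184097
theorem F426614 : act 1 n203007 = n117643 := d15_1 F426613 F346078 F346079
def n203008 : Q := act 0 n117519
theorem D203008 : act 0 n117519 = n203008 := rfl
theorem F426615 : act 2 n117655 = n203008 := d15_3 (iv0 D203008) F227960 (iv7 F227958)
theorem F426616 : act 1 n117522 = n203008 := d15_0 (iv0 D203008) F184105 (iv2 F184114)
theorem F426617 : act 7 n203008 = n117534 := d15_2 (iv0 F227959) F426616 (iv2 F227956)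
theorem F426618 : act 3 n199277 = n203008 := d8_3 F426617 (iv3 F357154) F411443
theorem E103861 : n203003 = n199351 := (c20_5 (iv4 D117522) (iv1 D54150) (iv4 F85471) (iv3 F184085) D203003 F411815 F172518 F363289 (iv4 F411439) F426618 (iv1 F426616))
theorem F426619 : act 1 n199351 = n117511 := (sb E103861 (iv0 D203003))
def n203009 : Q := act 5 n117519
theorem D203009 : act 5 n117519 = n203009 := rfl
theorem F426620 : act 2 n203009 = n117658 := d2_1 D203009 (iv5 D117658) (iv2 F184104)
theorem F426621 : act 3 n203009 = n184981 := d6_1 D203009 (iv5 F369456) F369454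
theorem F426622 : act 7 n203009 = n117664 := d13_2 (iv7 F184105) D203009 (iv5 D117664)
theorem F426623 : act 6 n184979 = n203009 := d7_0 F426621 (iv6 D184981) D184979
def n203010 : Q := act 6 n117521
theorem D203010 : act 6 n117521 = n203010 := rfl
theorem F426624 : act 2 n203010 = n146598 := d3_1 D203010 (iv6 F250337) F250334
theorem F426625 : act 3 n203010 = n117523 := d7_1 D203010 (iv6 D117523) D117521
theorem F426626 : act 4 n203010 = n195568 := d10_1 D203010 F397384 (iv4 F184113)
theorem F426627 : act 5 n203010 = n133822 := d12_1 D203010 (iv6 D133822) (iv5 D62845) D62846 (iv5 F312301)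
theorem F426628 : act 7 n203010 = n146597 := d14_2 (iv7 F184112) D203010 (iv6 F229895) (iv7 F232545) F232544
theorem F426629 : act 0 n203010 = n139133 := d21_4 (iv5 F313525) (iv1 D133824) (iv5 F312301) D203010 (iv6 F397564) (iv5 D195605) (iv1 F232304) (iv5 F337028) (iv6 F340853) F340858
theorem F426630 : act 0 n146415 = n203010 := d21_4 D105754 D195575 F397409 F317209 (iv6 D203010) F312301 (iv1 F313520) (iv5 F233209) F340848 (iv1 F114841)
def n203011 : Q := act 3 n117522
theorem D203011 : act 3 n117522 = n203011 := rfl
theorem F426631 : act 4 n203011 = n195587 := d5_2 D117522 D203011 (iv3 D195587) (iv4 F184113) (iv3 D117521)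
theorem F426632 : act 6 n203011 = n183385 := d7_2 (iv6 F345996) D203011 (iv3 F356595)
theorem F426633 : act 7 n203011 = n117657 := d8_2 (iv7 F184115) D203011 (iv3 D117657)
def n203012 : Q := act 6 n117531
theorem D203012 : act 6 n117531 = n203012 := rfl
theorem F426634 : act 2 n203012 = n151607 := d3_1 D203012 (iv6 D151607) (iv2 F347771)
theorem F426635 : act 3 n203012 = n117532 := d7_1 D203012 (iv6 D117532) D117531
theorem F426636 : act 4 n203012 = n202877 := d10_1 D203012 (iv6 D202877) (iv4 F184132)
def n203013 : Q := act 5 n117532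
theorem D203013 : act 5 n117532 = n203013 := rfl
theorem F426637 : act 6 n203013 = n137473 := d12_2 D117532 D203013 (iv5 D137473) (iv6 D64619) (iv5 F328816)
def n203014 : Q := act 7 n117532
theorem D203014 : act 7 n117532 = n203014 := rfl
theorem F426638 : act 4 n203014 = n197491 := d11_1 D203014 F404545 (iv4 F184133)
theorem F426639 : act 6 n203014 = n117655 := d14_1 D203014 F227958 (iv6 D144992) F104083 D117532
theorem F426640 : act 1 n117675 = n203014 := d15_1 (iv0 F426538) (iv7 D203014) (iv2 F426536)
theorem F426641 : act 1 n203014 = n117670 := d15_1 F426640 (iv7 F352599) F352598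
def n203015 : Q := act 5 n117534
theorem D203015 : act 5 n117534 = n203015 := rfl
theorem F426642 : act 3 n203015 = n177930 := d6_1 D203015 (iv5 F363016) F357154
theorem F426643 : act 6 n203015 = n136541 := d12_2 D117534 D203015 (iv5 D136541) F100010 (iv5 F328815)
theorem F426644 : act 0 n203015 = n119578 := d17_2 (iv1 F204824) D203015 (iv5 D119578) (iv4 D55013) (iv5 D26596) (iv0 D12710) (iv5 F20697) D26215 D54201
theorem F426645 : act 0 n119605 = n203015 := d21_7 D54157 F328430 (iv5 F328431) D145932 F229156 (iv6 D119606) D119605 (iv5 D203015) (iv6 D117534) (iv1 D54155)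
def n203016 : Q := act 3 n117536
theorem D203016 : act 3 n117536 = n203016 := rfl
theorem F426646 : act 2 n203016 = n198713 := d0_1 D203016 (iv3 D198713) (iv2 F326380) (iv3 F349449) F349468
theorem F426647 : act 4 n203016 = n180611 := d5_2 (iv4 F349467) D203016 F281115 F314979 F184305
theorem F426648 : act 5 n203016 = n137889 := d6_2 F391545 D203016 (iv3 F391544)
theorem F426649 : act 7 n203016 = n180610 := d8_2 F349469 D203016 F355562
theorem F426650 : act 0 n203016 = n147363 := d20_4 F321908 (iv1 F184302) (iv4 F349467) D203016 (iv3 F419810) F419811 (iv1 F178069) D114273 (iv3 F349948) (iv1 F321906)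
theorem F426651 : act 0 n147368 = n203016 := d17_0 F426648 (iv1 F391209) F391205 F383404 F354848 F352285 (iv5 D69090) D69088 D147368
def n203017 : Q := act 6 n117536
theorem D203017 : act 6 n117536 = n203017 := rfl
def n203018 : Q := act 5 n117537
theorem D203018 : act 5 n117537 = n203018 := rfl
theorem F426652 : act 2 n203018 = n117538 := d2_1 D203018 (iv5 D117538) D117537
theorem F426653 : act 4 n203018 = n202033 := d9_1 D203018 (iv5 D202033) (iv4 D115338) D115339 F330607 (iv5 F321267) (iv4 F184049) D202996 F426577 (iv5 D202043) (iv4 D115343) D115344 D202044 F422791 (iv4 F349452)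
theorem F426654 : act 0 n203018 = n202975 := d17_2 (iv1 F349450) D203018 (iv5 D202975) (iv4 F359459) F181970 (iv0 F320928) (iv5 F318782) D54217 D117704
theorem F426655 : act 1 n203018 = n195484 := d17_6 F423671 (iv5 D202334) F422792 F422791 (iv4 F349452) D203018 F397122 (iv0 D117437) (iv4 F183896)
theorem F426656 : act 1 n195550 = n202033 := d17_8 F426654 (iv5 D202975) (iv1 D117438) D117440 (iv4 F396957) F396958 (iv0 F396943) D195550 (iv4 F426653)
def n203019 : Q := act 4 n117538
theorem D203019 : act 4 n117538 = n203019 := rfl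
theorem F426657 : act 2 n203019 = n202033 := d1_1 D203019 (iv4 F426653) F426652
theorem F426658 : act 3 n203019 = n137804 := d5_1 D203019 F347234 (iv3 F328270) F177152 (iv3 F184136)
theorem F426659 : act 7 n203019 = n202043 := d11_2 F426576 D203019 (iv4 F426577)
theorem F426660 : act 5 n203019 = n195357 := d16_3 F184119 D117538 D203019 F396816 (iv5 F360639) F360638 (iv5 F397464) F397466 F349453
theorem F426661 : act 0 n203019 = n197266 := d17_0 F403788 (iv1 F397315) D202200 F423219 F386245 F353341 (iv5 F414620) (iv0 F414623) D203019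
theorem F426662 : act 1 n203019 = n202341 := d18_8 F180000 (iv4 D115456) (iv1 D53259) (iv4 F84096) (iv5 F174596) (iv4 F414619) (iv0 F414623) D203019 (iv5 D202341)
def n203020 : Q := act 3 n117541
theorem D203020 : act 3 n117541 = n203020 := rfl
theorem F426663 : act 4 n203020 = n202291 := d5_2 (iv4 F328034) D203020 F423505 F330536 (iv3 F99509)
theorem F426664 : act 5 n203020 = n156487 := d6_2 (iv5 F184144) D203020 F341449
theorem F426665 : act 6 n203020 = n136023 := d7_2 (iv6 F328035) D203020 (iv3 D136023)
theorem F426666 : act 7 n203020 = n136358 := d8_2 (iv7 F328036) D203020 F219452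
theorem F426667 : act 0 n203020 = n143434 := d20_4 F327694 F99512 (iv4 F328034) D203020 F226192 (iv4 F221273) (iv1 F333088) (iv4 F333086) F222938 (iv1 F184077)
theorem F426668 : act 0 n123248 = n203020 := d20_4 (iv4 D176871) (iv1 F325900) D198522 (iv3 F408216) (iv3 D203020) F328034 (iv1 F99514) (iv4 F327696) (iv3 F359478) (iv1 F352822)
def n203021 : Q := act 3 n117543
theorem D203021 : act 3 n117543 = n203021 := rfl
theorem F426669 : act 2 n203021 = n118747 := d0_1 D203021 F347726 F355554 (iv3 F426554) (iv2 F426556)
theorem F426670 : act 4 n203021 = n119205 := d5_2 F348010 D203021 (iv3 D119205) (iv4 F319720) (iv3 F348009)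
theorem F426671 : act 7 n203021 = n118746 := d8_2 F264373 D203021 (iv3 F347733)
theorem F426672 : act 0 n203021 = n118701 := d19_4 F408691 F408690 F348010 D203021 F307802 (iv4 F239073) (iv3 F386973) (iv1 F413386) F413383 (iv4 F419811) F419810 F391516 (iv5 D193957) D193956 F391522 (iv1 D111024) D111025 F331029 (iv3 F223939)
theorem F426673 : act 0 n118749 = n203021 := d20_4 F184316 F355664 (iv4 F396204) F396203 (iv3 D203021) (iv4 F348010) (iv1 F348018) (iv4 F337285) F337284 F348019
def n203022 : Q := act 5 n117543
theorem D203022 : act 5 n117543 = n203022 := rfl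
theorem F426674 : act 2 n203022 = n183039 := d2_1 D203022 (iv5 F426552) (iv2 F426556)
theorem F426675 : act 6 n203022 = n183006 := d12_2 F369425 D203022 (iv5 F294918) F294919 F369424
theorem F426676 : act 4 n203022 = n198120 := d16_4 D198645 F408690 F348010 D203022 F406917 F223541 (iv5 F347159) (iv7 F408684) (iv2 D198644)
def n203023 : Q := act 6 n117544
theorem D203023 : act 6 n117544 = n203023 := rfl
def n203024 : Q := act 0 n117545
theorem D203024 : act 0 n117545 = n203024 := rfl
theorem F426677 : act 2 n135157 = n203024 := d15_3 (iv0 D203024) F363099 D135157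
theorem F426678 : act 3 n203024 = n152056 := d0_2 (iv3 F217358) F426677 F413388 (iv3 F351272) F216932
theorem F426679 : act 7 n203024 = n135140 := d4_2 D135157 F426677 F217351
theorem F426680 : act 1 n135156 = n203024 := d15_1 D135156 F426679 F217351
def n203025 : Q := act 4 n117545
theorem D203025 : act 4 n117545 = n203025 := rfl
theorem F426681 : act 2 n203025 = n197807 := d1_1 D203025 (iv4 F426562) F426559
theorem F426682 : act 5 n203025 = n199917 := d16_1 D203025 (iv4 D199917) F347156 (iv4 D66836) D66837 (iv4 F348004) (iv5 F337788) (iv7 F426561) F426559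
theorem F426683 : act 0 n198205 = n203025 := d20_7 (iv4 F231958) (iv1 D148135) (iv4 D69401) (iv3 F101446) D140056 (iv3 F366165) (iv4 F407225) (iv4 D203025) (iv3 F361669) F230138
def n203026 : Q := act 7 n117545
theorem D203026 : act 7 n117545 = n203026 := rfl
theorem F426684 : act 2 n203026 = n135156 := d4_1 D203026 (iv7 F426561) F426559
theorem F426685 : act 3 n203026 = n146902 := d8_1 D203026 (iv7 F230286) F361669
theorem F426686 : act 5 n203026 = n117546 := d13_1 D203026 (iv7 D117546) D117545
theorem F426687 : act 6 n203026 = n125121 := d14_1 D203026 (iv7 F236105) (iv6 F337822) (iv7 F408414) F408413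
theorem F426688 : act 1 n135140 = n203026 := d15_1 F426563 (iv7 D203026) (iv2 F426559)
theorem F426689 : act 1 n203026 = n135157 := d15_1 F426688 (iv7 D135157) (iv2 F217351)
def n203027 : Q := act 3 n117548
theorem D203027 : act 3 n117548 = n203027 := rfl
theorem F426690 : act 2 n203027 = n140053 := d0_1 D203027 (iv3 D140053) (iv2 F181671) F322082 (iv2 F184151)
theorem F426691 : act 4 n203027 = n147486 := d5_2 D117548 D203027 (iv3 D147486) (iv4 D69128) (iv3 F242919)
theorem F426692 : act 6 n203027 = n175272 := d7_2 F346004 D203027 F357758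
theorem F426693 : act 0 n203027 = n120301 := d20_4 F85488 D54159 D117548 D203027 F191560 F87628 D76828 (iv4 F350731) (iv3 F348017) (iv1 D117544)
def n203028 : Q := act 5 n117550
theorem D203028 : act 5 n117550 = n203028 := rfl
theorem F426694 : act 3 n203028 = n140051 := d6_1 D203028 (iv5 D140051) (iv3 F348006)
theorem F426695 : act 7 n203028 = n148051 := d13_2 (iv7 F184153) D203028 (iv5 D148051)
theorem F426696 : act 0 n188326 = n203028 := d20_4 (iv4 F294986) D186655 F378246 D188326 F426694 (iv4 F387213) (iv1 D192603) F384434 (iv3 F384433) (iv1 D99033)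
def n203029 : Q := act 6 n117550
theorem D203029 : act 6 n117550 = n203029 := rfl
theorem F426697 : act 3 n203029 = n140052 := d7_1 D203029 (iv6 D140052) (iv3 F348006)
theorem F426698 : act 4 n203029 = n117552 := d10_1 D203029 (iv6 D117552) D117550
def n203030 : Q := act 6 n117558
theorem D203030 : act 6 n117558 = n203030 := rfl
theorem F426699 : act 3 n203030 = n143397 := d7_1 D203030 (iv6 D143397) F204403
theorem F426700 : act 0 n153987 = n203030 := d21_4 (iv5 F339682) (iv1 F349812) (iv5 D153986) D153987 (iv6 D203030) F350790 (iv1 D64731) (iv5 F328818) D117465 F339702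
def n203031 : Q := act 0 n117560
theorem D203031 : act 0 n117560 = n203031 := rfl
theorem F426701 : act 5 n203031 = n194738 := d17_3 (iv1 D117558) D117560 D203031 F394305 F242695 (iv0 F355530) (iv5 D157575) D157574 F350726
theorem F426702 : act 2 n202983 = n203031 := d2_3 F426701 (iv2 F394312) D202983
theorem F426703 : act 7 n202981 = n203031 := d13_0 F426701 (iv7 F394314) D202981
def n203032 : Q := act 1 n117560
theorem D203032 : act 1 n117560 = n203032 := rfl
theorem F426704 : act 7 n203032 = n202983 := d15_2 (iv0 D203031) D203032 F426702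
theorem F426705 : act 5 n203032 = n194739 := d17_7 F316676 (iv5 F355127) (iv1 F230100) (iv5 F112657) F112656 D117560 D203032 F394307 (iv4 F316680)
theorem F426706 : act 2 n202981 = n203032 := d2_3 F426705 F394313 D202981
theorem F426707 : act 3 n143403 = n203032 := d6_3 F426705 (iv3 F394309) (iv5 F226174)
def n203033 : Q := act 4 n117560
theorem D203033 : act 4 n117560 = n203033 := rfl
theorem F426708 : act 2 n203033 = n193214 := d1_1 D203033 F389194 (iv2 F314960)
theorem F426709 : act 3 n203033 = n134204 := d5_1 D203033 (iv4 F216963) (iv3 F328477) F177151 (iv3 F184172)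
theorem F426710 : act 6 n203033 = n193142 := d10_2 (iv6 F314961) D203033 F388897
theorem F426711 : act 7 n203033 = n196760 := d11_2 F426541 D203033 (iv4 F426543)
theorem F426712 : act 5 n203033 = n145381 := d16_3 F112656 D117560 D203033 F348827 (iv5 F355129) F229937 F319427 F317174 F312502
theorem F426713 : act 0 n203033 = n196758 := d17_0 (iv5 D196758) (iv1 F321265) (iv5 F350042) F220843 (iv5 F329159) F394306 (iv5 F426701) (iv0 D203031) D203033
theorem F426714 : act 1 n203033 = n196761 := d15_1 (iv0 F426713) (iv7 D196761) (iv2 F401708)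
def n203034 : Q := act 5 n117583
theorem D203034 : act 5 n117583 = n203034 := rfl
theorem F426715 : act 2 n203034 = n117585 := d2_1 D203034 (iv5 D117585) D117583
theorem F426716 : act 3 n203034 = n192125 := d6_1 D203034 F385666 F368308
theorem F426717 : act 7 n203034 = n192121 := d13_2 (iv7 F349951) D203034 F385652
theorem F426718 : act 4 n203034 = n202398 := d16_2 F374145 D203034 F423862 F415405 (iv5 F409600) F375015 (iv5 F161809) F314508 F374147
theorem F426719 : act 0 n203034 = n193648 := d17_2 (iv1 F338501) D203034 (iv5 F419489) F419488 D201221 (iv0 F419503) F178124 F178063 (iv4 F338498)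
theorem F426720 : act 6 n203034 = n193508 := d21_3 D137379 (iv1 F338501) D203034 (iv1 F390124) (iv6 D136001) F106602 (iv1 D64573) (iv5 D30391) D30392 D64576
theorem F426721 : act 0 n186774 = n189158 := d21_1 (iv5 F367962) (iv5 F390123) (iv6 F426720) F426719 (iv6 D193648) F354517 (iv1 D136479) (iv5 D64158) D64159 D136482
def n203035 : Q := act 4 n117585
theorem D203035 : act 4 n117585 = n203035 := rfl
theorem F426722 : act 2 n203035 = n202398 := d1_1 D203035 (iv4 F426718) F426715
theorem F426723 : act 3 n203035 = n129495 := d5_1 D203035 (iv4 F214326) (iv3 F214324) (iv4 F327476) (iv3 F184184)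
theorem F426724 : act 6 n203035 = n144349 := d10_2 F360695 D203035 F227085
theorem F426725 : act 5 n203035 = n199506 := d16_1 D203035 (iv4 D199506) D199507 F412454 (iv5 F235979) F235978 (iv5 F385652) (iv7 F426717) F426715
theorem F426726 : act 1 n203035 = n193464 := d18_8 F352289 F330496 (iv1 F215896) F215894 (iv5 F346469) F346468 (iv0 F349957) D203035 F389938
def n203036 : Q := act 5 n117586
theorem D203036 : act 5 n117586 = n203036 := rfl
theorem F426727 : act 3 n203036 = n117592 := d6_1 D203036 (iv5 D117592) (iv3 F184185)
theorem F426728 : act 0 n203036 = n148131 := d17_2 F396209 D203036 F231944 F183480 (iv5 F322607) D186170 (iv5 F343305) F343300 D195197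
theorem F426729 : act 1 n203036 = n197627 := d17_6 (iv1 F377172) F158029 (iv1 F151166) D191323 F383045 D203036 F405092 F426176 F426173
def n203037 : Q := act 0 n117592
theorem D203037 : act 0 n117592 = n203037 := rfl
def n203038 : Q := act 4 n117592
theorem D203038 : act 4 n117592 = n203038 := rfl
theorem F426730 : act 2 n203038 = n197872 := d1_1 D203038 (iv4 F426583) F426580
theorem F426731 : act 5 n203038 = n140397 := d16_3 F184187 D117592 D203038 (iv4 F362619) (iv5 D142502) D142501 F319222 (iv7 F317482) (iv2 F184186)
theorem F426732 : act 1 n203038 = n197927 := d18_6 F228024 (iv4 D145074) (iv1 F251051) F184187 D117592 D203038 F406212 F426688 F426686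
theorem F426733 : act 0 n203038 = n140388 := d20_7 (iv4 F404987) (iv1 D197603) (iv4 F167781) (iv3 F405090) (iv1 F426729) F426727 D203038 (iv4 F356120) F217358 (iv1 F341414)
theorem F426734 : act 7 n203038 = n197874 := d15_2 (iv0 F405380) (iv0 F426733) F406075
def n203039 : Q := act 7 n117592
theorem D203039 : act 7 n117592 = n203039 := rfl
theorem F426735 : act 4 n203039 = n197874 := d11_1 D203039 (iv7 F426734) (iv4 D203038)
theorem F426736 : act 5 n203039 = n117593 := d13_1 D203039 (iv7 D117593) D117592
theorem F426737 : act 6 n203039 = n150237 := d14_1 D203039 (iv7 F404584) (iv6 F408380) F408381 (iv6 F365687)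
def n203040 : Q := act 2 n117605
theorem D203040 : act 2 n117605 = n203040 := rfl
theorem F426738 : act 3 n203040 = n117688 := d0_2 D117605 D203040 F184297 F320918 (iv2 F177249)
theorem F426739 : act 4 n203040 = n144994 := d1_2 F343311 D203040 F324894
theorem F426740 : act 6 n203040 = n117686 := d3_2 F424606 D203040 (iv2 F424604)
theorem F426741 : act 7 n203040 = n143457 := d4_2 (iv7 F184200) D203040 (iv2 D143457)
theorem F426742 : act 1 n203040 = n143455 := d15_0 (iv0 D143455) (iv7 F184200) D203040
theorem F426743 : act 1 n143456 = n203040 := d15_0 F426742 F335430 (iv2 F335446)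
theorem F426744 : act 5 n148014 = n203040 := d17_5 (iv1 F320285) (iv5 D32224) D32222 D69329 D148014 F426742 F335427 (iv0 D142996) F103008
def n203041 : Q := act 5 n117605
theorem D203041 : act 5 n117605 = n203041 := rfl
theorem F426745 : act 2 n203041 = n148014 := d2_1 D203041 F426744 (iv2 D203040)
theorem F426746 : act 3 n203041 = n117607 := d6_1 D203041 (iv5 D117607) D117605
theorem F426747 : act 7 n203041 = n143459 := d13_2 (iv7 F184200) D203041 (iv5 D143459)
theorem F426748 : act 4 n203041 = n133573 := d16_2 F343311 D203041 F314623 (iv4 F319484) D145005 F341185 (iv5 D159900) (iv7 F324897) F324894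
theorem F426749 : act 0 n203041 = n193525 := d17_2 (iv1 F341184) D203041 F390165 (iv4 F368738) (iv5 D151663) F238188 F238186 F107889 D71465
theorem F426750 : act 6 n203041 = n198600 := d21_3 (iv5 F334861) (iv1 F341184) D203041 F408470 (iv6 D137143) F180639 (iv1 D67057) (iv5 D31221) D31222 D67061
def n203042 : Q := act 4 n117607
theorem D203042 : act 4 n117607 = n203042 := rfl
theorem F426751 : act 2 n203042 = n137995 := d1_1 D203042 F221263 (iv2 F184205)
theorem F426752 : act 7 n203042 = n138003 := d11_2 (iv7 F184206) D203042 F221267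
theorem F426753 : act 5 n203042 = n137976 := d16_1 D203042 (iv4 D137976) F169671 (iv4 F169572) F320873 (iv4 F320235) D117610 F184210 (iv2 F184205)
def n203043 : Q := act 6 n117607
theorem D203043 : act 6 n117607 = n203043 := rfl
theorem F426754 : act 2 n203043 = n143475 := d3_1 D203043 (iv6 D143475) (iv2 F184205)
theorem F426755 : act 3 n203043 = n198600 := d7_1 D203043 (iv6 F426750) F426746
def n203044 : Q := act 5 n117609
theorem D203044 : act 5 n117609 = n203044 := rfl
theorem F426756 : act 3 n203044 = n117610 := d6_1 D203044 (iv5 D117610) D117609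
theorem F426757 : act 7 n203044 = n117700 := d13_2 (iv7 F321910) D203044 (iv5 D117700)
theorem F426758 : act 4 n203044 = n200013 := d16_2 (iv4 F321908) D203044 F414625 (iv4 F423684) (iv5 D202338) F336238 (iv5 F320932) D117691 F184309
def n203045 : Q := act 4 n117610
theorem D203045 : act 4 n117610 = n203045 := rfl
theorem F426759 : act 2 n203045 = n138003 := d1_1 D203045 F221267 (iv2 F184209)
theorem F426760 : act 5 n203045 = n137979 := d9_2 D117610 D203045 (iv4 D137979) F169575 (iv4 F169571) (iv5 F320916) F320915 D117607 D203042 F426753 (iv4 D137976) F169671 (iv4 F169572) F320873 (iv4 F320235)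
theorem F426761 : act 7 n203045 = n137995 := d11_2 (iv7 F184210) D203045 F221263
theorem F426762 : act 6 n192924 = n203045 := d12_0 F426760 (iv6 F408488) (iv5 D198603) D198604 (iv5 F408493)
def n203046 : Q := act 6 n117610
theorem D203046 : act 6 n117610 = n203046 := rfl
theorem F426763 : act 2 n203046 = n143463 := d3_1 D203046 (iv6 D143463) (iv2 F184209)
theorem F426764 : act 4 n203046 = n192924 := d10_1 D203046 F426762 (iv4 D203045)
theorem F426765 : act 5 n203046 = n149470 := d12_1 D203046 (iv6 D149470) (iv5 D70194) F321912 D117610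
theorem F426766 : act 0 n203046 = n154066 := d21_4 (iv5 D67152) (iv1 F85510) D117610 D203046 F242115 (iv5 D100996) (iv1 F290146) (iv5 F365516) F365517 (iv1 F184219)
def n203047 : Q := act 6 n117612
theorem D203047 : act 6 n117612 = n203047 := rfl
theorem F426767 : act 2 n203047 = n117617 := d3_1 D203047 (iv6 D117617) (iv2 F184212)
theorem F426768 : act 4 n203047 = n138026 := d10_1 D203047 (iv6 D138026) (iv4 F184214)
theorem F426769 : act 0 n118870 = n203047 := d18_2 (iv1 F154221) (iv4 F352998) F426768 F356323 F157785 (iv0 F157746) F150973 (iv0 F157750) D87930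
theorem F426770 : act 0 n203047 = n192487 := d20_1 (iv4 F426768) (iv4 D192487) F359359 (iv1 F365256) F155002 D100866 (iv1 F387969) F387967 F387970 (iv1 F386315)
def n203048 : Q := act 0 n117613
theorem D203048 : act 0 n117613 = n203048 := rfl
theorem F426771 : act 4 n203048 = n150387 := d18_3 (iv1 F315970) (iv4 F184218) D203048 (iv5 D150387) (iv4 F185683) F302003 D122680 F337189 F305883
theorem F426772 : act 6 n203048 = n202893 := d21_5 F221142 (iv1 F184216) (iv5 D117612) D117613 D203048 F426076 F316923 D138653 F330628 (iv1 F221144)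
theorem F426773 : act 2 n117618 = n203048 := d3_3 F426772 F426074 (iv6 F348305)
theorem F426774 : act 7 n117619 = n203048 := d14_0 F426772 F426077 F340089 F233387 F360538
theorem F426775 : act 1 n117621 = n203048 := d18_6 (iv1 D133777) (iv4 F215399) F215400 (iv4 D133627) (iv5 F313304) (iv4 F184227) F426771 (iv0 F424666) F424664
def n203049 : Q := act 1 n117613
theorem D203049 : act 1 n117613 = n203049 := rfl
theorem F426776 : act 1 n203049 = n117621 := d15_1 D203049 (iv7 D117621) (iv2 F184217)
theorem F426777 : act 7 n203049 = n117618 := d15_2 (iv0 D203048) D203049 F426773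
theorem F426778 : act 4 n122602 = n203049 := d20_0 (iv1 D203049) F184218 F85601 D69500 (iv3 F326244) (iv4 F370396) (iv1 D187452) (iv4 F317793) F317792 (iv1 F361504)
theorem F426779 : act 2 n203049 = n117619 := d1_1 F426778 F360539 F314085
theorem F426780 : act 5 n203049 = n185271 := d18_4 (iv1 F370406) F370403 (iv1 F361504) F426778 (iv4 D185271) (iv0 D88277) (iv4 F74673) D102364 F366939
theorem E103862 : n185277 = n122690 := ((c16_7 D185271 (iv5 F426780) (iv4 F426778) (iv5 D122602) F89983 D56987 D122690 (iv5 D185277) F287552 (iv2 D185269))).symm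
theorem F426781 : act 5 n122690 = n88278 := (sb E103862 (iv5 D185277))
theorem F426782 : act 5 n185276 = n203048 := d16_5 F89983 D56987 D122690 F426781 D185276 F426771 (iv5 D150387) F301158 F107866
def n203050 : Q := act 5 n117613
theorem D203050 : act 5 n117613 = n203050 := rfl
theorem F426783 : act 2 n203050 = n117620 := d2_1 D203050 (iv5 D117620) (iv2 F184217)
theorem F426784 : act 0 n203050 = n160100 := d17_2 (iv1 D203049) D203050 (iv5 D160100) F115016 (iv5 F98044) D133777 (iv5 F424664) (iv0 F424667) F426778
def n203051 : Q := act 7 n117613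
theorem D203051 : act 7 n117613 = n203051 := rfl
theorem F426785 : act 2 n203051 = n117621 := d4_1 D203051 (iv7 D117621) (iv2 F184217)
theorem F426786 : act 4 n203051 = n117803 := d11_1 D203051 (iv7 D117803) (iv4 F184218)
theorem F426787 : act 6 n203051 = n143382 := d14_1 D203051 (iv7 D143382) (iv6 D67153) (iv7 F85508) D117613
theorem F426788 : act 1 n117619 = n203051 := d15_1 D117619 (iv7 D203051) F184217
theorem F426789 : act 1 n203051 = n117618 := d15_1 F426788 (iv7 F426777) F426779
def n203052 : Q := act 4 n117614
theorem D203052 : act 4 n117614 = n203052 := rfl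
theorem F426790 : act 2 n203052 = n137912 := d1_1 D203052 (iv4 F221172) (iv2 F221148)
theorem F426791 : act 3 n203052 = n141517 := d5_1 D203052 F224799 (iv3 D141766) D141767 F341554
theorem F426792 : act 6 n203052 = n194015 := d10_2 F365517 D203052 F391776
theorem F426793 : act 7 n203052 = n137956 := d11_2 (iv7 F221146) D203052 F221224
theorem F426794 : act 5 n203052 = n137874 := d16_1 D203052 (iv4 D137874) (iv5 D64802) F102776 D59695 D127145 F204406 (iv7 F221147) (iv2 F221148)
theorem F426795 : act 0 n203052 = n192494 := d17_0 F386812 F225925 (iv5 F426760) (iv4 D203045) (iv5 D117610) F85510 D67152 F184219 D203052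
theorem F426796 : act 1 n203052 = n189168 := d18_6 D67076 F103087 (iv1 F221154) (iv4 F222934) F222933 D203052 (iv4 F375925) (iv0 D143141) (iv5 D67079)
def n203053 : Q := act 4 n117615
theorem D203053 : act 4 n117615 = n203053 := rfl
theorem F426797 : act 2 n203053 = n137956 := d1_1 D203053 F221224 F221145
theorem F426798 : act 5 n203053 = n137914 := d9_2 F204406 D203053 F221175 F100664 (iv4 F100660) (iv5 F221152) (iv4 F222934) F222933 D203052 F426794 (iv4 D137874) (iv5 D64802) F102776 D59695 D127145
theorem F426799 : act 6 n203053 = n134000 := d10_2 F359465 D203053 F218877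
theorem F426800 : act 7 n203053 = n137912 := d11_2 F221147 D203053 (iv4 F221172)
theorem F426801 : act 0 n203053 = n189168 := d17_0 F375924 F225930 (iv5 F426753) (iv4 D203042) (iv5 D117607) (iv0 D54179) D54182 D117615 D203053
theorem F426802 : act 1 n203053 = n192494 := d18_6 (iv1 F103047) (iv4 F204436) (iv1 D127144) D127145 F204406 D203053 F386811 F357292 (iv5 D67131)
theorem F426803 : act 3 n134003 = n203053 := d20_5 F101808 (iv1 F49380) D30968 D66289 (iv1 F424312) (iv4 D203053) (iv1 D117615) (iv4 F328846) (iv3 D66250) (iv1 F101812)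
def n203054 : Q := act 1 n117617
theorem D203054 : act 1 n117617 = n203054 := rfl
theorem F426804 : act 7 n203054 = n192487 := d15_2 (iv0 F365490) D203054 F386792
theorem F426805 : act 4 n203054 = n189166 := d18_7 F157767 (iv4 F73522) D99519 F157785 (iv5 F357366) (iv4 F365489) D203054 F375916 (iv5 D99328)
theorem F426806 : act 2 n118870 = n203054 := d1_3 F426805 F375919 (iv4 F352998)
def n203055 : Q := act 3 n117618
theorem D203055 : act 3 n117618 = n203055 := rfl
theorem F426807 : act 4 n203055 = n159919 := d5_2 (iv4 F348306) D203055 F360944 (iv4 D81560) (iv3 F125421)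
theorem F426808 : act 6 n203055 = n151577 := d7_2 (iv6 F348305) D203055 F360925
theorem F426809 : act 0 n151629 = n203055 := d18_2 (iv1 D151637) (iv4 F238497) F426807 F360945 F233350 (iv0 F278370) F354924 (iv0 F420258) F420253
def n203056 : Q := act 5 n117618
theorem D203056 : act 5 n117618 = n203056 := rfl
theorem F426810 : act 2 n203056 = n185276 := d2_1 D203056 F426782 (iv2 F426773)
theorem F426811 : act 7 n203056 = n185271 := d13_2 F426777 D203056 (iv5 F426780)
theorem F426812 : act 4 n203056 = n185280 := d18_5 (iv1 F356850) F226158 F332439 (iv4 F348306) D203056 F287555 (iv4 F157104) D193758 (iv5 F390918)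
theorem E103863 : n185280 = n185274 := (c1_1 F426812 F287553 D185276 (iv2 F426810))
theorem F426813 : act 0 n185274 = n88279 := (sb E103863 (iv1 D185280))
theorem F426814 : act 1 n185274 = n88281 := (sb E103863 F287555)
theorem F426815 : act 4 n185274 = n203056 := (sb E103863 (iv4 F426812))
theorem E103864 : n185279 = n185269 := (c15_2 F426814 F287554 (iv7 F287552) (iv2 F287553))
theorem F426816 : act 0 n185269 = n88281 := (sb E103864 (iv1 F287554))
theorem F426817 : act 1 n185269 = n88279 := (sb E103864 (iv0 D185279))
def n203057 : Q := act 3 n117619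
theorem D203057 : act 3 n117619 = n203057 := rfl
theorem F426818 : act 4 n203057 = n117898 := d5_2 (iv4 F360539) D203057 F184894 (iv4 F166598) (iv3 F204533)
theorem F426819 : act 6 n203057 = n117896 := d7_2 F360538 D203057 (iv3 F204531)
theorem F426820 : act 0 n188576 = n203057 := d20_4 F369075 (iv1 F139803) D92496 D188576 (iv3 D203057) F360539 F350252 (iv4 F226158) F361674 (iv1 F369077)
theorem F426821 : act 5 n203057 = n192257 := d17_1 F426820 (iv1 F386234) (iv5 D146929) (iv4 F227868) F227869 F344907 (iv5 F397470) F397472 (iv4 F374046)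
theorem F426822 : act 4 n192257 = n202214 := d16_6 F422713 F415336 (iv4 D133322) F184895 (iv4 F426818) F426821 (iv5 D202214) D202215 F423269
def n203058 : Q := act 5 n117619
theorem D203058 : act 5 n117619 = n203058 := rfl
theorem F426823 : act 2 n203058 = n185271 := d2_1 D203058 (iv5 F426780) F426779
theorem F426824 : act 3 n203058 = n192257 := d6_1 D203058 (iv5 F426821) (iv3 D203057)
theorem F426825 : act 7 n203058 = n185276 := d13_2 (iv7 F426774) D203058 F426782
theorem F426826 : act 4 n185269 = n203058 := d11_3 F426825 (iv4 D185276) F287552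
def n203059 : Q := act 0 n117620
theorem D203059 : act 0 n117620 = n203059 := rfl
theorem F426827 : act 5 n203059 = n160041 := d17_3 (iv1 D117619) D117620 D203059 F252526 (iv5 F313750) F313748 (iv5 F321789) (iv0 F350252) (iv4 F360539)
theorem F426828 : act 2 n160100 = n203059 := d2_3 F426827 F252524 D160100
theorem F426829 : act 6 n191307 = n203059 := d12_0 F426827 (iv6 D160041) F114937 D154238 F382980
theorem F426830 : act 4 n203059 = n191308 := d10_1 F426829 (iv6 D191308) D191307
def n203060 : Q := act 1 n117620
theorem D203060 : act 1 n117620 = n203060 := rfl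
theorem F426831 : act 7 n203060 = n160100 := d15_2 (iv0 D203059) D203060 F426828
theorem F426832 : act 5 n203060 = n155508 := d17_7 F337190 (iv5 F316799) (iv1 D117815) (iv5 D54266) (iv4 F85515) D117620 D203060 (iv0 F425082) F425079
theorem F426833 : act 3 n155512 = n203060 := d6_3 F426832 F244526 D155512
def n203061 : Q := act 4 n117620
theorem D203061 : act 4 n117620 = n203061 := rfl
def n203062 : Q := act 7 n117620
theorem D203062 : act 7 n117620 = n203062 := rfl
theorem F426834 : act 3 n203062 = n117646 := d8_1 D203062 (iv7 D117646) (iv3 F184225)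
theorem F426835 : act 5 n203062 = n117621 := d13_1 D203062 (iv7 D117621) D117620
theorem F426836 : act 0 n160100 = n203062 := d17_2 F252668 D160100 F426835 F184227 F313304 (iv0 F232793) F107929 D76667 D160093
def n203063 : Q := act 0 n117635
theorem D203063 : act 0 n117635 = n203063 := rfl
theorem F426837 : act 5 n203063 = n119499 := d19_1 D203063 F188290 (iv3 F187792) F184759 D84212 (iv4 F328704) (iv3 D47436) D47434 F74630 (iv4 D46007) (iv3 F72579) D98314 F363720 F339758 (iv3 F339761) (iv1 D102742) D102744 F314438 F236551
theorem F426838 : act 4 n203063 = n203008 := d20_2 D117635 D203063 (iv3 F426618) (iv1 F411440) F356846 (iv4 D117811) (iv1 D54265) (iv4 F85515) F85514 D54189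
theorem F426839 : act 3 n203063 = n184777 := d20_5 (iv4 F104832) F316757 F314438 F236551 D203063 F355578 (iv1 F184788) (iv4 D69602) (iv3 F85672) F232234
theorem F426840 : act 2 n127645 = n203063 := d15_3 (iv0 D203063) (iv0 F184631) (iv7 F205209)
theorem F426841 : act 1 n117640 = n203063 := d15_0 (iv0 D203063) (iv7 F426606) F426604
theorem F426842 : act 7 n203063 = n127426 := d15_2 (iv0 F233836) F426841 F204820
def n203064 : Q := act 5 n117635
theorem D203064 : act 5 n117635 = n203064 := rfl
theorem F426843 : act 2 n203064 = n127647 := d2_1 D203064 (iv5 D127647) (iv2 F233835)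
theorem F426844 : act 3 n203064 = n160011 := d6_1 D203064 (iv5 F308950) F236551
theorem F426845 : act 4 n203064 = n119528 := d9_1 D203064 (iv5 D119528) (iv4 F350934) D115604 (iv4 F360180) F346065 D117640 (iv5 F233873) F233872 (iv5 D119533) (iv4 F336273) D115597 F352986 F352985 D117635
theorem F426846 : act 6 n203064 = n160009 := d12_2 (iv6 F236543) D203064 F303697 F238782 D150305
theorem F426847 : act 7 n203064 = n150104 := d13_2 F426606 D203064 (iv5 F426607)
theorem F426848 : act 1 n203064 = n118232 := d17_6 F206398 D155375 F352987 F352985 D117635 D203064 (iv5 F206395) (iv0 D128273) D128275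
def n203065 : Q := act 4 n117643
theorem D203065 : act 4 n117643 = n203065 := rfl
theorem F426849 : act 3 n203065 = n191292 := d5_1 D203065 (iv4 D191292) F151004 (iv4 F292338) F346070
theorem F426850 : act 7 n203065 = n193781 := d11_2 (iv7 F346078) D203065 F391001
theorem F426851 : act 5 n203065 = n119519 := d16_3 F318171 (iv5 F346069) D203065 (iv4 D119519) (iv5 D54986) D54985 D119517 F188498 (iv2 F188301)
theorem F426852 : act 0 n203065 = n202319 := d17_0 (iv5 D202319) F360169 D115604 (iv4 F360180) F346065 F184101 (iv5 F426612) F426614 D203065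
theorem F426853 : act 1 n203065 = n202321 := d18_8 (iv1 D115596) F336273 (iv1 D54989) D54990 D119538 (iv4 F426611) F426614 D203065 (iv5 D202321)
def n203066 : Q := act 3 n117644
theorem D203066 : act 3 n117644 = n203066 := rfl
theorem F426854 : act 2 n203066 = n188243 := d0_1 D203066 (iv3 D188243) F292343 D102328 F346079
theorem F426855 : act 7 n203066 = n175507 := d8_2 (iv7 F346074) D203066 F346075
theorem F426856 : act 5 n186869 = n203066 := d13_3 F426855 F274765 D186869
theorem F426857 : act 6 n193071 = n203066 := d14_5 F426855 (iv6 D175507) (iv7 F274801) D101925 (iv7 F388659)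
theorem F426858 : act 1 n193557 = n203066 := d15_1 D193557 F426855 (iv2 F274831)
theorem F426859 : act 1 n203066 = n193556 := d15_1 F426858 (iv7 F390266) F390270
def n203067 : Q := act 4 n117644
theorem D203067 : act 4 n117644 = n203067 := rfl
theorem F426860 : act 2 n203067 = n193781 := d1_1 D203067 F391001 F346079
theorem F426861 : act 5 n203067 = n119505 := d16_1 D203067 (iv4 D119505) (iv5 D54981) D54980 D119501 F318171 (iv5 F346069) F346078 F346079
theorem F426862 : act 0 n203067 = n202321 := d17_0 (iv5 D202321) (iv1 D115596) D115597 F352986 F352985 (iv0 D54189) D54191 D117644 D203067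
theorem F426863 : act 1 n203067 = n202319 := d18_8 F360169 F350934 (iv1 F187785) (iv4 F422322) (iv5 F422326) (iv4 D117645) D117644 D203067 (iv5 D202319)
def n203068 : Q := act 5 n117644
theorem D203068 : act 5 n117644 = n203068 := rfl
theorem F426864 : act 2 n203068 = n155373 := d2_1 D203068 (iv5 F346082) F346079
theorem F426865 : act 3 n203068 = n186869 := d6_1 D203068 F426856 (iv3 D203066)
theorem F426866 : act 4 n203068 = n119517 := d9_1 D203068 (iv5 D119517) (iv4 D54985) D54986 D119519 (iv5 F426851) (iv4 D203065) F346069 (iv4 F318171) (iv5 D119501) (iv4 D54980) D54981 D119505 (iv5 F426861) (iv4 D203067)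
theorem F426867 : act 7 n203068 = n128275 := d13_2 (iv7 F346074) D203068 (iv5 F346073)
theorem F426868 : act 1 n203068 = n119572 := d17_8 (iv1 F87023) (iv5 D26601) (iv1 D12711) (iv5 F20697) (iv4 F41605) D54191 D117644 D203068 (iv4 D119572)
theorem F426869 : act 1 n119574 = n203068 := d15_0 F426868 (iv7 F426508) F426502
def n203069 : Q := act 6 n117644
theorem D203069 : act 6 n117644 = n203069 := rfl
theorem F426870 : act 2 n203069 = n193786 := d3_1 D203069 (iv6 D193786) F346079
theorem F426871 : act 3 n203069 = n193071 := d7_1 D203069 F426857 (iv3 D203066)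
theorem F426872 : act 7 n203069 = n193561 := d14_2 (iv7 F346074) D203069 (iv6 D193561) F314169 D149172
theorem F426873 : act 1 n193023 = n203069 := d15_1 (iv0 F388539) F426872 F390285
def n203070 : Q := act 0 n117645
theorem D203070 : act 0 n117645 = n203070 := rfl
theorem F426874 : act 5 n203070 = n119598 := d17_3 D201909 (iv5 F422326) D203070 (iv4 D119598) (iv5 D55028) F87018 D119558 F347853 (iv4 F179482)
theorem F426875 : act 4 n203070 = n119578 := d18_3 (iv1 D117644) D117645 D203070 (iv5 D119578) (iv4 D55013) D55012 D119574 F426869 (iv5 D203068)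
theorem F426876 : act 1 n119538 = n203070 := d15_0 (iv0 D203070) (iv7 F423421) F423419
theorem F426877 : act 6 n149119 = n203070 := d10_0 F426875 F366788 D149119
def n203071 : Q := act 1 n117645
theorem D203071 : act 1 n117645 = n203071 := rfl
theorem F426878 : act 1 n203071 = n119538 := d15_1 D203071 (iv7 F423414) F423413
theorem F426879 : act 4 n203071 = n119605 := d17_9 F426645 (iv5 D203015) F204823 D117658 (iv4 F423429) F423430 F422324 (iv5 F422326) D203071
theorem F426880 : act 3 n138081 = n203071 := d20_9 (iv4 D117645) D117643 D203065 F426849 F382910 (iv3 F423458) (iv4 F423463) (iv1 D138080) D138081 (iv1 D203071)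
theorem F426881 : act 5 n203071 = n119566 := d6_2 (iv5 F364903) F426880 F366383
def n203072 : Q := act 3 n117645
theorem D203072 : act 3 n117645 = n203072 := rfl
theorem F426882 : act 0 n193640 = n203072 := d20_4 F357614 (iv1 D102084) D102085 D193640 (iv3 D203072) (iv4 D117645) D117643 D203065 F426849 F382910
theorem F426883 : act 1 n137651 = n203072 := d15_0 (iv0 F426882) F390543 F245198
def n203073 : Q := act 6 n117646
theorem D203073 : act 6 n117646 = n203073 := rfl
theorem F426884 : act 0 n191293 = n203073 := d21_4 (iv5 D47070) (iv1 F290143) D97971 D191293 (iv6 D203073) F184236 (iv1 F184096) (iv5 F382932) F382933 (iv1 D101033)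
def n203074 : Q := act 5 n117647
theorem D203074 : act 5 n117647 = n203074 := rfl
theorem F426885 : act 3 n203074 = n143503 := d6_1 D203074 F226218 (iv3 F184237)
theorem F426886 : act 7 n203074 = n117650 := d13_2 (iv7 F184239) D203074 (iv5 D117650)
def n203075 : Q := act 3 n117648
theorem D203075 : act 3 n117648 = n203075 := rfl
theorem F426887 : act 4 n203075 = n187457 := d5_2 (iv4 F425987) D203075 F426266 F426261 (iv3 F425984)
theorem F426888 : act 7 n203075 = n192895 := d8_2 F426394 D203075 (iv3 F426398)
theorem F426889 : act 5 n192896 = n203075 := d13_3 F426888 (iv5 D192895) D192896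
theorem F426890 : act 1 n188577 = n203075 := d15_1 (iv0 F374050) F426888 F388128
def n203076 : Q := act 5 n117648
theorem D203076 : act 5 n117648 = n203076 := rfl
theorem F426891 : act 3 n203076 = n192896 := d6_1 D203076 F426889 (iv3 D203075)
theorem F426892 : act 7 n203076 = n192894 := d13_2 F426394 D203076 (iv5 F426399)
def n203077 : Q := act 6 n117648
theorem D203077 : act 6 n117648 = n203077 := rfl
theorem F426893 : act 7 n203077 = n134600 := d14_2 F426394 D203077 (iv6 D134600) (iv7 F216468) F426396
def n203078 : Q := act 3 n117649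
theorem D203078 : act 3 n117649 = n203078 := rfl
theorem F426894 : act 4 n203078 = n199962 := d5_2 F352620 D203078 (iv3 F414361) F267881 (iv3 F267878)
theorem F426895 : act 6 n203078 = n134541 := d7_2 (iv6 F352619) D203078 F216521
def n203079 : Q := act 5 n117649
theorem D203079 : act 5 n117649 = n203079 := rfl
theorem F426896 : act 2 n203079 = n192894 := d2_1 D203079 (iv5 F426399) F426397
theorem F426897 : act 6 n203079 = n134550 := d12_2 (iv6 F352619) D203079 (iv5 D134550) (iv6 D63226) D63225
def n203080 : Q := act 0 n117650
theorem D203080 : act 0 n117650 = n203080 := rfl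
def n203081 : Q := act 1 n117650
theorem D203081 : act 1 n117650 = n203081 := rfl
theorem F426898 : act 5 n177140 = n203081 := d21_6 D117505 F184076 (iv5 D79049) (iv6 F120253) D164567 (iv6 F366834) (iv1 D203081) (iv5 D117650) (iv6 D54193) (iv1 F85467)
theorem F426899 : act 3 n203081 = n186994 := d6_1 F426898 (iv5 D186994) F357199
def n203082 : Q := act 4 n117650
theorem D203082 : act 4 n117650 = n203082 := rfl
def n203083 : Q := act 3 n117653
theorem D203083 : act 3 n117653 = n203083 := rfl
theorem F426900 : act 2 n203083 = n170468 := d0_1 D203083 F267907 F125643 (iv3 F320803) (iv2 F184247)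
theorem F426901 : act 4 n203083 = n117657 := d5_2 D117653 D203083 (iv3 D117657) (iv4 D54196) D54195
theorem F426902 : act 5 n203083 = n131457 := d6_2 F355223 D203083 F337041
theorem F426903 : act 7 n203083 = n195587 := d8_2 (iv7 F184241) D203083 (iv3 D195587)
theorem F426904 : act 1 n190575 = n203083 := d15_1 (iv0 F380175) F426903 F397469
def n203084 : Q := act 1 n117654
theorem D203084 : act 1 n117654 = n203084 := rfl
theorem F426905 : act 1 n203084 = n133817 := d15_1 D203084 F309932 F243994
theorem F426906 : act 7 n203084 = n133824 := d15_2 F312178 D203084 (iv2 F252514)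
theorem F426907 : act 5 n203084 = n146511 := d17_7 F337015 F104671 D133818 F355223 (iv4 D117653) D117654 D203084 (iv0 F337027) (iv4 F337023)
theorem F426908 : act 4 n203084 = n130878 := d17_9 F335008 F244323 (iv1 F335018) (iv5 F337030) (iv4 F163005) (iv5 F240207) (iv0 D117651) D117654 D203084
theorem F426909 : act 3 n147837 = n203084 := d19_19 (iv1 D203084) (iv5 D117654) D117653 D203083 (iv1 F426904) (iv5 D190575) (iv4 F270055) F270054 (iv1 F317287) F332362 F219950 F100113 (iv1 F79365) (iv5 F97494) F328257 (iv3 F301979) D195614 F397616 F361080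
theorem F426910 : act 6 n118827 = n203084 := d21_3 F348319 (iv1 F226066) (iv5 F348312) (iv1 D203084) F232622 F307669 F305658 (iv5 D84889) D84890 (iv1 F309919)
theorem F426911 : act 2 n203084 = n118830 := d3_1 F426910 (iv6 D118830) D118827
def n203085 : Q := act 3 n117655
theorem D203085 : act 3 n117655 = n203085 := rfl
theorem F426912 : act 4 n203085 = n202952 := d5_2 F205206 D203085 F426354 (iv4 D127738) F205208
theorem F426913 : act 7 n203085 = n151602 := d8_2 (iv7 F227958) D203085 F361666
theorem F426914 : act 0 n193811 = n203085 := d20_4 (iv4 D90137) F290590 (iv4 F157158) (iv3 F391062) (iv3 D203085) (iv4 F205206) (iv1 F426609) (iv4 D203006) (iv3 F368427) F368429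
def n203086 : Q := act 5 n117655
theorem D203086 : act 5 n117655 = n203086 := rfl
theorem F426915 : act 0 n203086 = n119605 := d17_2 D117655 D203086 (iv5 D119605) (iv4 D55030) (iv5 D26601) F42527 (iv5 F85476) F85479 D54196
theorem F426916 : act 1 n203086 = n119578 := d17_6 (iv1 D128274) (iv5 D60303) D60300 F205207 F205206 D203086 (iv5 D119578) D119576 F331658
def n203087 : Q := act 1 n117657
theorem D203087 : act 1 n117657 = n203087 := rfl
def n203088 : Q := act 2 n117657
theorem D203088 : act 2 n117657 = n203088 := rfl
theorem F426917 : act 3 n203088 = n154104 := d0_2 D117657 D203088 (iv2 F369453) F369454 F184104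
theorem F426918 : act 4 n203088 = n170468 := d1_2 F426901 D203088 (iv2 F426900)
theorem F426919 : act 6 n154101 = n203088 := d7_0 F426917 (iv6 D154104) D154101
def n203089 : Q := act 5 n117657
theorem D203089 : act 5 n117657 = n203089 := rfl
theorem F426920 : act 3 n203089 = n117658 := d6_1 D203089 (iv5 D117658) D117657
theorem F426921 : act 1 n203089 = n146907 := d17_6 (iv1 D144905) F104025 D131457 (iv5 F426902) F426901 D203089 (iv5 D146907) D146906 F357743
def n203090 : Q := act 6 n117657
theorem D203090 : act 6 n117657 = n203090 := rfl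
theorem F426922 : act 2 n203090 = n154101 := d3_1 D203090 F426919 (iv2 D203088)
theorem F426923 : act 3 n203090 = n117659 := d7_1 D203090 (iv6 D117659) D117657
theorem F426924 : act 5 n198998 = n203090 := d6_0 F426923 F361437 D198998
theorem F426925 : act 0 n175389 = n203090 := d20_4 F332234 (iv1 F316071) F316072 D175389 F426923 F184254 (iv1 F130929) D158978 (iv3 F334538) (iv1 F332232)
theorem E103865 : n203087 = n203017 := ((c21_4 F360622 (iv1 F391547) F391545 D203017 (iv1 D203087) D203090 (iv5 F426924) F411799 F411797 (iv6 F359454) F360624)).symm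
theorem F426926 : act 0 n203017 = n117657 := (sb E103865 (iv1 D203087))
def n203091 : Q := act 0 n117658
theorem D203091 : act 0 n117658 = n203091 := rfl
theorem F426927 : act 5 n203091 = n202984 := d21_2 D117658 D203091 (iv6 D202984) (iv1 D117468) (iv6 D54132) F328419 (iv1 F100005) (iv5 F328815) D117534 F204823
theorem F426928 : act 1 n117664 = n203091 := d15_0 (iv0 D203091) F423428 F423425
theorem F426929 : act 3 n193808 = n203091 := d19_19 (iv1 F426928) (iv5 D117664) (iv4 D54201) D54200 F130895 F50201 (iv4 F51761) F306040 (iv1 F96155) (iv5 F107515) (iv4 F320868) F344765 (iv1 F353792) F337532 (iv4 F303663) (iv3 F317086) F317084 D149044 (iv4 F391053)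
def n203092 : Q := act 1 n117658
theorem D203092 : act 1 n117658 = n203092 := rfl
theorem F426930 : act 1 n203092 = n117664 := d15_1 D203092 (iv7 F426622) F426620
theorem F426931 : act 5 n203092 = n123851 := d17_7 F110799 F53258 (iv1 F130475) (iv5 D54197) D54196 D117658 D203092 (iv0 F355071) (iv4 D119304)
theorem F426932 : act 3 n123852 = n203092 := d6_3 F426931 (iv3 D123851) D123852
def n203093 : Q := act 6 n117658
theorem D203093 : act 6 n117658 = n203093 := rfl
theorem F426933 : act 2 n203093 = n184979 := d3_1 D203093 F426623 F426620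
theorem F426934 : act 5 n203093 = n199000 := d12_1 D203093 (iv6 D199000) (iv5 F361437) (iv6 D117659) D117658
def n203094 : Q := act 4 n117660
theorem D203094 : act 4 n117660 = n203094 := rfl
theorem F426935 : act 2 n203094 = n148513 := d1_1 D203094 (iv4 D148513) F184257
theorem F426936 : act 6 n203094 = n157091 := d10_2 (iv6 F315966) D203094 (iv4 D157091)
theorem F426937 : act 7 n203094 = n119240 := d11_2 (iv7 F184259) D203094 F187677
theorem F426938 : act 0 n203094 = n119533 := d17_0 (iv5 D119533) (iv1 D54989) (iv5 D26591) F21103 (iv5 F20697) D26215 D54202 F184258 D203094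
theorem F426939 : act 1 n203094 = n119528 := d18_8 (iv1 F187785) (iv4 F422322) (iv1 F422324) (iv4 F416635) F416636 (iv4 D117666) F184258 D203094 (iv5 D119528)
def n203095 : Q := act 0 n117661
theorem D203095 : act 0 n117661 = n203095 := rfl
theorem F426940 : act 5 n203095 = n155842 := d17_1 D203095 (iv1 F359982) (iv5 D119302) (iv4 D54902) D54903 F183997 (iv5 F184255) (iv0 D117660) D117661
theorem F426941 : act 6 n203095 = n155846 := d21_5 F320704 (iv1 D59221) D59222 (iv6 F316280) D203095 (iv5 D155846) (iv1 F353042) F130201 (iv6 F86895) (iv1 F86897)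
theorem F426942 : act 1 n117666 = n203095 := d15_0 (iv0 D203095) F317296 (iv2 F316284)
theorem F426943 : act 2 n132475 = n203095 := d3_3 F426941 (iv2 F353052) (iv6 F317293)
theorem F426944 : act 7 n119233 = n203095 := d14_0 F426941 F353051 (iv6 F278195) F187640 D119233
def n203096 : Q := act 1 n117661
theorem D203096 : act 1 n117661 = n203096 := rfl
theorem F426945 : act 1 n203096 = n117666 := d15_1 D203096 (iv7 F416633) F416626
theorem F426946 : act 7 n203096 = n132475 := d15_2 (iv0 D203095) D203096 F426943
theorem F426947 : act 4 n203096 = n201491 := d17_9 F420701 (iv5 D127647) D127645 (iv5 F205207) F131203 D119558 F347853 (iv5 F316279) D203096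
theorem F426948 : act 3 n158326 = n203096 := d20_3 (iv4 F211028) (iv1 F392663) F392661 (iv1 D203096) F317295 F96893 (iv1 F47824) (iv4 F101354) D130446 F354053
theorem F426949 : act 6 n119145 = n203096 := d21_3 D85135 (iv1 F324250) (iv5 F325402) (iv1 D203096) F316280 (iv5 D59222) F327550 (iv5 F327551) D84916 (iv1 F278060)
theorem F426950 : act 2 n203096 = n119233 := d3_1 F426949 (iv6 D119233) F187643
def n203097 : Q := act 3 n117670
theorem D203097 : act 3 n117670 = n203097 := rfl
theorem F426951 : act 4 n203097 = n195590 := d5_2 D117670 D203097 F397484 (iv4 F338193) (iv3 D117669)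
theorem F426952 : act 0 n203097 = n202977 := d20_10 (iv4 D202977) F183957 (iv4 F314578) (iv3 D143496) (iv1 D67211) (iv3 F85519) F85520 D54205 D117670 D203097
theorem F426953 : act 1 n203097 = n202929 := d15_1 (iv0 F426952) F426233 (iv2 F426465)
theorem F426954 : act 5 n203097 = n182240 := d19_1 (iv1 F426953) (iv4 D182240) F133543 D87012 F133545 F63249 F63230 F63188 (iv5 D5029) D5028 D11034 (iv1 F66558) (iv5 F75097) (iv4 F158389) F327259 (iv1 D56252) D56254 D121743 (iv3 F426231)
theorem F426955 : act 0 n182240 = n191443 := d21_1 F426954 F383491 (iv6 F353233) F284557 F360603 (iv5 F386245) (iv1 F386247) (iv5 F360612) (iv6 F426232) (iv1 F426953)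
theorem F426956 : act 6 n195589 = n203097 := d21_5 F284556 (iv1 F157491) F346826 F355600 (iv1 F397482) F426954 F426955 F383491 (iv6 F353233) F284557
theorem F426957 : act 0 n202925 = n182240 := d21_1 D202925 (iv5 F426954) (iv6 F426956) F397481 (iv6 D117237) D117236 (iv1 F233618) (iv5 D148791) D148792 F243335
def n203098 : Q := act 5 n117670
theorem D203098 : act 5 n117670 = n203098 := rfl
theorem F426958 : act 3 n203098 = n182240 := d6_1 D203098 (iv5 F426954) (iv3 D203097)
theorem F426959 : act 4 n203098 = n182251 := d16_2 D117670 D203098 F283696 (iv4 F363548) (iv5 D139643) F101271 F318281 (iv7 F237564) F237563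
def n203099 : Q := act 6 n117670
theorem D203099 : act 6 n117670 = n203099 := rfl
theorem F426960 : act 3 n203099 = n195589 := d7_1 D203099 F426956 (iv3 D203097)
theorem F426961 : act 4 n203099 = n117672 := d10_1 D203099 (iv6 D117672) D117670
theorem F426962 : act 5 n203099 = n199070 := d21_6 F328820 (iv1 F101959) (iv5 F329156) D202990 (iv1 F426539) D203099 (iv1 F410533) F357697 (iv6 D145932) F104620
def n203100 : Q := act 4 n117671
theorem D203100 : act 4 n117671 = n203100 := rfl
theorem F426963 : act 2 n203100 = n139644 := d1_1 D203100 F222816 (iv2 F341174)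
theorem F426964 : act 7 n203100 = n139638 := d11_2 (iv7 F341176) D203100 F222806
theorem F426965 : act 0 n203100 = n139642 := d20_1 D203100 (iv4 F424577) F424575 (iv1 D139819) F319627 D127762 (iv1 F349405) F193156 F321133 (iv1 F341173)
theorem F426966 : act 1 n203100 = n139641 := d15_0 (iv0 D139641) D139644 (iv2 F426963)
theorem F426967 : act 4 n139641 = n202574 := d18_7 (iv1 F424582) (iv4 F426537) (iv1 F426539) (iv4 D117670) D117671 D203100 F426966 (iv0 D202574) D202576
theorem F426968 : act 0 n202141 = n139664 := d20_4 F426967 F424571 F422813 (iv3 F423024) (iv3 D139664) (iv4 D65550) (iv1 D30723) (iv4 F49190) (iv3 F101270) D139641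
theorem F426969 : act 1 n196516 = n139664 := d15_0 (iv0 F426968) (iv7 D202141) (iv2 F400932)
theorem F426970 : act 0 n199015 = n198059 := d20_7 F179577 (iv1 F84039) D65550 D139664 (iv1 F426969) (iv3 F423306) F423307 F406620 (iv3 D139649) (iv1 F179582)
def n203101 : Q := act 5 n117675
theorem D203101 : act 5 n117675 = n203101 := rfl
def n203102 : Q := act 4 n117678
theorem D203102 : act 4 n117678 = n203102 := rfl
theorem F426971 : act 2 n203102 = n151303 := d1_1 D203102 (iv4 D151303) F199966
theorem F426972 : act 6 n203102 = n202868 := d10_2 F348132 D203102 (iv4 D202868)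
theorem F426973 : act 7 n203102 = n152788 := d11_2 F200304 D203102 (iv4 D152788)
theorem F426974 : act 0 n203102 = n156213 := d18_2 D117678 D203102 F245492 D197491 (iv4 F426638) F426641 (iv4 D117670) (iv0 D54205) D54207
theorem F426975 : act 1 n203102 = n156226 := d15_1 (iv0 F426974) (iv7 D156226) (iv2 F245490)
theorem F426976 : act 1 n156226 = n138729 := d15_1 F426975 (iv7 F320479) (iv2 F426971)
def n203103 : Q := act 0 n117680
theorem D203103 : act 0 n117680 = n203103 := rfl
theorem F426977 : act 4 n203103 = n138692 := d20_2 D117680 D203103 (iv3 D138692) (iv1 D65121) F48993 F24150 D14506 D30584 D65141 (iv1 F318398)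
theorem F426978 : act 1 n152787 = n203103 := d15_0 (iv0 D203103) F320447 F318286
theorem F426979 : act 2 n152784 = n203103 := d1_3 F426977 (iv2 F393557) F393560
theorem F426980 : act 7 n152785 = n203103 := d11_0 F426977 (iv7 F404538) (iv4 F404541)
theorem F426981 : act 6 n203103 = n201899 := d14_1 F426980 F422292 F414470 (iv7 F366198) F404542
def n203104 : Q := act 1 n117680
theorem D203104 : act 1 n117680 = n203104 := rfl
theorem F426982 : act 1 n203104 = n152787 := d15_1 D203104 (iv7 D152787) (iv2 F184272)
theorem F426983 : act 7 n203104 = n152784 := d15_2 (iv0 D203103) D203104 F426979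
theorem F426984 : act 4 n177141 = n203104 := d20_6 D117911 F184923 F130686 (iv3 F201179) F341037 (iv3 F276558) (iv1 D203104) (iv4 D117680) F85529 D54314
theorem F426985 : act 2 n203104 = n152785 := d1_1 F426984 F404541 (iv2 F404535)
theorem F426986 : act 6 n203104 = n152716 := d10_2 F423704 F426984 (iv4 F423703)
theorem F426987 : act 3 n202258 = n203104 := d7_3 F426986 F423387 D202258
def n203105 : Q := act 5 n117680
theorem D203105 : act 5 n117680 = n203105 := rfl
theorem F426988 : act 2 n203105 = n152786 := d2_1 D203105 (iv5 D152786) (iv2 F184272)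
theorem F426989 : act 7 n203105 = n156963 := d13_2 (iv7 F320447) D203105 (iv5 D156963)
def n203106 : Q := act 3 n117681
theorem D203106 : act 3 n117681 = n203106 := rfl
theorem F426990 : act 2 n203106 = n156164 := d0_1 D203106 (iv3 D156164) F111494 F320532 (iv2 F184275)
theorem F426991 : act 4 n203106 = n159421 := d5_2 D117681 D203106 (iv3 D159421) F114302 F94205
theorem F426992 : act 6 n203106 = n193898 := d7_2 (iv6 F336239) D203106 F391324
theorem F426993 : act 7 n203106 = n119620 := d8_2 (iv7 F184276) D203106 (iv3 D119620)
def n203107 : Q := act 3 n117683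
theorem D203107 : act 3 n117683 = n203107 := rfl
theorem F426994 : act 4 n203107 = n150779 := d5_2 (iv4 F184281) D203107 (iv3 D150779) (iv4 D71089) D71088
theorem F426995 : act 6 n203107 = n202204 := d7_2 (iv6 F349438) D203107 (iv3 D202204)
theorem F426996 : act 7 n203107 = n119628 := d8_2 F184283 D203107 (iv3 D119628)
theorem F426997 : act 0 n192396 = n203107 := d20_4 (iv4 D194327) F350174 D194443 F393236 (iv3 D203107) F184281 F115166 (iv4 F188670) (iv3 F416015) (iv1 F416017)
theorem F426998 : act 1 n192394 = n203107 := d15_0 (iv0 F426997) F386640 (iv2 F386632)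
theorem F426999 : act 2 n193118 = n203107 := d1_3 F426994 F349189 D193118
def n203108 : Q := act 3 n117684
theorem D203108 : act 3 n117684 = n203108 := rfl
theorem F427000 : act 4 n203108 = n128371 := d5_2 (iv4 F184287) D203108 (iv3 D128371) (iv4 D60354) D60353
theorem F427001 : act 7 n203108 = n119631 := d8_2 (iv7 F184286) D203108 (iv3 D119631)
theorem F427002 : act 0 n203108 = n156149 := d20_4 F188670 F110825 (iv4 F184287) D203108 F245389 F111482 (iv1 F53502) D64416 F320532 (iv1 F188669)
theorem F427003 : act 2 n203108 = n156146 := d15_3 (iv0 D156146) (iv0 F366540) (iv7 F427001)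
theorem F427004 : act 0 n156144 = n203108 := d20_1 F362345 F427000 (iv3 D128371) F94877 D72725 F324322 (iv1 F292230) F140467 F365133 F345412
def n203109 : Q := act 6 n117684
theorem D203109 : act 6 n117684 = n203109 := rfl
theorem F427005 : act 2 n203109 = n119630 := d3_1 D203109 (iv6 D119630) F184288
theorem F427006 : act 4 n203109 = n128370 := d10_1 D203109 (iv6 D128370) (iv4 F184287)
theorem F427007 : act 7 n203109 = n202205 := d14_2 (iv7 F184286) D203109 (iv6 D202205) F360640 F349439
theorem F427008 : act 0 n203109 = n155719 := d21_4 D72109 (iv1 F240000) F240002 D203109 (iv6 F366520) (iv5 F409722) (iv1 F409724) (iv5 F359508) (iv6 D152790) (iv1 F108555)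
theorem F427009 : act 0 n202180 = n203109 := d21_4 F351446 (iv1 F179459) (iv5 F179715) D202180 (iv6 D203109) (iv5 F240002) (iv1 D152798) (iv5 D72101) D72102 D152800
def n203110 : Q := act 1 n117685
theorem D203110 : act 1 n117685 = n203110 := rfl
theorem F427010 : act 1 n203110 = n119007 := d15_1 D203110 F187151 (iv2 F184289)
theorem F427011 : act 7 n203110 = n119639 := d15_2 F397534 D203110 (iv2 F397531)
theorem F427012 : act 5 n203110 = n128363 := d17_7 (iv1 F52441) F25597 (iv1 F27015) D26218 D54209 D117685 D203110 F206488 (iv4 D71868)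
theorem F427013 : act 2 n119638 = n203110 := d2_3 F427012 F206485 (iv5 F188678)
def n203111 : Q := act 6 n117685
theorem D203111 : act 6 n117685 = n203111 := rfl
theorem F427014 : act 2 n203111 = n152783 := d3_1 D203111 (iv6 D152783) (iv2 F184289)
def n203112 : Q := act 0 n117686
theorem D203112 : act 0 n117686 = n203112 := rfl
theorem F427015 : act 5 n203112 = n188321 := d19_1 D203112 F373083 F229723 (iv1 F183795) F183797 (iv4 F85582) (iv3 D53877) (iv1 F41192) (iv5 D14964) F26605 F5278 F5280 F2584 (iv4 F5317) (iv3 F11552) D15263 (iv5 F41615) D54210 D117686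
theorem F427016 : act 4 n203112 = n118703 := d20_2 (iv4 F184291) D203112 (iv3 F347807) (iv1 D114607) F83593 (iv4 F83612) (iv1 F311533) D68002 D145077 F347728
theorem F427017 : act 3 n203112 = n120436 := d20_5 (iv4 D32010) (iv1 F41617) D54210 D117686 D203112 F353625 (iv1 D147355) (iv4 F311879) (iv3 F314297) (iv1 D68816)
theorem F427018 : act 1 n140010 = n203112 := d15_0 (iv0 D203112) F184292 (iv2 F223217)
theorem F427019 : act 6 n189887 = n203112 := d21_3 F289275 (iv1 F291546) D189887 (iv1 F427018) F314121 F302703 (iv1 D88817) (iv5 F302952) (iv6 F305325) D88830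
theorem F427020 : act 2 n203112 = n118756 := d3_1 F427019 F361656 (iv2 F378111)
theorem F427021 : act 7 n118752 = n203112 := d15_2 (iv0 F424608) (iv0 F424609) F427020
def n203113 : Q := act 1 n117686
theorem D203113 : act 1 n117686 = n203113 := rfl
theorem F427022 : act 1 n203113 = n140010 := d15_1 D203113 (iv7 F424607) F424604
theorem F427023 : act 7 n203113 = n118756 := d15_2 (iv0 D203112) D203113 (iv2 F427020)
theorem F427024 : act 4 n118702 = n203113 := d20_0 (iv1 D203113) F184291 (iv3 D69307) (iv1 F85581) D117734 F184395 (iv1 F322756) F178473 (iv3 F86420) D118702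
theorem F427025 : act 3 n188336 = n203113 := d20_3 F196499 F379370 F379369 (iv1 D203113) (iv3 D117686) (iv4 D54210) (iv1 F41618) D32014 D68826 (iv1 F346309)
theorem F427026 : act 2 n203113 = n118752 := d0_1 F427025 F314119 (iv2 F353598) F368336 (iv2 F373097)
theorem F427027 : act 5 n203113 = n188324 := d6_2 (iv5 F373098) F427025 F373084
def n203114 : Q := act 5 n117686
theorem D203114 : act 5 n117686 = n203114 := rfl
theorem F427028 : act 3 n203114 = n117687 := d6_1 D203114 (iv5 D117687) D117686
theorem F427029 : act 7 n203114 = n148104 := d13_2 (iv7 F184292) D203114 (iv5 D148104)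
theorem F427030 : act 4 n203114 = n118760 := d19_2 (iv1 D203113) D203114 F421193 (iv1 D115049) (iv5 F107032) (iv4 F146949) (iv3 F148306) (iv1 F349483) F349486 F80035 (iv3 F39562) (iv1 F39567) (iv5 F81886) D50704 (iv3 F169048) (iv1 F244980) (iv5 F379366) F379369 F427025
theorem F427031 : act 6 n189122 = n203114 := d21_5 F295171 (iv1 D46340) (iv5 F294373) D93289 D189122 (iv5 D203114) D203112 F427015 (iv6 D188321) (iv1 F140257)
def n203115 : Q := act 6 n117687
theorem D203115 : act 6 n117687 = n203115 := rfl
theorem F427032 : act 2 n203115 = n117697 := d3_1 D203115 (iv6 D117697) (iv2 F184293)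
theorem F427033 : act 3 n203115 = n189122 := d7_1 D203115 F427031 F427028
def n203116 : Q := act 5 n117688
theorem D203116 : act 5 n117688 = n203116 := rfl
theorem F427034 : act 2 n203116 = n117700 := d2_1 D203116 (iv5 D117700) (iv2 F184297)
theorem F427035 : act 3 n203116 = n148014 := d6_1 D203116 F426744 F426738
theorem F427036 : act 4 n203116 = n200014 := d9_1 D203116 F414628 (iv4 F423339) (iv5 D202232) F179787 (iv5 F316847) (iv4 F321908) D203044 F426758 F414625 (iv4 F423684) (iv5 D202338) F336238 (iv5 F320932) (iv4 F184298)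
def n203117 : Q := act 6 n117690
theorem D203117 : act 6 n117690 = n203117 := rfl
theorem F427037 : act 2 n203117 = n117705 := d3_1 D203117 (iv6 D117705) F184304
theorem F427038 : act 3 n203117 = n146696 := d7_1 D203117 F230032 F184305
theorem F427039 : act 4 n203117 = n203017 := d10_1 D203117 (iv6 D203017) F349467
theorem F427040 : act 5 n203117 = n155242 := d12_1 D203117 (iv6 D155242) F311858 F200717 F200708
theorem F427041 : act 7 n203117 = n146691 := d14_2 (iv7 F184303) D203117 (iv6 D146691) (iv7 F183548) (iv6 F183645)
theorem F427042 : act 0 n117898 = n203117 := d21_4 F340936 (iv1 F183090) F322274 D117898 (iv6 D203117) (iv5 F200708) (iv1 F240024) (iv5 F278483) F278484 (iv1 F340937)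
def n203118 : Q := act 7 n117693
theorem D203118 : act 7 n117693 = n203118 := rfl
theorem F427043 : act 2 n203118 = n148127 := d4_1 D203118 (iv7 D148127) (iv2 F184315)
theorem F427044 : act 3 n203118 = n199295 := d8_1 D203118 F411521 (iv3 F368211)
theorem F427045 : act 6 n203118 = n117845 := d14_1 D203118 F184789 (iv6 D69396) F85550 D117693
theorem F427046 : act 1 n144533 = n203118 := d15_1 (iv0 F356604) (iv7 D203118) F184315
theorem F427047 : act 1 n203118 = n117896 := d15_1 F427046 F184891 (iv2 F322279)
def n203119 : Q := act 6 n117694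
theorem D203119 : act 6 n117694 = n203119 := rfl
theorem F427048 : act 3 n203119 = n117695 := d7_1 D203119 (iv6 D117695) D117694
theorem F427049 : act 4 n203119 = n201225 := d10_1 D203119 F419523 (iv4 F184316)
theorem F427050 : act 7 n203119 = n148522 := d14_2 (iv7 F184317) D203119 (iv6 F362413) F362405 F347750
def n203120 : Q := act 5 n117695
theorem D203120 : act 5 n117695 = n203120 := rfl
theorem F427051 : act 2 n203120 = n148119 := d2_1 D203120 (iv5 D148119) (iv2 F184318)
theorem F427052 : act 4 n203120 = n152396 := d9_1 D203120 F239584 (iv4 F303500) (iv5 D119849) F310869 D184777 F355578 (iv5 F355573) (iv4 F355576) (iv5 D114057) (iv4 F177555) F298221 F87072 (iv5 F183161) (iv4 F184319)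
theorem F427053 : act 7 n203120 = n148524 := d13_2 F230227 D203120 (iv5 D148524)
theorem F427054 : act 0 n203120 = n119865 := d17_2 (iv1 F184566) D203120 (iv5 D119865) (iv4 D55164) (iv5 D26657) F130735 (iv5 F85253) F130861 D69602
theorem F427055 : act 1 n203120 = n155454 := d17_6 F361112 (iv5 D88110) (iv1 F308724) (iv5 F183161) (iv4 F184319) D203120 (iv5 D155454) F331647 D123845
def n203121 : Q := act 3 n117696
theorem D203121 : act 3 n117696 = n203121 := rfl
theorem F427056 : act 7 n203121 = n148136 := d8_2 (iv7 F184321) D203121 (iv3 D148136)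
def n203122 : Q := act 6 n117696
theorem D203122 : act 6 n117696 = n203122 := rfl
theorem F427057 : act 4 n203122 = n117697 := d10_1 D203122 (iv6 D117697) D117696
def n203123 : Q := act 0 n117697
theorem D203123 : act 0 n117697 = n203123 := rfl
def n203124 : Q := act 1 n117697
theorem D203124 : act 1 n117697 = n203124 := rfl
theorem F427058 : act 6 n186772 = n203124 := d21_3 F373068 F294796 D186772 (iv1 D203124) (iv6 D117697) (iv5 D54214) D54212 (iv5 F183484) F383092 (iv1 F383091)
theorem F427059 : act 3 n203124 = n186774 := d7_1 F427058 (iv6 D186774) (iv3 F367959)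
def n203125 : Q := act 5 n117697
theorem D203125 : act 5 n117697 = n203125 := rfl
theorem F427060 : act 3 n203125 = n143475 := d6_1 D203125 (iv5 F424662) F424661
theorem F427061 : act 6 n203125 = n117700 := d12_2 D117697 D203125 (iv5 D117700) (iv6 D54215) D54214
def n203126 : Q := act 7 n117697
theorem D203126 : act 7 n117697 = n203126 := rfl
theorem F427062 : act 6 n203126 = n148141 := d14_1 D203126 (iv7 D148141) (iv6 D69402) (iv7 F85551) D117697
def n203127 : Q := act 6 n117698
theorem D203127 : act 6 n117698 = n203127 := rfl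
theorem F427063 : act 2 n203127 = n148535 := d3_1 D203127 F233294 F264371
theorem F427064 : act 3 n203127 = n134242 := d7_1 D203127 F364380 F357682
theorem F427065 : act 0 n203127 = n148519 := d21_4 F425172 (iv1 F359468) (iv5 F347294) D203127 (iv6 D148519) D148518 (iv1 F244523) (iv5 D155502) D155503 F426426
theorem F427066 : act 5 n203127 = n182981 := d21_6 D68878 F105066 (iv5 D54214) D54215 D117698 D203127 (iv1 F372919) F372918 (iv6 D117240) F85256
theorem F427067 : act 0 n143496 = n203127 := d21_4 (iv5 F336964) F207392 F336958 (iv6 F314579) (iv6 D203127) F347294 (iv1 D143089) D143090 F347289 F155240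
theorem F427068 : act 7 n148534 = n203127 := d13_0 F427066 F426193 F426191
def n203128 : Q := act 0 n117700
theorem D203128 : act 0 n117700 = n203128 := rfl
theorem F427069 : act 4 n203128 = n197266 := d18_3 D195482 F397123 D203128 F403788 (iv4 F423479) F423476 F179996 (iv0 D105617) D105620
theorem F427070 : act 5 n203128 = n123847 := d21_8 D155454 (iv1 F427055) (iv5 D203120) (iv6 D117695) (iv1 D54213) D54215 D117700 D203128 (iv6 D123847) (iv1 F331647)
theorem F427071 : act 3 n123862 = n203128 := d6_3 F427070 F198306 D123862
theorem F427072 : act 6 n197265 = n203128 := d10_0 F427069 (iv6 D197266) D197265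
def n203129 : Q := act 1 n117700
theorem D203129 : act 1 n117700 = n203129 := rfl
def n203130 : Q := act 6 n117704
theorem D203130 : act 6 n117704 = n203130 := rfl
theorem F427073 : act 2 n203130 = n203017 := d3_1 D203130 (iv6 D203017) (iv2 F349468)
theorem F427074 : act 3 n203130 = n186589 := d7_1 D203130 F367341 (iv3 F349449)
theorem F427075 : act 4 n203130 = n117705 := d10_1 D203130 (iv6 D117705) D117704
theorem F427076 : act 7 n203130 = n187087 := d14_2 F349472 D203130 (iv6 F426473) F426466 F349473
theorem F427077 : act 0 n203130 = n203088 := d21_4 F329158 (iv1 F349488) F349490 D203130 (iv6 F426919) F411751 F411749 (iv5 D146964) (iv6 F319163) (iv1 F349445)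
theorem F427078 : act 0 n203011 = n203130 := d21_4 (iv5 D87540) D87538 D183385 (iv6 F426632) (iv6 D203130) (iv5 F349490) (iv1 F386248) F386245 (iv6 F360603) (iv1 F284558)
def n203131 : Q := act 5 n117705
theorem D203131 : act 5 n117705 = n203131 := rfl
theorem F427079 : act 2 n203131 = n155242 := d2_1 D203131 (iv5 F427040) F427037
theorem F427080 : act 3 n203131 = n157426 := d6_1 D203131 (iv5 F378283) F378281
theorem F427081 : act 6 n203131 = n155224 := d12_2 D117705 D203131 F309668 F188658 F130440
theorem F427082 : act 7 n203131 = n155514 := d13_2 F426470 D203131 (iv5 F426469)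
theorem F427083 : act 4 n203131 = n128058 := d18_5 (iv1 F397472) (iv4 F426631) F427078 F427075 D203131 (iv0 D128058) (iv4 F162690) F343385 D177028
theorem F427084 : act 0 n203131 = n133686 := d21_1 D203131 F215129 F308203 D76707 (iv6 F310206) (iv5 F316637) F322270 (iv5 F322280) D202898 F426102
theorem F427085 : act 0 n146910 = n203131 := d21_10 (iv5 D203131) F237491 (iv5 D130891) D130892 (iv1 F340959) F308968 (iv5 D101594) (iv1 F74509) D73397 (iv6 F305943)
def n203132 : Q := act 6 n117712
theorem D203132 : act 6 n117712 = n203132 := rfl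
theorem F427086 : act 2 n203132 = n147488 := d3_1 D203132 (iv6 D147488) (iv2 F242926)
theorem F427087 : act 3 n203132 = n142415 := d7_1 D203132 (iv6 D142415) (iv3 F316675)
theorem F427088 : act 4 n203132 = n117714 := d10_1 D203132 (iv6 D117714) D117712
theorem F427089 : act 7 n203132 = n147764 := d14_2 (iv7 F242927) D203132 (iv6 F355211) (iv7 F366789) (iv6 D147505)
theorem F427090 : act 0 n203132 = n147395 := d21_4 D68806 D146758 F350765 D203132 (iv6 D147395) D147394 (iv1 F242679) (iv5 D154599) F350772 (iv1 D68804)
theorem F427091 : act 1 n203132 = n147767 := d15_1 (iv0 F427090) (iv7 D147767) (iv2 F233787)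
def n203133 : Q := act 4 n117713
theorem D203133 : act 4 n117713 = n203133 := rfl
theorem F427092 : act 2 n203133 = n147492 := d1_1 D203133 (iv4 D147492) (iv2 F242931)
theorem F427093 : act 3 n203133 = n132511 := d5_1 D203133 (iv4 D132511) (iv3 D62169) F316118 (iv3 F184332)
theorem F427094 : act 6 n203133 = n196543 := d10_2 (iv6 F316117) D203133 F401020
theorem F427095 : act 7 n203133 = n147506 := d11_2 (iv7 F242932) D203133 (iv4 D147506)
theorem F427096 : act 5 n203133 = n193244 := d16_1 D203133 (iv4 D193244) F357284 (iv4 F350721) (iv5 F348852) (iv4 D147334) D147335 F241112 (iv2 F242931)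
theorem F427097 : act 1 n157155 = n203133 := d17_6 (iv1 F329314) F355540 (iv1 F314963) D202991 F426543 F401710 F427096 F389301 F220843
def n203134 : Q := act 5 n117735
theorem D203134 : act 5 n117735 = n203134 := rfl
theorem F427098 : act 2 n203134 = n147959 := d2_1 D203134 (iv5 D147959) (iv2 F184397)
theorem F427099 : act 3 n203134 = n188760 := d6_1 D203134 F374754 (iv3 F339597)
theorem F427100 : act 7 n203134 = n188757 := d13_2 F339596 D203134 F374746
def n203135 : Q := act 3 n117736
theorem D203135 : act 3 n117736 = n203135 := rfl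
theorem F427101 : act 5 n203135 = n201087 := d6_2 (iv5 F184401) D203135 (iv3 D201087)
theorem F427102 : act 6 n203135 = n188974 := d7_2 (iv6 F335904) D203135 (iv3 F375303)
theorem F427103 : act 7 n203135 = n147974 := d8_2 (iv7 F184400) D203135 (iv3 D147974)
theorem F427104 : act 2 n192535 = n203135 := d3_3 F427102 (iv2 F375304) D192535
def n203136 : Q := act 6 n117774
theorem D203136 : act 6 n117774 = n203136 := rfl
theorem F427105 : act 2 n203136 = n142740 := d3_1 D203136 (iv6 D142740) (iv2 F184457)
theorem F427106 : act 3 n203136 = n143676 := d7_1 D203136 (iv6 D143676) (iv3 F321181)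
theorem F427107 : act 5 n203136 = n151938 := d12_1 D203136 F311859 (iv5 F322336) (iv6 D142735) (iv5 F184455)
theorem F427108 : act 0 n203136 = n117805 := d21_4 (iv5 D67031) (iv1 F102940) (iv5 F184455) D203136 F378352 F378349 F380967 F380963 (iv6 D145508) F182590
theorem F427109 : act 0 n143509 = n203136 := d21_4 (iv5 D58287) D58285 (iv5 F311084) D143509 (iv6 D203136) F184455 (iv1 F102941) (iv5 F103028) (iv6 F316934) (iv1 D124708)
def n203137 : Q := act 6 n117779
theorem D203137 : act 6 n117779 = n203137 := rfl
theorem F427110 : act 2 n203137 = n143396 := d3_1 D203137 (iv6 D143396) F184469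
theorem F427111 : act 4 n203137 = n202594 := d10_1 D203137 (iv6 D202594) F320912
theorem F427112 : act 0 n203137 = n117806 := d21_4 (iv5 F343214) (iv1 F385885) F385887 D203137 F356811 (iv5 D138616) (iv1 F111902) (iv5 F337096) F337097 F223859
theorem F427113 : act 0 n117811 = n203137 := d21_4 (iv5 D89023) F335663 (iv5 F337114) F356847 (iv6 D203137) (iv5 F385887) (iv1 D192180) F321296 F319254 F136668
def n203138 : Q := act 4 n117781
theorem D203138 : act 4 n117781 = n203138 := rfl
theorem F427114 : act 2 n203138 = n138012 := d1_1 D203138 F221273 (iv2 F205162)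
theorem F427115 : act 7 n203138 = n138007 := d11_2 (iv7 F205158) D203138 F355787
theorem F427116 : act 5 n203138 = n137981 := d16_1 D203138 (iv4 F408499) (iv5 D198605) (iv4 D109688) F169670 D54260 D117794 (iv7 F205161) (iv2 F205162)
theorem F427117 : act 1 n203138 = n202562 := d18_6 (iv1 D54180) F41603 D26234 D54255 D117781 D203138 F424512 F328185 (iv5 D117610)
def n203139 : Q := act 6 n117781
theorem D203139 : act 6 n117781 = n203139 := rfl
theorem F427118 : act 2 n203139 = n143436 := d3_1 D203139 (iv6 D143436) (iv2 F205162)
theorem F427119 : act 3 n203139 = n189140 := d7_1 D203139 F408226 F408223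
theorem F427120 : act 5 n191778 = n203139 := d21_8 (iv5 D143132) (iv1 F103051) D67131 (iv6 F349512) (iv1 F153684) D102596 F157699 D191778 (iv6 D203139) (iv1 F225987)
theorem E103866 : n191778 = n189139 := ((c6_4 F427120 F427119 (iv5 D189140) D189139)).symm
theorem F427121 : act 1 n189139 = n98914 := (sb E103866 (iv0 D191778))
theorem F427122 : act 5 n189139 = n203139 := (sb E103866 F427120)
def n203140 : Q := act 5 n117782
theorem D203140 : act 5 n117782 = n203140 := rfl
theorem F427123 : act 2 n203140 = n135189 := d2_1 D203140 F360241 (iv2 F321944)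
theorem F427124 : act 3 n203140 = n189141 := d6_1 D203140 F375859 (iv3 F321945)
theorem F427125 : act 6 n203140 = n189139 := d12_2 D117782 D203140 F427122 (iv6 D203139) (iv5 D117781)
theorem F427126 : act 7 n203140 = n192578 := d13_2 F320402 D203140 (iv5 D192578)
theorem F427127 : act 0 n203140 = n141461 := d17_2 (iv1 F321943) D203140 (iv5 D141461) (iv4 D66367) (iv5 F181543) (iv0 D25905) D25908 D53484 D116037
theorem F427128 : act 1 n203140 = n141471 := d17_6 F323721 F322088 (iv1 F182981) F321946 (iv4 F184470) D203140 (iv5 D141471) F181568 (iv4 D67115)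
def n203141 : Q := act 4 n117794
theorem D203141 : act 4 n117794 = n203141 := rfl
theorem F427129 : act 2 n203141 = n138007 := d1_1 D203141 F355787 (iv2 F205159)
theorem F427130 : act 5 n203141 = n137980 := d9_2 D117794 D203141 (iv4 F408487) (iv5 D198603) (iv4 D109684) F169574 D54255 D117781 D203138 F427116 (iv4 F408499) (iv5 D198605) (iv4 D109688) F169670 D54260
theorem F427131 : act 7 n203141 = n138012 := d11_2 F205161 D203141 F221273
theorem F427132 : act 0 n203141 = n202562 := d17_0 F424514 F221166 (iv5 F221287) (iv4 F221288) (iv5 D67079) D67077 D143134 F225990 D203141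
def n203142 : Q := act 4 n117802
theorem D203142 : act 4 n117802 = n203142 := rfl
theorem F427133 : act 2 n203142 = n117816 := d1_1 D203142 (iv4 D117816) (iv2 F184485)
theorem F427134 : act 6 n203142 = n124316 := d10_2 (iv6 F184487) D203142 F319520
theorem F427135 : act 7 n203142 = n123235 := d11_2 (iv7 F316804) D203142 F361502
theorem F427136 : act 5 n203142 = n122688 := d17_5 (iv1 F237161) F305883 (iv1 F315970) D117802 D203142 (iv0 D122688) (iv5 D56987) D56986 D122685
theorem F427137 : act 0 n203142 = n133775 := d18_2 (iv1 F316803) D203142 F215399 F98044 (iv4 F115016) (iv0 F252668) (iv4 D160093) F238978 F238975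
theorem F427138 : act 1 n203142 = n123174 := d18_6 (iv1 F361504) F426778 (iv1 D203049) F184218 D117802 D203142 F197407 (iv0 F332434) (iv5 F261564)
def n203143 : Q := act 4 n117810
theorem D203143 : act 4 n117810 = n203143 := rfl
theorem F427139 : act 2 n203143 = n143514 := d1_1 D203143 F226223 (iv2 F318164)
theorem F427140 : act 3 n203143 = n199078 := d5_1 D203143 F410558 F356846 (iv4 D117811) D117810
theorem F427141 : act 6 n203143 = n143384 := d10_2 (iv6 F318166) D203143 (iv4 D143384)
theorem F427142 : act 0 n203143 = n202587 := d17_0 F424637 (iv1 F387236) (iv5 D160077) F114991 D76663 F233102 (iv5 F235517) F356856 D203143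
theorem F427143 : act 1 n203143 = n194077 := d18_6 (iv1 D80566) F57660 (iv1 F190059) (iv4 F106224) (iv5 F318165) D203143 F391992 (iv0 D117849) (iv5 F315621)
theorem F427144 : act 5 n199076 = n203143 := d6_0 F427140 (iv5 D199078) D199076
theorem F427145 : act 0 n139517 = n199076 := d17_0 F427144 F427142 F424637 F387235 (iv5 D138316) D138315 (iv5 F384411) F424932 F424930
def n203144 : Q := act 1 n117816
theorem D203144 : act 1 n117816 = n203144 := rfl
theorem F427146 : act 1 n203144 = n123235 := d15_1 D203144 (iv7 F427135) F427133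
theorem F427147 : act 7 n203144 = n133775 := d15_2 (iv0 F361489) D203144 F313758
theorem F427148 : act 4 n203144 = n133778 := d18_7 (iv1 F332440) (iv4 F360539) (iv1 D117619) F85515 D54266 D117816 D203144 (iv0 F234100) (iv5 F234773)
theorem F427149 : act 3 n124145 = n203144 := d20_9 (iv4 D117816) (iv1 F316795) (iv4 F108134) (iv3 F317257) (iv1 F156675) F344091 (iv4 D85977) (iv1 F131909) (iv4 F306499) (iv1 D203144)
theorem F427150 : act 2 n203144 = n123174 := d0_1 F427149 F197406 F90498 (iv3 F91143) (iv2 F198609)
theorem F427151 : act 6 n203144 = n123172 := d7_2 D124145 F427149 F197398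
def n203145 : Q := act 3 n117816
theorem D203145 : act 3 n117816 = n203145 := rfl
theorem F427152 : act 4 n203145 = n117841 := d5_2 D117816 D203145 (iv3 D117841) (iv4 D54276) (iv3 F85602)
theorem F427153 : act 6 n203145 = n143591 := d7_2 (iv6 F184496) D203145 (iv3 D143591)
theorem F427154 : act 7 n203145 = n125360 := d8_2 (iv7 F316805) D203145 F361497
theorem F427155 : act 0 n203145 = n191807 := d20_10 F384505 (iv1 F333745) (iv4 F389104) F389103 F308443 (iv3 F198236) (iv4 F361486) (iv1 D117815) D117816 D203145
theorem F427156 : act 0 n173515 = n203145 := d20_4 F272680 (iv1 F272685) F272736 F357795 (iv3 D203145) (iv4 D117816) (iv1 F316795) (iv4 F108134) (iv3 F317257) (iv1 F156675)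
theorem F427157 : act 2 n191809 = n203145 := d3_3 F427153 (iv2 F363367) (iv6 F384509)
def n203146 : Q := act 5 n117816
theorem D203146 : act 5 n117816 = n203146 := rfl
theorem F427158 : act 2 n203146 = n122688 := d2_1 D203146 (iv5 F427136) F427133
theorem F427159 : act 7 n203146 = n122689 := d13_2 (iv7 F316805) D203146 (iv5 F361503)
theorem F427160 : act 0 n203146 = n122346 := d17_2 (iv1 D203144) D203146 (iv5 D122346) F89627 D81550 (iv0 F332439) F321789 (iv0 F215410) (iv4 F427148)
theorem F427161 : act 1 n203146 = n122672 := d17_6 (iv1 D151799) F318168 (iv1 D54265) D54266 D117816 D203146 (iv5 D122672) (iv0 F301998) F301999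
def n203147 : Q := act 4 n117818
theorem D203147 : act 4 n117818 = n203147 := rfl
theorem F427162 : act 2 n203147 = n148379 := d1_1 D203147 (iv4 D148379) (iv2 F319982)
theorem F427163 : act 6 n203147 = n143712 := d10_2 (iv6 F313422) D203147 (iv4 D143712)
theorem F427164 : act 7 n203147 = n142377 := d11_2 (iv7 F317780) D203147 F225299
theorem F427165 : act 5 n203147 = n152708 := d17_5 (iv1 D120674) F87988 D61533 (iv5 F315547) D203147 (iv0 F347074) (iv5 F347096) (iv0 F334172) F340114
theorem F427166 : act 3 n175279 = n203147 := d6_3 F427165 (iv3 F371526) F371527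
theorem F427167 : act 0 n197616 = n175279 := d20_4 F338696 F338695 F209263 (iv3 F405035) F427166 (iv4 D203147) (iv1 F184499) (iv4 F361226) F361225 F338697
def n203148 : Q := act 0 n117821
theorem D203148 : act 0 n117821 = n203148 := rfl
theorem F427168 : act 5 n203148 = n130741 := d17_1 D203148 (iv1 F352092) (iv5 F352079) F340118 F302807 (iv0 F309778) (iv5 F315547) (iv0 D117818) D117821
theorem F427169 : act 6 n203148 = n143723 := d21_5 F353469 (iv1 D125064) (iv5 F192320) F192321 D203148 F324818 (iv1 F239894) (iv5 F425351) F425352 F339412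
theorem F427170 : act 2 n148386 = n203148 := d15_3 (iv0 D203148) (iv0 F370562) F370561
theorem F427171 : act 1 n134568 = n203148 := d15_0 (iv0 D203148) F184506 (iv2 F361224)
theorem F427172 : act 7 n203148 = n143599 := d15_2 (iv0 F370565) F427171 (iv2 F370564)
def n203149 : Q := act 3 n117842
theorem D203149 : act 3 n117842 = n203149 := rfl
theorem F427173 : act 2 n203149 = n187074 := d0_1 D203149 F369038 (iv2 F157500) F355599 (iv2 F184561)
theorem F427174 : act 5 n203149 = n192710 := d6_2 (iv5 F355595) D203149 F387582
theorem F427175 : act 6 n203149 = n187072 := d7_2 F355600 D203149 F369028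
theorem F427176 : act 7 n203149 = n146785 := d8_2 (iv7 F184562) D203149 F230145
def n203150 : Q := act 3 n117843
theorem D203150 : act 3 n117843 = n203150 := rfl
theorem F427177 : act 4 n203150 = n148439 := d5_2 D117843 D203150 (iv3 D148439) (iv4 D69558) (iv3 F85640)
theorem F427178 : act 6 n203150 = n151558 := d7_2 F250219 D203150 F347360
theorem F427179 : act 7 n203150 = n148517 := d8_2 (iv7 F184564) D203150 (iv3 D148517)
def n203151 : Q := act 5 n117843
theorem D203151 : act 5 n117843 = n203151 := rfl
theorem F427180 : act 2 n203151 = n117847 := d2_1 D203151 (iv5 D117847) (iv2 F184563)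
theorem F427181 : act 7 n203151 = n148518 := d13_2 (iv7 F184564) D203151 (iv5 D148518)
theorem F427182 : act 4 n203151 = n201534 := d16_2 D117843 D203151 (iv5 D201534) F339324 (iv5 D148543) (iv4 D69612) (iv5 D32317) (iv7 F51256) D54280
theorem F427183 : act 1 n203151 = n123846 := d17_6 D55162 (iv5 F188613) (iv1 F184787) (iv5 D117844) D117843 D203151 (iv5 D123846) (iv0 F331648) (iv4 D55164)
theorem F427184 : act 0 n203151 = n148531 := d21_1 D203151 F233292 (iv6 F230351) (iv1 D68885) (iv6 D32038) D32037 D68880 F105068 D69396 F230225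
def n203152 : Q := act 4 n117844
theorem D203152 : act 4 n117844 = n203152 := rfl
theorem F427185 : act 2 n203152 = n117848 := d1_1 D203152 (iv4 D117848) (iv2 F184783)
theorem F427186 : act 3 n203152 = n152616 := d5_1 D203152 F239814 (iv3 F232576) (iv4 F306296) (iv3 F184784)
theorem F427187 : act 5 n203152 = n152379 := d9_2 D117844 D203152 F339356 (iv5 F339334) (iv4 D148532) (iv5 D69608) (iv4 D32316) D32317 D69612 D148543 (iv4 F339324) D201534 (iv4 F427182) (iv5 D203151) (iv4 D117843)
theorem F427188 : act 6 n203152 = n126816 := d10_2 (iv6 F188093) D203152 F324080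
theorem F427189 : act 7 n203152 = n148520 := d11_2 (iv7 F184785) D203152 (iv4 D148520)
theorem F427190 : act 0 n203152 = n148542 := d17_0 (iv5 F233313) (iv1 D119851) (iv5 D55160) (iv4 D26656) D26657 D55163 (iv5 F188609) (iv0 F184786) D203152
theorem F427191 : act 1 n203152 = n148541 := d15_1 (iv0 F427190) (iv7 F244462) F244461
def n203153 : Q := act 0 n117846
theorem D203153 : act 0 n117846 = n203153 := rfl
theorem F427192 : act 4 n203153 = n143520 := d18_3 F317918 (iv4 F184790) D203153 (iv5 F356516) F309784 (iv0 F311662) F97963 D62780 (iv5 F317920)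
theorem F427193 : act 2 n148526 = n203153 := d15_3 (iv0 D203153) F424657 F424655
theorem F427194 : act 1 n143494 = n203153 := d15_0 (iv0 D203153) F184791 (iv2 F366556)
theorem F427195 : act 7 n203153 = n140052 := d15_2 (iv0 F424656) F427194 (iv2 F424653)
def n203154 : Q := act 2 n117846
theorem D203154 : act 2 n117846 = n203154 := rfl
theorem F427196 : act 4 n203154 = n117851 := d1_2 (iv4 F184790) D203154 (iv2 D117851)
theorem F427197 : act 7 n203154 = n143494 := d4_2 (iv7 F184791) D203154 F366556
theorem F427198 : act 1 n203154 = n140052 := d15_0 F366426 (iv7 F184791) D203154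
theorem F427199 : act 1 n148526 = n203154 := d15_0 F427198 (iv7 F427195) (iv2 F427193)
theorem F427200 : act 5 n191772 = n203154 := d17_7 F356852 F314869 (iv1 F233990) F348310 F314030 F348308 F384407 F427198 F366427
def n203155 : Q := act 5 n117846
theorem D203155 : act 5 n117846 = n203155 := rfl
theorem F427201 : act 2 n203155 = n191772 := d2_1 D203155 F427200 (iv2 D203154)
theorem F427202 : act 3 n203155 = n117847 := d6_1 D203155 (iv5 D117847) D117846
theorem F427203 : act 7 n203155 = n148528 := d13_2 (iv7 F184791) D203155 (iv5 D148528)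
theorem F427204 : act 4 n203155 = n188170 := d16_2 (iv4 F184790) D203155 F372544 F189444 (iv5 F106995) F106994 F320081 (iv7 F184797) (iv2 D117851)
theorem F427205 : act 0 n203155 = n202674 := d17_2 (iv1 F424657) D203155 F425029 F319414 F311569 F306600 D150623 (iv0 F342590) (iv4 F424654)
theorem F427206 : act 6 n188169 = n203155 := d10_0 F427204 (iv6 D188170) D188169
def n203156 : Q := act 6 n117847
theorem D203156 : act 6 n117847 = n203156 := rfl
theorem F427207 : act 3 n203156 = n188169 := d7_1 D203156 F427206 F427202
theorem F427208 : act 4 n203156 = n201442 := d10_1 D203156 F420525 (iv4 F339222)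
theorem F427209 : act 5 n203156 = n198982 := d12_1 D203156 (iv6 D198982) F336962 F131042 D117847
theorem F427210 : act 0 n201505 = n203156 := d21_4 (iv5 F379628) (iv1 F420756) (iv5 D201504) D201505 (iv6 D203156) (iv5 D117847) D117845 (iv5 F355573) F355601 (iv1 F237954)
theorem F427211 : act 7 n191775 = n203156 := d11_0 F427208 (iv7 F420526) (iv4 F384413)
def n203157 : Q := act 6 n117868
theorem D203157 : act 6 n117868 = n203157 := rfl
theorem F427212 : act 2 n203157 = n117875 := d3_1 D203157 (iv6 D117875) (iv2 F184819)
theorem F427213 : act 4 n203157 = n117870 := d10_1 D203157 (iv6 D117870) D117868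
theorem F427214 : act 5 n203157 = n192533 := d12_1 D203157 (iv6 D192533) (iv5 D100357) D100358 F349286
theorem F427215 : act 0 n203157 = n202882 := d21_4 F177587 (iv1 F349288) F349286 D203157 (iv6 F426020) (iv5 D201216) (iv1 F398339) F398336 (iv6 D119953) (iv1 F333303)
theorem F427216 : act 0 n147984 = n203157 := d21_4 F355732 (iv1 D151666) F334835 D147984 (iv6 D203157) (iv5 F349286) (iv1 F349287) F153655 D188556 (iv1 F373943)
theorem F427217 : act 4 n192533 = n201610 := d18_5 (iv1 F421133) F231829 (iv1 F233042) (iv4 F427213) F427214 (iv0 D201610) (iv4 D114884) D114883 D201609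
theorem F427218 : act 6 n201610 = n192532 := d10_2 D192533 F427217 (iv4 D192532)
def n203158 : Q := act 2 n117873
theorem D203158 : act 2 n117873 = n203158 := rfl
theorem F427219 : act 3 n203158 = n187432 := d0_2 D117873 D203158 F374093 (iv3 F374090) F184819
theorem F427220 : act 4 n203158 = n117885 := d1_2 (iv4 F184844) D203158 (iv2 D117885)
theorem F427221 : act 5 n203158 = n187507 := d2_2 F374226 D203158 (iv2 F374223)
theorem F427222 : act 6 n203158 = n128123 := d3_2 (iv6 F317823) D203158 F206201
theorem F427223 : act 7 n203158 = n148451 := d4_2 (iv7 F184845) D203158 (iv2 D148451)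
theorem F427224 : act 1 n203158 = n148449 := d15_0 (iv0 D148449) (iv7 F184845) D203158
theorem F427225 : act 1 n127774 = n203158 := d15_0 F427224 (iv7 F373872) F373870
def n203159 : Q := act 5 n117875
theorem D203159 : act 5 n117875 = n203159 := rfl
theorem F427226 : act 2 n203159 = n192533 := d2_1 D203159 (iv5 F427214) F427212
theorem F427227 : act 3 n203159 = n149294 := d6_1 D203159 (iv5 D149294) (iv3 F316773)
theorem F427228 : act 6 n203159 = n188970 := d12_2 D117875 D203159 (iv5 D188970) (iv6 F349289) F333309
theorem F427229 : act 1 n203159 = n189022 := d17_6 D68646 (iv5 F339612) F339610 (iv5 D117881) (iv4 F184847) D203159 F375444 F338199 F104843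
def n203160 : Q := act 4 n117879
theorem D203160 : act 4 n117879 = n203160 := rfl
theorem F427230 : act 3 n203160 = n164207 := d5_1 D203160 F258823 (iv3 F339578) (iv4 F338651) F338649
theorem F427231 : act 6 n203160 = n201381 := d10_2 (iv6 F338650) D203160 F420266
theorem F427232 : act 7 n203160 = n148010 := d11_2 (iv7 F247839) D203160 F231829
theorem F427233 : act 5 n203160 = n201601 := d17_5 (iv1 D31968) D31969 D68713 (iv5 F232923) D203160 F421106 (iv5 D114880) F317595 (iv4 D68710)
theorem F427234 : act 0 n203160 = n148915 := d17_0 F421090 (iv1 D201597) (iv5 D114870) F314939 (iv5 F339612) (iv0 F426629) F426627 (iv0 F315986) D203160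
def n203161 : Q := act 3 n117900
theorem D203161 : act 3 n117900 = n203161 := rfl
theorem F427235 : act 2 n203161 = n147769 := d0_1 D203161 (iv3 D147769) (iv2 F337987) F335063 (iv2 F184901)
theorem F427236 : act 5 n203161 = n127901 := d6_2 (iv5 F228864) D203161 F338173
theorem F427237 : act 6 n203161 = n128096 := d7_2 F322573 D203161 (iv3 F354107)
theorem F427238 : act 7 n203161 = n148645 := d8_2 (iv7 F184902) D203161 (iv3 D148645)
def n203162 : Q := act 5 n117905
theorem D203162 : act 5 n117905 = n203162 := rfl
theorem F427239 : act 3 n203162 = n195743 := d6_1 D203162 F398020 F204552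
theorem F427240 : act 6 n203162 = n134303 := d12_2 (iv6 F349088) D203162 F218080 (iv6 F333240) (iv5 F349080)
theorem F427241 : act 7 n203162 = n148594 := d13_2 (iv7 F184916) D203162 (iv5 D148594)
theorem F427242 : act 4 n203162 = n134305 := d16_2 D117905 D203162 (iv5 F390339) F390323 (iv5 F424455) F424454 F363469 F327181 F247754
theorem F427243 : act 0 n203162 = n195572 := d17_2 F339592 D203162 F397403 (iv4 F335038) (iv5 D139958) (iv0 D65707) D65709 F325726 D138698
def n203163 : Q := act 7 n117916
theorem D203163 : act 7 n117916 = n203163 := rfl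
theorem F427244 : act 2 n203163 = n124170 := d4_1 D203163 F297821 (iv2 F184930)
theorem F427245 : act 3 n203163 = n117920 := d8_1 D203163 (iv7 D117920) (iv3 F184931)
theorem F427246 : act 4 n203163 = n123214 := d11_1 D203163 F337504 (iv4 F184932)
theorem F427247 : act 6 n203163 = n118137 := d14_1 D203163 (iv7 D118137) F85926 (iv7 F85707) D117916
theorem F427248 : act 1 n124505 = n203163 := d15_1 D124505 (iv7 D203163) F184930
theorem F427249 : act 1 n203163 = n123178 := d15_1 F427248 (iv7 F348250) (iv2 F348243)
def n203164 : Q := act 3 n117951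
theorem D203164 : act 3 n117951 = n203164 := rfl
theorem F427250 : act 2 n203164 = n176085 := d0_1 D203164 (iv3 D176085) (iv2 F347637) F347638 (iv2 F185006)
theorem F427251 : act 4 n203164 = n124560 := d5_2 D117951 D203164 (iv3 D124560) (iv4 D58135) (iv3 F85742)
theorem F427252 : act 6 n203164 = n124665 := d7_2 (iv6 F185007) D203164 F199412
theorem F427253 : act 0 n147678 = n203164 := d20_4 (iv4 F424624) F424626 (iv4 D147679) D147678 (iv3 D203164) (iv4 D117951) (iv1 F308902) (iv4 F323516) F323515 F353464
theorem F427254 : act 0 n203164 = n175450 := d21_4 (iv5 F347459) F347457 (iv5 F199413) (iv6 F427252) (iv6 D175450) (iv5 D83781) (iv1 F113387) (iv5 F249561) F298188 (iv1 F336428)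
def n203165 : Q := act 5 n118071
theorem D203165 : act 5 n118071 = n203165 := rfl
theorem F427255 : act 2 n203165 = n124318 := d2_1 D203165 (iv5 D124318) (iv2 F185498)
theorem F427256 : act 3 n203165 = n118074 := d6_1 D203165 (iv5 D118074) (iv3 F185499)
theorem F427257 : act 6 n203165 = n118797 := d12_2 D118071 D203165 (iv5 F327681) (iv6 D99955) (iv5 F85861)
theorem F427258 : act 4 n203165 = n118787 := d16_2 (iv4 F185500) D203165 (iv5 D118787) (iv4 F90063) D122668 F341193 F309228 (iv7 D84347) (iv2 F85925)
theorem F427259 : act 0 n203165 = n152061 := d17_2 F339051 D203165 (iv5 D152061) F108174 (iv5 F86530) D118907 F332503 F222229 F339050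
theorem F427260 : act 1 n203165 = n151596 := d17_6 (iv1 F313840) (iv5 F339131) F339128 (iv5 F311063) (iv4 F185500) D203165 (iv5 D151596) (iv0 F339036) F339039
theorem F427261 : act 7 n118905 = n203165 := d11_0 F427258 F305893 (iv4 F186955)
def n203166 : Q := act 7 n118071
theorem D203166 : act 7 n118071 = n203166 := rfl
theorem F427262 : act 2 n203166 = n124179 := d4_1 D203166 F301978 (iv2 F185498)
theorem F427263 : act 3 n203166 = n118075 := d8_1 D203166 (iv7 D118075) (iv3 F185499)
theorem F427264 : act 4 n203166 = n118137 := d11_1 D203166 (iv7 D118137) (iv4 F185500)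
theorem F427265 : act 5 n203166 = n118905 := d13_1 D203166 F427261 (iv5 D203165)
theorem F427266 : act 6 n203166 = n123214 := d14_1 D203166 F337504 (iv6 D69906) (iv7 F85862) D118071
theorem F427267 : act 1 n123240 = n203166 := d15_1 (iv0 F348232) (iv7 D203166) F185498
theorem F427268 : act 1 n203166 = n124316 := d15_1 F427267 (iv7 F339054) (iv2 F341196)
def n203167 : Q := act 5 n118090
theorem D203167 : act 5 n118090 = n203167 := rfl
theorem F427269 : act 2 n203167 = n118202 := d2_1 D203167 (iv5 F233015) F233013
theorem F427270 : act 3 n203167 = n191426 := d6_1 D203167 (iv5 F383465) F361467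
theorem F427271 : act 6 n203167 = n136841 := d12_2 D118090 D203167 (iv5 F220036) (iv6 D136241) F327127
theorem F427272 : act 7 n203167 = n118201 := d13_2 F278980 D203167 F278981
theorem F427273 : act 0 n203167 = n118172 := d17_2 (iv1 F306501) D203167 (iv5 D118172) F85981 D54442 (iv0 F185561) (iv5 D118110) F155242 (iv4 F304461)
theorem F427274 : act 1 n203167 = n118204 := d17_6 F190156 (iv5 F109140) (iv1 F241291) (iv5 F241292) F190951 D203167 F185742 (iv0 F185685) F185684
def n203168 : Q := act 5 n118095
theorem D203168 : act 5 n118095 = n203168 := rfl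
theorem F427275 : act 3 n203168 = n124691 := d6_1 D203168 (iv5 D124691) (iv3 F305131)
theorem F427276 : act 6 n203168 = n137240 := d12_2 D118095 D203168 F220382 (iv6 D136244) F327128
theorem F427277 : act 7 n203168 = n154110 := d13_2 (iv7 F305132) D203168 (iv5 D154110)
theorem F427278 : act 0 n203168 = n150098 := d17_2 (iv1 F397615) D203168 (iv5 D150098) (iv4 D70630) D70631 (iv0 F107163) F107162 (iv0 F185569) (iv4 F397611)
theorem F427279 : act 1 n203168 = n150093 := d17_6 D118067 F310272 F191376 F308046 F190933 D203168 (iv5 D150093) F232741 (iv4 F85852)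
theorem F427280 : act 6 n138113 = n192975 := d21_5 (iv5 D64505) (iv1 F99507) D126785 F204039 D138113 (iv5 F397613) (iv1 F397615) D203168 F427276 (iv1 F220383)
def n203169 : Q := act 3 n118096
theorem D203169 : act 3 n118096 = n203169 := rfl
theorem F427281 : act 2 n203169 = n191511 := d0_1 D203169 (iv3 F383625) F242669 (iv3 F408404) F408403
theorem F427282 : act 5 n203169 = n133594 := d6_2 (iv5 F322837) D203169 F333415
theorem F427283 : act 6 n203169 = n136809 := d7_2 (iv6 F322838) D203169 (iv3 D136809)
theorem F427284 : act 7 n203169 = n191512 := d8_2 F306513 D203169 (iv3 F383628)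
theorem F427285 : act 0 n203169 = n191514 := d20_4 D154073 F365575 (iv4 F322836) D203169 F383631 (iv4 F156803) (iv1 F156804) (iv4 D47335) D47334 (iv1 F286853)
theorem F427286 : act 0 n191507 = n203169 := d17_2 (iv1 F366233) D191507 F427282 (iv4 D133594) (iv5 F304075) F304073 F188619 (iv0 F130964) D120233
def n203170 : Q := act 1 n118103
theorem D203170 : act 1 n118103 = n203170 := rfl
theorem F427287 : act 1 n203170 = n179929 := d15_1 D203170 F280212 F243945
theorem F427288 : act 7 n203170 = n149074 := d15_2 (iv0 F330102) D203170 F234451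
theorem F427289 : act 4 n203170 = n155158 := d17_9 (iv1 D155158) (iv5 F347020) (iv1 F347047) F347049 F120193 D105903 F239963 (iv5 F239955) D203170
theorem F427290 : act 5 n203170 = n202347 := d18_9 (iv1 D202347) F180008 (iv1 F348351) F179811 F316289 (iv4 F92292) D124988 (iv4 F200760) D203170
theorem F427291 : act 3 n181402 = n203170 := d20_3 (iv4 F125744) F309032 (iv4 F282518) (iv1 D203170) F185551 (iv4 F321085) F321083 F200485 F92215 F190653
theorem F427292 : act 6 n181400 = n203170 := d21_3 (iv5 F227906) F259428 F348720 (iv1 D203170) (iv6 D118103) D118102 (iv1 F303696) F303697 F238782 (iv1 F233070)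
theorem F427293 : act 2 n203170 = n149918 := d3_1 F427292 (iv6 F305847) (iv2 F282515)
def n203171 : Q := act 3 n118166
theorem D203171 : act 3 n118166 = n203171 := rfl
theorem F427294 : act 4 n203171 = n128383 := d5_2 (iv4 F185676) D203171 (iv3 D128383) F94881 (iv3 F107055)
theorem F427295 : act 7 n203171 = n150039 := d8_2 (iv7 F185679) D203171 (iv3 D150039)
def n203172 : Q := act 5 n118166
theorem D203172 : act 5 n118166 = n203172 := rfl
theorem F427296 : act 2 n203172 = n150037 := d2_1 D203172 (iv5 D150037) F185677
theorem F427297 : act 4 n203172 = n150040 := d9_1 D203172 (iv5 D150040) F107740 F107736 (iv4 F106798) F106799 D73376 D154724 F242906 (iv5 D150037) F107060 F105560 F95989 (iv5 F107052) (iv4 F185676)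
theorem F427298 : act 7 n203172 = n150040 := d13_2 (iv7 F185679) D203172 (iv5 D150040)
theorem F427299 : act 0 n203172 = n145110 := d17_2 D118166 D203172 (iv5 D145110) (iv4 D68021) (iv5 D31655) F26690 D34020 (iv0 F53350) D54437
theorem F427300 : act 1 n203172 = n145103 := d17_6 F105548 (iv5 F55629) F55628 (iv5 F107052) (iv4 F185676) D203172 (iv5 D145103) D145101 F228065
def n203173 : Q := act 6 n118166
theorem D203173 : act 6 n118166 = n203173 := rfl
theorem F427301 : act 2 n203173 = n150038 := d3_1 D203173 (iv6 D150038) F185677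
theorem F427302 : act 4 n203173 = n150033 := d10_1 D203173 (iv6 D150033) (iv4 F185676)
theorem F427303 : act 0 n195519 = n203173 := d21_4 (iv5 D195524) (iv1 D105649) D105650 (iv6 F397203) (iv6 D203173) D203172 F427299 (iv5 D145110) (iv6 F318711) (iv1 F397215)
theorem F427304 : act 1 n195519 = n169826 := d15_1 (iv0 F427303) F363486 (iv2 F427301)
def n203174 : Q := act 5 n118169
theorem D203174 : act 5 n118169 = n203174 := rfl
theorem F427305 : act 2 n203174 = n122346 := d2_1 D203174 (iv5 D122346) (iv2 F185681)
theorem F427306 : act 3 n203174 = n118172 := d6_1 D203174 (iv5 D118172) (iv3 F185682)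
theorem F427307 : act 4 n203174 = n185272 := d9_1 D203174 (iv5 D185272) D185271 (iv5 F426780) (iv4 F426778) (iv5 D122602) F89983 D56987 D122690 F426781 D185276 F426782 F426771 (iv5 D150387) (iv4 F185683)
theorem F427308 : act 6 n203174 = n191468 := d12_2 D118169 D203174 (iv5 D191468) (iv6 D98378) (iv5 F85976)
theorem F427309 : act 7 n203174 = n122672 := d13_2 (iv7 F302004) D203174 (iv5 D122672)
theorem F427310 : act 0 n203174 = n122689 := d17_2 (iv1 F302003) D203174 (iv5 F361503) (iv4 D133627) (iv5 F313304) F184491 F332523 F332491 (iv4 D122680)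
theorem F427311 : act 1 n203174 = n122688 := d17_6 (iv1 F332435) (iv5 F424664) F424666 (iv5 D150387) (iv4 F185683) D203174 (iv5 F427136) F427138 F197407
def n203175 : Q := act 0 n118172
theorem D203175 : act 0 n118172 = n203175 := rfl
theorem F427312 : act 5 n203175 = n124151 := d17_3 (iv1 D118171) D118172 D203175 F306504 (iv5 F232971) F241298 (iv5 D72588) D72587 (iv4 F190269)
theorem F427313 : act 2 n118201 = n203175 := d15_3 (iv0 D203175) (iv0 F427273) F427272
theorem F427314 : act 7 n203175 = n118202 := d4_2 F427272 F427313 (iv2 F427269)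
theorem F427315 : act 3 n153423 = n203175 := d8_3 F427314 F351879 (iv7 F240993)
theorem F427316 : act 1 n118204 = n203175 := d15_1 F427274 F427314 (iv2 F427269)
def n203176 : Q := act 4 n118172
theorem D203176 : act 4 n118172 = n203176 := rfl
theorem F427317 : act 2 n203176 = n118203 := d1_1 D203176 (iv4 D118203) (iv2 F185687)
theorem F427318 : act 6 n203176 = n202921 := d10_2 F236304 D203176 F426197
def n203177 : Q := act 7 n118172
theorem D203177 : act 7 n118172 = n203177 := rfl
theorem F427319 : act 2 n203177 = n118204 := d4_1 D203177 (iv7 D118204) (iv2 F185687)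
theorem F427320 : act 3 n203177 = n122672 := d8_1 D203177 (iv7 F427309) F427306
theorem F427321 : act 5 n203177 = n118173 := d13_1 D203177 (iv7 D118173) D118172
theorem F427322 : act 1 n118202 = n203177 := d15_1 D118202 (iv7 D203177) F185687
theorem F427323 : act 1 n203177 = n118201 := d15_1 F427322 (iv7 F427272) F427269
def n203178 : Q := act 0 n118181
theorem D203178 : act 0 n118181 = n203178 := rfl
theorem F427324 : act 4 n203178 = n118841 := d18_3 F185561 D118181 D203178 F232971 (iv4 F306504) F306502 F131713 (iv0 F155241) D118110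
theorem F427325 : act 2 n118244 = n203178 := d1_3 F427324 F190932 (iv4 F278982)
theorem F427326 : act 3 n192271 = n203178 := d5_5 F427324 (iv3 D118841) (iv4 F339156) D192056 F386256
theorem F427327 : act 6 n144430 = n203178 := d10_0 F427324 (iv6 F340775) F348295
theorem F427328 : act 7 n118245 = n203178 := d11_0 F427324 F190930 F190931
theorem F427329 : act 1 n118248 = n203178 := d18_6 F190168 (iv4 F185684) F185685 F85998 (iv5 F86004) (iv4 F185778) F427324 F241298 (iv5 D72588)
def n203179 : Q := act 1 n118181
theorem D203179 : act 1 n118181 = n203179 := rfl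
theorem F427330 : act 1 n203179 = n118248 := d15_1 D203179 (iv7 D118248) (iv2 F185709)
theorem F427331 : act 7 n203179 = n118244 := d15_2 (iv0 D203178) D203179 F427325
theorem F427332 : act 4 n203179 = n153525 := d18_7 (iv1 F109108) (iv4 F190269) (iv1 D118171) F85981 D54442 D118181 D203179 F241291 F109140
theorem F427333 : act 6 n125175 = n203179 := d21_3 D49947 D108141 (iv5 F316477) (iv1 D203179) F185710 D118186 (iv1 F236055) (iv5 D150035) F315169 (iv1 D49945)
theorem F427334 : act 2 n203179 = n118245 := d3_1 F427333 (iv6 F233011) (iv2 F232984)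
def n203180 : Q := act 3 n118181
theorem D203180 : act 3 n118181 = n203180 := rfl
theorem F427335 : act 2 n203180 = n197286 := d0_1 D203180 (iv3 D197286) F167088 (iv3 F318746) (iv2 F185709)
theorem F427336 : act 4 n203180 = n120094 := d5_2 D118181 D203180 F189703 F87449 (iv3 F85984)
theorem F427337 : act 6 n203180 = n118185 := d7_2 (iv6 F185710) D203180 (iv3 D118185)
def n203181 : Q := act 5 n118181
theorem D203181 : act 5 n118181 = n203181 := rfl
theorem F427338 : act 2 n203181 = n118247 := d2_1 D203181 (iv5 D118247) (iv2 F185709)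
theorem F427339 : act 0 n203181 = n195499 := d17_2 (iv1 D203179) D203181 (iv5 D195499) F162233 (iv5 F321298) (iv0 F190168) D72588 D153525 (iv4 F427332)
def n203182 : Q := act 7 n118181
theorem D203182 : act 7 n118181 = n203182 := rfl
theorem F427340 : act 2 n203182 = n118248 := d4_1 D203182 (iv7 D118248) (iv2 F185709)
theorem F427341 : act 4 n203182 = n118182 := d11_1 D203182 (iv7 D118182) D118181
theorem F427342 : act 6 n203182 = n155896 := d14_1 D203182 (iv7 D155896) (iv6 D74143) (iv7 F85993) (iv6 F185710)
theorem F427343 : act 1 n118245 = n203182 := d15_1 D118245 (iv7 D203182) F185709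
theorem F427344 : act 1 n203182 = n118244 := d15_1 F427343 (iv7 F427331) F427334
def n203183 : Q := act 3 n118183
theorem D203183 : act 3 n118183 = n203183 := rfl
theorem F427345 : act 4 n203183 = n118877 := d5_2 (iv4 F185717) D203183 (iv3 D118877) (iv4 D54714) D54713
theorem F427346 : act 7 n203183 = n118274 := d8_2 F185720 D203183 (iv3 D118274)
def n203184 : Q := act 3 n118184
theorem D203184 : act 3 n118184 = n203184 := rfl
theorem F427347 : act 4 n203184 = n155581 := d5_2 (iv4 F185723) D203184 (iv3 D155581) (iv4 D74018) (iv3 F104124)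
theorem F427348 : act 6 n203184 = n144421 := d7_2 (iv6 F321291) D203184 (iv3 D144421)
theorem F427349 : act 7 n203184 = n118271 := d8_2 (iv7 F185722) D203184 (iv3 D118271)
theorem F427350 : act 0 n191917 = n203184 := d20_4 (iv4 F388255) (iv1 D192930) D192932 F388268 (iv3 D203184) F185723 F104127 D72590 D153528 F366315
theorem F427351 : act 2 n192472 = n203184 := d15_3 (iv0 F427350) (iv0 F385219) (iv7 F386765)
theorem F427352 : act 1 n192470 = n203184 := d15_0 (iv0 F427350) F384828 (iv2 F386759)
def n203185 : Q := act 0 n118185
theorem D203185 : act 0 n118185 = n203185 := rfl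
theorem F427353 : act 5 n203185 = n197360 := d17_1 D203185 F404044 F404054 F404049 F325004 F100125 (iv5 F331291) (iv0 F331309) (iv4 F185725)
theorem F427354 : act 4 n203185 = n126759 := d18_3 F322912 (iv4 F185725) D203185 F203978 F93870 (iv0 F111381) D31483 F111235 D64260
theorem F427355 : act 1 n144710 = n203185 := d15_0 (iv0 D203185) F185726 (iv2 F324695)
theorem F427356 : act 2 n155888 = n203185 := d1_3 F427354 F362006 F329938
theorem F427357 : act 7 n126758 = n203185 := d11_0 F427354 (iv7 D126759) D126758
def n203186 : Q := act 1 n118185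
theorem D203186 : act 1 n118185 = n203186 := rfl
theorem F427358 : act 1 n203186 = n144710 := d15_1 D203186 (iv7 F396860) F396858
theorem F427359 : act 7 n203186 = n155888 := d15_2 (iv0 D203185) D203186 F427356
theorem F427360 : act 4 n203186 = n126628 := d18_7 (iv1 D107695) F78618 D49753 (iv4 F319214) (iv5 F87446) (iv4 F185725) D203186 (iv0 F403189) (iv5 D197132)
theorem F427361 : act 2 n126758 = n203186 := d1_3 F427360 F203710 D126758
theorem F427362 : act 3 n191160 = n203186 := d5_5 F427360 (iv3 F329040) (iv4 D97343) (iv3 F150068) D191160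
theorem F427363 : act 6 n203186 = n144407 := d7_2 (iv6 F382443) F427362 F227186
def n203187 : Q := act 5 n118185
theorem D203187 : act 5 n118185 = n203187 := rfl
theorem F427364 : act 3 n203187 = n118186 := d6_1 D203187 (iv5 D118186) D118185
theorem F427365 : act 7 n203187 = n155890 := d13_2 (iv7 F185726) D203187 (iv5 D155890)
theorem F427366 : act 4 n203187 = n197363 := d16_2 (iv4 F185725) D203187 (iv5 D197363) (iv4 D108117) F93885 (iv4 F321638) (iv5 F110867) (iv7 F189699) (iv2 D120093)
def n203188 : Q := act 6 n118186
theorem D203188 : act 6 n118186 = n203188 := rfl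
theorem F427367 : act 2 n203188 = n118283 := d3_1 D203188 (iv6 D118283) (iv2 F185727)
theorem F427368 : act 0 n195364 = n203188 := d21_4 F404046 (iv1 F203993) (iv5 F396851) (iv6 F396853) (iv6 D203188) (iv5 D118186) D118183 (iv5 F228100) F351853 F404047
def n203189 : Q := act 5 n118192
theorem D203189 : act 5 n118192 = n203189 := rfl
theorem F427369 : act 2 n203189 = n153665 := d2_1 D203189 (iv5 D153665) (iv2 F302995)
theorem F427370 : act 3 n203189 = n118194 := d6_1 D203189 (iv5 D118194) D118192
theorem F427371 : act 7 n203189 = n191425 := d13_2 F344404 D203189 (iv5 D191425)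
def n203190 : Q := act 4 n118194
theorem D203190 : act 4 n118194 = n203190 := rfl
def n203191 : Q := act 6 n118194
theorem D203191 : act 6 n118194 = n203191 := rfl
theorem F427372 : act 2 n203191 = n182269 := d3_1 D203191 (iv6 F338048) (iv2 F279980)
theorem F427373 : act 5 n203191 = n185252 := d12_1 D203191 (iv6 F338051) (iv5 F234387) (iv6 D118195) D118194
def n203192 : Q := act 4 n118199
theorem D203192 : act 4 n118199 = n203192 := rfl
def n203193 : Q := act 6 n118199
theorem D203193 : act 6 n118199 = n203193 := rfl
theorem F427374 : act 3 n203193 = n153660 := d7_1 D203193 (iv6 D153660) (iv3 F306358)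
theorem F427375 : act 5 n203193 = n136832 := d12_1 D203193 (iv6 F364102) F306411 (iv6 D118200) D118199
theorem F427376 : act 4 n191426 = n203193 := d16_6 F371528 (iv5 F427165) (iv4 D203147) F315547 D131167 F383465 F427375 (iv7 F397624) F397626
theorem F427377 : act 6 n203192 = n191426 := d10_0 F427376 (iv6 D203193) D203192
theorem F427378 : act 3 n136841 = n203192 := d7_3 F427377 (iv3 F427270) F427271
def n203194 : Q := act 3 n118201
theorem D203194 : act 3 n118201 = n203194 := rfl
theorem F427379 : act 2 n203194 = n153672 := d0_1 D203194 (iv3 D153672) (iv2 F240992) F427315 (iv2 F427313)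
theorem F427380 : act 5 n203194 = n179752 := d6_2 (iv5 F278981) D203194 (iv3 D179752)
theorem F427381 : act 7 n203194 = n191426 := d8_2 F427272 D203194 (iv3 F427270)
theorem F427382 : act 0 n184240 = n203194 := d17_2 F306624 D184240 F427380 (iv4 F361464) F319503 (iv0 F319988) D69535 D148390 F319997
theorem F427383 : act 0 n203194 = n191428 := d21_7 (iv5 F109359) F309420 (iv5 F309447) D153930 F346695 (iv6 F361462) (iv5 F427380) F383470 (iv6 F154004) F301794
def n203195 : Q := act 4 n118201
theorem D203195 : act 4 n118201 = n203195 := rfl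
theorem F427384 : act 1 n203195 = n153546 := d18_6 F321083 F200485 D124815 (iv4 F278979) (iv5 F278981) D203195 (iv4 D153546) D153545 (iv5 F321086)
def n203196 : Q := act 6 n118201
theorem D203196 : act 6 n118201 = n203196 := rfl
def n203197 : Q := act 4 n118202
theorem D203197 : act 4 n118202 = n203197 := rfl
theorem F427385 : act 0 n203197 = n153546 := d18_2 (iv1 F427322) D203197 (iv4 D153546) (iv5 D72598) F52831 D33511 (iv4 F190217) F185691 (iv5 F427321)
def n203198 : Q := act 0 n118203
theorem D203198 : act 0 n118203 = n203198 := rfl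
theorem F427386 : act 4 n203198 = n179934 := d18_3 (iv1 D118202) D118203 D203198 (iv5 D179934) (iv4 D85977) (iv0 D39763) (iv4 F60586) D85860 F233015
def n203199 : Q := act 1 n118203
theorem D203199 : act 1 n118203 = n203199 := rfl
theorem F427387 : act 4 n203199 = n179936 := d18_7 (iv1 F190169) (iv4 D54457) (iv1 D26335) (iv4 F41999) D54448 D118203 D203199 F280244 F241343
def n203200 : Q := act 3 n118203
theorem D203200 : act 3 n118203 = n203200 := rfl
theorem F427388 : act 4 n203200 = n122434 := d5_2 D118203 D203200 (iv3 D122434) (iv4 D56736) (iv3 F85996)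
def n203201 : Q := act 5 n118203
theorem D203201 : act 5 n118203 = n203201 := rfl
theorem F427389 : act 6 n203201 = n143089 := d12_2 F284571 D203201 (iv5 F347294) D203127 F427066
def n203202 : Q := act 7 n118203
theorem D203202 : act 7 n118203 = n203202 := rfl
theorem F427390 : act 4 n203202 = n118204 := d11_1 D203202 (iv7 D118204) D118203
def n203203 : Q := act 6 n118204
theorem D203203 : act 6 n118204 = n203203 := rfl
theorem F427391 : act 3 n203203 = n120376 := d7_1 D203203 F191750 (iv3 F305044)
theorem F427392 : act 5 n203203 = n120369 := d12_1 D203203 (iv6 D120369) (iv5 D55408) (iv6 F302700) (iv5 F185742)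
theorem F427393 : act 0 n203101 = n203203 := d17_2 (iv1 F426640) D203101 F427392 (iv4 F276450) (iv5 F424569) (iv0 D202574) D202576 (iv0 F424581) (iv4 F426638)
def n203204 : Q := act 1 n118215
theorem D203204 : act 1 n118215 = n203204 := rfl
theorem F427394 : act 7 n203204 = n150081 := d15_2 F425347 D203204 F236174
theorem F427395 : act 4 n203204 = n152709 := d17_9 (iv1 D152709) (iv5 F346292) F346291 (iv5 D152204) F108252 D86742 (iv0 F234428) F234425 D203204
theorem F427396 : act 5 n203204 = n140824 := d18_9 F339635 (iv4 F346282) F346281 (iv4 D154987) F110193 (iv4 F112622) (iv0 F239418) F239416 D203204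
theorem F427397 : act 3 n138546 = n203204 := d19_19 (iv1 D203204) (iv5 F234425) F234427 F361272 F361280 (iv5 D83677) F311011 F104240 F307048 (iv5 F310924) F48976 (iv3 F48971) (iv1 F48972) F24297 (iv4 F48180) (iv3 F98772) (iv1 F328259) (iv5 F156033) F339632
theorem F427398 : act 6 n138543 = n203204 := d21_3 (iv5 F314597) F245516 (iv5 F222373) (iv1 D203204) (iv6 D118215) (iv5 F319618) F319615 F264606 (iv6 D86793) (iv1 F155121)
theorem F427399 : act 2 n203204 = n150654 := d3_1 F427398 (iv6 F404572) F404570
def n203205 : Q := act 0 n118220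
theorem D203205 : act 0 n118220 = n203205 := rfl
theorem F427400 : act 5 n203205 = n124810 := d17_3 F190192 D118220 D203205 F200485 D124817 F322287 (iv5 F321298) (iv0 F190168) (iv4 F74340)
theorem F427401 : act 1 n118234 = n203205 := d15_0 (iv0 D203205) (iv7 F241339) F241338
theorem F427402 : act 6 n192624 = n203205 := d21_9 (iv5 D118234) (iv1 F190193) D101067 F155736 (iv1 F344210) (iv6 F372905) (iv5 D188267) F338893 D192624 (iv1 F427401)
theorem F427403 : act 3 n203205 = n192629 := d7_1 F427402 (iv6 D192629) (iv3 F387270)
theorem F427404 : act 4 n191473 = n192629 := d19_2 D192291 (iv5 F386329) (iv3 F427403) (iv1 F427401) (iv5 D118234) (iv4 D54457) D54456 (iv1 F188319) D148996 (iv4 F335758) F137111 (iv1 F64413) (iv5 F64463) (iv4 D41803) (iv3 F64457) D89516 F335628 (iv4 F289859) (iv3 F153965)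
theorem F427405 : act 6 n192628 = n191473 := d10_0 F427404 (iv6 D192629) D192628
theorem F427406 : act 1 n192629 = n185987 := d18_6 (iv1 F292184) F140132 F292183 (iv4 F386323) (iv5 F386329) F427404 (iv4 D185987) (iv0 F285533) (iv5 D183762)
theorem F427407 : act 2 n193379 = n203205 := d2_3 F427400 F200484 D193379
def n203206 : Q := act 1 n118220
theorem D203206 : act 1 n118220 = n203206 := rfl
theorem F427408 : act 1 n203206 = n118234 := d15_1 D203206 (iv7 F241337) F241336
theorem F427409 : act 7 n203206 = n193379 := d15_2 (iv0 D203205) D203206 F427407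
theorem F427410 : act 5 n203206 = n192097 := d17_7 (iv1 F131907) (iv5 F319581) (iv1 F321537) (iv5 D54453) D54452 D118220 D203206 F385526 (iv4 D179891)
def n203207 : Q := act 4 n118220
theorem D203207 : act 4 n118220 = n203207 := rfl
def n203208 : Q := act 6 n118220
theorem D203208 : act 6 n118220 = n203208 := rfl
theorem F427411 : act 3 n203208 = n192892 := d7_1 D203208 (iv6 D192892) F366765
theorem F427412 : act 5 n203208 = n193567 := d12_1 D203208 (iv6 D193567) F338072 (iv6 D118221) D118220
def n203209 : Q := act 1 n118221
theorem D203209 : act 1 n118221 = n203209 := rfl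
theorem F427413 : act 7 n203209 = n150087 := d15_2 (iv0 F234297) D203209 F236184
theorem F427414 : act 6 n150235 = n203209 := d21_3 D101540 D193373 F389621 (iv1 D203209) (iv6 D118221) D118220 D203205 F427400 (iv6 D124810) (iv1 F155116)
theorem F427415 : act 3 n203209 = n152159 := d7_1 F427414 (iv6 D152159) (iv3 F315123)
theorem F427416 : act 5 n203209 = n149170 := d21_6 (iv5 F306387) F306385 (iv5 D70716) D70717 D150235 F427414 (iv1 D149170) (iv5 D70006) D70007 F190809
def n203210 : Q := act 0 n118223
theorem D203210 : act 0 n118223 = n203210 := rfl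
theorem F427417 : act 4 n203210 = n124817 := d18_3 (iv1 F321537) D118223 D203210 (iv5 D124817) (iv4 F200485) (iv0 F321083) F321085 F155242 (iv5 F319581)
theorem F427418 : act 1 n118236 = n203210 := d15_0 (iv0 D203210) (iv7 F280247) F280245
theorem F427419 : act 3 n140629 = n203210 := d20_3 F165284 F342500 D140629 (iv1 F427418) (iv3 F396831) F396832 (iv1 F390457) (iv4 F397202) F401569 (iv1 D196712)
theorem F427420 : act 6 n203210 = n140658 := d7_2 (iv6 F223729) F427419 (iv3 D140658)
theorem F427421 : act 2 n195561 = n203210 := d3_3 F427420 F405733 (iv6 F404334)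
theorem F427422 : act 7 n142901 = n203210 := d15_2 (iv0 D195561) (iv0 F356232) (iv2 F427421)
def n203211 : Q := act 1 n118223
theorem D203211 : act 1 n118223 = n203211 := rfl
theorem F427423 : act 1 n203211 = n118236 := d15_1 D203211 (iv7 F317376) (iv2 F319620)
theorem F427424 : act 7 n203211 = n195561 := d15_2 (iv0 D203210) D203211 F427421
theorem F427425 : act 4 n203211 = n142900 := d18_7 (iv1 D72587) (iv4 F74340) F190192 (iv4 D54452) D54453 D118223 D203211 F357854 (iv5 D153523)
theorem F427426 : act 2 n142901 = n203211 := d1_3 F427425 (iv2 D142900) D142901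
theorem F427427 : act 3 n203211 = n195441 := d20_3 F280254 (iv1 F357854) (iv4 F427425) (iv1 D195441) F162206 F76899 D48823 D105603 F321643 D179940
def n203212 : Q := act 5 n118223
theorem D203212 : act 5 n118223 = n203212 := rfl
theorem F427428 : act 2 n203212 = n195562 := d2_1 D203212 (iv5 D195562) (iv2 F319620)
def n203213 : Q := act 7 n118232
theorem D203213 : act 7 n118232 = n203213 := rfl
theorem F427429 : act 3 n203213 = n118238 := d8_1 D203213 (iv7 D118238) (iv3 F185766)
theorem F427430 : act 4 n203213 = n203095 := d11_1 D203213 (iv7 F426944) F187667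
theorem F427431 : act 5 n203213 = n195616 := d13_1 D203213 F397638 F206395
theorem F427432 : act 1 n150104 = n203213 := d15_1 (iv0 F420702) (iv7 D203213) (iv2 F420700)
theorem F427433 : act 1 n203213 = n127647 := d15_1 F427432 F233874 (iv2 F236231)
def n203214 : Q := act 5 n118233
theorem D203214 : act 5 n118233 = n203214 := rfl
theorem F427434 : act 2 n203214 = n191368 := d2_1 D203214 (iv5 D191368) (iv2 F354023)
theorem F427435 : act 3 n203214 = n118234 := d6_1 D203214 (iv5 D118234) D118233
theorem F427436 : act 7 n203214 = n191365 := d13_2 (iv7 F187657) D203214 (iv5 D191365)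
theorem F427437 : act 0 n203214 = n193454 := d17_2 (iv1 F303377) D203214 (iv5 D193454) F355374 (iv5 F320828) D86059 (iv5 F342099) F151581 (iv4 F300578)
theorem F427438 : act 6 n203214 = n187005 := d21_9 (iv5 F365794) (iv1 F291718) (iv5 D89484) (iv6 F137029) D186885 F368415 (iv5 D120415) (iv1 F303377) D203214 F368809
theorem F427439 : act 4 n187006 = n203214 := d10_3 F427438 (iv4 D187005) D187006
theorem F427440 : act 1 n203214 = n170652 := d15_1 (iv0 F427437) F268111 (iv2 F389890)
def n203215 : Q := act 6 n118233
theorem D203215 : act 6 n118233 = n203215 := rfl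
theorem F427441 : act 2 n203215 = n191369 := d3_1 D203215 (iv6 D191369) (iv2 F354023)
theorem F427442 : act 3 n203215 = n118235 := d7_1 D203215 (iv6 D118235) D118233
theorem F427443 : act 5 n203215 = n188761 := d12_1 D203215 (iv6 D188761) (iv5 F368808) (iv6 F427438) (iv5 D203214)
theorem F427444 : act 0 n158578 = n203215 := d17_0 F427443 F374766 (iv5 D101479) D101478 (iv5 F345589) F345590 F344756 (iv0 D158583) (iv4 F249761)
def n203216 : Q := act 4 n118234
theorem D203216 : act 4 n118234 = n203216 := rfl
def n203217 : Q := act 6 n118234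
theorem D203217 : act 6 n118234 = n203217 := rfl
theorem F427445 : act 3 n203217 = n187005 := d7_1 D203217 (iv6 F427438) F427435
theorem F427446 : act 5 n136886 = n203217 := d21_8 F427410 (iv1 D192097) F321086 F365825 (iv1 D136891) (iv6 F220065) (iv5 D136888) D136886 (iv6 D203217) (iv1 F427408)
def n203218 : Q := act 5 n118235
theorem D203218 : act 5 n118235 = n203218 := rfl
theorem F427447 : act 2 n203218 = n154632 := d2_1 D203218 (iv5 F242747) F241340
theorem F427448 : act 3 n203218 = n188761 := d6_1 D203218 (iv5 F427443) F427442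
theorem F427449 : act 6 n203218 = n136886 := d12_2 D118235 D203218 F427446 (iv6 D203217) (iv5 D118234)
theorem F427450 : act 4 n203218 = n129266 := d16_2 (iv4 F185769) D203218 (iv5 F352074) F338696 (iv5 F347673) F347672 D128454 F206589 F187628
theorem F427451 : act 0 n203218 = n154620 := d17_2 F242722 D203218 (iv5 D154620) (iv4 D73314) D73315 F241770 F241769 (iv0 D147837) (iv4 F155745)
theorem F427452 : act 1 n203218 = n153868 := d17_6 (iv1 F184571) F312058 (iv1 F312056) F184773 (iv4 F185769) D203218 (iv5 D153868) F184575 F64279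
theorem F427453 : act 7 n154631 = n203218 := d11_0 F427450 F352075 (iv4 F338731)
def n203219 : Q := act 7 n118235
theorem D203219 : act 7 n118235 = n203219 := rfl
theorem F427454 : act 2 n203219 = n192990 := d4_1 D203219 F388451 F241340
theorem F427455 : act 4 n203219 = n118238 := d11_1 D203219 (iv7 D118238) (iv4 F185769)
theorem F427456 : act 5 n203219 = n154631 := d13_1 D203219 F427453 (iv5 D203218)
theorem F427457 : act 1 n150111 = n203219 := d15_1 F242774 (iv7 D203219) (iv2 F241340)
theorem F427458 : act 1 n203219 = n192991 := d15_1 F427457 (iv7 D192991) (iv2 F236256)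
def n203220 : Q := act 5 n118236
theorem D203220 : act 5 n118236 = n203220 := rfl
theorem F427459 : act 7 n203220 = n195562 := d13_2 F317376 D203220 (iv5 D195562)
def n203221 : Q := act 5 n118240
theorem D203221 : act 5 n118240 = n203221 := rfl
def n203222 : Q := act 6 n118240
theorem D203222 : act 6 n118240 = n203222 := rfl
theorem F427460 : act 2 n203222 = n144471 := d3_1 D203222 F366582 (iv2 F241377)
theorem F427461 : act 4 n203222 = n118241 := d10_1 D203222 (iv6 D118241) D118240
theorem F427462 : act 7 n203222 = n144468 := d14_2 (iv7 F241376) D203222 F317337 F315132 F312676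
theorem F427463 : act 0 n203222 = n202761 := d20_1 (iv4 F427461) F425459 F182596 (iv1 F340814) F79058 F38205 F24487 (iv4 F49760) (iv3 F103732) (iv1 F317341)
def n203223 : Q := act 3 n118243
theorem D203223 : act 3 n118243 = n203223 := rfl
theorem F427464 : act 4 n203223 = n192274 := d5_2 D118243 D203223 F386264 (iv4 F189711) (iv3 D118242)
theorem F427465 : act 6 n203223 = n179897 := d7_2 (iv6 F185775) D203223 (iv3 D179897)
theorem F427466 : act 0 n197281 = n203223 := d20_4 F245171 (iv1 F111326) (iv4 F167086) D197281 (iv3 D203223) (iv4 D118243) (iv1 D54461) D54462 F318746 (iv1 F245174)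
theorem F427467 : act 5 n203223 = n144430 := d17_1 F427466 (iv1 D144430) D144431 (iv4 F397012) (iv5 F382047) (iv0 F382049) (iv5 F379439) (iv0 F379440) (iv4 F403822)
def n203224 : Q := act 5 n118243
theorem D203224 : act 5 n118243 = n203224 := rfl
theorem F427468 : act 3 n203224 = n144430 := d6_1 D203224 (iv5 F427467) (iv3 D203223)
theorem F427469 : act 6 n203224 = n192271 := d12_2 (iv6 F185775) D203224 (iv5 F403900) (iv6 D197296) F317328
def n203225 : Q := act 6 n118244
theorem D203225 : act 6 n118244 = n203225 := rfl
theorem F427470 : act 2 n203225 = n144430 := d3_1 D203225 F427327 (iv2 F427325)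
theorem F427471 : act 4 n203225 = n153561 := d10_1 D203225 (iv6 D153561) (iv4 F278982)
theorem F427472 : act 7 n203225 = n144429 := d14_2 F427331 D203225 F363462 (iv7 F232982) F427333
theorem F427473 : act 0 n203225 = n144426 := d21_4 D179943 F404354 F404357 D203225 (iv6 D144426) D144425 F227224 (iv5 D105631) D105632 F322290
theorem F427474 : act 1 n203225 = n144432 := d15_1 (iv0 F427473) (iv7 D144432) (iv2 F227226)
def n203226 : Q := act 5 n118245
theorem D203226 : act 5 n118245 = n203226 := rfl
theorem F427475 : act 0 n203226 = n179943 := d17_2 (iv1 F427343) D203226 (iv5 D179943) (iv4 D85987) (iv5 D39765) D39764 (iv5 F155287) F185715 (iv4 F427341)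
def n203227 : Q := act 0 n118247
theorem D203227 : act 0 n118247 = n203227 := rfl
theorem F427476 : act 5 n203227 = n141355 := d17_3 (iv1 D118245) D118247 D203227 F323261 (iv5 D72603) (iv0 D33510) D33512 D72611 F190931
theorem F427477 : act 2 n195499 = n203227 := d2_3 F427476 F224403 D195499
def n203228 : Q := act 1 n118247
theorem D203228 : act 1 n118247 = n203228 := rfl
theorem F427478 : act 7 n203228 = n195499 := d15_2 (iv0 D203227) D203228 F427477
theorem F427479 : act 5 n203228 = n142252 := d17_7 (iv1 F185762) (iv5 D54458) (iv1 D26335) D26336 D54462 D118247 D203228 F323263 (iv4 D179892)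
def n203229 : Q := act 4 n118247
theorem D203229 : act 4 n118247 = n203229 := rfl
def n203230 : Q := act 6 n118247
theorem D203230 : act 6 n118247 = n203230 := rfl
theorem F427480 : act 5 n203230 = n118283 := d12_1 D203230 (iv6 D118283) (iv5 D54476) (iv6 F86002) D118247
def n203231 : Q := act 7 n118247
theorem D203231 : act 7 n118247 = n203231 := rfl
theorem F427481 : act 3 n203231 = n195493 := d8_1 D203231 (iv7 F397138) F366502
theorem F427482 : act 5 n203231 = n118248 := d13_1 D203231 (iv7 D118248) D118247
theorem F427483 : act 0 n195499 = n203231 := d17_2 F348354 D195499 F427482 F185778 F86004 F85989 F317377 F319706 D142249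
theorem F427484 : act 6 n195421 = n203231 := d7_0 F427481 (iv6 F397137) F396955
def n203232 : Q := act 6 n118248
theorem D203232 : act 6 n118248 = n203232 := rfl
theorem F427485 : act 2 n203232 = n155896 := d3_1 D203232 (iv6 F427342) F427340
theorem F427486 : act 3 n203232 = n144726 := d7_1 D203232 F227567 F319577
theorem F427487 : act 4 n203232 = n118249 := d10_1 D203232 (iv6 D118249) (iv4 F185778)
theorem F427488 : act 5 n203232 = n156278 := d12_1 D203232 F404274 (iv5 F396953) F427484 F427482
theorem F427489 : act 7 n203232 = n118285 := d14_2 D118248 D203232 (iv6 D118285) (iv7 D54477) (iv6 F86002)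
theorem F427490 : act 1 n155894 = n203232 := d15_1 D155894 F427489 F185830
theorem F427491 : act 1 n203232 = n155893 := d15_0 (iv0 D155893) D155896 (iv2 F427485)
def n203233 : Q := act 0 n118251
theorem D203233 : act 0 n118251 = n203233 := rfl
theorem F427492 : act 5 n203233 = n202970 := d17_3 (iv1 D144966) (iv5 F185792) D203233 F426437 (iv5 F360605) (iv0 F293549) (iv5 F346302) (iv0 F346297) (iv4 F346301)
theorem F427493 : act 4 n203233 = n151277 := d18_1 D203233 (iv1 F366531) F222110 (iv5 F317026) (iv4 F346305) (iv0 F285097) (iv4 F356606) (iv0 D144965) (iv5 F185792)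
theorem F427494 : act 3 n203233 = n179559 := d20_5 (iv4 F404554) (iv1 F404556) F185795 (iv3 F185791) D203233 F363441 (iv1 D139108) F101028 (iv3 F101024) D139087
theorem F427495 : act 2 n150853 = n203233 := d15_3 (iv0 D203233) (iv0 F366526) F366593
def n203234 : Q := act 5 n118252
theorem D203234 : act 5 n118252 = n203234 := rfl
theorem F427496 : act 3 n203234 = n118253 := d6_1 D203234 (iv5 D118253) D118252
theorem F427497 : act 7 n203234 = n150045 := d13_2 (iv7 F185793) D203234 (iv5 D150045)
def n203235 : Q := act 6 n118252
theorem D203235 : act 6 n118252 = n203235 := rfl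
theorem F427498 : act 3 n203235 = n118254 := d7_1 D203235 (iv6 D118254) D118252
theorem F427499 : act 7 n203235 = n200419 := d14_2 (iv7 F185793) D203235 (iv6 D200419) (iv7 F176178) F315166
def n203236 : Q := act 6 n118253
theorem D203236 : act 6 n118253 = n203236 := rfl
def n203237 : Q := act 5 n118254
theorem D203237 : act 5 n118254 = n203237 := rfl
def n203238 : Q := act 2 n118259
theorem D203238 : act 2 n118259 = n203238 := rfl
theorem F427500 : act 4 n203238 = n156285 := d1_2 F239524 D203238 F404294
theorem F427501 : act 6 n155895 = n203238 := d10_0 F427500 (iv6 D156285) (iv4 F403816)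
theorem F427502 : act 5 n203238 = n155892 := d12_1 F427501 (iv6 D155892) (iv5 D74142) D74143 D155895
def n203239 : Q := act 5 n118259
theorem D203239 : act 5 n118259 = n203239 := rfl
theorem F427503 : act 2 n203239 = n155892 := d2_1 D203239 (iv5 F427502) (iv2 D203238)
theorem F427504 : act 3 n203239 = n118260 := d6_1 D203239 (iv5 D118260) D118259
theorem F427505 : act 6 n118284 = n203239 := d7_0 F427504 F351849 F323331
theorem F427506 : act 4 n203239 = n203188 := d10_1 F427505 (iv6 D203188) (iv4 F185828)
def n203240 : Q := act 6 n118259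
theorem D203240 : act 6 n118259 = n203240 := rfl
theorem F427507 : act 2 n203240 = n155895 := d3_1 D203240 F427501 (iv2 D203238)
theorem F427508 : act 3 n203240 = n118261 := d7_1 D203240 (iv6 D118261) D118259
theorem F427509 : act 4 n203240 = n156032 := d10_1 D203240 F351787 F239524
theorem F427510 : act 5 n203240 = n118285 := d12_1 D203240 (iv6 D118285) (iv5 F185829) F427505 (iv5 D203239)
theorem F427511 : act 7 n203240 = n156278 := d14_2 F228068 D203240 F404274 (iv7 F227256) (iv6 F366262)
theorem F427512 : act 0 n203240 = n200423 := d21_7 (iv5 F404345) F404346 F351845 (iv6 F343142) (iv1 F185718) D118285 (iv5 F427510) (iv5 F416368) (iv6 F416370) F416372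
def n203241 : Q := act 2 n118265
theorem D203241 : act 2 n118265 = n203241 := rfl
theorem F427513 : act 4 n203241 = n194607 := d1_2 F187731 D203241 (iv2 F393799)
theorem F427514 : act 6 n203241 = n144119 := d3_2 F366243 D203241 (iv2 F396806)
theorem F427515 : act 1 n144243 = n203241 := d18_6 F154963 (iv4 D100861) (iv1 F157772) F153283 (iv5 F296080) D144243 F427513 (iv0 D194607) (iv5 D103853)
def n203242 : Q := act 5 n118265
theorem D203242 : act 5 n118265 = n203242 := rfl
theorem F427516 : act 3 n203242 = n118266 := d6_1 D203242 (iv5 D118266) D118265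
theorem F427517 : act 1 n203242 = n195369 := d17_6 (iv1 D112023) D112024 (iv1 F379041) (iv5 F379042) F187731 D203242 (iv5 D195369) D195368 (iv4 F396835)
def n203243 : Q := act 6 n118266
theorem D203243 : act 6 n118266 = n203243 := rfl
theorem F427518 : act 4 n203243 = n195371 := d10_1 D203243 (iv6 F396842) F185815
def n203244 : Q := act 5 n118271
theorem D203244 : act 5 n118271 = n203244 := rfl
theorem F427519 : act 3 n203244 = n118272 := d6_1 D203244 (iv5 D118272) D118271
theorem F427520 : act 1 n203244 = n192427 := d17_6 (iv1 F365256) (iv5 D100862) (iv1 F157772) F365340 F365343 D203244 (iv5 D192427) D192425 F386707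
def n203245 : Q := act 6 n118271
theorem D203245 : act 6 n118271 = n203245 := rfl
theorem F427521 : act 3 n203245 = n118273 := d7_1 D203245 (iv6 D118273) D118271
theorem F427522 : act 4 n203245 = n123550 := d10_1 D203245 (iv6 F366479) F365343
theorem F427523 : act 0 n203245 = n156271 := d21_4 D192427 (iv1 F427520) (iv5 D203244) D203245 (iv6 D156271) (iv5 F166975) (iv1 F403678) (iv5 F411898) (iv6 F411901) (iv1 D192425)
theorem F427524 : act 0 n192377 = n203245 := d18_2 (iv1 F386533) D192377 F427522 F366480 (iv4 F284948) (iv0 F339025) (iv4 D100112) D100110 D192348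
def n203246 : Q := act 0 n118274
theorem D203246 : act 0 n118274 = n203246 := rfl
theorem F427525 : act 3 n203246 = n194369 := d20_5 F228065 F105548 F86010 D118274 D203246 (iv4 F392958) (iv1 F393801) F393805 (iv3 D145109) (iv1 F228063)
theorem F427526 : act 4 n203246 = n192169 := d20_8 F385844 (iv1 F368769) F368762 F346613 F235107 D160058 F252591 D203246 F385841 D192170
theorem F427527 : act 6 n192168 = n203246 := d10_0 F427526 (iv6 D192169) D192168
def n203247 : Q := act 1 n118274
theorem D203247 : act 1 n118274 = n203247 := rfl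
def n203248 : Q := act 2 n118274
theorem D203248 : act 2 n118274 = n203248 := rfl
theorem F427528 : act 3 n203248 = n192472 := d0_2 D118274 D203248 F427351 (iv3 D203184) (iv2 F185724)
theorem F427529 : act 6 n203248 = n127091 := d3_2 (iv6 F366345) D203248 F349986
def n203249 : Q := act 5 n118274
theorem D203249 : act 5 n118274 = n203249 := rfl
theorem F427530 : act 3 n203249 = n118275 := d6_1 D203249 (iv5 D118275) D118274
theorem F427531 : act 6 n203249 = n197363 := d12_2 (iv6 F366345) D203249 (iv5 D197363) F167200 (iv5 F336173)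
def n203250 : Q := act 3 n118281
theorem D203250 : act 3 n118281 = n203250 := rfl
theorem F427532 : act 5 n203250 = n145112 := d6_2 (iv5 F185821) D203250 (iv3 D145112)
theorem F427533 : act 0 n192474 = n203250 := d17_2 (iv1 D192472) D192474 F427532 F228088 D151381 F375508 F375506 (iv0 F365347) (iv4 F386766)
theorem F427534 : act 6 n156268 = n144449 := d21_3 (iv5 D197254) (iv1 F355445) F356558 (iv1 F404032) (iv6 D192475) D192474 F427533 F427532 (iv6 F366478) (iv1 F403747)
def n203251 : Q := act 6 n118281
theorem D203251 : act 6 n118281 = n203251 := rfl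
theorem F427535 : act 4 n203251 = n203236 := d10_1 D203251 (iv6 D203236) F185822
def n203252 : Q := act 3 n118282
theorem D203252 : act 3 n118282 = n203252 := rfl
theorem F427536 : act 5 n203252 = n145114 := d6_2 (iv5 F185825) D203252 (iv3 D145114)
def n203253 : Q := act 6 n118282
theorem D203253 : act 6 n118282 = n203253 := rfl
theorem F427537 : act 4 n203253 = n197350 := d10_1 D203253 F404015 F185826
def n203254 : Q := act 0 n118283
theorem D203254 : act 0 n118283 = n203254 := rfl
def n203255 : Q := act 1 n118283
theorem D203255 : act 1 n118283 = n203255 := rfl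
def n203256 : Q := act 7 n118283
theorem D203256 : act 7 n118283 = n203256 := rfl
theorem F427538 : act 1 n195364 = n203256 := d15_1 (iv0 F427368) (iv7 D203256) (iv2 F427367)
def n203257 : Q := act 0 n118285
theorem D203257 : act 0 n118285 = n203257 := rfl
theorem F427539 : act 4 n203257 = n153585 := d18_3 (iv1 D118287) (iv4 F185831) D203257 F360995 (iv4 F316594) F187761 F344031 D141372 F343410
theorem F427540 : act 1 n155896 = n203257 := d15_0 (iv0 D203257) (iv7 F427489) F427485
theorem F427541 : act 7 n155894 = n203257 := d11_0 F427539 (iv7 F381021) F381024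
theorem F427542 : act 2 n203257 = n155893 := d15_3 (iv0 D155893) D155894 F427541
def n203258 : Q := act 1 n118285
theorem D203258 : act 1 n118285 = n203258 := rfl
theorem F427543 : act 1 n203258 = n155896 := d15_1 D203258 (iv7 D155896) (iv2 F185830)
theorem F427544 : act 7 n203258 = n155893 := d15_2 (iv0 D203257) D203258 (iv2 F427542)
theorem F427545 : act 4 n203258 = n119477 := d17_9 F347174 (iv5 F209794) F308521 F361580 (iv4 F404179) F416368 (iv0 F427512) F427510 D203258
theorem F427546 : act 2 n155894 = n203258 := d1_3 F427545 (iv2 F381018) F381024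
def n203259 : Q := act 4 n118286
theorem D203259 : act 4 n118286 = n203259 := rfl
theorem F427547 : act 2 n203259 = n155899 := d1_1 D203259 (iv4 D155899) (iv2 F264355)
theorem F427548 : act 7 n203259 = n155903 := d11_2 (iv7 F264356) D203259 (iv4 D155903)
def n203260 : Q := act 3 n118287
theorem D203260 : act 3 n118287 = n203260 := rfl
theorem F427549 : act 6 n203260 = n202482 := d7_2 F333623 D203260 (iv3 F425940)
theorem F427550 : act 7 n203260 = n155898 := d8_2 (iv7 F264358) D203260 (iv3 D155898)
def n203261 : Q := act 4 n118287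
theorem D203261 : act 4 n118287 = n203261 := rfl
theorem F427551 : act 2 n203261 = n155903 := d1_1 D203261 (iv4 D155903) (iv2 F264357)
theorem F427552 : act 7 n203261 = n155899 := d11_2 (iv7 F264358) D203261 (iv4 D155899)
def n203262 : Q := act 5 n118291
theorem D203262 : act 5 n118291 = n203262 := rfl
theorem F427553 : act 3 n203262 = n124237 := d6_1 D203262 F341384 F317474
theorem F427554 : act 6 n203262 = n124236 := d12_2 (iv6 F314685) D203262 (iv5 D124236) (iv6 F197190) F354378
theorem F427555 : act 7 n203262 = n150710 := d13_2 (iv7 F185841) D203262 (iv5 D150710)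
theorem F427556 : act 4 n203262 = n187348 := d16_2 D118291 D203262 F378103 F378102 (iv5 F242270) F242269 (iv5 F190679) F190680 (iv2 D118290)
def n203263 : Q := act 6 n118314
theorem D203263 : act 6 n118314 = n203263 := rfl
theorem F427557 : act 3 n203263 = n122363 := d7_1 D203263 (iv6 F329735) (iv3 F319261)
theorem F427558 : act 4 n203263 = n153713 := d10_1 D203263 (iv6 D153713) (iv4 F185892)
theorem F427559 : act 5 n203263 = n138757 := d12_1 D203263 (iv6 D138757) (iv5 D65155) (iv6 F316992) D118314
theorem F427560 : act 7 n203263 = n199482 := d14_2 (iv7 F185891) D203263 (iv6 D199482) F172798 F337434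
def n203264 : Q := act 4 n118333
theorem D203264 : act 4 n118333 = n203264 := rfl
theorem F427561 : act 2 n203264 = n138693 := d1_1 D203264 (iv4 D138693) (iv2 F353418)
theorem F427562 : act 7 n203264 = n138688 := d11_2 (iv7 F353419) D203264 (iv4 D138688)
theorem F427563 : act 0 n203264 = n178966 := d18_2 D118333 D203264 F278853 (iv5 F232250) (iv4 F420829) F420834 F341044 F341092 F182660
theorem F427564 : act 1 n203264 = n146358 := d18_6 (iv1 F315495) F161837 (iv1 F161817) F235253 (iv5 F348034) D203264 (iv4 D146358) (iv0 F233151) F227744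
def n203265 : Q := act 6 n118348
theorem D203265 : act 6 n118348 = n203265 := rfl
theorem F427565 : act 2 n203265 = n196777 := d3_1 D203265 F401756 F242835
theorem F427566 : act 3 n203265 = n140711 := d7_1 D203265 F363144 F322386
theorem F427567 : act 4 n203265 = n153728 := d10_1 D203265 (iv6 D153728) (iv4 F185980)
theorem F427568 : act 5 n203265 = n153719 := d12_1 D203265 F350190 F223721 (iv6 F320774) D118348
theorem F427569 : act 0 n203265 = n194527 := d21_4 (iv5 D72646) (iv1 F86108) D118348 D203265 F406158 F406157 (iv1 F410327) F410325 (iv6 F354406) F339947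
theorem F427570 : act 0 n194558 = n203265 := d21_4 (iv5 F386847) (iv1 D192501) (iv5 F375055) (iv6 F393687) (iv6 D203265) (iv5 D118348) (iv1 F105553) (iv5 F109234) (iv6 F143288) F362364
def n203266 : Q := act 6 n118409
theorem D203266 : act 6 n118409 = n203266 := rfl
theorem F427571 : act 2 n203266 = n119279 := d3_1 D203266 (iv6 D119279) (iv2 F186060)
theorem F427572 : act 3 n203266 = n193473 := d7_1 D203266 (iv6 F389978) F380506
theorem F427573 : act 4 n203266 = n118410 := d10_1 D203266 (iv6 D118410) D118409
theorem F427574 : act 5 n203266 = n193509 := d12_1 D203266 F390126 (iv5 D192412) (iv6 F158525) (iv5 F329994)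
theorem F427575 : act 0 n203266 = n198434 := d21_4 (iv5 F329975) (iv1 F158527) (iv5 F329994) D203266 (iv6 D198434) (iv5 D109309) D109306 F347158 (iv6 D74087) D74083
theorem F427576 : act 5 n144434 = n184247 := d16_3 (iv4 F427573) F427574 F425224 (iv4 D184247) (iv5 D87882) F297893 (iv5 F307610) F187691 (iv2 F186064)
def n203267 : Q := act 0 n118410
theorem D203267 : act 0 n118410 = n203267 := rfl
theorem F427577 : act 5 n203267 = n123531 := d17_3 (iv1 F318426) (iv5 F186066) D203267 F197958 (iv5 F197972) (iv0 F366210) F356867 F335231 (iv4 D143796)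
theorem F427578 : act 6 n203267 = n178830 := d21_5 (iv5 D26370) D26369 D54527 D118410 D203267 F278694 (iv1 D117493) F85455 (iv6 D33996) F46298
theorem F427579 : act 2 n118999 = n203267 := d15_3 (iv0 D203267) F215871 (iv7 F187127)
theorem F427580 : act 1 n119249 = n203267 := d15_0 (iv0 D203267) (iv7 F383049) F383046
theorem F427581 : act 7 n203267 = n119280 := d15_2 (iv0 F215870) F427580 F312389
theorem F427582 : act 4 n203267 = n194598 := d17_9 (iv1 F406823) F407905 F407908 (iv5 D143792) (iv4 D67352) D67353 (iv0 F318427) (iv5 F307610) F427580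
theorem F427583 : act 3 n151157 = n203267 := d20_3 D84453 (iv1 F300151) (iv4 F308515) (iv1 F427580) F187689 (iv4 F309218) (iv1 F91904) F91901 F51766 D38938
def n203268 : Q := act 6 n118411
theorem D203268 : act 6 n118411 = n203268 := rfl
theorem F427584 : act 2 n203268 = n120015 := d3_1 D203268 (iv6 D120015) (iv2 F186067)
theorem F427585 : act 4 n203268 = n118412 := d10_1 D203268 (iv6 D118412) D118411
theorem F427586 : act 0 n199980 = n203268 := d21_4 F359482 (iv1 F174083) (iv5 F174336) D199980 (iv6 D203268) (iv5 F381635) F381634 F244747 (iv6 F408712) F408717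
def n203269 : Q := act 3 n118413
theorem D203269 : act 3 n118413 = n203269 := rfl
theorem F427587 : act 5 n203269 = n190990 := d6_2 F365313 D203269 F381814
theorem F427588 : act 7 n203269 = n151262 := d8_2 F186076 D203269 (iv3 D151262)
theorem F427589 : act 0 n194438 = n203269 := d20_4 F393029 (iv1 F393223) (iv4 D194439) (iv3 F393217) (iv3 D203269) F186073 (iv1 F178717) (iv4 F189492) (iv3 F392433) F393032
def n203270 : Q := act 6 n118413
theorem D203270 : act 6 n118413 = n203270 := rfl
theorem F427590 : act 2 n203270 = n151267 := d3_1 D203270 (iv6 D151267) F186075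
theorem F427591 : act 4 n203270 = n150025 := d10_1 D203270 (iv6 D150025) (iv4 F186073)
theorem F427592 : act 5 n203270 = n190994 := d12_1 D203270 (iv6 D190994) (iv5 D97121) D97122 F365313
def n203271 : Q := act 3 n118426
theorem D203271 : act 3 n118426 = n203271 := rfl
theorem F427593 : act 4 n203271 = n119631 := d5_2 (iv4 F186217) D203271 (iv3 D119631) F185673 (iv3 F185672)
theorem F427594 : act 5 n203271 = n134723 := d6_2 F350050 D203271 (iv3 F220866)
theorem F427595 : act 6 n203271 = n134724 := d7_2 F350034 D203271 (iv3 F350035)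
theorem F427596 : act 7 n203271 = n128371 := d8_2 F186220 D203271 (iv3 D128371)
theorem F427597 : act 0 n203271 = n196480 := d19_4 (iv1 F79147) (iv5 F94428) (iv4 F186217) D203271 F400792 F331535 (iv3 D52864) D52862 (iv5 F94498) (iv4 D60017) (iv3 F55111) (iv1 F77615) (iv5 F77617) (iv4 D28709) F22840 (iv1 F12449) D7966 (iv4 F25944) D34019
theorem F427598 : act 2 n196317 = n203271 := d3_3 F427595 F216744 (iv6 F400306)
def n203272 : Q := act 3 n118427
theorem D203272 : act 3 n118427 = n203272 := rfl
theorem F427599 : act 4 n203272 = n150772 := d5_2 (iv4 F186223) D203272 (iv3 D150772) (iv4 D71086) F94436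
theorem F427600 : act 7 n203272 = n128377 := d8_2 (iv7 F186222) D203272 (iv3 D128377)
theorem F427601 : act 2 n191966 = n203272 := d1_3 F427599 (iv2 F364321) D191966
theorem F427602 : act 0 n194401 = n203272 := d18_2 (iv1 F362694) D194401 F427599 F364320 (iv4 F153148) F74323 (iv4 F68581) (iv0 F134738) D183973
def n203273 : Q := act 6 n118427
theorem D203273 : act 6 n118427 = n203273 := rfl
theorem F427603 : act 2 n203273 = n128373 := d3_1 D203273 (iv6 D128373) F186224
theorem F427604 : act 4 n203273 = n127693 := d10_1 D203273 (iv6 D127693) (iv4 F186223)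
theorem F427605 : act 7 n203273 = n190860 := d14_2 (iv7 F186222) D203273 F381358 F360636 (iv6 D128379)
theorem F427606 : act 0 n203273 = n196861 := d21_4 D72732 (iv1 F240278) F240280 D203273 (iv6 D196861) D196860 F402055 F325521 (iv6 F313839) F94875
theorem F427607 : act 5 n203273 = n190861 := d21_6 (iv5 F343587) (iv1 F348811) F348814 (iv6 F316705) (iv1 F186221) D203273 (iv1 F381361) (iv5 F379004) (iv6 D108198) D108194
theorem F427608 : act 3 n174583 = n203273 := d6_3 F427607 (iv3 F381763) (iv5 F392151)
theorem F427609 : act 6 n203272 = n174583 := d7_0 F427608 (iv6 D203273) D203272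
theorem F427610 : act 6 n191003 = n191966 := d3_2 F427609 (iv2 F392152) F427601
theorem F427611 : act 4 n191967 = n191003 := d10_3 F427610 (iv4 D191966) D191967
def n203274 : Q := act 6 n118429
theorem D203274 : act 6 n118429 = n203274 := rfl
theorem F427612 : act 2 n203274 = n153713 := d3_1 D203274 (iv6 D153713) (iv2 F186227)
theorem F427613 : act 7 n203274 = n197913 := d14_2 (iv7 F186228) D203274 (iv6 D197913) F354402 (iv6 D151173)
theorem F427614 : act 5 n154780 = n203274 := d21_8 (iv5 D196924) F322055 (iv5 F237667) (iv6 F350066) (iv1 D124881) D124883 F200562 D154780 (iv6 D203274) (iv1 F402313)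
theorem F427615 : act 7 n199550 = n154780 := d13_0 F427614 F427613 (iv5 F412637)
def n203275 : Q := act 5 n118430
theorem D203275 : act 5 n118430 = n203275 := rfl
theorem F427616 : act 2 n203275 = n153716 := d2_1 D203275 (iv5 D153716) (iv2 F186229)
theorem F427617 : act 3 n203275 = n145355 := d6_1 D203275 F228399 (iv3 F317569)
theorem F427618 : act 4 n203275 = n196774 := d9_1 D203275 (iv5 D196774) (iv4 F356929) (iv5 F368496) F368495 F323819 (iv4 F241581) (iv5 F412625) F412624 (iv5 F400492) F380546 (iv5 D190677) F320042 F105162 (iv4 F186230)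
theorem F427619 : act 6 n203275 = n154780 := d12_2 D118430 D203275 F427614 (iv6 D203274) (iv5 D118429)
theorem F427620 : act 7 n203275 = n156803 := d13_2 (iv7 F317570) D203275 (iv5 D156803)
theorem F427621 : act 1 n203275 = n145371 := d17_6 (iv1 D68239) D68240 (iv1 F324918) F105162 (iv4 F186230) D203275 (iv5 D145371) D145370 F357271
def n203276 : Q := act 4 n118431
theorem D203276 : act 4 n118431 = n203276 := rfl
theorem F427622 : act 2 n203276 = n153719 := d1_1 D203276 (iv4 D153719) F190873
theorem F427623 : act 7 n203276 = n153722 := d11_2 (iv7 F190872) D203276 (iv4 D153722)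
theorem F427624 : act 5 n203276 = n196777 := d16_1 D203276 (iv4 D196777) (iv5 D107311) (iv4 F350559) (iv5 D103602) D103601 F342454 (iv7 F322383) F190873
def n203277 : Q := act 5 n118447
theorem D203277 : act 5 n118447 = n203277 := rfl
theorem F427625 : act 2 n203277 = n152247 := d2_1 D203277 (iv5 D152247) (iv2 F200277)
theorem F427626 : act 3 n203277 = n198842 := d6_1 D203277 F409522 (iv3 F316887)
theorem F427627 : act 6 n203277 = n180445 := d12_2 (iv6 F316888) D203277 F280842 F342069 F342059
theorem F427628 : act 7 n203277 = n152250 := d13_2 (iv7 F200278) D203277 (iv5 D152250)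
theorem F427629 : act 0 n203277 = n186852 := d17_2 D118447 D203277 (iv5 D186852) F304845 (iv5 F309708) (iv0 F311907) (iv5 D39399) F199843 (iv4 F86199)
theorem F427630 : act 1 n203277 = n131550 := d17_6 F348375 (iv5 F314452) (iv1 F278738) (iv5 D149071) F200276 D203277 F210800 (iv0 F309287) (iv4 F310572)
theorem F427631 : act 4 n203277 = n199859 := d18_5 F155142 F53184 D69927 F200276 D203277 (iv0 F413841) (iv4 D164157) (iv0 F322694) (iv5 D124978)
def n203278 : Q := act 6 n118482
theorem D203278 : act 6 n118482 = n203278 := rfl
theorem F427632 : act 2 n203278 = n118562 := d3_1 D203278 (iv6 D118562) F186376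
theorem F427633 : act 3 n203278 = n157985 := d7_1 D203278 (iv6 F364463) F332308
theorem F427634 : act 4 n203278 = n148994 := d10_1 D203278 F234180 (iv4 F186375)
theorem F427635 : act 5 n203278 = n128137 := d12_1 D203278 (iv6 D128137) (iv5 F120186) D164506 (iv5 F332309)
theorem F427636 : act 0 n203278 = n120161 := d21_4 D120137 (iv1 F336414) (iv5 F332309) D203278 (iv6 F212299) (iv5 D130096) (iv1 F213159) D132906 (iv6 F213497) (iv1 F189743)
theorem F427637 : act 0 n119112 = n203278 := d21_4 (iv5 D61734) D61732 (iv5 F307223) F301921 (iv6 D203278) F332309 (iv1 F336413) (iv5 D120128) F311856 F307271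
theorem F427638 : act 7 n203278 = n120214 := d15_2 (iv0 F319077) (iv0 F427636) F191407
def n203279 : Q := act 6 n118485
theorem D203279 : act 6 n118485 = n203279 := rfl
theorem F427639 : act 2 n203279 = n118572 := d3_1 D203279 (iv6 D118572) (iv2 F186379)
theorem F427640 : act 3 n203279 = n133103 := d7_1 D203279 F347445 F344947
theorem F427641 : act 4 n203279 = n118486 := d10_1 D203279 (iv6 D118486) (iv4 F186380)
def n203280 : Q := act 6 n118489
theorem D203280 : act 6 n118489 = n203280 := rfl
theorem F427642 : act 3 n203280 = n118490 := d7_1 D203280 (iv6 D118490) D118489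
theorem F427643 : act 4 n203280 = n118531 := d10_1 D203280 (iv6 D118531) (iv4 F304114)
theorem F427644 : act 7 n203280 = n118572 := d14_2 (iv7 F304115) D203280 (iv6 D118572) (iv7 D54600) (iv6 F86265)
def n203281 : Q := act 1 n118490
theorem D203281 : act 1 n118490 = n203281 := rfl
theorem F427645 : act 1 n203281 = n134628 := d15_1 D203281 F310818 (iv2 F186394)
theorem F427646 : act 7 n203281 = n134672 := d15_2 F346378 D203281 (iv2 F334175)
theorem F427647 : act 4 n130381 = n203281 := d20_6 F208023 (iv1 D29771) F23631 (iv3 F46602) D61185 D130381 (iv1 D203281) F186395 F86258 (iv1 F304919)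
theorem F427648 : act 2 n203281 = n134671 := d1_1 F427647 F353097 (iv2 F366822)
theorem F427649 : act 3 n203281 = n152079 := d19_3 D193179 F389076 F427647 (iv1 D152079) F321757 F80460 (iv3 F80454) D110603 (iv5 F386281) (iv4 D192282) (iv3 F386276) F386278 (iv5 D123234) D123233 F307789 F389116 (iv5 D193186) F308430 (iv3 F351606)
theorem F427650 : act 5 n197062 = n203281 := d19_1 F402878 (iv4 F427647) (iv3 D130381) F307692 F206284 F306793 (iv3 F127911) (iv1 F331949) (iv5 D126807) F93932 (iv3 D52008) (iv1 F39788) (iv5 F78265) (iv4 F165160) (iv3 F354769) F354771 (iv5 F355907) F270723 (iv3 F383317)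
def n203282 : Q := act 5 n118490
theorem D203282 : act 5 n118490 = n203282 := rfl
theorem F427651 : act 2 n203282 = n152470 := d2_1 D203282 (iv5 D152470) (iv2 F186394)
theorem F427652 : act 6 n203282 = n152268 := d12_2 D118490 D203282 (iv5 D152268) (iv6 D71838) (iv5 F86255)
theorem F427653 : act 7 n203282 = n134673 := d13_2 (iv7 F306852) D203282 (iv5 D134673)
theorem F427654 : act 0 n203282 = n164554 := d17_2 (iv1 D203281) D203282 (iv5 D164554) (iv4 F243921) (iv5 F364462) (iv0 D157985) D157987 (iv0 F330221) F427647
theorem F427655 : act 1 n203282 = n198915 := d17_6 F272358 (iv5 F340189) (iv1 F217622) (iv5 F304918) (iv4 F186395) D203282 F409868 (iv0 F272356) (iv4 F272355)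
def n203283 : Q := act 1 n118533
theorem D203283 : act 1 n118533 = n203283 := rfl
theorem F427656 : act 5 n203283 = n184495 := d17_7 (iv1 F142562) F367087 (iv1 F367086) (iv5 D186285) (iv4 F294789) (iv5 F186438) D203283 (iv0 F370471) (iv4 D187471)
theorem F427657 : act 3 n131122 = n203283 := d20_9 F392234 (iv1 D194166) (iv4 D102866) F74985 (iv1 F63863) D88716 (iv4 F344973) F363754 F383014 (iv1 D203283)
theorem F427658 : act 2 n203283 = n189616 := d0_1 F427657 (iv3 D189616) F155692 D189232 F383013
def n203284 : Q := act 5 n118550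
theorem D203284 : act 5 n118550 = n203284 := rfl
theorem F427659 : act 2 n203284 = n130891 := d2_1 D203284 (iv5 D130891) (iv2 F237474)
theorem F427660 : act 3 n203284 = n152011 := d6_1 D203284 (iv5 D152011) (iv3 F247749)
theorem F427661 : act 6 n203284 = n199374 := d12_2 F337175 D203284 F411904 (iv6 F322310) F337170
theorem F427662 : act 7 n203284 = n202898 := d13_2 (iv7 F237476) D203284 F426101
theorem F427663 : act 0 n203284 = n202978 := d17_2 D118550 D203284 F426469 F306838 D161725 (iv0 F350641) (iv5 F383332) (iv0 F383334) F186458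
theorem F427664 : act 4 n203284 = n199375 := d17_4 F130732 (iv5 F86277) D118550 D203284 F411907 F386230 (iv5 D146929) (iv0 F338162) (iv4 D146685)
theorem F427665 : act 0 n203117 = n203284 := d21_10 (iv5 D203284) F237473 F237478 F183475 (iv1 F105063) (iv6 F313724) F102725 (iv1 F313718) F200708 D203117
def n203285 : Q := act 0 n118558
theorem D203285 : act 0 n118558 = n203285 := rfl
theorem F427666 : act 5 n203285 = n120130 := d17_1 D203285 (iv1 F189752) (iv5 F344959) (iv4 F245017) F379457 F379453 F378445 F378443 F342256
theorem F427667 : act 4 n203285 = n183228 := d18_1 D203285 (iv1 D183228) (iv4 F330757) (iv5 D118554) (iv4 D54594) F86251 (iv4 F186380) F186382 D118558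
theorem F427668 : act 3 n183228 = n190611 := d20_3 F342256 D203285 F427667 (iv1 D190611) F148021 (iv4 F125279) F312747 (iv4 D44773) D44772 D95904
theorem F427669 : act 3 n203285 = n173633 := d20_5 (iv4 F334451) (iv1 F192337) F327798 (iv3 F332316) D203285 (iv4 F342678) (iv1 D160595) F115743 (iv3 F120060) F334448
theorem F427670 : act 2 n120137 = n203285 := d15_3 (iv0 D203285) (iv0 F210100) F210099
theorem F427671 : act 1 n118561 = n203285 := d15_0 (iv0 D203285) F336412 (iv2 F336405)
theorem F427672 : act 7 n203285 = n120128 := d15_2 F210101 F427671 (iv2 F210098)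
theorem F427673 : act 6 n190611 = n198718 := d7_2 F365207 F427668 (iv3 D198718)
theorem F427674 : act 5 n198555 = n198718 := d21_2 D109570 D198555 (iv6 F427673) (iv1 D190611) (iv6 D96241) F70629 D45322 (iv5 F106460) (iv6 F362077) (iv1 D109569)
theorem F427675 : act 3 n198720 = n198555 := d6_3 F427674 (iv3 D198718) D198720
theorem F427676 : act 6 n198719 = n203285 := d10_0 F427667 (iv6 F365207) D198719
theorem F427677 : act 0 n197209 = n198719 := d21_4 (iv5 D49884) D49882 D108009 D197209 F427676 F427666 (iv1 F189752) (iv5 F344959) (iv6 D113293) F82672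
def n203286 : Q := act 7 n118559
theorem D203286 : act 7 n118559 = n203286 := rfl
theorem F427678 : act 3 n203286 = n172565 := d8_1 D203286 (iv7 F402930) F402928
theorem F427679 : act 4 n203286 = n190806 := d11_1 D203286 F381157 F210715
theorem F427680 : act 6 n203286 = n120214 := d14_1 D203286 (iv7 F427638) (iv6 D203278) F186374 D118559
theorem F427681 : act 0 n130890 = n203286 := d21_4 F351646 (iv1 D112723) D112724 (iv6 F351641) F427680 (iv5 F191406) F190689 D155190 (iv6 F412745) (iv1 F412747)
def n203287 : Q := act 1 n118560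
theorem D203287 : act 1 n118560 = n203287 := rfl
theorem F427682 : act 1 n203287 = n174033 := d15_1 D203287 (iv7 F387367) F387364
theorem F427683 : act 7 n203287 = n153251 := d15_2 F355023 D203287 (iv2 F273968)
theorem F427684 : act 5 n203287 = n190704 := d17_7 (iv1 D134131) (iv5 D63005) D63002 (iv5 F336393) (iv4 F94793) (iv5 F311886) D203287 (iv0 F380684) (iv4 F354991)
theorem F427685 : act 4 n203287 = n161311 := d18_7 F342758 F342761 F416901 F416898 (iv5 D149040) (iv4 F186472) D203287 (iv0 D161311) D161314
theorem F427686 : act 3 n148856 = n203287 := d19_19 (iv1 D203287) F311886 F94793 (iv3 F109580) D154190 F368373 (iv4 F422206) (iv3 D201883) (iv1 F382386) F382384 F150046 F71707 (iv1 F147142) (iv5 F147143) F315501 (iv3 F200426) (iv1 F105202) (iv5 F108869) (iv4 F233876)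
theorem F427687 : act 6 n133044 = n203287 := d21_3 (iv5 F334247) (iv1 F345799) (iv5 F351974) (iv1 D203287) F311887 (iv5 D60235) D60233 D128148 (iv6 F334222) (iv1 F318965)
def n203288 : Q := act 6 n118563
theorem D203288 : act 6 n118563 = n203288 := rfl
theorem F427688 : act 2 n203288 = n126907 := d3_1 D203288 F328681 F212053
theorem F427689 : act 3 n203288 = n148859 := d7_1 D203288 (iv6 D148859) (iv3 F317691)
theorem F427690 : act 4 n203288 = n126647 := d10_1 D203288 F348187 F215571
theorem F427691 : act 0 n203288 = n172372 := d21_4 D175092 (iv1 F426535) F426532 D203288 (iv6 D172372) D172371 (iv1 F343035) (iv5 D175343) (iv6 D83734) F320197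
def n203289 : Q := act 6 n118564
theorem D203289 : act 6 n118564 = n203289 := rfl
theorem F427692 : act 2 n203289 = n134663 := d3_1 D203289 (iv6 D134663) (iv2 F212054)
theorem F427693 : act 3 n203289 = n119110 := d7_1 D203289 F187384 (iv3 F332290)
theorem F427694 : act 4 n203289 = n130341 := d10_1 D203289 (iv6 D130341) F186475
theorem F427695 : act 5 n203289 = n193166 := d12_1 D203289 (iv6 D193166) F156014 (iv6 F332285) (iv5 F332291)
theorem F427696 : act 0 n157987 = n203289 := d21_4 (iv5 D35970) (iv1 F56658) (iv5 F113346) (iv6 F306785) (iv6 D203289) F332291 (iv1 F332289) (iv5 D175092) (iv6 D83624) (iv1 F59382)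
theorem F427697 : act 7 n120209 = n203289 := d13_0 F427695 F389005 F335265
def n203290 : Q := act 3 n118568
theorem D203290 : act 3 n118568 = n203290 := rfl
theorem F427698 : act 2 n203290 = n132962 := d0_1 D203290 F338574 F338570 (iv3 F271950) (iv2 F354610)
theorem F427699 : act 5 n203290 = n132911 := d6_2 F189740 D203290 F213514
theorem F427700 : act 6 n203290 = n132914 := d7_2 (iv6 F381791) D203290 (iv3 F381789)
theorem F427701 : act 7 n203290 = n200620 := d8_2 F344960 D203290 F417244
theorem F427702 : act 0 n203290 = n148812 := d20_4 D176359 (iv1 F381797) F381793 D203290 F233662 F106142 D69747 (iv4 F228929) (iv3 F325920) (iv1 F346717)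
theorem F427703 : act 4 n134130 = n203290 := d19_2 D63054 (iv5 F349806) (iv3 D203290) (iv1 D118568) (iv5 D54599) (iv4 D26402) F20978 (iv1 F10875) (iv5 D6681) (iv4 D3001) (iv3 F10043) F8083 (iv5 D5326) (iv4 F4932) (iv3 F11201) F23693 F23660 D14175 D29828
theorem F427704 : act 0 n190704 = n203290 := d20_4 F105205 D69779 (iv4 F230716) (iv3 F380682) (iv3 D203290) (iv4 F381793) F381796 F379568 (iv3 F346915) F230737
def n203291 : Q := act 0 n118570
theorem D203291 : act 0 n118570 = n203291 := rfl
theorem F427705 : act 5 n203291 = n144514 := d17_1 D203291 F252118 (iv5 F408277) (iv4 D198539) (iv5 D109535) D109533 D198537 (iv0 F408270) (iv4 F354559)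
theorem F427706 : act 4 n203291 = n190220 := d18_3 D157641 (iv4 F354559) D203291 (iv5 F379117) F220428 F406469 F406466 F173618 F169494
theorem F427707 : act 3 n203291 = n144515 := d20_5 (iv4 F102666) (iv1 F224366) (iv4 F227361) F331682 D203291 (iv4 F422197) (iv1 F422200) F225675 F181776 F181774
theorem F427708 : act 2 n202931 = n203291 := d0_5 F427707 F227372 (iv3 F230102) (iv2 F355147) D202931
theorem F427709 : act 6 n190218 = n203291 := d7_0 F427707 (iv6 F331685) (iv3 F379115)
theorem F427710 : act 7 n197120 = n203291 := d8_0 F427707 (iv7 F331690) (iv3 F403138)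
theorem F427711 : act 0 n203291 = n198546 := d20_10 (iv4 D198546) F169516 F112588 (iv3 D34409) F50112 (iv3 F103163) (iv4 F183336) (iv1 F422201) F422197 (iv3 F427707)
theorem F427712 : act 1 n202931 = n148876 := d15_0 (iv0 F403140) F427710 (iv2 F427708)
def n203292 : Q := act 1 n118570
theorem D203292 : act 1 n118570 = n203292 := rfl
theorem F427713 : act 1 n203292 = n198546 := d15_1 D203292 F408304 F354560
theorem F427714 : act 7 n203292 = n202931 := d15_2 (iv0 D203291) D203292 F427708
theorem F427715 : act 5 n203292 = n146753 := d17_7 (iv1 D146898) D146900 F412684 (iv5 F426085) F426084 F419642 D203292 F252119 F252117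
theorem F427716 : act 3 n146755 = n203292 := d20_3 (iv4 F357251) D186845 F368234 (iv1 D203292) (iv3 F331682) F227361 F224365 F223809 (iv3 F354087) F354104
theorem F427717 : act 2 n203292 = n197120 := d0_1 F427716 F403138 F331688 F350797 (iv2 F350796)
theorem F427718 : act 6 n203292 = n197116 := d7_2 (iv6 F356772) F427716 F403119
def n203293 : Q := act 7 n118570
theorem D203293 : act 7 n118570 = n203293 := rfl
theorem F427719 : act 2 n203293 = n198546 := d4_1 D203293 F408304 F354560
theorem F427720 : act 3 n203293 = n142509 := d8_1 D203293 F227364 F331682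
theorem F427721 : act 4 n203293 = n195563 := d11_1 D203293 F397357 (iv4 F354559)
theorem F427722 : act 5 n203293 = n147365 := d13_1 D203293 (iv7 F419643) F419642
theorem F427723 : act 6 n203293 = n178537 := d14_1 D203293 (iv7 F368255) F368253 (iv7 D118571) D118570
theorem F427724 : act 1 n197120 = n203293 := d15_1 (iv0 F403140) (iv7 D203293) (iv2 F354560)
theorem F427725 : act 1 n203293 = n202931 := d15_1 F427724 (iv7 F427714) F427717
def n203294 : Q := act 0 n118572
theorem D203294 : act 0 n118572 = n203294 := rfl
theorem F427726 : act 4 n203294 = n167642 := d18_3 (iv1 D118574) (iv4 F186486) D203294 (iv5 F351503) (iv4 F351501) (iv0 D156251) F111530 D74691 (iv5 F316179)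
theorem F427727 : act 3 n203294 = n193107 := d20_5 F330183 (iv1 D63279) (iv4 F98495) (iv3 F186485) D203294 F388774 (iv1 F384783) (iv4 F357446) F357445 (iv1 F330219)
def n203295 : Q := act 5 n118629
theorem D203295 : act 5 n118629 = n203295 := rfl
theorem F427728 : act 2 n203295 = n134655 := d2_1 D203295 (iv5 D134655) (iv2 F216644)
theorem F427729 : act 3 n203295 = n174379 := d6_1 D203295 F348429 (iv3 F317040)
theorem F427730 : act 7 n203295 = n134643 := d13_2 (iv7 F216645) D203295 (iv5 D134643)
theorem F427731 : act 0 n203295 = n173728 := d17_2 (iv1 F325528) D203295 (iv5 D173728) (iv4 F315285) F208679 F327895 (iv5 F327907) D133857 (iv4 F324402)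
theorem F427732 : act 1 n203295 = n119661 := d17_6 (iv1 F216481) (iv5 D60758) D60754 F209323 D118629 D203295 (iv5 D119661) (iv0 F315773) (iv4 F317491)
theorem F427733 : act 6 n203295 = n159123 := d21_3 F316737 (iv1 F325528) D203295 (iv1 F350992) D197077 F402943 F337693 (iv5 F321849) (iv6 D84084) F319106
def n203296 : Q := act 6 n118629
theorem D203296 : act 6 n118629 = n203296 := rfl
theorem F427734 : act 2 n203296 = n126971 := d3_1 D203296 F327819 (iv2 F216644)
theorem F427735 : act 4 n203296 = n118631 := d10_1 D203296 (iv6 D118631) D118629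
theorem F427736 : act 7 n203296 = n134679 := d14_2 (iv7 F216645) D203296 (iv6 D134679) (iv7 F341215) F341214
theorem F427737 : act 0 n203296 = n172155 := d21_4 D119661 (iv1 F427732) (iv5 D203295) D203296 (iv6 D172155) (iv5 F322457) (iv1 F340181) F303740 (iv6 D83083) F315773
theorem F427738 : act 0 n155795 = n203296 := d21_4 (iv5 F326280) F111448 (iv5 F320674) F318539 (iv6 D203296) D203295 F427731 (iv5 D173728) (iv6 F326276) F326273
def n203297 : Q := act 7 n118631
theorem D203297 : act 7 n118631 = n203297 := rfl
theorem F427739 : act 2 n203297 = n126972 := d4_1 D203297 (iv7 D126972) (iv2 F327813)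
theorem F427740 : act 4 n203297 = n134679 := d11_1 D203297 (iv7 F427736) F427735
theorem F427741 : act 5 n203297 = n126657 := d13_1 D203297 (iv7 D126657) (iv5 F327814)
theorem F427742 : act 6 n203297 = n134649 := d14_1 D203297 (iv7 D134649) (iv6 D63268) F216647 D118631
theorem F427743 : act 1 n126970 = n203297 := d15_1 D126970 (iv7 D203297) F327813
theorem F427744 : act 1 n203297 = n126969 := d15_1 F427743 F322446 F320673
def n203298 : Q := act 5 n118648
theorem D203298 : act 5 n118648 = n203298 := rfl
theorem F427745 : act 2 n203298 = n151401 := d2_1 D203298 (iv5 D151401) (iv2 F357310)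
theorem F427746 : act 4 n203298 = n151553 := d9_1 D203298 (iv5 D151553) (iv4 F336782) (iv5 F385365) F385364 F153326 (iv4 F309301) (iv5 F357312) (iv4 D114938) (iv5 D53034) D53033 D114934 (iv4 F356335) (iv5 F289275) (iv4 F349057)
theorem F427747 : act 7 n203298 = n151406 := d13_2 (iv7 F357311) D203298 (iv5 D151406)
theorem F427748 : act 0 n203298 = n201661 := d18_0 F421281 (iv1 F371353) F349033 (iv5 D105471) D105470 (iv0 F356345) F238117 F186615 D203298
theorem F427749 : act 0 n201660 = n203298 := d21_10 (iv5 D203298) (iv1 F186615) (iv5 F337569) (iv6 D146371) F104830 (iv6 F349121) D193993 F391672 (iv5 F371347) (iv6 F421287)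
def n203299 : Q := act 6 n118648
theorem D203299 : act 6 n118648 = n203299 := rfl
theorem F427750 : act 2 n203299 = n151402 := d3_1 D203299 (iv6 D151402) (iv2 F357310)
theorem F427751 : act 3 n203299 = n133735 := d7_1 D203299 (iv6 F396328) F396327
theorem F427752 : act 4 n203299 = n158950 := d10_1 D203299 F347292 (iv4 F349057)
theorem F427753 : act 5 n203299 = n159989 := d21_6 F55415 F37449 D26420 D54632 D118648 D203299 (iv1 D159989) (iv5 D76599) (iv6 D35003) (iv1 F55413)
theorem F427754 : act 1 n199315 = n203299 := d18_8 (iv1 D159989) D159990 F410108 (iv4 D198971) (iv5 F179022) (iv4 F411659) (iv0 D199321) (iv4 F411629) F427753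
def n203300 : Q := act 4 n118655
theorem D203300 : act 4 n118655 = n203300 := rfl
theorem F427755 : act 2 n203300 = n127309 := d1_1 D203300 (iv4 D127309) (iv2 F314084)
theorem F427756 : act 5 n203300 = n154963 := d9_2 D118655 D203300 F337220 (iv5 F340080) (iv4 D117865) F205252 D55190 (iv5 F312713) (iv4 F233386) (iv5 F356579) F356578 (iv5 F316821) F183661 F85299 (iv4 F86375)
theorem F427757 : act 6 n203300 = n203049 := d10_2 F196373 D203300 (iv4 F426778)
theorem F427758 : act 7 n203300 = n155250 := d11_2 (iv7 F232388) D203300 (iv4 D155250)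
theorem F427759 : act 0 n203300 = n154901 := d17_0 F349292 (iv1 F349293) F333325 F243491 (iv5 F310510) F310509 (iv5 F360913) F360910 D203300
theorem F427760 : act 1 n203300 = n154903 := d18_6 (iv1 D16326) (iv4 F301352) F232278 (iv4 F86375) D118655 D203300 (iv4 D154903) F110165 (iv5 D33786)
theorem F427761 : act 3 n203300 = n186456 := d20_3 F337122 F317432 D203300 F289291 (iv3 D89375) D89376 F137057 (iv4 D41833) (iv3 F64494) D89566
def n203301 : Q := act 5 n118672
theorem D203301 : act 5 n118672 = n203301 := rfl
theorem F427762 : act 2 n203301 = n151336 := d2_1 D203301 (iv5 D151336) (iv2 F348659)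
theorem F427763 : act 7 n203301 = n151341 := d13_2 (iv7 F348661) D203301 (iv5 D151341)
theorem F427764 : act 0 n146554 = n203301 := d21_10 (iv5 D203301) (iv1 F186658) (iv5 F238059) (iv6 F426244) F426246 (iv6 F356765) (iv5 D117323) F85326 D68693 D146554
def n203302 : Q := act 6 n118672
theorem D203302 : act 6 n118672 = n203302 := rfl
theorem F427765 : act 2 n203302 = n151337 := d3_1 D203302 (iv6 D151337) (iv2 F348659)
theorem F427766 : act 5 n203302 = n159921 := d21_6 F55408 F37277 D26426 D54641 D118672 D203302 (iv1 D159921) (iv5 D76555) (iv6 D34984) D34981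
def n203303 : Q := act 5 n118673
theorem D203303 : act 5 n118673 = n203303 := rfl
theorem F427767 : act 2 n203303 = n151341 := d2_1 D203303 (iv5 D151341) (iv2 F348654)
theorem F427768 : act 3 n203303 = n146406 := d6_1 D203303 (iv5 D146406) (iv3 F348655)
theorem F427769 : act 7 n203303 = n151336 := d13_2 (iv7 F348658) D203303 (iv5 D151336)
theorem F427770 : act 0 n203303 = n146554 := d18_0 F419078 (iv1 F421526) (iv4 D201710) (iv5 D115013) D115012 F356466 F90066 D118673 D203303
def n203304 : Q := act 0 n118674
theorem D203304 : act 0 n118674 = n203304 := rfl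
theorem F427771 : act 6 n203304 = n151536 := d21_5 (iv5 D76240) F55052 D54642 (iv6 F186655) D203304 F335915 F142817 (iv5 F239746) (iv6 D152557) F114926
theorem F427772 : act 2 n151343 = n203304 := d3_3 F427771 (iv2 F238416) (iv6 F335931)
theorem F427773 : act 0 n203304 = n151346 := d21_4 (iv5 D90735) D90732 (iv5 F335915) (iv6 F427771) (iv6 F426244) (iv5 D202932) F183652 (iv5 F184401) F335904 (iv1 F329564)
theorem F427774 : act 7 n151344 = n203304 := d15_2 (iv0 D151343) D151344 (iv2 F427772)
def n203305 : Q := act 1 n118674
theorem D203305 : act 1 n118674 = n203305 := rfl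
theorem F427775 : act 1 n203305 = n151346 := d15_1 D203305 (iv7 D151346) (iv2 F186653)
theorem F427776 : act 7 n203305 = n151343 := d15_2 (iv0 D203304) D203305 F427772
theorem F427777 : act 2 n151344 = n203305 := d4_3 F427776 F427772 (iv7 F427774)
def n203306 : Q := act 4 n118674
theorem D203306 : act 4 n118674 = n203306 := rfl
theorem F427778 : act 2 n203306 = n151345 := d1_1 D203306 (iv4 D151345) (iv2 F186653)
theorem F427779 : act 3 n203306 = n195165 := d5_1 D203306 (iv4 F410875) F410874 (iv4 D188118) (iv3 F186654)
theorem F427780 : act 6 n203306 = n118677 := d10_2 (iv6 F186655) D203306 (iv4 D118677)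
theorem F427781 : act 0 n203306 = n151534 := d20_7 (iv4 F179007) (iv1 F179138) F179139 D159477 (iv1 F251148) (iv3 F186654) D203306 (iv4 F360959) (iv3 D115028) (iv1 F83773)
theorem F427782 : act 5 n188776 = n203306 := d21_6 (iv5 D68671) (iv1 F50295) D48693 F76629 D92784 D188776 F427781 F238408 (iv6 D105324) (iv1 F104884)
theorem F427783 : act 7 n203306 = n146341 := d15_2 (iv0 F426259) (iv0 F427781) (iv2 F426255)
def n203307 : Q := act 7 n118674
theorem D203307 : act 7 n118674 = n203307 := rfl
theorem F427784 : act 2 n203307 = n151346 := d4_1 D203307 (iv7 D151346) (iv2 F186653)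
theorem F427785 : act 3 n203307 = n187572 := d8_1 D203307 F370844 (iv3 F186654)
theorem F427786 : act 4 n203307 = n146341 := d11_1 D203307 (iv7 F427783) (iv4 D203306)
theorem F427787 : act 5 n203307 = n118675 := d13_1 D203307 (iv7 D118675) D118674
theorem F427788 : act 6 n203307 = n146340 := d14_1 D203307 F397540 (iv6 D195599) F162649 (iv6 F186655)
theorem F427789 : act 1 n151344 = n203307 := d15_1 D151344 (iv7 D203307) F186653
theorem F427790 : act 1 n203307 = n151343 := d15_1 F427789 (iv7 F427776) (iv2 F427777)
theorem F427791 : act 0 n147968 = n151336 := d21_10 (iv5 D151336) (iv1 F186660) (iv5 F427787) F427788 F229680 F335880 (iv5 D54085) D54084 (iv5 F105594) D147968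
theorem F427792 : act 1 n147968 = n151341 := d15_1 (iv0 F427791) (iv7 F427763) F427762
def n203308 : Q := act 6 n118676
theorem D203308 : act 6 n118676 = n203308 := rfl
theorem F427793 : act 2 n203308 = n151348 := d3_1 D203308 (iv6 D151348) F186664
theorem F427794 : act 4 n203308 = n203304 := d10_1 D203308 F427771 F238415
theorem F427795 : act 5 n203308 = n144853 := d12_1 D203308 (iv6 D144853) (iv5 D67895) D67896 (iv5 F186663)
theorem F427796 : act 0 n203308 = n202953 := d21_4 (iv5 F166768) (iv1 F166772) (iv5 F186663) D203308 (iv6 D202953) F183797 (iv1 D54237) D54238 (iv6 F316772) D105913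
theorem F427797 : act 0 n151531 = n203308 := d21_4 (iv5 F369125) (iv1 F369127) F329546 (iv6 F238397) (iv6 D203308) F186663 F103963 D76650 (iv6 F142824) F329253
def n203309 : Q := act 7 n118697
theorem D203309 : act 7 n118697 = n203309 := rfl
theorem F427798 : act 2 n203309 = n120001 := d4_1 D203309 (iv7 D120001) (iv2 F186690)
theorem F427799 : act 3 n203309 = n118909 := d8_1 D203309 F186963 (iv3 F186691)
theorem F427800 : act 4 n203309 = n138315 := d11_1 D203309 F366638 (iv4 F237236)
theorem F427801 : act 5 n203309 = n118826 := d13_1 D203309 F186898 (iv5 F186692)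
theorem F427802 : act 6 n203309 = n151372 := d14_1 D203309 (iv7 D151372) (iv6 D71351) (iv7 F86405) D118697
theorem F427803 : act 1 n118846 = n203309 := d15_1 (iv0 F187242) (iv7 D203309) F186690
theorem F427804 : act 1 n203309 = n120000 := d15_1 F427803 F361473 F232648
theorem F427805 : act 3 n193702 = n138315 := d20_5 (iv4 D102584) (iv1 F139329) D187127 F369189 D193702 (iv4 F427800) (iv1 F427803) F397549 (iv3 F397550) (iv1 F387038)
def n203310 : Q := act 7 n118701
theorem D203310 : act 7 n118701 = n203310 := rfl
theorem F427806 : act 2 n203310 = n118749 := d4_1 D203310 (iv7 D118749) (iv2 F186699)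
theorem F427807 : act 3 n203310 = n202896 := d8_1 D203310 F426092 (iv3 F391595)
theorem F427808 : act 4 n203310 = n118705 := d11_1 D203310 (iv7 D118705) (iv4 F186700)
theorem F427809 : act 5 n203310 = n152057 := d13_1 D203310 (iv7 D152057) (iv5 F307802)
theorem F427810 : act 6 n203310 = n151433 := d14_1 D203310 (iv7 D151433) (iv6 D71389) (iv7 F86415) D118701
theorem F427811 : act 1 n118747 = n203310 := d15_1 D118747 (iv7 D203310) F186699
theorem F427812 : act 1 n203310 = n118746 := d15_1 F427811 (iv7 F426671) F426669
def n203311 : Q := act 5 n118703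
theorem D203311 : act 5 n118703 = n203311 := rfl
theorem F427813 : act 2 n203311 = n118757 := d2_1 D203311 (iv5 D118757) (iv2 F283573)
theorem F427814 : act 3 n203311 = n201483 := d6_1 D203311 (iv5 D201483) F347807
theorem F427815 : act 6 n203311 = n201093 := d12_2 F421276 D203311 (iv5 F421280) (iv6 D201659) D201658
theorem F427816 : act 7 n203311 = n118753 := d13_2 (iv7 F283574) D203311 (iv5 D118753)
theorem F427817 : act 1 n203311 = n201432 := d17_6 (iv1 D202903) D202904 (iv1 F426136) (iv5 F427015) F427016 D203311 F420495 D201633 F426128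
def n203312 : Q := act 0 n118704
theorem D203312 : act 0 n118704 = n203312 := rfl
theorem F427818 : act 4 n203312 = n148104 := d20_8 (iv4 F230255) (iv1 F418972) F418970 F361669 D203024 F426678 (iv4 F413387) D203312 F231913 (iv1 F105685)
theorem F427819 : act 5 n203312 = n201666 := d21_2 D118704 D203312 (iv6 D201666) (iv1 D114941) (iv6 D53035) D53034 D114936 D201658 F421276 (iv1 D118703)
theorem F427820 : act 6 n203312 = n197038 := d21_5 (iv5 D72089) (iv1 F52515) D54654 (iv6 F186704) D203312 (iv5 D197038) (iv1 D107553) D107555 F322883 (iv1 F114178)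
theorem F427821 : act 3 n159345 = n203312 := d7_3 F427820 F402781 (iv6 F383192)
theorem F427822 : act 0 n203312 = n118762 := d21_10 F186812 (iv1 F186701) D203311 F427815 (iv1 F419072) (iv6 D197192) F166827 (iv1 F165936) D197038 (iv6 F427820)
theorem F427823 : act 7 n203312 = n118760 := d8_2 (iv7 F250857) F427821 F421193
theorem F427824 : act 2 n203312 = n118759 := d15_3 (iv0 D118759) D118760 (iv7 F427823)
def n203313 : Q := act 1 n118704
theorem D203313 : act 1 n118704 = n203313 := rfl
theorem F427825 : act 1 n203313 = n118762 := d15_1 D203313 (iv7 D118762) (iv2 F186702)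
theorem F427826 : act 7 n203313 = n118759 := d15_2 (iv0 D203312) D203313 (iv2 F427824)
theorem F427827 : act 3 n201485 = n203313 := d19_19 (iv1 D203313) (iv5 D118704) (iv4 F186700) F391595 (iv1 D146782) D146784 (iv4 F412272) F412271 D199459 F412284 F409167 F277680 (iv1 F303322) (iv5 F326095) D198297 F412804 (iv1 D199600) (iv5 F413402) (iv4 F420680)
theorem F427828 : act 5 n121320 = n203313 := d21_0 (iv1 D203313) (iv5 D118704) (iv6 D54653) (iv1 F42246) D33060 (iv5 F103982) D144867 (iv5 F251686) (iv6 F421196) (iv1 F421197)
theorem F427829 : act 2 n203313 = n118760 := d2_1 F427828 (iv5 F421192) (iv2 F421191)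
def n203314 : Q := act 7 n118704
theorem D203314 : act 7 n118704 = n203314 := rfl
theorem F427830 : act 2 n203314 = n118762 := d4_1 D203314 (iv7 D118762) (iv2 F186702)
theorem F427831 : act 3 n203314 = n187837 := d8_1 D203314 (iv7 D187837) (iv3 F186703)
theorem F427832 : act 5 n203314 = n118705 := d13_1 D203314 (iv7 D118705) D118704
theorem F427833 : act 1 n118760 = n203314 := d15_1 D118760 (iv7 D203314) F186702
theorem F427834 : act 1 n203314 = n118759 := d15_1 F427833 (iv7 F427826) F427829
def n203315 : Q := act 3 n118707
theorem D203315 : act 3 n118707 = n203315 := rfl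
theorem F427835 : act 4 n203315 = n187832 := d5_2 D118707 D203315 (iv3 D187832) (iv4 D90598) (iv3 F86422)
theorem F427836 : act 6 n203315 = n203024 := d7_2 F413389 D203315 F426678
theorem F427837 : act 0 n203315 = n188465 := d20_7 (iv4 D187952) F362340 (iv4 F339957) F371636 (iv1 D187831) D187832 (iv4 F427835) (iv4 F402336) F402333 (iv1 F371920)
def n203316 : Q := act 5 n118707
theorem D203316 : act 5 n118707 = n203316 := rfl
theorem F427838 : act 2 n203316 = n118773 := d2_1 D203316 (iv5 D118773) (iv2 F186716)
theorem F427839 : act 4 n203316 = n118904 := d16_2 D118707 D203316 F186953 F86528 F42319 (iv4 F42298) (iv5 F86496) (iv7 D54682) (iv2 F86421)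
theorem F427840 : act 7 n118902 = n203316 := d11_0 F427839 (iv7 D118904) D118902
def n203317 : Q := act 7 n118707
theorem D203317 : act 7 n118707 = n203317 := rfl
theorem F427841 : act 2 n203317 = n118774 := d4_1 D203317 (iv7 D118774) (iv2 F186716)
theorem F427842 : act 4 n203317 = n118708 := d11_1 D203317 (iv7 D118708) D118707
theorem F427843 : act 5 n203317 = n118902 := d13_1 D203317 F427840 (iv5 D203316)
theorem F427844 : act 1 n118771 = n203317 := d15_1 D118771 (iv7 D203317) F186716
theorem F427845 : act 1 n203317 = n118770 := d15_1 F427844 (iv7 F252541) F252540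
def n203318 : Q := act 5 n118711
theorem D203318 : act 5 n118711 = n203318 := rfl
theorem F427846 : act 2 n203318 = n118787 := d2_1 D203318 (iv5 D118787) (iv2 F186730)
theorem F427847 : act 3 n203318 = n119617 := d6_1 D203318 (iv5 F403308) F403307
theorem F427848 : act 4 n203318 = n124318 := d9_1 D203318 (iv5 D124318) F91688 D84346 (iv4 F348201) (iv5 D152061) F108174 (iv5 F86530) (iv4 F186955) (iv5 F427265) F427264 F185623 (iv4 F339094) (iv5 D151596) (iv4 F186731)
theorem F427849 : act 6 n203318 = n118713 := d12_2 D118711 D203318 (iv5 D118713) (iv6 D54658) D54657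
theorem F427850 : act 7 n203318 = n118736 := d13_2 (iv7 F305877) D203318 F186781
theorem F427851 : act 0 n203318 = n118907 := d17_2 (iv1 F305876) D203318 F332503 (iv4 F332499) D99573 D192052 F385354 F351911 (iv4 D152064)
theorem F427852 : act 1 n203318 = n118906 := d17_8 (iv1 D192052) (iv5 D99573) D99571 F339086 (iv4 D139224) (iv5 F338981) (iv0 F305875) D203318 (iv4 F385353)
def n203319 : Q := act 1 n118725
theorem D203319 : act 1 n118725 = n203319 := rfl
theorem F427853 : act 1 n203319 = n118797 := d15_1 D203319 F305899 (iv2 F186746)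
theorem F427854 : act 7 n203319 = n118850 := d15_2 (iv0 F237071) D203319 (iv2 F237072)
theorem F427855 : act 5 n203319 = n191862 := d17_7 (iv1 F384676) F384674 (iv1 D118851) (iv5 F343275) (iv4 F153727) F343272 D203319 (iv0 F384607) F356215
theorem F427856 : act 4 n203319 = n159408 := d17_9 (iv1 D159408) F114290 F188317 F322435 F100675 D64838 (iv0 F331206) F343272 D203319
theorem F427857 : act 6 n136364 = n203319 := d21_3 D30255 D64227 F219678 (iv1 D203319) F186747 D118734 F186774 (iv5 D76262) F312266 (iv1 D30253)
theorem F427858 : act 2 n203319 = n118851 := d3_1 F427857 (iv6 F201256) F314592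
theorem E103867 : n192711 = n136647 := (c12_4 F427857 F427855 F384605 (iv5 F387584) (iv6 D136647) F219678)
theorem F427859 : act 0 n136647 = n192038 := (sb E103867 F387585)
theorem F427860 : act 1 n136647 = n183982 := (sb E103867 (iv0 F387586))
theorem F427861 : act 3 n136647 = n100548 := (sb E103867 (iv3 D192711))
theorem F427862 : act 5 n136647 = n191688 := (sb E103867 F387584)
theorem E103868 : n192712 = n136645 := (c7_3 D136647 F427861 D192712 (iv3 D136645))
theorem F427863 : act 6 n136645 = n100548 := (sb E103868 (iv6 D192712))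
theorem F427864 : act 3 n187714 = n203319 := d0_0 F427858 F356224 (iv2 F302342) F363857 F371295
def n203320 : Q := act 4 n118727
theorem D203320 : act 4 n118727 = n203320 := rfl
theorem F427865 : act 2 n203320 = n118868 := d1_1 D203320 (iv4 D118868) (iv2 F186754)
theorem F427866 : act 7 n203320 = n118858 := d11_2 (iv7 F186756) D203320 (iv4 D118858)
theorem F427867 : act 0 n203320 = n159332 := d18_2 F386969 D203320 (iv4 D159332) (iv5 F114182) F94170 F55646 (iv4 F114956) F154333 D192529
theorem F427868 : act 1 n203320 = n152034 := d18_6 F42300 F42298 (iv1 F42257) D54663 D118727 D203320 F366223 (iv0 D76217) (iv5 D34811)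
def n203321 : Q := act 6 n118727
theorem D203321 : act 6 n118727 = n203321 := rfl
theorem F427869 : act 2 n203321 = n118869 := d3_1 D203321 (iv6 D118869) (iv2 F186754)
theorem F427870 : act 3 n203321 = n119214 := d7_1 D203321 (iv6 D119214) (iv3 F186755)
theorem F427871 : act 5 n203321 = n146636 := d12_1 D203321 (iv6 D146636) (iv5 D68717) (iv6 F86455) D118727
theorem F427872 : act 0 n203321 = n146562 := d21_7 F371166 F360982 (iv5 F398030) (iv6 D195745) (iv1 F163282) D146636 (iv5 F427871) (iv5 F426280) F426281 F371405
def n203322 : Q := act 3 n118728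
theorem D203322 : act 3 n118728 = n203322 := rfl
theorem F427873 : act 4 n203322 = n145114 := d5_2 D118728 D203322 (iv3 D145114) (iv4 F104149) (iv3 F86459)
theorem F427874 : act 7 n203322 = n118862 := d8_2 (iv7 F186758) D203322 (iv3 D118862)
def n203323 : Q := act 5 n118728
theorem D203323 : act 5 n118728 = n203323 := rfl
theorem F427875 : act 2 n203323 = n118871 := d2_1 D203323 (iv5 D118871) (iv2 F186757)
theorem F427876 : act 6 n203323 = n159337 := d12_2 (iv6 F363430) D203323 (iv5 D159337) (iv6 F178960) F363435
theorem F427877 : act 7 n203323 = n118863 := d13_2 (iv7 F186758) D203323 (iv5 D118863)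
theorem F427878 : act 0 n203323 = n127973 := d17_2 F314661 D203323 (iv5 D127973) (iv4 D60125) (iv5 D28573) (iv0 F50934) (iv5 F55094) (iv0 F114260) (iv4 F314663)
def n203324 : Q := act 5 n118730
theorem D203324 : act 5 n118730 = n203324 := rfl
theorem F427879 : act 2 n203324 = n118878 := d2_1 D203324 (iv5 D118878) (iv2 F186762)
theorem F427880 : act 7 n203324 = n118885 := d13_2 (iv7 F186763) D203324 (iv5 D118885)
theorem F427881 : act 0 n203324 = n159416 := d17_2 (iv1 F186764) D203324 (iv5 D159416) (iv4 D76258) (iv5 F93556) (iv0 F104205) (iv5 F104206) (iv0 D60124) D60125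
theorem F427882 : act 1 n203324 = n159411 := d17_6 D54707 F86517 (iv1 F55574) (iv5 F86462) D118730 D203324 (iv5 D159411) F114292 (iv4 D54708)
def n203325 : Q := act 5 n118732
theorem D203325 : act 5 n118732 = n203325 := rfl
theorem F427883 : act 2 n203325 = n118894 := d2_1 D203325 (iv5 D118894) F186771
theorem F427884 : act 6 n203325 = n137999 := d12_2 (iv6 F363012) D203325 (iv5 D137999) (iv6 D64857) (iv5 F103147)
theorem F427885 : act 7 n203325 = n118891 := d13_2 (iv7 F186769) D203325 (iv5 D118891)
theorem F427886 : act 4 n203325 = n183770 := d16_2 (iv4 F186770) D203325 (iv5 F370995) F374804 F186711 (iv4 F94176) (iv5 F52040) F52041 (iv2 F106634)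
theorem F427887 : act 1 n203325 = n127347 := d17_6 (iv1 F114261) F114263 (iv1 F79157) D70188 (iv4 F186770) D203325 (iv5 D127347) F114306 F114305
def n203326 : Q := act 0 n118733
theorem D203326 : act 0 n118733 = n203326 := rfl
theorem F427888 : act 3 n203326 = n192170 := d20_5 (iv4 D76649) F55642 D54666 D118733 D203326 F385844 (iv1 F368769) F368762 F346613 F235107
theorem F427889 : act 6 n203326 = n137245 := d21_5 (iv5 D47528) (iv1 F73666) D99843 F357232 D203326 (iv5 F360376) (iv1 F222601) D139568 F343256 (iv1 F153740)
theorem F427890 : act 2 n137010 = n203326 := d3_3 F427889 (iv2 F360375) (iv6 F343873)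
theorem F427891 : act 7 n136794 = n203326 := d14_0 F427889 F360374 (iv6 F332955) F350339 D136794
theorem F427892 : act 0 n203326 = n124389 := d21_4 F391290 (iv1 F226513) F360376 (iv6 F427889) (iv6 D124389) F91741 F301573 D123285 F332953 (iv1 F391292)
def n203327 : Q := act 1 n118733
theorem D203327 : act 1 n118733 = n203327 := rfl
theorem F427893 : act 1 n203327 = n124389 := d15_1 D203327 F357242 (iv2 F357233)
theorem F427894 : act 7 n203327 = n137010 := d15_2 (iv0 D203326) D203327 F427890
theorem F427895 : act 3 n194009 = n203327 := d20_3 (iv4 F385222) (iv1 F385225) F391754 (iv1 D203327) (iv3 D118733) (iv4 D54666) D54665 D118730 (iv3 F382832) (iv1 F382836)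
theorem F427896 : act 6 n135943 = n203327 := d21_3 D30189 D64037 (iv5 F350326) (iv1 D203327) (iv6 F357232) (iv5 D99843) (iv1 D46630) D46632 F333114 (iv1 D30187)
theorem F427897 : act 2 n203327 = n136794 := d3_1 F427896 (iv6 D136794) (iv2 F350335)
def n203328 : Q := act 7 n118733
theorem D203328 : act 7 n118733 = n203328 := rfl
theorem F427898 : act 2 n203328 = n124389 := d4_1 D203328 F357242 (iv2 F357233)
theorem F427899 : act 3 n203328 = n118735 := d8_1 D203328 (iv7 D118735) D118733
theorem F427900 : act 4 n203328 = n119612 := d11_1 D203328 F188650 (iv4 F186772)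
theorem F427901 : act 5 n203328 = n124183 := d13_1 D203328 (iv7 F391250) F391249
theorem F427902 : act 6 n203328 = n124184 := d14_1 D203328 F301975 F91693 (iv7 F289744) F357232
theorem F427903 : act 1 n136794 = n203328 := d15_1 (iv0 F350342) (iv7 D203328) F357233
theorem F427904 : act 1 n203328 = n137010 := d15_1 F427903 (iv7 F427894) F427897
def n203329 : Q := act 1 n118734
theorem D203329 : act 1 n118734 = n203329 := rfl
theorem F427905 : act 1 n203329 = n118904 := d15_1 D203329 (iv7 D118904) (iv2 F186773)
theorem F427906 : act 7 n203329 = n118900 := d15_2 (iv0 F186774) D203329 (iv2 F186950)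
theorem F427907 : act 5 n203329 = n151179 := d17_7 F86461 (iv5 D54664) (iv1 D26437) D26438 D54666 D118734 D203329 (iv0 D151179) (iv4 D71250)
theorem F427908 : act 2 n118901 = n203329 := d2_3 F427907 (iv2 F237877) (iv5 F186952)
theorem F427909 : act 4 n159337 = n203329 := d9_15 F427907 F237876 F114270 F55070 D72089 D152771 (iv5 F251060) (iv4 D159427) (iv5 D76262) (iv4 D34835) (iv5 D16885) (iv4 F27611) D34811 D76219 D159337
def n203330 : Q := act 4 n118734
theorem D203330 : act 4 n118734 = n203330 := rfl
theorem F427910 : act 2 n203330 = n118902 := d1_1 D203330 (iv4 D118902) (iv2 F186773)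
theorem F427911 : act 5 n203330 = n118774 := d9_2 D118734 D203330 F186825 F86496 F42298 (iv5 F42319) (iv4 F86528) (iv5 F186953) (iv4 F427839) (iv5 D203316) (iv4 D118707) (iv5 D54654) F42249 D26438 D54666
theorem F427912 : act 7 n118773 = n203330 := d13_0 F427911 (iv7 D118774) D118773
def n203331 : Q := act 7 n118734
theorem D203331 : act 7 n118734 = n203331 := rfl
theorem F427913 : act 2 n203331 = n118904 := d4_1 D203331 (iv7 D118904) (iv2 F186773)
theorem F427914 : act 3 n203331 = n124183 := d8_1 D203331 (iv7 F391250) F391248
theorem F427915 : act 4 n203331 = n118773 := d11_1 D203331 F427912 (iv4 D203330)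
theorem F427916 : act 5 n203331 = n118735 := d13_1 D203331 (iv7 D118735) D118734
theorem F427917 : act 6 n203331 = n124178 := d14_1 D203331 F302894 (iv6 F277175) (iv7 F391241) F391240
theorem F427918 : act 1 n118901 = n203331 := d15_1 D118901 (iv7 D203331) F186773
theorem F427919 : act 1 n203331 = n118900 := d15_1 F427918 (iv7 F427906) (iv2 F427908)
theorem F427920 : act 6 n193809 = n118773 := d10_2 F427917 F391056 (iv4 F427915)
def n203332 : Q := act 6 n118735
theorem D203332 : act 6 n118735 = n203332 := rfl
theorem F427921 : act 2 n203332 = n118905 := d3_1 D203332 (iv6 D118905) (iv2 F186775)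
theorem F427922 : act 3 n203332 = n124184 := d7_1 D203332 (iv6 F427902) F427899
theorem F427923 : act 4 n203332 = n118736 := d10_1 D203332 (iv6 D118736) (iv4 F186776)
theorem F427924 : act 5 n203332 = n124179 := d12_1 D203332 (iv6 D124179) D124178 (iv6 F427917) F427916
theorem F427925 : act 7 n203332 = n124318 := d14_2 D118735 D203332 F198799 F343271 F186747
theorem F427926 : act 0 n203332 = n151596 := d21_4 (iv5 F186949) (iv1 F427919) F427916 D203332 F238475 (iv5 D71461) D71459 F353546 F105604 (iv1 F114267)
theorem F427927 : act 1 n203332 = n152061 := d15_1 (iv0 F427926) (iv7 F348203) (iv2 F238474)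
def n203333 : Q := act 5 n118742
theorem D203333 : act 5 n118742 = n203333 := rfl
theorem F427928 : act 2 n203333 = n151518 := d2_1 D203333 (iv5 D151518) (iv2 F186798)
theorem F427929 : act 3 n203333 = n192897 := d6_1 D203333 F388137 F357188
theorem F427930 : act 6 n203333 = n192890 := d12_2 D118742 D203333 F388113 F155042 (iv5 F305309)
def n203334 : Q := act 5 n118746
theorem D203334 : act 5 n118746 = n203334 := rfl
def n203335 : Q := act 6 n118746
theorem D203335 : act 6 n118746 = n203335 := rfl
theorem F427931 : act 2 n203335 = n188585 := d3_1 D203335 (iv6 F419897) F419895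
theorem F427932 : act 4 n203335 = n188582 := d10_1 D203335 (iv6 F374078) (iv4 F347732)
def n203336 : Q := act 5 n118747
theorem D203336 : act 5 n118747 = n203336 := rfl
theorem F427933 : act 3 n203336 = n189074 := d6_1 D203336 F375643 (iv3 F347726)
theorem F427934 : act 6 n203336 = n189073 := d12_2 F369022 D203336 F375637 F367073 (iv5 F369021)
theorem F427935 : act 4 n203336 = n201432 := d18_5 (iv1 D203113) F184291 D147932 F347725 D203336 (iv0 F420496) F426133 (iv0 F426135) (iv5 F427027)
def n203337 : Q := act 0 n118748
theorem D203337 : act 0 n118748 = n203337 := rfl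
theorem F427936 : act 4 n203337 = n203314 := d18_1 D203337 (iv1 F427833) (iv4 F427030) (iv5 D203114) F184291 (iv0 F347728) (iv4 F347732) (iv0 D118746) D118748
theorem F427937 : act 3 n203337 = n135140 := d20_5 (iv4 F357528) (iv1 F222488) (iv4 F396199) F396197 D203337 (iv4 F406212) (iv1 F426732) (iv4 D203038) (iv3 F426727) F426728
theorem F427938 : act 2 n134805 = n203337 := d15_3 (iv0 D203337) (iv0 F363657) F351271
theorem F427939 : act 6 n203337 = n134801 := d3_2 D134805 F427938 F216914
theorem F427940 : act 7 n203337 = n152056 := d4_2 F351271 F427938 F413388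
theorem F427941 : act 1 n152057 = n203337 := d15_1 F363658 F427940 F413388
def n203338 : Q := act 4 n118748
theorem D203338 : act 4 n118748 = n203338 := rfl
theorem F427942 : act 2 n203338 = n152054 := d1_1 D203338 F239073 (iv2 F311485)
theorem F427943 : act 6 n203338 = n151510 := d10_2 (iv6 F311486) D203338 (iv4 D151510)
theorem F427944 : act 1 n203338 = n159404 := d18_8 (iv1 F347729) (iv4 F347732) (iv1 F427812) F427808 (iv5 F427832) (iv4 F427936) (iv0 D203337) D203338 F251012
theorem F427945 : act 5 n203338 = n202939 := d21_0 (iv1 D202939) D202940 (iv6 F426363) (iv1 F426365) (iv6 D118869) (iv5 D54710) F55089 D76252 D159404 (iv1 F427944)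
def n203339 : Q := act 7 n118748
theorem D203339 : act 7 n118748 = n203339 := rfl
theorem F427946 : act 2 n203339 = n152057 := d4_1 D203339 (iv7 D152057) (iv2 F311485)
theorem F427947 : act 5 n203339 = n118749 := d13_1 D203339 (iv7 D118749) D118748
theorem F427948 : act 1 n152056 = n203339 := d15_1 D152056 (iv7 D203339) F311485
theorem F427949 : act 1 n203339 = n134805 := d15_1 F427948 (iv7 F351271) (iv2 F413388)
def n203340 : Q := act 5 n118751
theorem D203340 : act 5 n118751 = n203340 := rfl
theorem F427950 : act 2 n203340 = n201481 := d2_1 D203340 (iv5 D201481) F347802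
theorem F427951 : act 3 n203340 = n118753 := d6_1 D203340 (iv5 D118753) D118751
theorem F427952 : act 7 n203340 = n201483 := d13_2 F347809 D203340 (iv5 D201483)
theorem F427953 : act 4 n203340 = n199662 := d16_2 F347793 D203340 (iv5 D199662) (iv4 D111572) (iv5 D51458) (iv4 F81229) D111550 F347801 (iv2 F347792)
def n203341 : Q := act 5 n118752
theorem D203341 : act 5 n118752 = n203341 := rfl
theorem F427954 : act 2 n203341 = n188324 := d2_1 D203341 (iv5 F427027) F427026
theorem F427955 : act 4 n203341 = n202940 := d9_1 D203341 (iv5 D202940) F183702 D146824 (iv4 F361652) (iv5 D118757) D118756 F361655 (iv4 F373016) F373017 (iv4 F425050) F425054 F425055 (iv5 D118753) D118752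
theorem F427956 : act 7 n203341 = n188321 := d13_2 (iv7 F427021) D203341 (iv5 F427015)
theorem F427957 : act 0 n203341 = n188323 := d17_2 (iv1 F314118) D203341 (iv5 F425054) F425050 (iv5 F373017) (iv0 F375337) F375336 F349954 F314115
theorem F427958 : act 1 n203341 = n146824 := d15_1 (iv0 F427957) (iv7 F426132) F426130
def n203342 : Q := act 0 n118753
theorem D203342 : act 0 n118753 = n203342 := rfl
theorem F427959 : act 5 n203342 = n201627 := d17_1 D203342 (iv1 F421308) (iv5 F427819) F427818 (iv5 D148104) (iv0 F361653) F361655 D188323 F425055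
theorem F427960 : act 1 n118757 = n203342 := d15_0 (iv0 D203342) (iv7 F427816) F427813
theorem F427961 : act 3 n192778 = n203342 := d19_19 (iv1 F427960) (iv5 D118757) D118756 F361654 F294958 D186863 (iv4 F387554) F387551 (iv1 D109170) (iv5 F337487) F337486 (iv3 F172791) (iv1 F410541) F410542 D199490 F412364 (iv1 F223525) D197870 (iv4 F406067)
theorem F427962 : act 2 n203342 = n201432 := d0_1 F427961 (iv3 D201432) (iv2 F179124) F371746 F387728
def n203343 : Q := act 1 n118753
theorem D203343 : act 1 n118753 = n203343 := rfl
theorem F427963 : act 1 n203343 = n118757 := d15_1 D203343 F371713 F371711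
theorem F427964 : act 7 n203343 = n201432 := d15_2 (iv0 D203342) D203343 (iv2 F427962)
theorem F427965 : act 5 n203343 = n201634 := d17_7 (iv1 D146823) D146824 (iv1 F427958) (iv5 D203341) (iv4 D118752) D118753 D203343 (iv0 F421304) F421309
theorem F427966 : act 3 n157719 = n203343 := d20_9 (iv4 F425055) (iv1 D188323) (iv4 F373016) F373015 F356662 F178201 D114320 F331549 F331470 (iv1 D203343)
theorem F427967 : act 6 n203343 = n201376 := d7_2 F248564 F427966 (iv3 D201376)
theorem F427968 : act 0 n199662 = n188381 := d20_7 D114320 F331549 F331470 F427966 (iv1 D203343) (iv3 F427951) F427953 (iv4 F419988) (iv3 D201316) (iv1 F178181)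
def n203344 : Q := act 5 n118755
theorem D203344 : act 5 n118755 = n203344 := rfl
theorem F427969 : act 2 n203344 = n201793 := d2_1 D203344 F421811 (iv2 F283571)
theorem F427970 : act 3 n203344 = n118757 := d6_1 D203344 (iv5 D118757) D118755
theorem F427971 : act 7 n203344 = n188877 := d13_2 (iv7 F283572) D203344 F375115
theorem F427972 : act 4 n203344 = n200789 := d16_2 (iv4 F379362) D203344 (iv5 D200789) (iv4 D113459) (iv5 D52374) D52373 D113455 (iv7 F354589) (iv2 F379364)
theorem F427973 : act 0 n203344 = n201159 := d17_2 F316758 D203344 F421066 F421064 (iv5 F204912) D199958 F414348 (iv0 F259558) F318880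
theorem F427974 : act 6 n203344 = n159357 := d21_3 (iv5 F316761) F316758 D203344 (iv1 F250885) (iv6 F250873) F250872 (iv1 F210032) (iv5 F421731) (iv6 D201766) (iv1 F250860)
theorem F427975 : act 3 n201159 = n194433 := d20_5 F373016 (iv1 F418372) (iv4 F361652) (iv3 F427970) F427973 (iv4 F412473) (iv1 F412474) F375341 (iv3 F375335) F375337
theorem F427976 : act 6 n194433 = n201157 := d7_2 D201159 F427975 (iv3 D201157)
def n203345 : Q := act 6 n118755
theorem D203345 : act 6 n118755 = n203345 := rfl
theorem F427977 : act 2 n203345 = n201869 := d3_1 D203345 F422141 (iv2 F283571)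
theorem F427978 : act 3 n203345 = n118758 := d7_1 D203345 (iv6 D118758) D118755
theorem F427979 : act 4 n203345 = n193607 := d10_1 D203345 F390447 (iv4 F379362)
theorem F427980 : act 0 n150007 = n203345 := d21_4 (iv5 D115195) (iv1 F333235) F193503 D150007 (iv6 D203345) D203344 F427973 F421066 (iv6 F421065) F418773
def n203346 : Q := act 6 n118757
theorem D203346 : act 6 n118757 = n203346 := rfl
theorem F427981 : act 2 n203346 = n201093 := d3_1 D203346 (iv6 F427815) F427813
theorem F427982 : act 3 n203346 = n159357 := d7_1 D203346 (iv6 F427974) F427970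
theorem F427983 : act 5 n203346 = n187748 := d12_1 D203346 F396456 F396453 (iv6 D118758) D118757
theorem F427984 : act 7 n203346 = n201094 := d14_2 (iv7 F371713) D203346 (iv6 F419063) F370709 D187859
theorem F427985 : act 0 n159333 = n203346 := d21_4 F114580 (iv1 F114578) F114182 D159333 (iv6 D203346) (iv5 D118757) (iv1 D54674) D54675 F86486 D54679
theorem F427986 : act 1 n201095 = n203346 := d15_0 (iv0 F427985) (iv7 F403473) (iv2 F419067)
def n203347 : Q := act 3 n118759
theorem D203347 : act 3 n118759 = n203347 := rfl
theorem F427987 : act 2 n203347 = n201484 := d0_1 D203347 (iv3 F420679) (iv2 F250858) F427821 F427824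
theorem F427988 : act 7 n203347 = n201485 := d8_2 F427826 D203347 F427827
def n203348 : Q := act 4 n118759
theorem D203348 : act 4 n118759 = n203348 := rfl
theorem F427989 : act 2 n203348 = n148104 := d1_1 D203348 (iv4 F427818) F427824
theorem F427990 : act 5 n203348 = n140010 := d17_5 F420496 F420495 D201632 (iv5 F421311) D203348 F427018 F427015 F426136 (iv4 F426133)
theorem F427991 : act 3 n203348 = n140011 := d19_3 D201632 (iv5 F421311) D203348 (iv1 F224550) (iv5 D141482) F181560 F103761 F181562 (iv5 D31136) D31135 D66788 (iv1 F165367) (iv5 F306960) F331567 F178002 F163182 (iv5 D106190) (iv4 F177830) (iv3 F178980)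
theorem F427992 : act 0 n203347 = n201487 := d19_4 (iv1 F427018) (iv5 F427990) (iv4 D203348) D203347 F420685 (iv4 F290472) F318693 (iv1 F316330) (iv5 D39923) F30129 (iv3 F322502) (iv1 F39612) F320736 D35856 D78755 F328754 (iv5 F328755) (iv4 F353625) (iv3 F427017)
theorem F427993 : act 6 n151959 = n203348 := d12_0 F427990 F314121 F302703 (iv6 F307263) (iv5 F238964)
def n203349 : Q := act 6 n118759
theorem D203349 : act 6 n118759 = n203349 := rfl
theorem F427994 : act 2 n203349 = n197038 := d3_1 D203349 (iv6 F427820) F427824
theorem F427995 : act 4 n203349 = n151959 := d10_1 D203349 F427993 (iv4 D203348)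
theorem F427996 : act 0 n203349 = n187546 := d21_4 F420495 D201632 (iv5 F421311) D203349 (iv6 D187546) F138934 D94294 F288160 D187859 F420496
theorem F427997 : act 5 n203349 = n151940 := d21_6 (iv5 D54678) (iv1 D26446) D26447 (iv6 F86486) D118759 D203349 F238926 (iv5 F371588) (iv6 D187811) F139473
theorem F427998 : act 7 n197037 = n203349 := d13_0 F427997 F238925 D197037
def n203350 : Q := act 5 n118761
theorem D203350 : act 5 n118761 = n203350 := rfl
theorem F427999 : act 3 n203350 = n134076 := d6_1 D203350 (iv5 F216933) F351272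
theorem F428000 : act 6 n203350 = n201215 := d12_2 (iv6 F186810) D203350 F419475 F427920 (iv5 D118773)
theorem F428001 : act 7 n203350 = n134070 := d13_2 (iv7 F351271) D203350 (iv5 F216917)
theorem F428002 : act 4 n201217 = n203350 := d16_0 (iv5 D203350) (iv4 D118761) (iv5 D54675) (iv4 F86484) D118748 D203338 F427945 F426286 (iv2 F424854)
theorem F428003 : act 0 n203350 = n201629 := d20_1 F428002 F421186 F178980 F325417 (iv3 D68674) (iv4 D31956) (iv1 F41491) D54073 D117322 F419494
def n203351 : Q := act 1 n118763
theorem D203351 : act 1 n118763 = n203351 := rfl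
theorem F428004 : act 1 n203351 = n118764 := d15_1 D203351 F186814 (iv2 F186813)
theorem F428005 : act 7 n203351 = n159334 := d15_2 (iv0 F386977) D203351 (iv2 F362841)
theorem F428006 : act 4 n203351 = n159870 := d18_7 F86457 F46146 (iv1 F50933) F42291 D54677 D118763 D203351 F252055 (iv5 D118727)
theorem F428007 : act 2 n159335 = n203351 := d1_3 F428006 F252051 (iv4 F250833)
def n203352 : Q := act 3 n118763
theorem D203352 : act 3 n118763 = n203352 := rfl
theorem F428008 : act 4 n203352 = n201463 := d5_2 D118763 D203352 (iv3 D201463) (iv4 D114543) (iv3 F86490)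
def n203353 : Q := act 5 n118763
theorem D203353 : act 5 n118763 = n203353 := rfl
theorem F428009 : act 2 n203353 = n159337 := d2_1 D203353 (iv5 D159337) (iv2 F186813)
theorem F428010 : act 6 n203353 = n118871 := d12_2 F421094 D203353 (iv5 D118871) D118872 (iv5 F421093)
theorem F428011 : act 7 n203353 = n159427 := d13_2 F239982 D203353 F251060
theorem F428012 : act 4 n203353 = n118901 := d16_2 D118763 D203353 F186952 F114305 F55094 F42294 D54678 F86492 (iv2 F86489)
def n203354 : Q := act 5 n118764
theorem D203354 : act 5 n118764 = n203354 := rfl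
theorem F428013 : act 2 n203354 = n159427 := d2_1 D203354 F251060 F239981
theorem F428014 : act 4 n203354 = n118900 := d9_1 D203354 F186949 (iv4 D76246) (iv5 D34826) F42291 D54677 D118763 D203353 F428012 F186952 F114305 F55094 F42294 D54678 D118764
theorem F428015 : act 7 n203354 = n159337 := d13_2 (iv7 F186814) D203354 (iv5 D159337)
def n203355 : Q := act 6 n118764
theorem D203355 : act 6 n118764 = n203355 := rfl
theorem F428016 : act 2 n203355 = n187623 := d3_1 D203355 (iv6 F372992) F239981
theorem F428017 : act 4 n203355 = n118765 := d10_1 D203355 (iv6 D118765) D118764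
theorem F428018 : act 7 n203355 = n187622 := d14_2 (iv7 F186814) D203355 F375824 F363434 F178960
theorem F428019 : act 5 n199791 = n203355 := d13_3 F428018 (iv5 F375825) (iv7 F413520)
theorem F428020 : act 0 n203355 = n187614 := d21_7 (iv5 F335413) F335411 F291834 F351178 (iv1 F388667) (iv6 F413519) F428019 F371020 (iv6 D184120) (iv1 F154736)
theorem F428021 : act 1 n203355 = n187624 := d15_1 (iv0 F428020) (iv7 D187624) (iv2 F371017)
def n203356 : Q := act 1 n118765
theorem D203356 : act 1 n118765 = n203356 := rfl
theorem F428022 : act 3 n201424 = n203356 := d19_19 (iv1 D203356) F186816 (iv4 F395992) F395991 (iv1 F383837) (iv5 D102623) D102622 D194059 F391908 D198467 F408116 (iv3 F331480) (iv1 F340451) F340454 (iv4 F223609) (iv3 D140428) (iv1 F180056) D202431 F423967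
theorem F428023 : act 5 n137400 = n203356 := d21_0 (iv1 D203356) F186816 (iv6 D105337) (iv1 F106127) D148799 F233636 D197027 F402739 (iv6 F423360) F423361
theorem F428024 : act 2 n203356 = n201376 := d0_1 F428022 (iv3 D201376) F237979 D151257 (iv2 F420463)
def n203357 : Q := act 6 n118766
theorem D203357 : act 6 n118766 = n203357 := rfl
theorem F428025 : act 2 n203357 = n201444 := d3_1 D203357 F420530 (iv2 F186817)
theorem F428026 : act 3 n203357 = n118768 := d7_1 D203357 (iv6 D118768) D118766
theorem F428027 : act 5 n203357 = n201441 := d12_1 D203357 (iv6 D201441) F178579 F176819 (iv5 F186818)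
theorem F428028 : act 0 n203357 = n201537 := d21_4 (iv5 F95773) F162382 (iv5 F186818) D203357 (iv6 D201537) (iv5 D114797) (iv1 D52971) D52972 F83696 D52976
theorem F428029 : act 1 n203357 = n190515 := d15_1 (iv0 F428028) F379972 (iv2 F420889)
def n203358 : Q := act 3 n118767
theorem D203358 : act 3 n118767 = n203358 := rfl
theorem F428030 : act 6 n203358 = n189120 := d7_2 (iv6 F374792) D203358 (iv3 D189120)
theorem F428031 : act 7 n203358 = n192618 := d8_2 F251703 D203358 F387255
def n203359 : Q := act 1 n118768
theorem D203359 : act 1 n118768 = n203359 := rfl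
theorem F428032 : act 1 n203359 = n187852 := d15_1 D203359 (iv7 F374801) (iv2 F374796)
theorem F428033 : act 7 n203359 = n201446 := d15_2 (iv0 F421120) D203359 (iv2 F421116)
theorem F428034 : act 3 n157739 = n203359 := d20_9 (iv4 F374795) (iv1 D93287) (iv4 F143861) (iv3 D93281) (iv1 F141506) F356721 (iv4 F402343) F407390 F407391 (iv1 D203359)
theorem F428035 : act 2 n203359 = n187999 := d0_1 F428034 (iv3 D187999) (iv2 F376973) (iv3 F370802) F376987
theorem F428036 : act 4 n203359 = n187478 := d5_2 F407391 F428034 (iv3 D187478) F336756 D198264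
theorem F428037 : act 1 n187478 = n187609 := d18_8 F367473 (iv4 F370497) (iv1 F370496) (iv4 D187470) (iv5 F295020) F374795 D203359 F428036 (iv5 D187609)
theorem F428038 : act 3 n127814 = n188978 := d20_3 (iv4 F205642) F410635 F410634 (iv1 D188978) (iv3 F374807) F374478 (iv1 F428037) (iv4 F428036) (iv3 F428034) (iv1 D157739)
theorem F428039 : act 7 n188978 = n201349 := d8_2 F350584 F428038 (iv3 D201349)
theorem F428040 : act 0 n188964 = n145233 := d20_4 (iv4 F375309) F419943 (iv4 D188965) D188964 F228216 (iv4 F205642) F410635 F410634 F428038 (iv1 D188978)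
theorem F428041 : act 2 n201349 = n188977 := d15_3 (iv0 D188977) D188978 F428039
def n203360 : Q := act 5 n118768
theorem D203360 : act 5 n118768 = n203360 := rfl
theorem F428042 : act 2 n203360 = n145233 := d2_1 D203360 (iv5 F374805) (iv2 F374796)
theorem F428043 : act 3 n203360 = n201441 := d6_1 D203360 (iv5 F428027) F428026
theorem F428044 : act 6 n203360 = n119994 := d12_2 D118768 D203360 F189430 (iv6 F114577) (iv5 F114580)
def n203361 : Q := act 3 n118769
theorem D203361 : act 3 n118769 = n203361 := rfl
theorem F428045 : act 4 n203361 = n201742 := d5_2 D118769 D203361 (iv3 D201742) (iv4 D115036) (iv3 F86494)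
theorem F428046 : act 0 n203361 = n148133 := d20_4 F427842 (iv1 F186720) D118769 D203361 F372747 (iv4 F372744) (iv1 F372433) D192000 F385149 (iv1 F427845)
theorem F428047 : act 0 n197694 = n203361 := d20_4 F351281 (iv1 D108590) (iv4 F167925) (iv3 F405393) (iv3 D203361) (iv4 D118769) (iv1 D54680) D54681 D118772 F351279
def n203362 : Q := act 5 n118769
theorem D203362 : act 5 n118769 = n203362 := rfl
theorem F428048 : act 4 n203362 = n118891 := d9_1 D203362 (iv5 D118891) F107525 F104206 (iv4 F114576) (iv5 F114580) D118767 (iv5 F382857) (iv4 F382858) (iv5 D118894) (iv4 F86526) (iv5 D32583) (iv4 F51641) F86493 D118769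
theorem F428049 : act 7 n203362 = n183770 := d13_2 (iv7 F374810) D203362 (iv5 F370995)
theorem F428050 : act 0 n203362 = n154510 := d17_2 F372777 D203362 F362838 F250830 F186919 (iv0 F106659) D76639 (iv0 F250961) (iv4 F372775)
def n203363 : Q := act 5 n118770
theorem D203363 : act 5 n118770 = n203363 := rfl
theorem F428051 : act 6 n203363 = n183767 := d12_2 (iv6 F375785) D203363 (iv5 D183767) (iv6 F294911) D187603
theorem F428052 : act 4 n203363 = n118885 := d16_2 (iv4 F250988) D203363 (iv5 D118885) (iv4 D54716) (iv5 F55595) (iv4 F73969) D100349 (iv7 F178130) (iv2 F250987)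
def n203364 : Q := act 3 n118771
theorem D203364 : act 3 n118771 = n203364 := rfl
theorem F428053 : act 4 n203364 = n192540 := d5_2 (iv4 F186822) D203364 (iv3 D192540) (iv4 D100362) (iv3 F154337)
theorem F428054 : act 6 n203364 = n192538 := d7_2 F186823 D203364 (iv3 D192538)
theorem F428055 : act 0 n187480 = n203364 := d20_4 F139085 D93770 F354763 D187480 (iv3 D203364) F186822 F154339 D159403 (iv3 F370921) (iv1 D187589)
def n203365 : Q := act 5 n118771
theorem D203365 : act 5 n118771 = n203365 := rfl
theorem F428056 : act 4 n203365 = n118878 := d9_1 D203365 (iv5 D118878) (iv4 D54714) F86468 (iv4 F114956) (iv5 F250985) (iv4 F250988) D203363 F428052 (iv5 D118885) (iv4 D54716) (iv5 F55595) (iv4 F73969) D100349 (iv4 F186822)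
def n203366 : Q := act 5 n118772
theorem D203366 : act 5 n118772 = n203366 := rfl
theorem F428057 : act 3 n203366 = n118773 := d6_1 D203366 (iv5 D118773) D118772
def n203367 : Q := act 0 n118773
theorem D203367 : act 0 n118773 = n203367 := rfl
theorem F428058 : act 5 n203367 = n118858 := d17_3 (iv1 D118771) D118773 D203367 (iv4 D118858) (iv5 D54706) (iv0 F55088) D76252 (iv0 F154339) (iv4 F186822)
theorem F428059 : act 4 n203367 = n118871 := d18_3 (iv1 F427919) F427915 D203367 (iv5 D118871) (iv4 D54711) F86519 D118860 F186929 (iv5 F186949)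
theorem F428060 : act 1 n118902 = n203367 := d15_0 (iv0 D203367) F427912 F427910
theorem F428061 : act 6 n118901 = n203367 := d10_0 F428059 (iv6 F428010) F428012
def n203368 : Q := act 1 n118773
theorem D203368 : act 1 n118773 = n203368 := rfl
theorem F428062 : act 1 n203368 = n118902 := d15_1 D203368 F427840 F427838
theorem F428063 : act 5 n203368 = n118868 := d17_7 F139473 (iv5 D54678) (iv1 D26446) D26447 D54681 D118773 D203368 (iv0 F371582) (iv4 D187810)
theorem F428064 : act 4 n203368 = n118863 := d17_9 (iv1 F250996) (iv5 D159399) F114277 D118885 (iv4 F428052) (iv5 D203363) (iv0 D118770) D118773 D203368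
def n203369 : Q := act 0 n118775
theorem D203369 : act 0 n118775 = n203369 := rfl
def n203370 : Q := act 1 n118775
theorem D203370 : act 1 n118775 = n203370 := rfl
theorem F428065 : act 5 n198971 = n203370 := d21_0 (iv1 D203370) F186827 (iv6 D71491) F78506 D107549 F165927 D148890 F314440 (iv6 F252361) F410108
theorem F428066 : act 3 n203370 = n159341 := d6_1 F428065 (iv5 F377480) (iv3 F410106)
theorem F428067 : act 7 n203370 = n201751 := d13_2 (iv7 F410107) F428065 F421673
theorem F428068 : act 2 n201751 = n203369 := d15_3 (iv0 D203369) D203370 F428067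
def n203371 : Q := act 1 n118809
theorem D203371 : act 1 n118809 = n203371 := rfl
theorem F428069 : act 1 n203371 = n153556 := d15_1 D203371 (iv7 D153556) (iv2 F190289)
theorem F428070 : act 7 n203371 = n149009 := d15_2 F243631 D203371 F234290
theorem F428071 : act 5 n203371 = n154885 := d17_7 (iv1 F369162) F353157 (iv1 D102494) F340926 (iv4 F199520) (iv5 F199517) D203371 F346248 (iv4 F369158)
theorem F428072 : act 4 n203371 = n203209 := d17_9 (iv1 D203209) (iv5 F338072) F338132 (iv5 D124702) F92145 D58287 D124708 (iv5 F199517) D203371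
theorem F428073 : act 3 n130375 = n203371 := d19_19 (iv1 D203371) F199517 F199520 (iv3 F340925) (iv1 D41766) D41768 F64411 (iv3 F73564) (iv1 F153329) (iv5 F288487) (iv4 F383531) F383530 F353217 (iv5 D166232) (iv4 D79814) (iv3 F122538) D166216 F353863 F239207
theorem F428074 : act 6 n130374 = n203371 := d21_3 (iv5 F312279) (iv1 F214159) (iv5 F208903) (iv1 D203371) (iv6 D118809) F321298 (iv1 F322287) (iv5 D124817) (iv6 D58358) (iv1 F232423)
theorem F428075 : act 2 n203371 = n152914 := d3_1 F428074 F346226 F222260
def n203372 : Q := act 6 n118850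
theorem D203372 : act 6 n118850 = n203372 := rfl
theorem F428076 : act 2 n203372 = n136830 := d3_1 D203372 F366629 F237072
theorem F428077 : act 3 n203372 = n193854 := d7_1 D203372 (iv6 D193854) F363851
theorem F428078 : act 4 n203372 = n166049 := d10_1 D203372 (iv6 F339145) F339143
theorem F428079 : act 7 n203372 = n136829 := d14_2 F427854 D203372 F220977 (iv7 F221563) F427857
theorem F428080 : act 0 n203372 = n136824 := d21_4 D137620 (iv1 F384687) F384683 D203372 (iv6 D136824) (iv5 F103080) (iv1 F100665) (iv5 D30480) D30481 (iv1 F323865)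
theorem F428081 : act 1 n203372 = n136447 := d15_1 (iv0 F428080) F219542 (iv2 F220029)
def n203373 : Q := act 6 n118856
theorem D203373 : act 6 n118856 = n203373 := rfl
theorem F428082 : act 2 n203373 = n151699 := d3_1 D203373 (iv6 F386967) F386965
theorem F428083 : act 3 n203373 = n151347 := d7_1 D203373 (iv6 D151347) F186921
theorem F428084 : act 4 n203373 = n151502 := d10_1 D203373 (iv6 F362840) F250830
theorem F428085 : act 5 n203373 = n151451 := d12_1 D203373 F334833 (iv5 D76602) (iv6 F106657) (iv5 F186919)
theorem F428086 : act 7 n151696 = n203373 := d13_0 F428085 F238202 D151696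
def n203374 : Q := act 6 n118857
theorem D203374 : act 6 n118857 = n203374 := rfl
theorem F428087 : act 4 n203374 = n194020 := d10_1 D203374 (iv6 F391800) F250833
theorem F428088 : act 5 n203374 = n135554 := d12_1 D203374 F349103 F104820 (iv6 F106660) (iv5 F186923)
def n203375 : Q := act 6 n118858
theorem D203375 : act 6 n118858 = n203375 := rfl
theorem F428089 : act 4 n203375 = n118859 := d10_1 D203375 (iv6 D118859) D118858
theorem F428090 : act 5 n203375 = n159429 := d12_1 D203375 (iv6 D159429) (iv5 F186952) F428061 F428058
def n203376 : Q := act 1 n118859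
theorem D203376 : act 1 n118859 = n203376 := rfl
theorem F428091 : act 1 n203376 = n146573 := d15_1 D203376 (iv7 F375446) F375443
theorem F428092 : act 7 n203376 = n203159 := d15_2 (iv0 F386989) D203376 F427226
theorem F428093 : act 3 n166281 = n203376 := d19_19 (iv1 D203376) F338204 D146569 (iv3 F243301) (iv1 F317936) (iv5 D103136) (iv4 F332539) (iv3 F339721) F339729 F339730 (iv4 D112849) (iv3 F112153) (iv1 D63359) F48122 (iv4 F93968) (iv3 F204122) F345611 (iv5 F287202) F362978
theorem F428094 : act 5 n166280 = n203376 := d21_0 (iv1 D203376) F338204 (iv6 F338205) (iv1 F55335) D76527 F114717 (iv1 F377198) D201216 F426020 F426019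
theorem F428095 : act 4 n203376 = n201611 := d16_2 (iv4 F261818) F428094 F421134 (iv4 F223843) F363915 (iv4 F363912) (iv5 F232244) F315988 F312077
theorem F428096 : act 5 n145351 = n188883 := d19_17 (iv1 F428091) (iv5 F428094) F261818 (iv3 D79852) (iv1 F312718) F85285 (iv4 F317443) (iv3 F261628) F332147 (iv5 D110624) (iv4 F81144) F81143 (iv1 D48647) (iv5 F39775) (iv4 F50033) (iv3 F104300) D145351 F375131 (iv3 F374396)
def n203377 : Q := act 7 n118859
theorem D203377 : act 7 n118859 = n203377 := rfl
theorem F428097 : act 2 n203377 = n146573 := d4_1 D203377 (iv7 F375446) F375443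
theorem F428098 : act 3 n203377 = n152396 := d8_1 D203377 (iv7 D152396) (iv3 F186924)
theorem F428099 : act 5 n203377 = n146405 := d13_1 D203377 F229731 (iv5 F338204)
theorem F428100 : act 0 n203159 = n203377 := d17_2 F229344 D203159 F428099 F229733 (iv5 F397379) (iv0 F397381) F392654 F360236 D146108
def n203378 : Q := act 3 n118860
theorem D203378 : act 3 n118860 = n203378 := rfl
theorem F428101 : act 2 n203378 = n202115 := d0_1 D203378 (iv3 D202115) F179658 F319407 (iv2 F186926)
theorem F428102 : act 4 n203378 = n119620 := d5_2 D118860 D203378 (iv3 D119620) (iv4 D55039) (iv3 F86520)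
theorem F428103 : act 7 n203378 = n159421 := d8_2 (iv7 F186927) D203378 (iv3 D159421)
def n203379 : Q := act 5 n118860
theorem D203379 : act 5 n118860 = n203379 := rfl
theorem F428104 : act 2 n203379 = n151181 := d2_1 D203379 (iv5 D151181) (iv2 F186926)
theorem F428105 : act 7 n203379 = n159422 := d13_2 (iv7 F186927) D203379 (iv5 D159422)
theorem F428106 : act 0 n203379 = n150577 := d17_2 (iv1 F186929) D203379 (iv5 D150577) (iv4 D70976) F52040 (iv0 F93551) (iv5 F114257) (iv0 D76244) D76246
theorem F428107 : act 1 n203379 = n203325 := d17_6 F55643 (iv5 D35034) F55631 (iv5 F86517) D118860 D203379 (iv5 D203325) F186768 F86528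
def n203380 : Q := act 6 n118860
theorem D203380 : act 6 n118860 = n203380 := rfl
theorem F428108 : act 2 n203380 = n151182 := d3_1 D203380 (iv6 D151182) (iv2 F186926)
theorem F428109 : act 4 n203380 = n118861 := d10_1 D203380 (iv6 D118861) D118860
def n203381 : Q := act 0 n118862
theorem D203381 : act 0 n118862 = n203381 := rfl
theorem F428110 : act 3 n203381 = n202120 := d20_5 (iv4 D59817) F50535 D54708 D118862 D203381 F422951 (iv1 D128512) D128513 F206675 (iv1 F114306)
def n203382 : Q := act 1 n118862
theorem D203382 : act 1 n118862 = n203382 := rfl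
def n203383 : Q := act 2 n118862
theorem D203383 : act 2 n118862 = n203383 := rfl
theorem F428111 : act 3 n203383 = n192487 := d0_2 D118862 D203383 F386792 F222338 (iv2 F314640)
def n203384 : Q := act 5 n118862
theorem D203384 : act 5 n118862 = n203384 := rfl
theorem F428112 : act 3 n203384 = n118863 := d6_1 D203384 (iv5 D118863) D118862
def n203385 : Q := act 6 n118863
theorem D203385 : act 6 n118863 = n203385 := rfl
theorem F428113 : act 5 n203385 = n192041 := d12_1 D203385 F385319 F222292 (iv6 F314641) D118863
def n203386 : Q := act 3 n118868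
theorem D203386 : act 3 n118868 = n203386 := rfl
theorem F428114 : act 4 n203386 = n199587 := d5_2 D118868 D203386 (iv3 F419825) (iv4 D201279) F178072
theorem F428115 : act 6 n199586 = n203386 := d10_0 F428114 (iv6 D199587) D199586
def n203387 : Q := act 6 n118868
theorem D203387 : act 6 n118868 = n203387 := rfl
theorem F428116 : act 3 n203387 = n199586 := d7_1 D203387 F428115 (iv3 D203386)
theorem F428117 : act 4 n203387 = n118869 := d10_1 D203387 (iv6 D118869) D118868
theorem F428118 : act 5 n203387 = n199775 := d21_6 (iv5 D71426) (iv1 F78857) (iv5 F166829) F371584 F371582 D203387 (iv1 D199775) (iv5 F407532) F407533 F314627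
def n203388 : Q := act 7 n118869
theorem D203388 : act 7 n118869 = n203388 := rfl
theorem F428119 : act 3 n203388 = n199714 := d8_1 D203388 (iv7 F419830) F419827
theorem F428120 : act 6 n203388 = n146573 := d14_1 D203388 (iv7 F375446) F375445 F162584 D118869
def n203389 : Q := act 5 n118870
theorem D203389 : act 5 n118870 = n203389 := rfl
theorem F428121 : act 3 n203389 = n118871 := d6_1 D203389 (iv5 D118871) D118870
theorem F428122 : act 1 n203389 = n136988 := d17_6 D99537 (iv5 F293323) (iv1 F292926) F292928 (iv4 F352998) D203389 (iv5 D136988) (iv0 F365069) (iv4 D99539)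
def n203390 : Q := act 6 n118870
theorem D203390 : act 6 n118870 = n203390 := rfl
theorem F428123 : act 3 n203390 = n118872 := d7_1 D203390 (iv6 D118872) D118870
theorem F428124 : act 4 n203390 = n192489 := d10_1 D203390 (iv6 D192489) (iv4 F352998)
def n203391 : Q := act 1 n118876
theorem D203391 : act 1 n118876 = n203391 := rfl
theorem F428125 : act 1 n203391 = n145503 := d15_1 D203391 F343141 (iv2 F186936)
theorem F428126 : act 7 n203391 = n124814 := d15_2 (iv0 F351592) D203391 F342425
theorem F428127 : act 3 n124832 = n203391 := d20_3 (iv4 F49325) D65975 (iv4 F342412) (iv1 D203391) F186937 (iv4 F186939) F316911 (iv4 D140901) (iv3 D66096) (iv1 D30907)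
theorem F428128 : act 2 n203391 = n145540 := d0_1 F428127 (iv3 D145540) F319073 D68247 (iv2 F322222)
theorem F428129 : act 4 n203391 = n197439 := d20_6 (iv4 F351445) (iv1 F414505) F414502 (iv3 F320489) F320487 F428127 F404320 F185803 (iv3 F185802) F351448
def n203392 : Q := act 0 n118877
theorem D203392 : act 0 n118877 = n203392 := rfl
theorem F428130 : act 3 n203392 = n136922 := d20_5 (iv4 D26463) D26461 D54714 D118877 D203392 (iv4 F346519) F339198 (iv4 F186945) (iv3 D118893) (iv1 D54719)
theorem F428131 : act 4 n203392 = n195363 := d20_0 (iv1 D195363) (iv4 F396714) F396713 F162014 F320621 (iv4 D26463) D26461 D54714 D118877 D203392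
theorem F428132 : act 7 n136934 = n203392 := d8_0 F428130 F362161 D136934
def n203393 : Q := act 1 n118877
theorem D203393 : act 1 n118877 = n203393 := rfl
theorem F428133 : act 4 n195362 = n203393 := d20_0 (iv1 D203393) (iv4 F427345) (iv3 D203183) (iv1 F185718) (iv3 F321642) (iv4 D31497) (iv1 F111391) (iv4 F76865) (iv3 F162073) D195362
def n203394 : Q := act 5 n118877
theorem D203394 : act 5 n118877 = n203394 := rfl
theorem F428134 : act 3 n203394 = n118878 := d6_1 D203394 (iv5 D118878) D118877
def n203395 : Q := act 6 n118877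
theorem D203395 : act 6 n118877 = n203395 := rfl
theorem F428135 : act 3 n203395 = n118879 := d7_1 D203395 (iv6 D118879) D118877
def n203396 : Q := act 0 n118878
theorem D203396 : act 0 n118878 = n203396 := rfl
theorem F428136 : act 5 n203396 = n139160 := d17_3 F114288 D118878 D203396 F314668 F114263 (iv0 F79156) (iv5 F52040) (iv0 F77019) D76253
theorem F428137 : act 4 n203396 = n193791 := d18_1 D203396 F391014 (iv4 F427886) (iv5 D203325) F186770 (iv0 F106638) D76249 F114276 D118878
theorem F428138 : act 1 n118885 = n203396 := d15_0 (iv0 D203396) (iv7 F252594) F252593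
theorem F428139 : act 6 n154402 = n203396 := d21_9 (iv5 D118885) (iv1 F114287) D159406 (iv6 F352728) (iv1 F150992) D183780 (iv5 F289359) F341562 F353685 (iv1 F428138)
theorem F428140 : act 2 n203396 = n159416 := d3_1 F428139 (iv6 F362837) F353687
theorem F428141 : act 3 n203396 = n154405 := d7_1 F428139 (iv6 D154405) D154402
theorem F428142 : act 7 n159411 = n203396 := d8_0 F428141 F358621 (iv3 F358623)
def n203397 : Q := act 1 n118878
theorem D203397 : act 1 n118878 = n203397 := rfl
theorem F428143 : act 1 n203397 = n118885 := d15_1 D203397 (iv7 F427880) F427879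
theorem F428144 : act 7 n203397 = n159416 := d15_2 (iv0 D203396) D203397 (iv2 F428140)
theorem F428145 : act 5 n203397 = n139159 := d17_7 (iv1 F312295) F52148 (iv1 F55647) (iv5 F86468) D54714 D118878 D203397 (iv0 D139159) F101040
theorem F428146 : act 2 n159411 = n203397 := d2_3 F428145 F314662 D159411
def n203398 : Q := act 6 n118878
theorem D203398 : act 6 n118878 = n203398 := rfl
def n203399 : Q := act 1 n118879
theorem D203399 : act 1 n118879 = n203399 := rfl
theorem F428147 : act 1 n203399 = n139755 := d15_1 D203399 (iv7 F408894) F408891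
theorem F428148 : act 7 n203399 = n137182 := d15_2 (iv0 F316911) D203399 (iv2 F353385)
theorem F428149 : act 4 n203399 = n150580 := d18_7 (iv1 F318714) D150914 (iv1 F397560) F397556 (iv5 D118882) (iv4 F186939) D203399 F348041 (iv5 D116028)
theorem F428150 : act 2 n202599 = n203399 := d1_3 F428149 F348039 D202599
theorem F428151 : act 3 n137154 = n203399 := d5_5 F428149 (iv3 F348047) (iv4 F348049) D202840 F425809
def n203400 : Q := act 5 n118879
theorem D203400 : act 5 n118879 = n203400 := rfl
theorem F428152 : act 2 n203400 = n192925 := d2_1 D203400 (iv5 F408896) F408891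
theorem F428153 : act 7 n203400 = n192924 := d13_2 F408491 D203400 F408493
def n203401 : Q := act 5 n118884
theorem D203401 : act 5 n118884 = n203401 := rfl
theorem F428154 : act 3 n203401 = n118885 := d6_1 D203401 (iv5 D118885) D118884
theorem F428155 : act 1 n203401 = n136999 := d17_6 (iv1 D189166) (iv5 D93328) D93326 F349198 F252616 D203401 (iv5 F365481) D203054 F426805
def n203402 : Q := act 6 n118885
theorem D203402 : act 6 n118885 = n203402 := rfl
theorem F428156 : act 4 n203402 = n183767 := d10_1 D203402 (iv6 F428051) F428052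
theorem F428157 : act 0 n185058 = n203402 := d21_4 (iv5 F136204) F289293 (iv5 F135145) D185058 (iv6 D203402) (iv5 D118885) (iv1 F114287) D159406 (iv6 F352728) (iv1 F150992)
theorem F428158 : act 1 n193837 = n203402 := d18_6 D191489 F383557 (iv1 F289369) F283699 F283700 D193837 F428156 (iv0 F383561) (iv5 D191490)
def n203403 : Q := act 0 n118890
theorem D203403 : act 0 n118890 = n203403 := rfl
theorem F428159 : act 2 n193860 = n203403 := d15_3 (iv0 D203403) (iv0 F359407) D193860
theorem F428160 : act 1 n193859 = n203403 := d15_0 (iv0 D203403) F411252 F411247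
theorem F428161 : act 7 n203403 = n193853 := d15_2 D193859 F428160 F391214
def n203404 : Q := act 2 n118890
theorem D203404 : act 2 n118890 = n203404 := rfl
theorem F428162 : act 3 n203404 = n193430 := d0_2 D118890 D203404 F389812 (iv3 D150576) F107524
theorem F428163 : act 4 n203404 = n153743 := d1_2 (iv4 F186944) D203404 (iv2 D153743)
theorem F428164 : act 7 n203404 = n193859 := d4_2 (iv7 F411252) D203404 (iv2 F411247)
theorem F428165 : act 1 n203404 = n193853 := d15_0 (iv0 F411250) (iv7 F411252) D203404
theorem F428166 : act 1 n193860 = n203404 := d15_0 F428165 (iv7 F428161) (iv2 F428159)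
theorem F428167 : act 6 n203404 = n193428 := d21_5 (iv5 D187711) (iv1 F139257) D102401 D193853 (iv1 F428165) (iv5 F390049) (iv1 D192452) (iv5 F385914) (iv6 D192188) F371276
def n203405 : Q := act 5 n118890
theorem D203405 : act 5 n118890 = n203405 := rfl
theorem F428168 : act 3 n203405 = n118891 := d6_1 D203405 (iv5 D118891) D118890
def n203406 : Q := act 6 n118890
theorem D203406 : act 6 n118890 = n203406 := rfl
theorem F428169 : act 2 n203406 = n193428 := d3_1 D203406 (iv6 F428167) (iv2 D203404)
theorem F428170 : act 3 n203406 = n118892 := d7_1 D203406 (iv6 D118892) D118890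
theorem F428171 : act 4 n203406 = n145431 := d10_1 D203406 F348831 (iv4 F186944)
def n203407 : Q := act 6 n118891
theorem D203407 : act 6 n118891 = n203407 := rfl
def n203408 : Q := act 5 n118892
theorem D203408 : act 5 n118892 = n203408 := rfl
theorem F428172 : act 4 n203408 = n124378 := d9_1 D203408 (iv5 F301780) F196514 F328066 F84364 D53489 D116060 D202600 F424691 F349509 F152876 D99293 F327594 (iv5 F205946) F205945
def n203409 : Q := act 0 n118893
theorem D203409 : act 0 n118893 = n203409 := rfl
theorem F428173 : act 4 n203409 = n136715 := d18_3 F339198 (iv4 F186945) D203409 F343449 (iv4 F352781) (iv0 D128388) F94883 D60440 D128508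
theorem F428174 : act 3 n203409 = n184688 := d20_5 (iv4 D149486) (iv1 D70202) F86526 D118893 D203409 (iv4 D184688) (iv1 F157303) D191268 F382832 (iv1 F235108)
theorem F428175 : act 6 n203409 = n176121 := d21_5 (iv5 D113919) D113917 (iv5 F408433) F408434 D203409 (iv5 F331217) (iv1 F153677) (iv5 F331216) (iv6 D137941) F177269
theorem F428176 : act 1 n193430 = n203409 := d15_0 (iv0 D203409) (iv7 F237092) (iv2 F389812)
theorem F428177 : act 2 n194722 = n203409 := d3_3 F428175 (iv2 F328698) D194722
def n203410 : Q := act 1 n118893
theorem D203410 : act 1 n118893 = n203410 := rfl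
theorem F428178 : act 7 n203410 = n194722 := d15_2 (iv0 D203409) D203410 F428177
theorem F428179 : act 4 n203410 = n136716 := d18_7 D194387 F393016 (iv1 D153753) F109224 F107533 (iv4 F186945) D203410 F385591 (iv5 F385589)
theorem F428180 : act 6 n154577 = n203410 := d10_0 F428179 (iv6 F390100) F390097
theorem F428181 : act 0 n193430 = n203410 := d20_10 F428179 (iv1 D136716) F100056 F48745 D30318 D64379 (iv4 F165066) F362004 (iv4 F428163) F428162
theorem F428182 : act 3 n154590 = n203410 := d20_5 (iv4 F111282) (iv1 F111443) (iv4 F180435) D202499 (iv1 F424279) F428179 (iv1 D136716) F100056 F48745 D30318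
theorem F428183 : act 5 n203410 = n154574 := d6_2 D154590 F428182 F242640
def n203411 : Q := act 2 n118893
theorem D203411 : act 2 n118893 = n203411 := rfl
theorem F428184 : act 3 n203411 = n193859 := d0_2 D118893 D203411 (iv2 F411247) F411248 (iv2 F186771)
theorem F428185 : act 4 n203411 = n149521 := d1_2 (iv4 F186945) D203411 (iv2 D149521)
theorem F428186 : act 7 n203411 = n193430 := d4_2 F237092 D203411 F389812
theorem F428187 : act 1 n194722 = n203411 := d15_1 F394252 F428186 F389812
def n203412 : Q := act 5 n118893
theorem D203412 : act 5 n118893 = n203412 := rfl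
theorem F428188 : act 3 n203412 = n118894 := d6_1 D203412 (iv5 D118894) D118893
def n203413 : Q := act 3 n118900
theorem D203413 : act 3 n118900 = n203413 := rfl
theorem F428189 : act 5 n203413 = n159393 := d6_2 (iv5 F186949) D203413 (iv3 D159393)
theorem F428190 : act 0 n192252 = n203413 := d17_2 (iv1 D193859) (iv5 F386212) F428189 (iv4 F366757) F366758 (iv0 F402227) F401118 (iv0 F402224) F402225
def n203414 : Q := act 6 n118900
theorem D203414 : act 6 n118900 = n203414 := rfl
theorem F428191 : act 2 n203414 = n159428 := d3_1 D203414 (iv6 D159428) F186950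
theorem F428192 : act 5 n203414 = n191265 := d12_1 D203414 F382817 F219760 (iv6 F312160) (iv5 F186949)
def n203415 : Q := act 3 n118901
theorem D203415 : act 3 n118901 = n203415 := rfl
theorem F428193 : act 5 n203415 = n128513 := d6_2 (iv5 F186952) D203415 F206675
theorem F428194 : act 7 n203415 = n159426 := d8_2 (iv7 F186951) D203415 F251059
theorem F428195 : act 4 n192735 = n203415 := d19_2 (iv1 F361020) D192735 (iv3 D203415) (iv1 D118901) (iv5 D54721) (iv4 D26463) F21025 D12635 F21037 (iv4 D12356) (iv3 F20027) (iv1 D12103) (iv5 F18629) (iv4 F37672) (iv3 F54428) (iv1 F108451) (iv5 D71948) D71947 D152550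
theorem F428196 : act 0 n154574 = n203415 := d17_2 F428181 F428183 F428193 (iv4 D128513) (iv5 D60442) D60440 D128508 F339199 (iv4 F389813)
def n203416 : Q := act 3 n118902
theorem D203416 : act 3 n118902 = n203416 := rfl
theorem F428197 : act 4 n203416 = n152768 := d5_2 D118902 D203416 F424296 (iv4 D202501) F322398
theorem F428198 : act 6 n138077 = n203416 := d10_0 F428197 (iv6 D152768) (iv4 F347117)
def n203417 : Q := act 6 n118902
theorem D203417 : act 6 n118902 = n203417 := rfl
theorem F428199 : act 3 n203417 = n138077 := d7_1 D203417 F428198 (iv3 D203416)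
theorem F428200 : act 4 n203417 = n118903 := d10_1 D203417 (iv6 D118903) D118902
theorem F428201 : act 5 n203417 = n137998 := d21_6 (iv5 D203379) F186928 (iv5 F186952) F428061 (iv1 F428060) D203417 (iv1 D137998) D137999 (iv6 F427884) (iv1 F428107)
theorem E103869 : n138075 = n137998 := ((c6_1 F428201 (iv3 D138075) D138077 (iv3 F428199))).symm
theorem F428202 : act 2 n137998 = n134807 := (sb E103869 (iv2 F347116))
theorem F428203 : act 3 n137998 = n64882 := (sb E103869 (iv3 D138075))
theorem F428204 : act 6 n137998 = n134788 := (sb E103869 F347115)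
theorem F428205 : act 0 n183775 = n203417 := d17_0 F428201 (iv1 D137998) D137999 F382863 (iv5 D87680) F72131 (iv5 F150990) F150993 D183775
theorem F428206 : act 1 n183779 = n203417 := d15_0 (iv0 F428205) (iv7 F382872) F382871
def n203418 : Q := act 0 n118903
theorem D203418 : act 0 n118903 = n203418 := rfl
theorem F428207 : act 5 n203418 = n191406 := d17_3 F157377 (iv5 F343276) D203418 F383378 F289295 F150986 F134595 F72130 D97957
theorem F428208 : act 4 n203418 = n191285 := d18_1 D203418 (iv1 D191285) (iv4 D97966) (iv5 D45726) F34314 D45725 D97961 (iv0 F157026) (iv5 F343276)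
theorem F428209 : act 3 n203418 = n191410 := d20_5 (iv4 F346053) (iv1 F220790) (iv4 F346029) F363004 D203418 F383397 (iv1 D156098) (iv4 F339550) F155628 (iv1 F346054)
theorem F428210 : act 1 n177721 = n203418 := d15_0 (iv0 D203418) (iv7 F363005) F285802
theorem F428211 : act 7 n192247 = n203418 := d8_0 F428209 F383395 D192247
theorem F428212 : act 7 n191285 = n183781 := d11_2 F428211 F428208 (iv4 F386197)
theorem F428213 : act 2 n183781 = n191284 := d15_3 (iv0 D191284) D191285 F428212
theorem F428214 : act 2 n191285 = n183782 := d15_3 F382881 F382882 (iv7 F428212)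
theorem F428215 : act 7 n183782 = n191284 := d4_2 (iv7 F428212) F428214 (iv2 F428213)
def n203419 : Q := act 1 n118903
theorem D203419 : act 1 n118903 = n203419 := rfl
theorem F428216 : act 1 n203419 = n177721 := d15_1 D203419 (iv7 F391241) F391238
theorem F428217 : act 3 n189912 = n203419 := d20_3 D191987 (iv1 F387906) F386225 (iv1 D203419) (iv3 F363004) F346029 F220789 (iv4 F356796) (iv3 F368438) F368441
theorem F428218 : act 5 n191489 = n203419 := d21_0 (iv1 D203419) F343276 F290129 (iv1 F153390) D99658 F357367 (iv1 F376086) (iv5 D98435) D98436 D191489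
theorem F428219 : act 4 n203419 = n191284 := d18_5 (iv1 F289297) F136792 (iv1 F289370) (iv4 F383557) F428218 (iv0 D191284) (iv4 D97966) D97965 (iv5 F289295)
theorem F428220 : act 2 n192247 = n203419 := d1_3 F428219 (iv2 F428213) (iv4 F386197)
def n203420 : Q := act 6 n118904
theorem D203420 : act 6 n118904 = n203420 := rfl
theorem F428221 : act 2 n203420 = n124178 := d3_1 D203420 (iv6 F427917) F427913
theorem F428222 : act 3 n203420 = n137026 := d7_1 D203420 (iv6 D137026) F323829
theorem F428223 : act 5 n203420 = n123214 := d12_1 D203420 (iv6 F427266) F427265 (iv6 D118905) (iv5 F186953)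
theorem F428224 : act 7 n203420 = n149044 := d14_2 D118904 D203420 (iv6 F285804) F363005 (iv6 D118903)
theorem F428225 : act 1 n177734 = n203420 := d15_1 D177734 F428224 F234369
theorem F428226 : act 0 n177733 = n203420 := d21_1 (iv5 F403503) F428223 (iv6 F427266) (iv1 F427267) (iv6 D123240) D123239 (iv1 F386279) (iv5 D192281) F332466 (iv1 F403499)
def n203421 : Q := act 3 n118906
theorem D203421 : act 3 n118906 = n203421 := rfl
theorem F428227 : act 2 n203421 = n153585 := d0_1 D203421 F360994 (iv2 F247795) F247796 F247830
theorem F428228 : act 5 n203421 = n119478 := d6_2 (iv5 F316896) D203421 F332494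
theorem F428229 : act 6 n203421 = n201425 := d7_2 (iv6 F316897) D203421 F420465
theorem F428230 : act 7 n203421 = n119477 := d8_2 F348217 D203421 F188274
theorem F428231 : act 0 n203421 = n153567 := d19_4 (iv1 F351911) (iv5 F385354) F385353 D203421 F308517 F132400 F89302 F116666 (iv5 F324031) (iv4 D66121) (iv3 D30914) (iv1 F313978) (iv5 F52045) (iv4 F107529) (iv3 F325023) (iv1 F275106) (iv5 F304816) F304815 F339101
theorem F428232 : act 4 n203421 = n155893 := d20_6 (iv4 D31344) F39633 F317139 (iv3 F86529) D118906 D203421 (iv1 F427491) F427487 F185780 (iv1 F315958)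
theorem F428233 : act 0 n147908 = n203421 := d20_4 (iv4 F226578) F320346 F231684 (iv3 F231680) (iv3 D203421) (iv4 F385353) (iv1 D192052) (iv4 F339127) F251004 F320343
def n203422 : Q := act 4 n118909
theorem D203422 : act 4 n118909 = n203422 := rfl
theorem F428234 : act 2 n203422 = n119248 := d1_1 D203422 F187688 (iv2 F186962)
theorem F428235 : act 7 n203422 = n119158 := d11_2 (iv7 F186963) D203422 (iv4 D119158)
theorem F428236 : act 0 n203422 = n119245 := d17_0 F348114 (iv1 D166526) (iv5 F339839) (iv4 D85144) (iv5 D39370) (iv0 F120250) F86815 (iv0 F186964) D203422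
theorem F428237 : act 1 n203422 = n119244 := d18_8 (iv1 F363700) (iv4 F363695) (iv1 F262013) (iv4 F346949) (iv5 F337158) F337150 (iv0 F186964) D203422 (iv5 F363701)
def n203423 : Q := act 0 n118914
theorem D203423 : act 0 n118914 = n203423 := rfl
theorem F428238 : act 5 n203423 = n154969 := d17_1 D203423 (iv1 F243678) (iv5 D83641) (iv4 F188453) D39308 (iv0 F130267) (iv5 F186981) (iv0 D118917) (iv4 F186977)
theorem F428239 : act 1 n157091 = n203423 := d15_0 (iv0 D203423) (iv7 F243740) F359312
theorem F428240 : act 6 n119111 = n203423 := d21_5 (iv5 D130287) (iv1 F208439) F313036 (iv6 F87544) (iv1 F187388) F428238 (iv1 F243678) (iv5 D83641) D83642 (iv1 F315291)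
theorem F428241 : act 2 n203423 = n120212 := d3_1 F428240 (iv6 D120212) (iv2 F234228)
theorem F428242 : act 7 n203423 = n175370 := d14_2 (iv7 F234229) F428240 (iv6 D175370) F234233 (iv6 D120207)
def n203424 : Q := act 1 n118914
theorem D203424 : act 1 n118914 = n203424 := rfl
theorem F428243 : act 1 n203424 = n157091 := d15_1 D203424 F359311 F274100
theorem F428244 : act 7 n203424 = n120212 := d15_2 (iv0 D203423) D203424 (iv2 F428241)
theorem F428245 : act 5 n203424 = n154970 := d17_7 (iv1 F353059) (iv5 D108872) D108870 D198022 F406537 (iv5 F188394) D203424 F243679 (iv4 F330962)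
theorem F428246 : act 3 n126907 = n203424 := d20_3 F359064 (iv1 D126906) D126907 (iv1 D203424) F186976 F89796 D56793 (iv4 F151524) (iv3 F383267) F383270
theorem F428247 : act 6 n134664 = n203424 := d21_3 D38568 D83660 (iv5 F313028) (iv1 D203424) (iv6 D118914) D118913 F274168 (iv5 D175157) (iv6 D83659) (iv1 D38567)
theorem F428248 : act 2 n203424 = n175370 := d3_1 F428247 (iv6 D175370) (iv2 F313027)
def n203425 : Q := act 0 n119006
theorem D203425 : act 0 n119006 = n203425 := rfl
theorem F428249 : act 4 n203425 = n198055 := d18_3 (iv1 D153176) (iv4 F187147) D203425 F406602 F173200 (iv0 F343242) F412936 F412930 F412553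
theorem F428250 : act 2 n152779 = n203425 := d15_3 (iv0 D203425) (iv0 F366541) (iv7 F366402)
theorem F428251 : act 1 n152780 = n203425 := d15_0 (iv0 D203425) F187149 D152780
theorem F428252 : act 7 n203425 = n152778 := d15_2 (iv0 F350661) F428251 (iv2 F366403)
theorem F428253 : act 6 n198054 = n203425 := d14_5 F428252 F366404 F182527 D202138 (iv7 F423020)
def n203426 : Q := act 2 n119006
theorem D203426 : act 2 n119006 = n203426 := rfl
theorem F428254 : act 3 n203426 = n119636 := d0_2 D119006 D203426 (iv2 D119636) (iv3 D55044) (iv2 F86620)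
theorem F428255 : act 4 n203426 = n153177 := d1_2 (iv4 F187147) D203426 (iv2 D153177)
theorem F428256 : act 6 n203426 = n156118 := d3_2 (iv6 F319280) D203426 (iv2 F246662)
theorem F428257 : act 7 n203426 = n152780 := d4_2 (iv7 F187149) D203426 (iv2 D152780)
theorem F428258 : act 1 n203426 = n152778 := d15_0 (iv0 D152778) (iv7 F187149) D203426
theorem F428259 : act 1 n152779 = n203426 := d15_0 F428258 (iv7 F428252) (iv2 F428250)
def n203427 : Q := act 5 n119006
theorem D203427 : act 5 n119006 = n203427 := rfl
theorem F428260 : act 3 n203427 = n119007 := d6_1 D203427 (iv5 D119007) D119006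
theorem F428261 : act 7 n203427 = n152781 := d13_2 (iv7 F187149) D203427 (iv5 D152781)
def n203428 : Q := act 6 n119007
theorem D203428 : act 6 n119007 = n203428 := rfl
theorem F428262 : act 2 n203428 = n119641 := d3_1 D203428 (iv6 D119641) (iv2 F187150)
theorem F428263 : act 5 n203428 = n157009 := d12_1 D203428 (iv6 D157009) (iv5 D74653) (iv6 F318296) D119007
def n203429 : Q := act 5 n119046
theorem D203429 : act 5 n119046 = n203429 := rfl
theorem F428264 : act 3 n203429 = n159451 := d6_1 D203429 (iv5 D159451) (iv3 F390817)
theorem F428265 : act 0 n203429 = n144978 := d17_2 D119046 D203429 (iv5 D144978) F104081 (iv5 F86008) (iv0 F315150) F315152 (iv0 F333626) F187301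
theorem F428266 : act 1 n203429 = n152523 := d17_6 (iv1 F314674) (iv5 D139089) D139087 (iv5 F393269) F393268 D203429 (iv5 F404569) F404567 (iv4 F334437)
theorem F428267 : act 0 n201630 = n135784 := d20_1 D201630 (iv4 F363823) (iv3 F346147) (iv1 F428266) F428264 (iv4 F350562) (iv1 F247345) D196754 (iv3 F401693) F401695
def n203430 : Q := act 5 n119047
theorem D203430 : act 5 n119047 = n203430 := rfl
theorem F428268 : act 0 n203430 = n152523 := d17_2 (iv1 F419450) D203430 (iv5 F404569) (iv4 D197498) (iv5 D108249) F317397 (iv5 F333647) F333645 (iv4 F419447)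
theorem F428269 : act 1 n203430 = n144978 := d17_6 F334439 D146315 (iv1 F334986) (iv5 F393651) F393655 D203430 (iv5 D144978) D144977 (iv4 F356608)
theorem F428270 : act 6 n152553 = n203430 := d21_5 (iv5 D74853) (iv1 F108451) (iv5 D71948) D71949 D152553 (iv5 D203430) (iv1 D119047) D119048 F187304 (iv1 F112353)
def n203431 : Q := act 6 n119047
theorem D203431 : act 6 n119047 = n203431 := rfl
theorem F428271 : act 3 n203431 = n146549 := d7_1 D203431 F419344 (iv3 F419343)
theorem F428272 : act 4 n203431 = n202695 := d10_1 D203431 (iv6 F425146) F393655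
theorem F428273 : act 0 n164338 = n203431 := d21_4 F346151 F346154 (iv5 D164337) D164338 (iv6 D203431) D203430 F428268 (iv5 F404569) F404564 F231596
def n203432 : Q := act 4 n119048
theorem D203432 : act 4 n119048 = n203432 := rfl
theorem F428274 : act 2 n203432 = n152536 := d1_1 D203432 F239721 (iv2 F187302)
theorem F428275 : act 6 n203432 = n119050 := d10_2 (iv6 F187304) D203432 (iv4 D119050)
theorem F428276 : act 0 n203432 = n192713 := d18_2 (iv1 F375410) D203432 F387587 (iv5 F397504) (iv4 D195593) F325096 (iv4 F183172) F366072 (iv5 F375409)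
theorem F428277 : act 1 n203432 = n201539 := d18_6 (iv1 F178609) D114796 F333644 F187301 D119048 D203432 (iv4 D201539) F420603 F420601
def n203433 : Q := act 5 n119050
theorem D203433 : act 5 n119050 = n203433 := rfl
theorem F428278 : act 2 n203433 = n152535 := d2_1 D203433 (iv5 D152535) (iv2 F187306)
theorem F428279 : act 7 n203433 = n152541 := d13_2 (iv7 F187307) D203433 (iv5 D152541)
theorem F428280 : act 4 n203433 = n152349 := d16_2 D119050 D203433 (iv5 F247907) F247908 (iv5 D152283) (iv4 D71843) D71844 F108295 (iv2 F86672)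
theorem F428281 : act 0 n203433 = n201547 := d17_2 (iv1 F187309) D203433 (iv5 D201547) (iv4 D114803) (iv5 D52974) (iv0 D25713) D25715 D52977 D114808
theorem F428282 : act 1 n203433 = n201489 := d17_6 (iv1 D71846) (iv5 D33204) F42410 D54784 D119050 D203433 (iv5 D201489) (iv0 F239379) (iv4 D152288)
def n203434 : Q := act 5 n119061
theorem D203434 : act 5 n119061 = n203434 := rfl
theorem F428283 : act 3 n203434 = n151446 := d6_1 D203434 F355797 (iv3 F334758)
theorem F428284 : act 6 n203434 = n151452 := d12_2 (iv6 F334760) D203434 (iv5 F376861) F376859 (iv5 D178375)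
theorem F428285 : act 0 n203434 = n147236 := d17_2 F409875 D203434 (iv5 D147236) F105236 D69040 (iv0 F351029) F330672 F171214 D198917
def n203435 : Q := act 4 n119062
theorem D203435 : act 4 n119062 = n203435 := rfl
theorem F428286 : act 2 n203435 = n194207 := d1_1 D203435 F392377 (iv2 F187329)
theorem F428287 : act 3 n203435 = n194208 := d5_1 D203435 F392379 (iv3 F376815) (iv4 D119092) (iv3 F187330)
theorem F428288 : act 6 n203435 = n119065 := d10_2 (iv6 F187331) D203435 (iv4 D119065)
theorem F428289 : act 7 n203435 = n194208 := d11_2 F376814 D203435 F392379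
theorem F428290 : act 0 n203435 = n194210 := d18_2 F373947 D203435 F392380 F355836 F129198 F343354 (iv4 F227874) (iv0 F342091) D188557
theorem F428291 : act 1 n203435 = n194200 := d18_6 (iv1 F238153) F347783 (iv1 D69150) (iv4 F310813) D119062 D203435 F392360 D194201 F392363
def n203436 : Q := act 3 n119065
theorem D203436 : act 3 n119065 = n203436 := rfl
theorem F428292 : act 4 n203436 = n119104 := d5_2 D119065 D203436 (iv3 D119104) (iv4 D54808) (iv3 F86696)
theorem F428293 : act 6 n203436 = n194208 := d7_2 F428288 D203436 (iv3 F428287)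
theorem F428294 : act 0 n189536 = n203436 := d20_1 (iv4 F376934) F428292 (iv3 D119104) (iv1 F178685) D201474 F420647 F402767 F402765 F165934 D189308
def n203437 : Q := act 5 n119067
theorem D203437 : act 5 n119067 = n203437 := rfl
theorem F428295 : act 2 n203437 = n194171 := d2_1 D203437 F392247 (iv2 F288205)
theorem F428296 : act 3 n203437 = n201177 := d6_1 D203437 (iv5 D201177) (iv3 F261861)
theorem F428297 : act 7 n203437 = n194164 := d13_2 F288204 D203437 F392233
theorem F428298 : act 0 n203437 = n194170 := d17_2 D119067 D203437 (iv5 F392244) (iv4 F230828) (iv5 F183341) F320023 (iv5 F320020) (iv0 F333599) F187338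
theorem F428299 : act 1 n203437 = n194169 := d17_6 D69026 (iv5 F356831) (iv1 F346243) (iv5 F380963) F380962 D203437 F392237 (iv0 D147239) F105239
def n203438 : Q := act 5 n119094
theorem D203438 : act 5 n119094 = n203438 := rfl
theorem F428300 : act 2 n203438 = n119212 := d2_1 D203438 F187581 (iv2 F187355)
theorem F428301 : act 6 n203438 = n119105 := d12_2 D119094 D203438 (iv5 D119105) (iv6 F187353) F317679
theorem F428302 : act 7 n203438 = n119097 := d13_2 (iv7 F187356) D203438 (iv5 D119097)
theorem F428303 : act 1 n203438 = n119209 := d17_8 (iv1 F406663) (iv5 D198072) (iv1 F168901) D139410 F357970 (iv5 D119207) F187357 D203438 F363999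
theorem F428304 : act 4 n203438 = n157475 := d18_5 F290329 D114489 F315235 (iv4 F315233) D203438 (iv0 F405700) (iv4 F387681) F349970 (iv5 D52912)
theorem F428305 : act 0 n203438 = n119210 := d18_0 (iv4 F406664) (iv1 F406672) F406668 (iv5 D114593) F313961 F104060 F319720 F187357 D203438
def n203439 : Q := act 0 n119097
theorem D203439 : act 0 n119097 = n203439 := rfl
theorem F428306 : act 4 n203439 = n201498 := d18_1 D203439 (iv1 F420727) F353542 (iv5 D67993) F49944 D31644 D68002 F315231 D119097
theorem F428307 : act 3 n203439 = n203338 := d20_5 (iv4 F361664) (iv1 F407324) (iv4 F419782) F419781 D203439 (iv4 D203338) D203337 F427936 F427831 (iv1 F371660)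
theorem F428308 : act 6 n203439 = n200445 := d21_5 (iv5 D113694) F82876 D54810 (iv6 F187363) D203439 (iv5 D200445) (iv1 F355202) (iv5 F239586) (iv6 D152397) F176901
theorem F428309 : act 2 n119209 = n203439 := d15_3 (iv0 D203439) F353539 F364000
theorem F428310 : act 1 n119212 = n203439 := d15_0 (iv0 D203439) (iv7 F428302) F428300
theorem F428311 : act 7 n203439 = n119210 := d15_2 F353536 F428310 F406665
theorem F428312 : act 0 n203338 = n147934 := d20_4 D114639 D201498 (iv4 F428306) F428307 F231740 D147936 (iv1 F327877) F327879 (iv3 F360661) (iv1 D114638)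
def n203440 : Q := act 0 n119100
theorem D203440 : act 0 n119100 = n203440 := rfl
theorem F428313 : act 5 n203440 = n200032 := d17_3 (iv1 F416110) F415782 D203440 (iv4 D200032) F327528 (iv0 F327193) D111793 F327735 (iv4 F416108)
theorem F428314 : act 4 n203440 = n130702 := d18_3 (iv1 F218428) (iv4 F344967) D203440 (iv5 D130702) (iv4 F202262) (iv0 D125759) D125760 F202271 (iv5 F218092)
theorem F428315 : act 6 n203440 = n130702 := d21_5 F77992 (iv1 F42434) D54806 D119100 D203440 (iv5 D130702) (iv1 F179251) F327027 (iv6 D119103) (iv1 F86723)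
theorem F428316 : act 1 n135623 = n203440 := d15_0 (iv0 D203440) (iv7 F344966) F218424
theorem F428317 : act 7 n147238 = n203440 := d14_0 F428315 F216452 (iv6 F345017) F227876 D147238
def n203441 : Q := act 1 n119100
theorem D203441 : act 1 n119100 = n203441 := rfl
theorem F428318 : act 1 n203441 = n135623 := d15_1 D203441 (iv7 F344965) F210616
theorem F428319 : act 4 n203441 = n130704 := d18_7 D63831 (iv4 F99240) F173089 (iv4 F99325) (iv5 F218426) (iv4 F344967) D203441 F209266 (iv5 D63833)
theorem F428320 : act 6 n144914 = n203441 := d21_3 (iv5 D67949) (iv1 F104033) D144914 (iv1 D203441) (iv6 D119100) (iv5 D54806) (iv1 D26511) D26512 (iv6 F86715) (iv1 F317674)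
theorem F428321 : act 5 n200029 = n203441 := d21_6 F189737 (iv1 F87485) F82402 D112929 F399044 F414680 (iv1 D203441) (iv5 F415782) (iv6 D200273) (iv1 F189739)
theorem F428322 : act 2 n203441 = n147238 := d2_1 F428321 (iv5 F413843) (iv2 F414677)
theorem F428323 : act 3 n203441 = n195001 := d6_1 F428321 (iv5 F395353) (iv3 F414679)
def n203442 : Q := act 6 n119101
theorem D203442 : act 6 n119101 = n203442 := rfl
theorem F428324 : act 2 n203442 = n189770 := d3_1 D203442 F377687 (iv2 F187365)
theorem F428325 : act 3 n203442 = n119103 := d7_1 D203442 (iv6 D119103) D119101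
theorem F428326 : act 4 n203442 = n151697 := d10_1 D203442 (iv6 D151697) F187368
theorem F428327 : act 5 n203442 = n127344 := d12_1 D203442 (iv6 D127344) (iv5 D59812) D59813 (iv5 F187366)
theorem F428328 : act 7 n203442 = n201844 := d14_2 (iv7 F187367) D203442 F422022 (iv7 F215216) F334829
theorem F428329 : act 0 n203442 = n191709 := d21_4 (iv5 D106708) (iv1 F94202) (iv5 F187366) D203442 (iv6 D191709) (iv5 D98698) (iv1 D46138) D46139 (iv6 F107924) (iv1 F164461)
def n203443 : Q := act 3 n119102
theorem D203443 : act 3 n119102 = n203443 := rfl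
theorem F428330 : act 2 n203443 = n195963 := d0_1 D203443 (iv3 F398874) (iv2 F365004) (iv3 F364980) (iv2 F187371)
theorem F428331 : act 4 n203443 = n151695 := d5_2 D119102 D203443 (iv3 D151695) F187368 (iv3 D119101)
theorem F428332 : act 6 n203443 = n194184 := d7_2 F414707 D203443 (iv3 F414702)
theorem F428333 : act 7 n203443 = n195962 := d8_2 (iv7 F187372) D203443 F398871
theorem F428334 : act 0 n203443 = n131299 := d20_4 (iv4 D54808) D54807 D119102 D203443 F210438 F352954 (iv1 D133416) (iv4 F214503) (iv3 D133404) F97660
theorem F428335 : act 0 n195964 = n203443 := d20_4 (iv4 F382366) (iv1 F382368) F211657 (iv3 F398876) (iv3 D203443) (iv4 D119102) (iv1 F86723) D106744 F333549 D106746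
def n203444 : Q := act 5 n119102
theorem D203444 : act 5 n119102 = n203444 := rfl
theorem F428336 : act 2 n203444 = n201476 := d2_1 D203444 (iv5 D201476) (iv2 F187371)
theorem F428337 : act 4 n203444 = n119174 := d9_1 D203444 (iv5 D119174) F94576 F94574 F56575 D35915 D78895 D164231 (iv4 F311796) (iv5 D100470) (iv4 F311793) F94568 F54423 (iv5 F86726) D119102
theorem F428338 : act 7 n203444 = n201178 := d13_2 (iv7 F187372) D203444 (iv5 D201178)
def n203445 : Q := act 5 n119104
theorem D203445 : act 5 n119104 = n203445 := rfl
theorem F428339 : act 3 n203445 = n119105 := d6_1 D203445 (iv5 D119105) D119104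
def n203446 : Q := act 1 n119109
theorem D203446 : act 1 n119109 = n203446 := rfl
theorem F428340 : act 1 n203446 = n157988 := d15_1 D203446 (iv7 D157988) (iv2 F187381)
theorem F428341 : act 7 n203446 = n157985 := d15_2 (iv0 F387375) D203446 (iv2 F387370)
theorem F428342 : act 3 n120214 = n203446 := d19_19 (iv1 D203446) (iv5 F353095) (iv4 F330271) (iv3 D131099) F162887 (iv5 F314096) (iv4 D26915) F21378 D12894 F298890 (iv4 F300287) (iv3 F106919) D149872 F307769 (iv4 F234209) (iv3 D148999) (iv1 F234188) (iv5 F335249) (iv4 F335251)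
theorem F428343 : act 4 n135422 = n203446 := d20_0 (iv1 D203446) F187383 F108919 D72410 (iv3 F339067) (iv4 D152069) (iv1 D71691) (iv4 F108174) F108173 D135422
theorem F428344 : act 6 n172565 = n203446 := d21_3 (iv5 F330942) (iv1 F219943) (iv5 F348183) (iv1 D203446) (iv6 D119109) F86730 (iv1 F113263) (iv5 D38196) D38197 (iv1 F315081)
theorem F428345 : act 2 n203446 = n133077 := d3_1 F428344 (iv6 F403085) F403081
def n203447 : Q := act 7 n119109
theorem D203447 : act 7 n119109 = n203447 := rfl
theorem F428346 : act 2 n203447 = n157988 := d4_1 D203447 (iv7 D157988) (iv2 F187381)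
theorem F428347 : act 3 n203447 = n119113 := d8_1 D203447 (iv7 D119113) (iv3 F187382)
theorem F428348 : act 4 n203447 = n153281 := d11_1 D203447 (iv7 D153281) (iv4 F187383)
theorem F428349 : act 6 n203447 = n132916 := d14_1 D203447 F315436 (iv6 D75321) (iv7 F86731) D119109
theorem F428350 : act 1 n133077 = n203447 := d15_1 (iv0 F331996) (iv7 D203447) F187381
theorem F428351 : act 1 n203447 = n157985 := d15_1 F428350 (iv7 F428341) F428345
def n203448 : Q := act 5 n119110
theorem D203448 : act 5 n119110 = n203448 := rfl
theorem F428352 : act 2 n203448 = n120206 := d2_1 D203448 (iv5 D120206) (iv2 F234218)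
theorem F428353 : act 3 n203448 = n193166 := d6_1 D203448 (iv5 F427695) F427693
theorem F428354 : act 6 n203448 = n175386 := d12_2 (iv6 F187384) D203448 (iv5 D175386) (iv6 D83752) D83751
theorem F428355 : act 7 n203448 = n120211 := d13_2 (iv7 F234219) D203448 (iv5 D120211)
theorem F428356 : act 4 n203448 = n180820 := d16_2 F187386 D203448 (iv5 F332051) F278068 (iv5 F332064) F242262 (iv5 F344900) (iv7 F234226) (iv2 F234216)
theorem F428357 : act 0 n203448 = n155190 := d17_2 D119110 D203448 (iv5 D155190) F110393 D73703 (iv0 F187405) (iv5 D119115) (iv0 D54813) (iv4 F86735)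
def n203449 : Q := act 5 n119111
theorem D203449 : act 5 n119111 = n203449 := rfl
theorem F428358 : act 2 n203449 = n120211 := d2_1 D203449 (iv5 D120211) (iv2 F234228)
theorem F428359 : act 4 n203449 = n177044 := d9_1 D203449 (iv5 F397643) F397642 (iv5 D173801) F128115 (iv5 F311667) F187386 D203448 F428356 (iv5 F332051) F278068 (iv5 F332064) F242262 (iv5 F344900) (iv4 F234175)
theorem F428360 : act 7 n203449 = n120206 := d13_2 (iv7 F234229) D203449 (iv5 D120206)
theorem F428361 : act 1 n203449 = n155190 := d17_6 (iv1 F278071) F309986 (iv1 F311868) (iv5 F344900) (iv4 F234175) D203449 (iv5 D155190) (iv0 F190689) F187767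
theorem F428362 : act 6 n203449 = n177042 := d21_3 F319079 (iv1 F187388) D203449 F362751 (iv6 D120138) D120137 (iv1 F336414) (iv5 F332309) D203278 F427636
def n203450 : Q := act 4 n119115
theorem D203450 : act 4 n119115 = n203450 := rfl
theorem F428363 : act 2 n203450 = n120225 := d1_1 D203450 (iv4 D120225) (iv2 F187401)
theorem F428364 : act 3 n203450 = n173930 := d5_1 D203450 (iv4 D173930) F312557 F115719 (iv3 F310276)
theorem F428365 : act 5 n203450 = n128140 := d9_2 D119115 D203450 (iv4 F308430) D193186 F389114 (iv5 D135453) F314063 D119118 F335247 (iv5 D155190) F110393 D73703 (iv4 F307777) (iv5 F311320) (iv4 D119114)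
theorem F428366 : act 6 n203450 = n155232 := d10_2 (iv6 F312564) D203450 (iv4 D155232)
theorem F428367 : act 7 n203450 = n120230 := d11_2 (iv7 F187404) D203450 (iv4 D120230)
theorem F428368 : act 0 n203450 = n203448 := d17_0 (iv5 D203448) F187385 (iv5 F319079) (iv4 D120161) F162941 F186471 D73703 (iv0 F187405) D203450
theorem F428369 : act 1 n203450 = n203449 := d18_6 (iv1 D69876) (iv4 F86744) F187400 (iv4 D119114) D119115 D203450 F428359 F357088 (iv5 F311610)
def n203451 : Q := act 5 n119129
theorem D203451 : act 5 n119129 = n203451 := rfl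
theorem F428370 : act 2 n203451 = n161685 := d2_1 D203451 (iv5 D161685) (iv2 F187453)
theorem F428371 : act 3 n203451 = n172787 := d6_1 D203451 (iv5 D172787) (iv3 F187454)
theorem F428372 : act 6 n203451 = n119335 := d12_2 D119129 D203451 (iv5 D119335) (iv6 D54917) (iv5 F86755)
theorem F428373 : act 7 n203451 = n161879 := d13_2 (iv7 F316558) D203451 (iv5 D161879)
theorem F428374 : act 0 n203451 = n161401 := d17_2 (iv1 F333720) D203451 F350670 F310625 F209794 (iv0 F347174) (iv5 D119477) D119476 F316601
theorem F428375 : act 1 n203451 = n161924 := d17_6 (iv1 F167541) (iv5 F185781) (iv1 F185783) D155904 F312335 D203451 F302956 F194826 (iv4 F339023)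
def n203452 : Q := act 5 n119130
theorem D203452 : act 5 n119130 = n203452 := rfl
theorem F428376 : act 3 n203452 = n172417 := d6_1 D203452 F270642 (iv3 F315079)
theorem F428377 : act 6 n203452 = n198715 := d12_2 (iv6 F316657) D203452 (iv5 F408978) (iv6 F408980) (iv5 D161832)
theorem F428378 : act 7 n203452 = n161630 := d13_2 (iv7 F315080) D203452 (iv5 D161630)
theorem F428379 : act 1 n203452 = n121488 := d17_6 (iv1 F333707) F227302 (iv1 F317341) F210371 F350915 D203452 (iv5 F263489) (iv0 F392686) F392687
def n203453 : Q := act 6 n119160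
theorem D203453 : act 6 n119160 = n203453 := rfl
theorem F428380 : act 2 n203453 = n131161 := d3_1 D203453 (iv6 D131161) (iv2 F187492)
theorem F428381 : act 3 n203453 = n123147 := d7_1 D203453 (iv6 D123147) (iv3 F313356)
theorem F428382 : act 4 n203453 = n135232 := d10_1 D203453 (iv6 F352118) F215047
theorem F428383 : act 7 n135231 = n203453 := d11_0 F428382 (iv7 D135232) D135231
theorem F428384 : act 0 n148533 = n203453 := d18_2 (iv1 F214592) (iv4 F339350) F428382 F217415 F98864 F48348 D63744 F100274 D63761
def n203454 : Q := act 1 n119161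
theorem D203454 : act 1 n119161 = n203454 := rfl
theorem F428385 : act 1 n203454 = n131165 := d15_1 D203454 (iv7 D131165) (iv2 F187493)
theorem F428386 : act 7 n203454 = n131162 := d15_2 (iv0 F385411) D203454 (iv2 F385413)
theorem F428387 : act 2 n123543 = n203454 := d4_3 F428386 (iv2 F385413) F385410
theorem F428388 : act 6 n123522 = n203454 := d14_5 F428386 F385414 F385405 (iv6 D123548) (iv7 F359915)
def n203455 : Q := act 0 n119166
theorem D203455 : act 0 n119166 = n203455 := rfl
theorem F428389 : act 4 n203455 = n131612 := d20_2 (iv4 F187516) D203455 (iv3 D131612) (iv1 F205886) (iv3 F215477) F309510 (iv1 F313523) F252501 (iv3 F252502) (iv1 D119168)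
theorem F428390 : act 3 n203455 = n202572 := d20_5 (iv4 F324106) F324103 (iv4 F195682) (iv3 F358456) D203455 (iv4 D202572) (iv1 F357373) (iv4 F268169) (iv3 D170675) (iv1 F302059)
theorem F428391 : act 1 n130876 = n203455 := d15_0 (iv0 D203455) (iv7 F358459) (iv2 F358460)
theorem F428392 : act 6 n122620 = n203455 := d7_0 F428390 F424557 F354032
def n203456 : Q := act 1 n119166
theorem D203456 : act 1 n119166 = n203456 := rfl
theorem F428393 : act 1 n203456 = n130876 := d15_1 D203456 (iv7 D130876) (iv2 F187515)
theorem F428394 : act 4 n203456 = n197202 := d17_9 F420622 F420620 F227766 (iv5 F385378) F385377 D192059 (iv0 F385384) F358458 D203456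
def n203457 : Q := act 5 n119167
theorem D203457 : act 5 n119167 = n203457 := rfl
theorem F428395 : act 2 n203457 = n130880 := d2_1 D203457 (iv5 D130880) (iv2 F237555)
theorem F428396 : act 3 n203457 = n120187 := d6_1 D203457 (iv5 D120187) (iv3 F237556)
theorem F428397 : act 6 n203457 = n134375 := d12_2 (iv6 F340116) D203457 F331618 (iv6 F340113) (iv5 F340115)
theorem F428398 : act 7 n203457 = n130885 := d13_2 (iv7 F237557) D203457 (iv5 D130885)
theorem F428399 : act 4 n203457 = n134376 := d17_4 (iv1 F314861) F103905 D119167 D203457 (iv5 F410537) F410534 F357697 F364027 F196845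
theorem F428400 : act 0 n203457 = n202926 := d21_1 D203457 F426216 (iv6 F307762) (iv1 F120269) (iv6 F309441) F46796 (iv1 F23522) (iv5 F42472) D54840 D119167
theorem F428401 : act 0 n202995 = n203457 := d21_10 (iv5 D203457) (iv1 F187522) (iv5 F103918) (iv6 F104922) (iv1 F120251) F320609 (iv5 F320608) D178830 F278694 D202995
def n203458 : Q := act 6 n119168
theorem D203458 : act 6 n119168 = n203458 := rfl
theorem F428402 : act 2 n203458 = n130886 := d3_1 D203458 (iv6 D130886) (iv2 F237559)
theorem F428403 : act 5 n203458 = n156566 := d12_1 D203458 (iv6 F341175) (iv5 D117671) D117672 F187518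
theorem F428404 : act 7 n203458 = n202479 := d14_2 (iv7 F237560) D203458 F424187 F319993 F354314
theorem F428405 : act 0 n203458 = n190803 := d21_4 (iv5 F426216) F426218 F187518 D203458 (iv6 D190803) F309763 D132336 (iv5 F215082) (iv6 F306197) F306194
theorem F428406 : act 0 n152177 = n203458 := d21_4 F314092 (iv1 F325037) (iv5 F318304) D152177 (iv6 D203458) (iv5 F187518) F426573 F426572 F312438 F197959
def n203459 : Q := act 6 n119182
theorem D203459 : act 6 n119182 = n203459 := rfl
def n203460 : Q := act 6 n119185
theorem D203460 : act 6 n119185 = n203460 := rfl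
theorem F428407 : act 2 n203460 = n157475 := d3_1 D203460 (iv6 D157475) (iv2 F187534)
theorem F428408 : act 3 n203460 = n199061 := d7_1 D203460 (iv6 F410510) (iv3 F361478)
theorem F428409 : act 4 n203460 = n119212 := d10_1 D203460 (iv6 F399055) F399054
theorem F428410 : act 5 n203460 = n202536 := d12_1 D203460 F424407 (iv5 D192348) F307750 (iv5 F187535)
theorem F428411 : act 7 n203460 = n119211 := d14_2 D119185 D203460 F187580 (iv7 F329998) F364670
def n203461 : Q := act 0 n119204
theorem D203461 : act 0 n119204 = n203461 := rfl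
theorem F428412 : act 5 n203461 = n203431 := d19_1 D203461 F428272 (iv3 D202695) (iv1 D116432) (iv5 D53663) (iv4 F78324) F78323 (iv1 F102175) D107214 (iv4 F340043) (iv3 F413147) F413148 F393049 F380621 (iv3 F409601) (iv1 D198857) (iv5 F173046) (iv4 F370335) F370332
theorem F428413 : act 1 n119207 = n203461 := d15_0 (iv0 D203461) F357969 (iv2 F357967)
theorem F428414 : act 3 n188046 = n203461 := d6_3 F428412 F428271 (iv5 F387476)
def n203462 : Q := act 1 n119204
theorem D203462 : act 1 n119204 = n203462 := rfl
theorem F428415 : act 1 n203462 = n119207 := d15_1 D203462 (iv7 F357971) F357972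
def n203463 : Q := act 5 n119205
theorem D203463 : act 5 n119205 = n203463 := rfl
theorem F428416 : act 3 n203463 = n119207 := d6_1 D203463 (iv5 D119207) D119205
theorem F428417 : act 0 n203463 = n202940 := d17_2 (iv1 F360697) D203463 (iv5 D202940) F183702 D146824 F418372 (iv5 F361655) (iv0 F424608) F424605
def n203464 : Q := act 6 n119205
theorem D203464 : act 6 n119205 = n203464 := rfl
theorem F428418 : act 3 n203464 = n119208 := d7_1 D203464 (iv6 D119208) D119205
theorem F428419 : act 0 n186501 = n203464 := d20_4 F373972 F363054 (iv4 F398137) F398136 F428418 (iv4 F339561) (iv1 D127746) (iv4 F338538) (iv3 F363729) F373975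
theorem F428420 : act 0 n203464 = n186490 := d19_4 (iv1 F104587) (iv5 F205356) F339561 (iv3 F428418) (iv5 F422044) F422041 F336800 (iv1 F354891) (iv5 D159507) (iv4 F251203) (iv3 F353461) (iv1 F316419) F316420 F112622 F54562 F52551 F52550 (iv4 F313945) (iv3 F50142)
theorem F428421 : act 0 n188299 = n203463 := d21_7 (iv5 F422044) F422043 F337569 (iv6 F186657) (iv1 F186659) (iv6 F348664) (iv5 F373017) (iv5 D203463) D203464 F428420
def n203465 : Q := act 6 n119207
theorem D203465 : act 6 n119207 = n203465 := rfl
theorem F428422 : act 5 n203465 = n130650 := d12_1 D203465 (iv6 F218170) F339559 (iv6 D119208) D119207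
theorem F428423 : act 7 n203465 = n188101 := d14_2 F357971 D203465 (iv6 D188101) (iv7 F362401) F362395
theorem F428424 : act 0 n203465 = n135562 := d21_4 (iv5 D203438) (iv1 F187357) D119207 D203465 (iv6 F362775) (iv5 F238578) (iv1 F416441) F416442 (iv6 F419640) (iv1 F428303)
theorem F428425 : act 0 n135564 = n203465 := d21_4 (iv5 F179187) (iv1 F179192) F177547 (iv6 F352119) (iv6 D203465) (iv5 D119207) (iv1 D54856) D54857 F86800 D54860
def n203466 : Q := act 3 n119210
theorem D203466 : act 3 n119210 = n203466 := rfl
theorem F428426 : act 7 n203466 = n203338 := d8_2 F428311 D203466 (iv3 F428307)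
theorem F428427 : act 0 n203466 = n127955 := d20_4 (iv4 F406661) F406662 F406664 D203466 (iv3 F314116) F184380 (iv1 F231796) F231799 (iv3 F420501) (iv1 F420505)
theorem F428428 : act 4 n203339 = n203466 := d20_2 (iv4 F351273) (iv1 F427949) (iv3 D203466) (iv1 D119210) (iv3 F94987) (iv4 F206686) (iv1 F418099) (iv4 F418100) F427821 F427822
theorem F428429 : act 5 n203466 = n146400 := d16_7 F343207 (iv5 F216917) F351273 F186812 (iv4 F186806) (iv5 F427947) F428428 (iv7 F426286) (iv2 F426287)
theorem F428430 : act 6 n146575 = n203466 := d12_0 F428429 F424855 F398321 (iv6 F392648) F392650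
def n203467 : Q := act 5 n119210
theorem D203467 : act 5 n119210 = n203467 := rfl
theorem F428431 : act 2 n203467 = n164338 := d2_1 D203467 (iv5 F353540) (iv2 F406665)
theorem F428432 : act 3 n203467 = n146400 := d6_1 D203467 (iv5 F428429) (iv3 D203466)
theorem F428433 : act 4 n203467 = n128456 := d9_1 D203467 (iv5 F315681) (iv4 F396826) F396824 F162168 D115921 (iv4 F363999) (iv5 F397341) (iv4 D195557) (iv5 D105702) (iv4 F162309) F364295 F215916 D134007 F406664
theorem F428434 : act 6 n203467 = n128455 := d21_3 D203438 F428305 D203467 (iv1 F319010) F319013 F317458 (iv1 D90133) D90135 (iv6 F138584) (iv1 F187358)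
def n203468 : Q := act 6 n119210
theorem D203468 : act 6 n119210 = n203468 := rfl
theorem F428435 : act 2 n203468 = n201696 := d3_1 D203468 (iv6 F421457) (iv2 F406665)
theorem F428436 : act 3 n203468 = n146575 := d7_1 D203468 F428430 (iv3 D203466)
theorem F428437 : act 4 n203468 = n148531 := d10_1 D203468 F364975 F406664
theorem F428438 : act 5 n203468 = n201260 := d12_1 D203468 F419722 F403234 (iv6 F428434) (iv5 D203467)
theorem F428439 : act 7 n203468 = n201259 := d14_2 F428311 D203468 F419715 (iv7 F416457) (iv6 F428308)
theorem F428440 : act 0 n152391 = n203468 := d17_2 (iv1 F177563) D152391 F428438 F419721 (iv5 F233305) (iv0 D148541) D148543 F233315 (iv4 F348528)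
theorem F428441 : act 1 n152386 = n203468 := d17_6 (iv1 F239937) (iv5 D152736) D152734 (iv5 F335507) F335506 D152386 F428438 F419724 F372342
def n203469 : Q := act 6 n119213
theorem D203469 : act 6 n119213 = n203469 := rfl
theorem F428442 : act 4 n203469 = n119214 := d10_1 D203469 (iv6 D119214) D119213
def n203470 : Q := act 0 n119214
theorem D203470 : act 0 n119214 = n203470 := rfl
def n203471 : Q := act 1 n119214
theorem D203471 : act 1 n119214 = n203471 := rfl
theorem F428443 : act 5 n135558 = n203471 := d21_0 (iv1 D203471) F187583 (iv6 D68846) F50399 D59831 (iv5 F163752) F367911 F345003 (iv6 F217412) (iv1 F217980)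
def n203472 : Q := act 7 n119214
theorem D203472 : act 7 n119214 = n203472 := rfl
theorem F428444 : act 5 n203472 = n146856 := d13_1 D203472 (iv7 D146856) (iv5 F187583)
theorem F428445 : act 6 n203472 = n152396 := d14_1 D203472 (iv7 D152396) F108386 (iv7 F86801) D119214
def n203473 : Q := act 6 n119215
theorem D203473 : act 6 n119215 = n203473 := rfl
theorem F428446 : act 2 n203473 = n201505 := d3_1 D203473 (iv6 D201505) (iv2 F187584)
theorem F428447 : act 3 n203473 = n134295 := d7_1 D203473 (iv6 F343846) (iv3 F349166)
theorem F428448 : act 4 n203473 = n119216 := d10_1 D203473 (iv6 D119216) D119215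
theorem F428449 : act 5 n203473 = n134920 := d12_1 D203473 F217113 F365760 (iv6 F394015) F394014
theorem F428450 : act 0 n191775 = n203473 := d20_1 (iv4 F384413) F428448 (iv3 F419836) (iv1 F419839) (iv3 F428038) (iv4 F410634) F410872 F410870 (iv3 F420533) F420534
def n203474 : Q := act 0 n119216
theorem D203474 : act 0 n119216 = n203474 := rfl
theorem F428451 : act 6 n203474 = n152391 := d21_5 F108387 D115080 F179187 D119216 D203474 (iv5 D152391) (iv1 D71891) D71892 F108386 D71894
theorem F428452 : act 2 n201698 = n203474 := d3_3 F428451 (iv2 F364733) D201698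
def n203475 : Q := act 1 n119216
theorem D203475 : act 1 n119216 = n203475 := rfl
theorem F428453 : act 7 n203475 = n201698 := d15_2 (iv0 D203474) D203475 F428452
theorem F428454 : act 6 n135230 = n203475 := d21_3 F428422 (iv1 F214635) (iv5 F217414) (iv1 D203475) (iv6 D119216) (iv5 F179187) (iv1 F179192) F177547 (iv6 F352119) F428425
theorem F428455 : act 3 n201701 = n203475 := d8_3 F428453 F421461 D201701
def n203476 : Q := act 5 n119217
theorem D203476 : act 5 n119217 = n203476 := rfl
theorem F428456 : act 2 n203476 = n201506 := d2_1 D203476 (iv5 D201506) (iv2 F187589)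
theorem F428457 : act 3 n203476 = n186908 := d6_1 D203476 (iv5 F372444) (iv3 F372442)
theorem F428458 : act 4 n203476 = n119264 := d9_1 D203476 (iv5 D119264) D119263 F187726 (iv4 F179188) F179187 D119215 (iv5 F394014) F394013 (iv5 D119267) (iv4 F86829) (iv5 F104064) F104063 F86802 D119217
theorem F428459 : act 7 n203476 = n201504 := d13_2 (iv7 F187590) D203476 (iv5 D201504)
theorem F428460 : act 1 n203476 = n190992 := d17_6 (iv1 F176902) (iv5 F177547) F177546 F86802 D119217 D203476 (iv5 F381827) (iv0 F386051) F386049
theorem F428461 : act 6 n186906 = n203476 := d14_5 F428459 F420758 F284880 (iv6 F414243) F414244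
def n203477 : Q := act 6 n119228
theorem D203477 : act 6 n119228 = n203477 := rfl
theorem F428462 : act 2 n203477 = n149220 := d3_1 D203477 (iv6 F234610) F190302
theorem F428463 : act 3 n203477 = n152666 := d7_1 D203477 (iv6 D152666) F187614
theorem F428464 : act 4 n203477 = n119230 := d10_1 D203477 (iv6 D119230) D119228
theorem F428465 : act 5 n203477 = n128089 := d12_1 D203477 (iv6 F346399) (iv5 D142001) D142002 F348371
theorem F428466 : act 1 n149003 = n203477 := d18_8 (iv1 D128089) D128090 F206161 (iv4 D73569) D73570 D155007 (iv0 F243742) (iv4 F234272) F428465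
def n203478 : Q := act 5 n119231
theorem D203478 : act 5 n119231 = n203478 := rfl
theorem F428467 : act 3 n203478 = n119232 := d6_1 D203478 (iv5 D119232) D119231
theorem F428468 : act 7 n203478 = n165656 := d13_2 F383216 D203478 F383219
theorem F428469 : act 4 n203478 = n123493 := d16_2 (iv4 F187666) D203478 (iv5 F386933) F386932 (iv5 F386949) F386948 (iv5 D186874) F354025 (iv2 F354023)
theorem F428470 : act 6 n203478 = n174160 := d21_3 (iv5 D153593) (iv1 F353878) D203478 (iv1 D174160) (iv6 D83252) F59173 (iv1 F58974) D82899 D173232 F347504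
def n203479 : Q := act 6 n119231
theorem D203479 : act 6 n119231 = n203479 := rfl
theorem F428471 : act 3 n203479 = n119233 := d7_1 D203479 (iv6 D119233) D119231
theorem F428472 : act 4 n203479 = n203215 := d10_1 D203479 (iv6 D203215) (iv4 F187666)
def n203480 : Q := act 4 n119232
theorem D203480 : act 4 n119232 = n203480 := rfl
theorem F428473 : act 2 n203480 = n165662 := d1_1 D203480 (iv4 D165662) (iv2 F325399)
theorem F428474 : act 5 n203480 = n186848 := d9_2 D119232 D203480 (iv4 F378643) (iv5 F414407) F414408 F348371 (iv4 D119228) D119229 F322773 (iv5 F368256) F378646 (iv5 F414195) F414194 (iv5 D118231) F185139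
theorem F428475 : act 6 n203480 = n131552 := d10_2 F409733 D203480 (iv4 F409735)
theorem F428476 : act 7 n203480 = n165657 := d11_2 (iv7 F325400) D203480 (iv4 D165657)
theorem F428477 : act 0 n203480 = n199654 := d17_0 (iv5 D199654) D199652 F413013 F193295 (iv5 F327556) F278303 (iv5 F323012) F323011 D203480
theorem F428478 : act 1 n203480 = n166381 := d18_6 F186968 (iv4 F123800) F187619 F185139 D119232 D203480 F327672 (iv0 F327668) (iv5 F328131)
theorem F428479 : act 3 n203480 = n197981 := d19_3 (iv1 F320087) D119232 D203480 (iv1 F406372) (iv5 D116695) F84792 F41103 D26015 F307054 (iv4 F184952) (iv3 F305138) F104181 (iv5 D68068) F317926 F77144 F46227 D54285 F85652 (iv3 F132060)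
def n203481 : Q := act 5 n119236
theorem D203481 : act 5 n119236 = n203481 := rfl
theorem F428480 : act 2 n203481 = n146143 := d2_1 D203481 F318783 F350695
theorem F428481 : act 3 n203481 = n200072 := d6_1 D203481 F414904 (iv3 F350696)
theorem F428482 : act 6 n203481 = n147169 := d12_2 F346951 D203481 (iv5 F337585) (iv6 D131376) D131375
theorem F428483 : act 7 n203481 = n166477 := d13_2 (iv7 F350697) D203481 F330730
theorem F428484 : act 0 n203481 = n157705 := d17_2 (iv1 F350694) D203481 F346922 (iv4 F327104) (iv5 D118913) F188305 D75588 D158444 (iv4 F346952)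
theorem F428485 : act 1 n203481 = n166481 := d17_6 (iv1 F322771) (iv5 D119232) (iv1 D54867) D54868 D119236 D203481 F262036 (iv0 F350677) (iv4 F304721)
def n203482 : Q := act 6 n119238
theorem D203482 : act 6 n119238 = n203482 := rfl
theorem F428486 : act 2 n203482 = n158346 := d3_1 D203482 (iv6 D158346) (iv2 F187671)
theorem F428487 : act 3 n203482 = n119240 := d7_1 D203482 (iv6 D119240) D119238
theorem F428488 : act 4 n203482 = n153682 := d10_1 D203482 (iv6 D153682) F191142
theorem F428489 : act 0 n158157 = n203482 := d21_4 (iv5 F317522) D133529 F319891 D158157 (iv6 D203482) (iv5 F412739) (iv1 F412741) (iv5 F340664) (iv6 F348181) F300672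
def n203483 : Q := act 6 n119239
theorem D203483 : act 6 n119239 = n203483 := rfl
theorem F428490 : act 2 n203483 = n152926 := d3_1 D203483 (iv6 D152926) (iv2 F187675)
theorem F428491 : act 4 n203483 = n166486 := d10_1 D203483 (iv6 D166486) (iv4 F327102)
theorem F428492 : act 5 n203483 = n200470 := d12_1 D203483 F416588 F188304 (iv6 D119240) D119239
theorem F428493 : act 7 n203483 = n174136 := d14_2 F327671 D203483 (iv6 F409824) F409825 (iv6 D166475)
theorem F428494 : act 0 n131556 = n203483 := d21_4 (iv5 D131430) (iv1 F96271) (iv5 F96333) D131556 (iv6 D203483) (iv5 D119239) F188306 D75588 F317942 (iv1 F210663)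
def n203484 : Q := act 0 n119240
theorem D203484 : act 0 n119240 = n203484 := rfl
theorem F428495 : act 5 n203484 = n119296 := d17_1 D203484 (iv1 F187783) F87000 F42590 (iv5 F41609) F85477 D117520 (iv0 F184110) (iv4 F187677)
theorem F428496 : act 4 n203484 = n127647 := d18_3 (iv1 F130251) (iv4 F187677) D203484 (iv5 D127647) F184102 (iv0 D117515) F85471 D54150 (iv5 F85473)
theorem F428497 : act 6 n203484 = n152079 := d21_5 D175157 F274167 (iv5 D119239) D119240 D203484 (iv5 F351706) (iv1 F326677) (iv5 D119391) (iv6 F125771) (iv1 F264410)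
theorem F428498 : act 2 n119528 = n203484 := d15_3 (iv0 D203484) F233267 (iv7 F233768)
theorem F428499 : act 1 n148513 = n203484 := d15_0 (iv0 D203484) (iv7 F426937) F426935
theorem F428500 : act 7 n203484 = n119533 := d15_2 (iv0 F233266) F428499 (iv2 F233765)
def n203485 : Q := act 3 n119244
theorem D203485 : act 3 n119244 = n203485 := rfl
theorem F428501 : act 2 n203485 = n149180 := d0_1 D203485 F386272 (iv2 F414381) (iv3 F414388) F414387
theorem F428502 : act 5 n203485 = n149057 := d6_2 F363701 D203485 F363702
theorem F428503 : act 7 n203485 = n149199 := d8_2 F414399 D203485 (iv3 F414398)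
theorem F428504 : act 4 n152751 = n203485 := d16_2 D193560 (iv5 F390283) F428502 (iv4 D149057) (iv5 D69914) D69913 D149055 F234395 (iv2 F314168)
theorem F428505 : act 0 n194437 = n152751 := d18_2 (iv1 F359294) D194437 F428504 F428502 (iv4 D149057) F312692 (iv4 F162369) F369162 F369159
theorem F428506 : act 0 n203485 = n130586 := d20_7 (iv4 D30442) D30440 D64700 F320512 D72083 D152751 F428504 (iv4 F220801) (iv3 D137642) (iv1 D64705)
def n203486 : Q := act 4 n119244
theorem D203486 : act 4 n119244 = n203486 := rfl
theorem F428507 : act 2 n203486 = n192096 := d1_1 D203486 (iv4 F414390) F414387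
theorem F428508 : act 3 n203486 = n152752 := d5_1 D203486 (iv4 D152752) D152751 F428504 (iv3 D203485)
theorem F428509 : act 5 n203486 = n178696 := d9_2 F363701 D203486 (iv4 D178696) F325406 (iv4 F333811) (iv5 F417673) F417672 (iv5 F348114) (iv4 F189711) F185773 (iv4 F155290) (iv5 F328400) (iv4 F258086) (iv5 F417665) F417666
theorem F428510 : act 6 n203486 = n140721 := d10_2 (iv6 F425911) D203486 F425913
theorem F428511 : act 7 n203486 = n192095 := d11_2 F414399 D203486 (iv4 F414402)
theorem F428512 : act 0 n203486 = n167806 := d18_2 D119244 D203486 (iv4 F352734) F352735 D194529 (iv0 F393605) (iv4 F378643) (iv0 D190049) F350700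
theorem F428513 : act 1 n203486 = n148996 := d18_6 (iv1 F356239) F220436 D200728 F417666 F363701 D203486 (iv4 F335758) F335757 D152951
def n203487 : Q := act 6 n119248
theorem D203487 : act 6 n119248 = n203487 := rfl
theorem F428514 : act 3 n203487 = n177683 := d7_1 D203487 F361897 (iv3 F346763)
theorem F428515 : act 4 n203487 = n119249 := d10_1 D203487 (iv6 D119249) (iv4 F187688)
theorem F428516 : act 5 n203487 = n198439 := d12_1 D203487 F408002 F386268 (iv6 F378652) F378651
theorem F428517 : act 7 n203487 = n119279 := d14_2 D119248 D203487 (iv6 D119279) (iv7 D54892) (iv6 F86817)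
theorem F428518 : act 0 n198434 = n203487 := d21_4 (iv5 F347155) (iv1 D109307) D109309 D198434 (iv6 D203487) (iv5 F378651) (iv1 F378653) F366579 (iv6 F363698) (iv1 F361871)
def n203488 : Q := act 2 n119262
theorem D203488 : act 2 n119262 = n203488 := rfl
theorem F428519 : act 3 n203488 = n184203 := d0_2 D119262 D203488 F393806 (iv3 F393804) F187543
theorem F428520 : act 4 n203488 = n152828 := d1_2 (iv4 F187729) D203488 (iv2 D152828)
theorem F428521 : act 6 n203488 = n202371 := d3_2 F414441 D203488 F423798
theorem F428522 : act 7 n203488 = n144080 := d4_2 F425603 D203488 (iv2 F425599)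
theorem F428523 : act 1 n203488 = n144030 := d15_0 (iv0 F425604) F425603 D203488
theorem F428524 : act 1 n144289 = n203488 := d15_0 F428523 F226727 D144289
def n203489 : Q := act 5 n119262
theorem D203489 : act 5 n119262 = n203489 := rfl
theorem F428525 : act 3 n203489 = n119264 := d6_1 D203489 (iv5 D119264) D119262
theorem F428526 : act 7 n203489 = n189961 := d13_2 F425603 D203489 (iv5 F425602)
theorem F428527 : act 4 n203489 = n184128 := d17_4 (iv1 F176037) D190582 F380206 D203489 F367108 (iv0 D103595) (iv5 D47983) D47982 D103592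
theorem F428528 : act 0 n203489 = n191228 := d18_0 F382658 F379908 F378378 F158272 D194239 (iv0 F392452) F226968 (iv0 F366190) D203489
theorem F428529 : act 0 n190828 = n203489 := d19_0 (iv5 D203489) F187729 (iv3 D72115) (iv1 F87037) D119613 F188652 (iv3 F239763) F373377 F373376 (iv4 D187986) F139617 D90715 F139619 (iv4 D42499) (iv3 F65632) D90749 (iv5 F251137) F251143 (iv3 F381264)
def n203490 : Q := act 0 n119279
theorem D203490 : act 0 n119279 = n203490 := rfl
theorem F428530 : act 6 n203490 = n178880 := d21_5 (iv5 F329965) (iv1 D103291) F329945 D119279 D203490 F347159 (iv1 F174065) F347157 (iv6 F322322) F107781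
theorem F428531 : act 2 n198434 = n203490 := d3_3 F428530 (iv2 F347160) D198434
theorem F428532 : act 3 n202362 = n203490 := d7_3 F428530 (iv3 F347161) D202362
def n203491 : Q := act 1 n119279
theorem D203491 : act 1 n119279 = n203491 := rfl
theorem F428533 : act 7 n203491 = n198434 := d15_2 (iv0 D203490) D203491 F428531
theorem F428534 : act 4 n203260 = n203491 := d20_6 (iv4 D35746) D35744 F305287 (iv3 F110866) (iv1 F185833) D203260 (iv1 D203491) F187740 F86832 F309336
theorem F428535 : act 6 n203491 = n144508 := d10_2 (iv6 F427549) F428534 F425939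
theorem F428536 : act 1 n150024 = n203260 := d17_8 (iv1 D203491) (iv5 F393810) F393811 F366289 F424838 F424837 (iv0 F386538) (iv5 F236015) F428534
theorem F428537 : act 3 n198441 = n203491 := d20_5 (iv4 F274517) (iv1 D98502) D98503 D191521 (iv1 F408017) (iv4 F428534) (iv1 F428536) (iv4 F385701) F385700 (iv1 F153538)
def n203492 : Q := act 5 n119282
theorem D203492 : act 5 n119282 = n203492 := rfl
theorem F428538 : act 2 n203492 = n172026 := d2_1 D203492 (iv5 D172026) (iv2 F313121)
theorem F428539 : act 7 n203492 = n172021 := d13_2 (iv7 F313122) D203492 (iv5 D172021)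
theorem F428540 : act 0 n176117 = n203492 := d21_1 (iv5 F275367) (iv5 D203492) F310883 (iv1 F125802) D88074 (iv5 F319747) (iv1 F214804) F211042 D131666 F384812
def n203493 : Q := act 0 n119283
theorem D203493 : act 0 n119283 = n203493 := rfl
theorem F428541 : act 3 n203493 = n194244 := d20_5 (iv4 F336260) (iv1 F336262) F336269 (iv3 F187743) D203493 (iv4 D194244) F391487 F391485 F416623 (iv1 F416624)
theorem F428542 : act 6 n203493 = n141356 := d21_5 (iv5 D193406) (iv1 D101607) D101608 (iv6 F187744) D203493 F224406 (iv1 F170596) D198829 F409453 (iv1 F389749)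
theorem F428543 : act 2 n172028 = n203493 := d3_3 F428542 (iv2 F409436) (iv6 F409441)
theorem F428544 : act 4 n141357 = n203493 := d10_3 F428542 (iv4 D141356) D141357
theorem F428545 : act 7 n172029 = n203493 := d15_2 (iv0 D172028) D172029 (iv2 F428543)
theorem F428546 : act 0 n203493 = n172031 := d20_4 (iv4 F382083) F382084 D194244 (iv3 F428541) F270081 (iv4 F327389) (iv1 D99775) (iv4 F327397) D166222 F365702
def n203494 : Q := act 1 n119283
theorem D203494 : act 1 n119283 = n203494 := rfl
theorem F428547 : act 1 n203494 = n172031 := d15_1 D203494 (iv7 D172031) (iv2 F187742)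
theorem F428548 : act 7 n203494 = n172028 := d15_2 (iv0 D203493) D203494 F428543
theorem F428549 : act 5 n158157 = n203494 := d21_6 D38196 F113262 (iv5 D34485) D34486 D75324 D158157 (iv1 D203494) (iv5 D119283) (iv6 D54894) (iv1 F42512)
theorem F428550 : act 2 n203494 = n172029 := d2_1 F428549 (iv5 F366650) F366446
def n203495 : Q := act 4 n119283
theorem D203495 : act 4 n119283 = n203495 := rfl
theorem F428551 : act 2 n203495 = n172030 := d1_1 D203495 (iv4 D172030) (iv2 F187742)
theorem F428552 : act 6 n203495 = n193407 := d10_2 (iv6 F187744) D203495 (iv4 D193407)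
theorem F428553 : act 5 n201968 = n203495 := d2_0 F428551 (iv5 F404190) (iv2 F422554)
def n203496 : Q := act 7 n119283
theorem D203496 : act 7 n119283 = n203496 := rfl
theorem F428554 : act 2 n203496 = n172031 := d4_1 D203496 (iv7 D172031) (iv2 F187742)
theorem F428555 : act 3 n203496 = n119299 := d8_1 D203496 (iv7 D119299) (iv3 F187743)
theorem F428556 : act 5 n203496 = n119284 := d13_1 D203496 (iv7 D119284) D119283
theorem F428557 : act 1 n172029 = n203496 := d15_1 D172029 (iv7 D203496) F187742
theorem F428558 : act 1 n203496 = n172028 := d15_1 F428557 (iv7 F428548) F428550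
def n203497 : Q := act 1 n119287
theorem D203497 : act 1 n119287 = n203497 := rfl
theorem F428559 : act 1 n203497 = n119492 := d15_1 D203497 (iv7 D119492) (iv2 F187753)
theorem F428560 : act 7 n203497 = n119489 := d15_2 F404636 D203497 (iv2 F404631)
theorem F428561 : act 5 n203497 = n131571 := d17_7 F339000 (iv5 F308517) F381023 (iv5 D190779) F148874 D119287 D203497 F404629 F404626
theorem F428562 : act 2 n119490 = n203497 := d2_3 F428561 F333431 F286771
theorem F428563 : act 4 n156284 = n203497 := d9_15 F428561 F210820 (iv5 F185781) (iv4 F427487) F427488 (iv4 D156278) D156279 (iv4 F404635) (iv5 D197510) F167535 F79187 (iv4 F110864) D155895 F403816 D156284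
theorem F428564 : act 6 n198858 = n203497 := d12_0 F428561 (iv6 D131571) (iv5 F306566) D177024 (iv5 F409605)
def n203498 : Q := act 7 n119287
theorem D203498 : act 7 n119287 = n203498 := rfl
theorem F428565 : act 2 n203498 = n119492 := d4_1 D203498 (iv7 D119492) (iv2 F187753)
theorem F428566 : act 3 n203498 = n152611 := d8_1 D203498 F366368 (iv3 F187754)
theorem F428567 : act 5 n203498 = n119288 := d13_1 D203498 (iv7 D119288) D119287
theorem F428568 : act 1 n119490 = n203498 := d15_1 D119490 (iv7 D203498) F187753
theorem F428569 : act 1 n203498 = n119489 := d15_1 F428568 (iv7 F428560) (iv2 F428562)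
theorem F428570 : act 6 n203498 = n197121 := d21_3 F357035 (iv1 F187761) (iv5 F428567) (iv1 D197121) (iv6 D107673) D107672 D197118 F403129 (iv6 F415270) (iv1 F415271)
def n203499 : Q := act 6 n119289
theorem D203499 : act 6 n119289 = n203499 := rfl
theorem F428571 : act 2 n203499 = n162770 := d3_1 D203499 F257000 F331923
theorem F428572 : act 3 n203499 = n119291 := d7_1 D203499 (iv6 D119291) D119289
theorem F428573 : act 4 n203499 = n128287 := d10_1 D203499 (iv6 D128287) (iv4 F187762)
theorem F428574 : act 5 n203499 = n203446 := d12_1 D203499 (iv6 F428344) F348183 (iv6 F219947) F331892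
theorem F428575 : act 7 n203499 = n155092 := d14_2 (iv7 F187763) D203499 (iv6 D155092) F110317 (iv6 F301376)
theorem F428576 : act 0 n173927 = n203499 := d21_4 (iv5 F335307) F362436 F344927 F344926 (iv6 D203499) (iv5 F331892) (iv1 F209101) (iv5 F331929) (iv6 D172354) F304306
theorem F428577 : act 1 n173930 = n203499 := d15_0 (iv0 F428576) F315005 (iv2 F310282)
def n203500 : Q := act 1 n119290
theorem D203500 : act 1 n119290 = n203500 := rfl
theorem F428578 : act 1 n203500 = n119294 := d15_1 D203500 F187776 (iv2 F187764)
theorem F428579 : act 7 n203500 = n119503 := d15_2 F240163 D203500 (iv2 F240160)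
theorem F428580 : act 5 n203094 = n203500 := d21_0 (iv1 D203500) (iv5 D119290) D119291 F190689 (iv6 D73697) F326692 (iv1 F100411) D113160 F323469 (iv1 F426939)
theorem F428581 : act 2 n203500 = n119504 := d2_1 F428580 (iv5 F233265) (iv2 F426935)
def n203501 : Q := act 4 n119290
theorem D203501 : act 4 n119290 = n203501 := rfl
theorem F428582 : act 2 n203501 = n119505 := d1_1 D203501 (iv4 D119505) (iv2 F187764)
theorem F428583 : act 3 n203501 = n156069 := d5_1 D203501 F245226 F166217 (iv4 F166258) F345605
theorem F428584 : act 7 n203501 = n119519 := d11_2 (iv7 F187765) D203501 (iv4 D119519)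
theorem F428585 : act 5 n203501 = n193781 := d16_5 (iv4 D128275) (iv5 D60303) F86846 D119290 D203501 F391001 F346082 F346085 (iv2 F318173)
theorem F428586 : act 6 n202002 = n203501 := d14_5 F428584 F345601 (iv7 F167101) D197291 (iv7 F422684)
def n203502 : Q := act 6 n119290
theorem D203502 : act 6 n119290 = n203502 := rfl
theorem F428587 : act 2 n203502 = n119506 := d3_1 D203502 (iv6 D119506) (iv2 F187764)
theorem F428588 : act 3 n203502 = n136749 := d7_1 D203502 (iv6 F219947) F345605
theorem F428589 : act 4 n203502 = n202002 := d10_1 D203502 F428586 (iv4 D203501)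
theorem F428590 : act 5 n203502 = n203286 := d12_1 D203502 F427680 (iv5 F191406) (iv6 D119291) D119290
theorem F428591 : act 7 n203502 = n197074 := d14_2 (iv7 F187765) D203502 (iv6 D197074) F166004 F345599
theorem F428592 : act 0 n202382 = n202002 := d18_2 F416814 (iv4 F423835) (iv4 F428589) F428590 F427679 F381159 (iv4 F383331) (iv0 F383334) (iv5 F416812)
def n203503 : Q := act 5 n119293
theorem D203503 : act 5 n119293 = n203503 := rfl
theorem F428593 : act 2 n203503 = n119517 := d2_1 D203503 (iv5 D119517) (iv2 F187770)
theorem F428594 : act 3 n203503 = n128308 := d6_1 D203503 (iv5 D128308) (iv3 F187773)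
theorem F428595 : act 6 n203503 = n145933 := d12_2 (iv6 F364465) D203503 F383611 (iv6 D191508) (iv5 F186620)
theorem F428596 : act 7 n203503 = n119501 := d13_2 (iv7 F187771) D203503 (iv5 D119501)
theorem F428597 : act 4 n203503 = n155373 := d16_2 D119293 D203503 (iv5 F346082) (iv4 F391001) (iv5 F428585) (iv4 D203501) (iv5 D119290) F185365 (iv2 F185366)
theorem F428598 : act 1 n203503 = n128273 := d17_6 F233875 D152927 (iv1 F240164) (iv5 D119294) D119293 D203503 F206395 (iv0 F416632) F233872
theorem F428599 : act 0 n203503 = n128274 := d18_0 (iv4 F331658) (iv1 D119576) (iv4 D55013) (iv5 D26596) D26595 (iv0 F184587) (iv4 F94553) (iv0 F187772) D203503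
def n203504 : Q := act 6 n119299
theorem D203504 : act 6 n119299 = n203504 := rfl
theorem F428600 : act 2 n203504 = n119540 := d3_1 D203504 (iv6 D119540) (iv2 F187781)
theorem F428601 : act 5 n203504 = n147377 := d12_1 D203504 F354819 F128713 (iv6 F86843) (iv5 F187782)
theorem F428602 : act 7 n203504 = n197121 := d14_2 D119299 D203504 (iv6 F428570) (iv7 D203498) F187755
theorem F428603 : act 0 n197117 = n203504 := d21_4 (iv5 F166939) (iv1 F403122) (iv5 D197116) D197117 (iv6 D203504) F187782 (iv1 F86845) D54986 (iv6 F345599) (iv1 F360181)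
def n203505 : Q := act 0 n119302
theorem D203505 : act 0 n119302 = n203505 := rfl
theorem F428604 : act 5 n203505 = n203096 := d21_2 D119302 D203505 (iv6 F426949) (iv1 D119145) (iv6 D54826) F42466 D35457 F56160 D39279 (iv1 F184664)
theorem F428605 : act 6 n203505 = n198839 := d21_5 F350649 D191397 (iv5 F383339) F344770 D203505 F409500 (iv1 D162790) D162792 (iv6 F350667) F350662
theorem F428606 : act 2 n119564 = n203505 := d15_3 (iv0 D203505) F359982 (iv7 F359353)
theorem F428607 : act 1 n119313 = n203505 := d15_0 (iv0 D203505) F187795 (iv2 F187828)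
theorem F428608 : act 7 n203505 = n119565 := d15_2 (iv0 F359981) F428607 F359351
theorem F428609 : act 3 n176622 = n203505 := d20_3 (iv4 D103192) (iv1 F158283) F346782 (iv1 F428607) F320678 (iv4 F108326) (iv1 D33985) (iv4 F53323) (iv3 F110790) (iv1 F346796)
theorem F428610 : act 4 n202396 = n203505 := d10_3 F428605 F409503 D202396
theorem F428611 : act 1 n119519 = n202396 := d17_8 (iv1 F428607) (iv5 D119313) F184665 D84898 (iv4 F336275) D202319 (iv0 F426852) F426851 F428610
theorem F428612 : act 0 n119505 = n202396 := d18_2 (iv1 D119504) D119505 F428610 F428604 F426947 (iv0 F420702) F236232 (iv0 F233266) F233265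
def n203506 : Q := act 4 n119302
theorem D203506 : act 4 n119302 = n203506 := rfl
theorem F428613 : act 2 n203506 = n119566 := d1_1 D203506 (iv4 D119566) (iv2 F187794)
theorem F428614 : act 7 n203506 = n119598 := d11_2 (iv7 F187795) D203506 (iv4 D119598)
theorem F428615 : act 0 n203506 = n202166 := d18_2 (iv1 F359982) D203506 F423103 (iv5 D152927) F108625 (iv0 F131625) D117666 F426942 F426940
def n203507 : Q := act 5 n119304
theorem D203507 : act 5 n119304 = n203507 := rfl
theorem F428616 : act 2 n203507 = n119578 := d2_1 D203507 (iv5 D119578) (iv2 F187798)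
theorem F428617 : act 3 n203507 = n153371 := d6_1 D203507 (iv5 D153371) (iv3 F310221)
theorem F428618 : act 6 n203507 = n123385 := d12_2 (iv6 F310222) D203507 (iv5 D123385) (iv6 D57475) (iv5 F107827)
theorem F428619 : act 7 n203507 = n119605 := d13_2 (iv7 F187799) D203507 (iv5 D119605)
def n203508 : Q := act 4 n119313
theorem D203508 : act 4 n119313 = n203508 := rfl
theorem F428620 : act 2 n203508 = n119598 := d1_1 D203508 (iv4 D119598) (iv2 F187828)
theorem F428621 : act 3 n203508 = n152323 := d5_1 D203508 (iv4 D152323) F108324 F108326 (iv3 F320678)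
theorem F428622 : act 6 n203508 = n178652 := d10_2 (iv6 F320679) D203508 F278461
theorem F428623 : act 7 n203508 = n119566 := d11_2 (iv7 F187829) D203508 (iv4 D119566)
theorem F428624 : act 1 n203508 = n202166 := d18_6 (iv1 F86844) F42590 (iv1 F42522) D54907 D119313 D203508 F423103 F240163 (iv5 D119290)
def n203509 : Q := act 5 n119315
theorem D203509 : act 5 n119315 = n203509 := rfl
theorem F428625 : act 2 n203509 = n119605 := d2_1 D203509 (iv5 D119605) (iv2 F187832)
theorem F428626 : act 7 n203509 = n119578 := d13_2 (iv7 F187833) D203509 (iv5 D119578)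
def n203510 : Q := act 5 n119331
theorem D203510 : act 5 n119331 = n203510 := rfl
theorem F428627 : act 2 n203510 = n160114 := d2_1 D203510 (iv5 D160114) (iv2 F187904)
theorem F428628 : act 6 n203510 = n191728 := d12_2 (iv6 F187905) D203510 (iv5 D191728) (iv6 D98853) (iv5 F114941)
theorem F428629 : act 0 n203510 = n166122 := d17_2 F234894 D203510 (iv5 D166122) (iv4 D79764) (iv5 D36323) F190024 D40228 F190057 D149374
def n203511 : Q := act 1 n119334
theorem D203511 : act 1 n119334 = n203511 := rfl
theorem F428630 : act 1 n203511 = n157076 := d15_1 D203511 F349780 (iv2 F187920)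
theorem F428631 : act 7 n203511 = n157035 := d15_2 (iv0 F342697) D203511 F247127
theorem F428632 : act 5 n203511 = n120149 := d17_7 (iv1 F247164) (iv5 F311947) (iv1 F314364) (iv5 F314998) (iv4 F86866) D119334 D203511 F189781 D157070
theorem F428633 : act 4 n203511 = n156244 := d17_9 F332252 (iv5 F320443) F349775 (iv5 F349783) (iv4 D178551) (iv5 D85021) (iv0 F155134) D119334 D203511
theorem F428634 : act 3 n121464 = n203511 := d19_19 (iv1 D203511) (iv5 D119334) F86866 F85882 (iv1 F155111) D27851 D58544 D125176 F404148 F404145 (iv4 D146960) F338215 F317047 D138362 F330637 F235355 F309372 D117826 (iv4 F360902)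
theorem F428635 : act 6 n157570 = n203511 := d21_3 (iv5 F94524) (iv1 F119233) (iv5 F248322) (iv1 D203511) (iv6 F383779) (iv5 D191552) (iv1 F151932) (iv5 F335214) F364472 (iv1 D73117)
theorem F428636 : act 2 n203511 = n120150 := d3_1 F428635 (iv6 F342216) F248325
def n203512 : Q := act 0 n119337
theorem D203512 : act 0 n119337 = n203512 := rfl
theorem F428637 : act 5 n203512 = n120229 := d17_3 D54918 D119337 D203512 F191429 F313438 (iv0 F313432) (iv5 D54925) (iv0 D26565) (iv4 F42545)
theorem F428638 : act 4 n203512 = n198024 := d18_1 D203512 (iv1 F424028) F424025 (iv5 D119358) (iv4 D54929) F42546 (iv4 F60284) F86874 D119337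
theorem F428639 : act 2 n178500 = n203512 := d15_3 (iv0 D203512) (iv0 F348495) (iv7 F353057)
theorem F428640 : act 1 n119340 = n203512 := d15_0 (iv0 D203512) F187927 (iv2 F187930)
theorem F428641 : act 7 n203512 = n157082 := d15_2 (iv0 F348494) F428640 F348493
theorem F428642 : act 6 n191347 = n203512 := d21_3 (iv5 D98112) D98110 D191347 (iv1 F428640) F348506 (iv5 D129322) F348923 D60872 (iv6 F207756) F362748
theorem F428643 : act 3 n203512 = n174508 := d7_1 F428642 F344770 (iv3 F383144)
def n203513 : Q := act 4 n119337
theorem D203513 : act 4 n119337 = n203513 := rfl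
theorem F428644 : act 2 n203513 = n178502 := d1_1 D203513 (iv4 D178502) (iv2 F187926)
theorem F428645 : act 7 n203513 = n178507 := d11_2 (iv7 F187927) D203513 (iv4 D178507)
def n203514 : Q := act 6 n119337
theorem D203514 : act 6 n119337 = n203514 := rfl
theorem F428646 : act 2 n203514 = n154612 := d3_1 D203514 F359979 (iv2 F187926)
theorem F428647 : act 3 n203514 = n201227 := d7_1 D203514 F419529 (iv3 F354158)
theorem F428648 : act 5 n203514 = n154611 := d12_1 D203514 (iv6 F347848) (iv5 F300848) (iv6 D119338) D119337
theorem F428649 : act 0 n203514 = n200154 := d21_4 (iv5 D54920) D54918 D119337 D203514 (iv6 D200154) (iv5 D112712) F325673 (iv5 F350830) F350831 (iv1 D119343)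
theorem F428650 : act 0 n125969 = n203514 := d21_4 F350818 (iv1 D58983) D58984 (iv6 F202649) (iv6 D203514) (iv5 D119337) (iv1 F86874) (iv5 F130201) D178524 (iv1 F350816)
def n203515 : Q := act 4 n119340
theorem D203515 : act 4 n119340 = n203515 := rfl
theorem F428651 : act 2 n203515 = n178507 := d1_1 D203515 (iv4 D178507) (iv2 F187930)
theorem F428652 : act 3 n203515 = n196277 := d5_1 D203515 F400163 F388316 (iv4 D174442) F188771
theorem F428653 : act 6 n203515 = n196276 := d10_2 (iv6 F348506) D203515 F400159
theorem F428654 : act 7 n203515 = n178502 := d11_2 (iv7 F187931) D203515 (iv4 D178502)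
def n203516 : Q := act 7 n119344
theorem D203516 : act 7 n119344 = n203516 := rfl
theorem F428655 : act 2 n203516 = n178523 := d4_1 D203516 (iv7 D178523) (iv2 F187936)
theorem F428656 : act 3 n203516 = n177057 := d8_1 D203516 (iv7 F312870) F350964
theorem F428657 : act 4 n203516 = n119345 := d11_1 D203516 (iv7 D119345) D119344
theorem F428658 : act 5 n203516 = n178547 := d13_1 D203516 (iv7 F337719) (iv5 F337720)
theorem F428659 : act 6 n203516 = n197684 := d14_1 D203516 F405347 (iv6 F351691) (iv7 F366904) F263393
theorem F428660 : act 1 n166444 = n203516 := d15_1 (iv0 F330681) (iv7 D203516) F187936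
theorem F428661 : act 1 n203516 = n175007 := d15_1 F428660 (iv7 F406538) F406536
def n203517 : Q := act 0 n119352
theorem D203517 : act 0 n119352 = n203517 := rfl
theorem F428662 : act 5 n203517 = n120212 := d17_1 D203517 F243742 (iv5 F243745) D175007 F352220 (iv0 F353067) (iv5 F406547) (iv0 F406580) (iv4 F341402)
theorem F428663 : act 3 n203517 = n197284 := d20_5 F167729 (iv1 F100117) (iv4 F219950) F341404 D203517 (iv4 D197284) F396645 F227194 F219848 F167730
theorem F428664 : act 1 n119358 = n203517 := d15_0 (iv0 D203517) (iv7 F188455) F188454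
theorem F428665 : act 2 n154969 = n203517 := d2_3 F428662 (iv2 F428241) F428238
theorem F428666 : act 7 n154970 = n203517 := d13_0 F428662 (iv7 F428244) F428245
def n203518 : Q := act 1 n119352
theorem D203518 : act 1 n119352 = n203518 := rfl
theorem F428667 : act 1 n203518 = n119358 := d15_1 D203518 F187994 (iv2 F187976)
theorem F428668 : act 7 n203518 = n154969 := d15_2 (iv0 D203517) D203518 F428665
theorem F428669 : act 5 n203518 = n175370 := d17_7 F315906 F112085 (iv1 F313433) (iv5 D54925) D54924 D119352 D203518 (iv0 F274424) (iv4 D155007)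
theorem F428670 : act 6 n175373 = n203518 := d21_9 (iv5 D119352) (iv1 F188396) (iv5 F128699) D175126 (iv1 F366440) F403108 F403103 (iv1 D175372) D175373 (iv1 D203518)
theorem F428671 : act 2 n203518 = n154970 := d3_1 F428670 (iv6 F409559) (iv2 F402997)
def n203519 : Q := act 6 n119352
theorem D203519 : act 6 n119352 = n203519 := rfl
theorem F428672 : act 2 n203519 = n154972 := d3_1 D203519 (iv6 D154972) (iv2 F187976)
theorem F428673 : act 3 n203519 = n126718 := d7_1 D203519 (iv6 F219951) F341404
theorem F428674 : act 4 n203519 = n140472 := d10_1 D203519 F341403 (iv4 F341402)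
theorem F428675 : act 7 n203519 = n126715 := d14_2 F188455 D203519 (iv6 D126715) (iv7 F100103) F330963
def n203520 : Q := act 5 n119367
theorem D203520 : act 5 n119367 = n203520 := rfl
theorem F428676 : act 2 n203520 = n166171 := d2_1 D203520 (iv5 F414863) (iv2 F414865)
theorem F428677 : act 3 n203520 = n119368 := d6_1 D203520 (iv5 D119368) D119367
theorem F428678 : act 7 n203520 = n198353 := d13_2 (iv7 F334571) D203520 F407726
theorem F428679 : act 4 n203520 = n156109 := d17_4 (iv1 D110601) D110602 (iv1 F353498) D203520 (iv5 D156109) (iv0 D74256) F79631 F168783 F171179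
theorem F428680 : act 1 n203520 = n200196 := d17_8 F175581 (iv5 D108102) (iv1 F166967) F166964 (iv4 F168814) (iv5 F353495) (iv0 F334554) D203520 (iv4 D200196)
theorem F428681 : act 1 n198163 = n203520 := d15_0 F428680 F415485 (iv2 F407051)
def n203521 : Q := act 0 n119368
theorem D203521 : act 0 n119368 = n203521 := rfl
theorem F428682 : act 5 n203521 = n202740 := d17_1 D203521 (iv1 F425362) F352221 (iv4 F353072) D198014 (iv0 F424027) F424026 F407132 (iv4 F337715)
theorem F428683 : act 3 n203521 = n163726 := d20_5 F222831 F245295 (iv4 F428679) F428677 D203521 F258086 (iv1 F328798) D119236 F350696 (iv1 F332160)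
theorem F428684 : act 2 n178545 = n203521 := d0_5 F428683 F258085 (iv3 F334678) F362460 F425390
theorem F428685 : act 6 n163724 = n203521 := d7_0 F428683 (iv6 D163726) D163724
theorem F428686 : act 0 n203521 = n166166 := d19_4 (iv1 F318019) (iv5 F328400) (iv4 F258086) (iv3 F428683) F337722 F130353 (iv3 F87144) (iv1 F87147) F309252 (iv4 F114320) (iv3 F237444) (iv1 F47825) (iv5 F50177) (iv4 F314038) (iv3 F237450) (iv1 D32609) F24981 (iv4 F47249) (iv3 F97095)
theorem F428687 : act 7 n178546 = n203521 := d15_2 (iv0 D178545) D178546 (iv2 F428684)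
def n203522 : Q := act 1 n119368
theorem D203522 : act 1 n119368 = n203522 := rfl
theorem F428688 : act 1 n203522 = n166166 := d15_1 D203522 F337723 (iv2 F188015)
theorem F428689 : act 7 n203522 = n178545 := d15_2 (iv0 D203521) D203522 F428684
theorem F428690 : act 5 n203522 = n202741 := d17_7 (iv1 F313431) (iv5 D54930) (iv1 D26566) D26567 D54934 D119368 D203522 F425366 F182094
theorem F428691 : act 3 n166160 = n203522 := d19_19 (iv1 D203522) (iv5 D119368) (iv4 D54934) (iv3 F86856) D119329 F340102 (iv4 F313670) F221774 (iv1 F103230) (iv5 D67359) F101305 (iv3 F168085) (iv1 F172162) F172159 D129185 (iv3 F383696) F383697 (iv5 F383876) F383877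
theorem F428692 : act 6 n146984 = n202741 := d21_5 (iv5 F87992) F74424 F72633 (iv6 F105074) D146984 (iv5 F428690) (iv1 D203522) (iv5 D119368) (iv6 F87532) (iv1 F87991)
theorem F428693 : act 2 n202746 = n146984 := d3_3 F428692 (iv2 F425368) D202746
theorem F428694 : act 3 n160594 = n146984 := d7_3 F428692 F425370 F342673
theorem F428695 : act 5 n181796 = n146984 := d21_2 F354245 F372117 F428692 (iv1 D202741) (iv6 D116664) F166908 (iv1 D108011) D108013 D197212 F403561
theorem F428696 : act 7 n146985 = n202746 := d15_2 (iv0 D146984) D146985 F428693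
theorem F428697 : act 6 n203522 = n177601 := d7_2 (iv6 F336441) F428691 (iv3 D177601)
theorem F428698 : act 2 n178546 = n203522 := d2_3 F428690 (iv2 F425368) F346262
def n203523 : Q := act 7 n119368
theorem D203523 : act 7 n119368 = n203523 := rfl
theorem F428699 : act 2 n203523 = n166166 := d4_1 D203523 F337723 (iv2 F188015)
theorem F428700 : act 3 n203523 = n198353 := d8_1 D203523 (iv7 F428678) F428677
theorem F428701 : act 4 n203523 = n178522 := d11_1 D203523 F337718 (iv4 F337715)
theorem F428702 : act 5 n203523 = n119369 := d13_1 D203523 (iv7 D119369) D119368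
theorem F428703 : act 1 n178546 = n203523 := d15_1 D178546 (iv7 D203523) F188015
theorem F428704 : act 1 n203523 = n178545 := d15_1 F428703 (iv7 F428689) (iv2 F428698)
theorem F428705 : act 6 n178890 = n203523 := d21_9 (iv5 F346262) (iv1 D116694) D116695 F352229 (iv1 F258467) (iv6 F342068) (iv5 F307033) F307032 D178890 (iv1 F428703)
def n203524 : Q := act 5 n119403
theorem D203524 : act 5 n119403 = n203524 := rfl
theorem F428706 : act 2 n203524 = n147752 := d2_1 D203524 F334054 (iv2 F188136)
theorem F428707 : act 3 n203524 = n130075 := d6_1 D203524 (iv5 D130075) (iv3 F304926)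
theorem F428708 : act 4 n203524 = n148837 := d9_1 D203524 (iv5 D148837) D148836 F334057 (iv4 F334064) (iv5 F231149) F340257 F333942 (iv4 F231476) F231477 (iv4 F317701) (iv5 F426524) F426523 (iv5 F200437) F357831
theorem F428709 : act 6 n203524 = n147767 := d12_2 D119403 D203524 F334578 (iv6 D83302) (iv5 F86919)
theorem F428710 : act 7 n203524 = n147390 := d13_2 F308925 D203524 F334047
theorem F428711 : act 0 n203524 = n147750 := d17_2 (iv1 F307085) D203524 F334049 (iv4 D69771) D69772 (iv0 F188472) F113914 D85787 (iv4 F305615)
theorem F428712 : act 1 n203524 = n147582 := d17_6 (iv1 F108872) (iv5 F108783) F190808 (iv5 F200437) F357831 D203524 F334045 F233878 F233876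
def n203525 : Q := act 7 n119416
theorem D203525 : act 7 n119416 = n203525 := rfl
theorem F428713 : act 2 n203525 = n128091 := d4_1 D203525 (iv7 D128091) (iv2 F188161)
theorem F428714 : act 3 n203525 = n149321 := d8_1 D203525 F234746 (iv3 F188162)
theorem F428715 : act 4 n203525 = n155005 := d11_1 D203525 F353917 (iv4 F331708)
theorem F428716 : act 5 n203525 = n119417 := d13_1 D203525 (iv7 D119417) D119416
theorem F428717 : act 6 n203525 = n149151 := d14_1 D203525 F234528 F133023 F114720 (iv6 F188163)
theorem F428718 : act 1 n128089 = n203525 := d15_1 D128089 (iv7 D203525) F188161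
theorem F428719 : act 1 n203525 = n128088 := d15_1 F428718 F206153 (iv2 F278235)
def n203526 : Q := act 5 n119419
theorem D203526 : act 5 n119419 = n203526 := rfl
theorem F428720 : act 2 n203526 = n126809 := d2_1 D203526 F357113 (iv2 F188176)
theorem F428721 : act 3 n203526 = n162043 := d6_1 D203526 F311770 (iv3 F188171)
theorem F428722 : act 7 n203526 = n131525 := d13_2 F313540 D203526 (iv5 D131525)
theorem F428723 : act 4 n203526 = n140676 := d16_2 (iv4 F188172) D203526 F388409 (iv4 D192976) (iv5 D101053) F74333 D69882 D149011 F311820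
def n203527 : Q := act 6 n119419
theorem D203527 : act 6 n119419 = n203527 := rfl
theorem F428724 : act 2 n203527 = n131515 := d3_1 D203527 F337070 (iv2 F188176)
theorem F428725 : act 3 n203527 = n167469 := d7_1 D203527 F308603 (iv3 F188171)
theorem F428726 : act 4 n203527 = n151992 := d10_1 D203527 F335217 (iv4 F188172)
theorem F428727 : act 7 n203527 = n131431 := d14_2 F313540 D203527 (iv6 D131431) (iv7 F96272) D61721
theorem F428728 : act 5 n203527 = n191411 := d21_6 (iv5 F337598) (iv1 F407741) F407737 F188226 (iv1 F188170) D203527 F383402 (iv5 D175135) (iv6 F334570) F337600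
theorem F428729 : act 0 n131478 = n203527 := d17_0 F428728 F383402 (iv5 D175135) (iv4 F334567) (iv5 D114682) (iv0 F313957) (iv5 F210652) F210656 D131478
theorem F428730 : act 1 n131483 = n203527 := d17_6 F348526 (iv5 F140515) F372841 F372840 (iv4 D175272) (iv5 F354872) F428728 F383403 (iv4 F334556)
def n203528 : Q := act 0 n119420
theorem D203528 : act 0 n119420 = n203528 := rfl
theorem F428731 : act 5 n203528 = n193400 := d17_3 (iv1 D119419) D119420 D203528 F389715 F308046 (iv0 F310096) (iv5 D96685) D96684 (iv4 F188172)
theorem F428732 : act 2 n174995 = n203528 := d2_3 F428731 F389713 (iv5 F337074)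
theorem F428733 : act 3 n195608 = n203528 := d6_3 F428731 F389714 D195608
theorem F428734 : act 7 n175111 = n203528 := d13_0 F428731 F389716 (iv5 F359255)
theorem F428735 : act 1 n175113 = n203528 := d17_6 F107165 F107162 F184651 F119567 (iv4 F313492) (iv5 F274082) F428731 (iv0 F389717) (iv4 D150096)
def n203529 : Q := act 1 n119420
theorem D203529 : act 1 n119420 = n203529 := rfl
theorem F428736 : act 1 n203529 = n175113 := d15_1 D203529 (iv7 D175113) (iv2 F188178)
theorem F428737 : act 7 n203529 = n174995 := d15_2 (iv0 D203528) D203529 F428732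
theorem F428738 : act 5 n203529 = n175198 := d17_7 (iv1 F236204) (iv5 F236206) (iv1 F185570) (iv5 F163032) (iv4 F309856) D119420 D203529 (iv0 F359262) F344064
theorem F428739 : act 2 n175111 = n203529 := d2_3 F428738 (iv2 F359258) (iv5 F359255)
theorem F428740 : act 3 n173373 = n203529 := d6_3 F428738 F274243 F271843
def n203530 : Q := act 7 n119420
theorem D203530 : act 7 n119420 = n203530 := rfl
theorem F428741 : act 2 n203530 = n175113 := d4_1 D203530 (iv7 D175113) (iv2 F188178)
theorem F428742 : act 4 n203530 = n145424 := d11_1 D203530 (iv7 F402604) F402605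
theorem F428743 : act 5 n203530 = n119421 := d13_1 D203530 (iv7 D119421) D119420
theorem F428744 : act 6 n203530 = n200170 := d14_1 D203530 F415368 F409557 (iv7 D119435) (iv6 F188179)
theorem F428745 : act 1 n175111 = n203530 := d15_1 D175111 (iv7 D203530) F188178
theorem F428746 : act 1 n203530 = n174995 := d15_1 F428745 (iv7 F428737) (iv2 F428739)
def n203531 : Q := act 3 n119432
theorem D203531 : act 3 n119432 = n203531 := rfl
theorem F428747 : act 2 n203531 = n173376 := d0_1 D203531 (iv3 D173376) F127878 D83582 F188485
theorem F428748 : act 4 n203531 = n197607 := d5_2 (iv4 F359308) D203531 F405002 F344439 (iv3 F344438)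
theorem F428749 : act 5 n203531 = n197108 := d6_2 F359309 D203531 (iv3 F403079)
theorem F428750 : act 6 n203531 = n195379 := d7_2 F359335 D203531 F396870
theorem F428751 : act 7 n203531 = n173438 := d8_2 F243746 D203531 F344424
theorem F428752 : act 0 n203531 = n129686 := d19_4 (iv1 F406522) (iv5 F359304) (iv4 F359308) D203531 F332367 F315082 (iv3 D46065) (iv1 F64191) (iv5 F136728) (iv4 F361722) F418136 (iv1 F418134) F391724 (iv4 F299401) (iv3 D170641) F297291 D86543 D181234 (iv3 F406519)
theorem F428753 : act 0 n129680 = n203531 := d20_4 F170771 D139645 (iv4 F415322) (iv3 F415325) (iv3 D203531) F359308 F359336 F278209 (iv3 F273384) (iv1 F350646)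
def n203532 : Q := act 6 n119433
theorem D203532 : act 6 n119433 = n203532 := rfl
theorem F428754 : act 2 n203532 = n175120 := d3_1 D203532 (iv6 D175120) (iv2 F243747)
theorem F428755 : act 3 n203532 = n173378 := d7_1 D203532 (iv6 D173378) (iv3 F188395)
theorem F428756 : act 4 n203532 = n202629 := d10_1 D203532 F424831 F406537
theorem F428757 : act 5 n203532 = n198904 := d12_1 D203532 F409822 (iv5 D118913) D118914 F188394
def n203533 : Q := act 7 n119434
theorem D203533 : act 7 n119434 = n203533 := rfl
theorem F428758 : act 2 n203533 = n175125 := d4_1 D203533 (iv7 D175125) (iv2 F188187)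
theorem F428759 : act 4 n203533 = n119435 := d11_1 D203533 (iv7 D119435) D119434
theorem F428760 : act 1 n175122 = n203533 := d15_1 D175122 (iv7 D203533) F188187
theorem F428761 : act 1 n203533 = n155837 := d15_1 F428760 F353046 (iv2 F278204)
def n203534 : Q := act 6 n119436
theorem D203534 : act 6 n119436 = n203534 := rfl
theorem F428762 : act 2 n203534 = n164598 := d3_1 D203534 (iv6 D164598) (iv2 F188193)
theorem F428763 : act 3 n203534 = n119437 := d7_1 D203534 (iv6 D119437) D119436
theorem F428764 : act 4 n203534 = n120140 := d10_1 D203534 F309657 (iv4 F188194)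
theorem F428765 : act 7 n203534 = n120138 := d14_2 (iv7 F188196) D203534 (iv6 D120138) (iv7 F96062) F310774
theorem F428766 : act 0 n203534 = n172019 := d21_4 (iv5 F303981) F303977 (iv5 F188195) D203534 F335263 (iv5 D120211) (iv1 D55311) D55312 F302953 F149197
def n203535 : Q := act 5 n119440
theorem D203535 : act 5 n119440 = n203535 := rfl
theorem F428767 : act 2 n203535 = n174807 := d2_1 D203535 (iv5 D174807) (iv2 F273676)
theorem F428768 : act 3 n203535 = n202749 := d6_1 D203535 (iv5 D202749) (iv3 F333754)
theorem F428769 : act 6 n203535 = n166630 := d12_2 F364608 D203535 (iv5 F326801) F395051 F395048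
theorem F428770 : act 4 n203535 = n199247 := d16_2 (iv4 F272371) D203535 (iv5 D199247) D199246 F411311 (iv4 F341204) F341207 (iv7 F273672) F273671
theorem F428771 : act 0 n203535 = n166653 := d17_2 D119440 D203535 F365220 (iv4 F427694) F427695 F389007 (iv5 F335273) (iv0 F272565) F188205
theorem F428772 : act 1 n203535 = n197062 := d17_6 (iv1 F346376) (iv5 F363369) (iv1 F363371) F319372 (iv4 F272371) D203535 F427650 F427645 F216588
theorem F428773 : act 1 n199247 = n160544 := d18_6 (iv1 D38292) (iv4 F59137) D83101 (iv4 F272371) D203535 F428770 (iv4 D160544) F319510 (iv5 D83184)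
theorem F428774 : act 1 n160539 = n199247 := d18_6 (iv1 D203281) F186395 D118491 F341212 (iv5 F331722) D160539 (iv4 F428770) F428772 F427650
def n203536 : Q := act 5 n119467
theorem D203536 : act 5 n119467 = n203536 := rfl
theorem F428775 : act 2 n203536 = n175197 := d2_1 D203536 (iv5 D175197) F188254
theorem F428776 : act 3 n203536 = n147686 := d6_1 D203536 (iv5 F346278) F343398
theorem F428777 : act 7 n203536 = n175200 := d13_2 F188255 D203536 (iv5 D175200)
theorem F428778 : act 4 n203536 = n149179 := d16_6 (iv4 F427464) F427467 (iv4 F348295) (iv5 D169819) F267245 D203536 (iv5 F386271) (iv7 F414384) (iv2 F414385)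
theorem F428779 : act 6 n203536 = n147683 := d21_3 (iv5 D119469) D119467 D203536 F408916 (iv6 D197209) (iv5 D108009) (iv1 F78874) D50990 D110585 F361284
def n203537 : Q := act 5 n119468
theorem D203537 : act 5 n119468 = n203537 := rfl
theorem F428780 : act 2 n203537 = n175200 := d2_1 D203537 (iv5 D175200) (iv2 F188256)
theorem F428781 : act 3 n203537 = n158386 := d6_1 D203537 (iv5 D158386) (iv3 F188251)
theorem F428782 : act 6 n203537 = n120128 := d12_2 (iv6 F302281) D203537 (iv5 D120128) F311856 D83488
theorem F428783 : act 7 n203537 = n175197 := d13_2 F188253 D203537 (iv5 D175197)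
def n203538 : Q := act 1 n119477
theorem D203538 : act 1 n119477 = n203538 := rfl
theorem F428784 : act 1 n203538 = n153585 := d15_1 D203538 (iv7 F381021) F381018
theorem F428785 : act 7 n203538 = n147908 := d15_2 (iv0 F347174) D203538 F231679
theorem F428786 : act 5 n203538 = n157434 := d17_7 F333432 F286771 (iv1 D119490) (iv5 D54976) (iv4 F86991) D119477 D203538 F307670 (iv4 F333434)
theorem F428787 : act 6 n153527 = n203538 := d21_3 (iv5 D72603) (iv1 F109117) (iv5 F241304) (iv1 D203538) (iv6 F408466) F408465 F393273 F393269 F363426 (iv1 F322378)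
theorem F428788 : act 2 n203538 = n153567 := d3_1 F428787 (iv6 D153567) (iv2 F241302)
theorem F428789 : act 3 n203538 = n147913 := d7_1 F428787 F231694 (iv3 F241303)
def n203539 : Q := act 1 n119483
theorem D203539 : act 1 n119483 = n203539 := rfl
theorem F428790 : act 1 n203539 = n131392 := d15_1 D203539 (iv7 F344085) (iv2 F344086)
theorem F428791 : act 7 n203539 = n145261 := d15_2 (iv0 F344032) D203539 F228252
theorem F428792 : act 4 n203539 = n151939 := d17_9 F316656 (iv5 F321823) F381105 (iv5 D190797) F149002 D158448 (iv0 F347046) F347044 D203539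
theorem F428793 : act 3 n167492 = n203539 := d20_3 F156637 (iv1 F156669) (iv4 F307528) (iv1 D203539) F346967 F346965 F334237 (iv4 F384517) F384516 (iv1 F272750)
theorem F428794 : act 6 n175266 = n203539 := d21_3 D119449 (iv1 F337613) (iv5 F337605) (iv1 D203539) (iv6 D119483) (iv5 F357035) F357032 (iv5 F339018) (iv6 F339016) F332190
theorem F428795 : act 5 n203539 = n200089 := d12_1 F428794 (iv6 D200089) (iv5 D112614) D112615 (iv5 F337605)
def n203540 : Q := act 5 n119488
theorem D203540 : act 5 n119488 = n203540 := rfl
theorem F428796 : act 3 n203540 = n193406 := d6_1 D203540 (iv5 D193406) F344059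
theorem F428797 : act 7 n203540 = n193408 := d13_2 F344066 D203540 (iv5 D193408)
theorem F428798 : act 0 n203540 = n203526 := d17_2 F344057 D203540 (iv5 D203526) F188172 (iv5 F335220) F185497 D149007 F309798 F255812
theorem F428799 : act 1 n203540 = n137117 := d17_6 (iv1 F184655) (iv5 D32460) (iv1 F155098) D69839 (iv4 F344037) D203540 F333407 (iv0 D119418) F309856
def n203541 : Q := act 4 n119489
theorem D203541 : act 4 n119489 = n203541 := rfl
theorem F428800 : act 2 n203541 = n156279 := d1_1 D203541 (iv4 F404635) F404631
theorem F428801 : act 7 n203541 = n156284 := d11_2 F428560 D203541 F428563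
theorem F428802 : act 5 n203541 = n156031 := d16_7 (iv4 F427509) F427510 F185831 F86019 (iv4 F96335) (iv5 F343414) D203541 F404283 (iv2 F404279)
theorem F428803 : act 1 n203541 = n202320 := d18_6 F155518 (iv4 F317489) (iv1 D61749) (iv4 F96335) (iv5 F343414) D203541 F423620 F343415 F300211
theorem F428804 : act 6 n202309 = n203541 := d21_5 (iv5 F245130) (iv1 F423631) (iv5 F423629) (iv6 F423635) (iv1 F423641) F428802 (iv1 F245149) F111533 D115707 F347950
def n203542 : Q := act 6 n119489
theorem D203542 : act 6 n119489 = n203542 := rfl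
theorem F428805 : act 2 n203542 = n197145 := d3_1 D203542 (iv6 F404633) F404631
theorem F428806 : act 3 n203542 = n162819 := d7_1 D203542 (iv6 F334213) (iv3 F343413)
theorem F428807 : act 4 n203542 = n202309 := d10_1 D203542 F428804 (iv4 D203541)
theorem F428808 : act 5 n203542 = n131556 := d12_1 D203542 (iv6 D131556) F96333 D61736 (iv5 F343414)
theorem F428809 : act 0 n203542 = n202314 := d21_4 F362017 (iv1 D131573) (iv5 F343414) D203542 (iv6 D202314) D202313 F423599 (iv5 D126632) D126633 F362019
theorem F428810 : act 0 n177609 = n203542 := d21_4 D107642 D197095 (iv5 F403023) (iv6 F344872) (iv6 D203542) F343414 D131572 F403019 (iv6 D197094) (iv1 D107640)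
def n203543 : Q := act 4 n119490
theorem D203543 : act 4 n119490 = n203543 := rfl
theorem F428811 : act 2 n203543 = n156284 := d1_1 D203543 F428563 (iv2 F428562)
theorem F428812 : act 3 n203543 = n202281 := d5_1 D203543 F423472 F203139 D126337 F332520
theorem F428813 : act 6 n203543 = n139645 := d10_2 F415324 D203543 (iv4 F415322)
theorem F428814 : act 7 n203543 = n156279 := d11_2 F404634 D203543 (iv4 F404635)
theorem F428815 : act 5 n203543 = n156032 := d16_1 D203543 (iv4 F427509) F427510 F185831 F86019 (iv4 F96335) (iv5 F343414) (iv7 F428560) (iv2 F428562)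
theorem F428816 : act 0 n203543 = n202320 := d17_0 (iv5 F423880) (iv1 F423881) (iv5 D115705) D115704 F357035 (iv0 D54974) D54976 D119490 D203543
def n203544 : Q := act 1 n119491
theorem D203544 : act 1 n119491 = n203544 := rfl
theorem F428817 : act 4 n161924 = n203544 := d20_6 D175716 (iv1 F389904) (iv4 D193457) F362749 F337581 (iv3 F302955) (iv1 D203544) (iv4 D119491) F86992 D83884
theorem F428818 : act 2 n203544 = n161925 := d1_1 F428817 (iv4 D161925) D161924
theorem F428819 : act 6 n203544 = n178481 := d10_2 (iv6 F302957) F428817 (iv4 D178481)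
def n203545 : Q := act 5 n119491
theorem D203545 : act 5 n119491 = n203545 := rfl
def n203546 : Q := act 7 n119491
theorem D203546 : act 7 n119491 = n203546 := rfl
theorem F428820 : act 4 n203546 = n119492 := d11_1 D203546 (iv7 D119492) D119491
theorem F428821 : act 1 n161925 = n203546 := d15_1 (iv0 F423424) (iv7 D203546) (iv2 F423422)
def n203547 : Q := act 6 n119492
theorem D203547 : act 6 n119492 = n203547 := rfl
theorem F428822 : act 2 n203547 = n197121 := d3_1 D203547 (iv6 F428570) F428565
theorem F428823 : act 3 n203547 = n175685 := d7_1 D203547 F275065 (iv3 F188281)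
theorem F428824 : act 5 n203547 = n147378 := d12_1 D203547 F354821 F128762 (iv6 F86995) (iv5 F188282)
theorem F428825 : act 7 n203547 = n119540 := d14_2 D119492 D203547 (iv6 D119540) (iv7 D54991) (iv6 F86993)
theorem F428826 : act 0 n203547 = n197117 := d21_4 F331936 F314158 (iv5 F188282) D203547 (iv6 D197117) D197116 F403121 (iv5 D197093) D197094 F403020
theorem F428827 : act 1 n203547 = n197123 := d15_1 (iv0 F428826) (iv7 D197123) (iv2 F403123)
theorem F428828 : act 1 n197123 = n203504 := d15_1 F428827 F428602 (iv2 F428822)
def n203548 : Q := act 6 n119497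
theorem D203548 : act 6 n119497 = n203548 := rfl
theorem F428829 : act 2 n203548 = n197107 := d3_1 D203548 F403074 (iv2 F306337)
theorem F428830 : act 3 n203548 = n119506 := d7_1 D203548 (iv6 D119506) (iv3 F188288)
theorem F428831 : act 7 n203548 = n179064 := d14_2 (iv7 F306338) D203548 (iv6 D179064) (iv7 F339308) (iv6 F339306)
theorem F428832 : act 0 n203548 = n197105 := d21_4 F333393 F306334 D119497 D203548 (iv6 F403063) (iv5 F324860) (iv1 F325894) (iv5 D59549) D59550 D126892
theorem F428833 : act 0 n147772 = n203548 := d21_4 (iv5 D154602) (iv1 F231510) (iv5 D147771) D147772 (iv6 D203548) (iv5 D119497) F304313 (iv5 F333397) F334048 (iv1 F242690)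
def n203549 : Q := act 0 n119501
theorem D203549 : act 0 n119501 = n203549 := rfl
theorem F428834 : act 5 n203549 = n201491 := d17_3 (iv1 F184630) D119501 D203549 (iv4 F426947) (iv5 F428604) (iv0 D203505) (iv5 D119302) F184664 F60250
theorem F428835 : act 4 n203549 = n123851 := d18_1 D203549 (iv1 F355072) (iv4 D119315) (iv5 D54908) D54907 F187790 (iv4 F188290) (iv0 D119499) D119501
theorem F428836 : act 3 n203549 = n123845 := d20_5 D73797 (iv1 F322017) D94240 (iv3 F318170) D203549 (iv4 D123845) (iv1 F331647) (iv4 D73921) (iv3 F87321) (iv1 F87323)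
theorem F428837 : act 2 n128273 = n203549 := d15_3 (iv0 D203549) (iv0 F397639) F397638
theorem F428838 : act 1 n119517 = n203549 := d15_0 (iv0 D203549) (iv7 F428596) F428593
theorem F428839 : act 7 n203549 = n128274 := d15_2 (iv0 F397640) F428838 (iv2 F397636)
def n203550 : Q := act 3 n119503
theorem D203550 : act 3 n119503 = n203550 := rfl
theorem F428840 : act 2 n203550 = n176117 := d0_1 D203550 (iv3 D176117) (iv2 F128976) (iv3 F240161) F240160
theorem F428841 : act 5 n203550 = n203482 := d6_2 (iv5 F188304) D203550 F428487
theorem F428842 : act 0 n172021 = n203550 := d21_1 D172021 F428841 (iv6 D203482) F315279 (iv6 D75319) F112919 (iv1 D22727) (iv5 F29285) D37788 D82390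
theorem F428843 : act 0 n203550 = n172026 := d21_1 (iv5 F428841) (iv5 D172026) (iv6 F315047) (iv1 F89587) (iv6 F298194) (iv5 F317522) D133529 F319891 D158157 F428489
def n203551 : Q := act 4 n119503
theorem D203551 : act 4 n119503 = n203551 := rfl
theorem F428844 : act 2 n203551 = n202166 := d1_1 D203551 F423103 F240160
theorem F428845 : act 6 n203551 = n198878 := d10_2 F416588 D203551 (iv4 F416586)
theorem F428846 : act 0 n203551 = n119598 := d17_0 (iv5 F426874) (iv1 F426876) (iv5 D119538) (iv4 D54990) (iv5 D26591) D26590 D54986 F188313 D203551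
theorem F428847 : act 1 n203551 = n119566 := d18_6 (iv1 D132475) F315086 (iv1 F130251) (iv4 F187677) (iv5 F188304) D203551 (iv4 D119566) D119565 (iv5 F317292)
theorem F428848 : act 5 n202267 = n203551 := d17_7 D119564 F188547 F416631 (iv5 D200478) F176330 D115514 D202267 F428847 (iv4 D119566)
def n203552 : Q := act 4 n119504
theorem D203552 : act 4 n119504 = n203552 := rfl
theorem F428849 : act 3 n203552 = n193248 := d5_1 D203552 (iv4 D193248) F156241 (iv4 F328301) (iv3 F233268)
theorem F428850 : act 6 n203552 = n152793 := d10_2 (iv6 F347036) D203552 (iv4 F347038)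
theorem F428851 : act 7 n203552 = n202166 := d11_2 F240162 D203552 F423103
theorem F428852 : act 5 n203552 = n202266 := d17_5 D119296 (iv5 F428495) (iv1 F428499) F233265 D203552 (iv0 D202266) (iv5 D115514) D115513 F336269
theorem F428853 : act 0 n203552 = n119566 := d17_0 (iv5 F426881) (iv1 D203071) F422326 F422322 F187782 F86847 D54981 D119504 D203552
theorem F428854 : act 1 n203552 = n119598 := d18_6 F416631 F416629 F184109 D148513 F233265 D203552 (iv4 D119598) F188548 F188547
def n203553 : Q := act 1 n119505
theorem D203553 : act 1 n119505 = n203553 := rfl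
theorem F428855 : act 1 n203553 = n119519 := d15_1 D203553 (iv7 F428584) F428582
theorem F428856 : act 4 n203553 = n155842 := d17_9 (iv1 F359982) (iv5 D119302) D119301 (iv5 F416620) F416625 D202321 (iv0 F426862) F426861 D203553
theorem F428857 : act 6 n155841 = n203553 := d10_0 F428856 (iv6 D155842) D155841
def n203554 : Q := act 3 n119505
theorem D203554 : act 3 n119505 = n203554 := rfl
theorem F428858 : act 7 n203554 = n156239 := d8_2 (iv7 F423897) D203554 (iv3 F423895)
def n203555 : Q := act 6 n119505
theorem D203555 : act 6 n119505 = n203555 := rfl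
theorem F428859 : act 2 n203555 = n202002 := d3_1 D203555 F428586 F428582
theorem F428860 : act 4 n203555 = n119506 := d10_1 D203555 (iv6 D119506) D119505
theorem F428861 : act 0 n174510 = n203555 := d20_1 D174510 F428860 (iv3 F428830) F428832 (iv3 F403062) F320395 (iv1 D124960) (iv4 F200687) F344766 (iv1 D174509)
def n203556 : Q := act 1 n119506
theorem D203556 : act 1 n119506 = n203556 := rfl
theorem F428862 : act 1 n203556 = n197074 := d15_1 D203556 (iv7 F428591) F428587
theorem F428863 : act 3 n203556 = n176126 := d20_5 F84883 F78542 (iv4 F166010) (iv3 F402925) (iv1 F428862) F354162 (iv1 F354161) F275953 (iv3 F328146) (iv1 D116844)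
theorem F428864 : act 6 n202077 = n203556 := d7_0 F428863 (iv6 F420966) F422845
theorem F428865 : act 4 n203556 = n202079 := d10_1 F428864 (iv6 D202079) D202077
theorem F428866 : act 0 n198043 = n202079 := d20_1 F416811 (iv4 F428865) F428863 (iv1 D176126) F331871 (iv4 F303391) F303389 (iv4 D173300) (iv3 F271702) F416815
def n203557 : Q := act 5 n119506
theorem D203557 : act 5 n119506 = n203557 := rfl
theorem F428867 : act 2 n203557 = n203286 := d2_1 D203557 (iv5 F428590) F428587
theorem F428868 : act 6 n203557 = n119509 := d12_2 D119506 D203557 (iv5 D119509) (iv6 D54982) D54981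
theorem F428869 : act 4 n203557 = n131459 := d16_2 F428860 D203557 (iv5 F227873) (iv4 F370347) F370348 (iv4 F386209) F403863 (iv7 F422684) (iv2 F428859)
theorem F428870 : act 0 n198860 = n203557 := d21_7 F188304 D203484 F428495 F336278 F165970 D110389 D198860 (iv5 D203557) (iv6 D119506) D119503
theorem F428871 : act 7 n131456 = n203557 := d11_0 F428869 (iv7 D131459) (iv4 F210723)
theorem F428872 : act 1 n133322 = n203557 := d18_6 F344909 (iv4 F374046) F426820 F426818 (iv5 F184895) D133322 F428869 F344905 D170468
def n203558 : Q := act 7 n119506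
theorem D203558 : act 7 n119506 = n203558 := rfl
theorem F428873 : act 2 n203558 = n197074 := d4_1 D203558 (iv7 F428591) F428587
theorem F428874 : act 3 n203558 = n179064 := d8_1 D203558 (iv7 F428831) F428830
theorem F428875 : act 5 n203558 = n131456 := d13_1 D203558 F428871 (iv5 D203557)
theorem F428876 : act 6 n203558 = n179061 := d14_1 D203558 F362013 (iv6 F345600) F187776 D119506
def n203559 : Q := act 6 n119538
theorem D203559 : act 6 n119538 = n203559 := rfl
theorem F428877 : act 0 n137651 = n203559 := d21_4 (iv5 D137643) (iv1 D64705) D64707 D137651 (iv6 D203559) (iv5 D119538) (iv1 F348377) D201910 F422328 (iv1 F220805)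
def n203560 : Q := act 0 n119540
theorem D203560 : act 0 n119540 = n203560 := rfl
theorem F428878 : act 3 n203560 = n147745 := d20_5 F421001 F357406 F328319 (iv3 F188513) D203560 F336311 (iv1 F353726) (iv4 D147848) (iv3 F231620) F421003
theorem F428879 : act 2 n197123 = n203560 := d15_3 (iv0 D203560) (iv0 F355514) D197123
theorem F428880 : act 1 n197121 = n203560 := d15_0 (iv0 D203560) (iv7 F428825) F428822
theorem F428881 : act 7 n203560 = n197117 := d15_2 D197121 F428880 F403123
theorem F428882 : act 6 n189187 = n203560 := d14_5 F428881 (iv6 D197117) (iv7 F245454) (iv6 F336298) (iv7 F376002)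
def n203561 : Q := act 5 n119557
theorem D203561 : act 5 n119557 = n203561 := rfl
theorem F428883 : act 2 n203561 = n193343 := d2_1 D203561 F389519 F188541
theorem F428884 : act 3 n203561 = n119558 := d6_1 D203561 (iv5 D119558) D119557
theorem F428885 : act 7 n203561 = n174495 := d13_2 (iv7 F188540) D203561 F343419
theorem F428886 : act 0 n203561 = n193341 := d18_0 F389515 F389516 F331928 (iv5 D83486) (iv4 F128584) (iv0 F331918) (iv4 F306405) F188542 D203561
theorem F428887 : act 0 n193340 = n203561 := d21_10 (iv5 D203561) (iv1 F188542) D193339 (iv6 F420420) F420423 F230892 (iv5 D113185) (iv1 F381046) (iv5 F415389) (iv6 F415392)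
def n203562 : Q := act 3 n119564
theorem D203562 : act 3 n119564 = n203562 := rfl
theorem F428888 : act 2 n203562 = n194314 := d0_1 D203562 F392792 F346781 F428609 (iv2 F428606)
theorem F428889 : act 5 n203562 = n203479 := d6_2 (iv5 F188547) D203562 F428471
theorem F428890 : act 6 n203562 = n198881 := d7_2 F409511 D203562 (iv3 D198881)
theorem F428891 : act 7 n203562 = n194312 := d8_2 (iv7 F359353) D203562 F392787
theorem F428892 : act 1 n193339 = n203562 := d15_1 (iv0 F389511) F428891 (iv2 D194312)
theorem F428893 : act 1 n203562 = n162606 := d15_1 F428892 F343425 (iv2 F389509)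
def n203563 : Q := act 4 n119564
theorem D203563 : act 4 n119564 = n203563 := rfl
theorem F428894 : act 2 n203563 = n202396 := d1_1 D203563 F428610 (iv2 F428606)
theorem F428895 : act 6 n203563 = n198882 := d10_2 F409511 D203563 (iv4 D198882)
theorem F428896 : act 7 n203563 = n203553 := d11_2 (iv7 F359353) D203563 F428856
theorem F428897 : act 5 n203563 = n202323 := d17_5 (iv1 F416624) F326828 (iv1 F317291) (iv5 F188547) D203563 (iv0 D202323) (iv5 D115597) D115596 (iv4 F416625)
theorem F428898 : act 0 n203563 = n202409 := d18_2 D119564 D203563 F423896 (iv5 D119294) D119293 (iv0 F187774) F131203 (iv0 D55005) D55008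
theorem F428899 : act 1 n203563 = n203501 := d18_6 F426938 (iv4 F233872) F416632 (iv4 F187667) (iv5 F188547) D203563 (iv4 D203501) D203500 (iv5 F428580)
def n203564 : Q := act 4 n119565
theorem D203564 : act 4 n119565 = n203564 := rfl
theorem F428900 : act 2 n203564 = n203553 := d1_1 D203564 F428856 (iv2 F359351)
theorem F428901 : act 3 n203564 = n149238 := d5_1 D203564 (iv4 D149238) F106429 D103042 (iv3 F359352)
theorem F428902 : act 6 n203564 = n194241 := d10_2 F353040 D203564 F392463
theorem F428903 : act 7 n203564 = n202396 := d11_2 F428608 D203564 F428610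
theorem F428904 : act 5 n203564 = n202324 := d17_5 (iv1 F359935) D200478 F416630 F317292 D203564 F423624 (iv5 D115604) (iv0 F360169) F336275
theorem F428905 : act 0 n203564 = n203501 := d18_2 (iv1 F188549) D203564 (iv4 D203501) (iv5 D119290) (iv4 F86846) (iv0 F184589) F94553 F184588 D55028
theorem F428906 : act 0 n202409 = n203564 := d20_1 (iv4 F423896) (iv4 D203564) F359352 (iv1 F337134) F270145 F328305 (iv1 F289576) F327675 (iv3 F240161) (iv1 F240164)
def n203565 : Q := act 6 n119566
theorem D203565 : act 6 n119566 = n203565 := rfl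
theorem F428907 : act 3 n203565 = n152744 := d7_1 D203565 (iv6 D152744) (iv3 F366383)
theorem F428908 : act 4 n203565 = n119567 := d10_1 D203565 (iv6 D119567) D119566
theorem F428909 : act 0 n202079 = n203565 := d18_2 (iv1 F428862) F428865 F428908 (iv5 F341160) F237481 (iv0 F237473) (iv4 F409607) (iv0 F409606) (iv5 F402926)
def n203566 : Q := act 5 n119572
theorem D203566 : act 5 n119572 = n203566 := rfl
theorem F428910 : act 2 n203566 = n155375 := d2_1 D203566 (iv5 D155375) (iv2 F188558)
theorem F428911 : act 7 n203566 = n193800 := d13_2 F426508 D203566 (iv5 F426505)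
theorem F428912 : act 4 n203566 = n202266 := d16_2 D119572 D203566 (iv5 F428852) (iv4 D203552) (iv5 F233265) (iv4 D148513) (iv5 F113949) F113951 (iv2 F113946)
theorem F428913 : act 0 n203566 = n193801 := d17_2 F364732 D203566 F391045 (iv4 F184102) D127647 (iv0 F420701) (iv5 F428834) (iv0 D203549) F318171
theorem F428914 : act 1 n203566 = n191298 := d17_6 (iv1 F85472) (iv5 F85473) (iv1 F130251) (iv5 F87019) D119572 D203566 F382932 F184096 F85518
def n203567 : Q := act 6 n119572
theorem D203567 : act 6 n119572 = n203567 := rfl
theorem F428915 : act 2 n203567 = n141477 := d3_1 D203567 F366074 (iv2 F188558)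
theorem F428916 : act 4 n203567 = n119573 := d10_1 D203567 (iv6 D119573) D119572
theorem F428917 : act 7 n203567 = n142460 := d14_2 F426508 D203567 (iv6 F365212) (iv7 F339495) D202985
theorem F428918 : act 0 n203567 = n142605 := d21_10 F393570 F393571 (iv5 D148051) (iv6 F356786) (iv1 F289466) (iv6 F346067) (iv5 F382932) (iv1 F428914) (iv5 D203566) D203567
theorem F428919 : act 5 n203037 = n203567 := d21_8 (iv5 D203068) (iv1 D117644) (iv5 D54191) (iv6 D26212) D26208 D54174 D117592 D203037 (iv6 D203567) (iv1 F426868)
theorem F428920 : act 1 n203567 = n142604 := d15_0 (iv0 D142604) (iv7 F366075) (iv2 F428915)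
def n203568 : Q := act 3 n119574
theorem D203568 : act 3 n119574 = n203568 := rfl
theorem F428921 : act 2 n203568 = n160093 := d0_1 D203568 (iv3 F360536) F415429 (iv3 F426503) F426502
theorem F428922 : act 4 n203568 = n119881 := d5_2 D119574 D203568 (iv3 D119881) (iv4 D55173) (iv3 F113948)
theorem F428923 : act 6 n203568 = n142649 := d7_2 (iv6 F188561) D203568 F225532
theorem F428924 : act 7 n203568 = n141480 := d8_2 (iv7 F188562) D203568 F366077
theorem F428925 : act 0 n203568 = n160041 := d20_4 (iv4 D55030) (iv1 F87020) D119574 D203568 F252525 F238384 D195820 (iv4 F398325) F398326 (iv1 F188563)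
theorem F428926 : act 0 n155508 = n203568 := d20_4 F183467 F131205 (iv4 F110738) (iv3 F244526) (iv3 D203568) (iv4 D119574) (iv1 D55012) D55013 D119577 F357747
def n203569 : Q := act 5 n119574
theorem D203569 : act 5 n119574 = n203569 := rfl
theorem F428927 : act 2 n203569 = n193800 := d2_1 D203569 (iv5 F426505) F426502
theorem F428928 : act 4 n203569 = n202267 := d9_1 D203569 F428848 (iv4 D203551) F188304 F187677 (iv5 F87019) D119572 D203566 F428912 (iv5 F428852) (iv4 D203552) (iv5 F233265) (iv4 D148513) (iv5 F113949) D119574
theorem F428929 : act 7 n203569 = n155375 := d13_2 (iv7 F188562) D203569 (iv5 D155375)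
theorem F428930 : act 0 n203569 = n191298 := d17_2 (iv1 F426869) D203569 F382932 D203006 F426607 F427432 F427431 (iv0 F397640) (iv4 F426866)
theorem F428931 : act 1 n203569 = n193801 := d17_6 D54149 D117520 F184109 (iv5 F113949) D119574 D203569 F391045 (iv0 D117515) F85471
def n203570 : Q := act 5 n119575
theorem D203570 : act 5 n119575 = n203570 := rfl
theorem F428932 : act 2 n203570 = n203092 := d2_1 D203570 F426931 F364974
theorem F428933 : act 7 n203570 = n203091 := d13_2 F426501 D203570 F426927
theorem F428934 : act 4 n203570 = n202324 := d16_4 F187667 (iv5 F206395) F206396 D203570 (iv5 F428904) (iv4 D203564) (iv5 F317292) (iv7 F426946) F426950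
theorem F428935 : act 0 n203570 = n203009 := d17_2 D119575 D203570 (iv5 D203009) (iv4 D117519) D117520 (iv0 F184110) (iv5 F87019) (iv0 D55011) D55013
theorem F428936 : act 1 n203570 = n202268 := d17_6 (iv1 F426841) (iv5 F233873) F416632 (iv5 F206395) F206396 D203570 F423427 F426616 (iv4 F426838)
def n203571 : Q := act 6 n119575
theorem D203571 : act 6 n119575 = n203571 := rfl
theorem F428937 : act 2 n203571 = n134399 := d3_1 D203571 F364973 F364974
theorem F428938 : act 7 n203571 = n134384 := d14_2 F426501 D203571 (iv6 D134384) (iv7 F329415) D202984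
theorem F428939 : act 5 n203571 = n203024 := d21_6 (iv5 D57216) D57213 (iv5 F310218) (iv6 D119579) D119575 D203571 (iv1 F426680) F337788 (iv6 D122837) F94771
theorem F428940 : act 0 n134397 = n203571 := d21_4 F329492 D138294 F345983 (iv6 F363093) (iv6 D203571) D203570 F428935 (iv5 D203009) (iv6 F192179) F345982
theorem F428941 : act 1 n134398 = n203571 := d15_0 (iv0 F428940) F363094 F363096
def n203572 : Q := act 5 n119576
theorem D203572 : act 5 n119576 = n203572 := rfl
theorem F428942 : act 2 n203572 = n203091 := d2_1 D203572 F426927 F426497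
theorem F428943 : act 3 n203572 = n134443 := d6_1 D203572 (iv5 D134443) (iv3 F331659)
theorem F428944 : act 6 n203572 = n134403 := d12_2 (iv6 F331660) D203572 (iv5 D134403) (iv6 D63136) (iv5 F98418)
theorem F428945 : act 7 n203572 = n203092 := d13_2 F364972 D203572 F426931
theorem F428946 : act 4 n203572 = n202323 := d16_2 (iv4 F331658) D203572 (iv5 F428897) (iv4 D203563) F188547 F187667 (iv5 F206395) (iv7 F397638) F397636
theorem F428947 : act 0 n203572 = n202268 := d17_2 (iv1 F188564) D203572 F423427 (iv4 D117522) (iv5 F85473) (iv0 F130250) (iv5 F113949) F87020 D55030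
theorem F428948 : act 0 n203009 = n203572 := d21_1 D203009 (iv5 D203572) F331660 (iv1 F329077) (iv6 D117451) F328817 (iv1 F101914) (iv5 F329154) D144992 (iv1 F227960)
def n203573 : Q := act 5 n119577
theorem D203573 : act 5 n119577 = n203573 := rfl
theorem F428949 : act 3 n203573 = n119578 := d6_1 D203573 (iv5 D119578) D119577
theorem F428950 : act 6 n203573 = n149115 := d12_2 F386441 D203573 (iv5 D149115) (iv6 F305122) (iv5 F386437)
def n203574 : Q := act 0 n119596
theorem D203574 : act 0 n119596 = n203574 := rfl
theorem F428951 : act 3 n203574 = n128176 := d20_5 D203551 F428846 (iv4 D119598) (iv3 F188631) D203574 F356655 D189051 F375590 F188288 D119503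
theorem F428952 : act 2 n176587 = n203574 := d15_3 (iv0 D203574) (iv0 F342311) F342306
theorem F428953 : act 1 n150562 = n203574 := d15_0 (iv0 D203574) (iv7 F383145) F383143
theorem F428954 : act 5 n203574 = n129564 := d17_7 F361620 (iv5 D157286) F322109 (iv5 F348141) F331884 (iv5 F320686) F428953 F342320 F363407
theorem F428955 : act 6 n150601 = n203574 := d21_3 F106020 (iv1 F110854) (iv5 F357016) (iv1 F428953) (iv6 F359350) (iv5 F359349) (iv1 F353048) (iv5 D155846) (iv6 D74128) (iv1 F106022)
theorem F428956 : act 4 n203574 = n189058 := d10_1 F428955 (iv6 D189058) F357084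
def n203575 : Q := act 4 n119596
theorem D203575 : act 4 n119596 = n203575 := rfl
theorem F428957 : act 0 n156340 = n203575 := d20_10 (iv4 D203575) D203574 F428956 F375617 D189059 F384865 F167659 (iv1 F79266) D74363 D156340
theorem F428958 : act 6 n203575 = n139623 := d21_5 (iv5 F389192) F415371 (iv5 F404838) (iv6 F366416) F428957 (iv5 F388637) (iv1 F388642) F388640 D197660 (iv1 F405268)
def n203576 : Q := act 6 n119596
theorem D203576 : act 6 n119596 = n203576 := rfl
theorem F428959 : act 2 n203576 = n124961 := d3_1 D203576 (iv6 F383149) F383147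
theorem F428960 : act 3 n203576 = n119599 := d7_1 D203576 (iv6 D119599) (iv3 F188631)
theorem F428961 : act 4 n203576 = n139623 := d10_1 D203576 (iv6 F428958) (iv4 D203575)
theorem F428962 : act 7 n203576 = n178906 := d14_2 F383145 D203576 F361289 (iv7 F428641) (iv6 F428642)
theorem F428963 : act 0 n203576 = n159058 := d21_4 (iv5 D166202) (iv1 F303530) D119596 D203576 (iv6 F348490) (iv5 F348489) (iv1 F202672) (iv5 F350836) (iv6 F365587) F365585
theorem F428964 : act 0 n159053 = n203576 := d21_4 F303198 (iv1 F130192) D178492 (iv6 F348498) (iv6 D203576) (iv5 D119596) (iv1 F151274) D191346 F383141 F348503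
def n203577 : Q := act 3 n119598
theorem D203577 : act 3 n119598 = n203577 := rfl
theorem F428965 : act 2 n203577 = n152747 := d0_1 D203577 (iv3 D152747) (iv2 F239479) (iv3 F428621) F428620
theorem F428966 : act 0 n203577 = n137640 := d20_4 (iv4 D203563) (iv1 F188548) D119598 D203577 (iv3 D137640) (iv4 F167014) (iv1 F167033) (iv4 F245226) (iv3 F428583) (iv1 F428899)
def n203578 : Q := act 5 n119604
theorem D203578 : act 5 n119604 = n203578 := rfl
theorem F428967 : act 3 n203578 = n119605 := d6_1 D203578 (iv5 D119605) D119604
theorem F428968 : act 7 n203578 = n153371 := d13_2 (iv7 F342784) D203578 (iv5 D153371)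
theorem F428969 : act 4 n203578 = n138067 := d18_5 D33681 D73126 (iv1 F339658) (iv4 F342783) D203578 (iv0 F353693) (iv4 D154398) (iv0 D73134) (iv5 D33683)
theorem F428970 : act 0 n189786 = n203578 := d21_10 (iv5 D203578) F370369 F370366 (iv6 F354902) F377736 (iv6 D88276) (iv5 F133549) (iv1 F283614) F283612 (iv6 F377748)
def n203579 : Q := act 6 n119604
theorem D203579 : act 6 n119604 = n203579 := rfl
theorem F428971 : act 2 n203579 = n153368 := d3_1 D203579 F392158 (iv2 F392155)
theorem F428972 : act 3 n203579 = n119606 := d7_1 D203579 (iv6 D119606) D119604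
theorem F428973 : act 7 n203579 = n124673 := d14_2 (iv7 F342784) D203579 (iv6 D124673) F92107 D72459
theorem F428974 : act 5 n184083 = n203579 := d21_8 F370366 F354904 (iv5 F369417) (iv6 D187189) F137627 (iv6 F286025) (iv5 D184085) D184083 (iv6 D203579) F370369
theorem F428975 : act 1 n128213 = n203579 := d15_1 (iv0 F354102) F428973 F199439
theorem F428976 : act 0 n128208 = n203579 := d20_4 F115003 (iv1 F319821) D155546 F350265 F428972 F188637 F104923 (iv4 F227699) F357698 F319412
def n203580 : Q := act 6 n119605
theorem D203580 : act 6 n119605 = n203580 := rfl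
theorem F428977 : act 7 n203580 = n149132 := d14_2 F428619 D203580 (iv6 D149132) (iv7 F306468) (iv6 F428618)
theorem F428978 : act 0 n203580 = n193638 := d21_4 (iv5 D203570) (iv1 F188563) D119605 D203580 (iv6 D193638) F346041 (iv1 F346040) (iv5 F346036) (iv6 F423426) (iv1 F428936)
def n203581 : Q := act 5 n119606
theorem D203581 : act 5 n119606 = n203581 := rfl
theorem F428979 : act 3 n203581 = n184083 := d6_1 D203581 F428974 F428972
theorem F428980 : act 0 n183987 = n203581 := d21_10 (iv5 D203581) (iv1 F410278) F410275 (iv6 D110903) D110900 F338286 F335364 (iv1 F134734) D87768 D183987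
def n203582 : Q := act 0 n119611
theorem D203582 : act 0 n119611 = n203582 := rfl
theorem F428981 : act 6 n203582 = n200917 := d21_5 (iv5 D33239) (iv1 F42597) D55036 D119611 D203582 (iv5 D200917) (iv1 D113623) D113624 F176808 F82826
theorem F428982 : act 7 n152578 = n203582 := d14_0 F428981 F418389 F218217 D135726 F354440
theorem F428983 : act 2 n203582 = n152577 := d15_3 (iv0 D152577) D152578 F428982
def n203583 : Q := act 1 n119611
theorem D203583 : act 1 n119611 = n203583 := rfl
theorem F428984 : act 1 n203583 = n152529 := d15_1 D203583 F239700 (iv2 F188649)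
theorem F428985 : act 7 n203583 = n152577 := d15_2 (iv0 D203582) D203583 (iv2 F428983)
theorem F428986 : act 6 n130951 = n203583 := d21_3 (iv5 D135722) (iv1 F99193) (iv5 F209560) (iv1 D203583) (iv6 D119611) (iv5 D55036) (iv1 F42596) D33241 D71945 (iv1 F365662)
theorem F428987 : act 2 n203583 = n152578 := d3_1 F428986 (iv6 F354440) F218233
theorem F428988 : act 1 n152529 = n203582 := d15_1 F428984 (iv7 F428982) (iv2 F428987)
def n203584 : Q := act 7 n119611
theorem D203584 : act 7 n119611 = n203584 := rfl
theorem F428989 : act 2 n203584 = n152529 := d4_1 D203584 F239700 (iv2 F188649)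
theorem F428990 : act 6 n203584 = n152282 := d14_1 D203584 (iv7 D152282) F108283 (iv7 F87031) D119611
theorem F428991 : act 1 n152578 = n203584 := d15_1 D152578 (iv7 D203584) F188649
theorem F428992 : act 1 n203584 = n152577 := d15_1 F428991 (iv7 F428985) F428987
def n203585 : Q := act 5 n119612
theorem D203585 : act 5 n119612 = n203585 := rfl
theorem F428993 : act 3 n203585 = n119613 := d6_1 D203585 (iv5 D119613) D119612
theorem F428994 : act 7 n203585 = n152347 := d13_2 (iv7 F188650) D203585 (iv5 D152347)
theorem F428995 : act 4 n185299 = n203585 := d5_0 F428993 F188652 (iv3 F239763) F373380 D185299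
theorem F428996 : act 0 n177997 = n203585 := d20_7 (iv4 F135190) D185290 (iv4 F384919) F338919 (iv1 F218783) F328990 (iv4 F277541) (iv4 F428995) (iv3 D185299) (iv1 D88285)
def n203586 : Q := act 6 n119612
theorem D203586 : act 6 n119612 = n203586 := rfl
theorem F428997 : act 2 n203586 = n124388 := d3_1 D203586 (iv6 F357238) (iv2 F366079)
theorem F428998 : act 3 n203586 = n119614 := d7_1 D203586 (iv6 D119614) D119612
theorem F428999 : act 4 n203586 = n124184 := d10_1 D203586 (iv6 F427902) F427900
theorem F429000 : act 7 n203586 = n124323 := d14_2 (iv7 F188650) D203586 F198811 (iv7 F357235) F239486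
theorem F429001 : act 5 n124457 = n203586 := d13_3 F429000 (iv5 F407476) F407475
theorem F429002 : act 1 n124385 = n203586 := d15_1 D124385 F429000 F198810
theorem F429003 : act 1 n203586 = n124384 := d15_1 F429002 F304598 F303365
def n203587 : Q := act 6 n119613
theorem D203587 : act 6 n119613 = n203587 := rfl
theorem F429004 : act 2 n203587 = n152876 := d3_1 D203587 (iv6 D152876) (iv2 F188651)
theorem F429005 : act 4 n203587 = n152575 := d10_1 D203587 (iv6 D152575) (iv4 F188652)
theorem F429006 : act 5 n203587 = n202397 := d12_1 D203587 (iv6 D202397) F409513 (iv6 D119614) D119613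
theorem F429007 : act 0 n156204 = n203587 := d17_2 F347956 D156204 F429006 F423859 (iv5 D148671) (iv0 D69675) F51354 D55248 (iv4 F347896)
def n203588 : Q := act 0 n119614
theorem D203588 : act 0 n119614 = n203588 := rfl
theorem F429008 : act 5 n203588 = n202309 := d17_1 D203588 (iv1 D202309) F339873 F111530 F312563 F244132 F309668 (iv0 D119615) (iv4 F188657)
theorem F429009 : act 4 n203588 = n177189 := d18_3 (iv1 F313893) (iv4 F188657) D203588 (iv5 D177189) D177188 (iv0 F342333) (iv4 D155227) (iv0 D73721) D73724
theorem F429010 : act 7 n152878 = n203588 := d11_0 F429009 F351495 F244893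
theorem F429011 : act 0 n203588 = n152770 := d20_1 (iv4 F429009) F239979 F108545 (iv1 F86619) (iv3 F308514) (iv4 F299634) F299632 (iv4 D84453) D84452 (iv1 F359938)
theorem F429012 : act 2 n203588 = n152877 := d15_3 (iv0 D152877) D152878 F429010
theorem F429013 : act 6 n178668 = n203588 := d3_0 F429012 F403255 F408060
def n203589 : Q := act 1 n119614
theorem D203589 : act 1 n119614 = n203589 := rfl
theorem F429014 : act 1 n203589 = n152770 := d15_1 D203589 F239980 (iv2 F188656)
theorem F429015 : act 7 n203589 = n152877 := d15_2 (iv0 D203588) D203589 (iv2 F429012)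
theorem F429016 : act 5 n203589 = n156293 := d17_7 F348469 (iv5 D162792) D162789 (iv5 F409507) F409508 F409513 D203589 (iv0 F354528) (iv4 F351381)
theorem F429017 : act 4 n203589 = n177034 := d17_9 F360252 F311407 (iv1 F359904) (iv5 F404596) F404599 F359985 D115686 F409513 D203589
theorem F429018 : act 2 n152878 = n203589 := d1_3 F429017 F351494 F244893
theorem F429019 : act 6 n139641 = n203589 := d10_0 F429017 (iv6 F424568) (iv4 F426967)
theorem F429020 : act 3 n203589 = n156294 := d19_3 F333733 D177034 (iv4 F429017) (iv1 F422920) (iv5 D202114) F179657 F111209 F41129 (iv5 D26023) D26022 D53832 (iv1 F327173) D156612 F344024 F234025 F308940 (iv5 F308942) F304985 F272907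
def n203590 : Q := act 7 n119614
theorem D203590 : act 7 n119614 = n203590 := rfl
theorem F429021 : act 2 n203590 = n152770 := d4_1 D203590 F239980 (iv2 F188656)
theorem F429022 : act 3 n203590 = n124323 := d8_1 D203590 (iv7 F429000) F428998
theorem F429023 : act 4 n203590 = n119617 := d11_1 D203590 (iv7 D119617) (iv4 F188657)
theorem F429024 : act 5 n203590 = n198882 := d13_1 D203590 F409729 F409513
theorem F429025 : act 6 n203590 = n152328 := d14_1 D203590 (iv7 D152328) F108331 (iv7 F87035) D119614
theorem F429026 : act 1 n152878 = n203590 := d15_1 D152878 (iv7 D203590) F188656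
theorem F429027 : act 1 n203590 = n152877 := d15_1 F429026 (iv7 F429015) (iv2 F429018)
def n203591 : Q := act 4 n119615
theorem D203591 : act 4 n119615 = n203591 := rfl
theorem F429028 : act 2 n203591 = n152880 := d1_1 D203591 (iv4 D152880) F200715
theorem F429029 : act 3 n203591 = n202143 := d5_1 D203591 F423032 F400532 (iv4 D154695) (iv3 F243069)
theorem F429030 : act 6 n203591 = n178672 := d10_2 (iv6 F188658) D203591 (iv4 D178672)
theorem F429031 : act 7 n203591 = n152883 := d11_2 (iv7 F200720) D203591 (iv4 D152883)
theorem F429032 : act 0 n203591 = n202165 := d17_0 (iv5 D202165) (iv1 F409725) F409722 (iv4 D116709) (iv5 F318410) (iv0 F208106) F186435 F188662 D203591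
theorem F429033 : act 1 n203591 = n152790 := d18_6 F333721 (iv4 F188029) (iv1 F188032) (iv4 F244130) F309668 D203591 F359511 F351492 F351493
def n203592 : Q := act 6 n119618
theorem D203592 : act 6 n119618 = n203592 := rfl
theorem F429034 : act 2 n203592 = n156226 := d3_1 D203592 F366634 (iv2 F247909)
theorem F429035 : act 4 n203592 = n152539 := d10_1 D203592 (iv6 D152539) (iv4 F188666)
theorem F429036 : act 7 n203592 = n156213 := d14_2 (iv7 F320458) D203592 (iv6 D156213) (iv7 F111516) D74320
theorem F429037 : act 0 n152788 = n203592 := d21_4 (iv5 F363881) (iv1 F423706) (iv5 D202348) (iv6 F348347) (iv6 D203592) F188665 (iv1 D72128) (iv5 D33300) (iv6 F52508) D72083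
theorem F429038 : act 1 n151303 = n203592 := d15_0 (iv0 F429037) (iv7 F426973) F426971
def n203593 : Q := act 0 n119620
theorem D203593 : act 0 n119620 = n203593 := rfl
theorem F429039 : act 1 n156164 = n203593 := d15_0 (iv0 D203593) (iv7 F426993) F426990
def n203594 : Q := act 1 n119620
theorem D203594 : act 1 n119620 = n203594 := rfl
theorem F429040 : act 1 n203594 = n156164 := d15_1 D203594 F245432 (iv2 F366538)
theorem F429041 : act 5 n203594 = n177997 := d19_1 (iv1 F429040) F277541 (iv3 F328990) (iv1 F219673) F219671 (iv4 F201775) F201774 (iv1 F93884) F93885 (iv4 F321638) (iv3 F189644) (iv1 F189648) (iv5 F324692) F321636 F167744 (iv1 F84075) F81361 D74288 D156164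
theorem F429042 : act 6 n156015 = n203594 := d12_0 F429041 (iv6 D177997) (iv5 F277309) F349755 (iv5 F349760)
theorem F429043 : act 0 n202109 = n177997 := d21_1 D202109 (iv5 F429041) (iv6 F429042) F349770 F111032 D115279 F416787 F416785 D201977 F422590
theorem F429044 : act 2 n203594 = n156019 := d3_1 F429042 (iv6 D156019) (iv2 F245118)
theorem F429045 : act 7 n203593 = n156019 := d15_2 F429040 F429039 (iv2 F429044)
def n203595 : Q := act 5 n119620
theorem D203595 : act 5 n119620 = n203595 := rfl
theorem F429046 : act 3 n203595 = n119621 := d6_1 D203595 (iv5 D119621) D119620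
def n203596 : Q := act 6 n119620
theorem D203596 : act 6 n119620 = n203596 := rfl
theorem F429047 : act 3 n203596 = n119622 := d7_1 D203596 (iv6 D119622) D119620
def n203597 : Q := act 6 n119621
theorem D203597 : act 6 n119621 = n203597 := rfl
def n203598 : Q := act 0 n119622
theorem D203598 : act 0 n119622 = n203598 := rfl
theorem F429048 : act 6 n203598 = n156252 := d21_5 D152342 F239536 (iv5 D119621) D119622 D203598 (iv5 F351509) (iv1 F351508) (iv5 D152879) (iv6 D72132) (iv1 F108350)
theorem F429049 : act 2 n202376 = n203598 := d3_3 F429048 F359987 D202376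
theorem F429050 : act 0 n203598 = n202233 := d21_4 F429024 F409730 F351509 (iv6 F429048) (iv6 D202233) D202232 F423340 F404286 (iv6 F403255) (iv1 F429027)
def n203599 : Q := act 1 n119622
theorem D203599 : act 1 n119622 = n203599 := rfl
theorem F429051 : act 1 n203599 = n202233 := d15_1 D203599 F423343 F247899
theorem F429052 : act 7 n203599 = n202376 := d15_2 (iv0 D203598) D203599 F429049
theorem F429053 : act 6 n202181 = n203599 := d21_3 F339851 D115425 D202181 (iv1 D203599) (iv6 D119622) D119621 (iv1 F239529) (iv5 D152339) (iv6 F318318) (iv1 D141067)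
def n203600 : Q := act 5 n119622
theorem D203600 : act 5 n119622 = n203600 := rfl
def n203601 : Q := act 7 n119622
theorem D203601 : act 7 n119622 = n203601 := rfl
theorem F429054 : act 2 n203601 = n202233 := d4_1 D203601 F423343 F247899
theorem F429055 : act 4 n203601 = n119625 := d11_1 D203601 (iv7 D119625) (iv4 F188673)
theorem F429056 : act 6 n203601 = n202231 := d14_1 D203601 F423332 (iv6 F336239) F184276 D119622
theorem F429057 : act 1 n203601 = n202376 := d15_0 (iv0 F423824) (iv7 F423343) (iv2 F429054)
def n203602 : Q := act 4 n119623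
theorem D203602 : act 4 n119623 = n203602 := rfl
theorem F429058 : act 2 n203602 = n155719 := d1_1 D203602 (iv4 D155719) F212308
theorem F429059 : act 6 n203602 = n157101 := d10_2 (iv6 F316180) D203602 (iv4 D157101)
theorem F429060 : act 7 n203602 = n202180 := d11_2 F247896 D203602 F423141
theorem F429061 : act 0 n119630 = n203602 := d20_7 D81461 (iv1 F350080) F350081 D177054 (iv1 F366298) (iv3 F403384) (iv4 F403387) (iv4 D203602) (iv3 F212309) F310607
theorem F429062 : act 1 n202205 = n203602 := d15_0 (iv0 F429061) (iv7 F422766) (iv2 F423238)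
def n203603 : Q := act 4 n119624
theorem D203603 : act 4 n119624 = n203603 := rfl
theorem F429063 : act 2 n203603 = n202180 := d1_1 D203603 F423141 (iv2 F247897)
theorem F429064 : act 3 n203603 = n202212 := d5_1 D203603 F423258 F255731 (iv4 F320248) (iv3 F212310)
theorem F429065 : act 6 n203603 = n201901 := d10_2 F361624 D203603 F422296
theorem F429066 : act 7 n203603 = n155719 := d11_2 (iv7 F212311) D203603 (iv4 D155719)
theorem F429067 : act 0 n203603 = n119630 := d18_2 F312468 D203603 F403387 (iv5 D197171) (iv4 F215095) F348261 F348254 F209433 (iv5 F312471)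
theorem F429068 : act 1 n203603 = n202205 := d15_1 (iv0 F429067) (iv7 F427007) F427005
theorem F429069 : act 5 n202106 = n203603 := d12_5 F429065 F422297 F179463 (iv5 F179644) D202106
def n203604 : Q := act 0 n119628
theorem D203604 : act 0 n119628 = n203604 := rfl
theorem F429070 : act 4 n203604 = n188083 := d18_3 F349187 F349185 D203604 (iv5 F375470) (iv4 F376455) (iv0 F386913) (iv4 F387798) (iv0 D192792) (iv5 F362388)
theorem F429071 : act 3 n192392 = n156179 := d20_3 F429070 (iv1 F372276) D192392 (iv1 D156179) (iv3 F167161) F318298 (iv1 F166766) F166767 D119628 D203604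
theorem F429072 : act 2 n192396 = n203604 := d15_3 (iv0 D203604) (iv0 F372285) (iv7 F386640)
theorem F429073 : act 1 n193118 = n203604 := d15_0 (iv0 D203604) (iv7 F426996) (iv2 F426999)
theorem F429074 : act 7 n203604 = n192394 := d15_2 (iv0 F388814) F429073 F386632
theorem F429075 : act 6 n156179 = n202299 := d7_2 F386653 F429071 (iv3 D202299)
def n203605 : Q := act 2 n119628
theorem D203605 : act 2 n119628 = n203605 := rfl
theorem F429076 : act 3 n203605 = n156146 := d0_2 D119628 D203605 (iv2 F427003) (iv3 D203108) (iv2 F184288)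
theorem F429077 : act 4 n203605 = n189173 := d1_2 F349185 D203605 F375946
theorem F429078 : act 7 n203605 = n193118 := d4_2 F426996 D203605 F426999
theorem F429079 : act 1 n203605 = n192394 := d15_0 F426998 F426996 D203605
theorem F429080 : act 1 n192396 = n203605 := d15_0 F429079 (iv7 F429074) (iv2 F429072)
def n203606 : Q := act 5 n119628
theorem D203606 : act 5 n119628 = n203606 := rfl
theorem F429081 : act 3 n203606 = n119629 := d6_1 D203606 (iv5 D119629) D119628
def n203607 : Q := act 6 n119628
theorem D203607 : act 6 n119628 = n203607 := rfl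
theorem F429082 : act 3 n203607 = n119630 := d7_1 D203607 (iv6 D119630) D119628
theorem F429083 : act 4 n203607 = n193121 := d10_1 D203607 (iv6 D193121) F349185
def n203608 : Q := act 6 n119629
theorem D203608 : act 6 n119629 = n203608 := rfl
def n203609 : Q := act 5 n119630
theorem D203609 : act 5 n119630 = n203609 := rfl
def n203610 : Q := act 1 n119631
theorem D203610 : act 1 n119631 = n203610 := rfl
theorem F429084 : act 7 n203610 = n156144 := d15_2 (iv0 F366540) D203610 F245384
theorem F429085 : act 4 n203610 = n198332 := d18_7 D188418 (iv4 F405665) (iv1 D197761) (iv4 F216743) (iv5 F427594) F427593 D203610 F407643 (iv5 D188420)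
theorem F429086 : act 2 n156149 = n203610 := d1_3 F429085 (iv2 F424751) F424752
theorem F429087 : act 0 n156146 = n203610 := d20_10 F429085 F407642 (iv4 F423551) F423550 F359959 (iv3 F245531) (iv4 F359967) F375949 (iv4 F429077) F429076
def n203611 : Q := act 2 n119631
theorem D203611 : act 2 n119631 = n203611 := rfl
theorem F429088 : act 3 n203611 = n193118 := d0_2 D119631 D203611 F426999 (iv3 D203107) F184284
theorem F429089 : act 4 n203611 = n196317 := d1_2 F427593 D203611 F427598
theorem F429090 : act 6 n203611 = n196319 := d3_2 (iv6 F422780) D203611 (iv2 F422774)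
theorem F429091 : act 7 n203611 = n156146 := d4_2 F427001 D203611 (iv2 F427003)
theorem F429092 : act 1 n203611 = n156149 := d15_0 (iv0 F427002) F427001 D203611
theorem F429093 : act 1 n156144 = n203611 := d15_0 F429092 (iv7 D156149) (iv2 F245384)
def n203612 : Q := act 5 n119631
theorem D203612 : act 5 n119631 = n203612 := rfl
theorem F429094 : act 3 n203612 = n119632 := d6_1 D203612 (iv5 D119632) D119631
theorem F429095 : act 0 n203612 = n196525 := d17_2 (iv1 D203610) D203612 (iv5 D196525) F164999 D107090 (iv0 F351318) D196289 (iv0 F407642) (iv4 F429085)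
def n203613 : Q := act 5 n119634
theorem D203613 : act 5 n119634 = n203613 := rfl
theorem F429096 : act 7 n203613 = n202210 := d13_2 (iv7 F346467) D203613 (iv5 D202210)
def n203614 : Q := act 5 n119636
theorem D203614 : act 5 n119636 = n203614 := rfl
theorem F429097 : act 2 n203614 = n119637 := d2_1 D203614 (iv5 D119637) D119636
def n203615 : Q := act 0 n119637
theorem D203615 : act 0 n119637 = n203615 := rfl
theorem F429098 : act 5 n203615 = n152792 := d17_3 F346465 D119637 D203615 F366267 F392903 (iv0 D194351) F359963 F393003 (iv4 F179626)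
theorem F429099 : act 6 n119638 = n203615 := d12_0 F429098 (iv6 F423110) (iv5 F359508) (iv6 D152790) (iv5 F188678)
def n203616 : Q := act 1 n119637
theorem D203616 : act 1 n119637 = n203616 := rfl
theorem F429100 : act 5 n152793 = n203616 := d21_6 (iv5 F320576) F390704 (iv5 F415902) (iv6 F415906) (iv1 F428854) F428850 (iv1 D203616) (iv5 D119637) F87042 D85197
def n203617 : Q := act 4 n119637
theorem D203617 : act 4 n119637 = n203617 := rfl
theorem F429101 : act 0 n203617 = n152575 := d18_2 (iv1 D203616) D203617 (iv4 F429005) F429006 F423859 F357005 F189404 D152793 F429100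
def n203618 : Q := act 6 n119637
theorem D203618 : act 6 n119637 = n203618 := rfl
theorem F429102 : act 3 n203618 = n119641 := d7_1 D203618 (iv6 D119641) (iv3 F188677)
theorem F429103 : act 5 n203618 = n178801 := d12_1 D203618 (iv6 D178801) (iv5 D85200) (iv6 F87042) D119637
def n203619 : Q := act 3 n119638
theorem D203619 : act 3 n119638 = n203619 := rfl
theorem F429104 : act 5 n203619 = n152789 := d6_2 (iv5 F188678) D203619 (iv3 D152789)
def n203620 : Q := act 3 n119639
theorem D203620 : act 3 n119639 = n203620 := rfl
theorem F429105 : act 5 n203620 = n152791 := d6_2 (iv5 F188681) D203620 (iv3 D152791)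
theorem F429106 : act 0 n203620 = n156148 := d20_4 (iv4 F428280) F428281 F420915 D203620 F245388 D156159 (iv1 F422904) (iv4 D202111) F323322 (iv1 F239545)
def n203621 : Q := act 6 n119639
theorem D203621 : act 6 n119639 = n203621 := rfl
def n203622 : Q := act 3 n119640
theorem D203622 : act 3 n119640 = n203622 := rfl
theorem F429107 : act 5 n203622 = n152773 := d6_2 (iv5 F188682) D203622 (iv3 D152773)
theorem F429108 : act 6 n203622 = n202580 := d7_2 (iv6 F424590) D203622 F424598
def n203623 : Q := act 0 n119641
theorem D203623 : act 0 n119641 = n203623 := rfl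
def n203624 : Q := act 1 n119641
theorem D203624 : act 1 n119641 = n203624 := rfl
def n203625 : Q := act 7 n119641
theorem D203625 : act 7 n119641 = n203625 := rfl
theorem F429109 : act 5 n203625 = n178814 := d13_1 D203625 (iv7 D178814) (iv5 F188685)
def n203626 : Q := act 4 n119667
theorem D203626 : act 4 n119667 = n203626 := rfl
theorem F429110 : act 2 n203626 = n149151 := d1_1 D203626 F425336 F425339
theorem F429111 : act 3 n203626 = n128131 := d5_1 D203626 (iv4 F206237) F206241 (iv4 F346727) F353460
theorem F429112 : act 6 n203626 = n128091 := d10_2 (iv6 F339398) D203626 F337709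
theorem F429113 : act 7 n203626 = n148977 := d11_2 F234535 D203626 F346285
theorem F429114 : act 5 n203626 = n148978 := d16_7 (iv4 F108252) D152204 F353141 (iv5 D149058) F106347 D119667 D203626 (iv7 D148978) F106267
theorem F429115 : act 0 n203626 = n149064 := d17_0 F234425 (iv1 F425347) (iv5 F234536) F362048 F324818 D152672 F353457 F353459 D203626
theorem F429116 : act 1 n203626 = n149207 := d18_6 (iv1 F343954) (iv4 F306921) (iv1 F234125) F106347 D119667 D203626 (iv4 F234589) (iv0 D119702) (iv5 F308639)
def n203627 : Q := act 3 n119669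
theorem D203627 : act 3 n119669 = n203627 := rfl
theorem F429117 : act 4 n203627 = n203030 := d5_2 (iv4 F339402) D203627 F426699 F321933 D166117
theorem F429118 : act 6 n203627 = n157574 := d7_2 F339400 D203627 (iv3 F350727)
theorem F429119 : act 0 n172783 = n203627 := d21_4 (iv5 D38789) F155162 D83355 (iv6 F271054) F429118 F350722 (iv1 F231001) (iv5 F231254) F311872 (iv1 D84153)
def n203628 : Q := act 4 n119670
theorem D203628 : act 4 n119670 = n203628 := rfl
theorem F429120 : act 2 n203628 = n149156 := d1_1 D203628 F362048 F324817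
theorem F429121 : act 3 n203628 = n140832 := d5_1 D203628 (iv4 F373972) F373971 (iv4 F373984) F373983
theorem F429122 : act 6 n203628 = n148484 := d10_2 F352082 D203628 F233246
theorem F429123 : act 7 n203628 = n140824 := d11_2 F346290 D203628 (iv4 F226285)
theorem F429124 : act 5 n203628 = n150081 := d16_5 (iv4 F234427) F234425 (iv4 F239416) F239417 D203628 (iv4 F259326) (iv5 F339377) (iv7 F348538) (iv2 F348539)
theorem F429125 : act 0 n203628 = n149058 := d17_0 (iv5 D149058) F191369 D86742 (iv4 F334115) (iv5 D119664) (iv0 D55057) D55059 D119670 D203628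
theorem F429126 : act 1 n203628 = n149152 := d18_8 (iv1 F234126) F306921 F343953 (iv4 F317469) (iv5 F311120) F325889 D119670 D203628 (iv5 D149152)
def n203629 : Q := act 3 n119686
theorem D203629 : act 3 n119686 = n203629 := rfl
theorem F429127 : act 4 n203629 = n119689 := d5_2 D119686 D203629 (iv3 D119689) (iv4 D55068) D55067
theorem F429128 : act 5 n203629 = n193624 := d6_2 (iv5 F339302) D203629 F390478
theorem F429129 : act 6 n203629 = n132961 := d7_2 F339304 D203629 F342052
theorem F429130 : act 7 n203629 = n128110 := d8_2 (iv7 F188816) D203629 (iv3 D128110)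
theorem F429131 : act 0 n203629 = n172797 := d19_4 (iv1 F182294) F313302 D119686 D203629 F334511 (iv4 D103197) (iv3 F378400) F378397 F311739 F120172 F88596 (iv1 F259135) D53034 D114938 (iv3 F357315) (iv1 F398349) (iv5 F420005) F420004 (iv3 F353104)
theorem F429132 : act 0 n172792 = n203629 := d20_4 (iv4 F321380) (iv1 F340208) (iv4 F310881) (iv3 F271061) (iv3 D203629) (iv4 D119686) F190368 F52876 (iv3 F94805) D128168
def n203630 : Q := act 5 n119693
theorem D203630 : act 5 n119693 = n203630 := rfl
theorem F429133 : act 2 n203630 = n158977 := d2_1 D203630 (iv5 F313428) F313427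
theorem F429134 : act 3 n203630 = n191090 := d6_1 D203630 F382181 F315715
theorem F429135 : act 4 n203630 = n137409 := d9_1 D203630 (iv5 D137409) (iv4 F352618) F344164 (iv4 D84071) D84072 (iv4 F334100) (iv5 F310213) F339498 (iv5 D137414) (iv4 F327807) F310830 F120110 D83167 (iv4 F344165)
theorem F429136 : act 6 n203630 = n119695 := d12_2 D119693 D203630 (iv5 D119695) (iv6 D55070) D55069
theorem F429137 : act 7 n203630 = n202957 := d13_2 F188827 D203630 F426376
theorem F429138 : act 0 n203630 = n134375 := d17_2 F188826 D203630 F331618 (iv4 F334167) F334168 F320196 D175092 F332289 (iv4 F332287)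
theorem F429139 : act 1 n203630 = n134363 := d17_6 D142533 F319104 (iv1 F315503) D83167 (iv4 F344165) D203630 F334161 (iv0 D66825) (iv4 F102669)
def n203631 : Q := act 6 n119702
theorem D203631 : act 6 n119702 = n203631 := rfl
theorem F429140 : act 3 n203631 = n181802 := d7_1 D203631 F344807 F339382
theorem F429141 : act 4 n203631 = n199380 := d10_1 D203631 (iv6 F411913) (iv4 F234589)
theorem F429142 : act 0 n142521 = n203631 := d21_4 (iv5 F403158) (iv1 F403162) (iv5 D142520) D142521 (iv6 D203631) F339377 F339365 (iv5 F425204) (iv6 D202705) (iv1 F205313)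
def n203632 : Q := act 5 n119703
theorem D203632 : act 5 n119703 = n203632 := rfl
theorem F429143 : act 2 n203632 = n152709 := d2_1 D203632 F348541 (iv2 F348539)
theorem F429144 : act 3 n203632 = n175073 := d6_1 D203632 (iv5 F361281) (iv3 F361272)
theorem F429145 : act 6 n203632 = n131435 := d12_2 F361271 D203632 (iv5 F345391) (iv6 D112534) D112533
theorem F429146 : act 7 n203632 = n152609 := d13_2 F234584 D203632 F339378
theorem F429147 : act 4 n203632 = n150654 := d16_4 F239416 (iv5 F234425) F234427 D203632 (iv5 F261566) (iv4 F339402) F339231 (iv7 D152674) (iv2 F239415)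
theorem F429148 : act 0 n203632 = n152314 := d17_2 (iv1 F348543) D203632 (iv5 F346283) (iv4 D154987) F110193 (iv0 F233304) F322162 D116646 (iv4 F339381)
theorem F429149 : act 1 n203632 = n152711 := d17_8 (iv1 F239465) F349366 F349363 F311119 (iv4 F305942) F308639 D119703 D203632 F239916
def n203633 : Q := act 4 n119726
theorem D203633 : act 4 n119726 = n203633 := rfl
theorem F429150 : act 2 n203633 = n154901 := d1_1 D203633 (iv4 D154901) (iv2 F232644)
theorem F429151 : act 3 n203633 = n186544 := d5_1 D203633 (iv4 F344206) F183498 F311598 D119726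
theorem F429152 : act 5 n203633 = n192034 := d9_2 (iv5 F188867) D203633 F385296 F349286 (iv4 D117868) (iv5 F232242) (iv4 F316961) F316962 F349359 F349357 (iv4 D148456) (iv5 D69564) (iv4 D32297) D32298 F304259
theorem F429153 : act 6 n203633 = n203153 := d10_2 (iv6 F356519) D203633 F427192
theorem F429154 : act 7 n203633 = n154903 := d11_2 F232643 D203633 (iv4 D154903)
theorem F429155 : act 0 n203633 = n155250 := d17_0 F349346 (iv1 F306700) (iv5 D154811) (iv4 D73414) (iv5 D33765) D33764 D73410 F232686 D203633
theorem F429156 : act 1 n203633 = n127309 := d18_6 F310291 F307705 F232225 F304259 (iv5 F188867) D203633 (iv4 D127309) F318791 (iv5 F318797)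
def n203634 : Q := act 1 n119776
theorem D203634 : act 1 n119776 = n203634 := rfl
theorem F429157 : act 1 n203634 = n124815 := d15_1 D203634 (iv7 F241309) (iv2 F190953)
theorem F429158 : act 7 n203634 = n124807 := d15_2 (iv0 F241310) D203634 F200478
theorem F429159 : act 4 n203634 = n192097 := d17_9 (iv1 D192097) F321086 (iv1 D153545) (iv5 D72598) F52831 D33512 D72611 (iv5 F190928) D203634
theorem F429160 : act 5 n203634 = n142900 := d18_9 F357849 (iv4 F162233) F322290 (iv4 D85987) (iv5 D39765) (iv4 F60586) D85860 (iv4 F233012) D203634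
theorem F429161 : act 3 n154154 = n203634 := d20_3 (iv4 F123782) D167794 F264190 (iv1 D203634) F188985 (iv4 F188995) F307707 F330124 F206470 F201233
theorem F429162 : act 6 n154817 = n203634 := d21_3 (iv5 F104051) D144934 (iv5 F357838) (iv1 D203634) (iv6 D119776) D119775 (iv1 F324301) F324304 (iv6 D120571) F232394
theorem F429163 : act 2 n203634 = n124818 := d3_1 F429162 (iv6 F279815) F306148
def n203635 : Q := act 4 n119841
theorem D203635 : act 4 n119841 = n203635 := rfl
theorem F429164 : act 2 n203635 = n119852 := d1_1 D203635 (iv4 D119852) (iv2 F189142)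
theorem F429165 : act 3 n203635 = n153925 := d5_1 D203635 (iv4 D153925) (iv3 F311118) D143720 F339394
theorem F429166 : act 7 n203635 = n155448 := d11_2 (iv7 F189143) D203635 (iv4 D155448)
theorem F429167 : act 5 n203635 = n155509 := d16_1 D203635 (iv4 D155509) (iv5 D73963) (iv4 D33950) (iv5 D16410) D16409 D33946 (iv7 F87256) (iv2 F189142)
theorem F429168 : act 0 n203635 = n155473 := d17_0 F420722 (iv1 F420724) (iv5 D152227) (iv4 F339226) (iv5 F324083) (iv0 F239904) (iv5 F189145) F189144 D203635
theorem F429169 : act 1 n203635 = n155472 := d18_6 (iv1 F310855) F52412 F130761 D55155 D119841 D203635 (iv4 F339366) (iv0 D173478) (iv5 D83002)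
def n203636 : Q := act 5 n119843
theorem D203636 : act 5 n119843 = n203636 := rfl
theorem F429170 : act 2 n203636 = n119865 := d2_1 D203636 (iv5 D119865) (iv2 F189149)
theorem F429171 : act 4 n203636 = n155475 := d9_1 D203636 (iv5 D155475) (iv4 D73944) (iv5 D33946) (iv4 D16409) D16410 D33950 D73963 D155509 (iv5 F429167) (iv4 D203635) (iv5 D119841) (iv4 D55155) D55156 D119843
theorem F429172 : act 6 n203636 = n130870 := d12_2 (iv6 F354936) D203636 F209467 F311851 (iv5 F191797)
theorem F429173 : act 7 n203636 = n155454 := d13_2 (iv7 F189150) D203636 (iv5 D155454)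
theorem F429174 : act 0 n203636 = n148524 := d17_2 (iv1 F189152) D203636 (iv5 D148524) D148523 F233284 (iv0 F110727) D154434 F331657 (iv4 D155498)
theorem F429175 : act 1 n203636 = n148119 := d17_6 (iv1 F130864) F50379 F130761 D55156 D119843 D203636 (iv5 D148119) F230226 (iv4 D32316)
def n203637 : Q := act 1 n119852
theorem D203637 : act 1 n119852 = n203637 := rfl
theorem F429176 : act 1 n203637 = n155448 := d15_1 D203637 (iv7 F429166) F429164
theorem F429177 : act 7 n203637 = n155473 := d15_2 F420806 D203637 (iv2 F420802)
theorem F429178 : act 4 n203637 = n201252 := d17_9 (iv1 F419680) F271940 F310717 D119839 (iv4 F335528) (iv5 F420212) F420215 (iv5 F339229) D203637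
theorem F429179 : act 3 n174313 = n201252 := d20_5 (iv4 F323511) (iv1 F49197) F324810 (iv3 F128417) D174313 (iv4 F429178) (iv1 D203637) (iv4 D119852) (iv3 F133208) (iv1 F302749)
theorem F429180 : act 6 n151440 = n203637 := d21_9 F339229 (iv1 F420215) F420212 F186264 (iv1 F258996) (iv6 F330342) (iv5 F225676) (iv1 F225291) (iv5 F330350) (iv1 D203637)
theorem F429181 : act 2 n203637 = n155472 := d3_1 F429180 (iv6 F419652) F338516
theorem F429182 : act 3 n203637 = n151443 := d7_1 F429180 (iv6 D151443) D151440
theorem F429183 : act 6 n146758 = n174313 := d7_0 F429179 (iv6 D201252) (iv3 F350763)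
theorem F429184 : act 4 n157586 = n174313 := d20_8 (iv4 F419708) (iv1 F419713) (iv4 D155470) D155469 F314202 (iv3 F315043) F347343 F388922 F429179 (iv1 F419680)
def n203638 : Q := act 6 n119852
theorem D203638 : act 6 n119852 = n203638 := rfl
theorem F429185 : act 3 n203638 = n201431 := d7_1 D203638 (iv6 F420494) (iv3 F366300)
theorem F429186 : act 4 n203638 = n119853 := d10_1 D203638 (iv6 D119853) D119852
theorem F429187 : act 7 n203638 = n164515 := d14_2 (iv7 F189183) D203638 (iv6 D164515) (iv7 F259274) F334452
theorem F429188 : act 5 n203638 = n185047 := d21_6 (iv5 F225676) (iv1 F225291) (iv5 F330350) F429180 (iv1 D203637) D203638 F372526 F371828 (iv6 F422199) (iv1 F422200)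
theorem F429189 : act 0 n203638 = n201482 := d21_10 F420676 (iv1 F333361) F144543 (iv6 D71778) (iv1 F52405) D33191 D71810 D152234 (iv5 F339229) D203638
theorem F429190 : act 0 n201873 = n203638 := d21_4 D201525 (iv1 F422157) (iv5 D201872) D201873 (iv6 D203638) F339229 (iv1 F420215) F420212 F186264 (iv1 F258996)
def n203639 : Q := act 7 n119853
theorem D203639 : act 7 n119853 = n203639 := rfl
theorem F429191 : act 3 n203639 = n155885 := d8_1 D203639 F244872 F324822
theorem F429192 : act 4 n203639 = n164515 := d11_1 D203639 (iv7 F429187) F429186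
theorem F429193 : act 5 n203639 = n155884 := d13_1 D203639 F244869 (iv5 F366113)
theorem F429194 : act 6 n203639 = n152436 := d14_1 D203639 F334453 (iv6 D73945) (iv7 F87256) D119853
theorem F429195 : act 1 n188566 = n203639 := d15_1 F373998 (iv7 D203639) (iv2 F363831)
theorem F429196 : act 1 n203639 = n152493 := d15_1 F429195 (iv7 F370535) (iv2 F373994)
def n203640 : Q := act 5 n119855
theorem D203640 : act 5 n119855 = n203640 := rfl
theorem F429197 : act 2 n203640 = n157664 := d2_1 D203640 F350970 (iv2 F305106)
theorem F429198 : act 3 n203640 = n192336 := d6_1 D203640 F386477 F343496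
theorem F429199 : act 6 n203640 = n126699 := d12_2 F308624 D203640 F336106 (iv6 F336107) D135444
theorem F429200 : act 7 n203640 = n155132 := d13_2 (iv7 F280223) D203640 (iv5 D155132)
theorem F429201 : act 0 n203640 = n120231 := d17_2 (iv1 F305109) D203640 (iv5 D120231) (iv4 D55327) D55328 (iv0 F305742) F305745 (iv0 F304072) F188906
theorem F429202 : act 1 n203640 = n126815 := d17_6 (iv1 F236162) D150080 (iv1 F383621) F383619 F350948 D203640 F323812 F186389 (iv4 F236160)
def n203641 : Q := act 4 n119856
theorem D203641 : act 4 n119856 = n203641 := rfl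
theorem F429203 : act 3 n203641 = n145669 := d5_1 D203641 (iv4 D145669) F104441 D68285 (iv3 F324264)
theorem F429204 : act 7 n203641 = n161367 := d11_2 (iv7 F304785) D203641 (iv4 D161367)
theorem F429205 : act 0 n203641 = n164527 := d18_2 (iv1 F239846) D203641 (iv4 D164527) (iv5 D79013) F56663 (iv0 F130987) D34397 (iv0 F155091) (iv5 F239845)
def n203642 : Q := act 3 n119858
theorem D203642 : act 3 n119858 = n203642 := rfl
theorem F429206 : act 4 n203642 = n129736 := d5_2 D119858 D203642 F207924 (iv4 F312462) (iv3 F188594)
theorem F429207 : act 6 n203642 = n202974 := d7_2 (iv6 F359460) D203642 (iv3 D202974)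
theorem F429208 : act 7 n203642 = n129735 := d8_2 (iv7 F189189) D203642 F361424
theorem F429209 : act 0 n159689 = n203642 := d20_4 F354948 (iv1 D76404) (iv4 F114543) (iv3 F251579) (iv3 D203642) (iv4 D119858) (iv1 F87258) D73921 D155453 (iv1 F355762)
def n203643 : Q := act 5 n119858
theorem D203643 : act 5 n119858 = n203643 := rfl
theorem F429210 : act 2 n203643 = n155494 := d2_1 D203643 (iv5 D155494) (iv2 F189188)
theorem F429211 : act 7 n203643 = n155491 := d13_2 (iv7 F189189) D203643 (iv5 D155491)
theorem F429212 : act 0 n203643 = n201697 := d18_0 (iv4 D201697) D201696 F421454 F331644 D155498 F244502 D195611 F397603 D203643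
def n203644 : Q := act 5 n119861
theorem D203644 : act 5 n119861 = n203644 := rfl
theorem F429213 : act 2 n203644 = n155491 := d2_1 D203644 (iv5 D155491) (iv2 F189198)
theorem F429214 : act 7 n203644 = n155494 := d13_2 (iv7 F189200) D203644 (iv5 D155494)
theorem F429215 : act 1 n203644 = n201697 := d17_6 F130863 D117844 F184786 F188609 D119861 D203644 F421458 (iv0 D146790) F105010
def n203645 : Q := act 6 n120012
theorem D203645 : act 6 n120012 = n203645 := rfl
theorem F429216 : act 2 n203645 = n155728 := d3_1 D203645 (iv6 D155728) F189493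
theorem F429217 : act 4 n203645 = n201492 := d10_1 D203645 (iv6 D201492) (iv4 F189492)
theorem F429218 : act 7 n203645 = n179092 := d14_2 (iv7 F189495) D203645 (iv6 D179092) F316687 F316040
theorem F429219 : act 0 n203645 = n151281 := d21_4 (iv5 F329945) D103290 (iv5 F330004) D203645 (iv6 F363692) F174337 (iv1 F174260) (iv5 F408715) F408712 (iv1 F187541)
theorem F429220 : act 0 n148655 = n203645 := d21_4 (iv5 D199967) (iv1 F363699) F339845 F322198 (iv6 D203645) F330004 (iv1 F158520) F329977 (iv6 F187490) (iv1 F414392)
def n203646 : Q := act 0 n120015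
theorem D203646 : act 0 n120015 = n203646 := rfl
theorem F429221 : act 6 n203646 = n202708 := d21_5 D119267 (iv1 F326526) (iv5 F327290) D120015 D203646 F425223 (iv1 F408710) (iv5 F427574) (iv6 D203266) F186062
theorem F429222 : act 7 n199980 = n203646 := d14_0 F429221 F425221 F366288 (iv7 F174335) D199980
def n203647 : Q := act 4 n120017
theorem D203647 : act 4 n120017 = n203647 := rfl
theorem F429223 : act 6 n203647 = n198413 := d10_2 (iv6 F345704) D203647 F407940
theorem F429224 : act 0 n203647 = n151267 := d18_2 (iv1 F340827) D203647 (iv4 F344481) F276465 (iv4 F300731) F331881 (iv4 F331884) F331878 (iv5 F340837)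
theorem F429225 : act 3 n194564 = n203647 := d20_5 (iv4 D154540) F305714 D174569 (iv3 F373270) (iv1 F393701) (iv4 D203647) (iv1 D120017) (iv4 F189500) F365670 (iv1 F365671)
theorem F429226 : act 5 n198579 = n203647 := d12_5 F429223 F407941 F169309 D109580 D198579
theorem F429227 : act 0 n202835 = n198579 := d21_1 D202835 F429226 F429223 (iv1 F407942) (iv6 F346905) (iv5 F346907) F357201 (iv5 F346943) (iv6 F346759) (iv1 F341117)
def n203648 : Q := act 5 n120022
theorem D203648 : act 5 n120022 = n203648 := rfl
theorem F429228 : act 3 n203648 = n120025 := d6_1 D203648 (iv5 D120025) (iv3 F189510)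
theorem F429229 : act 6 n203648 = n133130 := d12_2 D120022 D203648 (iv5 F339295) (iv6 D120005) (iv5 F87398)
theorem F429230 : act 7 n203648 = n153609 := d13_2 F366386 D203648 F366389
theorem F429231 : act 4 n203648 = n139273 := d16_4 F361121 (iv5 F158554) F365669 D203648 F366422 F320363 D97063 (iv7 F361117) (iv2 F361118)
theorem F429232 : act 0 n203648 = n148859 := d17_2 (iv1 F355177) D203648 (iv5 F355434) (iv4 F369943) (iv5 D187355) (iv0 D89918) D89920 (iv0 F340392) (iv4 D128325)
def n203649 : Q := act 6 n120054
theorem D203649 : act 6 n120054 = n203649 := rfl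
theorem F429233 : act 2 n203649 = n120055 := d3_1 D203649 (iv6 D120055) D120054
theorem F429234 : act 3 n203649 = n155788 := d7_1 D203649 (iv6 D155788) (iv3 F189629)
theorem F429235 : act 4 n203649 = n129443 := d10_1 D203649 F207617 F319215
theorem F429236 : act 7 n203649 = n137315 := d14_2 (iv7 F189630) D203649 (iv6 D137315) F102084 (iv6 F321639)
theorem F429237 : act 0 n203649 = n138243 := d21_4 D64294 F323329 F189698 D203649 (iv6 D138243) F338798 (iv1 D84571) (iv5 F119634) (iv6 F322042) F111240
def n203650 : Q := act 5 n120055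
theorem D203650 : act 5 n120055 = n203650 := rfl
theorem F429238 : act 3 n203650 = n120058 := d6_1 D203650 (iv5 D120058) (iv3 F189634)
theorem F429239 : act 6 n203650 = n130901 := d12_2 D120055 D203650 (iv5 F359169) (iv6 D120094) F87446
theorem F429240 : act 0 n203650 = n133335 := d17_2 F332366 D203650 (iv5 D133335) F97576 D62580 F214089 (iv5 F405003) (iv0 F405006) F332364
theorem F429241 : act 1 n203650 = n202755 := d17_6 (iv1 F112248) (iv5 F95393) (iv1 F96643) F166336 F314551 D203650 (iv5 D202755) F214347 F214343
def n203651 : Q := act 4 n120060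
theorem D203651 : act 4 n120060 = n203651 := rfl
theorem F429242 : act 2 n203651 = n155784 := d1_1 D203651 (iv4 D155784) (iv2 F338746)
theorem F429243 : act 6 n203651 = n179222 := d10_2 (iv6 F338749) D203651 (iv4 D179222)
theorem F429244 : act 7 n203651 = n155779 := d11_2 (iv7 F338750) D203651 (iv4 D155779)
theorem F429245 : act 5 n203651 = n201973 := d16_1 D203651 (iv4 D201973) (iv5 D115297) F84016 (iv5 F79314) F79313 D107717 F325772 (iv2 F338746)
def n203652 : Q := act 5 n120063
theorem D203652 : act 5 n120063 = n203652 := rfl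
theorem F429246 : act 2 n203652 = n144721 := d2_1 D203652 F404054 F404048
theorem F429247 : act 3 n203652 = n128495 := d6_1 D203652 (iv5 D128495) (iv3 F189649)
theorem F429248 : act 4 n203652 = n144711 := d9_1 D203652 (iv5 D144711) (iv4 D67815) (iv5 F101941) D59475 (iv5 F324658) D155787 (iv5 F425499) (iv4 D202768) (iv5 D116901) (iv4 D53868) (iv5 F41167) D53872 (iv5 F323699) D120063
theorem F429249 : act 6 n203652 = n145121 := d12_2 F346333 D203652 F228095 F321291 (iv5 F205122)
theorem F429250 : act 7 n203652 = n155791 := d13_2 (iv7 F189650) D203652 (iv5 D155791)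
def n203653 : Q := act 0 n120064
theorem D203653 : act 0 n120064 = n203653 := rfl
theorem F429251 : act 5 n203653 = n198749 := d17_1 D203653 (iv1 F414729) F414726 (iv4 D195498) (iv5 D105631) (iv0 F102214) D141351 F224393 (iv4 F346332)
theorem F429252 : act 2 n200481 = n203653 := d15_3 (iv0 D203653) (iv0 F359111) (iv7 F416647)
theorem F429253 : act 1 n137313 = n203653 := d15_0 (iv0 D203653) (iv7 F409695) F409691
def n203654 : Q := act 3 n120069
theorem D203654 : act 3 n120069 = n203654 := rfl
theorem F429254 : act 4 n203654 = n198333 := d5_2 D120069 D203654 F407646 F273426 F347859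
theorem F429255 : act 7 n203654 = n202301 := d8_2 F350653 D203654 F423550
theorem F429256 : act 5 n185130 = n203654 := d16_7 (iv4 D202614) (iv5 D116104) (iv4 F331073) (iv5 F351197) (iv4 F362811) (iv5 D185133) (iv4 F287495) F429255 (iv2 F424753)
def n203655 : Q := act 5 n120069
theorem D203655 : act 5 n120069 = n203655 := rfl
theorem F429257 : act 3 n203655 = n185130 := d6_1 D203655 F429256 (iv3 D203654)
theorem F429258 : act 7 n203655 = n202302 := d13_2 F350653 D203655 (iv5 D202302)
theorem F429259 : act 4 n203655 = n185150 := d16_2 D120069 D203655 (iv5 F374246) F374245 D188659 (iv4 F374328) (iv5 D120075) F347888 (iv2 F347884)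
theorem F429260 : act 6 n185128 = n203655 := d10_0 F429259 (iv6 D185150) (iv4 F287494)
def n203656 : Q := act 0 n120094
theorem D203656 : act 0 n120094 = n203656 := rfl
theorem F429261 : act 5 n203656 = n128171 := d19_1 D203656 (iv4 F304765) (iv3 F306756) F314165 D101919 D193560 F390281 (iv1 F423706) (iv5 D202348) F348346 (iv3 F322298) (iv1 D31246) D31247 (iv4 F319257) F188370 (iv1 D32835) (iv5 F42806) (iv4 F87449) (iv3 F189703)
theorem F429262 : act 3 n203656 = n128179 := d20_5 F113924 (iv1 D55259) (iv4 F87449) (iv3 F189703) D203656 (iv4 F364280) (iv1 F394178) F394175 F336612 (iv1 F313997)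
theorem E103870 : n184949 = n153808 := (c17_3 (iv1 F388789) (iv5 D184953) D184949 (iv5 D153808) F304765 (iv5 F429261) (iv0 D203656) F359169 F353872 (iv4 F388787))
theorem F429263 : act 1 n153808 = n88171 := (sb E103870 (iv0 D184949))
theorem F429264 : act 7 n128170 = n203656 := d8_0 F429262 (iv7 D128179) (iv3 F206307)
def n203657 : Q := act 1 n120094
theorem D203657 : act 1 n120094 = n203657 := rfl
theorem F429265 : act 5 n128166 = n203657 := d21_0 (iv1 D203657) F359169 (iv6 F429239) F429240 (iv6 F332326) (iv5 F332324) F326287 (iv5 F357813) (iv6 F383583) F383585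
theorem F429266 : act 6 n125188 = n203657 := d21_3 D107613 F322418 F351001 (iv1 D203657) (iv6 D120094) F87446 D120052 (iv5 F338748) F338749 F321286
theorem F429267 : act 2 n203657 = n128170 := d3_1 F429266 F341255 (iv2 F350999)
theorem F429268 : act 3 n203657 = n193339 := d7_1 F429266 (iv6 F420420) F420419
theorem F429269 : act 0 n203180 = n197278 := d18_2 (iv1 D203657) (iv4 F427336) F403818 (iv5 D172021) D172020 (iv0 F340204) F340200 (iv0 F340202) F429265
theorem F429270 : act 5 n197276 = n195458 := d17_3 F429269 (iv5 D197278) D197276 F397053 F383587 (iv0 F383586) (iv5 F429261) (iv0 D203656) (iv4 F427336)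
theorem F429271 : act 3 n195459 = n197276 := d6_3 F429270 (iv3 D195458) D195459
def n203658 : Q := act 1 n120102
theorem D203658 : act 1 n120102 = n203658 := rfl
theorem F429272 : act 1 n203658 = n147253 := d15_1 D203658 (iv7 F378348) F378346
theorem F429273 : act 7 n203658 = n147231 := d15_2 (iv0 F359662) D203658 F230814
theorem F429274 : act 5 n203658 = n147232 := d17_7 F331608 F178787 (iv1 D110767) F80529 (iv4 F87466) D120102 D203658 F230822 (iv4 F331610)
theorem F429275 : act 3 n147302 = n203658 := d19_19 (iv1 D203658) (iv5 D120102) F87466 F42813 D26708 D55269 D120118 (iv3 F398883) (iv1 F398899) F349637 (iv4 F333520) (iv3 F363639) (iv1 D146478) (iv5 D68669) (iv4 F104876) (iv3 F229794) F418637 F418635 F382135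
theorem F429276 : act 6 n147256 = n203658 := d21_3 (iv5 F319178) F242772 (iv5 F230851) (iv1 D203658) (iv6 F381102) (iv5 D190797) F300252 D170568 F364504 (iv1 D143044)
theorem F429277 : act 2 n203658 = n147256 := d0_1 F429275 F230850 (iv2 F315731) F315732 (iv2 F230939)
def n203659 : Q := act 5 n120105
theorem D203659 : act 5 n120105 = n203659 := rfl
theorem F429278 : act 2 n203659 = n190347 := d2_1 D203659 (iv5 F379488) F259268
theorem F429279 : act 3 n203659 = n120107 := d6_1 D203659 (iv5 D120107) D120105
theorem F429280 : act 4 n203659 = n189980 := d9_1 D203659 F378420 F355516 D178936 (iv4 F355162) F307871 D147296 (iv5 F377124) (iv4 F379519) F379520 (iv4 D178930) D178931 F355433 (iv5 D143771) (iv4 F315728)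
theorem F429281 : act 6 n203659 = n189979 := d12_2 (iv6 F315729) D203659 F378416 F374236 (iv5 D143763)
theorem F429282 : act 7 n203659 = n189231 := d13_2 F420400 D203659 (iv5 F420405)
theorem F429283 : act 0 n203659 = n194197 := d17_2 F235007 D203659 F392349 F267926 D170481 (iv0 F355138) (iv5 D166282) (iv0 F188479) (iv4 F235005)
theorem F429284 : act 1 n203659 = n189414 := d17_6 F318656 (iv5 D147897) (iv1 F313470) (iv5 D143771) (iv4 F315728) D203659 (iv5 F376557) (iv0 F425133) F425130
theorem E103871 : n189449 = n189415 := (c20_2 F144878 D189449 (iv4 D189415) D189414 (iv1 F429284) F429279 (iv4 F416460) F425239 F425236 F392245 (iv1 D189553))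
theorem F429285 : act 1 n189415 = n93973 := (sb E103871 (iv0 D189449))
def n203660 : Q := act 6 n120107
theorem D203660 : act 6 n120107 = n203660 := rfl
theorem F429286 : act 3 n203660 = n189979 := d7_1 D203660 (iv6 F429281) F429279
theorem F429287 : act 7 n203660 = n190363 := d14_2 F420628 D203660 F379555 F377127 (iv6 F420627)
def n203661 : Q := act 6 n120112
theorem D203661 : act 6 n120112 = n203661 := rfl
theorem F429288 : act 2 n203661 = n189230 := d3_1 D203661 (iv6 F420627) F420625
theorem F429289 : act 3 n203661 = n201473 := d7_1 D203661 F420643 F259286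
theorem F429290 : act 5 n203661 = n188249 := d12_1 D203661 (iv6 F372843) F339763 (iv6 D120113) D120112
theorem F429291 : act 0 n151672 = n203661 := d21_4 F80527 F54251 D71477 D151672 (iv6 D203661) (iv5 D120112) (iv1 D55264) (iv5 F80529) (iv6 D51066) D51063
theorem F429292 : act 7 n203283 = n203661 := d13_0 F429290 F372834 (iv5 F427656)
theorem F429293 : act 1 n191847 = n203661 := d17_6 (iv1 F142558) (iv5 F367544) (iv1 F367547) (iv5 D99008) D99007 D191847 F429290 (iv0 F374160) (iv4 D188599)
def n203662 : Q := act 6 n120115
theorem D203662 : act 6 n120115 = n203662 := rfl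
theorem F429294 : act 3 n203662 = n191453 := d7_1 D203662 F383507 (iv3 F336933)
theorem F429295 : act 4 n203662 = n120117 := d10_1 D203662 (iv6 D120117) D120115
theorem F429296 : act 5 n203662 = n191452 := d12_1 D203662 F383506 (iv5 F336948) (iv6 D134058) (iv5 F355304)
theorem F429297 : act 0 n203662 = n203012 := d21_4 (iv5 D62973) D62970 (iv5 F355304) D203662 (iv6 D203012) F329157 (iv1 F343284) D64823 (iv6 F411686) (iv1 D134068)
theorem F429298 : act 0 n191452 = n151331 := d21_7 F88576 F53017 (iv5 F55467) D76596 F189728 D203662 F429296 (iv5 D151331) (iv6 D71322) (iv1 F88579)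
def n203663 : Q := act 6 n120116
theorem D203663 : act 6 n120116 = n203663 := rfl
theorem F429299 : act 2 n203663 = n194188 := d3_1 D203663 F392305 F238450
theorem F429300 : act 3 n203663 = n120119 := d7_1 D203663 (iv6 D120119) (iv3 F189729)
theorem F429301 : act 4 n203663 = n189352 := d10_1 D203663 (iv6 F421743) F398884
theorem F429302 : act 5 n203663 = n201640 := d12_1 D203663 (iv6 D201640) F189731 (iv6 D120117) D120116
theorem F429303 : act 7 n203663 = n194181 := d14_2 (iv7 F238447) D203663 (iv6 D194181) F331371 F238439
theorem F429304 : act 1 n194187 = n203663 := d15_1 D194187 F429303 F392280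
theorem F429305 : act 1 n203663 = n194186 := d15_0 (iv0 D194186) D194188 (iv2 F429299)
theorem F429306 : act 4 n191706 = n194186 := d20_6 F410142 (iv1 F370130) (iv4 F395356) F395355 D190473 (iv3 F384217) (iv1 F429305) F429301 F421744 F410145
theorem F429307 : act 6 n194186 = n191705 := d10_2 D191706 F429306 (iv4 D191705)
def n203664 : Q := act 6 n120118
theorem D203664 : act 6 n120118 = n203664 := rfl
theorem F429308 : act 2 n203664 = n200746 := d3_1 D203664 (iv6 F417753) F258815
theorem F429309 : act 4 n203664 = n120119 := d10_1 D203664 (iv6 D120119) D120118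
theorem F429310 : act 5 n203664 = n200652 := d12_1 D203664 (iv6 D200652) (iv5 F396108) (iv6 F399190) F399189
theorem F429311 : act 7 n203664 = n200745 := d14_2 F258828 D203664 F417746 (iv7 F392330) F392329
theorem F429312 : act 0 n203664 = n126237 := d21_4 D106755 F399192 F399189 D203664 F203010 (iv5 D59180) (iv1 F163885) D126186 F347535 (iv1 D106754)
theorem F429313 : act 1 n203664 = n200747 := d15_1 (iv0 F429312) (iv7 D200747) (iv2 F203009)
def n203665 : Q := act 3 n120121
theorem D203665 : act 3 n120121 = n203665 := rfl
theorem F429314 : act 2 n203665 = n132936 := d0_1 D203665 (iv3 F398910) F398904 F363065 F258827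
theorem F429315 : act 4 n203665 = n158063 := d5_2 D120121 D203665 F249008 F112891 (iv3 F293788)
theorem F429316 : act 5 n203665 = n129696 := d6_2 F399845 D203665 F399847
theorem F429317 : act 6 n203665 = n158062 := d7_2 F367149 D203665 F249007
theorem F429318 : act 7 n203665 = n132934 := d8_2 F258816 D203665 F363069
theorem F429319 : act 0 n203665 = n196262 := d19_4 (iv1 F56568) D55274 D120121 D203665 F400093 (iv4 D129195) D129194 F212288 F211856 (iv4 D131236) (iv3 D61575) (iv1 D29155) D29156 D61579 (iv3 F185312) (iv1 F97958) (iv5 F210979) (iv4 F312079) F106222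
def n203666 : Q := act 3 n120122
theorem D203666 : act 3 n120122 = n203666 := rfl
theorem F429320 : act 5 n203666 = n202892 := d6_2 F410076 D203666 F426073
def n203667 : Q := act 6 n120122
theorem D203667 : act 6 n120122 = n203667 := rfl
theorem F429321 : act 4 n203667 = n120123 := d10_1 D203667 (iv6 D120123) D120122
theorem F429322 : act 0 n190645 = n203667 := d21_4 (iv5 D190643) (iv1 D96295) D96297 D190645 (iv6 D203667) (iv5 F410076) (iv1 F410078) (iv5 F238564) (iv6 F363168) (iv1 F380436)
theorem F429323 : act 5 n203667 = n198502 := d17_3 F409012 F381445 F429322 (iv4 D198502) F169865 F169864 (iv5 F408929) F408931 D198731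
def n203668 : Q := act 7 n120122
theorem D203668 : act 7 n120122 = n203668 := rfl
theorem F429324 : act 2 n203668 = n120134 := d4_1 D203668 (iv7 F214256) F214255
theorem F429325 : act 4 n203668 = n120124 := d11_1 D203668 (iv7 D120124) D120122
theorem F429326 : act 5 n203668 = n183227 := d13_1 D203668 F410079 F410076
theorem F429327 : act 1 n151671 = n203668 := d15_1 (iv0 F238526) (iv7 D203668) (iv2 F214255)
theorem F429328 : act 1 n203668 = n133648 := d15_1 F429327 F215057 (iv2 F238524)
theorem F429329 : act 6 n203668 = n200021 := d21_5 F327527 (iv1 F327194) D111793 (iv6 F360278) (iv1 F429328) (iv5 D200021) (iv1 D112254) D112255 F174600 D112260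
theorem F429330 : act 3 n200334 = n203668 := d7_3 F429329 F414654 D200334
theorem F429331 : act 7 n203666 = n200334 := d8_0 F429330 (iv7 D203668) D203666
def n203669 : Q := act 6 n120130
theorem D203669 : act 6 n120130 = n203669 := rfl
theorem F429332 : act 2 n203669 = n120138 := d3_1 D203669 (iv6 D120138) (iv2 F189750)
theorem F429333 : act 3 n203669 = n123600 := d7_1 D203669 F331909 F317258
theorem F429334 : act 4 n203669 = n120133 := d10_1 D203669 (iv6 D120133) (iv4 F189751)
theorem F429335 : act 7 n203669 = n164598 := d14_2 D120130 D203669 (iv6 D164598) (iv7 F120308) (iv6 F311856)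
theorem F429336 : act 0 n172019 = n203669 := d21_4 (iv5 F335248) (iv1 F187393) D120211 (iv6 F335263) (iv6 D203669) (iv5 F427666) (iv1 F427671) (iv5 D118561) D118562 F214920
def n203670 : Q := act 3 n120134
theorem D203670 : act 3 n120134 = n203670 := rfl
theorem F429337 : act 4 n203670 = n130559 := d5_2 D120134 D203670 F209143 F95732 (iv3 F87493)
theorem F429338 : act 0 n203670 = n179313 := d19_4 (iv1 F87476) D55283 D120134 D203670 (iv5 D179313) (iv4 D85556) F60392 (iv1 F54953) (iv5 F54955) (iv4 D18757) F311551 F23020 D16531 F26150 D16625 F54394 (iv5 D34285) D34284 (iv3 F87473)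
theorem F429339 : act 6 n178870 = n203670 := d21_9 (iv5 D179313) (iv1 F351354) D198548 F408312 (iv1 F408630) (iv6 F408632) (iv5 D157260) (iv1 F316052) D178870 F429338
def n203671 : Q := act 6 n120134
theorem D203671 : act 6 n120134 = n203671 := rfl
theorem F429340 : act 2 n203671 = n200021 := d3_1 D203671 (iv6 F429329) F429324
theorem F429341 : act 3 n203671 = n178870 := d7_1 D203671 F429339 (iv3 D203670)
theorem F429342 : act 4 n203671 = n120135 := d10_1 D203671 (iv6 D120135) D120134
theorem F429343 : act 0 n203671 = n202707 := d21_4 F238564 (iv1 F410082) F410084 D203671 (iv6 D202707) (iv5 D116470) (iv1 F181713) (iv5 F227353) F364971 (iv1 F238566)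
theorem F429344 : act 5 n203671 = n178869 := d21_6 (iv5 D111855) (iv1 D51575) D51576 (iv6 F173703) F360269 D203671 (iv1 F397080) D200001 F414563 (iv1 F174609)
theorem F429345 : act 7 n200019 = n203671 := d13_0 F429344 F390584 D200019
def n203672 : Q := act 6 n120137
theorem D203672 : act 6 n120137 = n203672 := rfl
theorem F429346 : act 2 n203672 = n198719 := d3_1 D203672 F427676 (iv2 F427670)
theorem F429347 : act 3 n203672 = n147665 := d7_1 D203672 F426520 (iv3 F426519)
theorem F429348 : act 4 n203672 = n198695 := d10_1 D203672 F410081 F410077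
theorem F429349 : act 5 n203672 = n197127 := d12_1 D203672 F403171 (iv5 F364930) (iv6 D120138) D120137
theorem F429350 : act 7 n203672 = n147683 := d14_2 F210099 D203672 (iv6 F428779) F428777 (iv6 F336409)
theorem F429351 : act 0 n195058 = n203672 := d21_4 (iv5 D49886) (iv1 F76526) D105206 D195058 (iv6 D203672) (iv5 D120137) (iv1 F189744) (iv5 F344956) (iv6 D111445) F81149
def n203673 : Q := act 6 n120182
theorem D203673 : act 6 n120182 = n203673 := rfl
theorem F429352 : act 2 n203673 = n197188 := d3_1 D203673 F403454 F214911
theorem F429353 : act 3 n203673 = n120561 := d7_1 D203673 (iv6 F192128) (iv3 F311979)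
theorem F429354 : act 4 n203673 = n120183 := d10_1 D203673 (iv6 D120183) D120182
theorem F429355 : act 7 n203673 = n149793 := d14_2 (iv7 F311980) D203673 (iv6 D149793) F106859 D72429
theorem F429356 : act 0 n203673 = n135411 := d21_4 D98489 D191511 F383624 D203673 F359868 D184243 (iv1 F386549) (iv5 F386551) (iv6 F361468) (iv1 D98488)
theorem F429357 : act 1 n203673 = n191822 := d15_1 (iv0 F429356) F384745 F384741
def n203674 : Q := act 0 n120196
theorem D203674 : act 0 n120196 = n203674 := rfl
theorem F429358 : act 5 n203674 = n175081 := d17_1 D203674 (iv1 F274060) (iv5 F274406) (iv4 F360226) (iv5 F360224) D200729 F417673 F346959 F346957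
theorem F429359 : act 4 n203674 = n121091 := d18_1 D203674 (iv1 F346937) F304979 F321836 F86812 (iv0 F110795) D118910 (iv0 F188320) D120196
theorem F429360 : act 6 n203674 = n121089 := d21_5 F210680 F313247 D83672 (iv6 F189855) D203674 F359991 F333737 (iv5 F354797) (iv6 D131442) D131440
theorem F429361 : act 2 n158427 = n203674 := d15_3 (iv0 D203674) (iv0 F191350) (iv7 F249620)
theorem F429362 : act 1 n152923 = n203674 := d15_0 (iv0 D203674) (iv7 F350693) (iv2 F350691)
theorem F429363 : act 7 n203674 = n158444 := d15_2 (iv0 F240158) F429362 F249646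
theorem F429364 : act 3 n203674 = n191392 := d0_2 D158427 F429361 (iv2 D191392) (iv3 D98247) (iv2 F118943)
def n203675 : Q := act 1 n120209
theorem D203675 : act 1 n120209 = n203675 := rfl
theorem F429365 : act 1 n203675 = n134663 := d15_1 D203675 (iv7 F364585) F366822
theorem F429366 : act 7 n203675 = n157987 := d15_2 (iv0 F353092) D203675 F306783
theorem F429367 : act 4 n203675 = n134646 := d17_9 F331733 F331728 (iv1 D76973) F317228 D83178 D173948 (iv0 F335266) F335265 D203675
theorem F429368 : act 5 n203675 = n157988 := d18_9 (iv1 F428340) (iv4 F428343) (iv1 F366863) F270558 (iv5 F307460) (iv4 F108433) (iv0 F348190) F353097 D203675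
theorem F429369 : act 3 n132771 = n203675 := d20_3 D83114 D173810 (iv4 F314804) (iv1 D203675) (iv3 D120209) (iv4 F234205) (iv1 D69876) (iv4 F86744) (iv3 F306116) (iv1 F298707)
theorem F429370 : act 6 n132766 = n203675 := d21_9 (iv5 F335265) F335266 (iv5 D173948) (iv6 F319518) (iv1 F335281) (iv6 D175336) (iv5 F312962) (iv1 F208625) D132766 (iv1 D203675)
def n203676 : Q := act 6 n120209
theorem D203676 : act 6 n120209 = n203676 := rfl
theorem F429371 : act 3 n203676 = n120212 := d7_1 D203676 (iv6 D120212) D120209
theorem F429372 : act 4 n203676 = n126908 := d10_1 D203676 (iv6 F348186) F353097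
theorem F429373 : act 5 n203676 = n197284 := d12_1 D203676 F403830 (iv5 D172021) D172022 F335265
theorem F429374 : act 7 n203676 = n126907 := d14_2 (iv7 F427697) D203676 F328681 (iv7 F212045) D203289
theorem F429375 : act 0 n172372 = n203676 := d21_4 (iv5 F392635) F392636 (iv5 D172371) D172372 (iv6 D203676) (iv5 F335265) F335266 (iv5 D173948) (iv6 F319518) (iv1 F335281)
def n203677 : Q := act 4 n120231
theorem D203677 : act 4 n120231 = n203677 := rfl
theorem F429376 : act 2 n203677 = n145642 := d1_1 D203677 F360160 F259336
theorem F429377 : act 3 n203677 = n145649 := d5_1 D203677 F228667 F318705 (iv4 F319655) (iv3 F323320)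
theorem F429378 : act 6 n203677 = n141354 := d10_2 F353520 D203677 F353518
theorem F429379 : act 7 n203677 = n157665 := d11_2 (iv7 F191431) D203677 (iv4 D157665)
theorem F429380 : act 5 n203677 = n195529 := d16_1 D203677 F397230 F351865 F305768 (iv5 D71994) D71993 (iv5 F323812) F323813 F259336
theorem F429381 : act 6 n195529 = n203227 := d12_2 (iv6 F429378) F429380 F427476 (iv6 D141355) D141354
theorem F429382 : act 3 n203227 = n195530 := d7_1 F429381 (iv6 D195530) D195529
def n203678 : Q := act 6 n120266
theorem D203678 : act 6 n120266 = n203678 := rfl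
theorem F429383 : act 3 n203678 = n198745 := d7_1 D203678 (iv6 D198745) F365871
theorem F429384 : act 4 n203678 = n162293 := d10_1 D203678 (iv6 D162293) (iv4 F191495)
def n203679 : Q := act 5 n120267
theorem D203679 : act 5 n120267 = n203679 := rfl
theorem F429385 : act 3 n203679 = n120268 := d6_1 D203679 (iv5 D120268) D120267
def n203680 : Q := act 6 n120267
theorem D203680 : act 6 n120267 = n203680 := rfl
theorem F429386 : act 3 n203680 = n120269 := d7_1 D203680 (iv6 D120269) D120267
theorem F429387 : act 4 n203680 = n180166 := d10_1 D203680 F280521 (iv4 F191498)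
theorem F429388 : act 7 n203680 = n199261 := d14_2 F253100 D203680 (iv6 D199261) F172325 F351071
theorem F429389 : act 1 n144313 = n203680 := d15_1 (iv0 F402152) F429388 F411359
theorem F429390 : act 5 n178160 = n203680 := d21_0 (iv1 F429389) (iv5 F401442) (iv6 F401437) F227040 F331827 D138460 F398729 (iv5 D134850) D134851 (iv1 F402162)
def n203681 : Q := act 6 n120268
theorem D203681 : act 6 n120268 = n203681 := rfl
theorem F429391 : act 2 n203681 = n162293 := d3_1 D203681 (iv6 D162293) (iv2 F191499)
theorem F429392 : act 5 n203681 = n178161 := d12_1 D203681 (iv6 D178161) (iv5 F297435) (iv6 D120269) D120268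
def n203682 : Q := act 3 n120270
theorem D203682 : act 3 n120270 = n203682 := rfl
theorem F429393 : act 4 n203682 = n160865 := d20_6 (iv4 D13202) F21245 D26747 D55348 D120270 D203682 (iv1 D160865) F115958 (iv3 D57940) (iv1 D27648)
theorem F429394 : act 6 n198682 = n203682 := d10_0 F429393 F408560 D198682
theorem F429395 : act 0 n125430 = n203682 := d20_10 F429393 (iv1 D160865) F115958 (iv3 D57940) (iv1 D27648) D27649 F44572 D27920 D58726 D125430
theorem F429396 : act 3 n160865 = n200779 := d20_3 F254097 F429395 F429393 (iv1 D200779) F176641 F93337 D59151 (iv4 F169876) D109903 F358156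
theorem F429397 : act 6 n200779 = n198680 := d7_2 (iv6 F408560) F429396 F408852
def n203683 : Q := act 4 n120270
theorem D203683 : act 4 n120270 = n203683 := rfl
theorem F429398 : act 2 n203683 = n126232 := d1_1 D203683 F365641 F412093
theorem F429399 : act 7 n203683 = n126231 := d11_2 (iv7 F412092) D203683 F358047
theorem F429400 : act 5 n203683 = n191185 := d16_1 D203683 F382518 (iv5 D176733) (iv4 F326721) (iv5 F149603) (iv4 F381395) F412089 (iv7 F412091) F412093
theorem F429401 : act 0 n203683 = n126226 := d20_1 D203683 F328512 (iv3 D124297) (iv1 D57944) (iv3 D27649) (iv4 D13202) F21245 D26747 D55348 D120270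
theorem F429402 : act 0 n126234 = n203683 := d20_10 (iv4 D203683) (iv1 F253402) (iv4 F327277) F176687 (iv1 F361883) (iv3 D113410) (iv4 D52352) (iv1 F76539) (iv4 F93386) (iv3 F203006)
def n203684 : Q := act 5 n120270
theorem D203684 : act 5 n120270 = n203684 := rfl
theorem F429403 : act 7 n203684 = n190167 := d13_2 (iv7 F412092) D203684 (iv5 F379022)
theorem F429404 : act 4 n203684 = n163267 := d16_4 (iv4 F382518) (iv5 F429400) (iv4 D203683) D203684 (iv5 D163267) F119667 D158871 F250134 (iv2 F276108)
theorem F429405 : act 0 n124236 = n203684 := d18_2 D187252 F381513 F429404 (iv5 D163267) F119667 D158869 (iv4 F370039) (iv0 D187372) F138114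
def n203685 : Q := act 6 n120270
theorem D203685 : act 6 n120270 = n203685 := rfl
theorem F429406 : act 2 n203685 = n198219 := d3_1 D203685 (iv6 F412240) F412093
theorem F429407 : act 3 n203685 = n198682 := d7_1 D203685 F429394 (iv3 D203682)
theorem F429408 : act 0 n198267 = n203685 := d20_4 (iv4 D58030) F297538 (iv4 F324495) (iv3 F407402) F429407 (iv4 D198682) F354542 (iv4 F268461) F268460 (iv1 F129972)
theorem F429409 : act 0 n203685 = n194596 := d19_4 (iv1 F169740) D109756 D198682 (iv3 F429407) (iv5 D194596) F159259 F75523 D103287 D194391 (iv4 F402087) (iv3 F401740) F323804 D142806 (iv4 F347428) (iv3 F418471) F418472 F394543 (iv4 F408834) (iv3 D198676)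
theorem F429410 : act 4 n198084 = n203685 := d20_0 F429409 (iv4 F393784) F276419 (iv1 F341717) (iv3 D125738) F93099 (iv1 D50288) (iv4 F79669) (iv3 F168919) D198084
theorem F429411 : act 6 n203683 = n198084 := d10_0 F429410 (iv6 D203685) D203683
theorem F429412 : act 5 n198084 = n166601 := d12_1 F429411 (iv6 D166601) D166600 (iv6 F382516) (iv5 F429400)
theorem F429413 : act 4 n180626 = n126208 := d18_7 F407405 (iv4 F407403) F429408 (iv4 F429410) F429412 F262198 D180626 (iv0 D126208) D126210
def n203686 : Q := act 3 n120271
theorem D203686 : act 3 n120271 = n203686 := rfl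
theorem F429414 : act 7 n203686 = n198221 := d8_2 F412091 D203686 F412238
def n203687 : Q := act 4 n120271
theorem D203687 : act 4 n120271 = n203687 := rfl
theorem F429415 : act 2 n203687 = n126231 := d1_1 D203687 F358047 (iv2 F412090)
theorem F429416 : act 5 n203687 = n191186 := d9_2 F412089 D203687 F382520 (iv5 D158871) (iv4 F119667) D163267 (iv4 F429404) (iv5 D203684) D203683 F429400 F382518 (iv5 D176733) (iv4 F326721) (iv5 F149603) (iv4 F381395)
theorem F429417 : act 7 n203687 = n126232 := d11_2 F412091 D203687 F365641
theorem F429418 : act 0 n203687 = n126234 := d20_1 D203687 (iv4 F412097) F412096 (iv1 F172738) D111588 (iv4 F202716) F345535 F261042 (iv3 F253400) (iv1 F253404)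
theorem E103872 : n203686 = n199445 := ((c20_5 F172739 F168010 F98198 (iv3 F172777) D199445 (iv3 D203686) D203687 F429418 (iv4 F412097) F412096 (iv1 F172738))).symm
theorem F429419 : act 3 n199445 = n120271 := (sb E103872 (iv3 D203686))
theorem F429420 : act 7 n199445 = n198221 := (sb E103872 F429414)
theorem F429421 : act 3 n203687 = n166562 := d20_9 F254499 (iv1 F250177) D176852 (iv3 F327273) (iv1 D113503) (iv3 F176687) F327277 (iv1 F253404) D203687 (iv1 F262090)
theorem F429422 : act 0 n126226 = n203687 := d20_10 (iv4 D203687) (iv1 D120271) (iv4 F122732) (iv3 D79955) (iv1 D36420) D36421 F57188 D36427 D79976 (iv3 F328511)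
theorem F429423 : act 2 n198221 = n199446 := d15_3 F412230 F412236 F429420
theorem F429424 : act 6 n199446 = n198208 := d3_2 D198221 F429423 F411335
def n203688 : Q := act 6 n120271
theorem D203688 : act 6 n120271 = n203688 := rfl
theorem F429425 : act 5 n203688 = n193237 := d12_1 D203688 (iv6 D193237) F360812 D190869 F412089
def n203689 : Q := act 5 n120272
theorem D203689 : act 5 n120272 = n203689 := rfl
theorem F429426 : act 2 n203689 = n120273 := d2_1 D203689 (iv5 D120273) D120272
def n203690 : Q := act 0 n120273
theorem D203690 : act 0 n120273 = n203690 := rfl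
def n203691 : Q := act 1 n120273
theorem D203691 : act 1 n120273 = n203691 := rfl
theorem F429427 : act 5 n203691 = n160405 := d17_7 (iv1 D129037) (iv5 F96575) (iv1 F365954) F294903 F122732 D120273 D203691 F253364 (iv4 F341825)
theorem F429428 : act 4 n190156 = n203691 := d16_0 F429427 (iv4 F405967) (iv5 F405968) (iv4 D158062) (iv5 D75289) (iv4 F112868) D158027 (iv7 F262381) (iv2 F379000)
theorem F429429 : act 6 n203691 = n190155 := d10_2 D190156 F429428 (iv4 D190155)
def n203692 : Q := act 4 n120273
theorem D203692 : act 4 n120273 = n203692 := rfl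
theorem F429430 : act 7 n203692 = n194763 := d11_2 F253406 D203692 F394375
theorem F429431 : act 5 n203692 = n187372 := d16_3 F122732 D120273 D203692 F370039 F348777 (iv4 F341830) (iv5 F348769) F327278 (iv2 D166593)
theorem F429432 : act 0 n191013 = n203692 := d17_2 F254194 (iv5 F381875) F429431 F370039 F348777 F377485 F377482 F326840 D158049
theorem F429433 : act 4 n203690 = n158027 := d18_3 F429432 (iv4 D203692) D203690 (iv5 D158027) F112868 D75287 (iv4 F358096) F358094 (iv5 F381875)
theorem F429434 : act 5 n160404 = n203690 := d19_1 D160404 F429433 F248970 F112869 (iv5 D35758) (iv4 D17329) F12883 F5676 (iv5 D1629) F1634 (iv3 F1386) F1626 F1624 (iv4 F2769) (iv3 F5645) D7980 D17058 D35136 D76893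
def n203693 : Q := act 5 n120291
theorem D203693 : act 5 n120291 = n203693 := rfl
theorem F429435 : act 0 n124258 = n203693 := d21_7 F333018 F222165 F333021 F409263 (iv1 D198793) F325613 D124258 (iv5 D203693) (iv6 F365183) (iv1 F273781)
def n203694 : Q := act 5 n120292
theorem D203694 : act 5 n120292 = n203694 := rfl
theorem F429436 : act 0 n203694 = n124258 := d17_2 (iv1 F198746) D203694 (iv5 D124258) (iv4 F122246) (iv5 F321980) F209366 F334621 D157980 F336085
def n203695 : Q := act 5 n120293
theorem D203695 : act 5 n120293 = n203695 := rfl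
theorem F429437 : act 2 n203695 = n120294 := d2_1 D203695 (iv5 D120294) D120293
def n203696 : Q := act 0 n120294
theorem D203696 : act 0 n120294 = n203696 := rfl
theorem F429438 : act 5 n203696 = n160263 := d21_2 D120294 D203696 (iv6 F413344) (iv1 F407444) F199041 D180789 (iv1 F281422) (iv5 D157924) (iv6 F330795) (iv1 D120292)
theorem F429439 : act 3 n199750 = n203696 := d6_3 F429438 F377829 D199750
theorem F429440 : act 6 n175035 = n203696 := d12_0 F429438 (iv6 F413344) F407443 (iv6 D175036) (iv5 F273947)
theorem F429441 : act 4 n176918 = n203696 := d16_6 (iv4 F281094) (iv5 F366463) F366462 (iv5 D94455) (iv4 F291652) D176918 F429438 (iv7 F262239) (iv2 F262238)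
def n203697 : Q := act 1 n120294
theorem D203697 : act 1 n120294 = n203697 := rfl
theorem F429442 : act 5 n203697 = n160264 := d17_7 (iv1 F345532) (iv5 D130167) (iv1 D61104) D61105 (iv4 F324072) D120294 D203697 F253109 (iv4 F261042)
def n203698 : Q := act 6 n120294
theorem D203698 : act 6 n120294 = n203698 := rfl
theorem F429443 : act 3 n203698 = n120296 := d7_1 D203698 (iv6 D120296) (iv3 F191548)
theorem F429444 : act 5 n203698 = n189059 := d12_1 D203698 (iv6 F384866) (iv5 D123495) F90703 D120294
theorem F429445 : act 7 n197538 = n203698 := d13_0 F429444 (iv7 F384867) D197538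
theorem F429446 : act 1 n190868 = n203698 := d17_6 D93107 D189066 (iv1 F389712) F389710 (iv4 F389269) F389270 F429444 (iv0 D189059) F143587
def n203699 : Q := act 3 n120295
theorem D203699 : act 3 n120295 = n203699 := rfl
theorem F429447 : act 2 n203699 = n199680 := d0_1 D203699 F413103 F173138 F365871 F191551
theorem F429448 : act 5 n203699 = n160261 := d6_2 (iv5 F191549) D203699 (iv3 D160261)
theorem F429449 : act 7 n203699 = n203679 := d8_2 (iv7 F191553) D203699 F429385
theorem F429450 : act 6 n196878 = n203699 := d12_0 F429448 (iv6 F351071) (iv5 D107412) D107413 D196878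
def n203700 : Q := act 6 n120295
theorem D203700 : act 6 n120295 = n203700 := rfl
theorem F429451 : act 2 n203700 = n203678 := d3_1 D203700 (iv6 D203678) F191551
theorem F429452 : act 3 n203700 = n196878 := d7_1 D203700 F429450 (iv3 D203699)
theorem F429453 : act 4 n203700 = n203681 := d10_1 D203700 (iv6 D203681) (iv4 F191550)
theorem F429454 : act 5 n203700 = n196876 := d12_1 D203700 (iv6 D196876) F351079 F324501 (iv5 F191549)
theorem F429455 : act 0 n203700 = n200107 := d21_4 (iv5 D76807) D76805 (iv5 F191549) D203700 F415038 (iv5 D196614) F400636 F400635 (iv6 D162235) F119156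
def n203701 : Q := act 5 n120299
theorem D203701 : act 5 n120299 = n203701 := rfl
theorem F429456 : act 3 n203701 = n192984 := d6_1 D203701 F388425 (iv3 F302433)
theorem F429457 : act 7 n203701 = n171090 := d13_2 (iv7 F302435) D203701 (iv5 D171090)
theorem F429458 : act 0 n203701 = n179881 := d17_2 (iv1 F303722) D203701 (iv5 D179881) F304301 (iv5 F151594) (iv0 F353096) (iv5 D158142) (iv0 F315279) (iv4 F191142)
theorem F429459 : act 1 n203701 = n182128 := d17_6 F330178 (iv5 D58702) D58699 D125350 F353902 D203701 (iv5 F389105) F389108 F217608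
def n203702 : Q := act 5 n120300
theorem D203702 : act 5 n120300 = n203702 := rfl
theorem F429460 : act 2 n203702 = n120304 := d2_1 D203702 (iv5 D120304) (iv2 F191557)
theorem F429461 : act 3 n203702 = n120431 := d6_1 D203702 (iv5 D120431) (iv3 F191558)
theorem F429462 : act 0 n203702 = n193378 := d17_2 (iv1 F315465) D203702 (iv5 D193378) F319765 F98962 F207213 (iv5 F25495) D33173 D71762
def n203703 : Q := act 5 n120301
theorem D203703 : act 5 n120301 = n203703 := rfl
theorem F429463 : act 3 n203703 = n120308 := d6_1 D203703 (iv5 D120308) (iv3 F191560)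
theorem F429464 : act 6 n203703 = n120304 := d12_2 D120301 D203703 (iv5 D120304) (iv6 D55364) D55363
def n203704 : Q := act 4 n120304
theorem D203704 : act 4 n120304 = n203704 := rfl
def n203705 : Q := act 7 n120304
theorem D203705 : act 7 n120304 = n203705 := rfl
theorem F429465 : act 3 n203705 = n120318 := d8_1 D203705 (iv7 D120318) (iv3 F191561)
theorem F429466 : act 5 n203705 = n120305 := d13_1 D203705 (iv7 D120305) D120304
theorem F429467 : act 0 n193378 = n203705 := d17_2 (iv1 F199582) D193378 F429466 F191563 (iv5 F316616) (iv0 F213150) (iv5 F317519) (iv0 F317281) F317284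
def n203706 : Q := act 5 n120306
theorem D203706 : act 5 n120306 = n203706 := rfl
theorem F429468 : act 2 n203706 = n120462 := d2_1 D203706 (iv5 D120462) (iv2 F355564)
theorem F429469 : act 6 n203706 = n198763 := d12_2 (iv6 F198326) D203706 F409131 (iv6 D123889) D123888
theorem F429470 : act 7 n203706 = n120467 := d13_2 (iv7 F355565) D203706 (iv5 D120467)
theorem F429471 : act 1 n203706 = n199385 := d17_6 (iv1 F360246) F343212 (iv1 F343224) (iv5 F301782) (iv4 F350756) D203706 (iv5 D199385) F342808 (iv4 F246024)
theorem F429472 : act 4 n198764 = n203706 := d11_3 F429470 (iv4 F412694) F412696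
theorem F429473 : act 0 n202725 = n198764 := d18_2 (iv1 F343181) (iv4 F425295) F429472 (iv5 D203706) F350756 (iv0 D122651) (iv4 F90561) D123251 (iv5 F341409)
def n203707 : Q := act 2 n120310
theorem D203707 : act 2 n120310 = n203707 := rfl
theorem F429474 : act 3 n203707 = n120475 := d0_2 D120310 D203707 (iv2 D120475) (iv3 D55460) (iv2 F115895)
theorem F429475 : act 4 n203707 = n167614 := d1_2 (iv4 F191572) D203707 (iv2 D167614)
theorem F429476 : act 5 n203707 = n136394 := d2_2 F367931 D203707 F367934
theorem F429477 : act 7 n203707 = n120486 := d4_2 (iv7 F191573) D203707 (iv2 D120486)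
theorem F429478 : act 1 n203707 = n120409 := d15_0 F303682 (iv7 F191573) D203707
theorem F429479 : act 1 n120485 = n203707 := d15_0 F429478 (iv7 F404580) F404577
theorem F429480 : act 6 n203707 = n192857 := d21_5 D27530 D57614 F90761 D120409 (iv1 F429478) F390231 (iv1 D193549) (iv5 D101899) F311722 (iv1 D27527)
def n203708 : Q := act 6 n120310
theorem D203708 : act 6 n120310 = n203708 := rfl
theorem F429481 : act 2 n203708 = n192857 := d3_1 D203708 (iv6 F429480) (iv2 D203707)
theorem F429482 : act 3 n203708 = n120312 := d7_1 D203708 (iv6 D120312) D120310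
theorem F429483 : act 4 n203708 = n167616 := d10_1 D203708 (iv6 D167616) (iv4 F191572)
theorem F429484 : act 7 n203708 = n171033 := d14_2 (iv7 F191573) D203708 (iv6 D171033) F155510 (iv6 F300967)
theorem F429485 : act 5 n203708 = n124047 := d21_6 F83235 (iv1 F177689) F177691 D122798 F300575 D203708 (iv1 F390225) F377190 F309794 (iv1 F90320)
theorem F429486 : act 1 n191366 = n203708 := d15_1 (iv0 F388025) F429484 F268751
theorem F429487 : act 1 n203708 = n192855 := d15_1 F429486 (iv7 F388031) (iv2 F383222)
def n203709 : Q := act 6 n120311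
theorem D203709 : act 6 n120311 = n203709 := rfl
theorem F429488 : act 2 n203709 = n120480 := d3_1 D203709 (iv6 D120480) (iv2 F191574)
theorem F429489 : act 3 n203709 = n194678 := d7_1 D203709 F394062 F367933
theorem F429490 : act 4 n203709 = n192699 := d10_1 D203709 F387520 (iv4 F301586)
theorem F429491 : act 5 n203709 = n124049 := d12_1 D203709 (iv6 D124049) (iv5 F191579) (iv6 D120312) D120311
def n203710 : Q := act 1 n120313
theorem D203710 : act 1 n120313 = n203710 := rfl
theorem F429492 : act 7 n203710 = n120391 := d15_2 F355258 D203710 (iv2 F311450)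
theorem F429493 : act 5 n203710 = n148141 := d18_9 (iv1 F357331) (iv4 F352312) (iv1 F209670) (iv4 F384482) F384481 F235627 (iv0 F131156) (iv4 F191581) D203710
theorem F429494 : act 3 n192581 = n203710 := d20_3 F387078 (iv1 F385285) (iv4 F387160) (iv1 D203710) (iv3 D120313) (iv4 F91434) (iv1 D56939) (iv4 F87644) (iv3 F154412) D192562
theorem F429495 : act 4 n157441 = n203710 := d20_6 F29088 (iv1 F116630) (iv4 F311413) (iv3 F112415) F307946 (iv3 F307935) (iv1 D203710) F191581 (iv3 D81591) (iv1 D37276)
theorem F429496 : act 2 n203710 = n120473 := d1_1 F429495 F366736 D157441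
theorem F429497 : act 6 n203710 = n133590 := d10_2 (iv6 F247996) F429495 F215546
theorem F429498 : act 1 n203710 = n120475 := d18_6 F209592 (iv4 D129882) (iv1 F208670) F307932 (iv5 F307936) F429495 (iv4 F235638) (iv0 D149798) (iv5 F308204)
def n203711 : Q := act 2 n120313
theorem D203711 : act 2 n120313 = n203711 := rfl
theorem F429499 : act 3 n203711 = n120486 := d0_2 D120313 D203711 (iv2 D120486) (iv3 D55465) (iv2 F115901)
theorem F429500 : act 4 n203711 = n143797 := d1_2 (iv4 F191581) D203711 F318435
theorem F429501 : act 6 n203711 = n143796 := d3_2 (iv6 F301211) D203711 F318430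
theorem F429502 : act 7 n203711 = n120475 := d4_2 (iv7 F191582) D203711 (iv2 D120475)
theorem F429503 : act 1 n203711 = n120473 := d15_0 (iv0 D120473) (iv7 F191582) D203711
theorem F429504 : act 1 n120391 = n203711 := d15_0 F429503 F366738 F311450
theorem F429505 : act 5 n203711 = n132235 := d19_1 (iv1 F429503) (iv4 D132235) F96675 D62040 F96679 F47178 F23954 (iv1 F18474) (iv5 F18454) F8820 F4423 (iv1 F7995) (iv5 F8147) F26535 D14119 F47752 (iv5 F78839) (iv4 F108151) (iv3 F366735)
def n203712 : Q := act 5 n120313
theorem D203712 : act 5 n120313 = n203712 := rfl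
theorem F429506 : act 2 n203712 = n132235 := d2_1 D203712 (iv5 F429505) (iv2 D203711)
theorem F429507 : act 3 n203712 = n120314 := d6_1 D203712 (iv5 D120314) D120313
theorem F429508 : act 4 n203712 = n132231 := d9_1 D203712 (iv5 D132231) F96670 D62080 D132324 (iv5 F355256) F235638 (iv5 F355255) (iv4 D129472) (iv5 D60841) F46496 D28871 D60868 F309761 (iv4 F191581)
theorem F429509 : act 6 n203712 = n146945 := d12_2 (iv6 F301211) D203712 F424888 F424885 (iv5 D171027)
theorem F429510 : act 7 n203712 = n120476 := d13_2 (iv7 F191582) D203712 (iv5 D120476)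
theorem F429511 : act 0 n203712 = n197168 := d17_2 (iv1 D203710) D203712 (iv5 D197168) (iv4 F210625) (iv5 F313737) D159078 (iv5 F351940) (iv0 F351942) F429495
def n203713 : Q := act 6 n120318
theorem D203713 : act 6 n120318 = n203713 := rfl
theorem F429512 : act 2 n203713 = n120506 := d3_1 D203713 (iv6 D120506) (iv2 F191595)
theorem F429513 : act 4 n203713 = n124020 := d10_1 D203713 (iv6 D124020) (iv4 F191596)
theorem F429514 : act 0 n203713 = n191333 := d21_4 (iv5 D55462) (iv1 F87636) (iv5 F191597) D203713 (iv6 D191333) (iv5 D98081) (iv1 D45802) D45803 F72305 (iv1 F301830)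
def n203714 : Q := act 6 n120321
theorem D203714 : act 6 n120321 = n203714 := rfl
theorem F429515 : act 2 n203714 = n120524 := d3_1 D203714 (iv6 D120524) (iv2 F191610)
theorem F429516 : act 5 n203714 = n177923 := d12_1 D203714 (iv6 D177923) (iv5 F301822) (iv6 D120322) D120321
theorem F429517 : act 7 n203714 = n202659 := d14_2 (iv7 F191611) D203714 (iv6 D202659) F363036 (iv6 D120544)
def n203715 : Q := act 0 n120369
theorem D203715 : act 0 n120369 = n203715 := rfl
theorem F429518 : act 4 n203715 = n146660 := d18_3 (iv1 F393551) F276450 D203715 F229957 D152788 F423709 (iv4 F245524) F393564 F393552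
theorem F429519 : act 6 n203715 = n146659 := d21_5 (iv5 F310229) (iv1 D55406) D55408 D120369 D203715 (iv5 F358661) (iv1 F245985) (iv5 F358649) F312498 F310227
theorem F429520 : act 2 n153639 = n203715 := d3_3 F429519 F229955 (iv6 F348677)
theorem F429521 : act 3 n202923 = n203715 := d7_3 F429519 (iv3 F361431) F426209
def n203716 : Q := act 1 n120369
theorem D203716 : act 1 n120369 = n203716 := rfl
theorem F429522 : act 7 n203716 = n153639 := d15_2 (iv0 D203715) D203716 F429520
theorem F429523 : act 4 n203716 = n142603 := d18_7 (iv1 D65569) (iv4 F101271) D139641 F426967 F424569 F276450 D203716 (iv0 F349381) (iv5 D139699)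
theorem F429524 : act 0 n203203 = n203098 := d17_2 (iv1 D203716) (iv5 F427392) (iv5 D203098) (iv4 D117670) D117671 F341173 (iv5 F321134) (iv0 F345703) (iv4 F429523)
theorem F429525 : act 3 n153389 = n203716 := d20_3 (iv4 F342715) (iv1 F342726) (iv4 F342728) (iv1 D203716) F191743 (iv4 F87722) D120400 (iv4 F356367) F356366 (iv1 F308372)
theorem F429526 : act 6 n134398 = n203716 := d10_0 F429523 (iv6 D142603) (iv4 F363097)
def n203717 : Q := act 0 n120376
theorem D203717 : act 0 n120376 = n203717 := rfl
theorem F429527 : act 5 n203717 = n134326 := d17_3 F340884 D120376 D203717 F329907 (iv5 D82034) (iv0 D37593) (iv5 F301731) (iv0 F304454) D102472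
theorem F429528 : act 2 n122713 = n203717 := d2_3 F429527 (iv2 F363024) (iv5 F356509)
theorem F429529 : act 7 n122714 = n203717 := d13_0 F429527 (iv7 D134326) (iv5 F329110)
theorem F429530 : act 0 n203717 = n122716 := d21_7 (iv5 D47536) D47534 (iv5 F335628) (iv6 F364410) F410560 (iv6 F410561) (iv5 F429527) F196564 (iv6 F304016) (iv1 D102471)
def n203718 : Q := act 1 n120376
theorem D203718 : act 1 n120376 = n203718 := rfl
theorem F429531 : act 1 n203718 = n122716 := d15_1 D203718 (iv7 D122716) (iv2 F191749)
theorem F429532 : act 7 n203718 = n122713 := d15_2 (iv0 D203717) D203718 F429528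
theorem F429533 : act 5 n131924 = n203718 := d21_6 F87655 F44217 D27417 D57238 (iv1 F328717) D131924 (iv1 D203718) (iv5 D120376) (iv6 D55410) (iv1 F87653)
theorem F429534 : act 2 n203718 = n122714 := d2_1 F429533 F329110 (iv2 F211389)
theorem F429535 : act 6 n203718 = n131926 := d12_2 D131924 F429533 (iv5 D131926) (iv6 D61903) D61902
theorem F429536 : act 3 n191465 = n203718 := d7_3 F429535 (iv3 F384058) (iv6 F384059)
def n203719 : Q := act 4 n120376
theorem D203719 : act 4 n120376 = n203719 := rfl
theorem F429537 : act 2 n203719 = n122715 := d1_1 D203719 (iv4 D122715) (iv2 F191749)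
theorem F429538 : act 6 n203719 = n120383 := d10_2 (iv6 F191750) D203719 (iv4 D120383)
def n203720 : Q := act 7 n120376
theorem D203720 : act 7 n120376 = n203720 := rfl
theorem F429539 : act 2 n203720 = n122716 := d4_1 D203720 (iv7 D122716) (iv2 F191749)
theorem F429540 : act 5 n203720 = n120377 := d13_1 D203720 (iv7 D120377) D120376
theorem F429541 : act 6 n203720 = n122410 := d14_1 D203720 (iv7 D122410) F89708 (iv7 F302701) (iv6 F191750)
theorem F429542 : act 1 n122714 = n203720 := d15_1 D122714 (iv7 D203720) F191749
theorem F429543 : act 1 n203720 = n122713 := d15_1 F429542 (iv7 F429532) F429534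
def n203721 : Q := act 6 n120381
theorem D203721 : act 6 n120381 = n203721 := rfl
theorem F429544 : act 2 n203721 = n122431 := d3_1 D203721 (iv6 D122431) F302130
theorem F429545 : act 5 n203721 = n124367 := d12_1 D203721 (iv6 D124367) (iv5 D57978) (iv6 F301710) (iv5 F191764)
def n203722 : Q := act 3 n120383
theorem D203722 : act 3 n120383 = n203722 := rfl
theorem F429546 : act 7 n203722 = n122434 := d8_2 (iv7 F304605) D203722 (iv3 D122434)
def n203723 : Q := act 5 n120385
theorem D203723 : act 5 n120385 = n203723 := rfl
theorem F429547 : act 2 n203723 = n153681 := d2_1 D203723 (iv5 D153681) (iv2 F191773)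
theorem F429548 : act 3 n203723 = n120386 := d6_1 D203723 (iv5 D120386) D120385
theorem F429549 : act 7 n203723 = n122460 := d13_2 F301012 D203723 (iv5 D122460)
def n203724 : Q := act 6 n120386
theorem D203724 : act 6 n120386 = n203724 := rfl
theorem F429550 : act 2 n203724 = n122450 := d3_1 D203724 (iv6 D122450) F301688
theorem F429551 : act 5 n203724 = n185185 := d12_1 D203724 (iv6 F364084) F302096 F299271 D120386
def n203725 : Q := act 5 n120390
theorem D203725 : act 5 n120390 = n203725 := rfl
theorem F429552 : act 3 n203725 = n192052 := d6_1 D203725 F385354 (iv3 F351920)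
theorem F429553 : act 7 n203725 = n192069 := d13_2 (iv7 F351922) D203725 F385420
theorem F429554 : act 0 n203725 = n192826 := d17_2 (iv1 F351919) D203725 (iv5 D192826) F303706 (iv5 F188619) (iv0 D55166) (iv5 F54512) (iv0 F130938) (iv4 F239833)
def n203726 : Q := act 6 n120394
theorem D203726 : act 6 n120394 = n203726 := rfl
theorem F429555 : act 2 n203726 = n201511 := d3_1 D203726 (iv6 D201511) (iv2 F191798)
theorem F429556 : act 3 n203726 = n177031 := d7_1 D203726 (iv6 D177031) (iv3 F191799)
theorem F429557 : act 4 n203726 = n120395 := d10_1 D203726 (iv6 D120395) D120394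
theorem F429558 : act 0 n203726 = n190703 := d21_4 F147545 F129494 (iv5 F191801) D203726 F380679 (iv5 F261826) (iv1 F273263) D179986 (iv6 F309792) F187341
theorem F429559 : act 1 n203726 = n202970 := d15_1 (iv0 F429558) F426438 F393508
def n203727 : Q := act 7 n120395
theorem D203727 : act 7 n120395 = n203727 := rfl
theorem F429560 : act 2 n203727 = n193593 := d4_1 D203727 F390387 F367883
theorem F429561 : act 3 n203727 = n120403 := d8_1 D203727 (iv7 D120403) (iv3 F191803)
theorem F429562 : act 5 n203727 = n190170 := d13_1 D203727 F379029 F356971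
theorem F429563 : act 6 n203727 = n123781 := d14_1 D203727 (iv7 D123781) (iv6 D57694) (iv7 F87719) D120395
theorem F429564 : act 1 n192079 = n203727 := d15_1 (iv0 F385457) (iv7 D203727) (iv2 F367883)
def n203728 : Q := act 5 n120418
theorem D203728 : act 5 n120418 = n203728 := rfl
theorem F429565 : act 2 n203728 = n123790 := d2_1 D203728 (iv5 D123790) (iv2 F356375)
theorem F429566 : act 7 n203728 = n123785 := d13_2 (iv7 F356377) D203728 (iv5 D123785)
def n203729 : Q := act 0 n120419
theorem D203729 : act 0 n120419 = n203729 := rfl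
theorem F429567 : act 5 n203729 = n134245 := d17_3 (iv1 D120418) D120419 D203729 (iv4 F411529) F411530 F336775 (iv5 F297097) (iv0 F336772) (iv4 F336777)
theorem F429568 : act 7 n123793 = n203729 := d13_0 F429567 (iv7 D134245) (iv5 F329806)
theorem F429569 : act 1 n123795 = n203729 := d17_6 (iv1 D89517) (iv5 D41799) F335597 (iv5 F304458) (iv4 F90877) (iv5 F198267) F429567 F369020 F360251
theorem F429570 : act 2 n203729 = n123792 := d15_3 (iv0 D123792) D123793 F429568
def n203730 : Q := act 1 n120419
theorem D203730 : act 1 n120419 = n203730 := rfl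
theorem F429571 : act 1 n203730 = n123795 := d15_1 D203730 (iv7 D123795) (iv2 F191835)
theorem F429572 : act 7 n203730 = n123792 := d15_2 (iv0 D203729) D203730 (iv2 F429570)
theorem F429573 : act 5 n203730 = n134040 := d17_7 F335626 F329681 (iv1 D81930) (iv5 F301277) (iv4 F87725) D120419 D203730 (iv0 F369017) (iv4 D187068)
theorem F429574 : act 6 n134042 = n203730 := d21_3 (iv5 F342835) F207863 D134042 (iv1 D203730) F191836 (iv5 D55440) (iv1 F121343) D37418 D81803 D170660
theorem F429575 : act 2 n203730 = n123793 := d3_1 F429574 F329807 (iv2 F216035)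
def n203731 : Q := act 4 n120419
theorem D203731 : act 4 n120419 = n203731 := rfl
theorem F429576 : act 2 n203731 = n123794 := d1_1 D203731 (iv4 D123794) (iv2 F191835)
theorem F429577 : act 3 n203731 = n191373 := d5_1 D203731 F383246 F343484 (iv4 F368412) F368414
theorem F429578 : act 6 n203731 = n120422 := d10_2 (iv6 F191836) D203731 (iv4 D120422)
theorem F429579 : act 5 n203731 = n191484 := d16_1 D203731 F383544 F151815 F72613 (iv5 F304458) (iv4 F90877) (iv5 F198267) (iv7 D123795) (iv2 F191835)
theorem F429580 : act 7 n191483 = n203731 := d13_0 F429579 (iv7 D191484) D191483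
def n203732 : Q := act 7 n120419
theorem D203732 : act 7 n120419 = n203732 := rfl
theorem F429581 : act 2 n203732 = n123795 := d4_1 D203732 (iv7 D123795) (iv2 F191835)
theorem F429582 : act 3 n203732 = n192318 := d8_1 D203732 F386407 F368414
theorem F429583 : act 4 n203732 = n191483 := d11_1 D203732 F429580 (iv4 D203731)
theorem F429584 : act 5 n203732 = n120420 := d13_1 D203732 (iv7 D120420) D120419
theorem F429585 : act 6 n203732 = n182176 := d14_1 D203732 F352775 F151424 (iv7 F300580) (iv6 F191836)
theorem F429586 : act 1 n123793 = n203732 := d15_1 D123793 (iv7 D203732) F191835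
theorem F429587 : act 1 n203732 = n123792 := d15_1 F429586 (iv7 F429572) F429575
def n203733 : Q := act 3 n120421
theorem D203733 : act 3 n120421 = n203733 := rfl
theorem F429588 : act 2 n203733 = n182128 := d0_1 D203733 (iv3 D182128) (iv2 F308322) F242216 (iv2 F191845)
theorem F429589 : act 5 n203733 = n123304 := d6_2 F191844 D203733 F197593
theorem F429590 : act 7 n203733 = n179881 := d8_2 F301694 D203733 F280146
theorem F429591 : act 0 n171090 = n203733 := d17_2 F286389 D171090 F429589 F197594 (iv5 F329440) (iv0 F340649) F278246 F344416 (iv4 F303724)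
def n203734 : Q := act 3 n120422
theorem D203734 : act 3 n120422 = n203734 := rfl
theorem F429592 : act 4 n203734 = n202534 := d5_2 D120422 D203734 (iv3 F424404) F383499 F191830
theorem F429593 : act 6 n203734 = n191373 := d7_2 F429578 D203734 (iv3 F429577)
theorem F429594 : act 7 n203734 = n191375 := d8_2 F366891 D203734 (iv3 D191375)
theorem F429595 : act 0 n202526 = n203734 := d18_2 (iv1 D202525) D202526 F429592 F424399 F332938 (iv0 F101817) (iv4 F224148) F411721 (iv5 F424378)
def n203735 : Q := act 5 n120427
theorem D203735 : act 5 n120427 = n203735 := rfl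
theorem F429596 : act 2 n203735 = n192890 := d2_1 D203735 F388113 (iv2 F304527)
theorem F429597 : act 3 n203735 = n120428 := d6_1 D203735 (iv5 D120428) (iv3 F191860)
theorem F429598 : act 6 n203735 = n151518 := d12_2 D120427 D203735 (iv5 D151518) (iv6 D71431) (iv5 F87732)
theorem F429599 : act 7 n203735 = n181939 := d13_2 (iv7 F304528) D203735 (iv5 D181939)
theorem F429600 : act 0 n203735 = n192888 := d17_2 (iv1 F304526) D203735 F388109 (iv4 F332436) (iv5 F424664) (iv0 F424667) (iv5 D122602) D122601 F340965
theorem F429601 : act 1 n203735 = n192887 := d17_6 D71645 (iv5 F313502) (iv1 F184492) (iv5 F318168) (iv4 F191861) D203735 F388107 (iv0 D151961) F108134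
def n203736 : Q := act 4 n120428
theorem D203736 : act 4 n120428 = n203736 := rfl
theorem F429602 : act 2 n203736 = n157563 := d1_1 D203736 (iv4 D157563) (iv2 F191862)
theorem F429603 : act 6 n203736 = n154327 := d10_2 (iv6 F191863) D203736 (iv4 D154327)
theorem F429604 : act 7 n203736 = n181962 := d11_2 (iv7 F304530) D203736 (iv4 D181962)
theorem F429605 : act 0 n203736 = n182137 := d18_2 (iv1 F304529) D203736 (iv4 F306626) F306627 F282535 (iv0 F330110) F198240 (iv0 F308443) F309031
theorem F429606 : act 1 n203736 = n182136 := d18_6 (iv1 F109000) (iv4 F205765) (iv1 D60127) (iv4 F87735) D120428 D203736 F365221 F240990 F109185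
def n203737 : Q := act 4 n120431
theorem D203737 : act 4 n120431 = n203737 := rfl
theorem F429607 : act 2 n203737 = n120450 := d1_1 D203737 (iv4 D120450) (iv2 F191869)
theorem F429608 : act 6 n203737 = n188904 := d10_2 F242325 D203737 F375177
theorem F429609 : act 5 n203737 = n189714 := d16_1 D203737 (iv4 F378989) (iv5 D190150) F347835 F87813 (iv4 F87750) (iv5 F191891) (iv7 D120451) (iv2 F191869)
theorem F429610 : act 0 n203737 = n183097 := d17_0 F335103 D190369 F379577 (iv4 D98100) (iv5 D45807) D45806 D98096 (iv0 F356770) D203737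
theorem F429611 : act 1 n203737 = n183089 := d18_6 (iv1 F307359) F307361 (iv1 D55516) (iv4 F87737) D120431 D203737 (iv4 D183089) (iv0 F308830) F240876
theorem F429612 : act 3 n203737 = n188833 := d20_3 (iv4 D191338) F306350 D203737 (iv1 D188833) F143188 (iv4 F250837) (iv1 F421895) (iv4 D201818) D201817 F421897
theorem F429613 : act 0 n187510 = n188904 := d21_4 F139542 D187491 F370556 D187510 (iv6 F429608) F429609 F377501 F376170 F362826 (iv1 F364373)
def n203738 : Q := act 7 n120434
theorem D203738 : act 7 n120434 = n203738 := rfl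
theorem F429614 : act 2 n203738 = n150246 := d4_1 D203738 (iv7 D150246) (iv2 F191880)
theorem F429615 : act 3 n203738 = n180609 := d8_1 D203738 (iv7 F414376) F414370
theorem F429616 : act 4 n203738 = n120438 := d11_1 D203738 (iv7 D120438) (iv4 F191881)
theorem F429617 : act 5 n203738 = n195040 := d13_1 D203738 F395534 (iv5 F353609)
theorem F429618 : act 6 n203738 = n157576 := d14_1 D203738 (iv7 D157576) (iv6 D75014) (iv7 F87740) D120434
theorem F429619 : act 1 n150244 = n203738 := d15_1 D150244 (iv7 D203738) F191880
theorem F429620 : act 1 n203738 = n150243 := d15_1 F429619 (iv7 F350719) (iv2 F347994)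
def n203739 : Q := act 0 n120437
theorem D203739 : act 0 n120437 = n203739 := rfl
theorem F429621 : act 5 n203739 = n154379 := d17_3 (iv1 D120436) D120437 D203739 (iv4 F361988) (iv5 D113291) D113289 (iv5 F176498) D147355 (iv4 F353625)
theorem F429622 : act 6 n203739 = n199571 := d21_5 F304537 (iv1 D55450) D55451 (iv6 F191883) D203739 (iv5 D199571) (iv1 F172941) D134994 F349709 (iv1 F151237)
theorem F429623 : act 7 n154378 = n203739 := d14_0 F429622 F412718 (iv6 F332715) F370643 (iv6 F370634)
theorem F429624 : act 0 n203739 = n189591 := d21_10 F377054 (iv1 F242330) F356632 (iv6 D183181) (iv1 F294736) D91183 F328749 D111435 D199571 (iv6 F429622)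
def n203740 : Q := act 1 n120437
theorem D203740 : act 1 n120437 = n203740 := rfl
theorem F429625 : act 1 n203740 = n189591 := d15_1 D203740 F377053 F242324
theorem F429626 : act 4 n200645 = n203740 := d20_6 F370740 (iv1 F371887) (iv4 F387852) F387855 (iv1 F231793) (iv3 F417344) (iv1 D203740) (iv4 F371901) (iv3 D187943) (iv1 F370745)
theorem F429627 : act 5 n153823 = n203740 := d21_6 (iv5 D27539) (iv1 F21942) D16222 D33570 D72763 D153823 (iv1 D203740) (iv5 D120437) (iv6 D55448) (iv1 F44431)
theorem F429628 : act 2 n203740 = n154378 := d2_1 F429627 (iv5 D154378) (iv2 F354979)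
theorem F429629 : act 6 n185162 = n203740 := d3_0 F429628 F370634 (iv2 F370641)
def n203741 : Q := act 7 n120437
theorem D203741 : act 7 n120437 = n203741 := rfl
theorem F429630 : act 2 n203741 = n189591 := d4_1 D203741 F377053 F242324
theorem F429631 : act 3 n203741 = n120472 := d8_1 D203741 (iv7 D120472) (iv3 F191882)
theorem F429632 : act 5 n203741 = n120438 := d13_1 D203741 (iv7 D120438) D120437
theorem F429633 : act 6 n203741 = n189577 := d14_1 D203741 F377028 F366867 (iv7 D120451) (iv6 F191883)
theorem F429634 : act 1 n154378 = n203741 := d15_1 (iv0 F242454) (iv7 D203741) (iv2 F242324)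
def n203742 : Q := act 1 n120450
theorem D203742 : act 1 n120450 = n203742 := rfl
theorem F429635 : act 7 n203742 = n183097 := d15_2 (iv0 F420912) D203742 (iv2 F420907)
theorem F429636 : act 5 n203742 = n143662 := d17_7 (iv1 F380316) F377982 (iv1 F347839) D190854 F381337 F376610 D203742 F364052 (iv4 F380313)
theorem F429637 : act 4 n203742 = n153318 := d17_9 (iv1 D153318) (iv5 D72438) (iv1 F192132) (iv5 F311630) D183105 F364047 F376612 F376610 D203742
theorem F429638 : act 6 n143665 = n203742 := d21_9 (iv5 F376610) (iv1 F376612) (iv5 F364047) F364059 (iv1 F364351) F364352 (iv5 D140835) F321309 D143665 (iv1 D203742)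
theorem F429639 : act 2 n203742 = n183089 := d3_1 F429638 (iv6 F425372) F425371
theorem F429640 : act 3 n203742 = n145030 := d7_1 F429638 F227984 (iv3 F226350)
def n203743 : Q := act 7 n120450
theorem D203743 : act 7 n120450 = n203743 := rfl
theorem F429641 : act 4 n203743 = n120451 := d11_1 D203743 (iv7 D120451) D120450
theorem F429642 : act 1 n183089 = n203743 := d15_1 F429611 (iv7 D203743) (iv2 F429607)
theorem F429643 : act 1 n203743 = n183097 := d15_1 F429642 (iv7 F429635) F429639
theorem F429644 : act 6 n189592 = n203743 := d10_0 F429641 (iv6 F366867) D189592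
def n203744 : Q := act 5 n120454
theorem D203744 : act 5 n120454 = n203744 := rfl
theorem F429645 : act 2 n203744 = n203001 := d2_1 D203744 (iv5 D203001) F353586
theorem F429646 : act 3 n203744 = n120457 := d6_1 D203744 (iv5 D120457) (iv3 F191901)
theorem F429647 : act 6 n203744 = n160272 := d12_2 D120454 D203744 (iv5 D160272) (iv6 D76810) (iv5 F87752)
theorem F429648 : act 7 n203744 = n202999 := d13_2 (iv7 F353585) D203744 (iv5 D202999)
theorem F429649 : act 4 n203744 = n202630 := d16_2 F414371 D203744 (iv5 D202630) F344431 F362472 F262030 D166484 F350705 F414374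
def n203745 : Q := act 5 n120456
theorem D203745 : act 5 n120456 = n203745 := rfl
theorem F429650 : act 2 n203745 = n137382 := d2_1 D203745 F355559 (iv2 F357681)
theorem F429651 : act 3 n203745 = n143089 := d6_1 D203745 (iv5 F347294) (iv3 F357682)
theorem F429652 : act 7 n203745 = n160299 := d13_2 (iv7 F357684) D203745 (iv5 D160299)
theorem F429653 : act 4 n203745 = n193894 := d16_4 D140502 F341409 (iv4 F357683) D203745 (iv5 F400907) F400906 (iv5 F224960) F224961 F223658
theorem F429654 : act 0 n203745 = n134190 := d17_2 (iv1 F191902) D203745 (iv5 D134190) (iv4 F172433) D199320 (iv0 F411658) (iv5 D120467) F191570 F191568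
theorem F429655 : act 1 n203745 = n193146 := d17_6 (iv1 F216085) D134438 F343202 F341409 (iv4 F357683) D203745 F388916 F342802 (iv4 F342801)
def n203746 : Q := act 4 n120457
theorem D203746 : act 4 n120457 = n203746 := rfl
theorem F429656 : act 2 n203746 = n160308 := d1_1 D203746 (iv4 D160308) (iv2 F191903)
theorem F429657 : act 3 n203746 = n200508 := d5_1 D203746 F416780 (iv3 F424835) (iv4 F429649) F429646
theorem F429658 : act 6 n203746 = n124385 := d10_2 (iv6 F191904) D203746 F301835
theorem F429659 : act 5 n203746 = n140495 := d16_1 D203746 (iv4 D140495) D140496 (iv4 F404706) F404707 F191568 (iv5 F253211) (iv7 D160309) (iv2 F191903)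
theorem F429660 : act 0 n203746 = n202291 := d17_0 (iv5 D202291) (iv1 F360819) F422427 (iv4 F422447) F422448 F342803 D199324 F411710 D203746
theorem F429661 : act 0 n136373 = n203744 := d20_4 (iv4 F177152) F328268 (iv4 F99803) (iv3 F219490) F429646 D203746 F429660 (iv4 F426663) (iv3 D203020) (iv1 D117541)
theorem F429662 : act 0 n178664 = n203746 := d20_10 (iv4 D203746) (iv1 F411710) F411708 (iv3 D115358) (iv1 D53216) (iv3 F84055) F321477 (iv1 D85103) (iv4 F130439) (iv3 F278473)
theorem F429663 : act 7 n201944 = n203746 := d13_0 F429659 (iv7 F424057) (iv5 F424058)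
theorem F429664 : act 1 n135733 = n201944 := d15_1 (iv0 F422827) F429663 F429656
def n203747 : Q := act 7 n120457
theorem D203747 : act 7 n120457 = n203747 := rfl
theorem F429665 : act 2 n203747 = n160309 := d4_1 D203747 (iv7 D160309) (iv2 F191903)
theorem F429666 : act 3 n203747 = n202999 := d8_1 D203747 (iv7 F429648) F429646
theorem F429667 : act 4 n203747 = n201944 := d11_1 D203747 F429663 (iv4 D203746)
theorem F429668 : act 5 n203747 = n120458 := d13_1 D203747 (iv7 D120458) D120457
theorem F429669 : act 1 n160307 = n203747 := d15_1 D160307 (iv7 D203747) F191903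
theorem F429670 : act 1 n203747 = n134428 := d15_1 F429669 (iv7 F365244) F363100
def n203748 : Q := act 0 n120462
theorem D203748 : act 0 n120462 = n203748 := rfl
theorem F429671 : act 5 n203748 = n146921 := d17_3 D55455 D120462 D203748 F342816 (iv5 F388916) (iv0 F422737) F422736 (iv0 D120455) F87755
theorem F429672 : act 4 n203748 = n140501 := d18_1 D203748 (iv1 D140501) D140502 F341409 (iv4 F357683) F191902 (iv4 F191568) F191571 D120462
theorem F429673 : act 1 n120467 = n203748 := d15_0 (iv0 D203748) F383096 F383093
theorem F429674 : act 7 n203748 = n199385 := d15_2 (iv0 F411658) F429673 F411919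
def n203749 : Q := act 4 n120462
theorem D203749 : act 4 n120462 = n203749 := rfl
theorem F429675 : act 2 n203749 = n198764 := d1_1 D203749 F429472 F429468
theorem F429676 : act 6 n203749 = n178105 := d10_2 (iv6 F407507) D203749 (iv4 F407452)
theorem F429677 : act 7 n203749 = n198189 := d11_2 (iv7 F383096) D203749 F407154
theorem F429678 : act 5 n203749 = n178102 := d16_7 (iv4 F423318) (iv5 D202228) F179783 (iv5 F329155) F353604 D120462 D203749 (iv7 F406016) (iv2 F406572)
theorem F429679 : act 3 n203749 = n196308 := d19_3 D55455 D120462 D203749 (iv1 D196308) (iv5 D106888) (iv4 F161968) (iv3 D105502) (iv1 F79789) D109268 F169250 D109344 (iv1 F408035) (iv5 D198446) (iv4 F232047) (iv3 F417262) (iv1 F417264) (iv5 F353609) F191881 F87747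
def n203750 : Q := act 3 n120470
theorem D203750 : act 3 n120470 = n203750 := rfl
theorem F429680 : act 2 n203750 = n148131 := d0_1 D203750 (iv3 D148131) (iv2 F105688) (iv3 F230326) (iv2 F341494)
theorem F429681 : act 4 n203750 = n139290 := d5_2 F404977 D203750 F357499 (iv4 F371957) (iv3 F404976)
theorem F429682 : act 5 n203750 = n187443 := d6_2 F198293 D203750 F370341
theorem F429683 : act 6 n203750 = n188138 := d7_2 F404971 D203750 (iv3 F404969)
theorem F429684 : act 7 n203750 = n197627 := d8_2 F341493 D203750 F405090
def n203751 : Q := act 6 n120472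
theorem D203751 : act 6 n120472 = n203751 := rfl
theorem F429685 : act 3 n203751 = n189577 := d7_1 D203751 (iv6 F429633) F429631
theorem F429686 : act 7 n203751 = n120506 := d14_2 D120472 D203751 (iv6 D120506) (iv7 D55472) (iv6 F87756)
theorem F429687 : act 0 n191333 = n203751 := d21_4 (iv5 F328112) (iv1 F145032) D98081 D191333 (iv6 D203751) F191914 (iv1 F350745) (iv5 F383095) (iv6 D191335) F343093
def n203752 : Q := act 5 n120473
theorem D203752 : act 5 n120473 = n203752 := rfl
theorem F429688 : act 2 n203752 = n148141 := d2_1 D203752 (iv5 F429493) F429496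
theorem F429689 : act 3 n203752 = n151958 := d6_1 D203752 F238958 (iv3 F366735)
theorem F429690 : act 4 n203752 = n132318 := d9_1 D203752 (iv5 D132318) (iv4 D62077) (iv5 F209645) D129895 F351929 F267453 F314111 (iv4 F351930) (iv5 D132306) (iv4 D62072) (iv5 F209583) F309795 (iv5 F309903) (iv4 F366736)
theorem F429691 : act 7 n203752 = n148106 := d13_2 (iv7 F366738) D203752 F357327
theorem F429692 : act 0 n203752 = n129835 := d17_2 D120473 D203752 F208187 F97877 D62746 (iv0 F186348) (iv5 F189822) (iv0 F309762) F149143
theorem F429693 : act 1 n203752 = n120495 := d17_6 (iv1 F342014) F342012 (iv1 D86460) (iv5 F309903) (iv4 F366736) D203752 F302803 (iv0 F308284) F215105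
def n203753 : Q := act 6 n120475
theorem D203753 : act 6 n120475 = n203753 := rfl
theorem F429694 : act 2 n203753 = n120477 := d3_1 D203753 (iv6 D120477) D120475
theorem F429695 : act 3 n203753 = n192857 := d7_1 D203753 (iv6 F429480) F429474
theorem F429696 : act 4 n203753 = n155720 := d10_1 D203753 F355259 F235638
theorem F429697 : act 7 n203753 = n192853 := d14_2 F429502 D203753 (iv6 D192853) (iv7 F318432) (iv6 F429501)
def n203754 : Q := act 0 n120476
theorem D203754 : act 0 n120476 = n203754 := rfl
theorem F429698 : act 5 n203754 = n123931 := d17_1 D203754 (iv1 F306371) F215107 (iv4 D132547) (iv5 D62186) D62184 F212264 F211874 F355250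
theorem F429699 : act 4 n203754 = n132588 := d18_3 (iv1 F211873) F355250 D203754 (iv5 D132588) (iv4 D62209) F47192 (iv4 F95529) F96948 (iv5 F212269)
theorem F429700 : act 3 n203754 = n152001 := d20_5 D124344 (iv1 F304518) (iv4 D120479) (iv3 F191915) D203754 F421766 (iv1 F421768) F402796 F366660 F301601
theorem F429701 : act 1 n132235 = n203754 := d15_0 (iv0 D203754) (iv7 F429510) F429506
theorem F429702 : act 6 n197522 = n203754 := d21_9 (iv5 F429505) (iv1 F429504) F314111 (iv6 D69402) D69399 (iv6 F341455) (iv5 D108426) D108423 D197522 (iv1 F429701)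
theorem F429703 : act 7 n197168 = n203754 := d8_0 F429700 (iv7 F239022) (iv3 F403367)
def n203755 : Q := act 1 n120476
theorem D203755 : act 1 n120476 = n203755 := rfl
theorem F429704 : act 1 n203755 = n132235 := d15_1 D203755 F211875 (iv2 F355251)
theorem F429705 : act 5 n203755 = n123932 := d17_7 (iv1 F215087) F215089 F212296 (iv5 F309763) F149143 D120476 D203755 (iv0 F306370) F215106
theorem F429706 : act 2 n197168 = n203755 := d2_3 F429705 F314262 D197168
theorem F429707 : act 4 n132580 = n203755 := d9_15 F429705 F314264 (iv5 F341999) (iv4 D132335) F212261 D62209 D132588 (iv4 F429699) F429698 F341993 (iv5 D81664) (iv4 F72454) (iv5 F316296) D62204 D132580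
theorem F429708 : act 6 n190208 = n203755 := d12_0 F429705 F314265 F125784 D95724 D190208
def n203756 : Q := act 6 n120476
theorem D203756 : act 6 n120476 = n203756 := rfl
theorem F429709 : act 3 n203756 = n120480 := d7_1 D203756 (iv6 D120480) (iv3 F191915)
def n203757 : Q := act 0 n120477
theorem D203757 : act 0 n120477 = n203757 := rfl
theorem F429710 : act 3 n203757 = n152004 := d20_5 F263591 F301657 F116230 (iv3 F191916) D203757 F338076 F332460 (iv4 F332463) (iv3 F332465) (iv1 F263595)
theorem F429711 : act 6 n170643 = n203757 := d7_0 F429710 (iv6 F340967) F340969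
def n203758 : Q := act 1 n120477
theorem D203758 : act 1 n120477 = n203758 := rfl
theorem F429712 : act 1 n203758 = n192853 := d15_1 D203758 (iv7 F429697) F429694
def n203759 : Q := act 5 n120477
theorem D203759 : act 5 n120477 = n203759 := rfl
theorem F429713 : act 3 n203759 = n120482 := d6_1 D203759 (iv5 D120482) (iv3 F191916)
theorem F429714 : act 0 n203759 = n123511 := d21_7 F314109 (iv1 D69404) (iv5 F311639) D120391 F338921 D120477 D203759 (iv5 D123511) (iv6 D57562) (iv1 F90340)
theorem F429715 : act 7 n124044 = n203759 := d8_0 F429713 F196261 D124044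
def n203760 : Q := act 7 n120477
theorem D203760 : act 7 n120477 = n203760 := rfl
theorem F429716 : act 2 n203760 = n192853 := d4_1 D203760 (iv7 F429697) F429694
theorem F429717 : act 3 n203760 = n120483 := d8_1 D203760 (iv7 D120483) (iv3 F191916)
theorem F429718 : act 4 n203760 = n167717 := d11_1 D203760 (iv7 F381142) F381140
theorem F429719 : act 5 n203760 = n124044 := d13_1 D203760 F429715 (iv5 D203759)
theorem F429720 : act 6 n203760 = n122380 := d14_1 D203760 F195796 (iv6 F301211) F191582 D120477
theorem F429721 : act 1 n192853 = n203757 := d15_0 (iv0 D203757) D203760 F429716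
def n203761 : Q := act 3 n120479
theorem D203761 : act 3 n120479 = n203761 := rfl
theorem F429722 : act 5 n203761 = n124003 := d6_2 (iv5 F191920) D203761 (iv3 D124003)
def n203762 : Q := act 6 n120479
theorem D203762 : act 6 n120479 = n203762 := rfl
theorem F429723 : act 2 n203762 = n192699 := d3_1 D203762 F387520 (iv2 F304519)
theorem F429724 : act 4 n203762 = n120480 := d10_1 D203762 (iv6 D120480) D120479
theorem F429725 : act 0 n203762 = n198771 := d21_4 (iv5 F304463) (iv1 F198398) (iv5 F191920) D203762 (iv6 D198771) F170315 (iv1 F170259) (iv5 F404942) F404944 F304334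
theorem F429726 : act 5 n203762 = n197761 := d21_6 F376101 (iv1 F170840) (iv5 F327460) (iv6 F198881) (iv1 F304518) D203762 (iv1 D197761) (iv5 F343108) (iv6 F343106) (iv1 F376099)
theorem F429727 : act 7 n198185 = n203762 := d13_0 F429726 F405664 D198185
theorem F429728 : act 0 n198780 = n203762 := d17_2 F351183 (iv5 F409206) F429726 F405665 F373412 F365890 (iv5 F351133) (iv0 F351192) (iv4 F351186)
def n203763 : Q := act 1 n120480
theorem D203763 : act 1 n120480 = n203763 := rfl
theorem F429729 : act 4 n203763 = n192744 := d18_7 (iv1 F365131) F159469 D188418 (iv4 F405665) (iv5 F429726) F429724 D203763 (iv0 F407377) (iv5 F407378)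
theorem F429730 : act 3 n203762 = n198181 := d20_3 (iv4 F429729) (iv1 D203763) (iv4 F429724) (iv1 D198181) F169006 (iv4 F164751) D196315 F400305 D198262 F407377
theorem F429731 : act 2 n198181 = n187885 := d0_1 F429730 F371759 F293913 D192699 (iv2 F429723)
theorem F429732 : act 5 n198181 = n187884 := d6_2 (iv5 F429726) F429730 (iv3 F405667)
theorem F429733 : act 6 n198181 = n203761 := d7_2 D203762 F429730 (iv3 D203761)
theorem F429734 : act 3 n192781 = n203763 := d5_5 F429729 F387627 F154650 (iv3 F154769) D192781
theorem F429735 : act 0 n189097 = n188369 := d20_7 F424969 F407377 (iv4 F429729) (iv3 F429734) F387744 F383124 (iv4 F375737) (iv4 F387567) (iv3 F409200) F424970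
def n203764 : Q := act 5 n120480
theorem D203764 : act 5 n120480 = n203764 := rfl
theorem F429736 : act 2 n203764 = n124049 := d2_1 D203764 (iv5 F429491) F429488
theorem F429737 : act 6 n203764 = n120482 := d12_2 D120480 D203764 (iv5 D120482) (iv6 D55463) D55462
theorem F429738 : act 7 n203764 = n185131 := d13_2 F425022 D203764 (iv5 F425021)
theorem F429739 : act 4 n203764 = n196525 := d16_2 F429724 D203764 (iv5 D196525) F164999 D107090 (iv4 F335538) D187914 (iv7 F387521) (iv2 F429723)
theorem F429740 : act 0 n203764 = n185111 := d17_2 (iv1 D203763) D203764 (iv5 F404967) F404964 (iv5 D109095) D109094 (iv5 F398966) (iv0 F398970) (iv4 F429729)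
theorem F429741 : act 1 n203764 = n185134 := d17_6 D108495 (iv5 F351303) (iv1 F405663) (iv5 F429726) F429724 D203764 (iv5 F370637) (iv0 F370644) F167722
def n203765 : Q := act 4 n120485
theorem D203765 : act 4 n120485 = n203765 := rfl
theorem F429742 : act 2 n203765 = n173796 := d1_1 D203765 (iv4 F404578) F404577
theorem F429743 : act 3 n203765 = n167586 := d5_1 D203765 F339654 (iv3 F348449) F273362 F344940
theorem F429744 : act 6 n203765 = n193506 := d10_2 (iv6 F362434) D203765 (iv4 D193506)
theorem F429745 : act 7 n203765 = n153208 := d11_2 (iv7 F362435) D203765 F240569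
theorem F429746 : act 0 n203765 = n148847 := d17_0 F361352 D167564 F342652 F187916 D186756 (iv0 F367898) (iv5 D120488) D120485 D203765
theorem F429747 : act 1 n203765 = n173798 := d18_8 (iv1 F263818) (iv4 F342688) (iv1 D167569) F319552 (iv5 F298357) (iv4 D120487) D120485 D203765 F272380
theorem F429748 : act 5 n172164 = n203765 := d17_5 (iv1 F263833) F354147 F354148 (iv5 F348512) (iv4 F348515) F429747 F272380 F263823 (iv4 F342692)
def n203766 : Q := act 6 n120495
theorem D203766 : act 6 n120495 = n203766 := rfl
theorem F429749 : act 3 n203766 = n120497 := d7_1 D203766 (iv6 D120497) D120495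
def n203767 : Q := act 3 n120496
theorem D203767 : act 3 n120496 = n203767 := rfl
theorem F429750 : act 5 n203767 = n123976 := d6_2 (iv5 F191936) D203767 (iv3 D123976)
def n203768 : Q := act 6 n120496
theorem D203768 : act 6 n120496 = n203768 := rfl
theorem F429751 : act 4 n203768 = n120497 := d10_1 D203768 (iv6 D120497) D120496
theorem F429752 : act 0 n203768 = n179802 := d21_4 (iv5 F195847) (iv1 F304275) (iv5 F191936) D203768 F370508 D197698 F405410 (iv5 F387519) F387520 (iv1 F277356)
theorem F429753 : act 0 n179807 = n203768 := d21_4 F172901 (iv1 F168551) (iv5 F327465) F367072 (iv6 D203768) F191936 F329125 F328767 F328363 D111421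
theorem F429754 : act 0 n192619 = n203766 := d20_4 (iv4 F372642) (iv1 F385305) (iv4 F385309) D192619 F429749 (iv4 F429751) F429752 (iv4 D179802) D179801 (iv1 F372641)
def n203769 : Q := act 0 n120497
theorem D203769 : act 0 n120497 = n203769 := rfl
def n203770 : Q := act 5 n120497
theorem D203770 : act 5 n120497 = n203770 := rfl
theorem F429755 : act 2 n203770 = n170654 := d2_1 D203770 (iv5 F366927) (iv2 F302884)
theorem F429756 : act 6 n203770 = n122447 := d12_2 D120497 D203770 F302886 F300100 (iv5 F300098)
def n203771 : Q := act 7 n120497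
theorem D203771 : act 7 n120497 = n203771 := rfl
theorem F429757 : act 6 n203771 = n198302 := d14_1 D203771 F407544 F198377 F91467 D120497
def n203772 : Q := act 3 n120499
theorem D203772 : act 3 n120499 = n203772 := rfl
theorem F429758 : act 4 n203772 = n188349 := d5_2 D120499 D203772 F373152 F366168 F304333
theorem F429759 : act 5 n203772 = n123944 := d6_2 (iv5 F191937) D203772 (iv3 D123944)
theorem F429760 : act 6 n203772 = n188348 := d7_2 F404944 D203772 F404947
def n203773 : Q := act 1 n120503
theorem D203773 : act 1 n120503 = n203773 := rfl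
theorem F429761 : act 6 n198271 = n203773 := d21_3 F387653 F359055 D198271 (iv1 D203773) F371903 F371899 F387842 D140558 (iv6 F407352) (iv1 F407355)
theorem F429762 : act 5 n203773 = n188935 := d12_1 F429761 F413372 (iv5 D199758) F409271 D198271
def n203774 : Q := act 2 n120503
theorem D203774 : act 2 n120503 = n203774 := rfl
def n203775 : Q := act 5 n120503
theorem D203775 : act 5 n120503 = n203775 := rfl
theorem F429763 : act 3 n203775 = n120504 := d6_1 D203775 (iv5 D120504) D120503
theorem F429764 : act 6 n203775 = n187812 := d12_2 (iv6 F371903) D203775 F371590 F371649 (iv5 F371899)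
theorem F429765 : act 7 n203775 = n123156 := d13_2 (iv7 F366886) D203775 F366887
theorem F429766 : act 4 n203775 = n187813 := d17_4 F413454 (iv5 F429762) (iv1 D203773) D203775 (iv5 F399001) (iv0 F402760) F402758 F394209 (iv4 F413452)
def n203776 : Q := act 0 n120506
theorem D203776 : act 0 n120506 = n203776 := rfl
theorem F429767 : act 6 n203776 = n185144 := d21_5 (iv5 D120311) (iv1 F87633) (iv5 F87761) D120506 D203776 (iv5 F362817) (iv1 F145026) D98075 F151224 (iv1 F301585)
theorem F429768 : act 2 n191333 = n203776 := d3_3 F429767 (iv2 F362818) D191333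
theorem F429769 : act 4 n198193 = n203776 := d10_3 F429767 F362812 D198193
def n203777 : Q := act 1 n120506
theorem D203777 : act 1 n120506 = n203777 := rfl
theorem F429770 : act 7 n203777 = n191333 := d15_2 (iv0 D203776) D203777 F429768
theorem F429771 : act 6 n199033 = n203777 := d14_5 F429770 (iv6 D191333) (iv7 F289711) F336664 (iv7 F410404)
def n203778 : Q := act 1 n120524
theorem D203778 : act 1 n120524 = n203778 := rfl
theorem F429772 : act 1 n203778 = n202659 := d15_1 D203778 (iv7 F429517) F429515
theorem F429773 : act 4 n196377 = n203778 := d20_6 (iv4 D60017) F46029 D52466 D113641 D200941 F418449 (iv1 D203778) (iv4 F398965) (iv3 D195986) F163747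
def n203779 : Q := act 5 n120524
theorem D203779 : act 5 n120524 = n203779 := rfl
theorem F429774 : act 2 n203779 = n177923 := d2_1 D203779 (iv5 F429516) F429515
theorem F429775 : act 6 n203779 = n120526 := d12_2 D120524 D203779 (iv5 D120526) (iv6 D55490) D55489
theorem F429776 : act 0 n203779 = n177883 := d17_2 (iv1 D203778) D203779 F367247 F351281 F351283 D109006 (iv5 F387519) (iv0 F400515) F429773
def n203780 : Q := act 7 n120524
theorem D203780 : act 7 n120524 = n203780 := rfl
theorem F429777 : act 2 n203780 = n202659 := d4_1 D203780 (iv7 F429517) F429515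
theorem F429778 : act 3 n203780 = n127342 := d8_1 D203780 (iv7 F366224) F366659
theorem F429779 : act 4 n203780 = n127343 := d11_1 D203780 (iv7 F398968) F398965
theorem F429780 : act 6 n203780 = n199034 := d14_1 D203780 F410408 F343173 F191631 D120524
def n203781 : Q := act 4 n120526
theorem D203781 : act 4 n120526 = n203781 := rfl
theorem F429781 : act 2 n203781 = n124051 := d1_1 D203781 F306749 (iv2 F301757)
theorem F429782 : act 7 n203781 = n124050 := d11_2 (iv7 F301758) D203781 F306747
theorem F429783 : act 0 n203781 = n122568 := d18_2 (iv1 F301756) D203781 (iv4 D122568) (iv5 D56891) F44184 (iv0 F296488) (iv4 F29801) D39088 D84640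
theorem F429784 : act 1 n203781 = n124025 := d18_6 (iv1 F194675) (iv4 D84781) F301315 (iv4 F87779) D120526 D203781 (iv4 D124025) F196272 F302310
def n203782 : Q := act 0 n120531
theorem D203782 : act 0 n120531 = n203782 := rfl
theorem F429785 : act 5 n203782 = n199789 := d17_1 D203782 F413512 (iv5 D124081) F309002 (iv5 D61632) F305999 D86584 (iv0 F307946) (iv4 F315990)
theorem F429786 : act 4 n203782 = n178409 := d18_3 F112417 (iv4 F315990) D203782 (iv5 D178409) F130089 F308011 F307942 (iv0 D85670) (iv5 F307184)
theorem F429787 : act 3 n203782 = n130104 := d20_5 F44081 (iv1 F298605) D55494 D120531 D203782 (iv4 D130104) F208572 (iv4 F314248) (iv3 D122358) (iv1 D56679)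
theorem F429788 : act 2 n159133 = n203782 := d15_3 (iv0 D203782) F342609 (iv7 F359394)
theorem F429789 : act 1 n150119 = n203782 := d15_0 (iv0 D203782) F301664 (iv2 F236276)
theorem F429790 : act 7 n203782 = n122342 := d15_2 (iv0 F342605) F429789 F195648
theorem F429791 : act 6 n170888 = n203782 := d21_3 D57365 D123241 F364468 (iv1 F429789) (iv6 F342608) (iv5 D136662) D136660 (iv5 F339089) (iv6 D123240) (iv1 D57364)
def n203783 : Q := act 6 n120531
theorem D203783 : act 6 n120531 = n203783 := rfl
theorem F429792 : act 3 n203783 = n120533 := d7_1 D203783 (iv6 D120533) D120531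
theorem F429793 : act 4 n203783 = n140007 := d10_1 D203783 F323571 (iv4 F315990)
theorem F429794 : act 5 n203783 = n135020 := d12_1 D203783 F217242 F357733 (iv6 F357734) (iv5 F315991)
theorem F429795 : act 7 n203783 = n170675 := d14_2 (iv7 F301664) D203783 (iv6 F339040) F339041 F301783
theorem F429796 : act 1 n122682 = n203783 := d15_1 (iv0 F361491) F429795 F356298
def n203784 : Q := act 3 n120534
theorem D203784 : act 3 n120534 = n203784 := rfl
theorem F429797 : act 4 n203784 = n163625 := d5_2 D120534 D203784 (iv3 D163625) F297782 (iv3 F297780)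
theorem F429798 : act 6 n203784 = n170808 := d7_2 (iv6 F300049) D203784 (iv3 D170808)
theorem F429799 : act 7 n203784 = n124209 := d8_2 (iv7 F192014) D203784 (iv3 D124209)
def n203785 : Q := act 6 n120541
theorem D203785 : act 6 n120541 = n203785 := rfl
theorem F429800 : act 2 n203785 = n197190 := d3_1 D203785 (iv6 D197190) F312698
theorem F429801 : act 3 n203785 = n120544 := d7_1 D203785 (iv6 D120544) (iv3 F192028)
theorem F429802 : act 5 n203785 = n196735 := d12_1 D203785 (iv6 F401637) (iv5 D148968) (iv6 F303356) D120541
theorem F429803 : act 7 n202657 = n203785 := d13_0 F429802 F401636 D202657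
def n203786 : Q := act 5 n120557
theorem D203786 : act 5 n120557 = n203786 := rfl
theorem F429804 : act 2 n203786 = n120584 := d2_1 D203786 (iv5 D120584) (iv2 F192111)
theorem F429805 : act 6 n203786 = n190025 := d12_2 (iv6 F192112) D203786 F378599 F348603 F320058
theorem F429806 : act 7 n203786 = n190854 := d13_2 (iv7 F347838) D203786 (iv5 D190854)
theorem F429807 : act 0 n203786 = n130575 := d17_2 (iv1 F378983) D203786 F352652 F352646 (iv5 F308814) (iv0 F191867) F106857 D127443 (iv4 F378981)
theorem F429808 : act 1 n203786 = n189847 := d17_6 F191095 F130787 (iv1 D55516) D55517 D120557 D203786 (iv5 D189847) F148028 F308124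
def n203787 : Q := act 3 n120559
theorem D203787 : act 3 n120559 = n203787 := rfl
theorem F429809 : act 2 n203787 = n173798 := d0_1 D203787 (iv3 F332322) F268815 (iv3 D148844) (iv2 F192121)
theorem F429810 : act 4 n203787 = n120562 := d5_2 D120559 D203787 (iv3 D120562) (iv4 D55521) D55520
theorem F429811 : act 5 n203787 = n167567 := d6_2 F362490 D203787 F342687
theorem F429812 : act 7 n203787 = n148847 := d8_2 (iv7 F192118) D203787 (iv3 D148847)
theorem F429813 : act 0 n203787 = n173796 := d20_4 F94623 (iv1 F192089) D120559 D203787 (iv3 F361340) (iv4 F189777) (iv1 F311106) F234269 F303438 F230637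
theorem F429814 : act 0 n153208 = n203787 := d20_4 F186472 D149037 (iv4 F348443) F348442 (iv3 D203787) (iv4 D120559) F192088 (iv4 F233876) F427686 (iv1 D203287)
def n203788 : Q := act 5 n120561
theorem D203788 : act 5 n120561 = n203788 := rfl
theorem F429815 : act 2 n203788 = n153320 := d2_1 D203788 F240876 (iv2 F192130)
theorem F429816 : act 4 n203788 = n201817 := d9_1 D203788 (iv5 F421899) (iv4 D190345) (iv5 F290443) F317728 (iv5 F106857) F106856 D72438 D153319 (iv5 F379467) (iv4 D190343) F147574 F325000 (iv5 F106863) (iv4 F192126)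
theorem F429817 : act 7 n203788 = n149794 := d13_2 F192129 D203788 (iv5 D149794)
theorem F429818 : act 0 n203788 = n153318 := d17_2 D120561 D203788 F308827 F307011 F92179 F192116 F192115 F87807 D55521
theorem F429819 : act 1 n203788 = n153317 := d17_6 F300082 (iv5 F159152) F307160 (iv5 F106863) (iv4 F192126) D203788 F308819 F133428 (iv4 F132855)
theorem F429820 : act 6 n203788 = n183136 := d21_3 F311630 D120561 D203788 (iv1 D183136) (iv6 D87416) (iv5 D40628) (iv1 D19184) D19185 (iv6 F61731) D87403
theorem F429821 : act 6 n189585 = n201817 := d10_2 F429820 F405231 (iv4 F429816)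
theorem F429822 : act 3 n201820 = n189585 := d7_3 F429821 (iv3 D201817) D201820
def n203789 : Q := act 6 n120562
theorem D203789 : act 6 n120562 = n203789 := rfl
theorem F429823 : act 3 n203789 = n120564 := d7_1 D203789 (iv6 D120564) D120562
theorem F429824 : act 7 n203789 = n147824 := d14_2 (iv7 F361346) D203789 F307390 (iv7 F307375) (iv6 F361349)
def n203790 : Q := act 6 n120578
theorem D203790 : act 6 n120578 = n203790 := rfl
theorem F429825 : act 2 n203790 = n143058 := d3_1 D203790 (iv6 F360675) F227733
theorem F429826 : act 3 n203790 = n120580 := d7_1 D203790 (iv6 D120580) D120578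
theorem F429827 : act 7 n203790 = n143059 := d14_2 F252133 D203790 F340736 (iv7 F393271) F393270
theorem F429828 : act 0 n203790 = n143061 := d21_4 F307284 (iv1 F308107) (iv5 F199606) D203790 F318107 F240735 F241349 (iv5 D147404) D147405 (iv1 F308165)
theorem F429829 : act 0 n121373 = n203790 := d21_4 F382266 (iv1 F346242) F356831 (iv6 F326633) (iv6 D203790) F199606 (iv1 F310046) (iv5 F347611) F233441 (iv1 F382269)
def n203791 : Q := act 3 n120579
theorem D203791 : act 3 n120579 = n203791 := rfl
theorem F429830 : act 4 n203791 = n200894 := d5_2 D120579 D203791 F418312 (iv4 F229128) (iv3 D120578)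
theorem F429831 : act 5 n203791 = n189986 := d6_2 F335105 D203791 (iv3 D189986)
theorem F429832 : act 6 n203791 = n194539 := d7_2 (iv6 F335095) D203791 F393639
theorem F429833 : act 7 n203791 = n190371 := d8_2 F335093 D203791 F379592
theorem F429834 : act 0 n190269 = n203791 := d20_4 F408317 F403016 (iv4 F392692) (iv3 F392694) (iv3 D203791) (iv4 D120579) (iv1 D55530) D55531 D120583 (iv1 F408320)
def n203792 : Q := act 3 n120582
theorem D203792 : act 3 n120582 = n203792 := rfl
theorem F429835 : act 4 n203792 = n133426 := d5_2 F200382 D203792 F360263 (iv4 D181745) (iv3 F200381)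
theorem F429836 : act 0 n190823 = n203792 := d18_2 F397762 (iv4 F381252) F429835 (iv5 D133426) D133425 (iv0 F350608) F167275 D113039 (iv5 F176097)
def n203793 : Q := act 5 n120583
theorem D203793 : act 5 n120583 = n203793 := rfl
theorem F429837 : act 3 n203793 = n120584 := d6_1 D203793 (iv5 D120584) D120583
theorem F429838 : act 6 n203793 = n190529 := d12_2 (iv6 F192151) D203793 F408250 (iv6 D198534) F169494
theorem F429839 : act 7 n203793 = n179313 := d13_2 F192152 D203793 (iv5 D179313)
def n203794 : Q := act 2 n120602
theorem D203794 : act 2 n120602 = n203794 := rfl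
theorem F429840 : act 3 n203794 = n128106 := d0_2 D120602 D203794 F345967 (iv3 D75906) (iv2 F87824)
theorem F429841 : act 4 n203794 = n142087 := d1_2 F350195 D203794 F225113
theorem F429842 : act 5 n203794 = n125052 := d2_2 (iv5 F192172) D203794 (iv2 D125052)
theorem F429843 : act 6 n203794 = n147053 := d3_2 (iv6 F337747) D203794 F338184
theorem F429844 : act 7 n203794 = n159004 := d4_2 (iv7 F192173) D203794 (iv2 D159004)
theorem F429845 : act 1 n203794 = n146986 := d15_0 F339817 (iv7 F192173) D203794
theorem F429846 : act 1 n159003 = n203794 := d15_0 F429845 (iv7 F355429) F355432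
def n203795 : Q := act 1 n120605
theorem D203795 : act 1 n120605 = n203795 := rfl
theorem F429847 : act 1 n203795 = n152593 := d15_1 D203795 F239781 (iv2 F192178)
theorem F429848 : act 7 n203795 = n158980 := d15_2 (iv0 F345982) D203795 F312496
theorem F429849 : act 4 n203795 = n179979 := d17_9 F280307 (iv5 D150305) (iv1 F233070) (iv5 F227906) (iv4 F338235) F246021 D156688 F338248 D203795
theorem F429850 : act 3 n159909 = n203795 := d20_3 F349066 (iv1 F193605) (iv4 F252174) (iv1 D203795) F342700 F342699 F336309 F94775 (iv3 F109599) D154254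
theorem F429851 : act 6 n134361 = n203795 := d21_3 F329078 (iv1 F328665) (iv5 F216486) (iv1 D203795) F192179 D203009 F428948 (iv5 D203572) F331660 (iv1 F329077)
theorem F429852 : act 2 n203795 = n138628 := d3_1 F429851 F361436 F328724
theorem F429853 : act 5 n156465 = n203795 := d21_2 (iv5 F345983) (iv1 F245989) (iv6 F429851) (iv1 F216369) D134376 (iv5 F410537) (iv1 D199071) (iv5 F410275) (iv6 D199003) F338237
def n203796 : Q := act 3 n120618
theorem D203796 : act 3 n120618 = n203796 := rfl
theorem F429854 : act 2 n203796 = n147279 := d0_1 D203796 F230893 (iv2 F230404) F347957 (iv2 F347940)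
theorem F429855 : act 5 n203796 = n192362 := d6_2 (iv5 F347939) D203796 F386569
theorem F429856 : act 6 n203796 = n192364 := d7_2 F392671 D203796 (iv3 F392666)
theorem F429857 : act 7 n203796 = n147275 := d8_2 (iv7 F347941) D203796 F347906
theorem F429858 : act 0 n203796 = n147277 := d20_4 D197119 (iv1 F403136) F392673 D203796 (iv3 F366622) F353468 F403562 (iv4 F403559) F403558 F355513
theorem F429859 : act 0 n147276 = n203796 := d17_0 F429855 F420424 (iv5 D201414) F178508 D114456 F410124 F410120 F396399 F392343
def n203797 : Q := act 3 n120632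
theorem D203797 : act 3 n120632 = n203797 := rfl
theorem F429860 : act 7 n203797 = n124013 := d8_2 F304406 D203797 (iv3 D124013)
def n203798 : Q := act 3 n120643
theorem D203798 : act 3 n120643 = n203798 := rfl
theorem F429861 : act 4 n203798 = n172567 := d5_2 D120643 D203798 F270743 F127240 (iv3 F301459)
theorem F429862 : act 7 n203798 = n122461 := d8_2 (iv7 F192290) D203798 F195923
theorem F429863 : act 1 n171094 = n203798 := d17_8 (iv1 F402932) (iv5 D197075) (iv1 F219953) (iv5 F332362) F156017 D101261 D193170 (iv5 F389027) F429861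
def n203799 : Q := act 0 n120651
theorem D203799 : act 0 n120651 = n203799 := rfl
theorem F429864 : act 5 n203799 = n145361 := d17_1 D203799 (iv1 F397591) (iv5 D195609) F162813 D169961 (iv0 F334470) F334467 (iv0 D153231) (iv4 F311174)
theorem F429865 : act 4 n203799 = n127936 := d18_3 (iv1 D153232) (iv4 F311174) D203799 F319723 (iv4 F267893) (iv0 F378287) (iv4 F378282) F378286 (iv5 F240648)
theorem F429866 : act 6 n203799 = n133949 := d21_5 F311419 (iv1 F71286) D55596 D120651 D203799 F343017 (iv1 F189384) F363049 (iv6 D86647) (iv1 F311418)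
theorem F429867 : act 2 n131613 = n203799 := d15_3 (iv0 D203799) F342570 F340989
theorem F429868 : act 1 n157462 = n203799 := d15_0 (iv0 D203799) F311176 (iv2 F248087)
theorem F429869 : act 7 n203799 = n131618 := d15_2 (iv0 F342569) F429868 F341023
def n203800 : Q := act 5 n120659
theorem D203800 : act 5 n120659 = n203800 := rfl
theorem F429870 : act 2 n203800 = n164512 := d2_1 D203800 (iv5 D164512) (iv2 F259273)
theorem F429871 : act 3 n203800 = n201467 := d6_1 D203800 (iv5 D201467) F283761
theorem F429872 : act 7 n203800 = n164514 := d13_2 (iv7 F259274) D203800 (iv5 D164514)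
theorem F429873 : act 4 n203800 = n130614 := d16_2 (iv4 F334451) D203800 F209192 (iv4 F420936) F387379 (iv4 F357812) F357813 (iv7 F283773) F334449
theorem F429874 : act 0 n203800 = n145017 := d17_2 D120659 D203800 (iv5 F360268) (iv4 D173500) (iv5 D83007) (iv0 D38203) D38205 (iv0 F327303) F108422
theorem F429875 : act 6 n203800 = n130613 := d21_9 (iv5 F420660) (iv1 F420662) F420206 (iv6 D114602) (iv1 F87974) (iv6 F192333) (iv5 D120661) D120659 D203800 (iv1 F247867)
def n203801 : Q := act 5 n120660
theorem D203801 : act 5 n120660 = n203801 := rfl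
theorem F429876 : act 2 n203801 = n164514 := d2_1 D203801 (iv5 D164514) F259272
theorem F429877 : act 3 n203801 = n189615 := d6_1 D203801 F377124 F239638
theorem F429878 : act 7 n203801 = n164512 := d13_2 (iv7 F259271) D203801 (iv5 D164512)
theorem F429879 : act 0 n145017 = n203801 := d21_10 (iv5 D203801) (iv1 D120660) D120661 F192333 F87975 F316736 F314386 (iv1 F314383) D67985 D145017
theorem F429880 : act 6 n131121 = n203801 := d21_5 (iv5 D52874) F54059 D29123 D61515 D131121 (iv5 D203801) (iv1 D120660) D120661 F192333 F87975
def n203802 : Q := act 6 n120660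
theorem D203802 : act 6 n120660 = n203802 := rfl
theorem F429881 : act 2 n203802 = n164515 := d3_1 D203802 (iv6 D164515) F259272
theorem F429882 : act 3 n203802 = n187452 := d7_1 D203802 F370398 F239638
theorem F429883 : act 5 n203802 = n185052 := d12_1 D203802 F335764 (iv5 F339540) F429880 (iv5 D203801)
theorem F429884 : act 0 n203802 = n201873 := d21_4 F360268 F429879 (iv5 D203801) D203802 (iv6 D201873) D201872 F422156 (iv5 D201509) D201510 (iv1 F420801)
theorem F429885 : act 1 n203802 = n201482 := d15_1 (iv0 F429884) F420675 (iv2 F422159)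
def n203803 : Q := act 0 n120661
theorem D203803 : act 0 n120661 = n203803 := rfl
theorem F429886 : act 5 n203803 = n202884 := d17_3 (iv1 D120660) D120661 D203803 F426026 F361357 (iv0 F341209) F330214 D164213 F283774
theorem F429887 : act 1 n133409 = n203803 := d15_0 (iv0 D203803) (iv7 F422257) F422254
theorem F429888 : act 3 n198956 = n203803 := d6_3 F429886 F426025 (iv5 F410051)
theorem F429889 : act 7 n133408 = n203803 := d13_0 F429886 F426027 F420784
theorem F429890 : act 2 n203803 = n133407 := d15_3 (iv0 D133407) D133408 F429889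
def n203804 : Q := act 1 n120661
theorem D203804 : act 1 n120661 = n203804 := rfl
theorem F429891 : act 1 n203804 = n133409 := d15_1 D203804 (iv7 D133409) (iv2 F192331)
theorem F429892 : act 7 n203804 = n133407 := d15_2 (iv0 D203803) D203804 (iv2 F429890)
theorem F429893 : act 5 n152197 = n203804 := d21_6 (iv5 D25681) F37279 D16006 D33181 D71782 D152197 (iv1 D203804) (iv5 D120661) (iv6 D55614) (iv1 F43270)
theorem F429894 : act 2 n203804 = n133408 := d2_1 F429893 (iv5 F420784) F420782
def n203805 : Q := act 4 n120661
theorem D203805 : act 4 n120661 = n203805 := rfl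
theorem F429895 : act 2 n203805 = n133406 := d1_1 D203805 F214508 (iv2 F192331)
theorem F429896 : act 6 n203805 = n120663 := d10_2 (iv6 F192333) D203805 (iv4 D120663)
theorem F429897 : act 0 n203805 = n196021 := d18_2 (iv1 D203804) D203805 (iv4 D196021) (iv5 F334824) F334826 (iv0 F338569) (iv4 F420796) (iv0 F420800) F429893
theorem F429898 : act 1 n203805 = n189264 := d18_6 (iv1 F327115) D152446 F252357 F108422 D120661 D203805 F376254 (iv0 F327117) (iv5 D130699)
def n203806 : Q := act 3 n120663
theorem D203806 : act 3 n120663 = n203806 := rfl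
theorem F429899 : act 7 n203806 = n201474 := d8_2 (iv7 F192341) D203806 (iv3 D201474)
theorem F429900 : act 0 n190372 = n203806 := d20_4 (iv4 D189850) D189848 F377981 D190372 (iv3 D203806) (iv4 D120663) F87975 (iv4 F319095) (iv3 F226349) (iv1 F377986)
def n203807 : Q := act 6 n120665
theorem D203807 : act 6 n120665 = n203807 := rfl
theorem F429901 : act 2 n203807 = n133589 := d3_1 D203807 (iv6 D133589) (iv2 F192345)
theorem F429902 : act 3 n203807 = n123153 := d7_1 D203807 (iv6 D123153) (iv3 F309772)
theorem F429903 : act 5 n203807 = n197318 := d12_1 D203807 (iv6 F403952) (iv5 D152622) F108482 D120665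
def n203808 : Q := act 7 n120680
theorem D203808 : act 7 n120680 = n203808 := rfl
theorem F429904 : act 3 n203808 = n132810 := d8_1 D203808 F336058 F195630
theorem F429905 : act 5 n203808 = n126849 := d13_1 D203808 (iv7 F347092) (iv5 F347096)
theorem F429906 : act 6 n203808 = n136742 := d14_1 D203808 F346275 (iv6 D170728) F125810 D120680
theorem F429907 : act 0 n142611 = n203808 := d21_4 F84783 D110597 F171171 D142611 F429906 (iv5 D136742) (iv1 F203924) (iv5 F332102) (iv6 D69204) (iv1 F84781)
def n203809 : Q := act 6 n120681
theorem D203809 : act 6 n120681 = n203809 := rfl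
theorem F429908 : act 3 n203809 = n120682 := d7_1 D203809 (iv6 D120682) D120681
theorem F429909 : act 4 n203809 = n183213 := d10_1 D203809 (iv6 D183213) (iv4 F192384)
theorem F429910 : act 5 n203809 = n203519 := d12_1 D203809 (iv6 D203519) (iv5 D119352) F300689 (iv5 F192385)
theorem F429911 : act 0 n203809 = n190218 := d21_4 (iv5 D60230) D60228 (iv5 F192385) D203809 F427709 F427705 F252118 (iv5 F408277) F408275 F298159
theorem F429912 : act 0 n190222 = n203809 := d21_4 (iv5 F403023) (iv1 F245456) (iv5 F403565) (iv6 F403568) (iv6 D203809) F192385 F298202 (iv5 F298721) (iv6 F328857) D197095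
def n203810 : Q := act 1 n120738
theorem D203810 : act 1 n120738 = n203810 := rfl
theorem F429913 : act 1 n203810 = n120979 := d15_1 D203810 (iv7 F333843) (iv2 F333844)
theorem F429914 : act 7 n203810 = n120978 := d15_2 F353955 D203810 F338714
theorem F429915 : act 5 n203810 = n129253 := d17_7 F328976 (iv5 D44565) D44562 D95411 F323624 F321961 D203810 F327313 F336495
theorem F429916 : act 6 n160537 = n203810 := d21_3 F303496 (iv1 F330219) (iv5 F331726) (iv1 D203810) (iv6 F304243) D121082 F339279 (iv5 D177513) (iv6 F339274) F330277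
theorem F429917 : act 2 n203810 = n120977 := d3_1 F429916 F341232 D160537
def n203811 : Q := act 3 n120739
theorem D203811 : act 3 n120739 = n203811 := rfl
theorem F429918 : act 4 n203811 = n166584 := d5_2 (iv4 F322461) D203811 F358044 (iv4 D105226) D105225
theorem F429919 : act 5 n203811 = n129906 := d6_2 (iv5 F359736) D203811 (iv3 D129906)
theorem F429920 : act 6 n203811 = n125971 := d7_2 (iv6 F322462) D203811 (iv3 D125971)
theorem F429921 : act 7 n203811 = n126009 := d8_2 (iv7 F322463) D203811 (iv3 D126009)
theorem F429922 : act 0 n203811 = n200489 := d20_4 F168982 F168426 (iv4 F322461) D203811 F416690 (iv4 F414336) F414340 F408923 (iv3 D126017) F168983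
theorem F429923 : act 0 n200499 = n203811 := d20_4 F89011 D96344 D190661 (iv3 F416748) (iv3 D203811) F322461 F168427 (iv4 F165982) (iv3 F341935) (iv1 D121797)
theorem F429924 : act 2 n203811 = n200497 := d16_9 (iv4 F416745) (iv5 F382778) F382777 F376289 (iv4 F391736) (iv5 D194006) (iv4 F363987) (iv5 F363988) (iv7 F429921)
def n203812 : Q := act 6 n120796
theorem D203812 : act 6 n120796 = n203812 := rfl
theorem F429925 : act 2 n203812 = n203809 := d3_1 D203812 (iv6 D203809) (iv2 F192666)
theorem F429926 : act 3 n203812 = n158394 := d7_1 D203812 (iv6 D158394) (iv3 F298183)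
theorem F429927 : act 4 n203812 = n184193 := d10_1 D203812 (iv6 D184193) (iv4 F192669)
theorem F429928 : act 5 n203812 = n154972 := d12_1 D203812 (iv6 D154972) (iv5 D73522) F298203 D120796
def n203813 : Q := act 1 n120813
theorem D203813 : act 1 n120813 = n203813 := rfl
theorem F429929 : act 1 n203813 = n135318 := d15_1 D203813 F357814 (iv2 F192711)
theorem F429930 : act 7 n203813 = n123107 := d15_2 (iv0 F357818) D203813 F357821
theorem F429931 : act 4 n203813 = n123096 := d17_9 (iv1 D123096) D123097 (iv1 F351829) (iv5 D184484) (iv4 F233861) (iv5 F332324) F334447 (iv5 F303104) D203813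
theorem F429932 : act 3 n174377 = n203813 := d20_3 D173632 (iv1 F279280) F277347 (iv1 D203813) F192712 F88153 (iv1 F303900) (iv4 F47285) (iv3 F310378) (iv1 F127981)
theorem F429933 : act 6 n135369 = n203813 := d21_3 (iv5 F406492) F406493 (iv5 F348593) (iv1 D203813) (iv6 D120813) F88150 D56010 (iv5 F151494) (iv6 F353903) F353898
theorem F429934 : act 2 n203813 = n123112 := d3_1 F429933 F357871 (iv2 F357870)
def n203814 : Q := act 3 n120939
theorem D203814 : act 3 n120939 = n203814 := rfl
theorem F429935 : act 2 n203814 = n166749 := d0_1 D203814 (iv3 F343104) F351653 F213645 (iv2 F338316)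
theorem F429936 : act 5 n203814 = n132932 := d6_2 (iv5 F338317) D203814 F213553
theorem F429937 : act 6 n203814 = n172562 := d7_2 F341645 D203814 (iv3 F348178)
theorem F429938 : act 7 n203814 = n165799 := d8_2 (iv7 F338349) D203814 (iv3 D165799)
theorem F429939 : act 4 n203814 = n157872 := d20_6 F28520 F21386 D26919 D55780 D120939 D203814 (iv1 D157872) (iv4 F119161) (iv3 D77946) F56244
theorem F429940 : act 1 n166750 = n203814 := d17_8 (iv1 D157872) D157874 (iv1 F370907) F370905 (iv4 F407048) F407049 F344350 (iv5 F347058) F429939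
theorem F429941 : act 0 n163806 = n203814 := d18_0 F429939 (iv1 D157872) (iv4 F119161) (iv5 F322723) (iv4 F209401) F328558 (iv4 F203778) (iv0 F338477) F348609
def n203815 : Q := act 4 n120939
theorem D203815 : act 4 n120939 = n203815 := rfl
theorem F429942 : act 2 n203815 = n133022 := d1_1 D203815 (iv4 D133022) (iv2 F338316)
theorem F429943 : act 3 n203815 = n200600 := d5_1 D203815 F417140 F412618 (iv4 F429939) (iv3 D203814)
theorem F429944 : act 6 n203815 = n200637 := d10_2 F341645 D203815 F417312
theorem F429945 : act 7 n203815 = n165800 := d11_2 (iv7 F338349) D203815 (iv4 D165800)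
theorem F429946 : act 0 n203815 = n180365 := d17_0 F358976 F358978 (iv5 F338377) (iv4 D165729) (iv5 F337766) F337765 F323648 F192858 D203815
theorem F429947 : act 1 n203815 = n195042 := d15_0 (iv0 D195042) (iv7 F338314) (iv2 F429942)
def n203816 : Q := act 3 n120971
theorem D203816 : act 3 n120971 = n203816 := rfl
theorem F429948 : act 6 n203816 = n163697 := d7_2 F346123 D203816 F355884
theorem F429949 : act 7 n203816 = n200489 := d8_2 (iv7 F359104) D203816 F416690
theorem F429950 : act 0 n126009 = n203816 := d20_4 F79703 D50319 F168163 D126009 (iv3 D203816) (iv4 F409004) (iv1 D198728) (iv4 F407058) (iv3 D198164) (iv1 D108978)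
theorem F429951 : act 2 n200499 = n203816 := d15_3 (iv0 F429950) (iv0 F363989) D200499
theorem F429952 : act 1 n200497 = n203816 := d15_0 (iv0 F429950) (iv7 F429921) F429924
def n203817 : Q := act 1 n120973
theorem D203817 : act 1 n120973 = n203817 := rfl
theorem F429953 : act 1 n203817 = n194977 := d15_1 D203817 F395274 F366246
theorem F429954 : act 4 n165768 = n203817 := d20_0 (iv1 D203817) (iv4 D120973) (iv3 D55794) (iv1 F56968) F323872 F45320 D28048 D59024 D126017 F394704
theorem F429955 : act 3 n194875 = n203817 := d20_3 F160673 D104824 (iv4 F394837) (iv1 D203817) F192936 F115768 F56030 (iv4 F57234) D80007 (iv1 F362516)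
theorem F429956 : act 2 n203817 = n160988 := d0_1 F429955 (iv3 D160988) (iv2 F254217) D166718 (iv2 F394836)
theorem F429957 : act 6 n203817 = n194872 := d7_2 D194875 F429955 (iv3 D194872)
def n203818 : Q := act 5 n120973
theorem D203818 : act 5 n120973 = n203818 := rfl
theorem F429958 : act 3 n203818 = n160640 := d6_1 D203818 (iv5 D160640) (iv3 F192936)
theorem F429959 : act 6 n203818 = n194882 := d12_2 F298794 D203818 (iv5 D194882) (iv6 F352060) (iv5 D163100)
theorem F429960 : act 1 n203818 = n190905 := d17_6 F338708 (iv5 D63251) F333830 F322422 D120973 D203818 F381504 (iv0 F373630) F373629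
theorem F429961 : act 0 n197909 = n190907 := d20_1 (iv4 F406177) F381508 (iv3 F381503) (iv1 F429960) F429958 F253751 F248951 (iv4 F119669) (iv3 F257574) (iv1 F381402)
def n203819 : Q := act 3 n120977
theorem D203819 : act 3 n120977 = n203819 := rfl
theorem F429962 : act 6 n203819 = n160538 := d7_2 (iv6 F341232) D203819 (iv3 D160538)
theorem F429963 : act 7 n203819 = n200462 := d8_2 (iv7 F341233) D203819 F416535
theorem F429964 : act 4 n203819 = n158042 := d20_6 F56796 (iv1 F56039) F43720 D55796 D120977 D203819 (iv1 D158042) F112879 (iv3 D36060) D36058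
theorem F429965 : act 1 n126011 = n203819 := d18_6 D190024 (iv4 F378608) F374938 (iv4 F378497) (iv5 F394700) F394699 F429964 F261158 (iv5 F364274)
theorem F429966 : act 0 n190406 = n203819 := d20_1 D190406 F429964 F414669 (iv1 F414667) (iv3 D180629) F132250 (iv1 F250188) (iv4 D158895) D158894 (iv1 F364243)
def n203820 : Q := act 4 n120977
theorem D203820 : act 4 n120977 = n203820 := rfl
theorem F429967 : act 6 n203820 = n160539 := d10_2 (iv6 F341232) D203820 (iv4 D160539)
theorem F429968 : act 1 n203820 = n180787 := d18_6 D126850 (iv4 F344355) F338455 (iv4 F204201) (iv5 F341231) D203820 F281415 (iv0 F365733) F330503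
def n203821 : Q := act 3 n120978
theorem D203821 : act 3 n120978 = n203821 := rfl
theorem F429969 : act 4 n203821 = n199611 := d5_2 F405837 D203821 F412844 F405840 (iv3 F405836)
theorem F429970 : act 5 n203821 = n137303 := d6_2 (iv5 F338715) D203821 F220456
theorem F429971 : act 6 n203821 = n137306 := d7_2 (iv6 F338716) D203821 F220457
theorem F429972 : act 0 n120984 = n203821 := d20_4 (iv4 D160986) F254200 (iv4 D120985) D120984 (iv3 D203821) (iv4 F405837) (iv1 F405839) F281415 (iv3 D163724) (iv1 F254203)
def n203822 : Q := act 2 n120984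
theorem D203822 : act 2 n120984 = n203822 := rfl
theorem F429973 : act 4 n203822 = n160263 := d1_2 (iv4 F198754) D203822 (iv2 F262237)
theorem F429974 : act 5 n203822 = n135350 := d2_2 F326012 D203822 (iv2 F366466)
def n203823 : Q := act 6 n120984
theorem D203823 : act 6 n120984 = n203823 := rfl
theorem F429975 : act 3 n203823 = n120987 := d7_1 D203823 (iv6 D120987) D120984
theorem F429976 : act 4 n203823 = n124451 := d10_1 D203823 (iv6 F413343) (iv4 F198754)
theorem F429977 : act 7 n121088 = n203823 := d11_0 F429976 (iv7 F411307) (iv4 F407446)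
def n203824 : Q := act 5 n120987
theorem D203824 : act 5 n120987 = n203824 := rfl
theorem F429978 : act 2 n203824 = n121095 := d2_1 D203824 (iv5 D121095) (iv2 F333775)
theorem F429979 : act 4 n203824 = n201913 := d9_1 D203824 F422341 F245486 (iv5 F314269) F309664 D174825 (iv4 F346934) F347916 (iv4 F351385) (iv5 D115670) F84184 D53782 D116719 D202749 F425412
theorem F429980 : act 6 n203824 = n126005 := d12_2 D120987 D203824 (iv5 F351373) (iv6 D132714) (iv5 F326013)
theorem F429981 : act 7 n203824 = n121090 := d13_2 (iv7 F333776) D203824 (iv5 D121090)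
theorem F429982 : act 0 n203824 = n179286 := d17_2 (iv1 F361875) D203824 F350671 (iv4 F360255) F350673 F188040 (iv5 F330713) (iv0 F330761) (iv4 F304261)
theorem F429983 : act 1 n203824 = n163078 := d17_6 (iv1 D131553) D131554 (iv1 F333756) D202749 F425412 D203824 F257407 (iv0 F409479) F409476
def n203825 : Q := act 1 n120989
theorem D203825 : act 1 n120989 = n203825 := rfl
def n203826 : Q := act 2 n120989
theorem D203826 : act 2 n120989 = n203826 := rfl
theorem F429984 : act 1 n203826 = n200494 := d15_0 (iv0 F416737) F281098 D203826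
theorem F429985 : act 4 n203826 = n200536 := d20_2 F416731 (iv1 F429984) F416921 (iv1 D189809) (iv3 D95276) (iv4 D44508) (iv1 F33411) D36239 D79574 D165684
def n203827 : Q := act 4 n120989
theorem D203827 : act 4 n120989 = n203827 := rfl
theorem F429986 : act 2 n203827 = n200536 := d1_1 D203827 (iv4 F429985) (iv2 D203826)
theorem F429987 : act 3 n203827 = n125395 := d5_1 D203827 (iv4 D125395) (iv3 F192946) (iv4 D120990) D120989
theorem F429988 : act 6 n203827 = n172538 := d10_2 F354294 D203827 F352250
theorem F429989 : act 7 n203827 = n157825 := d11_2 F281098 D203827 (iv4 F281097)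
theorem F429990 : act 1 n203827 = n165724 := d18_6 D132739 F338361 (iv1 F338343) F341947 F326014 D203827 (iv4 D165724) (iv0 D79596) (iv5 F322724)
theorem E103873 : n203825 = n190664 := ((c20_1 D190664 (iv1 D203825) D203827 F429987 F250793 (iv3 F383171) (iv4 D191353) (iv1 F288744) F288742 (iv3 F260954) (iv1 F260959))).symm
theorem F429991 : act 0 n190664 = n120989 := (sb E103873 (iv1 D203825))
theorem F429992 : act 0 n203827 = n165729 := d20_7 (iv4 F168980) F93694 (iv4 F93213) (iv3 F325139) (iv1 F132210) D120989 D203827 (iv4 D165729) D165728 (iv1 F363224)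
def n203828 : Q := act 3 n121025
theorem D203828 : act 3 n121025 = n203828 := rfl
theorem F429993 : act 2 n203828 = n177456 := d0_1 D203828 (iv3 D177456) (iv2 F363193) (iv3 D162898) (iv2 F192981)
theorem F429994 : act 4 n203828 = n137261 := d5_2 D121025 D203828 F365884 F300620 F298137
theorem F429995 : act 6 n203828 = n167709 := d7_2 (iv6 F192982) D203828 (iv3 D167709)
theorem F429996 : act 7 n203828 = n162894 := d8_2 (iv7 F192983) D203828 (iv3 D162894)
theorem F429997 : act 0 n194806 = n203828 := d20_4 D197004 F402653 (iv4 F402593) F402588 (iv3 D203828) (iv4 D121025) (iv1 F88300) D78279 (iv3 F330148) (iv1 F165896)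
def n203829 : Q := act 0 n121030
theorem D203829 : act 0 n121030 = n203829 := rfl
theorem F429998 : act 3 n203829 = n129060 := d20_5 (iv4 D121027) (iv1 D55826) D55827 D121030 D203829 (iv4 F364831) F348390 (iv4 F348392) F348391 (iv1 F192993)
theorem F429999 : act 2 n162907 = n203829 := d15_3 (iv0 D203829) (iv0 F417116) (iv7 F417117)
theorem F430000 : act 1 n162908 = n203829 := d15_0 (iv0 D203829) F192997 D162908
theorem F430001 : act 7 n203829 = n129056 := d15_2 F417115 F430000 (iv2 F417112)
theorem F430002 : act 6 n190801 = n203829 := d21_9 F365216 D198084 F429412 (iv6 D166601) (iv1 D79958) D79961 (iv5 F322997) (iv1 F298907) (iv5 F381128) (iv1 F430000)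
def n203830 : Q := act 2 n121030
theorem D203830 : act 2 n121030 = n203830 := rfl
theorem F430003 : act 3 n203830 = n196636 := d0_2 D121030 D203830 F401277 F330150 F132681
theorem F430004 : act 4 n203830 = n121037 := d1_2 (iv4 F192996) D203830 (iv2 D121037)
theorem F430005 : act 6 n203830 = n200955 := d3_2 F297644 D203830 F418487
theorem F430006 : act 7 n203830 = n162908 := d4_2 (iv7 F192997) D203830 (iv2 D162908)
theorem F430007 : act 1 n203830 = n129056 := d15_0 F395573 (iv7 F192997) D203830
theorem F430008 : act 1 n162907 = n203830 := d15_0 F430007 (iv7 F430001) (iv2 F429999)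
theorem F430009 : act 5 n196635 = n203830 := d13_3 F430006 F365216 (iv7 F401276)
def n203831 : Q := act 5 n121030
theorem D203831 : act 5 n121030 = n203831 := rfl
theorem F430010 : act 2 n203831 = n196635 := d2_1 D203831 F430009 (iv2 D203830)
theorem F430011 : act 3 n203831 = n121031 := d6_1 D203831 (iv5 D121031) D121030
theorem F430012 : act 4 n203831 = n198105 := d9_1 D203831 F406840 F393764 F379947 F377877 (iv5 D162957) (iv4 F257224) F365216 F168920 D108939 (iv4 F393827) F393828 (iv4 D177683) F129783 (iv4 F192996)
theorem F430013 : act 7 n203831 = n162909 := d13_2 (iv7 F192997) D203831 (iv5 D162909)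
theorem F430014 : act 1 n203831 = n198084 := d17_6 F338322 D166646 F341637 F129783 (iv4 F192996) D203831 F429412 F338778 F257377
theorem F430015 : act 1 n198085 = n203831 := d15_1 D198085 F430013 (iv2 F365214)
def n203832 : Q := act 6 n121031
theorem D203832 : act 6 n121031 = n203832 := rfl
theorem F430016 : act 2 n203832 = n165729 := d3_1 D203832 (iv6 F363212) F330156
theorem F430017 : act 4 n203832 = n121796 := d10_1 D203832 F341929 (iv4 F330160)
theorem F430018 : act 5 n203832 = n132100 := d12_1 D203832 F359048 (iv5 D124613) (iv6 F297646) D121031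
theorem F430019 : act 7 n203832 = n165724 := d14_2 (iv7 F192998) D203832 F360222 F176379 F330159
theorem F430020 : act 1 n157825 = n203832 := d15_1 (iv0 F341941) F430019 (iv2 F341937)
theorem F430021 : act 0 n200536 = n203832 := d20_10 F430017 (iv1 F194392) (iv4 F260955) F260954 (iv1 F248681) D189816 (iv4 F377864) D199736 F413304 (iv3 F416921)
def n203833 : Q := act 3 n121035
theorem D203833 : act 3 n121035 = n203833 := rfl
theorem F430022 : act 2 n203833 = n200171 := d0_1 D203833 (iv3 D200171) (iv2 F175496) F348409 (iv2 F348416)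
theorem F430023 : act 7 n203833 = n162948 := d8_2 (iv7 F348417) D203833 (iv3 D162948)
theorem F430024 : act 4 n203833 = n198011 := d20_6 (iv4 D55830) (iv1 D26936) D26937 D55831 D121035 D203833 (iv1 D198011) F366060 (iv3 D58085) (iv1 F88315)
theorem F430025 : act 1 n197980 = n203833 := d15_1 (iv0 F409550) F430023 (iv2 F409546)
def n203834 : Q := act 4 n121035
theorem D203834 : act 4 n121035 = n203834 := rfl
theorem F430026 : act 2 n203834 = n162954 := d1_1 D203834 (iv4 D162954) (iv2 F348416)
theorem F430027 : act 6 n203834 = n121068 := d10_2 (iv6 F341633) D203834 (iv4 F341673)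
theorem F430028 : act 7 n203834 = n162949 := d11_2 (iv7 F348417) D203834 (iv4 D162949)
theorem F430029 : act 1 n203834 = n177016 := d18_8 D177013 F365958 (iv1 D108938) (iv4 F168920) (iv5 F365216) F257224 F193007 D203834 (iv5 D177016)
theorem F430030 : act 1 n200519 = n203834 := d15_1 (iv0 F416835) F430028 F409779
def n203835 : Q := act 0 n121045
theorem D203835 : act 0 n121045 = n203835 := rfl
theorem F430031 : act 3 n203835 = n128269 := d20_5 F213665 F347512 (iv4 D176499) (iv3 F347491) D203835 F206393 F241482 F340261 (iv3 F257996) (iv1 F341890)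
theorem F430032 : act 6 n203835 = n128267 := d21_5 F128126 F117749 D55847 D121045 D203835 F315350 F207245 (iv5 F212575) F323883 (iv1 F300789)
theorem F430033 : act 1 n178452 = n203835 := d15_0 (iv0 D203835) F355379 (iv2 F355378)
theorem F430034 : act 2 n135349 = n203835 := d3_3 F430032 F315349 D135349
theorem F430035 : act 7 n193448 = n203835 := d14_0 F430032 F206389 (iv6 F357875) (iv7 F383202) F389872
def n203836 : Q := act 1 n121045
theorem D203836 : act 1 n121045 = n203836 := rfl
theorem F430036 : act 1 n203836 = n178452 := d15_1 D203836 F355386 F272392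
theorem F430037 : act 7 n203836 = n135349 := d15_2 (iv0 D203835) D203836 F430034
theorem F430038 : act 3 n135369 = n203836 := d20_3 (iv4 F197594) (iv1 F389093) (iv4 F389095) (iv1 D203836) F347491 D176499 (iv1 F384519) F384517 (iv3 F348179) F351631
theorem F430039 : act 2 n203836 = n193448 := d0_1 F430038 F389870 F264187 F357867 (iv2 F357870)
theorem F430040 : act 6 n203836 = n174377 := d7_2 (iv6 F429933) F430038 F429932
def n203837 : Q := act 3 n121049
theorem D203837 : act 3 n121049 = n203837 := rfl
theorem F430041 : act 4 n203837 = n177496 := d5_2 D121049 D203837 (iv3 D177496) F301656 F298988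
theorem F430042 : act 6 n203837 = n164106 := d7_2 (iv6 F300522) D203837 (iv3 D164106)
theorem F430043 : act 7 n203837 = n162745 := d8_2 (iv7 F193037) D203837 (iv3 D162745)
theorem F430044 : act 0 n203837 = n194921 := d20_4 (iv4 D55851) D55849 D121049 D203837 F395009 F160483 D104763 (iv4 F358404) (iv3 D158829) (iv1 F300441)
def n203838 : Q := act 0 n121054
theorem D203838 : act 0 n121054 = n203838 := rfl
theorem F430045 : act 1 n162758 = n203838 := d15_0 (iv0 D203838) F193052 D162758
theorem F430046 : act 4 n200178 = n203838 := d20_0 (iv1 F430045) F256985 (iv3 F193008) (iv1 F193012) (iv3 F348409) F170728 (iv1 D108827) (iv4 F82255) (iv3 F175537) D200178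
theorem F430047 : act 5 n203838 = n196973 := d18_4 (iv1 F354192) (iv4 F175538) D200178 F430046 (iv4 D196973) F359489 F159242 D103822 F392988
def n203839 : Q := act 1 n121054
theorem D203839 : act 1 n121054 = n203839 := rfl
theorem F430048 : act 4 n177511 = n203839 := d20_0 (iv1 D203839) F193051 (iv3 D55856) (iv1 F60035) D84564 (iv4 F276715) F363866 F264148 (iv3 F264128) F409903
theorem F430049 : act 6 n203839 = n189882 := d10_2 F409902 F430048 (iv4 F409898)
theorem F430050 : act 0 n162758 = n203839 := d20_1 (iv4 F256985) (iv4 F430048) (iv3 D177511) (iv1 F199103) F199101 (iv4 F272999) (iv1 F349872) (iv4 F349870) F349869 (iv1 F193073)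
theorem F430051 : act 3 n198611 = n203839 := d20_5 (iv4 F175095) (iv1 F176841) F176837 (iv3 F407999) (iv1 F408606) (iv4 F430048) (iv1 F415415) F175538 F169306 D109289
theorem F430052 : act 2 n203839 = n162756 := d0_1 F430051 (iv3 F378046) (iv2 F408675) F408676 (iv2 F408524)
theorem F430053 : act 5 n203839 = n196969 := d6_2 D198611 F430051 F402480
theorem F430054 : act 7 n162757 = n203839 := d15_2 (iv0 D162756) D162757 F430052
theorem F430055 : act 7 n203838 = n162756 := d15_2 (iv0 F430050) F430045 (iv2 F430052)
theorem F430056 : act 2 n162757 = n203838 := d4_3 F430055 (iv2 F430052) (iv7 F430054)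
theorem F430057 : act 3 n198435 = n162757 := d8_3 F430054 (iv3 F430051) F408743
def n203840 : Q := act 2 n121054
theorem D203840 : act 2 n121054 = n203840 := rfl
theorem F430058 : act 3 n203840 = n198086 := d0_2 D121054 D203840 F406732 F356155 F326129
theorem F430059 : act 4 n203840 = n121064 := d1_2 (iv4 F193051) D203840 (iv2 D121064)
theorem F430060 : act 6 n203840 = n189880 := d3_2 F324596 D203840 (iv2 F378071)
theorem F430061 : act 7 n203840 = n162758 := d4_2 (iv7 F193052) D203840 (iv2 D162758)
theorem F430062 : act 1 n203840 = n162756 := d15_0 (iv0 D162756) (iv7 F193052) D203840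
theorem F430063 : act 1 n162757 = n203840 := d15_0 F430062 (iv7 F430055) (iv2 F430056)
def n203841 : Q := act 5 n121054
theorem D203841 : act 5 n121054 = n203841 := rfl
theorem F430064 : act 3 n203841 = n121055 := d6_1 D203841 (iv5 D121055) D121054
theorem F430065 : act 7 n203841 = n162759 := d13_2 (iv7 F193052) D203841 (iv5 D162759)
theorem F430066 : act 0 n203841 = n194647 := d21_1 D203841 F393943 (iv6 D166706) (iv1 F122820) (iv6 F253993) F337359 (iv1 F337341) (iv5 F378079) (iv6 F430049) (iv1 D203839)
def n203842 : Q := act 4 n121062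
theorem D203842 : act 4 n121062 = n203842 := rfl
theorem F430067 : act 2 n203842 = n162818 := d1_1 D203842 (iv4 D162818) (iv2 F336598)
theorem F430068 : act 3 n203842 = n194922 := d5_1 D203842 F395012 (iv3 F358125) (iv4 F349870) F349869
theorem F430069 : act 6 n203842 = n196179 := d10_2 F333978 D203842 F399737
theorem F430070 : act 7 n203842 = n162813 := d11_2 (iv7 F336599) D203842 (iv4 D162813)
theorem F430071 : act 5 n203842 = n194466 := d16_7 (iv4 F415092) (iv5 F415102) F389144 D193199 F389152 F360764 D203842 (iv7 F393332) F393335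
theorem F430072 : act 0 n203842 = n198404 := d20_1 D203842 (iv4 F415418) F415417 (iv1 F175544) (iv3 F319902) (iv4 D55829) (iv1 F43436) D26944 D55856 D121062
theorem F430073 : act 0 n198402 = n203842 := d21_10 F430071 (iv1 F393330) F359493 (iv6 F394701) (iv1 F394702) (iv6 F351985) D198360 (iv1 F407894) (iv5 D198401) D198402
def n203843 : Q := act 3 n121063
theorem D203843 : act 3 n121063 = n203843 := rfl
theorem F430074 : act 6 n203843 = n131555 := d7_2 (iv6 F362184) D203843 F334258
theorem F430075 : act 7 n203843 = n131556 := d8_2 (iv7 F362185) D203843 F336596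
theorem F430076 : act 1 n174136 = n203843 := d15_1 (iv0 F357679) F430075 F210804
theorem F430077 : act 0 n152926 = n203843 := d21_4 (iv5 D152923) (iv1 D72178) D72179 D152926 F430074 F342338 (iv1 F342335) (iv5 F359991) (iv6 F429360) (iv1 F429362)
def n203844 : Q := act 4 n121063
theorem D203844 : act 4 n121063 = n203844 := rfl
theorem F430078 : act 2 n203844 = n162813 := d1_1 D203844 (iv4 D162813) (iv2 F362182)
theorem F430079 : act 6 n203844 = n194272 := d10_2 (iv6 F362184) D203844 F392601
theorem F430080 : act 7 n203844 = n162818 := d11_2 (iv7 F362185) D203844 (iv4 D162818)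
theorem F430081 : act 5 n203844 = n194467 := d16_1 D203844 (iv4 F415092) (iv5 F415102) F389144 D193199 F389152 F360764 F336599 (iv2 F362182)
theorem F430082 : act 0 n203844 = n198402 := d18_2 (iv1 F193077) D203844 (iv4 F415412) F415413 F388850 D193133 F388861 F333975 (iv5 D162821)
theorem F430083 : act 0 n198404 = n203844 := d20_10 (iv4 D203844) (iv1 D121063) (iv4 F193051) (iv3 D121054) F300440 (iv3 F348119) (iv4 D111888) F161263 (iv4 F169308) (iv3 F407901)
def n203845 : Q := act 3 n121079
theorem D203845 : act 3 n121079 = n203845 := rfl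
theorem F430084 : act 7 n203845 = n160582 := d8_2 (iv7 F341249) D203845 F253664
def n203846 : Q := act 4 n121079
theorem D203846 : act 4 n121079 = n203846 := rfl
theorem F430085 : act 2 n203846 = n163061 := d1_1 D203846 (iv4 D163061) (iv2 F341248)
theorem F430086 : act 6 n203846 = n199451 := d10_2 F341253 D203846 F412257
theorem F430087 : act 7 n203846 = n160585 := d11_2 (iv7 F341249) D203846 F253666
theorem F430088 : act 3 n203846 = n199453 := d19_3 (iv1 F353968) (iv5 F337698) D203846 (iv1 F412267) F400858 F400853 (iv3 F364754) F325841 F345403 (iv4 F401421) F401420 (iv1 F245154) (iv5 F422624) F422622 (iv3 F226978) F182648 (iv5 F204306) (iv4 F338783) F338782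
theorem F430089 : act 5 n199457 = n203846 := d6_0 F430088 F412265 (iv3 F412273)
def n203847 : Q := act 4 n121082
theorem D203847 : act 4 n121082 = n203847 := rfl
theorem F430090 : act 2 n203847 = n195320 := d1_1 D203847 F396688 F353958
theorem F430091 : act 3 n203847 = n141352 := d5_1 D203847 F224395 F102217 (iv4 F318511) (iv3 F193113)
theorem F430092 : act 6 n203847 = n141350 := d10_2 (iv6 F353957) D203847 F224386
theorem F430093 : act 7 n203847 = n163076 := d11_2 (iv7 F193114) D203847 (iv4 D163076)
def n203848 : Q := act 0 n121088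
theorem D203848 : act 0 n121088 = n203848 := rfl
def n203849 : Q := act 1 n121088
theorem D203849 : act 1 n121088 = n203849 := rfl
theorem F430094 : act 3 n163145 = n203849 := d20_9 F407446 (iv1 D198278) F321447 F91893 (iv1 F44705) D39068 D84588 (iv1 F353261) (iv4 F353263) (iv1 D203849)
theorem F430095 : act 6 n121188 = n203849 := d21_9 (iv5 F423639) (iv1 F402023) F402019 (iv6 D174065) (iv1 F330843) (iv6 D166735) (iv5 F194347) (iv1 F373691) F373689 (iv1 D203849)
theorem F430096 : act 2 n203849 = n160582 := d3_1 F430095 (iv6 D160582) (iv2 F254351)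
def n203850 : Q := act 2 n121088
theorem D203850 : act 2 n121088 = n203850 := rfl
theorem F430097 : act 4 n203850 = n124450 := d1_2 (iv4 F407446) D203850 (iv2 F411309)
theorem F430098 : act 0 n160582 = n203850 := d20_10 F430097 (iv1 F407436) F407433 F199114 (iv1 F129771) D84600 D177631 (iv1 F363842) F253666 (iv3 F253664)
theorem F430099 : act 1 n160582 = n203823 := d15_1 (iv0 F430098) (iv7 F429977) D203850
def n203851 : Q := act 6 n121088
theorem D203851 : act 6 n121088 = n203851 := rfl
theorem F430100 : act 3 n203851 = n121091 := d7_1 D203851 (iv6 D121091) D121088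
theorem F430101 : act 0 n203851 = n201403 := d21_10 (iv5 D201403) (iv1 F358939) F301482 (iv6 D83243) (iv1 F127715) D173242 F271580 D174592 F423639 D203851
theorem F430102 : act 0 n189874 = n203851 := d21_4 F330844 (iv1 F274806) (iv5 F272769) (iv6 F378058) (iv6 D203851) (iv5 F423639) (iv1 F402023) F402019 (iv6 D174065) (iv1 F330843)
def n203852 : Q := act 0 n121089
theorem D203852 : act 0 n121089 = n203852 := rfl
theorem F430103 : act 5 n203852 = n203294 := d17_3 (iv1 F342335) (iv5 F359991) D203852 F427726 (iv5 F351503) F351500 (iv5 F351468) (iv0 F272905) D177188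
theorem F430104 : act 4 n203852 = n147376 := d18_1 D203852 F354859 F193280 F330713 F127690 F333732 F129502 (iv0 F333737) (iv5 F359991)
theorem F430105 : act 1 n121094 = n203852 := d15_0 (iv0 D203852) (iv7 F425411) F425409
theorem F430106 : act 3 n198828 = n203852 := d20_3 (iv4 F250036) F397371 (iv4 F409443) (iv1 F430105) F333777 (iv4 F248709) (iv1 F342134) (iv4 F355885) F355884 F345821
theorem F430107 : act 2 n203852 = n160953 := d0_1 F430106 (iv3 D160953) (iv2 F254163) (iv3 F353246) (iv2 F409442)
theorem F430108 : act 6 n203852 = n147375 := d7_2 D198828 F430106 F231092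
def n203853 : Q := act 1 n121089
theorem D203853 : act 1 n121089 = n203853 := rfl
theorem F430109 : act 1 n203853 = n121094 := d15_1 D203853 F354800 F359992
theorem F430110 : act 7 n203853 = n160953 := d15_2 (iv0 D203852) D203853 (iv2 F430107)
theorem F430111 : act 4 n203853 = n177606 := d17_9 (iv1 D177606) D177609 F428810 F428808 F210805 F354797 (iv0 F333737) (iv5 F359991) D203853
theorem F430112 : act 5 n203853 = n131688 := d18_9 F351478 F186486 (iv1 F208018) D197158 F403317 (iv4 F323598) (iv0 D121086) D121089 D203853
theorem F430113 : act 3 n131694 = n203853 := d20_9 (iv4 D121089) D121086 F323598 F176328 F327022 (iv3 F258013) (iv4 F358122) F353281 (iv4 F336541) (iv1 D203853)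
theorem F430114 : act 6 n203853 = n121194 := d7_2 (iv6 F336542) F430113 (iv3 F254183)
def n203854 : Q := act 3 n121089
theorem D203854 : act 3 n121089 = n203854 := rfl
theorem F430115 : act 2 n203854 = n191394 := d0_1 D203854 F383317 (iv2 F333787) (iv3 F273700) F359992
theorem F430116 : act 5 n203854 = n164553 := d6_2 (iv5 F359991) D203854 F259371
theorem F430117 : act 6 n203854 = n191392 := d7_2 F429360 D203854 (iv3 F429364)
theorem F430118 : act 7 n203854 = n203535 := d8_2 F425411 D203854 F428768
def n203855 : Q := act 0 n121090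
theorem D203855 : act 0 n121090 = n203855 := rfl
theorem F430119 : act 5 n203855 = n198853 := d17_1 D203855 (iv1 F409579) (iv5 F409500) F409503 F359989 (iv0 F429011) F429008 F423641 F423634
theorem F430120 : act 2 n163078 = n203855 := d15_3 (iv0 D203855) F351388 (iv7 F257408)
theorem F430121 : act 1 n121095 = n203855 := d15_0 (iv0 D203855) (iv7 F429981) F429978
theorem F430122 : act 7 n203855 = n179286 := d15_2 (iv0 F348469) F430121 (iv2 F350668)
theorem F430123 : act 3 n163135 = n203855 := d20_9 F351381 F354528 F245590 (iv3 D127070) F166298 (iv3 F403110) F403111 D197683 F405342 (iv1 F430121)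
def n203856 : Q := act 2 n121093
theorem D203856 : act 2 n121093 = n203856 := rfl
def n203857 : Q := act 4 n121093
theorem D203857 : act 4 n121093 = n203857 := rfl
theorem F430124 : act 3 n203857 = n157827 := d5_1 D203857 F248709 (iv3 F333777) (iv4 D121094) D121093
theorem F430125 : act 6 n203857 = n157825 := d10_2 (iv6 F364607) D203857 (iv4 F281097)
theorem F430126 : act 7 n203857 = n126209 := d11_2 F355481 D203857 (iv4 F355480)
theorem F430127 : act 0 n203857 = n126211 := d20_1 D203857 F327957 (iv3 F262265) F338337 F353278 F353275 (iv1 F353284) F281176 (iv3 F281164) (iv1 F389965)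
theorem F430128 : act 0 n126201 = n203857 := d20_10 (iv4 D203857) (iv1 F389964) (iv4 F357782) F417594 (iv1 D200710) D200711 F417598 (iv1 D199620) (iv4 F176543) (iv3 F202955)
theorem F430129 : act 2 n203857 = n126208 := d15_3 (iv0 D126208) D126209 (iv7 F430126)
theorem E103874 : n203856 = n180626 := ((c1_3 D203857 F430129 (iv4 F429413) (iv2 D203856))).symm
theorem F430130 : act 2 n180626 = n121093 := (sb E103874 (iv2 D203856))
def n203858 : Q := act 5 n121117
theorem D203858 : act 5 n121117 = n203858 := rfl
theorem F430131 : act 2 n203858 = n163514 := d2_1 D203858 (iv5 D163514) (iv2 F254257)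
theorem F430132 : act 3 n203858 = n161012 := d6_1 D203858 (iv5 F282296) F356037
theorem F430133 : act 6 n203858 = n161010 := d12_2 (iv6 F356027) D203858 (iv5 D161010) (iv6 F132770) (iv5 F350077)
theorem F430134 : act 7 n203858 = n163504 := d13_2 (iv7 F254244) D203858 (iv5 D163504)
theorem F430135 : act 0 n203858 = n163471 := d17_2 F262505 D203858 (iv5 F358959) F328092 (iv5 D78674) F254421 (iv5 F250804) F258226 D166776
theorem F430136 : act 1 n203858 = n191210 := d17_6 (iv1 D35816) F28283 D35266 (iv5 F254069) D121117 D203858 F382597 (iv0 D113395) F327622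
theorem F430137 : act 4 n203858 = n185666 := d18_5 (iv1 D91689) F67180 D55884 D121117 D203858 F367193 F327101 D163607 F257876
def n203859 : Q := act 5 n121122
theorem D203859 : act 5 n121122 = n203859 := rfl
theorem F430138 : act 2 n203859 = n163504 := d2_1 D203859 (iv5 D163504) (iv2 F254253)
theorem F430139 : act 3 n203859 = n125585 := d6_1 D203859 (iv5 D125585) (iv3 F328214)
theorem F430140 : act 7 n203859 = n163514 := d13_2 F254256 D203859 (iv5 D163514)
theorem F430141 : act 0 n203859 = n191210 := d17_2 F258258 D203859 F382597 F328088 (iv5 F253648) F254422 (iv5 F257740) (iv0 F258182) D163816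
theorem F430142 : act 1 n203859 = n163471 := d17_6 (iv1 F57198) (iv5 F57241) (iv1 F57245) (iv5 F254065) D121122 D203859 (iv5 F358959) F328090 (iv4 D78625)
theorem F430143 : act 4 n203859 = n185665 := d18_5 (iv1 F140953) F119738 (iv1 F88407) D121122 D203859 (iv0 D185665) (iv4 F254509) F324246 F257872
def n203860 : Q := act 0 n121135
theorem D203860 : act 0 n121135 = n203860 := rfl
theorem F430144 : act 3 n203860 = n188501 := d20_5 (iv4 D35180) F43510 D55895 D121135 D203860 (iv4 D188501) (iv1 D92201) (iv4 F141775) F141774 (iv1 F296123)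
theorem F430145 : act 1 n163237 = n203860 := d15_0 (iv0 D203860) F193184 D163237
theorem F430146 : act 6 n195542 = n203860 := d7_0 F430144 (iv6 F373740) (iv3 F397292)
theorem F430147 : act 7 n163235 = n203860 := d8_0 F430144 F373732 F338710
theorem F430148 : act 2 n203860 = n163236 := d3_1 F430146 (iv6 F408091) (iv2 F408089)
def n203861 : Q := act 1 n121135
theorem D203861 : act 1 n121135 = n203861 := rfl
theorem F430149 : act 7 n203861 = n163236 := d15_2 (iv0 D203860) D203861 (iv2 F430148)
theorem F430150 : act 3 n194800 = n203861 := d20_3 F365834 D200615 (iv4 F418166) (iv1 D203861) (iv3 D121135) (iv4 D55895) F43509 D35753 D78459 D163246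
theorem F430151 : act 2 n203861 = n163235 := d0_1 F430150 (iv3 F338710) (iv2 F373729) (iv3 F380276) (iv2 F394520)
theorem F430152 : act 5 n203861 = n190040 := d6_2 (iv5 F394521) F430150 (iv3 F381260)
theorem F430153 : act 6 n203861 = n189826 := d7_2 D194800 F430150 (iv3 F377898)
theorem F430154 : act 0 n163237 = n203861 := d20_4 (iv4 D121158) (iv1 F88447) (iv4 F119674) (iv3 F257515) (iv3 F430150) F418166 (iv1 F417225) F280665 F393486 (iv1 F393484)
def n203862 : Q := act 2 n121135
theorem D203862 : act 2 n121135 = n203862 := rfl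
theorem F430155 : act 3 n203862 = n121142 := d0_2 D121135 D203862 (iv2 D121142) (iv3 D55898) (iv2 F88429)
theorem F430156 : act 4 n203862 = n163424 := d1_2 (iv4 F193183) D203862 (iv2 D163424)
theorem F430157 : act 7 n203862 = n163237 := d4_2 (iv7 F193184) D203862 (iv2 D163237)
theorem F430158 : act 1 n203862 = n163235 := d15_0 (iv0 D163235) (iv7 F193184) D203862
theorem F430159 : act 1 n163236 = n203862 := d15_0 F430158 F430147 F430148
def n203863 : Q := act 6 n121135
theorem D203863 : act 6 n121135 = n203863 := rfl
theorem F430160 : act 3 n203863 = n121136 := d7_1 D203863 (iv6 D121136) D121135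
theorem F430161 : act 4 n203863 = n163425 := d10_1 D203863 (iv6 D163425) (iv4 F193183)
theorem F430162 : act 7 n203863 = n158095 := d14_2 (iv7 F193184) D203863 (iv6 D158095) (iv7 F129324) (iv6 F296125)
theorem F430163 : act 0 n128780 = n203863 := d18_2 (iv1 D128779) D128780 F430161 (iv5 F419249) F419248 F333235 F83920 D60612 (iv5 F342951)
def n203864 : Q := act 5 n121136
theorem D203864 : act 5 n121136 = n203864 := rfl
theorem F430164 : act 2 n203864 = n121148 := d2_1 D203864 (iv5 D121148) (iv2 F193185)
theorem F430165 : act 7 n203864 = n158098 := d13_2 (iv7 F296609) D203864 (iv5 D158098)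
theorem F430166 : act 0 n203864 = n176660 := d17_2 (iv1 F296608) D203864 (iv5 D176660) F129300 F119992 F119989 F56555 (iv0 F113664) (iv4 F250092)
theorem F430167 : act 1 n203864 = n198813 := d17_6 F323965 F298092 F296612 F88435 (iv4 F193186) D203864 (iv5 D198813) (iv0 F362582) F174583
def n203865 : Q := act 3 n121140
theorem D203865 : act 3 n121140 = n203865 := rfl
theorem F430168 : act 4 n203865 = n157889 := d5_2 F281149 D203865 (iv3 F280822) (iv4 F280820) (iv3 F281147)
theorem F430169 : act 7 n203865 = n163272 := d8_2 F254311 D203865 (iv3 D163272)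
def n203866 : Q := act 5 n121142
theorem D203866 : act 5 n121142 = n203866 := rfl
theorem F430170 : act 2 n203866 = n121143 := d2_1 D203866 (iv5 D121143) D121142
theorem F430171 : act 7 n203866 = n163278 := d13_2 (iv7 F193200) D203866 (iv5 D163278)
theorem F430172 : act 0 n203866 = n160900 := d17_2 (iv1 F193201) D203866 (iv5 D160900) (iv4 F115964) (iv5 F254071) (iv0 F258191) (iv5 F281158) F281156 F194340
theorem F430173 : act 1 n203866 = n160896 := d17_6 D35266 (iv5 F254069) (iv1 F88402) (iv5 F88449) (iv4 F193199) D203866 (iv5 D160896) (iv0 D77208) F55979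
def n203867 : Q := act 6 n121142
theorem D203867 : act 6 n121142 = n203867 := rfl
theorem F430174 : act 2 n203867 = n121144 := d3_1 D203867 (iv6 D121144) D121142
theorem F430175 : act 4 n203867 = n121166 := d10_1 D203867 (iv6 D121166) (iv4 F193199)
theorem F430176 : act 5 n203867 = n191232 := d21_6 F327916 F71537 F71535 F344663 (iv1 F193201) D203867 (iv1 D191232) F150176 (iv6 D96391) F328298
def n203868 : Q := act 4 n121143
theorem D203868 : act 4 n121143 = n203868 := rfl
theorem F430177 : act 7 n203868 = n163280 := d11_2 (iv7 F193205) D203868 (iv4 D163280)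
theorem F430178 : act 5 n203868 = n187424 := d16_1 D203868 F370275 (iv5 F347521) F140956 F88404 (iv4 F119674) D163278 (iv7 F430171) F430170
theorem F430179 : act 0 n203868 = n191202 := d17_0 (iv5 D191202) (iv1 D97376) (iv5 F138059) (iv4 F348736) (iv5 D160902) F122820 D166705 F262401 D203868
theorem F430180 : act 1 n203868 = n191198 := d18_6 F363499 F340619 (iv1 D55905) (iv4 F88440) D121143 D203868 F382556 F394950 F394947
theorem F430181 : act 0 n191203 = n194762 := d21_10 (iv5 D194762) (iv1 F381906) F381902 (iv6 F370137) (iv1 F370138) D187424 (iv5 F430178) F430179 (iv5 D191202) D191203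
def n203869 : Q := act 6 n121143
theorem D203869 : act 6 n121143 = n203869 := rfl
theorem F430182 : act 3 n203869 = n121145 := d7_1 D203869 (iv6 D121145) (iv3 F193204)
def n203870 : Q := act 1 n121144
theorem D203870 : act 1 n121144 = n203870 := rfl
def n203871 : Q := act 0 n121145
theorem D203871 : act 0 n121145 = n203871 := rfl
def n203872 : Q := act 1 n121145
theorem D203872 : act 1 n121145 = n203872 := rfl
theorem F430183 : act 6 n190925 = n203872 := d21_3 (iv5 D102219) D102217 (iv5 F383642) (iv1 D203872) (iv6 D121145) (iv5 D55899) F327202 (iv5 F327204) D160908 F365779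
def n203873 : Q := act 5 n121145
theorem D203873 : act 5 n121145 = n203873 := rfl
theorem F430184 : act 6 n203873 = n121148 := d12_2 D121145 D203873 (iv5 D121148) (iv6 D55900) D55899
def n203874 : Q := act 7 n121145
theorem D203874 : act 7 n121145 = n203874 := rfl
theorem F430185 : act 6 n203874 = n163291 := d14_1 D203874 (iv7 D163291) (iv6 D78477) (iv7 F88442) D121145
def n203875 : Q := act 1 n121148
theorem D203875 : act 1 n121148 = n203875 := rfl
theorem F430186 : act 1 n203875 = n158098 := d15_1 D203875 (iv7 F430165) F430164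
theorem F430187 : act 7 n203875 = n176660 := d15_2 F414776 D203875 (iv2 F414771)
theorem F430188 : act 5 n203875 = n164123 := d17_7 F373749 (iv5 D121155) (iv1 D55902) F43513 (iv4 F88443) D121148 D203875 F362590 (iv4 F373746)
theorem F430189 : act 3 n189216 = n203875 := d19_19 (iv1 D203875) (iv5 D121148) F88443 F43512 D26967 D55913 (iv4 F322690) (iv3 F312920) (iv1 F210736) (iv5 D61710) (iv4 D29257) D29256 (iv1 F83564) (iv5 D52883) F40588 (iv3 F40573) F69408 D93780 D189216
theorem F430190 : act 2 n203875 = n198813 := d0_1 F430189 F409366 (iv2 F407776) F407777 F376354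
theorem F430191 : act 4 n203875 = n189238 := d5_2 D189216 F430189 (iv3 D189238) (iv4 D93796) (iv3 F144556)
theorem F430192 : act 6 n203875 = n189235 := d7_2 (iv6 F376126) F430189 (iv3 D189235)
theorem F430193 : act 0 n164113 = n189238 := d20_7 (iv4 D106712) F82478 (iv4 F340316) F340315 (iv1 F348068) F258632 D164113 (iv4 F430191) (iv3 F430189) F376127
def n203876 : Q := act 4 n121148
theorem D203876 : act 4 n121148 = n203876 := rfl
def n203877 : Q := act 3 n121151
theorem D203877 : act 3 n121151 = n203877 := rfl
theorem F430194 : act 6 n203877 = n137265 := d7_2 F299378 D203877 F353287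
theorem F430195 : act 7 n203877 = n164106 := d8_2 (iv7 F297275) D203877 (iv3 D164106)
theorem F430196 : act 5 n142490 = n203877 := d12_5 F430194 F220406 F219354 (iv5 F413876) F413878
def n203878 : Q := act 5 n121151
theorem D203878 : act 5 n121151 = n203878 := rfl
theorem F430197 : act 2 n203878 = n164110 := d2_1 D203878 (iv5 D164110) F298085
theorem F430198 : act 3 n203878 = n142490 := d6_1 D203878 F430196 (iv3 D203877)
theorem F430199 : act 6 n203878 = n188511 := d12_2 F299378 D203878 F390834 F365628 (iv5 D174192)
theorem F430200 : act 7 n203878 = n164107 := d13_2 (iv7 F297275) D203878 (iv5 D164107)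
theorem F430201 : act 0 n203878 = n198744 := d17_2 (iv1 F297274) D203878 (iv5 D198744) F170062 (iv5 F326183) F326427 F119992 F119989 (iv4 F120007)
theorem F430202 : act 1 n203878 = n198688 := d17_6 (iv1 F323966) (iv5 F323062) (iv1 F358808) F358811 D121151 D203878 (iv5 D198688) (iv0 F344582) F261752
def n203879 : Q := act 5 n121154
theorem D203879 : act 5 n121154 = n203879 := rfl
theorem F430203 : act 2 n203879 = n164107 := d2_1 D203879 (iv5 D164107) (iv2 F297270)
theorem F430204 : act 3 n203879 = n131130 := d6_1 D203879 (iv5 F417661) F417659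
theorem F430205 : act 6 n203879 = n131129 := d12_2 (iv6 F193221) D203879 F210022 (iv6 F176567) F356139
theorem F430206 : act 7 n203879 = n164110 := d13_2 F298087 D203879 (iv5 D164110)
theorem F430207 : act 0 n203879 = n198688 := d17_2 (iv1 F297269) D203879 (iv5 D198688) F169768 F325609 F326913 (iv5 F326193) (iv0 F113656) (iv4 F119988)
theorem F430208 : act 1 n203879 = n198744 := d17_6 D162655 (iv5 F373747) F373749 (iv5 D121155) D121154 D203879 (iv5 D198744) (iv0 F344524) F256893
def n203880 : Q := act 5 n121193
theorem D203880 : act 5 n121193 = n203880 := rfl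
theorem F430209 : act 2 n203880 = n166754 := d2_1 D203880 F262497 (iv2 F258080)
theorem F430210 : act 7 n203880 = n166753 := d13_2 (iv7 F254204) D203880 F262494
theorem F430211 : act 4 n203880 = n134266 := d16_2 (iv4 F193278) D203880 (iv5 D134266) F98389 (iv5 F79432) (iv4 F167938) F326781 (iv7 F262444) (iv2 D166725)
theorem F430212 : act 0 n203880 = n163819 := d17_2 D121193 D203880 (iv5 D163819) (iv4 D78704) F325702 (iv0 F325687) (iv5 F60732) F60734 D55918
theorem F430213 : act 1 n203880 = n163807 := d17_6 (iv1 F258062) (iv5 F194350) (iv1 F256616) F250819 (iv4 F193278) D203880 (iv5 D163807) (iv0 F302182) F302185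
def n203881 : Q := act 5 n121194
theorem D203881 : act 5 n121194 = n203881 := rfl
theorem F430214 : act 2 n203881 = n166753 := d2_1 D203881 F262494 F254202
theorem F430215 : act 3 n203881 = n129197 := d6_1 D203881 F336577 F254183
theorem F430216 : act 6 n203881 = n129194 := d12_2 F430114 D203881 (iv5 F211038) D131688 (iv5 F430112)
theorem F430217 : act 7 n203881 = n166754 := d13_2 F258079 D203881 F262497
theorem F430218 : act 0 n203881 = n163807 := d17_2 (iv1 F193279) D203881 (iv5 D163807) (iv4 D78699) F325695 (iv0 D50923) (iv5 F324577) D26971 D55923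
theorem F430219 : act 1 n203881 = n163819 := d17_6 F327432 (iv5 F325961) F170638 F326781 (iv4 F254182) D203881 (iv5 D163819) F258180 (iv4 F327435)
def n203882 : Q := act 3 n121212
theorem D203882 : act 3 n121212 = n203882 := rfl
theorem F430220 : act 4 n203882 = n121215 := d5_2 D121212 D203882 (iv3 D121215) (iv4 D55923) D55922
theorem F430221 : act 7 n203882 = n200740 := d8_2 F328093 D203882 (iv3 D200740)
theorem F430222 : act 6 n191574 = n203882 := d14_5 F430221 F417728 (iv7 D177617) D177616 (iv7 F383882)
theorem F430223 : act 0 n200496 = n203882 := d18_2 (iv1 D200497) (iv4 F416742) F430220 (iv5 F336072) F336071 (iv0 D185862) (iv4 F288289) (iv0 F288290) (iv5 F416746)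
def n203883 : Q := act 5 n121212
theorem D203883 : act 5 n121212 = n203883 := rfl
theorem F430224 : act 2 n203883 = n191210 := d2_1 D203883 F382597 F328086
theorem F430225 : act 4 n203883 = n185612 := d9_1 D203883 (iv5 F369689) (iv4 D187278) (iv5 F358136) F333999 F254418 F262244 (iv5 F358960) F294906 (iv5 F358962) (iv4 F358139) F358127 F334003 F254383 D121212
theorem F430226 : act 7 n203883 = n163471 := d13_2 F328093 D203883 (iv5 F358959)
theorem F430227 : act 0 n203883 = n163514 := d17_2 F193291 D203883 (iv5 D163514) (iv4 D78576) (iv5 F250818) F57244 (iv5 F56474) F57195 D79976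
theorem F430228 : act 1 n203883 = n163504 := d17_6 F258191 F254071 (iv1 F254382) F254383 D121212 D203883 (iv5 D163504) D163502 F258255
theorem F430229 : act 6 n191213 = n203883 := d14_5 F430226 (iv6 D163471) (iv7 F294084) D97394 D191213
def n203884 : Q := act 6 n121212
theorem D203884 : act 6 n121212 = n203884 := rfl
theorem F430230 : act 2 n203884 = n200739 := d3_1 D203884 (iv6 D200739) F328086
theorem F430231 : act 3 n203884 = n191574 := d7_1 D203884 F430222 (iv3 D203882)
theorem F430232 : act 4 n203884 = n121214 := d10_1 D203884 (iv6 D121214) D121212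
theorem F430233 : act 5 n203884 = n193359 := d12_1 D203884 (iv6 F399135) F399134 F430229 (iv5 D203883)
theorem F430234 : act 1 n200860 = n203884 := d18_6 (iv1 F249442) (iv4 F239419) F344412 (iv4 F306580) (iv5 F334242) (iv4 F418190) F430232 (iv0 F347488) (iv5 F347489)
def n203885 : Q := act 1 n121217
theorem D203885 : act 1 n121217 = n203885 := rfl
theorem F430235 : act 7 n203885 = n145264 := d15_2 F330729 D203885 (iv2 F346956)
theorem F430236 : act 5 n203885 = n152187 := d17_7 F378641 F378640 (iv1 F414392) (iv5 D199967) (iv4 F413014) F413013 D203885 (iv0 F278239) F278238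
theorem F430237 : act 4 n203885 = n127990 := d17_9 (iv1 F350692) (iv5 F249645) F189975 D83741 (iv4 F327672) (iv5 F373443) (iv0 F413016) F413013 D203885
theorem F430238 : act 3 n152191 = n203885 := d20_3 (iv4 F352053) (iv1 F160686) (iv4 F352038) (iv1 D203885) (iv3 F334678) (iv4 F383884) (iv1 D191574) (iv4 F361720) (iv3 F348640) (iv1 D124644)
theorem F430239 : act 6 n152923 = n203885 := d21_3 (iv5 F328131) F186968 D152923 (iv1 D203885) (iv6 D121217) D121216 F334296 F334294 (iv6 F354803) (iv1 F327669)
theorem F430240 : act 2 n203885 = n186850 := d3_1 F430239 F368260 (iv2 F350691)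
def n203886 : Q := act 0 n121263
theorem D203886 : act 0 n121263 = n203886 := rfl
theorem F430241 : act 3 n203886 = n197458 := d20_5 (iv4 D27639) F43543 D55942 D121263 D203886 F404423 (iv1 D180391) (iv4 F198717) (iv3 D124230) (iv1 D57921)
theorem F430242 : act 1 n163940 = n203886 := d15_0 (iv0 D203886) F193356 D163940
theorem F430243 : act 7 n163938 = n203886 := d8_0 F430241 (iv7 F404425) (iv3 F400824)
def n203887 : Q := act 1 n121263
theorem D203887 : act 1 n121263 = n203887 := rfl
def n203888 : Q := act 2 n121263
theorem D203888 : act 2 n121263 = n203888 := rfl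
theorem F430244 : act 3 n203888 = n121271 := d0_2 D121263 D203888 (iv2 D121271) (iv3 D55945) (iv2 F88520)
theorem F430245 : act 4 n203888 = n164076 := d1_2 (iv4 F193355) D203888 (iv2 D164076)
theorem F430246 : act 7 n203888 = n163940 := d4_2 (iv7 F193356) D203888 (iv2 D163940)
theorem F430247 : act 1 n203888 = n163938 := d15_0 (iv0 D163938) (iv7 F193356) D203888
theorem F430248 : act 1 n203887 = n163940 := d15_1 D203887 (iv7 F430246) (iv2 D203888)
theorem F430249 : act 2 n163938 = n203887 := d15_3 F430248 F430242 (iv7 F430243)
theorem F430250 : act 7 n163939 = n203887 := d15_2 (iv0 D163938) D163939 (iv2 F430249)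
theorem F430251 : act 2 n203886 = n163939 := d4_3 F430250 (iv2 F430249) F430243
theorem F430252 : act 1 n163939 = n203888 := d15_0 F430247 F430243 F430251
def n203889 : Q := act 5 n121264
theorem D203889 : act 5 n121264 = n203889 := rfl
theorem F430253 : act 2 n203889 = n121277 := d2_1 D203889 (iv5 D121277) (iv2 F193357)
theorem F430254 : act 3 n203889 = n197450 := d6_1 D203889 (iv5 F404384) (iv3 F398633)
theorem F430255 : act 7 n203889 = n180389 := d13_2 (iv7 F300426) D203889 (iv5 D180389)
theorem F430256 : act 0 n203889 = n198812 := d17_2 (iv1 F300425) D203889 (iv5 D198812) (iv4 D110305) D110306 F326635 F119154 (iv0 F326644) F326648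
theorem F430257 : act 1 n203889 = n198810 := d17_6 (iv1 D124213) F299557 (iv1 F297996) F88526 (iv4 F193358) D203889 (iv5 D198810) (iv0 F407094) F407092
def n203890 : Q := act 2 n121267
theorem D203890 : act 2 n121267 = n203890 := rfl
theorem F430258 : act 3 n203890 = n163956 := d0_2 D121267 D203890 (iv2 D163956) (iv3 D78767) F88528
theorem F430259 : act 4 n203890 = n190656 := d1_2 (iv4 F193370) D203890 (iv2 D190656)
theorem F430260 : act 6 n203890 = n200869 := d3_2 F406105 D203890 (iv2 F418221)
theorem F430261 : act 7 n203890 = n163951 := d4_2 (iv7 F193371) D203890 (iv2 D163951)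
theorem F430262 : act 1 n203890 = n163949 := d15_0 (iv0 D163949) (iv7 F193371) D203890
theorem F430263 : act 1 n163950 = n203890 := d15_0 F430262 (iv7 F406199) F406197
def n203891 : Q := act 6 n121271
theorem D203891 : act 6 n121271 = n203891 := rfl
theorem F430264 : act 2 n203891 = n121273 := d3_1 D203891 (iv6 D121273) D121271
theorem F430265 : act 4 n203891 = n121295 := d10_1 D203891 (iv6 D121295) (iv4 F193377)
theorem F430266 : act 0 n203891 = n164562 := d21_10 F338230 (iv1 F410259) F410258 (iv6 D111567) (iv1 D51456) D51459 D111576 D199665 F413050 D203891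
theorem F430267 : act 1 n203891 = n198358 := d15_1 (iv0 F430266) F407748 (iv2 F259398)
def n203892 : Q := act 4 n121272
theorem D203892 : act 4 n121272 = n203892 := rfl
theorem F430268 : act 2 n203892 = n190104 := d1_1 D203892 (iv4 F413054) (iv2 F413051)
theorem F430269 : act 3 n203892 = n190131 := d5_1 D203892 F382752 F258392 F119923 (iv3 F193381)
theorem F430270 : act 7 n203892 = n163966 := d11_2 (iv7 F193382) D203892 (iv4 D163966)
theorem F430271 : act 6 n190102 = n203892 := d14_5 F430270 (iv6 F409383) F409384 F408086 F381676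
def n203893 : Q := act 6 n121272
theorem D203893 : act 6 n121272 = n203893 := rfl
theorem F430272 : act 2 n203893 = n190103 := d3_1 D203893 F413055 (iv2 F413051)
theorem F430273 : act 3 n203893 = n121274 := d7_1 D203893 (iv6 D121274) (iv3 F193381)
theorem F430274 : act 4 n203893 = n190102 := d10_1 D203893 F430271 (iv4 D203892)
theorem F430275 : act 7 n191001 = n203893 := d11_0 F430274 (iv7 F381676) (iv4 F381839)
theorem F430276 : act 1 n191004 = n203893 := d17_8 (iv1 F381625) (iv5 D190940) (iv1 D97072) D97074 F364880 (iv5 D174586) D174584 (iv5 F392154) F430274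
theorem F430277 : act 0 n190971 = n203893 := d18_2 (iv1 D190970) D190971 F430274 (iv5 F393112) F393111 F285753 D185521 F367168 (iv5 F381759)
def n203894 : Q := act 1 n121273
theorem D203894 : act 1 n121273 = n203894 := rfl
theorem F430278 : act 7 n203894 = n164562 := d15_2 (iv0 F322713) D203894 F259398
theorem F430279 : act 4 n203894 = n164563 := d18_7 (iv1 D101603) F306170 (iv1 D39410) (iv4 F60334) F322714 (iv4 F193384) D203894 (iv0 F342043) F342045
theorem F430280 : act 5 n203894 = n139020 := d18_9 F407103 F407102 (iv1 F246451) F171646 D110957 F333003 F322703 (iv4 F193384) D203894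
theorem F430281 : act 3 n139021 = n203894 := d6_3 F430280 (iv3 D139020) D139021
theorem F430282 : act 6 n177499 = n203894 := d21_5 D50326 D108997 F359825 D197709 (iv1 F405465) F430280 F407103 (iv5 D198173) (iv6 D108994) (iv1 D50324)
theorem F430283 : act 2 n203894 = n198358 := d3_1 F430282 F407747 F406050
def n203895 : Q := act 5 n121273
theorem D203895 : act 5 n121273 = n203895 := rfl
theorem F430284 : act 3 n203895 = n121277 := d6_1 D203895 (iv5 D121277) (iv3 F193383)
theorem F430285 : act 4 n203895 = n156463 := d16_2 (iv4 F193384) D203895 F358661 (iv4 D146659) F199958 F305191 F303121 (iv7 F322712) F193406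
theorem F430286 : act 0 n203895 = n198356 := d17_2 (iv1 D203894) D203895 (iv5 D198356) F358654 (iv5 D178890) (iv0 F307032) F307033 F259402 (iv4 F430279)
theorem F430287 : act 1 n203895 = n197456 := d17_6 F259406 F305098 (iv1 F305096) F322714 (iv4 F193384) D203895 F404417 F405594 F405592
def n203896 : Q := act 0 n121274
theorem D203896 : act 0 n121274 = n203896 := rfl
def n203897 : Q := act 5 n121274
theorem D203897 : act 5 n121274 = n203897 := rfl
theorem F430288 : act 6 n203897 = n121277 := d12_2 D121274 D203897 (iv5 D121277) (iv6 D55947) D55946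
def n203898 : Q := act 7 n121274
theorem D203898 : act 7 n121274 = n203898 := rfl
theorem F430289 : act 3 n203898 = n191001 := d8_1 D203898 F430275 F430273
theorem F430290 : act 4 n203898 = n197929 := d11_1 D203898 F406217 F258396
theorem F430291 : act 6 n203898 = n163977 := d14_1 D203898 (iv7 D163977) (iv6 D78775) (iv7 F88533) D121274
def n203899 : Q := act 3 n121276
theorem D203899 : act 3 n121276 = n203899 := rfl
theorem F430292 : act 4 n203899 = n164106 := d5_2 F256104 D203899 (iv3 D164106) F254712 (iv3 F298091)
theorem F430293 : act 6 n203899 = n177496 := d7_2 (iv6 F256105) D203899 (iv3 D177496)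
theorem F430294 : act 0 n199566 = n203899 := d20_4 (iv4 F407665) F407664 F202002 (iv3 F412691) (iv3 D203899) (iv4 F256104) (iv1 D77944) (iv4 F119158) (iv3 F326653) F223779
def n203900 : Q := act 4 n121277
theorem D203900 : act 4 n121277 = n203900 := rfl
theorem F430295 : act 0 n203900 = n196413 := d18_2 F409350 D203900 (iv4 D196413) (iv5 F345393) (iv4 F325651) (iv0 F254954) D180163 F362616 D198809
theorem F430296 : act 1 n203900 = n196415 := d18_6 (iv1 F299581) (iv4 D121283) (iv1 D55949) (iv4 F88534) D121277 D203900 (iv4 D196415) (iv0 F358804) (iv5 D180403)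
def n203901 : Q := act 3 n121306
theorem D203901 : act 3 n121306 = n203901 := rfl
theorem F430297 : act 4 n203901 = n203806 := d5_2 D121306 D203901 (iv3 D203806) (iv4 D120663) (iv3 F88572)
theorem F430298 : act 5 n203901 = n121359 := d6_2 F215483 D203901 (iv3 F312074)
theorem F430299 : act 7 n203901 = n159986 := d8_2 F247664 D203901 F366755
theorem F430300 : act 0 n151708 = n203901 := d20_4 F420810 (iv1 D200447) F392240 (iv3 F392239) (iv3 D203901) (iv4 D121306) F88573 D119026 (iv3 F420807) F420809
theorem F430301 : act 2 n159981 = n203901 := d2_3 F430298 F261868 D159981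
theorem F430302 : act 1 n159981 = n197034 := d15_0 (iv0 F402767) (iv7 F430299) (iv2 F430301)
def n203902 : Q := act 1 n121308
theorem D203902 : act 1 n121308 = n203902 := rfl
theorem F430303 : act 1 n203902 = n121315 := d15_1 D203902 (iv7 D121315) (iv2 F193435)
theorem F430304 : act 7 n203902 = n121312 := d15_2 (iv0 F419474) D203902 (iv2 F419470)
theorem F430305 : act 4 n203902 = n151322 := d18_7 F337873 D164323 (iv1 F337886) F161828 (iv5 F88582) (iv4 F193436) D203902 F398338 F398336
theorem F430306 : act 3 n202984 = n203902 := d20_3 F426866 F397640 (iv4 F426498) (iv1 D203902) (iv3 F374134) (iv4 F420956) F420957 (iv4 F355103) (iv3 F355104) (iv1 F426868)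
theorem F430307 : act 6 n199323 = n203902 := d21_3 F355304 D134053 (iv5 F411700) (iv1 D203902) (iv6 D121308) F88576 F53017 (iv5 F55467) D76596 F189728
theorem F430308 : act 2 n203902 = n121313 := d3_1 F430307 (iv6 F355074) D199323
theorem F430309 : act 5 n193808 = n203902 := d21_8 F411685 (iv1 F355789) (iv5 F216330) F329096 (iv1 F347609) (iv6 F391064) (iv5 D193811) D193808 (iv6 F430307) (iv1 F411703)
def n203903 : Q := act 5 n121308
theorem D203903 : act 5 n121308 = n203903 := rfl
theorem F430310 : act 2 n203903 = n121314 := d2_1 D203903 (iv5 D121314) (iv2 F193435)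
theorem F430311 : act 3 n203903 = n194099 := d6_1 D203903 F392051 F374134
theorem F430312 : act 4 n203903 = n175482 := d9_1 D203903 (iv5 D175482) (iv4 F348220) (iv5 F309588) F317067 F178943 (iv4 F193447) F348244 (iv4 F348235) (iv5 D175487) D175486 F348242 F161828 (iv5 F88582) (iv4 F193436)
theorem F430313 : act 6 n203903 = n154836 := d12_2 D121308 D203903 (iv5 D154836) (iv6 D73430) (iv5 F88576)
theorem F430314 : act 7 n203903 = n194123 := d16_8 (iv4 F348235) (iv5 D175487) D175486 F348242 F161828 (iv5 F88582) (iv4 F193436) D203903 (iv2 D194123)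
theorem F430315 : act 1 n203903 = n194121 := d17_8 F403505 (iv5 D154836) (iv1 F314826) D124178 F391056 (iv5 F419475) (iv0 F419474) D203903 (iv4 F403506)
theorem F430316 : act 1 n194122 = n203903 := d15_1 D194122 F430314 (iv2 D194123)
def n203904 : Q := act 7 n121308
theorem D203904 : act 7 n121308 = n203904 := rfl
theorem F430317 : act 2 n203904 = n121315 := d4_1 D203904 (iv7 D121315) (iv2 F193435)
theorem F430318 : act 4 n203904 = n121311 := d11_1 D203904 (iv7 D121311) (iv4 F193436)
theorem F430319 : act 5 n203904 = n194123 := d13_1 D203904 (iv7 F430314) (iv5 D203903)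
theorem F430320 : act 6 n203904 = n159693 := d14_1 D203904 (iv7 D159693) (iv6 D76402) (iv7 F88577) D121308
theorem F430321 : act 1 n121313 = n203904 := d15_1 D121313 (iv7 D203904) F193435
theorem F430322 : act 1 n203904 = n121312 := d15_1 F430321 (iv7 F430304) F430308
def n203905 : Q := act 4 n121309
theorem D203905 : act 4 n121309 = n203905 := rfl
theorem F430323 : act 2 n203905 = n121318 := d1_1 D203905 (iv4 D121318) (iv2 F354921)
theorem F430324 : act 3 n203905 = n154360 := d5_1 D203905 F361979 (iv3 D164443) F177935 (iv3 F354922)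
theorem F430325 : act 6 n203905 = n202903 := d10_2 F421190 D203905 (iv4 F426128)
theorem F430326 : act 7 n203905 = n121323 := d11_2 (iv7 F354923) D203905 (iv4 D121323)
theorem F430327 : act 0 n203905 = n154382 := d18_2 D121309 D203905 (iv4 F354932) (iv5 F252037) F338148 (iv0 D117346) (iv4 F318958) F335470 (iv5 F88582)
theorem F430328 : act 1 n203905 = n151514 := d18_6 F363496 (iv4 F316370) (iv1 F357751) (iv4 F420266) F420267 D203905 F238384 D195821 (iv5 F398331)
def n203906 : Q := act 5 n121312
theorem D203906 : act 5 n121312 = n203906 := rfl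
theorem F430329 : act 2 n203906 = n193809 := d2_1 D203906 (iv5 F419475) F419470
theorem F430330 : act 3 n203906 = n203570 := d6_1 D203906 (iv5 D203570) (iv3 F398326)
theorem F430331 : act 7 n203906 = n193808 := d13_2 F430304 D203906 F430309
theorem F430332 : act 4 n203906 = n203420 := d16_6 (iv4 F91906) D124506 (iv4 F354306) (iv5 F398321) (iv4 F398325) D203906 F428223 F337504 F106335
theorem F430333 : act 1 n203906 = n191300 := d17_8 F310350 F274748 F310345 D154462 (iv4 F392113) (iv5 F430319) F430322 D203906 (iv4 F382942)
theorem F430334 : act 0 n203906 = n193810 := d18_0 F391057 (iv1 D154472) D154473 (iv5 F354925) (iv4 D121323) F193443 (iv4 F430318) F430322 D203906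
theorem F430335 : act 6 n203316 = n203906 := d10_0 F430332 (iv6 D203420) (iv4 F427839)
def n203907 : Q := act 6 n121312
theorem D203907 : act 6 n121312 = n203907 := rfl
theorem F430336 : act 2 n203907 = n203350 := d3_1 D203907 F428000 F419470
theorem F430337 : act 3 n203907 = n203571 := d7_1 D203907 (iv6 D203571) (iv3 F398326)
theorem F430338 : act 4 n203907 = n146400 := d10_1 D203907 F424855 (iv4 F398325)
theorem F430339 : act 5 n203907 = n152056 := d12_1 D203907 F413389 D203316 F430335 (iv5 D203906)
def n203908 : Q := act 0 n121314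
theorem D203908 : act 0 n121314 = n203908 := rfl
theorem F430340 : act 5 n203908 = n203085 := d17_3 (iv1 D121313) D121314 D203908 F426912 (iv5 D202952) F317050 (iv5 F163390) D195821 F398333
theorem F430341 : act 1 n194123 = n203908 := d15_0 (iv0 D203908) (iv7 F348248) D194123
theorem F430342 : act 3 n203086 = n203908 := d6_3 F430340 (iv3 D203085) D203086
theorem F430343 : act 7 n194121 = n203908 := d13_0 F430340 F426913 F403507
theorem F430344 : act 2 n203908 = n194122 := d15_3 F430316 F430315 F430343
def n203909 : Q := act 1 n121314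
theorem D203909 : act 1 n121314 = n203909 := rfl
theorem F430345 : act 1 n203909 = n194123 := d15_1 D203909 (iv7 F430314) F430310
theorem F430346 : act 7 n203909 = n194122 := d15_2 (iv0 D203908) D203909 (iv2 F430344)
theorem F430347 : act 4 n203909 = n152036 := d17_9 (iv1 F364120) (iv5 D123216) D123214 (iv5 F428223) (iv4 F430332) (iv5 D203906) (iv0 D121312) D121314 D203909
theorem F430348 : act 6 n159422 = n203909 := d21_3 F427907 (iv1 F237878) D159422 (iv1 D203909) (iv6 F197511) (iv5 D123216) D123214 (iv5 F428223) (iv6 D203420) (iv1 F427905)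
theorem F430349 : act 2 n203909 = n194121 := d3_1 F430348 F403508 (iv2 F251053)
def n203910 : Q := act 6 n121317
theorem D203910 : act 6 n121317 = n203910 := rfl
theorem F430350 : act 2 n203910 = n201512 := d3_1 D203910 (iv6 D201512) F338593
theorem F430351 : act 3 n203910 = n121320 := d7_1 D203910 (iv6 D121320) D121317
theorem F430352 : act 5 n203910 = n201485 := d21_6 (iv5 D26850) D26848 (iv5 F83653) (iv6 F178763) F338594 D203910 (iv1 D201485) (iv5 D114608) (iv6 D52901) (iv1 F43266)
theorem F430353 : act 0 n130657 = n203910 := d21_4 F83937 F46948 D61305 D130657 (iv6 D203910) (iv5 F397494) (iv1 F397498) F338537 (iv6 D107742) (iv1 F83936)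
theorem F430354 : act 1 n201535 = n203910 := d15_0 (iv0 F430353) (iv7 F339333) (iv2 F420884)
def n203911 : Q := act 0 n121318
theorem D203911 : act 0 n121318 = n203911 := rfl
theorem F430355 : act 4 n203911 = n195822 := d18_3 D55968 D121318 D203911 F398336 F189374 (iv0 F232476) (iv4 F104892) F319342 F83726
theorem F430356 : act 2 n154382 = n203911 := d15_3 (iv0 D203911) (iv0 F355078) (iv7 F354934)
theorem F430357 : act 1 n121323 = n203911 := d15_0 (iv0 D203911) F354919 (iv2 F354926)
theorem F430358 : act 7 n203911 = n151514 := d15_2 (iv0 F353785) F430357 F238383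
theorem F430359 : act 6 n159724 = n203911 := d14_5 F430358 (iv6 D151514) (iv7 F107957) D151324 (iv7 F355769)
def n203912 : Q := act 5 n121318
theorem D203912 : act 5 n121318 = n203912 := rfl
theorem F430360 : act 3 n203912 = n153822 := d6_1 D203912 (iv5 D153822) (iv3 F354976)
theorem F430361 : act 4 n203912 = n175492 := d9_1 D203912 F274748 F314823 (iv5 F332492) F354915 (iv5 F321363) D121323 F354925 (iv4 D154473) (iv5 D73171) D73170 (iv5 F337184) F354924 (iv5 D121319) D121318
theorem F430362 : act 7 n203912 = n154385 := d13_2 (iv7 F354919) D203912 (iv5 D154385)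
theorem F430363 : act 0 n183780 = n203912 := d21_7 F425054 (iv1 D188323) (iv5 F361655) F361656 (iv1 F289292) D186491 F289359 (iv5 D203912) (iv6 F425058) (iv1 F425056)
def n203913 : Q := act 6 n121319
theorem D203913 : act 6 n121319 = n203913 := rfl
theorem F430364 : act 2 n203913 = n203160 := d3_1 D203913 F427231 F420264
theorem F430365 : act 3 n203913 = n145011 := d7_1 D203913 F397500 F397496
theorem F430366 : act 4 n203913 = n166289 := d10_1 D203913 F355216 F354924
theorem F430367 : act 7 n203913 = n145006 := d14_2 (iv7 F354920) D203913 (iv6 D145006) F319485 D148029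
theorem F430368 : act 0 n203913 = n201609 := d21_4 F83726 D55968 D121319 D203913 F421131 F314440 (iv1 F161802) (iv5 F340677) (iv6 D114854) F324269
theorem F430369 : act 0 n201608 = n203913 := d21_4 (iv5 F145327) (iv1 F157851) F360908 (iv6 F421125) (iv6 D203913) (iv5 D121319) (iv1 F193444) F193440 F161831 F145325
def n203914 : Q := act 4 n121330
theorem D203914 : act 4 n121330 = n203914 := rfl
theorem F430370 : act 7 n203914 = n186926 := d11_2 (iv7 F193460) D203914 (iv4 F368530)
theorem F430371 : act 0 n203914 = n186491 := d17_0 F289359 F430363 (iv5 D203912) (iv4 D121318) D121319 (iv0 F420258) F420253 F335472 D203914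
theorem F430372 : act 0 n203055 = n203914 := d20_7 (iv4 F419553) (iv1 F419554) (iv4 D114165) (iv3 F177909) F313073 (iv3 F360944) (iv4 F426807) (iv4 D203914) F193459 D121332
theorem F430373 : act 3 n186554 = n203914 := d8_3 F430370 (iv3 D186926) (iv7 F368296)
def n203915 : Q := act 3 n121332
theorem D203915 : act 3 n121332 = n203915 := rfl
theorem F430374 : act 2 n203915 = n176083 := d0_1 D203915 (iv3 F420263) F421040 (iv3 D201585) F193528
theorem F430375 : act 5 n203915 = n148720 := d6_2 (iv5 F193463) D203915 F233488
theorem F430376 : act 7 n203915 = n201579 := d8_2 F193529 D203915 (iv3 F421006)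
theorem F430377 : act 0 n203915 = n201573 := d20_4 D114154 D201231 F419553 D203915 F420974 F376352 F360143 (iv4 F275311) (iv3 F347626) (iv1 D114153)
theorem F430378 : act 0 n201572 = n203915 := d20_4 (iv4 D81560) (iv1 F300130) D167897 (iv3 F420971) (iv3 D203915) (iv4 F419553) (iv1 F419554) (iv4 D114165) (iv3 F177909) F313073
theorem F430379 : act 6 n158549 = n203915 := d21_3 (iv5 F339464) (iv1 D158547) D158549 F430377 F420975 F396229 (iv1 F392182) (iv5 D194141) F365210 F371522
def n203916 : Q := act 6 n121332
theorem D203916 : act 6 n121332 = n203916 := rfl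
theorem F430380 : act 2 n203916 = n201586 := d3_1 D203916 (iv6 D201586) F193528
theorem F430381 : act 3 n203916 = n158549 := d7_1 D203916 F430379 (iv3 D203915)
theorem F430382 : act 5 n203916 = n148722 := d12_1 D203916 (iv6 D148722) (iv5 D69701) D69702 (iv5 F193463)
theorem F430383 : act 7 n203916 = n164628 := d14_2 F193529 D203916 (iv6 D164628) F193501 F193535
theorem F430384 : act 0 n203916 = n189291 := d21_4 (iv5 F83720) (iv1 F193466) (iv5 F193463) D203916 (iv6 D189291) (iv5 D93854) (iv1 F114638) (iv5 F193567) (iv6 D121349) (iv1 F88594)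
theorem F430385 : act 0 n203345 = n203916 := d17_0 F430382 F362725 F362726 (iv4 F314186) (iv5 D102266) (iv0 F378409) (iv5 F390786) (iv0 F390789) (iv4 F427979)
def n203917 : Q := act 3 n121334
theorem D203917 : act 3 n121334 = n203917 := rfl
theorem F430386 : act 4 n203917 = n186554 := d5_2 D121334 D203917 F430373 (iv4 D203914) F193459
theorem F430387 : act 6 n203917 = n187079 := d7_2 (iv6 F339972) D203917 F369046
theorem F430388 : act 7 n203917 = n186927 := d8_2 (iv7 F193537) D203917 F368532
theorem F430389 : act 0 n203917 = n186588 := d20_4 F419559 (iv1 D121333) D121334 D203917 F367339 F359292 F346223 (iv4 F419567) (iv3 D201234) (iv1 F419557)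
theorem F430390 : act 1 n203917 = n187084 := d15_1 (iv0 F430389) (iv7 D187084) (iv2 F367338)
theorem F430391 : act 2 n186929 = n203917 := d15_3 F430390 (iv0 F414766) F414765
def n203918 : Q := act 5 n121343
theorem D203918 : act 5 n121343 = n203918 := rfl
theorem F430392 : act 2 n203918 = n201590 := d2_1 D203918 (iv5 D201590) (iv2 F193553)
theorem F430393 : act 3 n203918 = n142407 := d6_1 D203918 (iv5 F338525) (iv3 F338532)
theorem F430394 : act 6 n203918 = n121344 := d12_2 D121343 D203918 (iv5 D121344) (iv6 D55980) D55979
theorem F430395 : act 7 n203918 = n196138 := d13_2 F235972 D203918 F399578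
def n203919 : Q := act 0 n121346
theorem D203919 : act 0 n121346 = n203919 := rfl
theorem F430396 : act 4 n203919 = n193636 := d18_1 D203919 F390529 (iv4 F225134) F366043 (iv4 F421718) (iv0 D201762) F179164 D115049 (iv5 F193561)
theorem F430397 : act 3 n203919 = n193589 := d20_5 F424850 (iv1 F426126) (iv4 F426128) (iv3 F421189) D203919 (iv4 D193589) F356506 (iv4 F419506) F419505 F424852
theorem F430398 : act 2 n195576 = n203919 := d15_3 (iv0 D203919) (iv0 F393626) (iv7 F397415)
theorem F430399 : act 6 n203919 = n121355 := d3_2 F398268 F430398 (iv2 F398267)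
theorem F430400 : act 7 n203919 = n201591 := d4_2 (iv7 F397415) F430398 F421067
theorem F430401 : act 1 n201592 = n203919 := d15_1 F421071 F430400 F421067
def n203920 : Q := act 7 n121346
theorem D203920 : act 7 n121346 = n203920 := rfl
theorem F430402 : act 2 n203920 = n201592 := d4_1 D203920 (iv7 D201592) (iv2 F193560)
theorem F430403 : act 3 n203920 = n201666 := d8_1 D203920 F421303 (iv3 F421189)
theorem F430404 : act 4 n203920 = n194538 := d11_1 D203920 F393638 F259086
theorem F430405 : act 5 n203920 = n159345 := d13_1 D203920 F250857 (iv5 F193561)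
theorem F430406 : act 6 n203920 = n201593 := d14_1 D203920 (iv7 D201593) (iv6 D114862) (iv7 F161743) D121346
theorem F430407 : act 1 n201591 = n203920 := d15_1 D201591 (iv7 D203920) F193560
theorem F430408 : act 1 n203920 = n195576 := d15_1 F430407 F397415 (iv2 F421067)
def n203921 : Q := act 7 n121348
theorem D203921 : act 7 n121348 = n203921 := rfl
theorem F430409 : act 2 n203921 = n201593 := d4_1 D203921 (iv7 D201593) (iv2 F193563)
theorem F430410 : act 6 n203921 = n201592 := d14_1 D203921 (iv7 D201592) (iv6 D114860) F161742 D121348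
theorem F430411 : act 1 n195223 = n203921 := d15_1 (iv0 F396350) (iv7 D203921) F193563
theorem F430412 : act 1 n203921 = n200348 := d15_1 F430411 F416093 (iv2 F396343)
def n203922 : Q := act 5 n121350
theorem D203922 : act 5 n121350 = n203922 := rfl
theorem F430413 : act 2 n203922 = n195222 := d2_1 D203922 (iv5 D195222) F355722
theorem F430414 : act 3 n203922 = n187794 := d6_1 D203922 (iv5 F420345) F420347
theorem F430415 : act 0 n187781 = n203922 := d21_10 (iv5 D203922) (iv1 F235295) (iv5 F362726) F362727 (iv1 F418704) (iv6 F418706) (iv5 F377344) (iv1 F377346) F350454 D187781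
def n203923 : Q := act 5 n121351
theorem D203923 : act 5 n121351 = n203923 := rfl
theorem F430416 : act 3 n203923 = n195216 := d6_1 D203923 (iv5 D195216) F278217
theorem F430417 : act 7 n203923 = n195222 := d13_2 F355718 D203923 (iv5 D195222)
theorem F430418 : act 6 n203923 = n148769 := d21_3 F362726 (iv1 F235294) D203923 (iv1 F251521) (iv6 D159653) F114494 (iv1 F55219) D69701 D148722 F362725
theorem F430419 : act 3 n148769 = n200141 := d7_1 F430418 F415214 (iv3 F430416)
theorem F430420 : act 1 n187781 = n203923 := d15_1 (iv0 F430415) F430417 (iv2 F430413)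
def n203924 : Q := act 6 n121351
theorem D203924 : act 6 n121351 = n203924 := rfl
theorem F430421 : act 3 n203924 = n145950 := d7_1 D203924 F361628 F278217
theorem F430422 : act 4 n203924 = n195653 := d10_1 D203924 (iv6 D195653) (iv4 F278216)
theorem F430423 : act 0 n189293 = n203924 := d18_2 (iv1 F364560) (iv4 F376343) F430422 (iv5 F414268) F414272 F408239 (iv4 D198527) (iv0 D109512) D109515
theorem F430424 : act 0 n203924 = n196116 := d20_7 (iv4 F174381) (iv1 F324382) F324384 (iv3 F361108) F361115 (iv3 F397737) (iv4 F430422) F399494 F359234 (iv1 F353335)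
def n203925 : Q := act 1 n121352
theorem D203925 : act 1 n121352 = n203925 := rfl
theorem F430425 : act 1 n203925 = n135859 := d15_1 D203925 (iv7 F362729) (iv2 F193572)
theorem F430426 : act 7 n203925 = n159644 := d15_2 (iv0 F233489) D203925 F251495
theorem F430427 : act 5 n150007 = n203925 := d21_0 (iv1 D203925) (iv5 D121352) (iv6 D55984) (iv1 F51813) (iv6 F68976) (iv5 D43873) D43871 D93854 D189291 F376341
theorem F430428 : act 6 n135603 = n203925 := d21_3 (iv5 D63855) D63852 F218066 (iv1 D203925) F193574 (iv5 D68654) (iv1 F50288) (iv5 F51385) D69717 (iv1 F322888)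
theorem F430429 : act 2 n203925 = n201011 := d3_1 F430428 (iv6 F418726) (iv2 F218064)
theorem F430430 : act 3 n203925 = n135606 := d7_1 F430428 (iv6 D135606) D135603
theorem F430431 : act 4 n203925 = n195624 := d20_6 (iv4 F177855) (iv1 F161575) F161571 (iv3 F161525) (iv1 F333244) (iv3 F430430) (iv1 D195624) F163126 F77427 D49050
def n203926 : Q := act 4 n121352
theorem D203926 : act 4 n121352 = n203926 := rfl
theorem F430432 : act 2 n203926 = n201010 := d1_1 D203926 F418719 (iv2 F193572)
theorem F430433 : act 3 n203926 = n135662 := d5_1 D203926 (iv4 D135662) (iv3 F336813) F336814 (iv3 F193573)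
theorem F430434 : act 6 n203926 = n146429 := d10_2 (iv6 F193574) D203926 (iv4 D146429)
theorem F430435 : act 1 n203926 = n132174 := d18_6 (iv1 F120162) F190344 (iv1 F259134) F120172 D121352 D203926 (iv4 F216447) F332612 F163131
def n203927 : Q := act 5 n121355
theorem D203927 : act 5 n121355 = n203927 := rfl
theorem F430436 : act 2 n203927 = n196409 := d2_1 D203927 F400620 F398267
theorem F430437 : act 3 n203927 = n188007 := d6_1 D203927 F372056 F357121
theorem F430438 : act 4 n203927 = n140623 := d9_1 D203927 (iv5 F360111) F163565 F77632 (iv4 F95010) D128536 (iv4 F339726) D201599 F421098 F400622 F164841 F78143 (iv4 F100551) (iv5 F329744) (iv4 F357125)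
theorem F430439 : act 7 n203927 = n201438 := d13_2 (iv7 F357126) D203927 F420515
theorem F430440 : act 0 n203927 = n157733 := d17_2 (iv1 F390815) D203927 F248600 (iv4 F401699) (iv5 D196756) F165332 (iv5 F350566) (iv0 F357185) (iv4 F390812)
theorem F430441 : act 1 n203927 = n196754 := d17_6 (iv1 F204375) (iv5 D127124) F161382 (iv5 F329744) (iv4 F357125) D203927 F401692 (iv0 F401680) (iv4 D130589)
theorem F430442 : act 6 n203927 = n157738 := d21_3 F390814 (iv1 F390815) D203927 (iv1 F248618) (iv6 F228247) F228246 (iv1 F157740) D90654 (iv6 F178405) (iv1 F205660)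
def n203928 : Q := act 6 n121359
theorem D203928 : act 6 n121359 = n203928 := rfl
theorem F430443 : act 2 n203928 = n159982 := d3_1 D203928 (iv6 D159982) (iv2 F261868)
theorem F430444 : act 5 n203928 = n203305 := d21_6 F77591 (iv1 D26998) D26999 D55987 D121359 D203928 (iv1 D203305) (iv5 D118674) (iv6 D54641) F77593
def n203929 : Q := act 5 n121360
theorem D203929 : act 5 n121360 = n203929 := rfl
theorem F430445 : act 2 n203929 = n159986 := d2_1 D203929 (iv5 D159986) (iv2 F261872)
theorem F430446 : act 3 n203929 = n159593 := d6_1 D203929 (iv5 D159593) (iv3 F261873)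
theorem F430447 : act 6 n203929 = n186663 := d12_2 F374086 D203929 F367586 (iv6 F372622) (iv5 F374082)
theorem F430448 : act 7 n203929 = n159981 := d13_2 (iv7 F261875) D203929 (iv5 D159981)
theorem F430449 : act 0 n203929 = n151708 := d18_0 F238587 D151709 F392241 (iv5 D151564) D151563 F252356 F107997 D121360 D203929
def n203930 : Q := act 0 n121361
theorem D203930 : act 0 n121361 = n203930 := rfl
theorem F430450 : act 3 n203930 = n133707 := d20_5 F379859 F415804 F415801 (iv3 F193584) D203930 (iv4 D133707) F97930 D131300 (iv3 F410057) (iv1 F410060)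
theorem F430451 : act 6 n203930 = n190455 := d21_5 (iv5 D106716) F77972 D55988 (iv6 F193585) D203930 F379806 (iv1 D151979) (iv5 F238983) (iv6 D151972) (iv1 F164489)
theorem F430452 : act 2 n159988 = n203930 := d15_3 (iv0 D203930) (iv0 F399768) F399767
theorem F430453 : act 7 n203930 = n159989 := d4_2 F399767 F430452 (iv2 F399764)
theorem F430454 : act 1 n159991 = n203930 := d15_1 (iv0 F399771) F430453 (iv2 F399764)
theorem F430455 : act 4 n201471 = n203930 := d5_0 F430450 (iv4 D133707) F97928 D114594 D201471
theorem F430456 : act 0 n159686 = n201471 := d20_7 F210443 (iv1 F162601) (iv4 F247670) (iv3 F396347) (iv1 D113007) (iv3 F114534) D159686 F430455 F430450 F215191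
theorem F430457 : act 1 n191711 = n201471 := d18_6 D121359 (iv4 F347365) F347362 F238435 (iv5 F238466) (iv4 F384231) F430455 (iv0 D203930) (iv5 D121361)
def n203931 : Q := act 4 n121361
theorem D203931 : act 4 n121361 = n203931 := rfl
theorem F430458 : act 2 n203931 = n159990 := d1_1 D203931 (iv4 D159990) (iv2 F193583)
theorem F430459 : act 6 n203931 = n121363 := d10_2 (iv6 F193585) D203931 (iv4 D121363)
theorem F430460 : act 1 n203931 = n197054 := d18_6 (iv1 F114539) D151568 F252352 F107997 D121361 D203931 (iv4 D197054) F259152 F251573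
def n203932 : Q := act 7 n121361
theorem D203932 : act 7 n121361 = n203932 := rfl
theorem F430461 : act 2 n203932 = n159991 := d4_1 D203932 (iv7 D159991) (iv2 F193583)
theorem F430462 : act 3 n203932 = n200279 := d8_1 D203932 (iv7 D200279) (iv3 F193584)
theorem F430463 : act 5 n203932 = n121362 := d13_1 D203932 (iv7 D121362) D121361
theorem F430464 : act 1 n159989 = n203932 := d15_1 D159989 (iv7 D203932) F193583
theorem F430465 : act 1 n203932 = n159988 := d15_1 F430464 (iv7 F399767) F399764
def n203933 : Q := act 5 n121367
theorem D203933 : act 5 n121367 = n203933 := rfl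
theorem F430466 : act 2 n203933 = n135064 := d2_1 D203933 F335192 (iv2 F349060)
theorem F430467 : act 6 n203933 = n135710 := d12_2 (iv6 F349059) D203933 F218209 (iv6 F349021) (iv5 F349055)
theorem F430468 : act 7 n203933 = n135059 := d13_2 (iv7 F349061) D203933 F363108
theorem F430469 : act 4 n203933 = n134780 := d18_5 F336796 (iv4 F109600) D154254 F349066 D203933 (iv0 D134780) F98610 D115129 F327306
def n203934 : Q := act 6 n121368
theorem D203934 : act 6 n121368 = n203934 := rfl
theorem F430470 : act 2 n203934 = n159919 := d3_1 D203934 (iv6 D159919) (iv2 F349073)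
theorem F430471 : act 3 n203934 = n170545 := d7_1 D203934 F361071 (iv3 F349074)
theorem F430472 : act 0 n144997 = n203934 := d20_4 (iv4 D127739) F155348 (iv4 F104088) (iv3 F227962) F430471 F366624 (iv1 F278371) F354924 (iv3 F397496) (iv1 F397498)
theorem F430473 : act 0 n203934 = n146556 := d19_4 D71668 D152011 (iv4 F366624) (iv3 F430471) (iv5 D146556) F104898 F104728 D68537 (iv5 F104783) (iv4 D67326) (iv3 F307119) (iv1 F87060) (iv5 F322153) (iv4 F339381) F274283 (iv1 F274277) F337077 F210665 F108150
def n203935 : Q := act 0 n121369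
theorem D203935 : act 0 n121369 = n203935 := rfl
theorem F430474 : act 4 n203935 = n197620 := d18_1 D203935 (iv1 F405046) F404650 F227812 (iv4 F238469) F242376 F349066 (iv0 D121367) D121369
theorem F430475 : act 2 n159920 = n203935 := d15_3 (iv0 D203935) (iv0 F422005) F422004
theorem F430476 : act 3 n203935 = n200985 := d0_2 (iv3 F355292) F430475 (iv2 F418627) F229794 (iv2 F339419)
theorem F430477 : act 7 n203935 = n159921 := d4_2 F422004 F430475 (iv2 F422002)
theorem F430478 : act 1 n159923 = n203935 := d15_1 (iv0 F422006) F430477 (iv2 F422002)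
def n203936 : Q := act 4 n121369
theorem D203936 : act 4 n121369 = n203936 := rfl
theorem F430479 : act 2 n203936 = n159922 := d1_1 D203936 (iv4 D159922) (iv2 F193599)
theorem F430480 : act 6 n203936 = n121371 := d10_2 (iv6 F193601) D203936 (iv4 D121371)
theorem F430481 : act 0 n203936 = n134936 := d20_1 D203936 (iv4 F362913) F347571 (iv1 F114497) (iv3 F333175) (iv4 D135611) D135609 F218085 D201840 F422005
def n203937 : Q := act 7 n121369
theorem D203937 : act 7 n121369 = n203937 := rfl
theorem F430482 : act 2 n203937 = n159923 := d4_1 D203937 (iv7 D159923) (iv2 F193599)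
theorem F430483 : act 3 n203937 = n130661 := d8_1 D203937 F347371 (iv3 F193600)
theorem F430484 : act 5 n203937 = n121370 := d13_1 D203937 (iv7 D121370) D121369
theorem F430485 : act 1 n159921 = n203937 := d15_1 D159921 (iv7 D203937) F193599
theorem F430486 : act 1 n203937 = n159920 := d15_1 F430485 (iv7 F422004) F422002
def n203938 : Q := act 5 n121480
theorem D203938 : act 5 n121480 = n203938 := rfl
theorem F430487 : act 2 n203938 = n161651 := d2_1 D203938 (iv5 D161651) (iv2 F303158)
theorem F430488 : act 4 n203938 = n186832 := d9_1 D203938 (iv5 D186832) F136951 D90243 (iv4 F338694) (iv5 F333695) (iv4 F319555) D191552 F383781 (iv5 D186829) F136920 D90135 F333656 F333654 (iv4 F364612)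
theorem F430489 : act 7 n203938 = n161656 := d13_2 (iv7 F303159) D203938 (iv5 D161656)
theorem F430490 : act 0 n203938 = n121491 := d17_2 (iv1 F303157) D203938 (iv5 F337063) F337062 D170576 (iv0 F344379) F274259 F178846 F309814
theorem F430491 : act 1 n203938 = n193978 := d17_6 (iv1 F210655) D131484 (iv1 F264353) F333654 (iv4 F364612) D203938 F391580 F357115 F348527
def n203939 : Q := act 2 n121488
theorem D203939 : act 2 n121488 = n203939 := rfl
theorem F430492 : act 3 n203939 = n193978 := d0_2 D121488 D203939 F391578 F228911 (iv2 F321807)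
theorem F430493 : act 4 n203939 = n186919 := d1_2 F380541 D203939 (iv2 F380539)
theorem F430494 : act 6 n203939 = n191054 := d3_2 F364627 D203939 (iv2 F382016)
theorem F430495 : act 1 n203939 = n161630 := d15_0 F350916 F321814 D203939
def n203940 : Q := act 6 n121491
theorem D203940 : act 6 n121491 = n203940 := rfl
theorem F430496 : act 3 n203940 = n121493 := d7_1 D203940 (iv6 D121493) D121491
theorem F430497 : act 4 n203940 = n203149 := d10_1 D203940 F427175 F369032
theorem F430498 : act 5 n203940 = n129218 := d12_1 D203940 (iv6 F209072) F306850 (iv6 F337064) F337063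
theorem F430499 : act 7 n203940 = n202774 := d14_2 F366302 D203940 (iv6 D202774) F182688 D145784
theorem F430500 : act 0 n203940 = n129726 := d21_4 (iv5 D131474) D131472 F337063 D203940 F364894 F364893 (iv1 F332162) (iv5 F414904) (iv6 F414905) F368986
theorem F430501 : act 0 n129731 = n203940 := d21_4 (iv5 D125094) (iv1 F352305) F352306 F352308 (iv6 D203940) (iv5 F337063) (iv1 F356994) F348500 (iv6 D159054) (iv1 F200964)
def n203941 : Q := act 3 n121687
theorem D203941 : act 3 n121687 = n203941 := rfl
theorem F430502 : act 6 n203941 = n147924 := d7_2 (iv6 F312231) D203941 (iv3 D147924)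
theorem F430503 : act 7 n203941 = n166067 := d8_2 (iv7 F194201) D203941 (iv3 D166067)
def n203942 : Q := act 0 n121695
theorem D203942 : act 0 n121695 = n203942 := rfl
theorem F430504 : act 1 n166092 = n203942 := d15_0 (iv0 D203942) F194214 D166092
def n203943 : Q := act 1 n121695
theorem D203943 : act 1 n121695 = n203943 := rfl
theorem F430505 : act 3 n200577 = n203943 := d20_3 (iv4 F395251) (iv1 F395254) (iv4 F417030) (iv1 D203943) (iv3 D121695) (iv4 D56230) (iv1 F297421) D95264 D189790 F377761
theorem F430506 : act 4 n178180 = n203943 := d20_6 (iv4 D39217) (iv1 D18602) D18603 D39218 D84812 D178180 (iv1 D203943) F194212 (iv3 D56234) (iv1 F60188)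
theorem F430507 : act 1 n203943 = n166092 := d18_6 F334036 F334042 (iv1 F345648) F355141 (iv5 F355143) F430506 F261503 F194221 F337738
theorem F430508 : act 2 n203943 = n166090 := d0_1 F430505 F364829 F206888 (iv3 F207154) F417031
theorem F430509 : act 7 n203943 = n166091 := d8_2 F418162 F430505 (iv3 F418159)
theorem F430510 : act 2 n166091 = n203942 := d15_3 (iv0 D203942) D203943 F430509
theorem F430511 : act 7 n166090 = n203942 := d4_2 (iv7 F430509) F430508 (iv2 F430510)
def n203944 : Q := act 2 n121695
theorem D203944 : act 2 n121695 = n203944 := rfl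
theorem F430512 : act 4 n203944 = n121700 := d1_2 (iv4 F194212) D203944 (iv2 D121700)
theorem F430513 : act 6 n203944 = n177556 := d3_2 (iv6 F194213) D203944 F276995
theorem F430514 : act 7 n203944 = n166092 := d4_2 (iv7 F194214) D203944 (iv2 D166092)
theorem F430515 : act 1 n203944 = n166090 := d15_0 (iv0 D166090) (iv7 F194214) D203944
theorem F430516 : act 1 n166091 = n203944 := d15_0 F430515 F430511 (iv2 F430510)
theorem F430517 : act 5 n203944 = n200882 := d21_0 (iv1 F418273) (iv5 F415509) (iv6 D163459) (iv1 D78552) D78555 (iv5 F354995) (iv1 D128610) D128612 F364830 (iv1 F430515)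
def n203945 : Q := act 5 n121695
theorem D203945 : act 5 n121695 = n203945 := rfl
theorem F430518 : act 2 n203945 = n200882 := d2_1 D203945 (iv5 F430517) (iv2 D203944)
theorem F430519 : act 3 n203945 = n121696 := d6_1 D203945 (iv5 D121696) D121695
theorem F430520 : act 7 n203945 = n127355 := d13_2 (iv7 F194214) D203945 F350089
theorem F430521 : act 1 n203945 = n125534 := d17_6 (iv1 F130052) (iv5 F335059) (iv1 F230536) F337740 (iv4 F194212) D203945 (iv5 F356071) F277849 F261912
theorem F430522 : act 0 n203945 = n200881 := d21_7 D163460 (iv1 F262196) (iv5 D166600) D166601 F338777 (iv6 F194213) D203945 F418270 (iv6 F362482) (iv1 F140953)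
theorem F430523 : act 6 n200874 = n203945 := d14_5 F430520 (iv6 D127355) F203744 D113583 D200874
def n203946 : Q := act 6 n121696
theorem D203946 : act 6 n121696 = n203946 := rfl
theorem F430524 : act 3 n203946 = n200874 := d7_1 D203946 F430523 F430519
theorem F430525 : act 4 n203946 = n196501 := d10_1 D203946 (iv6 F402107) (iv4 F350071)
theorem F430526 : act 5 n203946 = n203834 := d12_1 D203946 F430027 (iv5 D121068) (iv6 F88937) D121696
theorem F430527 : act 7 n203946 = n200868 := d14_2 (iv7 F194215) D203946 (iv6 D200868) F203752 F350087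
theorem F430528 : act 0 n129025 = n203946 := d21_4 (iv5 D128689) D128686 F208887 D129025 (iv6 D203946) (iv5 D121696) (iv1 F297521) (iv5 F347410) (iv6 F347406) (iv1 F212203)
def n203947 : Q := act 4 n121698
theorem D203947 : act 4 n121698 = n203947 := rfl
theorem F430529 : act 2 n203947 = n166172 := d1_1 D203947 (iv4 D166172) (iv2 F337736)
theorem F430530 : act 7 n203947 = n166167 := d11_2 (iv7 F337739) D203947 (iv4 D166167)
theorem F430531 : act 5 n203947 = n189788 := d16_1 D203947 F377751 F390356 F360894 F360892 F345649 F345645 F345644 (iv2 F337736)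
theorem F430532 : act 1 n189788 = n200628 := d17_6 (iv1 F334029) (iv5 F319815) F334037 (iv5 F337738) D203947 F430531 (iv5 D200628) F395541 F257792
theorem F430533 : act 0 n203947 = n172538 := d17_0 (iv5 F270744) F416866 (iv5 D200526) F356018 (iv5 F335059) F230537 (iv5 F337755) F194221 D203947
theorem F430534 : act 3 n203947 = n189789 := d19_3 F334037 (iv5 F337738) D203947 F377756 (iv5 D181222) F325285 F80402 F38794 D25104 (iv4 F323319) D77548 (iv1 F304585) F342755 (iv4 D68775) (iv3 D31993) (iv1 D15089) D15090 D31999 D68796
def n203948 : Q := act 4 n121699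
theorem D203948 : act 4 n121699 = n203948 := rfl
theorem F430535 : act 2 n203948 = n166167 := d1_1 D203948 (iv4 D166167) (iv2 F345643)
theorem F430536 : act 3 n203948 = n126305 := d5_1 D203948 F203078 (iv3 F245297) (iv4 F409472) F409471
theorem F430537 : act 6 n203948 = n126303 := d10_2 F345642 D203948 (iv4 F349817)
theorem F430538 : act 7 n203948 = n166172 := d11_2 (iv7 F345644) D203948 (iv4 D166172)
theorem F430539 : act 0 n172538 = n203948 := d20_10 (iv4 D203948) (iv1 D121699) (iv4 F194212) (iv3 D121695) (iv1 F297521) (iv3 F321831) F321832 (iv1 F321827) (iv4 F127227) D172538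
def n203949 : Q := act 4 n121711
theorem D203949 : act 4 n121711 = n203949 := rfl
theorem F430540 : act 2 n203949 = n166436 := d1_1 D203949 (iv4 D166436) (iv2 F331718)
theorem F430541 : act 3 n203949 = n189879 := d5_1 D203949 (iv4 D189879) (iv3 D95360) D95361 F331721
theorem F430542 : act 7 n203949 = n164004 := d11_2 (iv7 F331720) D203949 F258471
def n203950 : Q := act 4 n121721
theorem D203950 : act 4 n121721 = n203950 := rfl
theorem F430543 : act 2 n203950 = n121722 := d1_1 D203950 (iv4 D121722) D121721
theorem F430544 : act 3 n203950 = n174662 := d5_1 D203950 F406535 (iv3 D198021) F352216 (iv3 F194278)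
theorem F430545 : act 7 n203950 = n166408 := d11_2 (iv7 F194279) D203950 (iv4 D166408)
theorem F430546 : act 5 n203950 = n194979 := d17_5 D124643 F340174 F340168 (iv5 F336454) D203950 F395281 F379326 F160686 F352053
theorem F430547 : act 0 n203950 = n164093 := d17_0 (iv5 F369559) F369560 (iv5 D174617) F128548 (iv5 F122668) (iv0 F339580) (iv5 D164144) (iv0 F340155) D203950
theorem F430548 : act 1 n203950 = n166411 := d18_6 F340922 F108250 D71782 D152195 (iv5 F336454) D203950 (iv4 F415304) (iv0 F415307) (iv5 F346412)
def n203951 : Q := act 6 n121721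
theorem D203951 : act 6 n121721 = n203951 := rfl
theorem F430549 : act 2 n203951 = n121724 := d3_1 D203951 (iv6 D121724) D121721
theorem F430550 : act 3 n203951 = n166441 := d7_1 D203951 (iv6 D166441) (iv3 F194278)
theorem F430551 : act 5 n203951 = n135396 := d12_1 D203951 (iv6 F387349) (iv5 F387353) F337700 (iv5 F336454)
theorem F430552 : act 7 n203951 = n148244 := d14_2 (iv7 F194279) D203951 (iv6 D148244) (iv7 F182067) F321850
theorem F430553 : act 0 n203951 = n177533 := d21_4 F340174 F340168 (iv5 F336454) D203951 (iv6 D177533) (iv5 F338798) F101316 (iv5 F316305) (iv6 F92045) D124643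
theorem F430554 : act 0 n164154 = n203951 := d21_4 (iv5 D161333) (iv1 F306314) F323614 D164154 (iv6 D203951) F336454 (iv1 F348633) F348637 (iv6 F336477) (iv1 F345378)
def n203952 : Q := act 6 n121722
theorem D203952 : act 6 n121722 = n203952 := rfl
theorem F430555 : act 3 n203952 = n124647 := d7_1 D203952 (iv6 D124647) (iv3 F194283)
theorem F430556 : act 4 n203952 = n121724 := d10_1 D203952 (iv6 D121724) D121722
theorem F430557 : act 7 n203952 = n173833 := d14_2 (iv7 F194284) D203952 (iv6 F365998) (iv7 F174157) F321851
def n203953 : Q := act 6 n121723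
theorem D203953 : act 6 n121723 = n203953 := rfl
theorem F430558 : act 2 n203953 = n176321 := d3_1 D203953 F337700 F336453
theorem F430559 : act 3 n203953 = n121725 := d7_1 D203953 (iv6 D121725) (iv3 F194285)
theorem F430560 : act 4 n203953 = n201510 := d10_1 D203953 (iv6 D201510) (iv4 F336452)
theorem F430561 : act 7 n203953 = n143604 := d14_2 F320067 D203953 (iv6 D143604) F103164 (iv6 F104722)
theorem F430562 : act 0 n203953 = n135320 := d21_4 F403241 (iv1 D121720) D121723 D203953 F217556 (iv5 D63618) D63616 D135326 (iv6 F338700) (iv1 F403239)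
def n203954 : Q := act 0 n121724
theorem D203954 : act 0 n121724 = n203954 := rfl
theorem F430563 : act 5 n203954 = n128228 := d19_1 D203954 (iv4 F389016) F389015 (iv1 D101814) D101815 D193485 (iv3 F390021) (iv1 D192388) (iv5 D100136) (iv4 D46739) (iv3 F73809) (iv1 F328491) (iv5 F328877) F44304 (iv3 F44297) (iv1 F299817) (iv5 F44787) (iv4 F88972) (iv3 F194287)
theorem F430564 : act 3 n203954 = n128235 := d20_5 (iv4 D34797) (iv1 F44789) (iv4 F88972) (iv3 F194287) D203954 (iv4 F341701) F341706 F257259 (iv3 D78361) F56407
theorem F430565 : act 6 n203954 = n124471 := d21_5 F335987 (iv1 F336450) (iv5 D121723) D121724 D203954 F345347 F166048 (iv5 F338767) (iv6 F338771) (iv1 F199394)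
theorem F430566 : act 1 n148244 = n203954 := d15_0 (iv0 D203954) (iv7 F194288) (iv2 F357449)
theorem F430567 : act 2 n177533 = n203954 := d3_3 F430565 F345346 D177533
theorem F430568 : act 7 n164154 = n203954 := d14_0 F430565 F345348 (iv6 F345356) F323616 D164154
def n203955 : Q := act 1 n121724
theorem D203955 : act 1 n121724 = n203955 := rfl
theorem F430569 : act 1 n203955 = n148244 := d15_1 D203955 (iv7 F430552) F430549
theorem F430570 : act 7 n203955 = n177533 := d15_2 (iv0 D203954) D203955 F430567
theorem F430571 : act 5 n203955 = n123077 := d17_7 (iv1 F314197) (iv5 F342230) (iv1 F390082) (iv5 D192327) F351958 F345835 D203955 F351766 D173962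
theorem F430572 : act 3 n193338 = n203955 := d20_3 D174843 (iv1 F342131) (iv4 F389507) (iv1 D203955) F194287 F88972 F44788 D34790 D76162 (iv1 F318158)
theorem F430573 : act 6 n124984 = n203955 := d21_3 (iv5 F311899) F311895 (iv5 F200758) (iv1 D203955) (iv6 D121724) D121723 (iv1 F352064) (iv5 D178182) F340146 (iv1 F243902)
theorem F430574 : act 2 n203955 = n164154 := d3_1 F430573 (iv6 D164154) (iv2 F323611)
def n203956 : Q := act 4 n121740
theorem D203956 : act 4 n121740 = n203956 := rfl
theorem F430575 : act 2 n203956 = n121743 := d1_1 D203956 (iv4 D121743) (iv2 F194302)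
theorem F430576 : act 3 n203956 = n193962 := d5_1 D203956 F391535 F174324 F323164 (iv3 F194303)
theorem F430577 : act 6 n203956 = n193957 := d10_2 F324025 D203956 F391515
theorem F430578 : act 7 n203956 = n200158 := d11_2 (iv7 F332149) D203956 (iv4 D200158)
theorem F430579 : act 5 n203956 = n200202 := d16_1 D203956 (iv4 D200202) (iv5 D112788) (iv4 D52057) (iv5 D25268) (iv4 F39865) D52051 (iv7 F326508) (iv2 F194302)
theorem F430580 : act 0 n203956 = n200191 := d18_2 F326509 D203956 F415475 F407055 F407053 (iv0 F175588) (iv4 F332168) (iv0 D163140) (iv5 F326510)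
theorem F430581 : act 1 n203956 = n200190 := d15_0 (iv0 D200190) F365907 (iv2 F430575)
def n203957 : Q := act 4 n121741
theorem D203957 : act 4 n121741 = n203957 := rfl
theorem F430582 : act 2 n203957 = n200188 := d1_1 D203957 (iv4 D200188) F364889
theorem F430583 : act 7 n203957 = n200186 := d11_2 F364891 D203957 (iv4 D200186)
def n203958 : Q := act 4 n121742
theorem D203958 : act 4 n121742 = n203958 := rfl
theorem F430584 : act 2 n203958 = n200186 := d1_1 D203958 (iv4 D200186) (iv2 F364890)
theorem F430585 : act 3 n203958 = n134040 := d5_1 D203958 (iv4 F356360) F136965 D89244 F333970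
theorem F430586 : act 6 n203958 = n134038 := d10_2 (iv6 F350820) D203958 (iv4 F350811)
theorem F430587 : act 7 n203958 = n200188 := d11_2 (iv7 F364888) D203958 (iv4 D200188)
theorem F430588 : act 0 n203958 = n143377 := d18_2 (iv1 F332151) D203958 (iv4 F406409) F406410 F168816 F81585 F327260 F326507 D112715
theorem F430589 : act 1 n203957 = n143377 := d15_0 (iv0 F430588) F430587 (iv2 F430582)
def n203959 : Q := act 0 n121743
theorem D203959 : act 0 n121743 = n203959 := rfl
theorem F430590 : act 4 n203959 = n197987 := d18_3 (iv1 D121742) D121743 D203959 (iv5 F406403) F202715 (iv0 F166517) F326028 (iv0 F332158) F325665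
theorem F430591 : act 1 n200158 = n203959 := d15_0 (iv0 D203959) (iv7 F365907) (iv2 F415298)
theorem F430592 : act 2 n200191 = n203959 := d1_3 F430590 (iv2 F406404) (iv4 F415475)
theorem F430593 : act 7 n200190 = n203959 := d15_2 (iv0 F430580) F430581 (iv2 F430592)
def n203960 : Q := act 1 n121743
theorem D203960 : act 1 n121743 = n203960 := rfl
theorem F430594 : act 1 n203960 = n200158 := d15_1 D203960 (iv7 F430578) F430575
theorem F430595 : act 7 n203960 = n200191 := d15_2 (iv0 D203959) D203960 F430592
theorem F430596 : act 4 n203960 = n197986 := d18_7 D108835 F168814 (iv1 F82021) F325864 D56254 D121743 D203960 (iv0 D197986) (iv5 D108836)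
theorem F430597 : act 2 n200190 = n203960 := d4_3 F430595 F430592 (iv7 F430593)
def n203961 : Q := act 5 n121743
theorem D203961 : act 5 n121743 = n203961 := rfl
theorem F430598 : act 2 n203961 = n200202 := d2_1 D203961 (iv5 F430579) F430575
theorem F430599 : act 3 n203961 = n186793 := d6_1 D203961 (iv5 F426234) F426231
theorem F430600 : act 7 n203961 = n200192 := d13_2 F365907 D203961 (iv5 D200192)
theorem F430601 : act 4 n203961 = n195339 := d16_2 D121743 D203961 (iv5 D195339) F162040 F76858 (iv4 F82207) D112715 (iv7 F332149) F194302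
theorem F430602 : act 0 n197340 = n203961 := d18_2 (iv1 D197339) D197340 F430601 (iv5 D195339) F162040 D105532 D195342 F403913 (iv5 F403988)
def n203962 : Q := act 6 n121781
theorem D203962 : act 6 n121781 = n203962 := rfl
theorem F430603 : act 2 n203962 = n121783 := d3_1 D203962 (iv6 D121783) D121781
theorem F430604 : act 3 n203962 = n200075 := d7_1 D203962 F414920 F373683
theorem F430605 : act 4 n203962 = n186312 := d10_1 D203962 F364553 F258254
theorem F430606 : act 7 n203962 = n200076 := d14_2 F281157 D203962 F414926 F384513 F362187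
theorem F430607 : act 0 n203962 = n164022 := d21_4 (iv5 F257740) (iv1 F258227) (iv5 F194361) D203962 (iv6 F348595) F264116 (iv1 F344678) (iv5 D163758) (iv6 D78675) D78670
theorem F430608 : act 0 n147450 = n203962 := d21_4 F93190 (iv1 F104504) (iv5 F105416) D147450 (iv6 D203962) F194361 (iv1 F258226) F250804 (iv6 F336509) (iv1 D125966)
def n203963 : Q := act 0 n121783
theorem D203963 : act 0 n121783 = n203963 := rfl
theorem F430609 : act 4 n203963 = n158100 := d18_3 (iv1 F382102) (iv4 F363505) D203963 (iv5 F378610) D190527 F379998 F378488 D189994 (iv5 F382100)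
theorem F430610 : act 6 n203963 = n150668 := d21_5 (iv5 F254071) F254427 (iv5 F194341) D121783 D203963 (iv5 F237210) (iv1 F206394) (iv5 F241418) F330687 F254415
theorem F430611 : act 2 n164022 = n203963 := d15_3 (iv0 D203963) (iv0 F344731) (iv7 F348597)
theorem F430612 : act 1 n200076 = n203963 := d15_0 (iv0 D203963) F365776 D200076
theorem F430613 : act 7 n203963 = n147450 := d15_2 (iv0 F414927) F430612 F231241
theorem F430614 : act 3 n203963 = n165937 := d0_2 D164022 F430611 F377700 F217602 F339507
def n203964 : Q := act 5 n121783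
theorem D203964 : act 5 n121783 = n203964 := rfl
theorem F430615 : act 3 n203964 = n121789 := d6_1 D203964 (iv5 D121789) (iv3 F194363)
theorem F430616 : act 6 n203964 = n165952 := d12_2 D121783 D203964 (iv5 D165952) F330778 (iv5 F194341)
theorem F430617 : act 7 n203964 = n129350 := d13_2 (iv7 F365776) D203964 F366070
def n203965 : Q := act 4 n121789
theorem D203965 : act 4 n121789 = n203965 := rfl
theorem F430618 : act 2 n203965 = n129346 := d1_1 D203965 (iv4 D129346) (iv2 F327235)
theorem F430619 : act 6 n203965 = n129170 := d10_2 (iv6 F330791) D203965 F334313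
theorem F430620 : act 7 n203965 = n129351 := d11_2 (iv7 F327236) D203965 (iv4 D129351)
theorem F430621 : act 0 n203965 = n198165 := d18_2 (iv1 F327234) D203965 (iv4 D198165) (iv5 D108979) F79703 D50320 F168169 F323880 F320258
def n203966 : Q := act 5 n122298
theorem D203966 : act 5 n122298 = n203966 := rfl
theorem F430622 : act 3 n203966 = n122299 := d6_1 D203966 (iv5 D122299) D122298
theorem F430623 : act 7 n203966 = n123068 := d13_2 F301407 D203966 (iv5 D123068)
def n203967 : Q := act 3 n122303
theorem D203967 : act 3 n122303 = n203967 := rfl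
theorem F430624 : act 4 n203967 = n132573 := d5_2 (iv4 F327851) D203967 (iv3 D132573) (iv4 D62199) D62198
theorem F430625 : act 5 n203967 = n170664 := d6_2 (iv5 F302516) D203967 (iv3 D170664)
theorem F430626 : act 7 n203967 = n135012 := d8_2 (iv7 F327852) D203967 (iv3 D135012)
theorem F430627 : act 0 n203967 = n197523 := d19_4 F217034 (iv5 D132571) (iv4 F327851) D203967 F404694 F385387 F267784 (iv1 F316298) (iv5 F382123) F382124 F353132 F317840 D127629 (iv4 F381652) (iv3 F381656) (iv1 F416081) (iv5 F416083) F393027 (iv3 F217032)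
def n203968 : Q := act 6 n122303
theorem D203968 : act 6 n122303 = n203968 := rfl
theorem F430628 : act 2 n203968 = n135016 := d3_1 D203968 (iv6 D135016) (iv2 F327850)
theorem F430629 : act 4 n203968 = n132572 := d10_1 D203968 (iv6 D132572) (iv4 F327851)
theorem F430630 : act 5 n203968 = n201935 := d12_1 D203968 (iv6 F422444) (iv5 D160277) (iv6 F196914) (iv5 F302516)
theorem F430631 : act 7 n203968 = n197965 := d14_2 (iv7 F327852) D203968 (iv6 D197965) (iv7 F202512) F168018
theorem F430632 : act 0 n203968 = n196296 := d21_4 (iv5 D81806) D81804 (iv5 F302516) D203968 F400268 F342842 (iv1 F217193) F329509 F329071 (iv1 F125734)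
theorem F430633 : act 0 n135213 = n203968 := d21_4 F363287 F363286 (iv5 D135212) D135213 (iv6 D203968) F302516 (iv1 F304268) F304270 F329057 (iv1 F363080)
def n203969 : Q := act 0 n122307
theorem D203969 : act 0 n122307 = n203969 := rfl
theorem F430634 : act 4 n203969 = n131177 := d18_3 (iv1 F311023) (iv4 F195541) D203969 F210113 (iv4 F238092) F386725 F386722 F366299 F321257
theorem F430635 : act 3 n203969 = n153952 := d20_5 F44038 D27228 D56630 D122307 D203969 F241969 (iv1 D123600) F90760 F44422 (iv1 F297367)
theorem F430636 : act 6 n203969 = n124087 := d21_5 D197196 F403483 F328882 (iv6 F301621) D203969 F313755 (iv1 D107957) (iv5 D49861) D49862 D107961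
theorem F430637 : act 2 n123019 = n203969 := d15_3 (iv0 D203969) F341135 (iv7 F363155)
theorem F430638 : act 1 n123017 = n203969 := d15_0 (iv0 D203969) F301622 (iv2 F197121)
theorem F430639 : act 7 n203969 = n123018 := d15_2 (iv0 F332353) F430638 F331868
theorem F430640 : act 5 n134793 = n203969 := d13_3 F430639 (iv5 F342385) (iv7 F411677)
def n203970 : Q := act 5 n122307
theorem D203970 : act 5 n122307 = n203970 := rfl
theorem F430641 : act 3 n203970 = n122308 := d6_1 D203970 (iv5 D122308) D122307
theorem F430642 : act 6 n203970 = n137907 := d12_2 (iv6 F301621) D203970 (iv5 F424514) (iv6 D202562) F328882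
theorem F430643 : act 7 n203970 = n123020 := d13_2 (iv7 F301622) D203970 (iv5 D123020)
theorem F430644 : act 4 n137908 = n203970 := d11_3 F430643 F328253 (iv7 F365738)
theorem F430645 : act 4 n156483 = n191461 := d16_2 (iv4 F111682) D156483 (iv5 F411704) F430644 (iv5 D203970) F195541 F341104 (iv7 F341106) F111715
def n203971 : Q := act 3 n122312
theorem D203971 : act 3 n122312 = n203971 := rfl
theorem F430646 : act 2 n203971 = n191390 := d0_1 D203971 (iv3 D191390) (iv2 F358716) (iv3 D125312) (iv2 F195564)
theorem F430647 : act 4 n203971 = n128997 := d5_2 D122312 D203971 F359329 (iv4 D81495) (iv3 F117294)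
theorem F430648 : act 5 n203971 = n166060 := d6_2 F344463 D203971 F359316
theorem F430649 : act 6 n203971 = n128996 := d7_2 (iv6 F344464) D203971 F345394
theorem F430650 : act 7 n203971 = n170808 := d8_2 (iv7 F195565) D203971 (iv3 D170808)
theorem F430651 : act 0 n202464 = n203971 := d17_0 F430648 (iv1 F360577) (iv5 F381078) (iv4 D190788) (iv5 D96674) (iv0 F146876) D189791 F377768 (iv4 F424111)
def n203972 : Q := act 3 n122314
theorem D203972 : act 3 n122314 = n203972 := rfl
theorem F430652 : act 6 n203972 = n198806 := d7_2 F360074 D203972 (iv3 D198806)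
theorem F430653 : act 7 n203972 = n170814 := d8_2 F195576 D203972 (iv3 D170814)
def n203973 : Q := act 0 n122319
theorem D203973 : act 0 n122319 = n203973 := rfl
theorem F430654 : act 5 n203973 = n197889 := d19_1 D203973 F406123 F173223 D111666 (iv5 F413099) (iv4 D199679) F326022 F119176 (iv5 D55359) (iv4 D26751) F296588 (iv1 F32282) F296201 (iv4 D17172) D17171 F31169 (iv5 F57172) (iv4 F89574) D122319
theorem F430655 : act 4 n203973 = n195072 := d20_2 (iv4 F195590) D203973 F418240 F417609 F341806 (iv4 F254299) (iv1 F254294) (iv4 F328088) F328087 (iv1 D166576)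
theorem F430656 : act 3 n203973 = n199629 := d20_5 (iv4 D36476) F57174 (iv4 F89574) D122319 D203973 F412913 (iv1 D190657) F148280 (iv3 D81901) F58385
theorem F430657 : act 1 n170859 = n203973 := d15_0 (iv0 D203973) F195591 D170859
theorem F430658 : act 6 n197892 = n203973 := d7_0 F430656 (iv6 D199629) (iv3 F412909)
theorem F430659 : act 7 n170857 = n203973 := d8_0 F430656 (iv7 F412914) (iv3 F405651)
def n203974 : Q := act 1 n122319
theorem D203974 : act 1 n122319 = n203974 := rfl
theorem F430660 : act 4 n203974 = n195071 := d18_7 (iv1 F399384) F399381 (iv1 D182862) F133985 F326387 (iv4 F195590) D203974 (iv0 D195071) D195073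
theorem F430661 : act 3 n163594 = n195071 := d20_5 (iv4 D79580) F56954 F56469 D78604 D163594 (iv4 F430660) (iv1 D203974) F195590 (iv3 D79949) (iv1 F122221)
theorem F430662 : act 0 n170859 = n203974 := d20_1 (iv4 F268468) F430660 (iv3 F430661) (iv1 F262174) (iv3 F327287) F327288 F337544 (iv4 F277094) (iv3 F364115) (iv1 F262130)
theorem F430663 : act 2 n170857 = n203974 := d15_3 (iv0 F430662) F430657 (iv7 F430659)
theorem F430664 : act 7 n170858 = n203974 := d15_2 (iv0 D170857) D170858 (iv2 F430663)
theorem F430665 : act 2 n203973 = n170858 := d4_3 F430664 (iv2 F430663) F430659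
theorem F430666 : act 5 n170858 = n198107 := d2_2 (iv5 F430654) F430665 F406853
def n203975 : Q := act 2 n122319
theorem D203975 : act 2 n122319 = n203975 := rfl
theorem F430667 : act 3 n203975 = n170851 := d0_2 D122319 D203975 (iv2 D170851) (iv3 D81907) F89576
theorem F430668 : act 4 n203975 = n166577 := d1_2 (iv4 F195590) D203975 (iv2 D166577)
theorem F430669 : act 7 n203975 = n170859 := d4_2 (iv7 F195591) D203975 (iv2 D170859)
theorem F430670 : act 1 n203975 = n170857 := d15_0 (iv0 D170857) (iv7 F195591) D203975
theorem F430671 : act 1 n170858 = n203975 := d15_0 F430670 F430659 F430665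
theorem F430672 : act 1 n170879 = n198107 := d17_6 (iv1 F262136) (iv5 F382447) (iv1 D191162) F294051 (iv4 F248790) (iv5 F268484) (iv5 F430666) F430671 F430668
def n203976 : Q := act 5 n122319
theorem D203976 : act 5 n122319 = n203976 := rfl
theorem F430673 : act 3 n203976 = n122320 := d6_1 D203976 (iv5 D122320) D122319
theorem F430674 : act 6 n203976 = n128042 := d12_2 (iv6 F358862) D203976 F206045 F313839 (iv5 F325521)
theorem F430675 : act 7 n203976 = n170860 := d13_2 (iv7 F195591) D203976 (iv5 D170860)
theorem F430676 : act 4 n203976 = n128043 := d16_2 (iv4 F195590) D203976 (iv5 F394361) F394360 F159971 (iv4 F288011) (iv5 F358842) (iv7 F262133) (iv2 D166577)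
def n203977 : Q := act 6 n122320
theorem D203977 : act 6 n122320 = n203977 := rfl
theorem F430677 : act 2 n203977 = n170854 := d3_1 D203977 (iv6 D170854) (iv2 F195592)
theorem F430678 : act 3 n203977 = n128042 := d7_1 D203977 (iv6 F430674) F430673
theorem F430679 : act 4 n203977 = n134747 := d10_1 D203977 F351287 (iv4 F195594)
theorem F430680 : act 5 n203977 = n128365 := d12_1 D203977 F358861 (iv5 D160387) F298899 D122320
theorem F430681 : act 7 n203977 = n196376 := d14_2 (iv7 F195593) D203977 F402315 F351288 F351287
theorem F430682 : act 0 n140390 = n203977 := d21_4 (iv5 D50159) (iv1 F49281) D65893 D140390 (iv6 D203977) (iv5 D122320) (iv1 F89575) D75203 (iv6 F341331) F79567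
theorem F430683 : act 1 n187838 = n203977 := d18_6 D108589 (iv4 F370505) (iv1 F351304) F186824 (iv5 F178595) (iv4 F371667) F430679 (iv0 D134747) F98565
def n203978 : Q := act 3 n122329
theorem D203978 : act 3 n122329 = n203978 := rfl
theorem F430684 : act 5 n203978 = n161003 := d6_2 (iv5 F195613) D203978 (iv3 D161003)
theorem F430685 : act 7 n203978 = n170879 := d8_2 F195617 D203978 (iv3 D170879)
theorem F430686 : act 0 n203978 = n197889 := d19_4 D75208 (iv5 F126263) (iv4 F195614) D203978 (iv5 F430654) F430655 F418240 F417609 (iv5 D132149) (iv4 F341792) (iv3 F171504) (iv1 F369365) (iv5 F371500) F371499 F220456 F338458 F322723 F119161 (iv3 D75209)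
def n203979 : Q := act 6 n122329
theorem D203979 : act 6 n122329 = n203979 := rfl
theorem F430687 : act 2 n203979 = n170878 := d3_1 D203979 (iv6 D170878) F195616
theorem F430688 : act 4 n203979 = n170880 := d10_1 D203979 (iv6 D170880) (iv4 F195614)
theorem F430689 : act 5 n203979 = n197664 := d12_1 D203979 F405288 (iv5 D181155) F132711 (iv5 F195613)
def n203980 : Q := act 3 n122330
theorem D203980 : act 3 n122330 = n203980 := rfl
theorem F430690 : act 5 n203980 = n162162 := d6_2 (iv5 F195620) D203980 (iv3 D162162)
theorem F430691 : act 7 n203980 = n170877 := d8_2 (iv7 F195619) D203980 (iv3 D170877)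
theorem F430692 : act 0 n198010 = n203980 := d20_4 (iv4 F336666) (iv1 F372959) F372956 (iv3 F406500) (iv3 D203980) F195621 (iv1 F126261) F341328 (iv3 F341326) (iv1 F336670)
def n203981 : Q := act 6 n122330
theorem D203981 : act 6 n122330 = n203981 := rfl
theorem F430693 : act 2 n203981 = n170880 := d3_1 D203981 (iv6 D170880) F195622
theorem F430694 : act 4 n203981 = n170878 := d10_1 D203981 (iv6 D170878) (iv4 F195621)
theorem F430695 : act 5 n203981 = n198782 := d12_1 D203981 (iv6 D198782) (iv5 D110225) (iv6 F326389) (iv5 F195620)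
def n203982 : Q := act 5 n122335
theorem D203982 : act 5 n122335 = n203982 := rfl
theorem F430696 : act 2 n203982 = n135315 := d2_1 D203982 (iv5 D135315) (iv2 F319769)
theorem F430697 : act 3 n203982 = n202559 := d6_1 D203982 F424494 F384331
theorem F430698 : act 7 n203982 = n135364 := d13_2 (iv7 F319771) D203982 (iv5 D135364)
theorem F430699 : act 4 n203982 = n199397 := d16_2 (iv4 F319770) D203982 F411975 F373058 F347394 F98958 (iv5 F98962) (iv7 D63615) (iv2 F98947)
theorem F430700 : act 0 n203982 = n203702 := d17_2 D122335 D203982 (iv5 D203702) F191559 (iv5 F315468) F213376 (iv5 F318044) (iv0 F319749) (iv4 F298946)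
theorem F430701 : act 1 n203982 = n203705 := d17_6 (iv1 F52396) (iv5 D30040) F207210 D63597 (iv4 F319770) D203982 F429466 F316614 (iv4 D71757)
theorem F430702 : act 6 n199396 = n203982 := d10_0 F430699 (iv6 D199397) D199396
def n203983 : Q := act 4 n122337
theorem D203983 : act 4 n122337 = n203983 := rfl
theorem F430703 : act 2 n203983 = n184712 := d1_1 D203983 (iv4 D184712) (iv2 F195636)
theorem F430704 : act 6 n203983 = n191872 := d10_2 F368116 D203983 F384627
theorem F430705 : act 7 n203983 = n179688 := d11_2 (iv7 F195638) D203983 (iv4 D179688)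
theorem F430706 : act 1 n203983 = n191827 := d18_6 (iv1 D98959) D98961 F300672 (iv4 F298946) D122337 D203983 (iv4 D191827) (iv0 F384502) (iv5 D191806)
def n203984 : Q := act 3 n122341
theorem D203984 : act 3 n122341 = n203984 := rfl
theorem F430707 : act 5 n203984 = n199482 := d6_2 F345334 D203984 F412327
theorem F430708 : act 7 n203984 = n138757 := d8_2 (iv7 F329575) D203984 F221895
theorem F430709 : act 4 n124015 = n203984 := d20_8 F405152 (iv1 F304340) (iv4 F327321) (iv3 F338867) (iv1 D123770) D123771 F198250 D124015 (iv3 D203984) (iv1 F405149)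
theorem F430710 : act 3 n203983 = n124015 := d5_5 F430709 (iv3 D203984) (iv4 D122341) (iv3 F195637) D203983
theorem F430711 : act 6 n124015 = n199745 := d7_2 (iv6 F430704) F430710 F413345
def n203985 : Q := act 5 n122344
theorem D203985 : act 5 n122344 = n203985 := rfl
theorem F430712 : act 2 n203985 = n122686 := d2_1 D203985 (iv5 D122686) (iv2 F332486)
theorem F430713 : act 7 n203985 = n122681 := d13_2 (iv7 F332488) D203985 (iv5 D122681)
def n203986 : Q := act 5 n122345
theorem D203986 : act 5 n122345 = n203986 := rfl
theorem F430714 : act 2 n203986 = n122681 := d2_1 D203986 (iv5 D122681) (iv2 F332489)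
theorem F430715 : act 7 n203986 = n122686 := d13_2 (iv7 F332490) D203986 (iv5 D122686)
def n203987 : Q := act 6 n122345
theorem D203987 : act 6 n122345 = n203987 := rfl
theorem F430716 : act 2 n203987 = n122682 := d3_1 D203987 (iv6 D122682) (iv2 F332489)
def n203988 : Q := act 0 n122346
theorem D203988 : act 0 n122346 = n203988 := rfl
theorem F430717 : act 5 n203988 = n123235 := d17_3 (iv1 D122345) D122346 D203988 F361502 (iv5 F313502) F184493 (iv5 F332502) F337186 (iv4 F302001)
theorem F430718 : act 2 n122689 = n203988 := d15_3 (iv0 D203988) (iv0 F427160) F427159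
theorem F430719 : act 1 n122672 = n203988 := d15_0 (iv0 D203988) F302005 (iv2 F196535)
theorem F430720 : act 7 n203988 = n122688 := d15_2 F427161 F430719 (iv2 F427158)
def n203989 : Q := act 4 n122346
theorem D203989 : act 4 n122346 = n203989 := rfl
theorem F430721 : act 2 n203989 = n185272 := d1_1 D203989 (iv4 F427307) F427305
theorem F430722 : act 6 n203989 = n122414 := d10_2 (iv6 F195652) D203989 F384373
theorem F430723 : act 7 n203989 = n122690 := d11_2 (iv7 F302005) D203989 (iv4 D122690)
theorem F430724 : act 5 n203989 = n185269 := d16_1 D203989 F426826 (iv5 D203058) F360539 F314086 F107867 D122672 (iv7 F427309) F427305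
theorem F430725 : act 3 n122417 = n203989 := d6_3 F430724 F421399 F277232
def n203990 : Q := act 3 n122350
theorem D203990 : act 3 n122350 = n203990 := rfl
theorem F430726 : act 4 n203990 = n122417 := d5_2 D122350 D203990 F430725 (iv4 D203989) F195651
theorem F430727 : act 5 n203990 = n203722 := d6_2 F304604 D203990 (iv3 D203722)
theorem F430728 : act 6 n203990 = n122416 := d7_2 (iv6 F195665) D203990 F384374
theorem F430729 : act 7 n203990 = n122745 := d8_2 F302702 D203990 (iv3 D122745)
def n203991 : Q := act 3 n122374
theorem D203991 : act 3 n122374 = n203991 := rfl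
theorem F430730 : act 2 n203991 = n150083 := d0_1 D203991 (iv3 D150083) F155534 F232736 F232863
theorem F430731 : act 4 n203991 = n191892 := d5_2 (iv4 F318365) D203991 F384696 F345837 F239244
theorem F430732 : act 6 n203991 = n152168 := d7_2 (iv6 F318366) D203991 (iv3 D152168)
theorem F430733 : act 7 n203991 = n193110 := d8_2 F232865 D203991 (iv3 D193110)
theorem F430734 : act 0 n188770 = n203991 := d20_4 F153919 F313552 (iv4 F313612) (iv3 F374815) (iv3 D203991) F318365 (iv1 F345834) (iv4 F351958) (iv3 F351959) F351961
def n203992 : Q := act 5 n122374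
theorem D203992 : act 5 n122374 = n203992 := rfl
theorem F430735 : act 2 n203992 = n193109 := d2_1 D203992 (iv5 D193109) F232863
theorem F430736 : act 7 n203992 = n193111 := d13_2 F232865 D203992 (iv5 D193111)
theorem F430737 : act 0 n203992 = n154146 := d17_2 D122374 D203992 (iv5 D154146) F191103 F414436 F414434 F386452 (iv0 F386451) F195723
theorem F430738 : act 1 n203992 = n123303 := d17_6 F345804 (iv5 D159284) (iv1 F345822) (iv5 D152173) (iv4 F318365) D203992 (iv5 D123303) (iv0 F345824) (iv4 F262763)
theorem F430739 : act 4 n203992 = n202176 := d19_2 D122374 D203992 (iv3 D202176) (iv1 D115422) (iv5 D53244) F40800 F20324 D25242 D52009 (iv4 F93138) (iv3 F202321) F330154 (iv5 D126390) F93518 F325281 F297524 (iv5 D27255) (iv4 F44099) (iv3 F89676)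
theorem F430740 : act 6 n199027 = n203992 := d21_5 (iv5 F410377) (iv1 D199025) (iv5 D110867) D110868 D199027 (iv5 D203992) (iv1 F195777) (iv5 F388808) F388809 (iv1 F222570)
def n203993 : Q := act 5 n122375
theorem D203993 : act 5 n122375 = n203993 := rfl
theorem F430741 : act 2 n203993 = n193111 := d2_1 D203993 (iv5 D193111) (iv2 F232864)
theorem F430742 : act 3 n203993 = n150086 := d6_1 D203993 (iv5 D150086) F232860
theorem F430743 : act 7 n203993 = n193109 := d13_2 (iv7 F232861) D203993 (iv5 D193109)
theorem F430744 : act 0 n203993 = n123303 := d17_2 (iv1 F195770) D203993 (iv5 D123303) F121563 D83256 D174174 F384787 F388781 F388778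
theorem F430745 : act 6 n203993 = n199353 := d21_3 F388808 (iv1 F195770) D203993 (iv1 D199353) (iv6 D111228) D111227 F332235 (iv5 F332246) (iv6 F332288) F388810
theorem F430746 : act 0 n154146 = n203993 := d19_0 (iv5 D203993) (iv4 F351956) (iv3 F351957) (iv1 D127869) D127870 (iv4 F358952) (iv3 F417288) (iv1 F417973) (iv5 D200803) F355858 F345768 F364967 F364966 F216603 (iv3 F334207) (iv1 D133073) D133074 F334212 (iv3 F242227)
def n203994 : Q := act 6 n122375
theorem D203994 : act 6 n122375 = n203994 := rfl
theorem F430747 : act 2 n203994 = n193112 := d3_1 D203994 (iv6 D193112) (iv2 F232864)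
theorem F430748 : act 3 n203994 = n150087 := d7_1 D203994 (iv6 D150087) F232860
theorem F430749 : act 4 n203994 = n152163 := d10_1 D203994 F239227 F351956
theorem F430750 : act 7 n203994 = n152159 := d14_2 (iv7 F232861) D203994 (iv6 D152159) (iv7 F214132) (iv6 F316142)
theorem F430751 : act 5 n203994 = n153815 := d21_6 (iv5 F357859) (iv1 F286440) F286437 (iv6 F155906) (iv1 F195770) D203994 F366842 (iv5 D84763) (iv6 F302815) (iv1 F197284)
theorem F430752 : act 3 n153815 = n193559 := d6_1 F430751 F390275 (iv3 F430748)
theorem F430753 : act 1 n193112 = n178122 := d15_0 (iv0 F353870) (iv7 F430750) F430747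
theorem F430754 : act 1 n203994 = n153682 := d15_0 (iv0 F388324) (iv7 F388788) (iv2 F430747)
def n203995 : Q := act 1 n122376
theorem D203995 : act 1 n122376 = n203995 := rfl
theorem F430755 : act 1 n203995 = n193116 := d15_1 D203995 (iv7 D193116) (iv2 F195771)
theorem F430756 : act 7 n203995 = n193113 := d15_2 (iv0 F351776) D203995 (iv2 F388791)
theorem F430757 : act 5 n203995 = n193168 := d18_9 (iv1 F389018) F197085 F333738 (iv4 F127898) (iv5 F335203) F245559 D156248 F339885 D203995
theorem F430758 : act 4 n202157 = n203995 := d20_6 (iv4 D53248) (iv1 D25818) (iv4 F40800) (iv3 F84088) D115408 D202157 (iv1 D203995) (iv4 F339885) (iv3 F339884) (iv1 F179718)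
theorem F430759 : act 2 n203995 = n193114 := d1_1 F430758 (iv4 F423124) F423121
theorem F430760 : act 6 n203995 = n202389 := d10_2 (iv6 F423276) F430758 F423845
theorem F430761 : act 3 n150089 = n203995 := d0_0 F430759 (iv3 F388797) (iv2 F362449) F342380 F241765
def n203996 : Q := act 5 n122380
theorem D203996 : act 5 n122380 = n203996 := rfl
theorem F430762 : act 2 n203996 = n192852 := d2_1 D203996 (iv5 D192852) (iv2 F195794)
theorem F430763 : act 3 n203996 = n122381 := d6_1 D203996 (iv5 D122381) D122380
theorem F430764 : act 7 n203996 = n171027 := d13_2 (iv7 F195796) D203996 (iv5 D171027)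
theorem F430765 : act 0 n203996 = n123542 := d17_2 (iv1 F335232) D203996 (iv5 D123542) D123541 (iv5 F344014) D202631 F424837 (iv0 F386538) (iv4 F209463)
theorem F430766 : act 1 n203996 = n123547 := d17_6 (iv1 F317089) F314371 (iv1 F320421) F318265 (iv4 F195795) D203996 (iv5 D123547) F197947 F317092
theorem F430767 : act 6 n203996 = n138647 := d21_3 F356867 (iv1 F335232) D203996 F425015 (iv6 D111245) D111244 (iv1 F356862) (iv5 F356543) (iv6 F356545) F356866
theorem F430768 : act 5 n193436 = n202508 := d21_8 (iv5 D203996) F335228 D192015 F385211 (iv1 F365067) F389827 (iv5 D193439) D193436 (iv6 F424324) (iv1 F430766)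
def n203997 : Q := act 0 n122392
theorem D203997 : act 0 n122392 = n203997 := rfl
theorem F430769 : act 5 n203997 = n199644 := d17_3 (iv1 F271577) (iv5 F353301) D203997 F412965 (iv5 D158221) F297007 (iv5 F297017) F127709 (iv4 F271575)
theorem F430770 : act 4 n203997 = n174235 := d18_1 D203997 (iv1 F273028) (iv4 F272932) (iv5 D174130) (iv4 D83241) (iv0 D38313) D38315 D83248 (iv5 F353301)
theorem F430771 : act 1 n174145 = n203997 := d15_0 (iv0 D203997) F353302 (iv2 F351054)
def n203998 : Q := act 1 n122392
theorem D203998 : act 1 n122392 = n203998 := rfl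
theorem F430772 : act 5 n203998 = n199614 := d17_7 F318817 F316542 F296739 F117878 (iv4 F128328) (iv5 F353301) D203998 (iv0 F412857) (iv4 D173247)
theorem F430773 : act 4 n203998 = n174236 := d17_9 (iv1 D174236) (iv5 D83285) F326418 D109724 F326422 (iv5 D83250) D83248 (iv5 F353301) D203998
theorem F430774 : act 3 n199614 = n203998 := d19_19 (iv1 D203998) F353301 F128328 F321756 (iv1 F319909) (iv5 D38555) (iv4 F59374) (iv3 F77338) (iv1 F189978) D70453 F311421 (iv3 F311334) F59803 (iv5 F311346) (iv4 F107191) F107190 (iv1 F297010) (iv5 F250005) (iv4 F412855)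
theorem F430775 : act 6 n203998 = n199612 := d7_2 D199614 F430774 (iv3 D199612)
theorem F430776 : act 0 n174145 = n203998 := d18_0 F430773 (iv1 D174236) (iv4 F272938) (iv5 D174139) (iv4 D83245) F127709 (iv4 F271575) F271578 D174145
def n203999 : Q := act 2 n122392
theorem D203999 : act 2 n122392 = n203999 := rfl
theorem F430777 : act 3 n203999 = n171069 := d0_2 D122392 D203999 (iv2 D171069) (iv3 D81993) (iv2 F89691)
theorem F430778 : act 4 n203999 = n124479 := d1_2 (iv4 F353300) D203999 F199111
theorem F430779 : act 5 n203999 = n173238 := d2_2 (iv5 F353301) D203999 (iv2 F271570)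
theorem F430780 : act 6 n203999 = n157856 := d3_2 (iv6 F195833) D203999 (iv2 D157856)
theorem F430781 : act 7 n203999 = n174145 := d4_2 (iv7 F353302) D203999 F351054
def n204000 : Q := act 3 n122396
theorem D204000 : act 3 n122396 = n204000 := rfl
theorem F430782 : act 4 n204000 = n135364 := d5_2 D122396 D204000 F387097 (iv4 D192565) F154416
theorem F430783 : act 5 n204000 = n135302 := d6_2 (iv5 F195847) D204000 F347400
theorem F430784 : act 6 n204000 = n192545 := d7_2 F345065 D204000 (iv3 F387017)
theorem F430785 : act 7 n204000 = n199397 := d8_2 F329128 D204000 F411974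
theorem F430786 : act 0 n204000 = n135420 := d20_4 (iv4 D85906) F91431 D122396 D204000 (iv3 F413489) (iv4 F413488) (iv1 F413486) F413482 F173434 (iv1 F336743)
theorem F430787 : act 0 n135152 = n204000 := d20_4 (iv4 F351246) (iv1 D139297) (iv4 F172896) F356115 (iv3 D204000) (iv4 D122396) (iv1 F301672) (iv4 F302090) F337464 (iv1 F172803)
def n204001 : Q := act 4 n122400
theorem D204001 : act 4 n122400 = n204001 := rfl
theorem F430788 : act 2 n204001 = n187136 := d1_1 D204001 (iv4 D187136) (iv2 F364394)
theorem F430789 : act 7 n204001 = n191477 := d11_2 (iv7 F364393) D204001 (iv4 D191477)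
def n204002 : Q := act 6 n122400
theorem D204002 : act 6 n122400 = n204002 := rfl
theorem F430790 : act 2 n204002 = n187137 := d3_1 D204002 (iv6 D187137) (iv2 F364394)
theorem F430791 : act 3 n204002 = n191730 := d7_1 D204002 (iv6 D191730) F364395
theorem F430792 : act 5 n204002 = n192278 := d12_1 D204002 (iv6 D192278) (iv5 F195850) (iv6 D122401) D122400
def n204003 : Q := act 4 n122405
theorem D204003 : act 4 n122405 = n204003 := rfl
theorem F430793 : act 2 n204003 = n191477 := d1_1 D204003 (iv4 D191477) F364392
theorem F430794 : act 7 n204003 = n187136 := d11_2 (iv7 F335609) D204003 (iv4 D187136)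
def n204004 : Q := act 6 n122405
theorem D204004 : act 6 n122405 = n204004 := rfl
theorem F430795 : act 2 n204004 = n191478 := d3_1 D204004 (iv6 D191478) F364392
theorem F430796 : act 3 n204004 = n186016 := d7_1 D204004 (iv6 D186016) (iv3 F335608)
theorem F430797 : act 5 n204004 = n139477 := d12_1 D204004 (iv6 F362784) (iv5 D90783) F335610 D122405
def n204005 : Q := act 4 n122407
theorem D204005 : act 4 n122407 = n204005 := rfl
theorem F430798 : act 2 n204005 = n187704 := d1_1 D204005 (iv4 D187704) F292670
theorem F430799 : act 7 n204005 = n191479 := d11_2 F290030 D204005 (iv4 D191479)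
theorem F430800 : act 1 n204005 = n191329 := d18_6 D102381 F352769 F352766 F283987 F291475 D204005 (iv4 D191329) F352774 F133506
def n204006 : Q := act 6 n122407
theorem D204006 : act 6 n122407 = n204006 := rfl
theorem F430801 : act 2 n204006 = n179808 := d3_1 D204006 (iv6 F292671) F292670
theorem F430802 : act 3 n204006 = n191732 := d7_1 D204006 (iv6 D191732) (iv3 F290088)
theorem F430803 : act 5 n204006 = n179715 := d12_1 D204006 (iv6 F351155) (iv5 D93765) (iv6 F139241) F291475
theorem F430804 : act 7 n179803 = n204006 := d13_0 F430803 F351137 D179803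
def n204007 : Q := act 1 n122409
theorem D204007 : act 1 n122409 = n204007 := rfl
theorem F430805 : act 1 n204007 = n191484 := d15_1 D204007 (iv7 D191484) (iv2 F195853)
theorem F430806 : act 7 n204007 = n191481 := d15_2 F391187 D204007 (iv2 F391184)
theorem F430807 : act 4 n204007 = n182203 := d18_7 (iv1 F137154) F335613 (iv1 D81930) F58396 D56723 D122409 D204007 (iv0 F368909) (iv5 D187045)
theorem F430808 : act 2 n182204 = n204007 := d1_3 F430807 (iv2 D182203) D182204
def n204008 : Q := act 3 n122409
theorem D204008 : act 3 n122409 = n204008 := rfl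
theorem F430809 : act 6 n204008 = n122434 := d7_2 (iv6 F195854) D204008 (iv3 D122434)
def n204009 : Q := act 5 n122409
theorem D204009 : act 5 n122409 = n204009 := rfl
theorem F430810 : act 2 n204009 = n191483 := d2_1 D204009 (iv5 D191483) (iv2 F195853)
theorem F430811 : act 4 n204009 = n123795 := d9_1 D204009 F198267 F90877 F304458 (iv4 F72613) (iv5 F151815) (iv4 F383544) (iv5 F429579) (iv4 D203731) (iv5 D120419) F87725 F301277 F58396 D56723 D122409
theorem F430812 : act 7 n204009 = n123794 := d16_8 (iv4 D203731) (iv5 D120419) F87725 F301277 F58396 D56723 D122409 D204009 (iv2 F429576)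
def n204010 : Q := act 7 n122409
theorem D204010 : act 7 n122409 = n204010 := rfl
theorem F430813 : act 2 n204010 = n191484 := d4_1 D204010 (iv7 D191484) (iv2 F195853)
theorem F430814 : act 4 n204010 = n122410 := d11_1 D204010 (iv7 D122410) D122409
theorem F430815 : act 5 n204010 = n123794 := d13_1 D204010 (iv7 F430812) (iv5 D204009)
theorem F430816 : act 1 n182204 = n204010 := d15_1 (iv0 F290096) (iv7 D204010) F195853
theorem F430817 : act 1 n204010 = n191481 := d15_1 F430816 (iv7 F430806) (iv2 F430808)
def n204011 : Q := act 1 n122414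
theorem D204011 : act 1 n122414 = n204011 := rfl
theorem F430818 : act 1 n204011 = n153632 := d15_1 D204011 (iv7 F386378) F386376
theorem F430819 : act 4 n204011 = n181949 := d17_9 (iv1 D181949) (iv5 D86902) D86900 (iv5 F363130) (iv4 D153636) (iv5 D72651) (iv0 F304677) D122414 D204011
def n204012 : Q := act 0 n122417
theorem D204012 : act 0 n122417 = n204012 := rfl
theorem F430820 : act 5 n204012 = n194087 := d21_0 (iv1 D194087) D194088 F392021 F289787 F89708 (iv5 D27261) D27259 D56728 D122417 D204012
def n204013 : Q := act 1 n122417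
theorem D204013 : act 1 n122417 = n204013 := rfl
theorem F430821 : act 5 n194086 = n204013 := d21_0 (iv1 D204013) (iv5 F277232) (iv6 D177767) (iv1 D84643) (iv6 F129807) (iv5 D84634) (iv1 F289723) D47615 D102665 D194086
def n204014 : Q := act 7 n122417
theorem D204014 : act 7 n122417 = n204014 := rfl
theorem F430822 : act 3 n204014 = n122690 := d8_1 D204014 (iv7 F430723) (iv3 F430725)
theorem F430823 : act 4 n204014 = n122745 := d11_1 D204014 (iv7 F430729) F430726
theorem F430824 : act 5 n204014 = n185275 := d13_1 D204014 (iv7 F421404) F277232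
def n204015 : Q := act 3 n122423
theorem D204015 : act 3 n122423 = n204015 := rfl
def n204016 : Q := act 6 n122423
theorem D204016 : act 6 n122423 = n204016 := rfl
theorem F430825 : act 4 n204016 = n122424 := d10_1 D204016 (iv6 D122424) D122423
def n204017 : Q := act 7 n122424
theorem D204017 : act 7 n122424 = n204017 := rfl
theorem F430826 : act 3 n204017 = n191652 := d8_1 D204017 F386394 F386392
theorem F430827 : act 5 n204017 = n134877 := d13_1 D204017 (iv7 F328738) F304694
theorem F430828 : act 1 n135241 = n204017 := d15_1 (iv0 F365581) (iv7 D204017) (iv2 F280042)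
def n204018 : Q := act 4 n122426
theorem D204018 : act 4 n122426 = n204018 := rfl
theorem F430829 : act 7 n204018 = n192292 := d11_2 F387143 D204018 F387147
theorem F430830 : act 5 n204018 = n192293 := d16_7 (iv4 F289867) D192292 F387147 (iv5 F387144) F198616 (iv5 F195865) D204018 (iv7 D192293) F289866
theorem F430831 : act 0 n204018 = n191469 := d18_2 (iv1 F363134) D204018 (iv4 F387141) (iv5 D192576) F154466 (iv0 F302019) F301705 F304678 D98856
theorem F430832 : act 1 n204018 = n191471 := d18_8 (iv1 D98380) (iv4 F151809) F335693 (iv4 D181942) (iv5 F363130) (iv4 D153636) (iv0 F304685) D204018 (iv5 D191471)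
theorem F430833 : act 3 n204018 = n187135 := d20_3 (iv4 F363127) (iv1 F363134) D204018 (iv1 D187135) F137362 D89600 (iv1 F368810) (iv4 D187005) D187004 F368806
def n204019 : Q := act 6 n122426
theorem D204019 : act 6 n122426 = n204019 := rfl
theorem F430834 : act 3 n204019 = n122428 := d7_1 D204019 (iv6 D122428) D122426
theorem F430835 : act 5 n204019 = n155682 := d12_1 D204019 (iv6 F408883) F408882 F303844 (iv5 F195865)
theorem F430836 : act 0 n139504 = n204019 := d17_2 (iv1 D139503) D139504 F430835 (iv4 F312221) (iv5 F223132) F342392 (iv5 D65725) D65724 (iv4 F341111)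
theorem F430837 : act 1 n185285 = n204019 := d17_6 (iv1 F238096) (iv5 F338980) F349701 (iv5 F233352) F341133 (iv5 F341129) F430835 (iv0 F348144) F340830
def n204020 : Q := act 3 n122427
theorem D204020 : act 3 n122427 = n204020 := rfl
theorem F430838 : act 4 n204020 = n187135 := d5_2 D122427 D204020 (iv3 F430833) (iv4 D204018) (iv3 D122426)
theorem F430839 : act 5 n204020 = n204015 := d6_2 (iv5 F195866) D204020 (iv3 D204015)
theorem F430840 : act 7 n204020 = n192297 := d8_2 F383251 D204020 F387148
theorem F430841 : act 0 n182182 = n204020 := d18_2 (iv1 D182181) D182182 F430838 (iv5 F369212) F290024 (iv0 D47562) (iv4 F74702) F356412 (iv5 F356415)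
def n204021 : Q := act 6 n122427
theorem D204021 : act 6 n122427 = n204021 := rfl
theorem F430842 : act 2 n204021 = n203734 := d3_1 D204021 F429593 (iv2 F383248)
theorem F430843 : act 4 n204021 = n122428 := d10_1 D204021 (iv6 D122428) D122427
theorem F430844 : act 0 n139428 = n204021 := d18_2 (iv1 D139427) D139428 F430843 F356531 (iv4 D135242) F168240 (iv4 F102197) (iv0 F227001) F222630
def n204022 : Q := act 6 n122430
theorem D204022 : act 6 n122430 = n204022 := rfl
theorem F430845 : act 4 n204022 = n122431 := d10_1 D204022 (iv6 D122431) D122430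
def n204023 : Q := act 0 n122431
theorem D204023 : act 0 n122431 = n204023 := rfl
theorem F430846 : act 5 n204023 = n135577 := d19_1 D204023 (iv4 F245277) (iv3 D156104) F167103 (iv5 F359542) (iv4 D99936) F73769 D46676 F291078 F68441 (iv3 F68436) F68439 (iv5 D43257) (iv4 F63697) D41772 F289551 (iv5 F367881) (iv4 F386414) F386413
theorem F430847 : act 6 n204023 = n134328 := d21_5 (iv5 D123177) F302110 F91578 D122431 D204023 (iv5 F216337) (iv1 F217067) F365580 (iv6 D179823) (iv1 F304435)
theorem F430848 : act 3 n135578 = n204023 := d7_3 F430847 (iv3 F365882) F220955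
def n204024 : Q := act 1 n122431
theorem D204024 : act 1 n122431 = n204024 := rfl
def n204025 : Q := act 7 n122431
theorem D204025 : act 7 n122431 = n204025 := rfl
theorem F430849 : act 3 n204025 = n186750 := d8_1 D204025 (iv7 F386416) F386413
theorem F430850 : act 6 n204025 = n139481 := d14_1 D204025 (iv7 F424403) F424400 (iv7 F302131) D122431
def n204026 : Q := act 3 n122432
theorem D204026 : act 3 n122432 = n204026 := rfl
def n204027 : Q := act 6 n122432
theorem D204027 : act 6 n122432 = n204027 := rfl
theorem F430851 : act 4 n204027 = n177486 := d10_1 D204027 F276929 (iv4 F304427)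
theorem F430852 : act 0 n139482 = n204027 := d18_2 (iv1 D139481) D139482 F430851 (iv5 D177486) (iv4 F332919) (iv0 F211965) F171717 F222505 F222669
def n204028 : Q := act 3 n122433
theorem D204028 : act 3 n122433 = n204028 := rfl
def n204029 : Q := act 6 n122433
theorem D204029 : act 6 n122433 = n204029 := rfl
theorem F430853 : act 4 n204029 = n179882 := d10_1 D204029 (iv6 D179882) F195873
def n204030 : Q := act 0 n122434
theorem D204030 : act 0 n122434 = n204030 := rfl
theorem F430854 : act 3 n204030 = n202535 := d20_5 (iv4 D122430) (iv1 D56735) D56736 D122434 D204030 (iv4 D202535) D202534 (iv4 F429592) (iv3 D203734) (iv1 F302102)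
def n204031 : Q := act 1 n122434
theorem D204031 : act 1 n122434 = n204031 := rfl
def n204032 : Q := act 2 n122434
theorem D204032 : act 2 n122434 = n204032 := rfl
def n204033 : Q := act 3 n122447
theorem D204033 : act 3 n122447 = n204033 := rfl
theorem F430855 : act 5 n204033 = n170667 := d6_2 (iv5 F302886) D204033 (iv3 D170667)
theorem F430856 : act 7 n204033 = n170649 := d8_2 (iv7 F302887) D204033 (iv3 D170649)
def n204034 : Q := act 4 n122447
theorem D204034 : act 4 n122447 = n204034 := rfl
theorem F430857 : act 2 n204034 = n170653 := d1_1 D204034 (iv4 D170653) (iv2 F302885)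
theorem F430858 : act 5 n204034 = n170653 := d9_2 (iv5 F302886) D204034 (iv4 D170653) F125732 F301608 (iv5 F299277) F90938 D57760 D123982 (iv5 F268105) (iv4 D170650) F125729 F301736 F123444 (iv4 F300099)
theorem F430859 : act 7 n204034 = n170650 := d11_2 (iv7 F302887) D204034 (iv4 D170650)
theorem F430860 : act 0 n204034 = n179822 := d17_0 (iv5 F383245) (iv1 F383247) F366890 (iv4 D98167) (iv5 D45858) (iv0 F118897) D56772 F195897 D204034
theorem F430861 : act 1 n204034 = n167442 := d18_6 F302110 (iv4 F91576) (iv1 F123456) (iv4 F300099) (iv5 F302886) D204034 (iv4 D167442) (iv0 F304434) (iv5 D123177)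
def n204035 : Q := act 3 n122449
theorem D204035 : act 3 n122449 = n204035 := rfl
theorem F430862 : act 4 n204035 = n182183 := d5_2 D122449 D204035 F283635 (iv4 F337952) F304423
theorem F430863 : act 5 n204035 = n204028 := d6_2 (iv5 F195899) D204035 (iv3 D204028)
theorem F430864 : act 7 n204035 = n170657 := d8_2 (iv7 F304424) D204035 (iv3 D170657)
theorem F430865 : act 6 n182182 = n204035 := d10_0 F430862 (iv6 D182183) D182182
def n204036 : Q := act 6 n122449
theorem D204036 : act 6 n122449 = n204036 := rfl
theorem F430866 : act 3 n204036 = n182182 := d7_1 D204036 F430865 (iv3 D204035)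
theorem F430867 : act 4 n204036 = n122450 := d10_1 D204036 (iv6 D122450) D122449
def n204037 : Q := act 0 n122450
theorem D204037 : act 0 n122450 = n204037 := rfl
def n204038 : Q := act 1 n122450
theorem D204038 : act 1 n122450 = n204038 := rfl
def n204039 : Q := act 5 n122459
theorem D204039 : act 5 n122459 = n204039 := rfl
theorem F430868 : act 2 n204039 = n122460 := d2_1 D204039 (iv5 D122460) D122459
theorem F430869 : act 3 n204039 = n152889 := d6_1 D204039 (iv5 D152889) (iv3 F303723)
theorem F430870 : act 7 n204039 = n153681 := d13_2 (iv7 F303725) D204039 (iv5 D153681)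
def n204040 : Q := act 6 n122459
theorem D204040 : act 6 n122459 = n204040 := rfl
theorem F430871 : act 2 n204040 = n122461 := d3_1 D204040 (iv6 D122461) D122459
theorem F430872 : act 3 n204040 = n152890 := d7_1 D204040 (iv6 D152890) (iv3 F303723)
theorem F430873 : act 4 n204040 = n172560 := d10_1 D204040 (iv6 D172560) (iv4 F303724)
theorem F430874 : act 0 n171094 = n204040 := d18_0 F430873 (iv1 F403087) F403083 (iv5 D191557) F344991 F211798 F344985 D193170 (iv5 F389027)
def n204041 : Q := act 0 n122460
theorem D204041 : act 0 n122460 = n204041 := rfl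
theorem F430875 : act 5 n204041 = n193183 := d17_3 F302432 D122460 D204041 (iv4 F389095) F348593 (iv0 F406493) F406492 (iv0 F353898) F353902
theorem F430876 : act 1 n153681 = n204041 := d15_0 (iv0 D204041) (iv7 F429549) F429547
def n204042 : Q := act 1 n122460
theorem D204042 : act 1 n122460 = n204042 := rfl
theorem F430877 : act 1 n204042 = n153681 := d15_1 D204042 (iv7 F430870) F430868
theorem F430878 : act 5 n204042 = n193182 := d17_7 (iv1 F351632) F340664 (iv1 D172562) (iv5 D82609) (iv4 F301011) D122460 D204042 (iv0 D193182) (iv4 F351630)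
theorem F430879 : act 3 n193379 = n204042 := d6_3 F430878 F389088 D193379
def n204043 : Q := act 4 n122460
theorem D204043 : act 4 n122460 = n204043 := rfl
def n204044 : Q := act 6 n122460
theorem D204044 : act 6 n122460 = n204044 := rfl
theorem F430880 : act 3 n204044 = n122463 := d7_1 D204044 (iv6 D122463) (iv3 F195922)
def n204045 : Q := act 0 n122461
theorem D204045 : act 0 n122461 = n204045 := rfl
theorem F430881 : act 5 n204045 = n170762 := d17_1 D204045 (iv1 F389034) F389031 F317278 F330961 D136749 (iv5 F348183) (iv0 D172565) (iv4 F303726)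
theorem F430882 : act 4 n204045 = n202755 := d18_3 F340660 (iv4 F303726) D204045 (iv5 D202755) F182450 F100107 (iv4 F166281) (iv0 D107661) D107662
theorem F430883 : act 6 n204045 = n153279 := d21_5 (iv5 F430878) (iv1 D204042) (iv5 D122460) D122461 D204045 (iv5 F351824) (iv1 F351826) (iv5 D101317) D101318 D193182
theorem F430884 : act 7 n171094 = n204045 := d14_0 F430883 (iv7 F351823) F351811 F233093 D171094
def n204046 : Q := act 3 n122462
theorem D204046 : act 3 n122462 = n204046 := rfl
theorem F430885 : act 5 n204046 = n204026 := d6_2 (iv5 F195924) D204046 (iv3 D204026)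
def n204047 : Q := act 6 n122462
theorem D204047 : act 6 n122462 = n204047 := rfl
theorem F430886 : act 2 n204047 = n170659 := d3_1 D204047 (iv6 D170659) (iv2 F304298)
theorem F430887 : act 4 n204047 = n122463 := d10_1 D204047 (iv6 D122463) D122462
def n204048 : Q := act 7 n122463
theorem D204048 : act 7 n122463 = n204048 := rfl
theorem F430888 : act 2 n204048 = n170663 := d4_1 D204048 (iv7 D170663) (iv2 F304299)
theorem F430889 : act 5 n204048 = n134880 := d13_1 D204048 (iv7 F329436) (iv5 F304300)
theorem F430890 : act 1 n170661 = n204048 := d15_1 D170661 (iv7 D204048) F304299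
theorem F430891 : act 1 n204048 = n170660 := d15_1 F430890 F363074 F363085
def n204049 : Q := act 4 n122557
theorem D204049 : act 4 n122557 = n204049 := rfl
theorem F430892 : act 2 n204049 = n128171 := d1_1 D204049 (iv4 F304765) (iv2 F306754)
theorem F430893 : act 3 n204049 = n162731 := d5_1 D204049 F334419 F334421 D186676 F367637
theorem F430894 : act 6 n204049 = n162729 := d10_2 F388758 D204049 (iv4 F388757)
theorem F430895 : act 7 n204049 = n128166 := d11_2 (iv7 F306755) D204049 F306761
theorem F430896 : act 0 n204049 = n128169 := d20_1 D204049 (iv4 F277181) (iv3 D177729) (iv1 D84629) F60089 F29801 F296488 (iv4 F44184) (iv3 F89928) D122557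
theorem F430897 : act 0 n128168 = n204049 := d20_10 (iv4 D204049) (iv1 F196230) (iv4 F187747) F187746 (iv1 F86845) D54984 (iv4 F304143) (iv1 F319371) F177582 (iv3 F319368)
def n204050 : Q := act 5 n122557
theorem D204050 : act 5 n122557 = n204050 := rfl
theorem F430898 : act 2 n204050 = n153808 := d2_1 D204050 (iv5 D153808) (iv2 F306754)
theorem F430899 : act 7 n204050 = n153813 := d13_2 (iv7 F306755) D204050 (iv5 D153813)
theorem F430900 : act 0 n204050 = n154438 := d17_2 D122557 D204050 F242483 (iv4 F428488) (iv5 F428841) (iv0 F428842) (iv5 D172021) (iv0 D82390) (iv4 F89929)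
theorem E103875 : n184950 = n153813 := (c15_2 F429263 D184950 (iv7 F430899) F430898)
theorem F430901 : act 0 n153813 = n88171 := (sb E103875 (iv1 D184950))
theorem F430902 : act 1 n204050 = n184951 := d15_0 F388325 F388322 (iv2 F430898)
def n204051 : Q := act 0 n122559
theorem D204051 : act 0 n122559 = n204051 := rfl
theorem F430903 : act 5 n204051 = n193112 := d21_2 D122559 D204051 (iv6 D193112) (iv1 D101193) (iv6 D47129) (iv5 D22675) F35163 D47065 D101013 F302300
theorem F430904 : act 1 n153818 = n204051 := d15_0 (iv0 D204051) F302301 (iv2 F306753)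
theorem F430905 : act 2 n153815 = n204051 := d2_3 F430903 (iv2 F430747) F430751
theorem F430906 : act 7 n153816 = n204051 := d13_0 F430903 F388788 F366444
def n204052 : Q := act 1 n122559
theorem D204052 : act 1 n122559 = n204052 := rfl
theorem F430907 : act 1 n204052 = n153818 := d15_1 D204052 (iv7 D153818) (iv2 F196224)
theorem F430908 : act 7 n204052 = n153815 := d15_2 (iv0 D204051) D204052 F430905
theorem F430909 : act 5 n152159 = n204052 := d21_6 (iv5 F191892) (iv1 F191894) F109585 D120300 F315464 D152159 (iv1 D204052) (iv5 D122559) (iv6 D56888) D56886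
theorem F430910 : act 2 n204052 = n153816 := d2_1 F430909 (iv5 F366444) (iv2 F239222)
theorem F430911 : act 3 n204052 = n149170 := d6_1 F430909 (iv5 F427416) F427415
def n204053 : Q := act 4 n122559
theorem D204053 : act 4 n122559 = n204053 := rfl
theorem F430912 : act 2 n204053 = n153817 := d1_1 D204053 (iv4 D153817) (iv2 F196224)
theorem F430913 : act 7 n204053 = n178073 := d11_2 (iv7 F302301) D204053 (iv4 D178073)
def n204054 : Q := act 6 n122562
theorem D204054 : act 6 n122562 = n204054 := rfl
theorem F430914 : act 2 n204054 = n124034 := d3_1 D204054 (iv6 D124034) (iv2 F196235)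
theorem F430915 : act 3 n204054 = n136941 := d7_1 D204054 F387887 F387885
theorem F430916 : act 5 n204054 = n136939 := d12_1 D204054 F362162 F301965 (iv6 F299439) D122562
theorem F430917 : act 7 n204054 = n185105 := d14_2 (iv7 F196236) D204054 (iv6 D185105) (iv7 F289620) F302072
def n204055 : Q := act 0 n122568
theorem D204055 : act 0 n122568 = n204055 := rfl
theorem F430918 : act 4 n204055 = n123205 := d18_3 F191925 D122568 D204055 F301754 F114137 (iv0 F117558) D84790 (iv0 F301831) D120482
theorem F430919 : act 2 n124050 = n204055 := d15_3 (iv0 D204055) (iv0 F429783) F429782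
theorem F430920 : act 1 n124025 = n204055 := d15_0 (iv0 D204055) F302312 (iv2 F304593)
theorem F430921 : act 7 n204055 = n124051 := d15_2 F429784 F430920 (iv2 F429781)
def n204056 : Q := act 3 n122568
theorem D204056 : act 3 n122568 = n204056 := rfl
theorem F430922 : act 7 n204056 = n178078 := d8_2 (iv7 F302312) D204056 (iv3 D178078)
def n204057 : Q := act 5 n122568
theorem D204057 : act 5 n122568 = n204057 := rfl
theorem F430923 : act 2 n204057 = n124053 := d2_1 D204057 (iv5 D124053) (iv2 F196273)
theorem F430924 : act 7 n204057 = n124227 := d13_2 (iv7 F302312) D204057 F304977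
theorem F430925 : act 4 n204057 = n124169 := d16_2 D122568 D204057 (iv5 D124169) (iv4 D57868) (iv5 D27624) (iv4 F44476) D57778 F90943 (iv2 F89931)
theorem F430926 : act 0 n204057 = n177803 := d17_2 F429783 D204057 F277309 F129947 F60134 F299025 D57349 (iv0 F191993) D203781
theorem F430927 : act 1 n204057 = n177771 := d17_6 (iv1 F310411) (iv5 D86510) (iv1 F297327) D56891 D122568 D204057 (iv5 D177771) D177769 F310414
def n204058 : Q := act 3 n122582
theorem D204058 : act 3 n122582 = n204058 := rfl
theorem F430928 : act 4 n204058 = n162652 := d5_2 (iv4 F196321) D204058 (iv3 D162652) (iv4 D78132) D78131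
theorem F430929 : act 6 n204058 = n198808 := d7_2 F362614 D204058 (iv3 D198808)
theorem F430930 : act 7 n204058 = n124219 := d8_2 (iv7 F196322) D204058 (iv3 D124219)
theorem F430931 : act 0 n199672 = n204058 := d20_4 F407016 (iv1 F226745) (iv4 F226742) (iv3 F413072) (iv3 D204058) F196321 (iv1 F299031) (iv4 F299746) F360089 D198156
def n204059 : Q := act 3 n122583
theorem D204059 : act 3 n122583 = n204059 := rfl
theorem F430932 : act 4 n204059 = n166082 := d5_2 (iv4 F299585) D204059 (iv3 D166082) (iv4 D79737) D79736
theorem F430933 : act 5 n204059 = n202490 := d6_2 (iv5 F299586) D204059 (iv3 F424232)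
theorem F430934 : act 6 n204059 = n170814 := d7_2 F301418 D204059 (iv3 D170814)
theorem F430935 : act 7 n204059 = n124216 := d8_2 F196319 D204059 (iv3 D124216)
def n204060 : Q := act 2 n122584
theorem D204060 : act 2 n122584 = n204060 := rfl
theorem F430936 : act 3 n204060 = n124223 := d0_2 D122584 D204060 (iv2 D124223) (iv3 D57918) (iv2 F89944)
theorem F430937 : act 4 n204060 = n172087 := d1_2 (iv4 F196324) D204060 (iv2 D172087)
theorem F430938 : act 6 n204060 = n122589 := d3_2 (iv6 F196325) D204060 (iv2 D122589)
theorem F430939 : act 7 n204060 = n178086 := d4_2 (iv7 F302316) D204060 (iv2 D178086)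
theorem F430940 : act 1 n204060 = n178084 := d15_0 (iv0 D178084) (iv7 F302316) D204060
theorem F430941 : act 1 n178085 = n204060 := d15_0 F430940 (iv7 F394976) F394975
def n204061 : Q := act 5 n122584
theorem D204061 : act 5 n122584 = n204061 := rfl
theorem F430942 : act 3 n204061 = n122585 := d6_1 D204061 (iv5 D122585) D122584
theorem F430943 : act 4 n204061 = n189031 := d9_1 D204061 (iv5 F390933) (iv4 D193761) (iv5 F287610) D186907 (iv5 F394581) (iv4 F394585) F394586 F386589 D192369 F386591 F356204 (iv4 F356199) (iv5 D172088) (iv4 F196324)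
theorem F430944 : act 7 n204061 = n178087 := d13_2 (iv7 F302316) D204061 (iv5 D178087)
theorem F430945 : act 0 n204061 = n192497 := d17_2 F380559 D204061 (iv5 F386830) (iv4 D189926) (iv5 F150258) (iv0 D97476) D97477 (iv0 F150262) D190680
def n204062 : Q := act 0 n122585
theorem D204062 : act 0 n122585 = n204062 := rfl
theorem F430946 : act 5 n204062 = n162617 := d17_3 (iv1 D122583) D122585 D204062 (iv4 D162617) (iv5 D78097) (iv0 F125981) D56936 (iv0 F297434) (iv4 F299585)
theorem F430947 : act 2 n124225 = n204062 := d15_3 (iv0 D204062) F302317 (iv7 F304971)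
theorem F430948 : act 1 n124169 = n204062 := d15_0 (iv0 D204062) F302318 (iv2 F304740)
theorem F430949 : act 7 n204062 = n124226 := d15_2 (iv0 F304739) F430948 F304973
theorem F430950 : act 3 n197671 = n204062 := d19_19 (iv1 F430948) (iv5 D124169) (iv4 D57868) F44551 F22101 (iv5 F21290) (iv4 F43118) (iv3 F87899) F185697 F185696 F321132 (iv3 F347676) (iv1 F177719) (iv5 F142279) F352364 (iv3 F414914) (iv1 F414917) F359974 (iv4 F405318)
def n204063 : Q := act 4 n122585
theorem D204063 : act 4 n122585 = n204063 := rfl
theorem F430951 : act 2 n204063 = n124227 := d1_1 D204063 (iv4 D124227) (iv2 F196326)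
theorem F430952 : act 5 n204063 = n124025 := d9_2 D122585 D204063 (iv4 D124025) (iv5 D57778) F44476 D27624 D57868 D124169 (iv4 F430925) (iv5 D204057) (iv4 D122568) (iv5 D56891) F44184 D27312 D56904
theorem F430953 : act 7 n204063 = n124053 := d11_2 (iv7 F302318) D204063 F306752
theorem F430954 : act 0 n204063 = n177771 := d18_2 (iv1 F302317) D204063 F277241 F130012 F60165 F60109 D84652 F132713 D181155
theorem F430955 : act 1 n204063 = n177803 := d18_6 (iv1 F300047) (iv4 D120534) F87789 D56904 D122585 D204063 (iv4 D177803) D177802 F277306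
def n204064 : Q := act 6 n122585
theorem D204064 : act 6 n122585 = n204064 := rfl
theorem F430956 : act 2 n204064 = n124228 := d3_1 D204064 (iv6 D124228) (iv2 F196326)
theorem F430957 : act 5 n204064 = n122591 := d12_1 D204064 (iv6 D122591) (iv5 D56907) (iv6 F89945) D122585
def n204065 : Q := act 2 n122587
theorem D204065 : act 2 n122587 = n204065 := rfl
theorem F430958 : act 7 n122588 = n204065 := d15_2 (iv0 D122587) D122588 (iv2 D204065)
def n204066 : Q := act 3 n122587
theorem D204066 : act 3 n122587 = n204066 := rfl
theorem F430959 : act 4 n204066 = n180781 := d20_6 (iv4 D35138) (iv1 F27993) D27314 D56906 D122587 D204066 (iv1 D180781) (iv4 F253099) (iv3 D160261) (iv1 F115302)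
def n204067 : Q := act 4 n122587
theorem D204067 : act 4 n122587 = n204067 := rfl
theorem F430960 : act 5 n204067 = n189461 := d18_4 (iv1 D82421) (iv4 F89952) D122587 D204067 (iv4 D189461) (iv0 D93976) (iv4 F69444) D94364 F377568
theorem F430961 : act 0 n158053 = n204067 := d20_10 (iv4 D204067) (iv1 F253202) F253200 F248916 (iv1 F113714) D84323 (iv4 F254192) (iv1 F358094) F358096 D158053
theorem F430962 : act 6 n204067 = n174235 := d21_5 F146995 F137038 D97477 (iv6 F358099) F430961 F273027 F199078 (iv5 F271620) F358399 (iv1 F160471)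
theorem F430963 : act 6 n189461 = n164126 := d21_9 (iv5 D199960) F362591 D176660 (iv6 F365996) (iv1 D97473) D97475 F358420 F430961 F430960 (iv1 F414360)
theorem F430964 : act 4 n164126 = n189463 := d10_1 F430963 (iv6 D189463) D189461
theorem F430965 : act 5 n189463 = n189238 := d16_3 D78846 D164126 F430964 (iv4 F430191) F430188 (iv4 D164123) (iv5 D78844) (iv7 F119990) F119993
theorem F430966 : act 3 n189239 = n189463 := d6_3 F430965 (iv3 D189238) D189239
theorem E103876 : n189476 = n189462 := (c12_5 D189463 F430965 F376184 (iv5 F144787) D189476 (iv5 D189462))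
theorem F430967 : act 1 n189462 = n189359 := (sb E103876 (iv0 F376653))
theorem F430968 : act 3 n189462 = n93982 := (sb E103876 F376651)
theorem F430969 : act 4 n189462 = n188513 := (sb E103876 F376652)
theorem F430970 : act 6 n189462 = n93980 := (sb E103876 (iv6 D189476))
theorem E103877 : n189482 = n189460 := (c6_3 D189462 F430968 D189482 (iv3 D189460))
theorem F430971 : act 2 n189460 = n189338 := (sb E103877 F376661)
theorem F430972 : act 5 n189460 = n93982 := (sb E103877 (iv5 D189482))
theorem F430973 : act 6 n189460 = n189239 := (sb E103877 F376662)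
theorem F430974 : act 6 n203997 = n122587 := d10_2 F430962 (iv4 F430770) D204067
def n204068 : Q := act 5 n122587
theorem D204068 : act 5 n122587 = n204068 := rfl
theorem F430975 : act 0 n163972 = n204068 := d21_7 (iv5 D174145) (iv1 F271578) F271576 D174273 (iv1 F398631) F398635 (iv5 F258442) (iv5 D204068) (iv6 F430974) (iv1 F430771)
def n204069 : Q := act 7 n122587
theorem D204069 : act 7 n122587 = n204069 := rfl
theorem F430976 : act 2 n204069 = n122588 := d4_1 D204069 F430958 (iv2 D204065)
def n204070 : Q := act 3 n122588
theorem D204070 : act 3 n122588 = n204070 := rfl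
def n204071 : Q := act 4 n122588
theorem D204071 : act 4 n122588 = n204071 := rfl
theorem F430977 : act 5 n204071 = n189466 := d18_4 (iv1 F248919) (iv4 F253200) (iv1 F253204) D204071 (iv4 D189466) F376629 F376626 F373777 (iv5 F377571)
theorem F430978 : act 3 n204071 = n158041 := d20_3 (iv4 F253200) (iv1 F253204) D204071 (iv1 F261156) F261153 F151334 (iv1 F248680) (iv4 F270248) (iv3 D172096) (iv1 F248919)
theorem F430979 : act 6 n199693 = n204071 := d7_0 F430978 F414605 F414606
def n204072 : Q := act 5 n122588
theorem D204072 : act 5 n122588 = n204072 := rfl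
theorem F430980 : act 0 n204072 = n163972 := d17_2 (iv1 F253204) D204072 F258442 F193355 F293691 D94364 F377568 F248921 (iv4 F253200)
def n204073 : Q := act 6 n122588
theorem D204073 : act 6 n122588 = n204073 := rfl
theorem F430981 : act 4 n204073 = n199693 := d10_1 D204073 F430979 (iv4 D204071)
theorem F430982 : act 0 n199406 = n204073 := d21_4 (iv5 D106409) D106406 D195885 F412035 (iv6 D204073) D204072 F430980 F258442 (iv6 F398635) (iv1 D195894)
theorem F430983 : act 2 n199656 = n204073 := d15_3 (iv0 F430982) (iv0 F412027) (iv7 F413027)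
theorem F430984 : act 1 n198689 = n204073 := d15_0 (iv0 F430982) F412026 (iv2 F408875)
theorem F430985 : act 7 n204073 = n199612 := d15_2 (iv0 F408879) F430984 F412846
theorem F430986 : act 3 n133970 = n204073 := d8_3 F430985 (iv3 D199612) F360751
theorem F430987 : act 6 n204070 = n133970 := d7_0 F430986 (iv6 D204073) D204070
theorem F430988 : act 2 n199611 = n204070 := d3_3 F430987 (iv2 F360749) D199611
theorem F430989 : act 0 n199675 = n204070 := d21_4 F164967 D107385 F402000 (iv6 F413082) F430987 (iv5 F412476) (iv1 D199513) (iv5 D111380) D111381 F362031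
theorem F430990 : act 7 n199674 = n204070 := d15_2 (iv0 F412845) D199674 (iv2 F430988)
theorem F430991 : act 3 n204065 = n199674 := d8_3 F430990 (iv3 D204070) F430958
theorem F430992 : act 6 n158800 = n199674 := d14_5 F430990 F430987 (iv7 F360751) D199614 (iv7 F412856)
theorem F430993 : act 4 n199674 = n158797 := d10_1 F430992 F250000 D158800
theorem E103878 : n204065 = n160294 := ((c20_5 (iv4 D76982) (iv1 F55910) (iv4 F91664) (iv3 F196331) (iv1 F253203) F430991 F430993 F366377 F198754 F262235 (iv1 D160568))).symm
theorem F430994 : act 2 n160294 = n122587 := (sb E103878 (iv2 D204065))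
theorem F430995 : act 3 n160294 = n199674 := (sb E103878 F430991)
theorem F430996 : act 7 n160294 = n122588 := (sb E103878 (iv7 F430958))
theorem E103879 : n204069 = n160293 := (c15_4 (iv0 D160293) D160294 F430996 (iv2 F430976))
theorem F430997 : act 2 n160293 = n122588 := (sb E103879 F430976)
theorem F430998 : act 7 n160293 = n122587 := (sb E103879 (iv7 D204069))
theorem F430999 : act 6 n199656 = n160293 := d3_0 F430997 D204073 (iv2 F430983)
def n204074 : Q := act 5 n122589
theorem D204074 : act 5 n122589 = n204074 := rfl
theorem F431000 : act 2 n204074 = n122590 := d2_1 D204074 (iv5 D122590) D122589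
theorem F431001 : act 3 n204074 = n124300 := d6_1 D204074 (iv5 D124300) (iv3 F196331)
def n204075 : Q := act 0 n122590
theorem D204075 : act 0 n122590 = n204075 := rfl
def n204076 : Q := act 1 n122590
theorem D204076 : act 1 n122590 = n204076 := rfl
theorem F431002 : act 5 n204076 = n163939 := d17_7 (iv1 F258574) (iv5 F365634) (iv1 D172107) (iv5 D82423) (iv4 F89952) D122590 D204076 F430252 F430245
def n204077 : Q := act 4 n122590
theorem D204077 : act 4 n122590 = n204077 := rfl
theorem F431003 : act 3 n204077 = n160460 := d5_1 D204077 (iv4 D160460) F115552 (iv4 F89954) (iv3 F196333)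
def n204078 : Q := act 6 n122590
theorem D204078 : act 6 n122590 = n204078 := rfl
theorem F431004 : act 3 n204078 = n122591 := d7_1 D204078 (iv6 D122591) (iv3 F196333)
def n204079 : Q := act 0 n122591
theorem D204079 : act 0 n122591 = n204079 := rfl
theorem F431005 : act 2 n124311 = n204079 := d15_3 (iv0 D204079) (iv0 F406277) F406276
theorem F431006 : act 7 n204079 = n124312 := d4_2 F406276 F431005 (iv2 F406275)
theorem F431007 : act 1 n124313 = n204079 := d15_1 F406278 F431006 (iv2 F406275)
def n204080 : Q := act 7 n122591
theorem D204080 : act 7 n122591 = n204080 := rfl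
theorem F431008 : act 2 n204080 = n124313 := d4_1 D204080 (iv7 D124313) (iv2 F196334)
theorem F431009 : act 4 n204080 = n160468 := d11_1 D204080 (iv7 D160468) (iv4 F196335)
theorem F431010 : act 1 n124312 = n204080 := d15_1 D124312 (iv7 D204080) F196334
theorem F431011 : act 1 n204080 = n124311 := d15_1 F431010 (iv7 F406276) F406275
def n204081 : Q := act 5 n122618
theorem D204081 : act 5 n122618 = n204081 := rfl
theorem F431012 : act 2 n204081 = n203725 := d2_1 D204081 (iv5 D203725) (iv2 F196440)
theorem F431013 : act 3 n204081 = n203046 := d6_1 D204081 F426765 F235086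
theorem F431014 : act 6 n204081 = n203044 := d12_2 D122618 D204081 (iv5 D203044) F321909 (iv5 F309443)
theorem F431015 : act 4 n204081 = n193419 := d16_2 (iv4 F351916) D204081 (iv5 D193419) (iv4 D101622) (iv5 D47268) (iv4 F74452) D101291 F309067 F215522
theorem F431016 : act 0 n204081 = n160327 := d17_2 (iv1 F351915) D204081 F304173 F305741 (iv5 D73661) (iv0 F131182) F130760 F108479 (iv4 F214909)
def n204082 : Q := act 5 n122619
theorem D204082 : act 5 n122619 = n204082 := rfl
theorem F431017 : act 2 n204082 = n122622 := d2_1 D204082 (iv5 D122622) (iv2 F196441)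
theorem F431018 : act 3 n204082 = n193455 := d6_1 D204082 F389895 (iv3 F196442)
def n204083 : Q := act 5 n122620
theorem D204083 : act 5 n122620 = n204083 := rfl
theorem F431019 : act 0 n204083 = n131164 := d17_2 D122620 D204083 (iv5 D131164) F96059 (iv5 F87988) D120674 (iv5 F340115) F319994 (iv4 F299059)
theorem F431020 : act 0 n204033 = n204083 := d19_0 (iv5 D204083) F383454 (iv3 F383455) F282892 (iv5 F317790) (iv4 F427220) F427219 (iv1 F374079) (iv5 D188582) F142399 F335701 (iv1 D46028) D46029 D98395 (iv3 F384374) F302108 (iv5 F430858) (iv4 D204034) D204033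
def n204084 : Q := act 5 n122621
theorem D204084 : act 5 n122621 = n204084 := rfl
theorem F431021 : act 3 n204084 = n185987 := d6_1 D204084 F387136 (iv3 F387134)
theorem F431022 : act 4 n204084 = n186003 := d16_4 F346119 (iv5 F383448) F383446 D204084 (iv5 F367184) F328608 (iv5 F321849) D176333 F346116
theorem F431023 : act 0 n204084 = n204033 := d17_2 F319999 D204084 F430855 F302804 (iv5 F302807) (iv0 F361076) (iv5 F361077) (iv0 D148389) D148391
def n204085 : Q := act 6 n122621
theorem D204085 : act 6 n122621 = n204085 := rfl
theorem F431024 : act 2 n204085 = n203757 := d3_1 D204085 (iv6 F429711) F354034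
theorem F431025 : act 4 n204085 = n139979 := d10_1 D204085 (iv6 F383447) F383446
theorem F431026 : act 0 n203753 = n204085 := d21_4 D197168 F403370 F355255 D203753 (iv6 D204085) D204084 F431023 F430855 F302805 (iv1 F308285)
theorem F431027 : act 1 n203760 = n204085 := d15_0 (iv0 F431026) F429697 (iv2 F429716)
theorem F431028 : act 0 n131164 = n204084 := d21_1 D131164 (iv5 D204084) D204085 (iv1 F431027) F429720 D203996 F430765 (iv5 D123542) D123543 F361926
theorem F431029 : act 7 n203758 = n204085 := d15_2 (iv0 D203757) D203758 F431024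
def n204086 : Q := act 0 n122622
theorem D204086 : act 0 n122622 = n204086 := rfl
theorem F431030 : act 5 n204086 = n192066 := d19_1 D204086 F385409 (iv3 D131258) F314587 (iv5 F363049) (iv4 F396172) (iv3 F396174) (iv1 F374117) F374115 F371132 F277436 (iv1 F277450) D100025 D192297 F387148 (iv1 D191374) (iv5 F366890) (iv4 D122624) (iv3 F196443)
theorem F431031 : act 3 n192067 = n204086 := d6_3 F431030 F385408 D192067
def n204087 : Q := act 1 n122622
theorem D204087 : act 1 n122622 = n204087 := rfl
theorem F431032 : act 5 n204087 = n203454 := d17_7 (iv1 F187495) F319503 (iv1 F319987) F315551 (iv4 F299059) D122622 D204087 F428385 F210083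
def n204088 : Q := act 4 n122622
theorem D204088 : act 4 n122622 = n204088 := rfl
theorem F431033 : act 6 n204088 = n185431 := d10_2 F198261 D204088 F369011
theorem F431034 : act 5 n204088 = n129769 := d16_3 (iv4 F299059) D122622 D204088 (iv4 D129769) F323492 (iv4 D69534) D69535 (iv7 F184508) F315555
theorem F431035 : act 3 n135241 = n204088 := d6_3 F431034 F208119 D135241
def n204089 : Q := act 3 n122624
theorem D204089 : act 3 n122624 = n204089 := rfl
theorem F431036 : act 4 n204089 = n135241 := d5_2 D122624 D204089 F431035 (iv4 D204088) F196443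
theorem F431037 : act 5 n204089 = n191375 := d6_2 (iv5 F366890) D204089 (iv3 D191375)
theorem F431038 : act 1 n170659 = n204089 := d18_6 (iv1 F217064) F209293 (iv1 F98696) D134881 F329398 (iv4 F268125) F431036 F430828 F430827
def n204090 : Q := act 6 n122640
theorem D204090 : act 6 n122640 = n204090 := rfl
theorem F431039 : act 2 n204090 = n134350 := d3_1 D204090 F374110 (iv2 F355552)
theorem F431040 : act 3 n204090 = n203023 := d7_1 D204090 (iv6 D203023) F348017
theorem F431041 : act 4 n204090 = n160300 := d10_1 D204090 (iv6 D160300) (iv4 F350731)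
theorem F431042 : act 5 n204090 = n202655 := d12_1 D204090 (iv6 D202655) (iv5 F406056) F406057 (iv5 F355556)
theorem F431043 : act 7 n204090 = n134349 := d14_2 F355555 D204090 F364410 F335629 F341410
theorem F431044 : act 0 n204090 = n134050 := d21_4 (iv5 F384616) F406059 (iv5 F355556) D204090 (iv6 D134050) (iv5 D62968) (iv1 D29786) D29788 D62976 (iv1 F341416)
theorem F431045 : act 1 n204090 = n134352 := d15_1 (iv0 F431044) (iv7 D134352) (iv2 F216057)
def n204091 : Q := act 3 n122648
theorem D204091 : act 3 n122648 = n204091 := rfl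
theorem F431046 : act 2 n204091 = n153296 := d0_1 D204091 (iv3 D153296) F155547 D75061 (iv2 F384698)
theorem F431047 : act 4 n204091 = n200488 := d5_2 F388786 D204091 F416686 (iv4 F351955) D193110
theorem F431048 : act 7 n204091 = n153325 := d8_2 (iv7 F384699) D204091 (iv3 F384696)
theorem F431049 : act 0 n153328 = n204091 := d20_4 F339113 (iv1 F338967) (iv4 F166818) F309877 (iv3 D204091) (iv4 F388786) F388785 (iv4 F252707) F252706 (iv1 F339111)
theorem F431050 : act 1 n153322 = n204091 := d15_0 (iv0 F431049) (iv7 D153328) (iv2 F240880)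
def n204092 : Q := act 5 n122648
theorem D204092 : act 5 n122648 = n204092 := rfl
theorem F431051 : act 2 n204092 = n157634 := d2_1 D204092 (iv5 D157634) (iv2 F384698)
theorem F431052 : act 0 n204092 = n124362 := d17_2 (iv1 F384705) D204092 (iv5 D124362) (iv4 F197064) (iv5 F408882) F408886 (iv5 D171133) F152885 (iv4 F384703)
theorem F431053 : act 6 n194012 = n204092 := d21_5 (iv5 D143134) (iv1 D67077) D67079 (iv6 F353581) (iv1 F391758) (iv5 D204092) (iv1 D122648) D122649 F349514 (iv1 F225990)
theorem F431054 : act 1 n204092 = n191518 := d15_0 (iv0 F387179) F387178 (iv2 F431051)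
def n204093 : Q := act 4 n122649
theorem D204093 : act 4 n122649 = n204093 := rfl
theorem F431055 : act 2 n204093 = n202600 := d1_1 D204093 F424691 F349508
theorem F431056 : act 6 n204093 = n203141 := d10_2 (iv6 F349514) D204093 (iv4 D203141)
theorem F431057 : act 7 n204093 = n203408 := d11_2 (iv7 F301779) D204093 F428172
theorem F431058 : act 5 n204093 = n198593 := d16_3 (iv4 F90056) D122649 D204093 F408428 (iv5 D116028) (iv4 F180563) (iv5 F334424) (iv7 D99294) F73276
theorem F431059 : act 0 n203400 = n192024 := d18_0 F385255 (iv1 F384329) D204093 F431058 F408428 F342393 D140901 (iv0 F316911) D203400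
theorem F431060 : act 3 n192451 = n204093 := d20_5 F390036 (iv1 D192458) F154141 (iv3 F154139) D192451 (iv4 D204093) F301778 (iv4 F388249) F388248 (iv1 F361949)
theorem F431061 : act 1 n203400 = n192926 := d15_1 (iv0 F431059) (iv7 D192926) (iv2 F385253)
def n204094 : Q := act 6 n122652
theorem D204094 : act 6 n122652 = n204094 := rfl
theorem F431062 : act 2 n204094 = n134323 := d3_1 D204094 F363028 F355548
theorem F431063 : act 3 n204094 = n202990 := d7_1 D204094 (iv6 D202990) (iv3 F353562)
theorem F431064 : act 4 n204094 = n186840 := d10_1 D204094 F368209 F353564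
theorem F431065 : act 7 n204094 = n134324 := d14_2 (iv7 F353563) D204094 F411526 (iv7 F411443) (iv6 F343230)
theorem F431066 : act 0 n204094 = n134326 := d21_4 (iv5 D102458) D102456 F343220 D204094 F410561 (iv5 D199078) (iv1 F410236) F410233 (iv6 F391330) (iv1 D193899)
theorem F431067 : act 0 n131924 = n204094 := d21_4 (iv5 D29788) (iv1 F46991) D61902 D131924 (iv6 D204094) (iv5 F343220) F343219 (iv5 F343212) (iv6 D134073) (iv1 D62975)
def n204095 : Q := act 0 n122653
theorem D204095 : act 0 n122653 = n204095 := rfl
theorem F431068 : act 5 n204095 = n134419 := d17_1 D204095 (iv1 D134419) (iv5 F343204) (iv4 F391314) F391315 (iv0 D115446) (iv5 F179637) (iv0 F422726) F422725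
theorem F431069 : act 6 n204095 = n138607 := d21_5 F324298 F112810 D56977 (iv6 F196517) D204095 (iv5 D138607) (iv1 F171826) (iv5 F332948) (iv6 D124374) F325434
theorem F431070 : act 2 n203020 = n204095 := d15_3 (iv0 D204095) (iv0 F341514) (iv7 F426666)
def n204096 : Q := act 1 n122657
theorem D204096 : act 1 n122657 = n204096 := rfl
theorem F431071 : act 7 n204096 = n160328 := d15_2 (iv0 F301789) D204096 F304176
theorem F431072 : act 4 n204096 = n124035 := d17_9 F198426 (iv5 D76813) D76811 D160275 (iv4 F423377) (iv5 D202243) D202242 (iv5 F423372) D204096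
theorem F431073 : act 2 n160331 = n204096 := d1_3 F431072 F198424 D160331
def n204097 : Q := act 3 n122657
theorem D204097 : act 3 n122657 = n204097 := rfl
theorem F431074 : act 4 n204097 = n192451 := d5_2 D122657 D204097 F431060 (iv4 D204093) F196512
theorem F431075 : act 0 n202395 = n192450 := d20_10 F386745 D192451 (iv4 F431074) (iv3 D204097) F301789 (iv3 F409582) (iv4 F409581) F416596 F416593 (iv3 F423856)
theorem F431076 : act 1 n202388 = n192450 := d15_0 (iv0 F431075) (iv7 D202395) (iv2 F423843)
def n204098 : Q := act 5 n122665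
theorem D204098 : act 5 n122665 = n204098 := rfl
theorem F431077 : act 3 n204098 = n122668 := d6_1 D204098 (iv5 D122668) (iv3 F196531)
theorem F431078 : act 7 n204098 = n135424 := d13_2 (iv7 F305434) D204098 (iv5 D135424)
def n204099 : Q := act 4 n122672
theorem D204099 : act 4 n122672 = n204099 := rfl
theorem F431079 : act 2 n204099 = n122690 := d1_1 D204099 (iv4 D122690) (iv2 F196535)
theorem F431080 : act 5 n204099 = n185274 := d9_2 D122672 D204099 F426815 (iv5 D203056) F348306 (iv5 D81550) (iv4 F89627) D122346 D203989 F430724 F426826 (iv5 D203058) F360539 F314086 F107867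
theorem F431081 : act 7 n204099 = n185272 := d11_2 F427309 D204099 (iv4 F427307)
def n204100 : Q := act 5 n122675
theorem D204100 : act 5 n122675 = n204100 := rfl
theorem F431082 : act 2 n204100 = n201628 := d2_1 D204100 (iv5 D201628) F357117
def n204101 : Q := act 6 n122675
theorem D204101 : act 6 n122675 = n204101 := rfl
theorem F431083 : act 2 n204101 = n201629 := d3_1 D204101 (iv6 D201629) F357117
theorem F431084 : act 3 n204101 = n148794 := d7_1 D204101 (iv6 F414873) F414872
theorem F431085 : act 4 n204101 = n201627 := d10_1 D204101 (iv6 D201627) (iv4 F357118)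
theorem F431086 : act 1 n134070 = n204101 := d17_8 (iv1 F421308) (iv5 F427819) F427822 F186812 (iv4 F186806) (iv5 F427947) F427949 F216917 F431085
theorem F431087 : act 0 n203907 = n204101 := d20_1 (iv4 F430338) F431085 F421182 (iv1 F420372) (iv3 D142082) (iv4 D66627) (iv1 F84445) D116145 D202633 (iv1 F424853)
def n204102 : Q := act 0 n122676
theorem D204102 : act 0 n122676 = n204102 := rfl
def n204103 : Q := act 1 n122676
theorem D204103 : act 1 n122676 = n204103 := rfl
def n204104 : Q := act 4 n122676
theorem D204104 : act 4 n122676 = n204104 := rfl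
theorem F431088 : act 6 n204104 = n122690 := d10_2 (iv6 F196541) D204104 (iv4 D122690)
def n204105 : Q := act 7 n122676
theorem D204105 : act 7 n122676 = n204105 := rfl
theorem F431089 : act 3 n204105 = n122716 := d8_1 D204105 (iv7 D122716) (iv3 F196540)
theorem F431090 : act 5 n204105 = n122677 := d13_1 D204105 (iv7 D122677) D122676
theorem F431091 : act 6 n204105 = n191476 := d14_1 D204105 (iv7 D191476) (iv6 F195652) F302005 (iv6 F196541)
theorem F431092 : act 1 n191452 = n204105 := d15_1 (iv0 F429298) (iv7 D204105) (iv2 F238049)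
def n204106 : Q := act 0 n122681
theorem D204106 : act 0 n122681 = n204106 := rfl
theorem F431093 : act 5 n204106 = n203144 := d17_3 D56985 D122681 D204106 F427148 F318758 (iv0 F336881) (iv5 F340979) (iv0 D122600) F89983
theorem F431094 : act 1 n122686 = n204106 := d15_0 (iv0 D204106) (iv7 F430713) F430712
theorem F431095 : act 4 n185282 = n204106 := d16_2 F426830 (iv5 F382982) F431093 F427148 F318758 (iv4 F244527) (iv5 F426832) F426831 F426828
theorem F431096 : act 6 n204106 = n191456 := d10_2 F382984 F431095 (iv4 D191456)
def n204107 : Q := act 4 n122681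
theorem D204107 : act 4 n122681 = n204107 := rfl
def n204108 : Q := act 5 n122682
theorem D204108 : act 5 n122682 = n204108 := rfl
theorem F431097 : act 3 n204108 = n187677 := d6_1 D204108 (iv5 F383301) F383299
theorem F431098 : act 6 n204108 = n187676 := d12_2 D122682 D204108 (iv5 F386732) F386733 (iv5 D122681)
theorem F431099 : act 1 n204108 = n203970 := d17_6 F307617 D193352 (iv1 F389548) D202854 (iv4 F425887) D204108 (iv5 D203970) F341135 (iv4 F310234)
def n204109 : Q := act 7 n122682
theorem D204109 : act 7 n122682 = n204109 := rfl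
theorem F431100 : act 6 n204109 = n197200 := d14_1 D204109 F403500 (iv6 F332487) F332488 D122682
theorem F431101 : act 0 n170675 = n204109 := d21_4 F339089 (iv1 F219808) D137871 F339040 F431100 (iv5 F403503) F428226 F428223 (iv6 F427266) (iv1 F427267)
def n204110 : Q := act 4 n122686
theorem D204110 : act 4 n122686 = n204110 := rfl
def n204111 : Q := act 6 n122686
theorem D204111 : act 6 n122686 = n204111 := rfl
def n204112 : Q := act 3 n122688
theorem D204112 : act 3 n122688 = n204112 := rfl
def n204113 : Q := act 4 n122688
theorem D204113 : act 4 n122688 = n204113 := rfl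
def n204114 : Q := act 6 n122688
theorem D204114 : act 6 n122688 = n204114 := rfl
def n204115 : Q := act 4 n122689
theorem D204115 : act 4 n122689 = n204115 := rfl
def n204116 : Q := act 6 n122689
theorem D204116 : act 6 n122689 = n204116 := rfl
def n204117 : Q := act 0 n122690
theorem D204117 : act 0 n122690 = n204117 := rfl
theorem F431102 : act 5 n204117 = n189787 := d17_3 (iv1 F287551) (iv5 F426781) D204117 (iv4 F380153) F380154 F370406 (iv5 F366939) F390928 F390924
theorem F431103 : act 4 n204117 = n192888 := d18_1 D204117 (iv1 D192888) D192889 (iv5 F391076) (iv4 D193817) (iv0 D102363) F74673 D88278 (iv5 F426781)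
theorem F431104 : act 1 n185272 = n204117 := d15_0 (iv0 D204117) (iv7 F430723) F430721
theorem F431105 : act 3 n204117 = n182160 := d19_3 F361482 (iv5 F388109) (iv4 F431103) F283613 F133585 (iv4 F133563) (iv3 F283706) F343888 (iv5 D88296) D88295 F153391 (iv1 F153390) (iv5 F331210) (iv4 F322433) F322432 (iv1 F319688) F319689 F198240 (iv3 F198236)
def n204118 : Q := act 1 n122690
theorem D204118 : act 1 n122690 = n204118 := rfl
theorem F431106 : act 1 n204118 = n185272 := d15_1 D204118 (iv7 F431081) F431079
theorem F431107 : act 4 n204118 = n192887 := d17_9 (iv1 F429601) (iv5 D203735) F304525 F346093 (iv4 D185284) (iv5 D88280) D88278 (iv5 F426781) D204118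
def n204119 : Q := act 5 n122693
theorem D204119 : act 5 n122693 = n204119 := rfl
theorem F431108 : act 2 n204119 = n175573 := d2_1 D204119 (iv5 F386445) F386442
theorem F431109 : act 3 n204119 = n122696 := d6_1 D204119 (iv5 D122696) (iv3 F196555)
theorem F431110 : act 6 n204119 = n123203 := d12_2 D122693 D204119 (iv5 D123203) (iv6 D57346) (iv5 F90069)
theorem F431111 : act 0 n204119 = n194104 := d17_2 F381327 D204119 F392062 F368522 (iv5 F381550) (iv0 D190920) (iv5 D97049) (iv0 F338150) D190850
def n204120 : Q := act 7 n122693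
theorem D204120 : act 7 n122693 = n204120 := rfl
theorem F431112 : act 3 n204120 = n122697 := d8_1 D204120 (iv7 D122697) (iv3 F196555)
theorem F431113 : act 1 n193988 = n204120 := d15_1 (iv0 F391648) (iv7 D204120) (iv2 F386442)
theorem F431114 : act 1 n204120 = n190138 := d15_1 F431113 (iv7 F381326) (iv2 F391646)
def n204121 : Q := act 0 n122696
theorem D204121 : act 0 n122696 = n204121 := rfl
theorem F431115 : act 5 n204121 = n199277 := d17_3 F341418 D122696 D204121 F411439 (iv5 D123883) (iv0 D57722) (iv5 D27562) D27561 D57719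
theorem F431116 : act 6 n204121 = n194086 := d21_5 (iv5 D39089) F297777 D57349 (iv6 F196556) D204121 F430821 (iv1 D204013) (iv5 F277232) (iv6 D177767) (iv1 D84643)
theorem F431117 : act 2 n177929 = n204121 := d2_3 F431115 (iv2 F411442) (iv5 F364406)
theorem F431118 : act 7 n177930 = n204121 := d13_0 F431115 (iv7 F411443) F363016
theorem F431119 : act 0 n204121 = n177931 := d21_1 (iv5 F431115) F341424 (iv6 F341425) (iv1 F341511) F341504 F111683 (iv1 F53724) D51266 D111143 D199277
def n204122 : Q := act 1 n122696
theorem D204122 : act 1 n122696 = n204122 := rfl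
theorem F431120 : act 1 n204122 = n177931 := d15_1 D204122 (iv7 D177931) (iv2 F301751)
theorem F431121 : act 7 n204122 = n177929 := d15_2 (iv0 D204121) D204122 F431117
theorem F431122 : act 5 n199278 = n204122 := d21_0 (iv1 D204122) (iv5 D122696) (iv6 D56990) (iv1 F44246) D27383 F301731 D37593 D82034 (iv6 F329908) (iv1 F411444)
theorem F431123 : act 2 n204122 = n177930 := d2_1 F431122 (iv5 F363016) (iv2 F411447)
def n204123 : Q := act 4 n122696
theorem D204123 : act 4 n122696 = n204123 := rfl
theorem F431124 : act 2 n204123 = n177928 := d1_1 D204123 F277495 (iv2 F301751)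
theorem F431125 : act 6 n204123 = n123206 := d10_2 (iv6 F196556) D204123 (iv4 D123206)
def n204124 : Q := act 7 n122696
theorem D204124 : act 7 n122696 = n204124 := rfl
theorem F431126 : act 2 n204124 = n177931 := d4_1 D204124 (iv7 D177931) (iv2 F301751)
theorem F431127 : act 5 n204124 = n122697 := d13_1 D204124 (iv7 D122697) D122696
theorem F431128 : act 6 n204124 = n177955 := d14_1 D204124 (iv7 D177955) (iv6 D84713) F301761 (iv6 F196556)
theorem F431129 : act 1 n177930 = n204124 := d15_1 D177930 (iv7 D204124) F301751
theorem F431130 : act 1 n204124 = n177929 := d15_1 F431129 (iv7 F431121) F431123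
def n204125 : Q := act 7 n122698
theorem D204125 : act 7 n122698 = n204125 := rfl
theorem F431131 : act 2 n204125 = n160078 := d4_1 D204125 (iv7 D160078) (iv2 F196557)
theorem F431132 : act 3 n204125 = n122702 := d8_1 D204125 (iv7 D122702) (iv3 F196558)
theorem F431133 : act 4 n204125 = n143127 := d11_1 D204125 F314026 (iv4 F196559)
theorem F431134 : act 6 n204125 = n160089 := d14_1 D204125 (iv7 D160089) (iv6 D76665) (iv7 F90072) D122698
theorem F431135 : act 1 n149583 = n204125 := d15_1 (iv0 F252641) (iv7 D204125) F196557
theorem F431136 : act 1 n204125 = n143133 := d15_1 F431135 F325375 F356828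
theorem F431137 : act 3 n123102 = n143126 := d20_5 (iv4 D123904) (iv1 D57728) F44471 (iv3 F90371) D123102 F225977 D143127 (iv4 F431133) F431132 (iv1 F341511)
theorem F431138 : act 6 n143124 = n123102 := d7_0 F431137 (iv6 D143126) D143124
def n204126 : Q := act 4 n122701
theorem D204126 : act 4 n122701 = n204126 := rfl
theorem F431139 : act 6 n204126 = n123212 := d10_2 (iv6 F196560) D204126 (iv4 D123212)
def n204127 : Q := act 7 n122701
theorem D204127 : act 7 n122701 = n204127 := rfl
theorem F431140 : act 5 n204127 = n122702 := d13_1 D204127 (iv7 D122702) D122701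
theorem F431141 : act 6 n204127 = n141234 := d14_1 D204127 F343249 F343238 F301734 (iv6 F196560)
theorem F431142 : act 0 n192294 = n204127 := d17_0 F431140 (iv1 F341511) F341503 F171626 D111760 D199811 (iv5 F413602) (iv0 F424152) F424149
def n204128 : Q := act 5 n122704
theorem D204128 : act 5 n122704 = n204128 := rfl
theorem F431143 : act 3 n204128 = n122706 := d6_1 D204128 (iv5 D122706) D122704
theorem F431144 : act 6 n204128 = n192441 := d12_2 (iv6 F356525) D204128 F386729 (iv6 D111211) D111210
def n204129 : Q := act 0 n122706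
theorem D204129 : act 0 n122706 = n204129 := rfl
theorem F431145 : act 5 n204129 = n204094 := d17_3 D56993 D122706 D204129 F431064 F368208 (iv0 D182446) F356456 (iv0 D57701) F44464
theorem F431146 : act 1 n122711 = n204129 := d15_0 (iv0 D204129) (iv7 F391348) F391347
def n204130 : Q := act 1 n122706
theorem D204130 : act 1 n122706 = n204130 := rfl
theorem F431147 : act 1 n204130 = n122711 := d15_1 D204130 (iv7 F356524) F356527
def n204131 : Q := act 4 n122706
theorem D204131 : act 4 n122706 = n204131 := rfl
theorem F431148 : act 6 n204131 = n199346 := d10_2 (iv6 F356526) D204131 (iv4 D199346)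
theorem F431149 : act 5 n204131 = n204007 := d16_1 D204131 F430807 F283645 F157184 D102440 F356494 D122711 (iv7 F356524) F356527
theorem F431150 : act 0 n204015 = n204131 := d17_2 F430841 F430839 F431149 F430807 F283645 F157206 (iv5 F356423) (iv0 D182180) D182182
def n204132 : Q := act 5 n122709
theorem D204132 : act 5 n122709 = n204132 := rfl
theorem F431151 : act 3 n204132 = n122711 := d6_1 D204132 (iv5 D122711) D122709
def n204133 : Q := act 4 n122711
theorem D204133 : act 4 n122711 = n204133 := rfl
theorem F431152 : act 5 n204133 = n193844 := d9_2 D122711 D204133 (iv4 D193844) (iv5 D102394) F74702 D47565 (iv4 F356483) D122706 D204131 F431149 F430807 F283645 F157184 D102440 F356494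
theorem F431153 : act 1 n204015 = n204133 := d17_6 D122407 (iv5 F291475) F291473 F369212 (iv4 F430838) F430839 F431152 F391187 (iv4 D122409)
theorem F431154 : act 0 n204008 = n204133 := d19_0 F431152 (iv4 D193844) F157213 F74706 F61464 F30639 F13924 (iv1 F5936) D8952 F15293 (iv3 F30692) F35686 F291177 D41353 F335606 (iv1 D56722) D56723 D122409 D204008
def n204134 : Q := act 5 n122712
theorem D204134 : act 5 n122712 = n204134 := rfl
theorem F431155 : act 2 n204134 = n134438 := d2_1 D204134 (iv5 D134438) (iv2 F356497)
theorem F431156 : act 3 n204134 = n143255 := d6_1 D204134 (iv5 D143255) (iv3 F356498)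
theorem F431157 : act 7 n204134 = n134433 := d13_2 (iv7 F356500) D204134 (iv5 D134433)
theorem F431158 : act 1 n204134 = n141921 := d17_6 (iv1 F324899) F329155 (iv1 F343225) F343222 (iv4 F356499) D204134 (iv5 F355556) (iv0 D122640) (iv4 F90559)
theorem F431159 : act 0 n204134 = n189074 := d18_0 F375642 (iv1 F360793) (iv4 F411920) (iv5 D199385) (iv4 F342805) F342803 F172441 (iv0 F356495) D204134
def n204135 : Q := act 3 n122713
theorem D204135 : act 3 n122713 = n204135 := rfl
theorem F431160 : act 5 n204135 = n187070 := d6_2 (iv5 F356509) D204135 (iv3 D187070)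
theorem F431161 : act 7 n204135 = n191465 := d8_2 F429532 D204135 F429536
theorem F431162 : act 2 n204135 = n191466 := d15_3 F386428 F386429 (iv7 F431161)
theorem F431163 : act 0 n191455 = n204135 := d17_2 F369003 (iv5 F383513) F431160 F369025 F137244 D102245 (iv5 F368776) F368390 (iv4 F369002)
theorem F431164 : act 0 n204135 = n186618 := d21_7 (iv5 D22892) (iv1 F35557) D47561 D102537 D193981 (iv6 F391605) (iv5 F431160) F367455 (iv6 D89503) F64455
def n204136 : Q := act 4 n122713
theorem D204136 : act 4 n122713 = n204136 := rfl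
theorem F431165 : act 0 n204136 = n204009 := d17_0 (iv5 D204009) (iv1 F391187) (iv5 F431152) (iv4 D204133) (iv5 D122711) F191754 (iv5 F429540) F429543 D204136
theorem F431166 : act 1 n204136 = n203731 := d18_6 (iv1 F368214) F360251 (iv1 D89517) D89518 (iv5 F356509) D204136 (iv4 D203731) D203730 F429573
def n204137 : Q := act 6 n122713
theorem D204137 : act 6 n122713 = n204137 := rfl
theorem F431167 : act 5 n204137 = n124157 := d12_1 D204137 (iv6 F410224) F410221 (iv6 F363022) (iv5 F356509)
theorem F431168 : act 1 n139478 = n204137 := d17_6 F401232 (iv5 D196620) F360135 (iv5 F360131) F172819 D139478 F431167 F409321 F409319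
def n204138 : Q := act 4 n122714
theorem D204138 : act 4 n122714 = n204138 := rfl
theorem F431169 : act 6 n204138 = n134329 := d10_2 (iv6 F329111) D204138 (iv4 D134329)
theorem F431170 : act 5 n204138 = n187048 := d16_1 D204138 (iv4 D187048) (iv5 D89489) F64431 D41799 D89518 (iv5 F356509) (iv7 F429532) F429534
theorem F431171 : act 0 n204138 = n203731 := d17_0 F429579 (iv1 F430805) (iv5 F431149) (iv4 D204131) (iv5 D122706) (iv0 D56993) D56995 D122714 D204138
theorem F431172 : act 1 n204138 = n204009 := d18_6 (iv1 F369019) (iv4 D187068) F335626 F111908 (iv5 F329110) D204138 F430811 F429569 F429567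
def n204139 : Q := act 0 n122715
theorem D204139 : act 0 n122715 = n204139 := rfl
def n204140 : Q := act 1 n122715
theorem D204140 : act 1 n122715 = n204140 := rfl
theorem F431173 : act 4 n204140 = n123793 := d18_7 (iv1 F191841) F356446 (iv1 D57702) F44464 D56995 D122715 D204140 F429586 F429584
theorem F431174 : act 3 n204102 = n191454 := d20_5 (iv4 F431173) (iv1 D204140) (iv4 D122715) (iv3 F196540) D204102 F383510 (iv1 F153980) D192318 (iv3 F429582) (iv1 F429586)
theorem F431175 : act 7 n191452 = n204102 := d8_0 F431174 (iv7 D191454) D191452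
theorem F431176 : act 6 n134253 = n204140 := d10_0 F431173 F329807 D134253
theorem F431177 : act 5 n187136 = n204140 := d16_1 D187136 F431173 F329806 (iv4 F172414) (iv5 F335731) F335702 D98391 (iv7 F364393) F364394
def n204141 : Q := act 3 n122715
theorem D204141 : act 3 n122715 = n204141 := rfl
theorem F431178 : act 6 n204141 = n122745 := d7_2 (iv6 F196563) D204141 (iv3 D122745)
def n204142 : Q := act 5 n122715
theorem D204142 : act 5 n122715 = n204142 := rfl
theorem F431179 : act 6 n204142 = n204009 := d12_2 (iv6 F196563) D204142 (iv5 D204009) F195854 F304325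
theorem F431180 : act 4 n204142 = n187045 := d16_2 D122715 D204142 (iv5 D187045) F335738 (iv5 F356444) F191811 (iv5 F429540) (iv7 D203720) F191749
theorem F431181 : act 7 n204142 = n191329 := d16_8 (iv4 D191372) (iv5 D98165) F72423 (iv5 F298112) F44464 D56995 D122715 D204142 (iv2 F383242)
theorem F431182 : act 1 n191479 = n204142 := d15_1 (iv0 F383541) F431181 (iv2 F383242)
theorem F431183 : act 1 n204142 = n187704 := d15_1 F431182 (iv7 F392024) F392023
theorem F431184 : act 4 n204139 = n123792 := d18_1 D204139 (iv1 F429587) F429583 (iv5 D191483) (iv4 D98395) D98394 D191479 F431182 (iv5 D204142)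
theorem F431185 : act 5 n204139 = n191477 := d16_1 (iv4 F431184) (iv4 D191477) (iv5 D98391) (iv4 F335702) F335731 F172414 (iv5 F329806) F429568 F429570
def n204143 : Q := act 7 n122715
theorem D204143 : act 7 n122715 = n204143 := rfl
theorem F431186 : act 4 n204143 = n122716 := d11_1 D204143 (iv7 D122716) D122715
theorem F431187 : act 5 n204143 = n191329 := d13_1 D204143 (iv7 F431181) (iv5 D204142)
theorem F431188 : act 6 n204143 = n191484 := d14_1 D204143 (iv7 D191484) (iv6 F195665) (iv7 F302702) (iv6 F196563)
def n204144 : Q := act 0 n122745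
theorem D204144 : act 0 n122745 = n204144 := rfl
theorem F431189 : act 4 n204144 = n204038 := d20_0 (iv1 D204038) (iv4 F430867) F430866 F430841 (iv3 D204020) (iv4 D122427) F302114 D57009 D122745 D204144
def n204145 : Q := act 1 n122745
theorem D204145 : act 1 n122745 = n204145 := rfl
theorem F431190 : act 4 n204037 = n204145 := d20_0 (iv1 D204145) (iv4 F430823) F430822 D204117 F431105 (iv4 D182160) (iv1 F133496) D86989 (iv3 F364077) D204037
theorem F431191 : act 5 n204022 = n204145 := d21_6 F431152 F391186 (iv5 F429579) F429578 (iv1 F302102) D204022 (iv1 D204145) F366895 (iv6 F430809) F431154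
theorem F431192 : act 6 n204145 = n203722 := d12_2 D204022 F431191 (iv5 F430727) F430728 (iv5 F195868)
theorem F431193 : act 3 n203719 = n204145 := d7_3 F431192 (iv3 D203722) (iv6 F429538)
def n204146 : Q := act 2 n122745
theorem D204146 : act 2 n122745 = n204146 := rfl
theorem F431194 : act 5 n204146 = n204032 := d2_2 (iv5 F366895) D204146 (iv2 D204032)
def n204147 : Q := act 5 n122847
theorem D204147 : act 5 n122847 = n204147 := rfl
theorem F431195 : act 6 n204147 = n123382 := d12_2 D122847 D204147 (iv5 D123382) (iv6 D57473) (iv5 F110125)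
theorem F431196 : act 4 n204147 = n201645 := d16_2 (iv4 F196845) D204147 F421228 (iv4 D183402) (iv5 D87548) (iv4 F134443) (iv5 F306193) (iv7 F162732) (iv2 F312419)
theorem F431197 : act 0 n204147 = n183987 := d21_4 (iv5 D57856) F199797 D123382 (iv6 F431195) (iv6 D183987) (iv5 D87768) (iv1 D40896) D40897 (iv6 F107127) F304628
def n204148 : Q := act 5 n122849
theorem D204148 : act 5 n122849 = n204148 := rfl
theorem F431198 : act 3 n204148 = n186945 := d6_1 D204148 F369009 F198258
theorem F431199 : act 4 n204148 = n148534 := d9_1 D204148 (iv5 F426191) F426192 (iv5 D182229) F335673 (iv5 F319321) (iv4 D146013) F228003 F233293 (iv5 F426196) F426197 (iv5 D150134) F107130 (iv5 F304452) (iv4 F196848)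
theorem F431200 : act 6 n204148 = n190575 := d12_2 D122849 D204148 (iv5 D190575) (iv6 D96183) F90161
theorem F431201 : act 1 n204148 = n195590 := d17_6 (iv1 F345988) F345989 (iv1 D70664) (iv5 F304452) (iv4 F196848) D204148 F397485 F368577 F346801
def n204149 : Q := act 5 n122993
theorem D204149 : act 5 n122993 = n204149 := rfl
theorem F431202 : act 2 n204149 = n154110 := d2_1 D204149 (iv5 D154110) F197050
theorem F431203 : act 0 n204149 = n150093 := d17_2 D122993 D204149 (iv5 D150093) (iv4 D70625) D70626 D150095 (iv5 F236206) F185568 F303476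
theorem F431204 : act 1 n204149 = n150098 := d17_6 F232766 D75059 D157631 (iv5 F381108) F381112 D204149 (iv5 D150098) F232731 F155724
def n204150 : Q := act 5 n123007
theorem D204150 : act 5 n123007 = n204150 := rfl
theorem F431205 : act 2 n204150 = n154146 := d2_1 D204150 (iv5 D154146) (iv2 F197084)
theorem F431206 : act 3 n204150 = n123008 := d6_1 D204150 (iv5 D123008) D123007
theorem F431207 : act 7 n204150 = n123303 := d13_2 (iv7 F197086) D204150 (iv5 D123303)
theorem F431208 : act 4 n204150 = n202373 := d16_2 (iv4 F197085) D204150 (iv5 D202373) F404227 F414279 F414275 F333743 (iv7 F333749) F188116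
theorem F431209 : act 0 n204150 = n193111 := d17_2 (iv1 F389018) D204150 (iv5 D193111) F351955 F330174 F250703 F319513 (iv0 F334245) (iv4 F389016)
theorem F431210 : act 1 n204150 = n193109 := d17_6 F155902 F364245 F389008 (iv5 D173245) (iv4 F197085) D204150 (iv5 D193109) (iv0 D101192) (iv4 F155901)
theorem F431211 : act 6 n204150 = n139303 := d21_3 F430757 (iv1 F389018) D204150 F423526 (iv6 D202294) D202293 F423520 (iv5 D199016) (iv6 F388809) (iv1 F430755)
def n204151 : Q := act 5 n123017
theorem D204151 : act 5 n123017 = n204151 := rfl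
theorem F431212 : act 2 n204151 = n123020 := d2_1 D204151 (iv5 D123020) (iv2 F197121)
theorem F431213 : act 3 n204151 = n123390 := d6_1 D204151 (iv5 D123390) (iv3 F197122)
theorem F431214 : act 6 n204151 = n134094 := d12_2 D123017 D204151 F328714 (iv6 D71457) (iv5 F90293)
theorem F431215 : act 1 n204151 = n204108 := d17_6 (iv1 D140007) (iv5 D65725) F341101 (iv5 F311028) (iv4 F197123) D204151 (iv5 D204108) F429796 F429793
def n204152 : Q := act 0 n123020
theorem D204152 : act 0 n123020 = n204152 := rfl
theorem F431216 : act 3 n204152 = n153969 := d20_5 F329054 (iv1 D62994) F328254 (iv3 F197124) D204152 (iv4 F374735) (iv1 F374729) (iv4 F374733) F304179 (iv1 F125734)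
theorem F431217 : act 5 n204152 = n204109 := d21_2 D123020 D204152 F431100 (iv1 D197200) (iv6 D107965) (iv5 F166829) (iv1 F210123) (iv5 D131179) (iv6 F307626) (iv1 D123019)
theorem F431218 : act 7 n204108 = n204152 := d13_0 F431217 (iv7 D204109) D204108
def n204153 : Q := act 1 n123020
theorem D204153 : act 1 n123020 = n204153 := rfl
theorem F431219 : act 5 n203987 = n204153 := d21_6 (iv5 D34913) (iv1 F52182) (iv5 F52183) D56983 (iv1 F302000) D203987 (iv1 D204153) (iv5 D123020) (iv6 D57237) F55267
theorem F431220 : act 2 n204153 = n204108 := d2_1 F431219 (iv5 D204108) (iv2 F430716)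
def n204154 : Q := act 6 n123030
theorem D204154 : act 6 n123030 = n204154 := rfl
theorem F431221 : act 2 n204154 = n123446 := d3_1 D204154 (iv6 D123446) (iv2 F197156)
theorem F431222 : act 3 n204154 = n186719 := d7_1 D204154 (iv6 F383707) (iv3 F366873)
theorem F431223 : act 4 n204154 = n129091 := d10_1 D204154 (iv6 F328650) F198044
theorem F431224 : act 5 n204154 = n134451 := d12_1 D204154 F350267 (iv5 F263592) F263593 F302061
theorem F431225 : act 7 n204154 = n191491 := d14_2 (iv7 F197154) D204154 (iv6 F383565) (iv7 F328738) (iv6 D123449)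
theorem F431226 : act 0 n204154 = n130839 := d21_4 F197810 (iv1 F302059) F302061 D204154 (iv6 D130839) (iv5 F325981) (iv1 D46032) D46033 F301633 D123431
theorem F431227 : act 0 n191493 = n204154 := d21_4 D134051 (iv1 F406293) (iv5 D197961) (iv6 F383572) (iv6 D204154) (iv5 F302061) (iv1 D120635) F326606 (iv6 F98935) (iv1 F168435)
def n204155 : Q := act 3 n123031
theorem D204155 : act 3 n123031 = n204155 := rfl
theorem F431228 : act 2 n204155 = n188775 := d0_1 D204155 F374841 F366871 (iv3 D123447) F197148
theorem F431229 : act 4 n204155 = n185771 := d5_2 F198040 D204155 (iv3 F363904) F213992 (iv3 F328652)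
theorem F431230 : act 5 n204155 = n191376 := d6_2 (iv5 F301982) D204155 F383256
theorem F431231 : act 6 n204155 = n187770 := d7_2 (iv6 F328252) D204155 F371450
theorem F431232 : act 7 n204155 = n123443 := d8_2 F197157 D204155 (iv3 D123443)
theorem F431233 : act 1 n124712 = n204155 := d15_1 F418870 F431232 (iv2 F418864)
theorem F431234 : act 0 n186677 = n204155 := d17_0 F431230 F383258 (iv5 F349511) (iv4 F374677) (iv5 F387777) (iv0 D192788) (iv5 F367259) (iv0 F367260) F367641
def n204156 : Q := act 3 n123037
theorem D204156 : act 3 n123037 = n204156 := rfl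
theorem F431235 : act 2 n204156 = n199585 := d0_1 D204156 F412769 (iv2 F353060) F353061 (iv2 F197170)
theorem F431236 : act 4 n204156 = n173319 := d5_2 D123037 D204156 (iv3 D173319) (iv4 D82945) (iv3 F121124)
theorem F431237 : act 6 n204156 = n180431 := d7_2 (iv6 F301025) D204156 (iv3 D180431)
theorem F431238 : act 7 n204156 = n123482 := d8_2 (iv7 F197171) D204156 (iv3 D123482)
def n204157 : Q := act 2 n123041
theorem D204157 : act 2 n123041 = n204157 := rfl
theorem F431239 : act 3 n204157 = n123494 := d0_2 D123041 D204157 (iv2 D123494) (iv3 D57554) (iv2 F90313)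
theorem F431240 : act 4 n204157 = n125305 := d1_2 F257735 D204157 (iv2 F354382)
theorem F431241 : act 5 n204157 = n169883 := d2_2 (iv5 F354378) D204157 F267308
theorem F431242 : act 6 n204157 = n124235 := d3_2 (iv6 F197190) D204157 (iv2 D124235)
theorem F431243 : act 7 n204157 = n180034 := d4_2 (iv7 F354379) D204157 (iv2 F358448)
theorem F431244 : act 1 n204157 = n169876 := d15_0 (iv0 F350025) (iv7 F354379) D204157
theorem F431245 : act 1 n154717 = n204157 := d15_0 F431244 (iv7 F381079) F381077
theorem F431246 : act 6 n170826 = n160404 := d21_3 (iv5 F332729) D194667 (iv5 F395379) (iv1 F253360) (iv6 F431242) F431241 (iv1 F324147) D202464 F424110 (iv1 D180778)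
theorem E103880 : n200608 = n197837 := ((c10_2 F431246 (iv4 F405964) (iv6 D200608) F334363)).symm
theorem F431247 : act 6 n197837 = n113266 := (sb E103880 (iv6 D200608))
def n204158 : Q := act 5 n123046
theorem D204158 : act 5 n123046 = n204158 := rfl
theorem F431248 : act 2 n204158 = n123583 := d2_1 D204158 (iv5 D123583) (iv2 F197201)
theorem F431249 : act 3 n204158 = n154173 := d6_1 D204158 (iv5 D154173) (iv3 F197202)
theorem F431250 : act 6 n204158 = n192776 := d12_2 D123046 D204158 F387719 (iv6 F308357) F308356
theorem F431251 : act 7 n204158 = n123959 := d13_2 (iv7 F311809) D204158 (iv5 D123959)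
theorem F431252 : act 4 n204158 = n134892 := d16_2 F206324 D204158 (iv5 D134892) F98707 F97465 (iv4 F97462) (iv5 F207896) (iv7 F316640) (iv2 F206323)
theorem F431253 : act 0 n204158 = n123148 := d17_2 (iv1 F315060) D204158 F304265 (iv4 D75641) (iv5 F315091) F47415 (iv5 F208664) (iv0 D61099) (iv4 F312602)
theorem F431254 : act 1 n204158 = n123999 := d17_6 F217586 F211941 F214126 F319566 F206324 D204158 F358061 D133100 (iv4 F213744)
def n204159 : Q := act 5 n123062
theorem D204159 : act 5 n123062 = n204159 := rfl
theorem F431255 : act 2 n204159 = n123511 := d2_1 D204159 (iv5 D123511) (iv2 F197236)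
theorem F431256 : act 0 n204159 = n124044 := d17_2 (iv1 F315671) D204159 (iv5 F429719) F429718 (iv5 F360899) F247895 (iv5 F209458) F209460 D157409
def n204160 : Q := act 6 n123064
theorem D204160 : act 6 n123064 = n204160 := rfl
theorem F431257 : act 2 n204160 = n179986 := d3_1 D204160 (iv6 F309792) (iv2 F197239)
theorem F431258 : act 3 n204160 = n190578 := d7_1 D204160 (iv6 D190578) (iv3 F197240)
theorem F431259 : act 4 n204160 = n123065 := d10_1 D204160 (iv6 D123065) D123064
theorem F431260 : act 5 n204160 = n129713 := d12_1 D204160 (iv6 F348723) F156069 (iv6 F298492) (iv5 F197242)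
theorem F431261 : act 0 n204160 = n148854 := d21_10 (iv5 D148854) (iv1 F205688) (iv5 F229099) F229100 (iv1 F340876) F337022 F158408 F151572 (iv5 F197242) D204160
def n204161 : Q := act 4 n123067
theorem D204161 : act 4 n123067 = n204161 := rfl
theorem F431262 : act 2 n204161 = n170271 := d1_1 D204161 (iv4 F385387) F385385
theorem F431263 : act 3 n204161 = n175486 := d5_1 D204161 (iv4 D175486) D175485 F348239 F361520
theorem F431264 : act 6 n204161 = n131403 := d10_2 F364929 D204161 (iv4 F215105)
theorem F431265 : act 7 n204161 = n191508 := d11_2 (iv7 F364928) D204161 F383609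
theorem F431266 : act 5 n204161 = n170265 := d18_4 F312433 D165317 F364921 D204161 F267777 F364101 F227699 (iv0 F104923) F306193
theorem F431267 : act 0 n204161 = n190573 := d20_1 D204161 F380165 F345811 (iv1 F345812) F151707 F128584 D83484 (iv4 F331913) (iv3 F364920) F364921
theorem F431268 : act 0 n186688 = n204161 := d20_10 (iv4 D204161) (iv1 D123067) F301406 (iv3 D86713) F297116 D58151 (iv4 F297964) D77640 (iv4 F333714) (iv3 F367680)
def n204162 : Q := act 5 n123067
theorem D204162 : act 5 n123067 = n204162 := rfl
theorem F431269 : act 2 n204162 = n197523 := d2_1 D204162 F404694 F385385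
theorem F431270 : act 0 n204162 = n135012 := d17_2 F364921 D204162 F358458 F187516 (iv5 F103905) F314861 (iv5 F314865) F312432 D165317
theorem F431271 : act 6 n134980 = n204162 := d21_5 F336978 F155240 (iv5 F336964) F171538 (iv1 F217205) (iv5 D204162) (iv1 D123067) D123068 F329059 D134104
def n204163 : Q := act 0 n123068
theorem D204163 : act 0 n123068 = n204163 := rfl
def n204164 : Q := act 1 n123068
theorem D204164 : act 1 n123068 = n204164 := rfl
theorem F431272 : act 5 n204164 = n130873 := d17_7 D61403 D130880 (iv1 F354313) (iv5 D181684) (iv4 F301406) D123068 D204164 (iv0 D130873) F95898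
theorem F431273 : act 6 n170644 = n130873 := d21_5 (iv5 F191797) (iv1 F191795) F90872 D122619 F268093 (iv5 F431272) (iv1 D204164) (iv5 D123068) (iv6 D57269) D57265
theorem F431274 : act 2 n130873 = n203455 := d3_1 F431273 (iv6 F428392) F354035
theorem F431275 : act 7 n203456 = n130873 := d15_2 (iv0 D203455) D203456 F431274
theorem F431276 : act 7 n130874 = n203455 := d15_2 (iv0 D130873) D130874 (iv2 F431274)
theorem F431277 : act 2 n203456 = n130874 := d4_3 F431276 (iv2 F431274) (iv7 F431275)
theorem F431278 : act 6 n203758 = n203456 := d14_5 F431275 (iv6 F431273) F354036 D204085 (iv7 F431029)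
theorem F431279 : act 6 n204164 = n187689 := d21_3 (iv5 D130875) D130873 (iv5 F431272) (iv1 F371196) (iv6 D134886) D134885 (iv1 F404701) (iv5 D197522) D197523 (iv1 F404695)
def n204165 : Q := act 3 n123074
theorem D204165 : act 3 n123074 = n204165 := rfl
theorem F431280 : act 2 n204165 = n154229 := d0_1 D204165 (iv3 D154229) (iv2 F198037) (iv3 D123637) F197258
theorem F431281 : act 5 n204165 = n203798 := d6_2 F304270 D204165 (iv3 D203798)
theorem F431282 : act 7 n204165 = n123639 := d8_2 (iv7 F197259) D204165 (iv3 D123639)
theorem F431283 : act 0 n204165 = n170758 := d20_4 (iv4 F328254) D62993 (iv4 F329056) D204165 F374824 (iv4 D188771) (iv1 F288088) (iv4 F431229) (iv3 D204155) (iv1 D123031)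
theorem F431284 : act 0 n123092 = n204165 := d20_4 F397617 (iv1 F374888) (iv4 F349324) (iv3 F306327) (iv3 D204165) F329056 F98303 F328257 (iv3 F301979) D195614
def n204166 : Q := act 7 n123077
theorem D204166 : act 7 n123077 = n204166 := rfl
theorem F431285 : act 2 n204166 = n128228 := d4_1 D204166 F351767 F262761
theorem F431286 : act 3 n204166 = n162738 := d8_1 D204166 (iv7 F351753) (iv3 F197266)
theorem F431287 : act 4 n204166 = n123083 := d11_1 D204166 (iv7 D123083) (iv4 F197267)
theorem F431288 : act 5 n204166 = n177533 := d13_1 D204166 (iv7 F430570) F430571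
theorem F431289 : act 6 n204166 = n128226 := d14_1 D204166 (iv7 F332354) (iv6 D166908) F125384 D123077
theorem F431290 : act 1 n157527 = n204166 := d15_1 F345823 (iv7 D204166) (iv2 F262761)
theorem F431291 : act 1 n204166 = n159284 := d15_1 F431290 F315003 (iv2 F315009)
def n204167 : Q := act 5 n123080
theorem D204167 : act 5 n123080 = n204167 := rfl
theorem F431292 : act 2 n204167 = n123303 := d2_1 D204167 (iv5 D123303) (iv2 F351762)
theorem F431293 : act 3 n204167 = n123659 := d6_1 D204167 (iv5 D123659) (iv3 F351763)
theorem F431294 : act 4 n204167 = n202372 := d9_1 D204167 (iv5 D202372) D202371 F423801 (iv4 F414429) (iv5 D173245) (iv4 F197085) D204150 F431208 (iv5 D202373) F404227 F414279 F414275 F333743 (iv4 F351764)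
theorem F431295 : act 7 n204167 = n154146 := d13_2 (iv7 F351765) D204167 (iv5 D154146)
theorem F431296 : act 0 n204167 = n193109 := d17_2 D123080 D204167 (iv5 D193109) F316141 (iv5 F330171) (iv0 D76201) D76204 (iv0 F330177) F197267
theorem F431297 : act 1 n204167 = n193111 := d17_6 (iv1 F388772) (iv5 F409445) F409444 F333743 (iv4 F351764) D204167 (iv5 D193111) F195778 (iv4 F253925)
theorem F431298 : act 1 n192332 = n202372 := d18_6 (iv1 D101193) (iv4 F155901) F155902 (iv4 D100090) D100091 D192332 (iv4 F431294) F431297 (iv5 D193111)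
def n204168 : Q := act 5 n123087
theorem D204168 : act 5 n123087 = n204168 := rfl
theorem F431299 : act 2 n204168 = n155140 := d2_1 D204168 (iv5 F332363) F262768
theorem F431300 : act 3 n204168 = n128063 := d6_1 D204168 (iv5 D128063) (iv3 F304701)
theorem F431301 : act 4 n204168 = n135481 := d9_1 D204168 (iv5 D135481) (iv4 F203370) D129667 (iv4 F332393) (iv5 D170758) (iv4 F206358) (iv5 F332392) F221426 (iv5 F163999) F163998 D129670 (iv4 F332394) (iv5 D123092) (iv4 F197281)
theorem F431302 : act 6 n204168 = n155070 := d12_2 D123087 D204168 (iv5 F243865) (iv6 D118497) (iv5 F302742)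
theorem F431303 : act 7 n204168 = n127061 := d13_2 (iv7 F304702) D204168 F332352
theorem F431304 : act 1 n204168 = n126868 := d17_8 F95462 (iv5 D60914) (iv1 F93626) (iv5 F112244) (iv4 F214343) (iv5 F383355) (iv0 F383357) D204168 F204108
theorem F431305 : act 0 n204168 = n203649 := d18_0 F429235 F207619 D129686 F332367 F315082 (iv0 F344995) (iv4 F383354) (iv0 F383357) D204168
def n204169 : Q := act 1 n123092
theorem D204169 : act 1 n123092 = n204169 := rfl
theorem F431306 : act 1 n204169 = n170758 := d15_1 D204169 (iv7 F389022) F389020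
theorem F431307 : act 7 n204169 = n154229 := d15_2 (iv0 F431284) D204169 (iv2 F431280)
theorem F431308 : act 5 n204040 = n204169 := d21_0 (iv1 D204169) (iv5 D123092) (iv6 D57283) (iv1 D27430) D27433 D57291 D123115 F344170 D171094 F430874
theorem F431309 : act 2 n204169 = n123639 := d2_1 F431308 (iv5 F303727) (iv2 F430871)
theorem F431310 : act 3 n204169 = n123678 := d6_1 F431308 (iv5 F240099) (iv3 F430872)
def n204170 : Q := act 0 n123094
theorem D204170 : act 0 n123094 = n204170 := rfl
theorem F431311 : act 4 n204170 = n175324 := d20_2 F342213 D204170 (iv3 F363207) F310641 (iv3 F333922) (iv4 F309120) (iv1 F311295) (iv4 D60954) (iv3 F95480) D129733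
theorem F431312 : act 3 n204170 = n137442 := d20_5 (iv4 D128213) (iv1 D60274) (iv4 F90830) (iv3 F197283) D204170 F328581 F103906 (iv4 F188637) (iv3 F428972) (iv1 F428975)
theorem F431313 : act 6 n204170 = n137440 := d21_5 F191892 (iv1 F89925) D57284 D123094 D204170 F220641 F429661 (iv5 D203744) (iv6 D120454) D120452
theorem F431314 : act 2 n123102 = n204170 := d3_3 F431313 F328576 F431138
theorem F431315 : act 7 n123103 = n204170 := d14_0 F431313 F328578 (iv6 F259421) F333940 (iv6 F362111)
theorem F431316 : act 0 n204170 = n123105 := d20_4 F196845 (iv1 F314861) (iv4 F328581) (iv3 F431312) F197303 (iv4 F90898) (iv1 F90900) (iv4 F341483) (iv3 F410273) F410277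
def n204171 : Q := act 1 n123094
theorem D204171 : act 1 n123094 = n204171 := rfl
theorem F431317 : act 1 n204171 = n123105 := d15_1 D204171 (iv7 D123105) (iv2 F197282)
theorem F431318 : act 7 n204171 = n123102 := d15_2 (iv0 D204170) D204171 F431314
theorem F431319 : act 3 n149574 = n204171 := d20_3 F252625 (iv1 F314028) F314030 (iv1 D204171) F197283 F90830 D60273 D128208 (iv3 F350265) (iv1 F356830)
theorem F431320 : act 6 n175147 = n204171 := d21_3 (iv5 D111162) D111159 (iv5 F332230) (iv1 D204171) (iv6 D123094) (iv5 D57284) (iv1 F89926) (iv5 F191899) (iv6 F334549) (iv1 F332232)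
theorem F431321 : act 2 n204171 = n123103 := d3_1 F431320 F362111 (iv2 F274133)
theorem F431322 : act 4 n204171 = n175148 := d10_1 F431320 (iv6 D175148) D175147
def n204172 : Q := act 5 n123094
theorem D204172 : act 5 n123094 = n204172 := rfl
theorem F431323 : act 2 n204172 = n123104 := d2_1 D204172 (iv5 D123104) (iv2 F197282)
theorem F431324 : act 3 n204172 = n123683 := d6_1 D204172 (iv5 D123683) (iv3 F197283)
theorem F431325 : act 6 n204172 = n123097 := d12_2 D123094 D204172 (iv5 D123097) (iv6 D57285) D57284
theorem F431326 : act 4 n204172 = n200919 := d16_6 (iv4 F418326) F418327 F212123 (iv5 F342214) F342213 D204172 F418396 (iv7 D113625) (iv2 F176786)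
theorem F431327 : act 7 n188425 = n204172 := d11_0 F431326 (iv7 D200919) (iv4 F391167)
theorem F431328 : act 0 n204172 = n193011 := d21_4 F357859 (iv1 D123096) D123097 (iv6 F431325) (iv6 D193011) (iv5 D101095) F153159 D87969 F134955 D171098
def n204173 : Q := act 7 n123094
theorem D204173 : act 7 n123094 = n204173 := rfl
theorem F431329 : act 2 n204173 = n123105 := d4_1 D204173 (iv7 D123105) (iv2 F197282)
theorem F431330 : act 3 n204173 = n123684 := d8_1 D204173 (iv7 D123684) (iv3 F197283)
theorem F431331 : act 5 n204173 = n188425 := d13_1 D204173 F431327 (iv5 D204172)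
theorem F431332 : act 6 n204173 = n153804 := d14_1 D204173 (iv7 D153804) (iv6 D72758) (iv7 F90365) D123094
theorem F431333 : act 1 n123103 = n204173 := d15_1 D123103 (iv7 D204173) F197282
theorem F431334 : act 1 n204173 = n123102 := d15_1 F431333 (iv7 F431318) F431321
def n204174 : Q := act 4 n123097
theorem D204174 : act 4 n123097 = n204174 := rfl
theorem F431335 : act 2 n204174 = n123117 := d1_1 D204174 (iv4 D123117) (iv2 F197285)
theorem F431336 : act 5 n204174 = n157398 := d9_2 D123097 D204174 F364641 (iv5 D159605) F327774 F127937 (iv4 F90374) (iv5 F197308) F364651 F239711 F364640 (iv5 D164219) F327772 (iv5 D82995) (iv4 F90368)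
theorem F431337 : act 6 n204174 = n200919 := d10_2 F431325 D204174 (iv4 F431326)
theorem F431338 : act 4 n201556 = n184488 := d18_1 D201556 F351828 D204174 F431336 F364641 (iv0 F319880) (iv4 F227966) (iv0 F366608) F209192
theorem F431339 : act 3 n204174 = n196151 := d20_3 F431338 F351828 D204174 (iv1 F399631) (iv3 F399618) F284761 D183165 (iv4 F420930) F420929 D201556
theorem F431340 : act 7 n157397 = n204174 := d8_0 F431339 (iv7 D196151) (iv3 F247876)
theorem F431341 : act 5 n197163 = n201556 := d9_0 F431338 (iv5 D184488) (iv4 F332320) F330214 F120061 D78893 D164228 F420939 F420938 (iv5 D184484) (iv4 F233861) (iv5 F332324) (iv4 F327111) (iv5 F239641) (iv4 F403343)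
theorem F431342 : act 3 n201556 = n197039 := d19_3 (iv1 F134986) D184488 (iv4 F431338) (iv1 F402788) F166827 (iv4 D71484) D71483 (iv1 F108019) (iv5 F97847) F97842 F94587 F54052 (iv5 F310461) (iv4 D18726) (iv3 F297760) F297757 F91477 D34756 D76069
def n204175 : Q := act 7 n123097
theorem D204175 : act 7 n123097 = n204175 := rfl
theorem F431343 : act 2 n204175 = n123118 := d4_1 D204175 (iv7 D123118) (iv2 F197285)
theorem F431344 : act 3 n204175 = n123695 := d8_1 D204175 (iv7 D123695) (iv3 F197286)
theorem F431345 : act 4 n204175 = n157397 := d11_1 D204175 F431340 (iv4 D204174)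
theorem F431346 : act 5 n204175 = n123098 := d13_1 D204175 (iv7 D123098) D123097
theorem F431347 : act 6 n204175 = n157399 := d14_1 D204175 F247880 F391168 F431327 F431325
theorem F431348 : act 1 n123116 = n204175 := d15_1 D123116 (iv7 D204175) F197285
theorem F431349 : act 1 n204175 = n123115 := d15_1 F431348 F344171 (iv2 F344172)
def n204176 : Q := act 5 n123099
theorem D204176 : act 5 n123099 = n204176 := rfl
theorem F431350 : act 3 n204176 = n203510 := d6_1 D204176 (iv5 D203510) (iv3 F197295)
theorem F431351 : act 4 n204176 = n197337 := d16_2 (iv4 F197296) D204176 (iv5 D197337) F171181 D156110 (iv4 F409472) (iv5 F409861) (iv7 F414867) (iv2 F414865)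
def n204177 : Q := act 7 n123099
theorem D204177 : act 7 n123099 = n204177 := rfl
theorem F431352 : act 3 n204177 = n149376 := d8_1 D204177 F234896 (iv3 F197295)
theorem F431353 : act 4 n204177 = n175265 := d11_1 D204177 (iv7 F334571) (iv4 F197296)
theorem F431354 : act 6 n204177 = n175264 := d14_1 D204177 F363838 (iv6 D123814) F114945 D123099
theorem F431355 : act 1 n154321 = n204177 := d15_1 (iv0 F414870) (iv7 D204177) (iv2 F198287)
theorem F431356 : act 1 n204177 = n123783 := d15_1 F431355 (iv7 F414911) F414908
def n204178 : Q := act 4 n123102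
theorem D204178 : act 4 n123102 = n204178 := rfl
theorem F431357 : act 2 n204178 = n175324 := d1_1 D204178 (iv4 F431311) (iv2 F431314)
theorem F431358 : act 3 n204178 = n202721 := d5_1 D204178 F425279 F181950 (iv4 F225977) (iv3 F431137)
theorem F431359 : act 6 n204178 = n175354 := d10_2 F431138 D204178 (iv4 F354809)
theorem F431360 : act 7 n204178 = n175148 := d11_2 F431318 D204178 (iv4 F431322)
theorem F431361 : act 0 n164261 = n204178 := d20_1 F419415 (iv4 D204178) F431137 F318752 (iv3 D73962) (iv4 D33950) D33948 D73952 (iv3 F361424) F419417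
theorem F431362 : act 1 n175322 = n204178 := d15_1 D175322 F431360 F274135
def n204179 : Q := act 5 n123102
theorem D204179 : act 5 n123102 = n204179 := rfl
def n204180 : Q := act 3 n123103
theorem D204180 : act 3 n123103 = n204180 := rfl
theorem F431363 : act 2 n204180 = n144804 := d0_1 D204180 F357698 F319413 F431319 F431321
theorem F431364 : act 4 n204180 = n144794 := d5_2 (iv4 F362110) D204180 (iv3 F229989) F341971 F337910
theorem F431365 : act 6 n204180 = n164571 := d7_2 (iv6 F362111) D204180 F361430
theorem F431366 : act 7 n204180 = n137442 := d8_2 (iv7 F431315) D204180 (iv3 F431312)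
theorem F431367 : act 0 n144801 = n204180 := d20_4 F419418 F352419 (iv4 F377194) F377193 (iv3 D204180) F362110 (iv1 F362051) (iv4 F419415) F419414 D201199
theorem F431368 : act 1 n144802 = n204180 := d15_0 (iv0 F431367) (iv7 F346086) (iv2 F338490)
def n204181 : Q := act 5 n123103
theorem D204181 : act 5 n123103 = n204181 := rfl
theorem F431369 : act 6 n204181 = n202295 := d12_2 (iv6 F362111) D204181 (iv5 D202295) (iv6 F351553) F320586
theorem F431370 : act 0 n184509 = n188425 := d21_10 (iv5 F431331) (iv1 F431333) D204181 F431369 F423533 F354422 F286368 (iv1 F134959) D87991 D184509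
theorem F431371 : act 4 n135629 = n204181 := d10_3 F431369 F423531 (iv6 F218106)
theorem F431372 : act 4 n184509 = n201562 := d17_9 (iv1 D201562) (iv5 F339340) F339344 D135629 F431371 (iv5 D204181) F431333 F431331 (iv0 F431370)
theorem F431373 : act 6 n201562 = n184508 := d10_2 D184509 F431372 (iv4 D184508)
theorem F431374 : act 3 n187861 = n201562 := d20_5 D200936 (iv1 F419105) F419103 (iv3 F419068) (iv1 F419073) (iv4 F431372) F431370 F391167 F176807 D113637
def n204182 : Q := act 1 n123104
theorem D204182 : act 1 n123104 = n204182 := rfl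
theorem F431375 : act 1 n204182 = n188425 := d15_1 D204182 F431327 F431323
theorem F431376 : act 7 n204182 = n193011 := d15_2 (iv0 F357865) D204182 F388515
theorem F431377 : act 3 n193016 = n204182 := d8_3 F431376 F388516 D193016
theorem F431378 : act 4 n201561 = n204182 := d20_2 (iv4 F418399) D201561 (iv3 F431377) (iv1 F394107) (iv3 D194691) F387718 (iv1 D192719) F154631 (iv3 F154628) D192714
theorem E103881 : n201790 = n201561 := ((c20_3 (iv4 F391167) (iv1 F431375) (iv4 F431378) (iv3 D201790) (iv1 F250887) F421208 (iv4 D201639) F189732 D151531 (iv3 F375394) F375397)).symm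
theorem F431379 : act 3 n201561 = n115060 := (sb E103881 (iv3 D201790))
def n204183 : Q := act 4 n123104
theorem D204183 : act 4 n123104 = n204183 := rfl
theorem F431380 : act 2 n204183 = n200919 := d1_1 D204183 (iv4 F431326) F431323
theorem F431381 : act 6 n204183 = n123117 := d10_2 (iv6 F197302) D204183 (iv4 D123117)
theorem F431382 : act 5 n204183 = n130942 := d16_7 (iv4 F176806) (iv5 F357335) F207678 (iv5 F319160) F109618 D123104 D204183 F366032 F176786
theorem F431383 : act 3 n204183 = n188996 := d19_3 (iv1 D123103) D123104 D204183 (iv1 D188996) F143393 F334643 (iv3 D129214) (iv1 D60740) D60741 F313660 (iv3 F188521) F337027 (iv5 F426907) F426908 (iv3 D130878) (iv1 F187524) (iv5 F227685) (iv4 F431364) (iv3 D204180)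
theorem F431384 : act 7 n200899 = n204183 := d13_0 F431382 F366032 D200899
theorem F431385 : act 0 n200918 = n204183 := d21_10 F431382 (iv1 F366027) D200917 (iv6 F428981) (iv1 F428988) (iv6 D152529) F108442 (iv1 F108281) D152277 (iv6 F418391)
theorem F431386 : act 0 n204183 = n189009 := d21_1 (iv5 F431382) F375395 (iv6 D187721) (iv1 F139262) F325462 (iv5 D61427) (iv1 D29078) D29080 D61434 D130942
def n204184 : Q := act 7 n123104
theorem D204184 : act 7 n123104 = n204184 := rfl
theorem F431387 : act 2 n204184 = n188425 := d4_1 D204184 F431327 F431323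
theorem F431388 : act 3 n204184 = n123132 := d8_1 D204184 (iv7 D123132) (iv3 F197301)
theorem F431389 : act 4 n204184 = n200899 := d11_1 D204184 F431384 (iv4 D204183)
theorem F431390 : act 5 n204184 = n123105 := d13_1 D204184 (iv7 D123105) D123104
theorem F431391 : act 6 n204184 = n200900 := d14_1 D204184 F418334 F364652 (iv7 D123118) (iv6 F197302)
theorem F431392 : act 1 n204184 = n193011 := d15_0 (iv0 F431328) (iv7 F431327) (iv2 F431387)
def n204185 : Q := act 5 n123107
theorem D204185 : act 5 n123107 = n204185 := rfl
theorem F431393 : act 2 n204185 = n135320 := d2_1 D204185 (iv5 D135320) (iv2 F357821)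
theorem F431394 : act 3 n204185 = n180745 := d6_1 D204185 (iv5 F384348) F384345
theorem F431395 : act 6 n204185 = n135281 := d12_2 (iv6 F357822) D204185 (iv5 D135281) (iv6 D63598) D63597
theorem F431396 : act 0 n204185 = n143604 := d17_2 (iv1 F315794) D204185 F361357 F235328 D192233 (iv0 F386138) (iv5 F366728) (iv0 F315796) F272554
theorem F431397 : act 4 n204185 = n164274 := d17_4 D152435 F344167 (iv1 F315794) D204185 (iv5 F425979) (iv0 F425981) (iv5 D152442) (iv0 D71910) (iv4 F108418)
theorem F431398 : act 1 n204185 = n176321 := d17_6 (iv1 F134992) D159129 (iv1 F357825) (iv5 D123108) D123107 D204185 F387353 F387351 F233861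
def n204186 : Q := act 4 n123108
theorem D204186 : act 4 n123108 = n204186 := rfl
theorem F431399 : act 3 n204186 = n203349 := d19_3 D57289 D123108 D204186 F427996 F370761 F360283 F107891 (iv1 F108008) (iv5 D51060) (iv4 F51527) (iv3 F55498) F55496 D24398 (iv4 F79163) (iv3 F310617) (iv1 D26756) F21254 (iv4 F21910) (iv3 F44350)
theorem F431400 : act 6 n203347 = n204186 := d7_0 F431399 (iv6 D203349) D203347
def n204187 : Q := act 6 n123108
theorem D204187 : act 6 n123108 = n204187 := rfl
theorem F431401 : act 2 n204187 = n152524 := d3_1 D204187 F364656 F357861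
theorem F431402 : act 3 n204187 = n202558 := d7_1 D204187 F424491 F384354
theorem F431403 : act 4 n204187 = n203347 := d10_1 D204187 F431400 (iv4 D204186)
theorem F431404 : act 5 n204187 = n199396 := d12_1 D204187 F430702 (iv5 D203982) F357823 D123108
theorem F431405 : act 0 n152281 = n204187 := d21_4 D201086 F419041 (iv5 D152292) (iv6 F239356) (iv6 D204187) (iv5 D123108) (iv1 F197293) (iv5 F431346) F431347 F247881
theorem F431406 : act 1 n152528 = n204187 := d15_0 (iv0 F431405) (iv7 F413398) F413396
theorem F431407 : act 1 n203347 = n164500 := d18_8 (iv1 F290484) (iv4 F347793) F347790 F108434 (iv5 F108442) (iv4 F239698) F431406 F431403 (iv5 D164500)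
theorem F431408 : act 7 n152525 = n204187 := d13_0 F431404 F411972 (iv5 F413402)
def n204188 : Q := act 5 n123112
theorem D204188 : act 5 n123112 = n204188 := rfl
theorem F431409 : act 3 n204188 = n147070 := d6_1 D204188 F333945 (iv3 F197306)
theorem F431410 : act 7 n204188 = n135320 := d13_2 (iv7 F357830) D204188 (iv5 D135320)
theorem F431411 : act 1 n204188 = n143604 := d17_6 (iv1 D87980) D87981 (iv1 F357863) (iv5 D123113) D123112 D204188 F361357 (iv0 F341209) F332320
theorem F431412 : act 0 n204188 = n176321 := d18_0 (iv4 F337701) F420800 F420796 F338571 D173447 (iv0 F315796) F272554 (iv0 F315795) D204188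
theorem F431413 : act 4 n204188 = n146543 := d19_2 F357820 D204188 F229856 (iv1 F314149) F215272 (iv4 D131293) (iv3 F97851) (iv1 F97854) F96023 (iv4 F78819) F78818 (iv1 F45532) (iv5 F47828) D62859 F309613 F107358 F313228 D61572 D131232
theorem F431414 : act 6 n204188 = n146541 := d21_3 F357817 F357820 D204188 (iv1 F402976) (iv6 D197083) (iv5 D107629) (iv1 F79296) (iv5 F79297) D107740 F325424
def n204189 : Q := act 4 n123113
theorem D204189 : act 4 n123113 = n204189 := rfl
theorem F431415 : act 5 n204189 = n201385 := d16_1 D204189 (iv4 F425978) F425979 (iv4 F431397) (iv5 D204185) (iv4 D123107) D123108 F357860 (iv2 F357858)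
theorem F431416 : act 3 n188917 = n204189 := d6_3 F431415 F420283 F375198
theorem F431417 : act 6 n201386 = n204189 := d12_0 F431415 (iv6 D201385) (iv5 D114405) D114406 D201386
def n204190 : Q := act 6 n123113
theorem D204190 : act 6 n123113 = n204190 := rfl
theorem F431418 : act 4 n204190 = n201386 := d10_1 D204190 F431417 (iv4 D204189)
def n204191 : Q := act 5 n123114
theorem D204191 : act 5 n123114 = n204191 := rfl
theorem F431419 : act 2 n204191 = n204041 := d2_1 D204191 F430875 F389097
theorem F431420 : act 3 n204191 = n203206 := d6_1 D204191 F427410 (iv3 F385528)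
theorem F431421 : act 7 n204191 = n204042 := d13_2 (iv7 F389090) D204191 F430878
theorem F431422 : act 0 n204191 = n203723 := d17_2 (iv1 F389107) D204191 (iv5 D203723) F191774 D158345 F409623 (iv5 D173520) (iv0 F357797) (iv4 F389104)
theorem F431423 : act 0 n204039 = n204191 := d21_1 D204039 (iv5 D204191) (iv6 D123114) (iv1 D57290) (iv6 D27433) D27432 D57286 F115309 D160268 F301832
def n204192 : Q := act 3 n123115
theorem D204192 : act 3 n123115 = n204192 := rfl
theorem F431424 : act 2 n204192 = n192985 := d0_1 D204192 F388428 (iv2 F236254) (iv3 F286418) (iv2 F344169)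
theorem F431425 : act 5 n204192 = n171091 := d6_2 (iv5 F344170) D204192 (iv3 D171091)
theorem F431426 : act 4 n204192 = n192063 := d20_6 (iv4 F302062) (iv1 D123155) (iv4 D57307) (iv3 F90372) D123115 D204192 (iv1 F387166) F387165 F280080 F131774
def n204193 : Q := act 4 n123115
theorem D204193 : act 4 n123115 = n204193 := rfl
theorem F431427 : act 2 n204193 = n201557 := d1_1 D204193 F420938 (iv2 F344169)
theorem F431428 : act 3 n204193 = n192064 := d5_1 D204193 (iv4 D192064) (iv3 F385398) (iv4 F431426) (iv3 D204192)
theorem F431429 : act 7 n204193 = n201556 := d11_2 (iv7 F344171) D204193 F431338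
theorem F431430 : act 5 n204193 = n152451 := d16_1 D204193 (iv4 D152451) (iv5 D71912) (iv4 F108418) D152437 F332318 (iv5 F344173) F344174 (iv2 F344169)
theorem F431431 : act 0 n204193 = n201084 := d17_0 F419034 F420284 (iv5 F431415) (iv4 D204189) (iv5 D123113) F197292 (iv5 F431346) F431349 D204193
theorem F431432 : act 1 n204193 = n201558 := d15_1 (iv0 F431431) (iv7 D201558) (iv2 F419032)
def n204194 : Q := act 6 n123115
theorem D204194 : act 6 n123115 = n204194 := rfl
theorem F431433 : act 0 n202296 = n204194 := d21_4 (iv5 D202295) (iv1 D115552) D115553 D202296 (iv6 D204194) F344170 (iv1 F134994) (iv5 F286437) (iv6 F410335) (iv1 F423534)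
def n204195 : Q := act 4 n123116
theorem D204195 : act 4 n123116 = n204195 := rfl
theorem F431434 : act 2 n204195 = n201556 := d1_1 D204195 F431338 (iv2 F344172)
theorem F431435 : act 3 n204195 = n159352 := d5_1 D204195 (iv4 F396532) F396531 (iv4 F344176) F344175
theorem F431436 : act 7 n204195 = n201557 := d11_2 (iv7 F344174) D204195 F420938
theorem F431437 : act 1 n201558 = n204195 := d15_1 F431432 F431436 (iv2 F431427)
theorem F431438 : act 1 n204195 = n201084 := d15_0 (iv0 F431431) F431429 (iv2 F431434)
def n204196 : Q := act 0 n123117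
theorem D204196 : act 0 n123117 = n204196 := rfl
theorem F431439 : act 1 n157397 = n204196 := d15_0 (iv0 D204196) (iv7 F364653) (iv2 F247875)
theorem F431440 : act 5 n204196 = n203805 := d17_7 (iv1 D152450) (iv5 D71912) D71910 D152442 F364636 D157397 F431439 F429898 F376254
def n204197 : Q := act 3 n123117
theorem D204197 : act 3 n123117 = n204197 := rfl
theorem F431441 : act 4 n204197 = n123156 := d5_2 D123117 D204197 (iv3 D123156) (iv4 D57307) (iv3 F90372)
theorem F431442 : act 6 n204197 = n188996 := d7_2 F431381 D204197 (iv3 F431383)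
theorem F431443 : act 7 n204197 = n187813 := d8_2 F364653 D204197 F371593
def n204198 : Q := act 5 n123117
theorem D204198 : act 5 n123117 = n204198 := rfl
theorem F431444 : act 2 n204198 = n157398 := d2_1 D204198 (iv5 F431336) F431335
theorem F431445 : act 4 n204198 = n152447 := d9_1 D204198 (iv5 D152447) D152446 F327795 (iv4 F197289) (iv5 F431346) F431345 (iv5 D157397) (iv4 F364636) (iv5 D152442) F327299 (iv5 D38205) (iv4 F44351) D57291 D123117
theorem F431446 : act 6 n204198 = n195019 := d12_2 F431381 D204198 F395441 (iv6 F391733) (iv5 F431382)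
theorem F431447 : act 7 n204198 = n130860 := d13_2 F364653 D204198 (iv5 F239711)
theorem F431448 : act 1 n204198 = n144975 := d17_6 (iv1 F357863) (iv5 D123113) (iv1 D57290) D57291 D123117 D204198 (iv5 F387821) F387822 (iv4 D184492)
theorem F431449 : act 1 n157396 = n204198 := d15_1 D157396 F431447 F209448
def n204199 : Q := act 5 n123121
theorem D204199 : act 5 n123121 = n204199 := rfl
theorem F431450 : act 2 n204199 = n123852 := d2_1 D204199 (iv5 D123852) (iv2 F342790)
theorem F431451 : act 3 n204199 = n193809 := d6_1 D204199 (iv5 F419475) F419471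
theorem F431452 : act 6 n204199 = n203366 := d12_2 (iv6 F360250) D204199 (iv5 D203366) F351276 F216933
theorem F431453 : act 7 n204199 = n123872 := d13_2 (iv7 F342791) D204199 (iv5 D123872)
theorem F431454 : act 0 n204199 = n199279 := d17_2 (iv1 F350264) D204199 (iv5 D199279) F172373 (iv5 F357705) F410235 F410233 (iv0 D122699) (iv4 F191646)
theorem F431455 : act 1 n204199 = n193816 := d17_6 (iv1 F363292) F362805 (iv1 F342793) (iv5 D123122) D123121 D204199 F391071 F411440 F411439
def n204200 : Q := act 4 n123122
theorem D204200 : act 4 n123122 = n204200 := rfl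
theorem F431456 : act 2 n204200 = n123857 := d1_1 D204200 (iv4 D123857) (iv2 F342794)
theorem F431457 : act 6 n204200 = n199565 := d10_2 (iv6 F342795) D204200 F412688
theorem F431458 : act 7 n204200 = n123874 := d11_2 (iv7 F342796) D204200 (iv4 D123874)
theorem F431459 : act 0 n204200 = n199081 := d18_2 (iv1 F342793) D204200 (iv4 D199081) F357705 (iv4 F172373) D199278 F411448 F363291 F362805
theorem F431460 : act 1 n204200 = n199077 := d18_6 F354940 (iv4 F191646) (iv1 F350264) (iv4 D123121) D123122 D204200 (iv4 D199077) (iv0 D110910) (iv5 F171649)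
def n204201 : Q := act 3 n123129
theorem D204201 : act 3 n123129 = n204201 := rfl
theorem F431461 : act 2 n204201 = n191997 := d0_1 D204201 F385147 F355574 (iv3 D123881) (iv2 F355570)
theorem F431462 : act 5 n204201 = n186901 := d6_2 F357149 D204201 F368459
theorem F431463 : act 6 n204201 = n188132 := d7_2 F355608 D204201 F372413
theorem F431464 : act 7 n204201 = n123886 := d8_2 (iv7 F355571) D204201 (iv3 D123886)
theorem F431465 : act 0 n192776 = n204201 := d21_4 (iv5 D123962) (iv1 F315060) D204158 F431250 F431463 (iv5 D188132) F294860 D99472 (iv6 F236248) F355371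
def n204202 : Q := act 4 n123129
theorem D204202 : act 4 n123129 = n204202 := rfl
theorem F431466 : act 2 n204202 = n123882 := d1_1 D204202 (iv4 D123882) (iv2 F355570)
theorem F431467 : act 6 n204202 = n138781 := d10_2 F355608 D204202 (iv4 F355607)
theorem F431468 : act 7 n204202 = n123887 := d11_2 (iv7 F355571) D204202 (iv4 D123887)
theorem F431469 : act 1 n204202 = n204126 := d18_6 F431044 F216058 D138630 F364408 F357149 D204202 (iv4 D204126) (iv0 F424956) (iv5 F431042)
def n204203 : Q := act 4 n123130
theorem D204203 : act 4 n123130 = n204203 := rfl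
theorem F431470 : act 2 n204203 = n123887 := d1_1 D204203 (iv4 D123887) (iv2 F355567)
theorem F431471 : act 3 n204203 = n189019 := d5_1 D204203 (iv4 D189019) D189018 (iv4 F375419) (iv3 F355609)
theorem F431472 : act 6 n204203 = n198786 := d10_2 (iv6 F410398) D204203 (iv4 F410397)
theorem F431473 : act 7 n204203 = n123882 := d11_2 (iv7 F355568) D204203 (iv4 D123882)
theorem F431474 : act 0 n204203 = n204126 := d18_2 (iv1 F197311) D204203 (iv4 D204126) (iv5 D122701) (iv4 F191646) F350262 F98424 (iv0 F342786) (iv5 F90895)
def n204204 : Q := act 3 n123131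
theorem D204204 : act 3 n123131 = n204204 := rfl
theorem F431475 : act 4 n204204 = n188996 := d5_2 D123131 D204204 (iv3 F431383) (iv4 D204183) F197301
theorem F431476 : act 6 n204204 = n123156 := d7_2 (iv6 F197314) D204204 (iv3 D123156)
def n204205 : Q := act 7 n123131
theorem D204205 : act 7 n123131 = n204205 := rfl
theorem F431477 : act 2 n204205 = n123894 := d4_1 D204205 (iv7 D123894) (iv2 F197313)
theorem F431478 : act 4 n204205 = n123132 := d11_1 D204205 (iv7 D123132) D123131
theorem F431479 : act 5 n204205 = n196429 := d13_1 D204205 F413599 F413594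
theorem F431480 : act 6 n204205 = n199501 := d14_1 D204205 F413259 (iv6 F413244) F191946 (iv6 F197314)
theorem F431481 : act 1 n123891 = n204205 := d15_1 D123891 (iv7 D204205) F197313
theorem F431482 : act 1 n204205 = n123890 := d15_1 F431481 (iv7 F384910) (iv2 F364128)
def n204206 : Q := act 5 n123133
theorem D204206 : act 5 n123133 = n204206 := rfl
theorem F431483 : act 2 n204206 = n123959 := d2_1 D204206 (iv5 D123959) (iv2 F305711)
theorem F431484 : act 3 n204206 = n149197 := d6_1 D204206 (iv5 D149197) (iv3 F303633)
theorem F431485 : act 7 n204206 = n123583 := d13_2 (iv7 F311810) D204206 (iv5 D123583)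
theorem F431486 : act 0 n204206 = n123999 := d17_2 D123133 D204206 F358061 (iv4 D62448) F47337 D29555 F97469 (iv0 F315052) (iv4 F300839)
theorem F431487 : act 1 n204206 = n123148 := d17_6 F313636 F217636 (iv1 D132440) (iv5 F207896) F315811 D204206 F304265 F205695 (iv4 F153244)
def n204207 : Q := act 4 n123136
theorem D204207 : act 4 n123136 = n204207 := rfl
theorem F431488 : act 7 n204207 = n123970 := d11_2 (iv7 F197327) D204207 (iv4 D123970)
theorem F431489 : act 5 n204207 = n130137 := d16_1 D204207 (iv4 D130137) (iv5 D61097) (iv4 D28950) D28951 (iv4 F312602) D123962 F315062 (iv2 F366657)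
def n204208 : Q := act 6 n123136
theorem D204208 : act 6 n123136 = n204208 := rfl
theorem F431490 : act 3 n204208 = n123140 := d7_1 D204208 (iv6 D123140) (iv3 F197326)
theorem F431491 : act 5 n204208 = n175772 := d12_1 D204208 (iv6 D175772) (iv5 D83902) F301581 D123136
theorem F431492 : act 0 n204208 = n136481 := d21_4 (iv5 D204158) F315059 D123136 D204208 (iv6 D136481) (iv5 D64158) D64155 (iv5 F346572) F346573 (iv1 F431254)
def n204209 : Q := act 3 n123139
theorem D204209 : act 3 n123139 = n204209 := rfl
theorem F431493 : act 6 n204209 = n199395 := d7_2 (iv6 F360049) D204209 (iv3 F411969)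
theorem F431494 : act 7 n204209 = n123976 := d8_2 (iv7 F197335) D204209 (iv3 D123976)
theorem F431495 : act 2 n199596 = n204209 := d3_3 F431493 (iv2 F411970) D199596
def n204210 : Q := act 3 n123146
theorem D204210 : act 3 n123146 = n204210 := rfl
theorem F431496 : act 7 n204210 = n123944 := d8_2 (iv7 F197348) D204210 (iv3 D123944)
def n204211 : Q := act 6 n123146
theorem D204211 : act 6 n123146 = n204211 := rfl
theorem F431497 : act 2 n204211 = n123977 := d3_1 D204211 (iv6 D123977) (iv2 F197347)
theorem F431498 : act 4 n204211 = n123147 := d10_1 D204211 (iv6 D123147) D123146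
theorem F431499 : act 7 n204211 = n200042 := d14_2 (iv7 F197348) D204211 (iv6 D200042) F360058 (iv6 D123945)
def n204212 : Q := act 0 n123147
theorem D204212 : act 0 n123147 = n204212 := rfl
theorem F431500 : act 6 n204212 = n134297 := d21_5 F44474 (iv1 F44353) D57303 D123147 D204212 F216317 (iv1 F168739) (iv5 F328921) (iv6 D123150) (iv1 F90389)
theorem F431501 : act 2 n123978 = n204212 := d3_3 F431500 F394044 (iv6 F394048)
theorem F431502 : act 7 n123979 = n204212 := d14_0 F431500 (iv7 D134297) (iv6 F329809) (iv7 F362803) F363298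
theorem F431503 : act 0 n204212 = n123981 := d21_4 F328925 (iv1 F168746) (iv5 F216317) (iv6 F431500) F413395 F413390 (iv1 D134917) (iv5 F332716) F332717 (iv1 F328923)
def n204213 : Q := act 1 n123147
theorem D204213 : act 1 n123147 = n204213 := rfl
theorem F431504 : act 1 n204213 = n123981 := d15_1 D204213 (iv7 D123981) (iv2 F197349)
theorem F431505 : act 7 n204213 = n123978 := d15_2 (iv0 D204212) D204213 F431501
theorem F431506 : act 6 n123856 = n204213 := d21_3 (iv5 F357149) (iv1 F406348) F406345 (iv1 D204213) (iv6 D123147) (iv5 D57303) (iv1 D27436) D27437 (iv6 F90377) D123129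
theorem F431507 : act 2 n204213 = n123979 := d3_1 F431506 (iv6 F363298) (iv2 F362804)
def n204214 : Q := act 7 n123147
theorem D204214 : act 7 n123147 = n204214 := rfl
theorem F431508 : act 2 n204214 = n123981 := d4_1 D204214 (iv7 D123981) (iv2 F197349)
theorem F431509 : act 3 n204214 = n135231 := d8_1 D204214 F428383 F428381
theorem F431510 : act 4 n204214 = n200042 := d11_1 D204214 (iv7 F431499) F431498
theorem F431511 : act 6 n204214 = n123949 := d14_1 D204214 (iv7 D123949) (iv6 D57743) F90461 D123147
theorem F431512 : act 1 n123979 = n204214 := d15_1 D123979 (iv7 D204214) F197349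
theorem F431513 : act 1 n204214 = n123978 := d15_1 F431512 (iv7 F431505) F431507
def n204215 : Q := act 4 n123148
theorem D204215 : act 4 n123148 = n204215 := rfl
theorem F431514 : act 7 n204215 = n124000 := d11_2 (iv7 F197350) D204215 (iv4 D124000)
theorem F431515 : act 5 n204215 = n133209 := d16_1 D204215 (iv4 D133209) (iv5 D62509) F47390 (iv5 F47337) D62448 (iv5 F358061) F358062 F358063
theorem F431516 : act 6 n190511 = n204215 := d12_0 F431515 (iv6 F366184) (iv5 D183479) (iv6 F157637) D190511
theorem F431517 : act 3 n204215 = n191849 := d7_1 F431516 (iv6 D191849) (iv3 F379958)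
theorem F431518 : act 0 n191849 = n189075 := d20_4 (iv4 F431252) F431253 D204215 F431517 (iv3 D189075) F295425 (iv1 F136529) (iv4 F295483) (iv3 F375714) (iv1 F375717)
def n204216 : Q := act 6 n123148
theorem D204216 : act 6 n123148 = n204216 := rfl
theorem F431519 : act 3 n204216 = n123150 := d7_1 D204216 (iv6 D123150) D123148
theorem F431520 : act 4 n204216 = n190511 := d10_1 D204216 F431516 (iv4 D204215)
theorem F431521 : act 5 n204216 = n197966 := d12_1 D204216 F406307 (iv5 F389496) (iv6 D158578) (iv5 F304265)
theorem F431522 : act 0 n186776 = n204216 := d21_4 (iv5 D133981) (iv1 F101073) D139285 (iv6 F367974) (iv6 D204216) F304265 F315089 F366652 F366654 (iv1 F222490)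
theorem F431523 : act 1 n186779 = n204216 := d15_0 (iv0 F431522) (iv7 F375683) F375681
def n204217 : Q := act 3 n123149
theorem D204217 : act 3 n123149 = n204217 := rfl
theorem F431524 : act 4 n204217 = n191849 := d5_2 D123149 D204217 (iv3 F431517) (iv4 D204215) (iv3 D123148)
theorem F431525 : act 6 n204217 = n191848 := d7_2 (iv6 F357726) D204217 (iv3 F412254)
theorem F431526 : act 7 n204217 = n124003 := d8_2 (iv7 F197352) D204217 (iv3 D124003)
def n204218 : Q := act 6 n123152
theorem D204218 : act 6 n123152 = n204218 := rfl
theorem F431527 : act 2 n204218 = n124004 := d3_1 D204218 (iv6 D124004) (iv2 F197355)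
theorem F431528 : act 4 n204218 = n123153 := d10_1 D204218 (iv6 D123153) D123152
theorem F431529 : act 5 n204218 = n198186 := d12_1 D204218 (iv6 D198186) (iv5 F387519) F387520 (iv5 F304274)
theorem F431530 : act 7 n204218 = n199668 := d14_2 (iv7 F197356) D204218 (iv6 D199668) F357727 (iv6 D123992)
theorem F431531 : act 1 n196365 = n199668 := d15_1 (iv0 F400482) (iv7 F431530) F431527
def n204219 : Q := act 0 n123153
theorem D204219 : act 0 n123153 = n204219 := rfl
theorem F431532 : act 4 n204219 = n197823 := d18_1 D204219 F405903 (iv4 D135925) (iv5 D63911) (iv4 F53410) D74207 D156017 (iv0 F390553) F253226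
theorem F431533 : act 2 n124005 = n204219 := d15_3 (iv0 D204219) (iv0 F373203) F400484
theorem F431534 : act 6 n204219 = n139420 := d3_2 (iv6 F424366) F431533 (iv2 F424367)
theorem F431535 : act 7 n204219 = n124006 := d4_2 F400484 F431533 (iv2 F373200)
theorem F431536 : act 1 n124008 = n204219 := d15_1 (iv0 F373204) F431535 (iv2 F373200)
def n204220 : Q := act 7 n123153
theorem D204220 : act 7 n123153 = n204220 := rfl
theorem F431537 : act 2 n204220 = n124008 := d4_1 D204220 (iv7 D124008) (iv2 F197357)
theorem F431538 : act 4 n204220 = n199668 := d11_1 D204220 (iv7 F431530) F431528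
theorem F431539 : act 6 n204220 = n123996 := d14_1 D204220 (iv7 D123996) (iv6 D57766) (iv7 F115914) D123153
theorem F431540 : act 1 n124006 = n204220 := d15_1 D124006 (iv7 D204220) F197357
theorem F431541 : act 1 n204220 = n124005 := d15_1 F431540 (iv7 F400484) F373200
def n204221 : Q := act 0 n123156
theorem D204221 : act 0 n123156 = n204221 := rfl
theorem F431542 : act 4 n204221 = n188814 := d20_8 (iv4 F371602) F387414 F387411 F387382 F387381 D204197 F431441 D204221 (iv3 F377000) (iv1 D187820)
def n204222 : Q := act 1 n123156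
theorem D204222 : act 1 n123156 = n204222 := rfl
def n204223 : Q := act 2 n123156
theorem D204223 : act 2 n123156 = n204223 := rfl
theorem F431543 : act 3 n204223 = n124017 := d0_2 D123156 D204223 (iv2 D124017) (iv3 D57774) (iv2 F90386)
def n204224 : Q := act 3 n123171
theorem D204224 : act 3 n123171 = n204224 := rfl
theorem F431544 : act 2 n204224 = n173494 := d0_1 D204224 (iv3 F337625) (iv2 F314446) (iv3 D124072) (iv2 F282671)
theorem F431545 : act 4 n204224 = n131232 := d5_2 F312443 D204224 (iv3 D131232) (iv4 D61572) D61571
theorem F431546 : act 6 n204224 = n177729 := d7_2 (iv6 F337510) D204224 (iv3 D177729)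
theorem F431547 : act 7 n204224 = n123218 := d8_2 F314377 D204224 F197512
theorem F431548 : act 0 n204224 = n157400 := d20_4 F108149 F232824 F312443 D204224 (iv3 D157400) (iv4 F166750) (iv1 F166752) F97875 F311850 (iv1 F311849)
theorem F431549 : act 0 n173447 = n204224 := d20_4 (iv4 F311736) F311735 F155437 F310435 (iv3 D204224) (iv4 F312443) F312353 (iv4 F342022) F274481 (iv1 F310375)
def n204225 : Q := act 5 n123172
theorem D204225 : act 5 n123172 = n204225 := rfl
theorem F431550 : act 2 n204225 = n123173 := d2_1 D204225 (iv5 D123173) D123172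
theorem F431551 : act 3 n204225 = n124144 := d6_1 D204225 (iv5 D124144) (iv3 F197398)
theorem F431552 : act 4 n204225 = n133506 := d9_1 D204225 (iv5 D133506) F97754 F310012 (iv4 F130174) F311163 F90955 D57818 (iv4 F337462) F337459 F219481 F310017 F61046 D86595 (iv4 F311129)
theorem F431553 : act 7 n204225 = n124081 := d13_2 (iv7 F197400) D204225 (iv5 D124081)
theorem F431554 : act 0 n204225 = n124084 := d17_2 (iv1 F197401) D204225 (iv5 F359393) F359392 (iv5 F209939) (iv0 F309911) (iv5 F312137) (iv0 F314461) (iv4 D124073)
theorem F431555 : act 1 n204225 = n124083 := d17_6 F312995 (iv5 F312996) F131385 D86595 (iv4 F311129) D204225 (iv5 F359384) F323356 F313766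
theorem F431556 : act 0 n136378 = n139155 := d20_4 (iv4 F98386) F98387 (iv4 F99804) (iv3 F219494) F222337 (iv4 F352850) (iv1 F431555) F431552 F214693 F97756
def n204226 : Q := act 6 n123173
theorem D204226 : act 6 n123173 = n204226 := rfl
theorem F431557 : act 3 n204226 = n123176 := d7_1 D204226 (iv6 D123176) (iv3 F197404)
def n204227 : Q := act 5 n123174
theorem D204227 : act 5 n123174 = n204227 := rfl
theorem F431558 : act 2 n204227 = n204106 := d2_1 D204227 F431093 F427150
theorem F431559 : act 3 n204227 = n123177 := d6_1 D204227 (iv5 D123177) (iv3 F197406)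
theorem F431560 : act 7 n204227 = n179710 := d13_2 F304350 D204227 (iv5 D179710)
theorem F431561 : act 0 n204227 = n203985 := d17_2 F361499 D204227 (iv5 D203985) F301999 F332483 F238978 F238975 F232796 D133627
theorem F431562 : act 1 n204227 = n203986 := d17_6 (iv1 F301160) F332430 D141463 F332426 (iv4 F197407) D204227 (iv5 D203986) F302000 (iv4 F107867)
def n204228 : Q := act 0 n123176
theorem D204228 : act 0 n123176 = n204228 := rfl
theorem F431563 : act 6 n204228 = n134355 := d21_5 (iv5 D85897) (iv1 F299871) D57321 D123176 D204228 F216353 F168434 (iv5 F350356) (iv6 D120633) (iv1 F131775)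
theorem F431564 : act 2 n124156 = n204228 := d15_3 (iv0 D204228) (iv0 F410563) (iv7 F410565)
theorem F431565 : act 1 n124159 = n204228 := d15_0 (iv0 D204228) (iv7 F409320) F409318
theorem F431566 : act 7 n204228 = n124157 := d15_2 F410564 F431565 (iv2 F410562)
theorem F431567 : act 3 n192672 = n204228 := d7_3 F431563 (iv3 F354682) (iv6 F387441)
def n204229 : Q := act 5 n123176
theorem D204229 : act 5 n123176 = n204229 := rfl
theorem F431568 : act 2 n204229 = n124158 := d2_1 D204229 (iv5 D124158) (iv2 F197410)
theorem F431569 : act 6 n204229 = n123177 := d12_2 D123176 D204229 (iv5 D123177) (iv6 D57322) D57321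
theorem F431570 : act 0 n204229 = n204004 := d21_1 D204229 F430797 (iv6 F362784) (iv1 F345091) D192294 F386339 F410560 (iv5 D199078) D199079 F410563
def n204230 : Q := act 5 n123185
theorem D204230 : act 5 n123185 = n204230 := rfl
theorem F431571 : act 2 n204230 = n149944 := d2_1 D204230 (iv5 D149944) (iv2 F310565)
theorem F431572 : act 3 n204230 = n159266 := d6_1 D204230 F330763 (iv3 F310566)
theorem F431573 : act 4 n204230 = n125811 := d9_1 D204230 F341728 (iv4 D76960) F55886 (iv4 F60628) (iv5 F308617) F304759 D83221 (iv4 F330169) (iv5 D123196) (iv4 D57341) (iv5 D27451) (iv4 F44367) D57328 D123185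
theorem F431574 : act 6 n204230 = n180231 := d12_2 (iv6 F310567) D204230 (iv5 F346961) (iv6 F346962) (iv5 D128158)
theorem F431575 : act 7 n204230 = n163755 := d13_2 F312367 D204230 F344882
theorem F431576 : act 0 n204230 = n150251 := d17_2 (iv1 F310564) D204230 (iv5 D150251) (iv4 F131033) F308247 (iv0 D40069) D40071 (iv0 F297912) (iv4 F310098)
theorem F431577 : act 1 n204230 = n150248 := d17_6 D32790 F310560 F121186 D57328 D123185 D204230 (iv5 D150248) (iv0 D70726) F51909
def n204231 : Q := act 3 n123188
theorem D204231 : act 3 n123188 = n204231 := rfl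
theorem F431578 : act 2 n204231 = n128786 := d0_1 D204231 (iv3 F402647) F176521 F348406 F299679
theorem F431579 : act 4 n204231 = n128731 := d5_2 D123188 D204231 F361367 (iv4 D84359) F121532
theorem F431580 : act 6 n204231 = n124606 := d7_2 (iv6 F297652) D204231 (iv3 D124606)
theorem F431581 : act 7 n204231 = n128787 := d8_2 (iv7 F197446) D204231 F348391
theorem F431582 : act 0 n204231 = n128789 := d19_4 D27449 D57333 D123188 D204231 (iv5 F415188) F415187 F414108 (iv1 F174046) (iv5 F346904) F348049 F348047 (iv1 D150580) F107527 (iv4 F107652) (iv3 F327596) (iv1 F299224) (iv5 D27467) F21925 (iv3 F21921)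
theorem F431583 : act 1 n204231 = n128595 := d15_1 (iv0 F431582) (iv7 F417632) F417629
def n204232 : Q := act 2 n123195
theorem D204232 : act 2 n123195 = n204232 := rfl
theorem F431584 : act 3 n204232 = n177635 := d0_2 D123195 D204232 (iv2 F358029) F327209 F297382
theorem F431585 : act 4 n204232 = n123337 := d1_2 (iv4 F197479) D204232 (iv2 D123337)
theorem F431586 : act 6 n204232 = n166593 := d3_2 (iv6 F197480) D204232 (iv2 D166593)
theorem F431587 : act 7 n204232 = n200795 := d4_2 F326139 D204232 F417930
theorem F431588 : act 1 n204232 = n200761 := d15_0 (iv0 F417820) F326139 D204232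
theorem F431589 : act 1 n200711 = n204232 := d15_0 F431588 F417819 (iv2 F417597)
theorem F431590 : act 5 n177634 = n204232 := d21_6 (iv5 D126051) (iv1 F325209) D79965 (iv6 F325522) D166575 (iv6 F364116) (iv1 F431589) (iv5 F417601) (iv6 D177457) (iv1 F325213)
def n204233 : Q := act 5 n123195
theorem D204233 : act 5 n123195 = n204233 := rfl
theorem F431591 : act 2 n204233 = n177634 := d2_1 D204233 F431590 (iv2 D204232)
theorem F431592 : act 3 n204233 = n123196 := d6_1 D204233 (iv5 D123196) D123195
theorem F431593 : act 6 n204233 = n163411 := d12_2 (iv6 F197480) D204233 (iv5 F382447) F382448 F294903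
theorem F431594 : act 0 n204233 = n177389 := d18_0 F276772 F417534 (iv4 D200696) (iv5 D113349) F82696 D111518 D199630 (iv0 F412918) D204233
theorem F431595 : act 4 n174092 = n204233 := d20_6 (iv4 D57430) (iv1 F299636) F343728 (iv3 F173171) F343719 D174092 F431594 F276772 F198772 (iv1 F121570)
theorem F431596 : act 0 n199430 = n174092 := d18_2 (iv1 F417493) (iv4 F412162) F431595 (iv5 D204233) F197479 D123336 (iv4 F417477) (iv0 D200685) D200687
def n204234 : Q := act 6 n123198
theorem D204234 : act 6 n123198 = n204234 := rfl
theorem F431597 : act 2 n204234 = n153930 := d3_1 D204234 (iv6 D153930) (iv2 F197483)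
theorem F431598 : act 3 n204234 = n123199 := d7_1 D204234 (iv6 D123199) D123198
theorem F431599 : act 7 n204234 = n154118 := d14_2 (iv7 F197484) D204234 F346702 F268268 F308351
theorem F431600 : act 5 n204234 = n191913 := d21_6 D119174 (iv1 F210055) (iv5 D131149) F311649 F197486 D204234 (iv1 F386609) (iv5 D157478) (iv6 D74933) (iv1 F86784)
theorem F431601 : act 0 n204234 = n124688 := d21_10 (iv5 F386545) (iv1 F386547) (iv5 D184243) (iv6 F359868) (iv1 F386434) (iv6 D192324) F297900 (iv1 F309427) F309429 D204234
theorem F431602 : act 0 n154119 = n204234 := d21_4 (iv5 F362499) F362497 (iv5 F351798) F361468 (iv6 D204234) (iv5 F309429) F309426 (iv5 D72428) D72429 (iv1 F312486)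
def n204235 : Q := act 4 n123203
theorem D204235 : act 4 n123203 = n204235 := rfl
theorem F431603 : act 2 n204235 = n175572 := d1_1 D204235 (iv4 D175572) (iv2 F310432)
theorem F431604 : act 7 n204235 = n175625 := d11_2 F312606 D204235 (iv4 D175625)
theorem F431605 : act 5 n204235 = n193580 := d17_5 (iv1 F338086) (iv5 D88946) F310383 D123203 D204235 (iv0 D193580) (iv5 D101940) D101938 F338088
theorem F431606 : act 0 n204235 = n185374 := d17_0 (iv5 F364808) F371448 F371449 F274877 (iv5 F274977) (iv0 F275005) D191911 F384802 D204235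
theorem F431607 : act 1 n204235 = n193551 := d18_6 (iv1 D22750) (iv4 F29453) D38207 (iv4 F308339) D123203 D204235 (iv4 D193551) F156851 (iv5 D47353)
def n204236 : Q := act 3 n123205
theorem D204236 : act 3 n123205 = n204236 := rfl
theorem F431608 : act 5 n204236 = n150099 := d6_2 (iv5 F301754) D204236 F236218
theorem F431609 : act 7 n204236 = n149118 := d8_2 (iv7 F301755) D204236 F264403
theorem F431610 : act 0 n123385 = n204236 := d20_4 D153861 (iv1 F241957) (iv4 D153939) (iv3 F197754) (iv3 D204236) (iv4 F430918) (iv1 F430920) (iv4 D124025) F90942 (iv1 F109256)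
theorem F431611 : act 2 n149117 = n204236 := d15_3 (iv0 F431610) (iv0 F404595) F404593
theorem F431612 : act 1 n149049 = n204236 := d15_0 (iv0 F431610) F306468 (iv2 F234382)
def n204237 : Q := act 3 n123206
theorem D204237 : act 3 n123206 = n204237 := rfl
theorem F431613 : act 7 n204237 = n177950 := d8_2 (iv7 F301760) D204237 (iv3 D177950)
def n204238 : Q := act 5 n123206
theorem D204238 : act 5 n123206 = n204238 := rfl
theorem F431614 : act 2 n204238 = n156122 := d2_1 D204238 F360088 (iv2 F301759)
theorem F431615 : act 7 n204238 = n177951 := d13_2 (iv7 F301760) D204238 (iv5 D177951)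
theorem F431616 : act 4 n204238 = n177802 := d16_2 D123206 D204238 F277306 (iv4 F297437) F196424 (iv4 F300042) D84640 F129825 F300528
theorem F431617 : act 1 n204238 = n152782 := d17_6 (iv1 D84643) (iv5 D39089) F297777 D57349 D123206 D204238 (iv5 F356035) F303658 (iv4 D177766)
def n204239 : Q := act 5 n123208
theorem D204239 : act 5 n123208 = n204239 := rfl
theorem F431618 : act 2 n204239 = n124712 := d2_1 D204239 (iv5 D124712) (iv2 F197495)
theorem F431619 : act 3 n204239 = n153953 := d6_1 D204239 (iv5 D153953) (iv3 F197496)
theorem F431620 : act 6 n204239 = n198983 := d12_2 D123208 D204239 (iv5 F410166) F335178 F106640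
theorem F431621 : act 7 n204239 = n186677 := d13_2 (iv7 F301614) D204239 (iv5 D186677)
theorem F431622 : act 4 n204239 = n188743 := d17_4 F349513 (iv5 F332662) (iv1 F301613) D204239 (iv5 D188743) F143007 D187658 F374678 F374677
theorem F431623 : act 1 n204239 = n188775 := d17_8 (iv1 F288086) (iv5 D185770) (iv1 F135462) D92782 F332656 (iv5 D123428) (iv0 F268332) D204239 (iv4 D188775)
theorem F431624 : act 0 n204239 = n123443 := d18_0 (iv4 F363726) (iv1 D92785) D92786 F349318 F241758 F303326 F120844 (iv0 F268332) D204239
def n204240 : Q := act 6 n123210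
theorem D204240 : act 6 n123210 = n204240 := rfl
theorem F431625 : act 2 n204240 = n124820 := d3_1 D204240 (iv6 D124820) F197504
theorem F431626 : act 7 n204240 = n177825 := d14_2 (iv7 F197503) D204240 (iv6 D177825) (iv7 F281937) (iv6 F312924)
theorem F431627 : act 0 n204240 = n124160 := d21_4 D46869 D100431 F338897 D204240 F304439 D124362 F387180 (iv5 D192587) (iv6 D100430) (iv1 D46868)
theorem F431628 : act 5 n204011 = n204240 := d21_2 D153632 (iv1 F430818) (iv6 D204240) (iv1 D123210) (iv6 D57352) (iv5 F90071) F90073 (iv5 D33529) D33530 D72649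
theorem F431629 : act 0 n154090 = n204240 := d21_4 (iv5 F348381) (iv1 F384726) (iv5 D154089) D154090 (iv6 D204240) (iv5 F338897) (iv1 F364537) F364535 F154420 (iv1 F152877)
def n204241 : Q := act 4 n123211
theorem D204241 : act 4 n123211 = n204241 := rfl
theorem F431630 : act 2 n204241 = n191748 := d1_1 D204241 (iv4 D191748) (iv2 F197505)
theorem F431631 : act 5 n204241 = n152168 := d9_2 D123211 D204241 (iv4 F338850) (iv5 F384390) F384389 F152455 (iv4 F152449) (iv5 F384342) (iv4 F389650) F389648 (iv4 D192563) F338877 (iv4 D177828) (iv5 D84668) (iv4 F90541)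
theorem F431632 : act 7 n204241 = n192582 := d11_2 (iv7 F301729) D204241 F387165
theorem F431633 : act 1 n204241 = n197179 := d18_8 F217607 F319768 (iv1 D123210) F90541 D84668 D177828 (iv0 F366783) D204241 (iv5 D197179)
theorem F431634 : act 3 n204241 = n152169 := d19_3 (iv1 D123210) D123211 D204241 F366448 (iv5 D88075) (iv4 F135070) F317514 F315296 F128708 (iv4 F317568) (iv3 F208370) F208368 F95467 (iv4 D60923) D60922 (iv1 F98969) D63624 D135348 F354632
def n204242 : Q := act 3 n123212
theorem D204242 : act 3 n123212 = n204242 := rfl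
theorem F431635 : act 4 n204242 = n152169 := d5_2 D123212 D204242 (iv3 F431634) (iv4 D204241) F197506
def n204243 : Q := act 0 n123216
theorem D204243 : act 0 n123216 = n204243 := rfl
theorem F431636 : act 5 n204243 = n197199 := d17_3 (iv1 F337500) D123216 D204243 F403495 (iv5 F229408) F396317 F396315 F338146 F91906
theorem F431637 : act 4 n204243 = n203908 := d18_1 D204243 (iv1 F430341) F392113 (iv5 D154462) (iv4 F300043) F427248 F427246 (iv0 D123214) D123216
theorem F431638 : act 2 n177919 = n204243 := d15_3 (iv0 D204243) F364120 (iv7 F332469)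
theorem F431639 : act 3 n204243 = n149117 := d0_2 D177919 F431638 F431611 (iv3 D204236) F301753
theorem F431640 : act 7 n204243 = n197201 := d4_2 (iv7 F332469) F431638 F403504
theorem F431641 : act 1 n177731 = n204243 := d15_1 (iv0 F364118) F431640 F403504
def n204244 : Q := act 4 n123216
theorem D204244 : act 4 n123216 = n204244 := rfl
theorem F431642 : act 3 n204244 = n203059 := d5_1 D204244 F426830 F382981 (iv4 F370378) F370377
theorem F431643 : act 6 n204244 = n154241 := d10_2 (iv6 F197511) D204244 F338147
theorem F431644 : act 5 n204244 = n151514 := d16_1 D204244 F238384 F163390 F314748 F308176 F337509 D177731 F364119 F243543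
theorem F431645 : act 1 n204244 = n154402 := d18_6 (iv1 D83796) (iv4 F128756) F332510 F110096 D123216 D204244 F353686 (iv0 F348227) (iv5 D175487)
theorem F431646 : act 0 n138067 = n154403 := d20_7 (iv4 D204244) D204243 F431637 (iv3 F430342) F426915 (iv3 F428967) F428969 (iv4 D154403) D154402 (iv1 F431645)
theorem F431647 : act 0 n154408 = n185030 := d20_4 (iv4 D154403) (iv1 D73135) D73136 D154408 (iv3 F390996) (iv4 F423434) (iv1 F423436) (iv4 D138081) (iv3 F221308) F431646
def n204245 : Q := act 7 n123216
theorem D204245 : act 7 n123216 = n204245 := rfl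
theorem F431648 : act 2 n204245 = n177731 := d4_1 D204245 F364119 F243543
theorem F431649 : act 3 n204245 = n154562 := d8_1 D204245 F370381 F370377
theorem F431650 : act 5 n204245 = n123217 := d13_1 D204245 (iv7 D123217) D123216
theorem F431651 : act 1 n197201 = n204245 := d15_1 (iv0 F403505) (iv7 D204245) (iv2 F243543)
theorem F431652 : act 1 n204245 = n177919 := d15_1 F431651 F332469 (iv2 F403504)
def n204246 : Q := act 4 n123221
theorem D204246 : act 4 n123221 = n204246 := rfl
theorem F431653 : act 7 n204246 = n192086 := d11_2 F337496 D204246 F385485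
theorem F431654 : act 5 n204246 = n133576 := d16_1 D204246 (iv4 D133576) F210313 D74947 (iv5 F314465) (iv4 D124073) D124074 F342620 F309896
theorem F431655 : act 0 n204246 = n181760 := d17_0 (iv5 D181760) (iv1 F312299) D139067 (iv4 F413511) (iv5 F429785) (iv0 D203782) F315991 F342612 D204246
theorem F431656 : act 1 n204246 = n181766 := d18_6 (iv1 D123747) F314459 F305968 (iv4 F90550) D123221 D204246 (iv4 F351900) F351902 (iv5 F316793)
def n204247 : Q := act 5 n123223
theorem D204247 : act 5 n123223 = n204247 := rfl
theorem F431657 : act 2 n204247 = n123234 := d2_1 D204247 (iv5 D123234) (iv2 F342346)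
theorem F431658 : act 7 n204247 = n123239 := d13_2 (iv7 F342347) D204247 (iv5 D123239)
theorem F431659 : act 4 n204247 = n143874 := d16_2 F306275 D204247 (iv5 D143874) F103255 (iv5 F316555) (iv4 F307958) D120220 (iv7 F307792) F307788
theorem F431660 : act 0 n204247 = n171052 := d17_2 D123223 D204247 (iv5 D171052) F313615 F78847 D69796 D148902 F308762 F114883
theorem F431661 : act 1 n204247 = n197198 := d17_6 (iv1 F232777) (iv5 F114867) F309383 (iv5 F309945) F306275 D204247 F403492 (iv0 F335238) F335241
def n204248 : Q := act 5 n123224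
theorem D204248 : act 5 n123224 = n204248 := rfl
theorem F431662 : act 2 n204248 = n123239 := d2_1 D204248 (iv5 D123239) (iv2 F356175)
theorem F431663 : act 7 n204248 = n123234 := d13_2 (iv7 F356176) D204248 (iv5 D123234)
theorem F431664 : act 0 n204248 = n197198 := d17_2 (iv1 F197515) D204248 F403492 F166831 F78859 F106210 D148899 F308765 F121564
theorem F431665 : act 1 n204248 = n171052 := d17_6 (iv1 F232779) F107946 (iv1 F232771) D120220 F307855 D204248 (iv5 D171052) (iv0 F316006) F314401
def n204249 : Q := act 6 n123227
theorem D204249 : act 6 n123227 = n204249 := rfl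
theorem F431666 : act 2 n204249 = n175282 := d3_1 D204249 F274291 (iv2 F336371)
theorem F431667 : act 4 n204249 = n148710 := d10_1 D204249 (iv6 D148710) (iv4 F336373)
theorem F431668 : act 5 n204249 = n182984 := d21_6 F55253 (iv1 D27458) D27460 D57362 D123227 D204249 (iv1 D182984) (iv5 F305317) (iv6 D118647) F86361
theorem F431669 : act 7 n186487 = n204249 := d13_0 F431668 F349054 D186487
theorem F431670 : act 0 n193984 = n204249 := d17_0 F431668 (iv1 D182984) (iv5 F305317) F186611 (iv5 F183655) (iv0 F349044) (iv5 F349055) (iv0 F370305) (iv4 F391624)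
def n204250 : Q := act 6 n123228
theorem D204250 : act 6 n123228 = n204250 := rfl
theorem F431671 : act 2 n204250 = n193811 := d3_1 D204250 F391064 (iv2 F347612)
theorem F431672 : act 3 n204250 = n175408 := d7_1 D204250 (iv6 D175408) (iv3 F332645)
theorem F431673 : act 4 n204250 = n151589 := d10_1 D204250 (iv6 D151589) (iv4 F332263)
theorem F431674 : act 5 n193810 = n204250 := d21_2 D203906 F430334 (iv6 D204250) (iv1 D123228) (iv6 D57362) (iv5 D27460) D27457 F44376 D55967 D121312
theorem F431675 : act 0 n151602 = n204250 := d21_4 (iv5 D137878) (iv1 F323277) (iv5 F353546) D151602 (iv6 D204250) (iv5 F352974) (iv1 D138604) (iv5 F221514) F426448 (iv1 F426447)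
def n204251 : Q := act 2 n123232
theorem D204251 : act 2 n123232 = n204251 := rfl
theorem F431676 : act 3 n204251 = n173390 := d0_2 D123232 D204251 (iv2 F342348) (iv3 F342344) F342346
theorem F431677 : act 4 n204251 = n124413 := d1_2 (iv4 F318022) D204251 F198966
theorem F431678 : act 7 n204251 = n124681 := d4_2 (iv7 F356177) D204251 (iv2 F356178)
theorem F431679 : act 1 n204251 = n124679 := d15_0 (iv0 F341199) (iv7 F356177) D204251
theorem F431680 : act 1 n124683 = n204251 := d15_0 F431679 (iv7 F334414) F334413
def n204252 : Q := act 5 n123232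
theorem D204252 : act 5 n123232 = n204252 := rfl
theorem F431681 : act 3 n204252 = n123234 := d6_1 D204252 (iv5 D123234) D123232
theorem F431682 : act 4 n204252 = n173825 := d16_2 (iv4 F318022) D204252 (iv5 D173825) (iv4 D83121) (iv5 D38262) D38261 D83117 (iv7 F198967) F198966
theorem F431683 : act 0 n204252 = n173813 := d17_2 (iv1 F235761) D204252 (iv5 D173813) (iv4 D83114) (iv5 D38257) D38256 D83110 F319544 F94819
theorem F431684 : act 1 n204252 = n173857 := d17_6 (iv1 F213855) (iv5 F313343) F117846 D83126 (iv4 F318022) D204252 F312378 (iv0 F312376) (iv4 F314804)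
theorem E103882 : n193944 = n193610 := (c19_4 (iv1 F235761) D204252 F431682 (iv3 F401687) (iv1 D193610) D193611 (iv4 F390452) F365117 F413355 (iv5 F413353) (iv4 D167672) F307230 F112255 F307231 F85923 D55139 (iv1 F190562) F51016 (iv4 F44819) (iv3 F92123))
theorem F431685 : act 3 n193610 = n173825 := (sb E103882 F401687)
theorem F431686 : act 4 n193610 = n102491 := (sb E103882 (iv4 D193944))
theorem F431687 : act 5 n193610 = n173824 := (sb E103882 (iv5 F401688))
def n204253 : Q := act 6 n123232
theorem D204253 : act 6 n123232 = n204253 := rfl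
theorem F431688 : act 3 n204253 = n123235 := d7_1 D204253 (iv6 D123235) D123232
theorem F431689 : act 4 n204253 = n173831 := d10_1 D204253 (iv6 D173831) (iv4 F318022)
def n204254 : Q := act 6 n123234
theorem D204254 : act 6 n123234 = n204254 := rfl
def n204255 : Q := act 6 n123237
theorem D204255 : act 6 n123237 = n204255 := rfl
theorem F431690 : act 2 n204255 = n186625 := d3_1 D204255 F367481 F272612
theorem F431691 : act 3 n204255 = n123240 := d7_1 D204255 (iv6 D123240) D123237
theorem F431692 : act 4 n204255 = n139278 := d10_1 D204255 (iv6 F248238) F315010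
theorem F431693 : act 7 n204255 = n143591 := d14_2 F342345 D204255 (iv6 F427153) F427154 (iv6 F250766)
theorem F431694 : act 0 n204255 = n186624 := d21_4 D100091 D192330 F386456 D204255 (iv6 D186624) F136497 (iv1 F65391) D46669 D99916 F357452
theorem F431695 : act 5 n199249 = n204255 := d21_2 D192659 (iv1 F411320) (iv6 D204255) F333751 (iv6 D82976) D82975 F178057 F178055 D172314 F347431
theorem F431696 : act 1 n204255 = n186627 := d17_8 (iv1 F389080) (iv5 F335273) F428576 F428574 (iv4 F428343) F371284 F411321 F431695 (iv4 F389077)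
def n204256 : Q := act 3 n123241
theorem D204256 : act 3 n123241 = n204256 := rfl
theorem F431697 : act 5 n204256 = n158669 := d6_2 (iv5 F364468) D204256 (iv3 F335240)
theorem F431698 : act 6 n204256 = n139433 := d7_2 (iv6 F364749) D204256 (iv3 D139433)
theorem F431699 : act 7 n204256 = n158696 := d8_2 F364469 D204256 (iv3 F356146)
theorem F431700 : act 4 n204256 = n144144 := d20_6 F329211 (iv1 F93919) F328493 (iv3 F90554) D123241 D204256 (iv1 F402403) F402399 (iv3 D115977) F329215
theorem F431701 : act 2 n158864 = n204256 := d1_3 F431700 F356124 D158864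
theorem F431702 : act 0 n124682 = n204256 := d18_0 F431700 (iv1 F402403) F402399 F329507 F303605 F317072 (iv4 F318022) F235761 D124682
def n204257 : Q := act 4 n123241
theorem D204257 : act 4 n123241 = n204257 := rfl
theorem F431703 : act 6 n204257 = n139434 := d10_2 (iv6 F364749) D204257 (iv4 D139434)
theorem F431704 : act 5 n204257 = n155603 := d16_1 D204257 (iv4 F320335) (iv5 F363159) (iv4 F188524) (iv5 F188525) (iv4 F314401) (iv5 F366685) (iv7 F403482) F403480
theorem F431705 : act 1 n204257 = n141181 := d18_6 (iv1 F316400) F316402 F232778 (iv4 F335241) (iv5 F364468) D204257 (iv4 F366826) (iv0 F382827) (iv5 D191267)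
theorem F431706 : act 3 n204257 = n192464 := d20_9 F408671 F352907 F220256 F100423 (iv1 F99489) (iv3 F328878) (iv4 D123243) D123241 D204257 (iv1 F408674)
def n204258 : Q := act 4 n123242
theorem D204258 : act 4 n123242 = n204258 := rfl
theorem F431707 : act 5 n204258 = n155604 := d9_2 (iv5 F366685) D204258 (iv4 F318149) (iv5 F318156) (iv4 F304092) (iv5 F189792) (iv4 F335241) (iv5 F364468) D204257 F431704 (iv4 F320335) (iv5 F363159) (iv4 F188524) (iv5 F188525) (iv4 F314401)
theorem F431708 : act 6 n204258 = n192921 := d10_2 F382820 D204258 (iv4 F388233)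
theorem F431709 : act 0 n204258 = n141181 := d17_0 (iv5 D141181) D141179 (iv5 F391476) (iv4 F391475) (iv5 D123234) (iv0 D57363) D57365 D123242 D204258
theorem F431710 : act 3 n204258 = n141173 := d19_3 (iv1 F314400) (iv5 F366685) D204258 (iv1 D141173) (iv5 D66221) (iv4 F80594) (iv3 F93828) F162246 (iv5 F227569) (iv4 F338809) F383628 (iv1 D191512) (iv5 D98489) (iv4 F151896) (iv3 F344052) (iv1 F234112) (iv5 D69896) D69895 (iv3 F313558)
def n204259 : Q := act 0 n123243
theorem D204259 : act 0 n123243 = n204259 := rfl
theorem F431711 : act 4 n204259 = n154268 := d18_1 D204259 F385076 (iv4 F385078) (iv5 D179166) F130706 D85505 (iv4 F339087) (iv0 D141390) (iv5 F361542)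
theorem F431712 : act 3 n204259 = n139755 := d20_5 (iv4 F165859) (iv1 F165861) (iv4 F99502) (iv3 F328878) D204259 F222930 F208257 (iv4 F100434) (iv3 D64501) D64500
theorem F431713 : act 2 n136876 = n204259 := d15_3 (iv0 D204259) (iv0 F385235) (iv7 F385248)
theorem F431714 : act 1 n137206 = n204259 := d15_0 (iv0 D204259) F328880 D137206
theorem F431715 : act 7 n204259 = n137204 := d15_2 F385236 F431714 (iv2 F385233)
theorem F431716 : act 6 n135946 = n204259 := d14_5 F431715 (iv6 F382833) F382834 F349993 F218685
def n204260 : Q := act 1 n123248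
theorem D204260 : act 1 n123248 = n204260 := rfl
theorem F431717 : act 1 n204260 = n143434 := d15_1 D204260 (iv7 F349516) (iv2 F197532)
theorem F431718 : act 7 n204260 = n204095 := d15_2 (iv0 F426668) D204260 (iv2 F431070)
theorem F431719 : act 5 n204260 = n193899 := d17_7 (iv1 F216086) (iv5 F216933) (iv1 F216935) F350733 (iv4 F90559) D123248 D204260 F391325 F343191
theorem F431720 : act 4 n204260 = n178664 := d17_9 F429662 F429659 (iv1 F423319) (iv5 D202228) F179783 (iv5 F329155) F324899 D123248 D204260
theorem F431721 : act 3 n151609 = n204260 := d19_19 (iv1 D204260) (iv5 D123248) F90559 (iv3 F196498) F378244 F378245 F367553 (iv3 F384632) (iv1 F412773) (iv5 F420682) (iv4 D201486) F178696 (iv1 F349970) F349969 (iv4 D143060) F103029 D67097 F312194 (iv4 F353550)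
theorem F431722 : act 6 n136356 = n204260 := d21_3 F410586 (iv1 F410573) (iv5 F337455) (iv1 D204260) F303338 F300544 (iv1 F300540) D76093 (iv6 F324296) (iv1 F410585)
theorem F431723 : act 2 n204260 = n136358 := d3_1 F431722 (iv6 D136358) D136356
def n204261 : Q := act 4 n123248
theorem D204261 : act 4 n123248 = n204261 := rfl
theorem F431724 : act 2 n204261 = n202021 := d1_1 D204261 F422725 (iv2 F197532)
theorem F431725 : act 3 n204261 = n202368 := d5_1 D204261 (iv4 D202368) F349842 D198522 (iv3 F408216)
theorem F431726 : act 6 n204261 = n124382 := d10_2 (iv6 F303338) D204261 (iv4 D124382)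
theorem F431727 : act 5 n204261 = n196510 := d16_1 D204261 (iv4 F424204) (iv5 F424207) (iv4 D135190) (iv5 F360238) (iv4 F323601) D143434 (iv7 F349516) (iv2 F197532)
theorem F431728 : act 0 n204261 = n202071 := d17_0 F422825 F401320 F401321 F219200 (iv5 F343212) F360246 (iv5 F426664) (iv0 F426668) D204261
theorem F431729 : act 1 n204261 = n196527 := d18_6 (iv1 F191909) (iv4 F350732) (iv1 D122641) (iv4 F90559) D123248 D204261 F400972 F429669 F429668
theorem F431730 : act 7 n202019 = n204261 := d13_0 F431727 (iv7 F400904) D202019
def n204262 : Q := act 7 n123248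
theorem D204262 : act 7 n123248 = n204262 := rfl
theorem F431731 : act 2 n204262 = n143434 := d4_1 D204262 (iv7 F349516) (iv2 F197532)
theorem F431732 : act 3 n204262 = n198641 := d8_1 D204262 F408670 (iv3 F408216)
theorem F431733 : act 4 n204262 = n202019 := d11_1 D204262 F431730 (iv4 D204261)
theorem F431734 : act 5 n204262 = n123249 := d13_1 D204262 (iv7 D123249) D123248
theorem F431735 : act 1 n136358 = n204262 := d15_1 (iv0 F341514) (iv7 D204262) F197532
theorem F431736 : act 1 n204262 = n204095 := d15_1 F431735 (iv7 F431718) F431723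
theorem F431737 : act 0 n193897 = n143879 := d21_4 F431734 (iv1 F197538) (iv5 F343220) D193897 (iv6 D143879) (iv5 D67394) (iv1 F111880) D138607 (iv6 F431069) (iv1 F431736)
theorem F431738 : act 6 n204262 = n136802 := d21_3 (iv5 F301782) (iv1 F197539) (iv5 F431734) (iv1 D136802) (iv6 D64314) F326903 F330989 (iv5 D64027) D64028 (iv1 F343224)
def n204263 : Q := act 5 n123250
theorem D204263 : act 5 n123250 = n204263 := rfl
theorem F431739 : act 2 n204263 = n141921 := d2_1 D204263 (iv5 F355556) F355552
theorem F431740 : act 4 n204263 = n141920 := d9_1 D204263 F224960 (iv4 F400906) F400907 (iv4 F429653) (iv5 D203745) F357683 (iv5 F341409) (iv4 D140502) (iv5 D65945) (iv4 F84051) D115331 D202024 F422736 (iv4 F355551)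
theorem F431741 : act 7 n204263 = n189074 := d13_2 F355553 D204263 F375643
theorem F431742 : act 0 n204263 = n134438 := d17_2 D123250 D204263 (iv5 D134438) (iv4 F343200) (iv5 D102458) D102457 (iv5 F301782) (iv0 D122651) (iv4 F90561)
theorem F431743 : act 1 n204263 = n134433 := d17_6 (iv1 F342818) D134190 (iv1 F422738) F422736 (iv4 F355551) D204263 (iv5 D134433) (iv0 D63143) (iv4 F98423)
theorem F431744 : act 6 n204263 = n198279 := d21_9 F360066 (iv1 D179867) F337487 F337484 D58507 (iv6 F303354) (iv5 D123252) D123250 D204263 F407450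
def n204264 : Q := act 4 n123276
theorem D204264 : act 4 n123276 = n204264 := rfl
theorem F431745 : act 2 n204264 = n154067 := d1_1 D204264 F242117 F197560
theorem F431746 : act 3 n204264 = n193103 := d5_1 D204264 F388757 (iv3 D162729) D162730 (iv3 F334412)
theorem F431747 : act 6 n204264 = n186676 := d10_2 F334422 D204264 (iv4 D186676)
theorem F431748 : act 7 n204264 = n154063 := d11_2 (iv7 F197559) D204264 F242113
theorem F431749 : act 1 n204264 = n154064 := d18_6 (iv1 F362451) (iv4 D179036) (iv1 F352796) F352798 (iv5 F334423) D204264 F384317 (iv0 D191741) (iv5 F351773)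
theorem F431750 : act 0 n204264 = n154065 := d20_1 D204264 F384309 (iv3 F384308) F351908 (iv3 F307518) F307519 F309561 (iv4 F309563) F197554 (iv1 F197562)
def n204265 : Q := act 5 n123278
theorem D204265 : act 5 n123278 = n204265 := rfl
theorem F431751 : act 2 n204265 = n191518 := d2_1 D204265 (iv5 D191518) (iv2 F351772)
theorem F431752 : act 3 n204265 = n123285 := d6_1 D204265 (iv5 D123285) (iv3 F301969)
theorem F431753 : act 6 n204265 = n194018 := d12_2 (iv6 F301970) D204265 F391791 F342367 (iv5 D123279)
theorem F431754 : act 7 n204265 = n124362 := d13_2 (iv7 F197567) D204265 (iv5 D124362)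
theorem F431755 : act 0 n204265 = n157634 := d21_7 (iv5 F418868) F418869 (iv5 D186677) F334422 (iv1 D123276) (iv6 F301970) D204265 (iv5 D157634) D157635 (iv1 F387169)
theorem F431756 : act 4 n141170 = n204265 := d17_9 F431755 (iv5 D157634) (iv1 F196516) (iv5 F349509) (iv4 F424691) (iv5 D202600) (iv0 F353367) (iv5 D141171) D141170
def n204266 : Q := act 4 n123285
theorem D204266 : act 4 n123285 = n204266 := rfl
theorem F431757 : act 2 n204266 = n124373 := d1_1 D204266 (iv4 D124373) F304332
theorem F431758 : act 6 n204266 = n202754 := d10_2 (iv6 F332953) D204266 (iv4 D202754)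
theorem F431759 : act 7 n204266 = n124366 := d11_2 F304328 D204266 (iv4 D124366)
theorem F431760 : act 0 n204266 = n160325 := d17_0 (iv5 F351461) F351462 (iv5 F351086) (iv4 D124382) F300544 (iv0 F115344) (iv5 F325437) F325436 D204266
theorem F431761 : act 1 n204266 = n160317 := d18_6 (iv1 F301399) F301401 (iv1 F118761) (iv4 F299212) D123285 D204266 (iv4 D160317) (iv0 F301960) (iv5 D58002)
def n204267 : Q := act 4 n123303
theorem D204267 : act 4 n123303 = n204267 := rfl
theorem F431762 : act 2 n204267 = n202372 := d1_1 D204267 (iv4 F431294) F431292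
theorem F431763 : act 3 n204267 = n152837 := d5_1 D204267 (iv4 F397840) F397839 (iv4 D123306) (iv3 F197592)
theorem F431764 : act 7 n204267 = n202373 := d11_2 F431207 D204267 (iv4 F431208)
theorem F431765 : act 5 n204267 = n152830 := d16_1 D204267 F414440 (iv5 D199976) D199975 (iv5 F414436) (iv4 F191103) D154146 (iv7 F431295) F431292
def n204268 : Q := act 6 n123303
theorem D204268 : act 6 n123303 = n204268 := rfl
theorem F431766 : act 3 n204268 = n123307 := d7_1 D204268 (iv6 D123307) (iv3 F197592)
theorem F431767 : act 0 n204268 = n193121 := d21_4 F388790 F345824 D123303 D204268 (iv6 D193121) (iv5 D101200) (iv1 D47131) D47132 (iv6 F155904) D193113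
def n204269 : Q := act 3 n123309
theorem D204269 : act 3 n123309 = n204269 := rfl
theorem F431768 : act 4 n204269 = n162745 := d5_2 (iv4 F197603) D204269 (iv3 D162745) (iv4 D78207) (iv3 F123182)
theorem F431769 : act 5 n204269 = n197860 := d6_2 F341296 D204269 (iv3 D197860)
theorem F431770 : act 7 n204269 = n177496 := d8_2 F197605 D204269 (iv3 D177496)
theorem F431771 : act 0 n163073 = n204269 := d20_4 F173768 (iv1 F171189) F341299 (iv3 F257405) (iv3 D204269) F197603 (iv1 D77835) D77836 (iv3 F326230) D111877
def n204270 : Q := act 3 n123310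
theorem D204270 : act 3 n123310 = n204270 := rfl
theorem F431772 : act 4 n204270 = n167722 := d5_2 (iv4 F197609) D204270 (iv3 D167722) (iv4 D80486) (iv3 F297171)
theorem F431773 : act 5 n204270 = n197861 := d6_2 F341294 D204270 (iv3 D197861)
theorem F431774 : act 6 n204270 = n199089 := d7_2 (iv6 F299234) D204270 F410609
theorem F431775 : act 7 n204270 = n177494 := d8_2 (iv7 F197608) D204270 (iv3 D177494)
theorem F431776 : act 0 n200871 = n204270 := d20_4 F400866 (iv1 F165453) (iv4 F364763) (iv3 F418231) (iv3 D204270) F197609 (iv1 F191476) (iv4 F302041) F402116 (iv1 F402114)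
def n204271 : Q := act 2 n123311
theorem D204271 : act 2 n123311 = n204271 := rfl
theorem F431777 : act 3 n204271 = n177500 := d0_2 D123311 D204271 (iv2 D177500) (iv3 D84561) F121561
theorem F431778 : act 4 n204271 = n124470 := d1_2 (iv4 F197611) D204271 F346342
theorem F431779 : act 5 n204271 = n173247 := d2_2 (iv5 F346346) D204271 F271587
theorem F431780 : act 6 n204271 = n178116 := d3_2 (iv6 F304612) D204271 (iv2 D178116)
theorem F431781 : act 7 n204271 = n174155 := d4_2 F412972 D204271 (iv2 F412969)
theorem F431782 : act 1 n204271 = n173266 := d15_0 (iv0 F412974) F412972 D204271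
theorem F431783 : act 1 n173240 = n204271 := d15_0 F431782 (iv7 F271630) (iv2 F271571)
def n204272 : Q := act 5 n123323
theorem D204272 : act 5 n123323 = n204272 := rfl
theorem F431784 : act 2 n204272 = n124432 := d2_1 D204272 (iv5 D124432) (iv2 F302632)
theorem F431785 : act 3 n204272 = n199591 := d6_1 D204272 (iv5 D199591) F353076
theorem F431786 : act 7 n204272 = n124410 := d13_2 F303752 D204272 (iv5 D124410)
theorem F431787 : act 0 n204272 = n160387 := d17_2 F325834 D204272 (iv5 D160387) F326985 (iv5 F326991) F118767 F324759 D66182 D141115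
theorem F431788 : act 1 n204272 = n160390 := d17_6 (iv1 F91714) F44610 F298943 D57426 D123323 D204272 (iv5 D160390) F299358 F129970
def n204273 : Q := act 0 n123325
theorem D204273 : act 0 n123325 = n204273 := rfl
theorem F431789 : act 5 n204273 = n160763 := d17_1 D204273 F300898 (iv5 F272947) F272948 (iv5 D83273) F128335 D174190 F353289 (iv4 F197638)
theorem F431790 : act 4 n204273 = n158810 := d18_1 D204273 (iv1 F271605) (iv4 F343711) F343712 (iv4 D77132) (iv0 F298318) (iv4 F128329) F271566 (iv5 F351063)
theorem F431791 : act 3 n204273 = n197797 := d20_5 (iv4 D27481) D27479 D57430 D123325 D204273 F405820 (iv1 F400617) (iv4 F351073) (iv3 D123332) (iv1 D57437)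
theorem F431792 : act 1 n203999 = n204273 := d15_0 (iv0 D204273) (iv7 F353302) D203999
theorem F431793 : act 6 n197795 = n204273 := d7_0 F431791 (iv6 D197797) D197795
theorem F431794 : act 2 n204273 = n203998 := d3_1 F431793 F430775 F412846
theorem F431795 : act 7 n204273 = n203997 := d14_2 F413027 F431793 F430974 (iv7 F430998) (iv6 F430999)
def n204274 : Q := act 1 n123325
theorem D204274 : act 1 n123325 = n204274 := rfl
theorem F431796 : act 1 n204274 = n203999 := d15_1 D204274 F430781 F351054
theorem F431797 : act 7 n204274 = n203998 := d15_2 (iv0 D204273) D204274 (iv2 F431794)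
theorem F431798 : act 5 n204274 = n158800 := d17_7 F118804 (iv5 D75670) D75668 (iv5 F127840) (iv4 F271563) (iv5 F351063) D204274 F250003 (iv4 D83259)
theorem F431799 : act 4 n204274 = n160837 := d17_9 (iv1 D160837) (iv5 D77183) (iv1 F297991) D82914 D173266 F271629 F271566 (iv5 F351063) D204274
theorem F431800 : act 3 n158800 = n204274 := d19_19 (iv1 D204274) F351063 F271563 (iv3 F319916) F319913 F128690 (iv4 F128682) (iv3 F189947) F119548 F303006 (iv4 F58271) F58270 F309144 F38250 (iv4 F51909) F51908 (iv1 F296736) D75762 D158800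
theorem F431801 : act 6 n204274 = n160294 := d7_2 (iv6 F430992) F431800 F430995
theorem F431802 : act 0 n174114 = n163061 := d20_10 (iv4 D163061) (iv1 F193108) (iv4 F353963) (iv3 F430777) (iv1 F431796) (iv3 F431800) (iv4 D158800) (iv1 F127698) D83234 D174114
theorem F431803 : act 1 n174114 = n160585 := d15_1 (iv0 F431802) (iv7 F430087) F430085
theorem F431804 : act 2 n203997 = n204274 := d3_3 F431801 F430994 (iv6 F430974)
def n204275 : Q := act 0 n123332
theorem D204275 : act 0 n123332 = n204275 := rfl
theorem F431805 : act 5 n204275 = n199462 := d17_1 D204275 (iv1 F412295) F411357 F400850 (iv5 F398766) F398767 (iv5 F402121) (iv0 D196877) (iv4 F351073)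
theorem F431806 : act 4 n204275 = n196862 := d18_1 D204275 (iv1 F402062) D196868 F402091 F362033 (iv0 D107402) D107404 (iv0 F356739) F351074
theorem F431807 : act 3 n204275 = n160585 := d20_5 (iv4 F341323) (iv1 F326917) (iv4 F297176) D123332 D204275 F253666 F339259 D78409 F119606 (iv1 F341305)
theorem F431808 : act 2 n199462 = n204275 := d15_3 (iv0 D204275) (iv0 F402070) D199462
theorem F431809 : act 1 n196883 = n204275 := d15_0 (iv0 D204275) (iv7 F411358) F411355
theorem F431810 : act 7 n204275 = n199453 := d15_2 (iv0 F402150) F431809 F412263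
theorem F431811 : act 6 n160583 = n204275 := d14_5 F431810 (iv6 D199453) (iv7 F172784) D111343 F349859
def n204276 : Q := act 0 n123335
theorem D204276 : act 0 n123335 = n204276 := rfl
theorem F431812 : act 4 n204276 = n200795 := d20_2 (iv4 F417481) D204276 F417931 F345761 (iv3 F345736) (iv4 D105213) (iv1 F76531) (iv4 F82698) (iv3 F176547) (iv1 F417480)
theorem F431813 : act 2 n123339 = n204276 := d15_3 (iv0 D204276) (iv0 D123335) D123339
theorem F431814 : act 1 n123336 = n204276 := d15_0 (iv0 D204276) (iv7 F417514) F417513
theorem F431815 : act 7 n204276 = n123337 := d15_2 D123336 F431814 (iv2 D123337)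
theorem F431816 : act 5 n204276 = n199430 := d18_9 F431596 F431595 F431594 F276772 F363322 (iv4 F176548) (iv0 F417479) F417477 F431814
theorem F431817 : act 3 n174180 = n204276 := d20_3 (iv4 D83267) (iv1 F128334) D174180 (iv1 F431814) F413313 F343711 (iv1 F300946) (iv4 F431799) (iv3 F431800) F250002
theorem F431818 : act 6 n204276 = n198797 := d7_2 F362848 F431817 F409289
def n204277 : Q := act 3 n123335
theorem D204277 : act 3 n123335 = n204277 := rfl
theorem F431819 : act 2 n204277 = n194965 := d0_1 D204277 F395204 F343706 (iv3 F417524) F417523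
theorem F431820 : act 4 n204277 = n194961 := d5_2 (iv4 F417481) D204277 F395193 (iv4 F402637) (iv3 F417484)
theorem F431821 : act 0 n204277 = n199457 := d20_4 (iv4 F176548) (iv1 F417480) (iv4 F417481) D204277 F412273 (iv4 F402069) (iv1 D196863) D196864 F412884 (iv1 F412882)
theorem F431822 : act 6 n194960 = n204277 := d10_0 F431820 (iv6 D194961) D194960
def n204278 : Q := act 5 n123335
theorem D204278 : act 5 n123335 = n204278 := rfl
theorem F431823 : act 2 n204278 = n174129 := d2_1 D204278 F417528 F417523
theorem F431824 : act 7 n204278 = n200862 := d13_2 F417514 D204278 F418198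
theorem F431825 : act 0 n204278 = n174904 := d18_0 (iv4 F333030) F365130 (iv4 F406113) (iv5 F412910) D199628 (iv0 F417932) (iv4 F431812) (iv0 D204276) D204278
theorem F431826 : act 0 n197859 = n204278 := d19_0 (iv5 D204278) F417481 F417484 (iv1 F414484) (iv5 D199986) (iv4 D112141) (iv3 D51717) (iv1 D25116) (iv5 F24321) D30926 D66157 F222800 (iv5 F351404) (iv4 F409432) F409431 F223559 (iv5 D140401) F173019 D197859
def n204279 : Q := act 6 n123335
theorem D204279 : act 6 n123335 = n204279 := rfl
theorem F431827 : act 3 n204279 = n194960 := d7_1 D204279 F431822 (iv3 D204277)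
theorem F431828 : act 4 n204279 = n170642 := d10_1 D204279 F417482 (iv4 F417481)
theorem F431829 : act 7 n204279 = n140553 := d14_2 F417514 D204279 (iv6 F386115) (iv7 F386123) F417517
theorem F431830 : act 5 n204279 = n138478 := d21_6 (iv5 F429427) (iv1 D203691) (iv5 D120273) (iv6 F90621) D123335 D204279 F312853 (iv5 F431241) F431242 (iv1 F253364)
theorem F431831 : act 0 n203971 = n204279 := d17_0 F431830 F312853 (iv5 F431241) F431240 (iv5 D125305) (iv0 F297617) D121709 (iv0 F347412) (iv4 F430647)
theorem F431832 : act 1 n180131 = n204279 := d17_6 D65066 D138563 F314686 F312315 D166063 (iv5 F347417) F431830 (iv0 D138478) F100849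
def n204280 : Q := act 5 n123337
theorem D204280 : act 5 n123337 = n204280 := rfl
theorem F431833 : act 2 n204280 = n123338 := d2_1 D204280 (iv5 D123338) D123337
theorem F431834 : act 3 n204280 = n199705 := d6_1 D204280 F413187 (iv3 F364318)
theorem F431835 : act 7 n204280 = n199430 := d13_2 F431815 D204280 (iv5 F431816)
theorem F431836 : act 0 n204280 = n199433 := d21_1 D204280 F412175 (iv6 F394985) (iv1 D177797) F129874 D157862 F412616 F407346 F417517 (iv1 F417516)
theorem F431837 : act 6 n204280 = n199739 := d21_3 F418198 (iv1 F417516) D204280 (iv1 F413323) D199751 (iv5 F413353) (iv1 F360014) F351101 (iv6 F413924) F418199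
theorem F431838 : act 4 n200695 = n204280 := d16_0 (iv5 D204280) (iv4 F431585) (iv5 F431590) (iv4 F412169) F412170 F407490 (iv5 D125726) D125727 F417531
theorem F431839 : act 0 n199432 = n204280 := d20_10 (iv4 F431838) (iv1 D200695) D200696 (iv3 F417535) (iv1 D199620) F353978 F353977 F360141 D177631 (iv3 F412168)
def n204281 : Q := act 0 n123338
theorem D204281 : act 0 n123338 = n204281 := rfl
theorem F431840 : act 2 n199433 = n204281 := d15_3 (iv0 D204281) (iv0 F362035) (iv7 F412173)
theorem F431841 : act 1 n199430 = n204281 := d15_0 (iv0 D204281) (iv7 F362845) (iv2 F412160)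
theorem F431842 : act 7 n204281 = n199432 := d15_2 (iv0 F431596) F431841 F412172
def n204282 : Q := act 4 n123385
theorem D204282 : act 4 n123385 = n204282 := rfl
theorem F431843 : act 2 n204282 = n149119 := d1_1 D204282 (iv4 D149119) (iv2 F306467)
theorem F431844 : act 7 n204282 = n149131 := d11_2 (iv7 F306468) D204282 (iv4 D149131)
theorem F431845 : act 5 n204282 = n193689 := d16_1 D204282 (iv4 D193689) (iv5 F369159) F369158 (iv5 F346245) (iv4 F187880) D149049 F234383 (iv2 F306467)
theorem F431846 : act 1 n202273 = n149131 := d15_1 (iv0 F423439) (iv7 F431844) F431843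
def n204283 : Q := act 5 n123395
theorem D204283 : act 5 n123395 = n204283 := rfl
theorem F431847 : act 2 n204283 = n202891 := d2_1 D204283 F426067 F380181
theorem F431848 : act 6 n204283 = n147679 := d12_2 D123395 D204283 F332125 (iv6 D81656) F90652
theorem F431849 : act 4 n204283 = n147681 := d16_2 (iv4 F197780) D204283 F344163 F318042 F216478 (iv4 F209318) (iv5 F216486) F337786 F197759
theorem F431850 : act 0 n204283 = n149242 := d17_2 F335198 D204283 F234633 (iv4 F328459) (iv5 D136048) (iv0 F327492) (iv5 F216524) F216523 D134599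
def n204284 : Q := act 3 n123407
theorem D204284 : act 3 n123407 = n204284 := rfl
theorem F431851 : act 2 n204284 = n154014 := d0_1 D204284 (iv3 D154014) F240985 F397632 (iv2 F397633)
theorem F431852 : act 7 n204284 = n191549 := d8_2 (iv7 F397620) D204284 F397621
theorem F431853 : act 0 n204284 = n186689 := d19_4 D200458 F416511 F374896 D204284 (iv5 D186689) D186688 F367680 (iv1 F313479) (iv5 D114682) F83650 (iv3 F83644) (iv1 F290279) F144671 F135455 (iv3 D88475) (iv1 F291755) D47737 D102943 F342191
theorem F431854 : act 1 n204284 = n191547 := d15_1 (iv0 F431853) F383762 (iv2 F367683)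
theorem F431855 : act 5 n192635 = n204284 := d17_5 F306194 (iv5 F426216) F426218 F187518 (iv4 F387293) F431854 (iv5 D191547) F268294 F306548
def n204285 : Q := act 5 n123407
theorem D204285 : act 5 n123407 = n204285 := rfl
theorem F431856 : act 2 n204285 = n138201 := d2_1 D204285 (iv5 F397630) (iv2 F397633)
theorem F431857 : act 3 n204285 = n192635 := d6_1 D204285 F431855 (iv3 D204284)
theorem F431858 : act 4 n204285 = n154639 := d9_1 D204285 (iv5 D154639) F320372 D114716 (iv4 F416519) F416518 F338555 F306411 (iv4 F190219) (iv5 F240735) (iv4 F317609) D114711 (iv4 F416512) F416511 F374896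
theorem F431859 : act 7 n204285 = n138202 := d13_2 (iv7 F397620) D204285 (iv5 F397616)
theorem F431860 : act 0 n204285 = n138190 := d17_2 D123407 D204285 (iv5 D138190) F337840 D135326 F338702 (iv5 F338703) (iv0 D129265) F328726
theorem F431861 : act 1 n204285 = n127043 := d17_6 (iv1 F346155) (iv5 F176266) D200458 F416511 F374896 D204285 (iv5 D127043) F321115 (iv4 F338590)
theorem F431862 : act 6 n204285 = n149138 := d21_3 D57484 D123407 D204285 (iv1 F364032) (iv6 D108280) D108279 F315172 (iv5 D85851) F306355 (iv1 D57483)
def n204286 : Q := act 6 n123407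
theorem D204286 : act 6 n123407 = n204286 := rfl
theorem F431863 : act 2 n204286 = n152732 := d3_1 D204286 F397634 (iv2 F397633)
theorem F431864 : act 4 n204286 = n152319 := d10_1 D204286 (iv6 F347110) F374896
theorem F431865 : act 5 n204286 = n149139 := d12_1 D204286 (iv6 D149139) D149138 (iv6 F431862) (iv5 D204285)
theorem F431866 : act 7 n204286 = n152707 := d14_2 (iv7 F397620) D204286 F371529 F397625 F397622
theorem F431867 : act 0 n204286 = n137849 := d21_4 D127043 (iv1 F431861) (iv5 D204285) D204286 (iv6 D137849) F333861 (iv1 D86918) D86919 F133374 (iv1 F321115)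
theorem F431868 : act 0 n135161 = n149139 := d21_7 (iv5 D195612) (iv1 F304382) F338403 (iv6 F338404) F97269 D63517 D135161 (iv5 F431865) (iv6 D204286) (iv1 F397608)
theorem F431869 : act 4 n202733 = n136966 := d18_3 F431868 F360850 D202733 (iv5 D136966) D136965 F347047 F203723 F347017 D135161
def n204287 : Q := act 5 n123443
theorem D204287 : act 5 n123443 = n204287 := rfl
theorem F431870 : act 2 n204287 = n192585 := d2_1 D204287 (iv5 F418868) F418864
theorem F431871 : act 3 n204287 = n123445 := d6_1 D204287 (iv5 D123445) D123443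
theorem F431872 : act 7 n204287 = n191376 := d13_2 F431232 D204287 (iv5 F431230)
theorem F431873 : act 0 n204287 = n192564 := d17_2 F431624 D204287 F387091 (iv4 F371133) (iv5 F373928) (iv0 D188553) (iv5 F143020) (iv0 F374670) (iv4 F431622)
theorem F431874 : act 4 n204287 = n177960 := d17_4 (iv1 F301613) D204239 F431624 D204287 (iv5 D177960) F387057 F349320 F241796 F241794
theorem F431875 : act 6 n204287 = n177960 := d21_3 D204239 F431624 D204287 F366849 F387083 F387077 (iv1 F277350) F152455 (iv6 F136704) (iv1 F301613)
theorem F431876 : act 0 n192586 = n204287 := d21_10 (iv5 D204287) F363725 (iv5 D183423) (iv6 F304374) (iv1 F197564) (iv6 F351788) D191518 (iv1 F431054) (iv5 D204092) (iv6 F387175)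
def n204288 : Q := act 6 n123443
theorem D204288 : act 6 n123443 = n204288 := rfl
theorem F431877 : act 2 n204288 = n191626 := d3_1 D204288 (iv6 F418866) F418864
theorem F431878 : act 3 n204288 = n123446 := d7_1 D204288 (iv6 D123446) D123443
theorem F431879 : act 4 n204288 = n188777 := d10_1 D204288 (iv6 D188777) F363726
theorem F431880 : act 5 n204288 = n177961 := d12_1 D204288 (iv6 D177961) D177960 (iv6 F431875) (iv5 D204287)
theorem F431881 : act 0 n204288 = n186682 := d21_4 (iv5 F387174) F431876 (iv5 D204287) D204288 (iv6 D186682) (iv5 D89037) (iv1 D41585) D41586 (iv6 F136702) (iv1 F332667)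
theorem F431882 : act 0 n193547 = n177961 := d21_1 F396004 (iv5 F431880) (iv6 D204288) F363725 F360922 (iv5 F395969) (iv1 D195146) (iv5 D105331) D105332 D195149
theorem F431883 : act 1 n193578 = n177961 := d15_0 (iv0 F431882) F390219 D193578
def n204289 : Q := act 5 n123444
theorem D204289 : act 5 n123444 = n204289 := rfl
theorem F431884 : act 2 n204289 = n199158 := d2_1 D204289 F410934 (iv2 F198043)
theorem F431885 : act 3 n204289 = n126820 := d6_1 D204289 (iv5 F399108) F399110
theorem F431886 : act 4 n204289 = n123490 := d9_1 D204289 (iv5 D123490) F326227 F325325 (iv4 F299283) (iv5 F302128) D123448 F328732 (iv4 F344449) (iv5 D123487) (iv4 F325340) F325341 (iv4 F303763) (iv5 D123445) D123444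
theorem F431887 : act 6 n204289 = n126818 := d12_2 F404714 D204289 (iv5 F350328) F350324 D197531
theorem F431888 : act 7 n204289 = n197345 := d13_2 (iv7 F198042) D204289 F403996
theorem F431889 : act 0 n204289 = n197517 := d17_2 F329060 D204289 (iv5 D197517) (iv4 F327854) F302518 (iv0 F304267) F304270 (iv0 D123074) (iv4 F329063)
theorem F431890 : act 1 n204289 = n132571 := d17_6 F325788 (iv5 F325791) (iv1 F197823) (iv5 D123445) D123444 D204289 (iv5 D132571) F202544 F326605
def n204290 : Q := act 7 n123446
theorem D204290 : act 7 n123446 = n204290 := rfl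
theorem F431891 : act 2 n204290 = n191491 := d4_1 D204290 (iv7 F431225) F431221
theorem F431892 : act 4 n204290 = n197629 := d11_1 D204290 F405097 F404712
theorem F431893 : act 5 n204290 = n134450 := d13_1 D204290 F350270 (iv5 F306408)
theorem F431894 : act 6 n204290 = n130723 := d14_1 D204290 (iv7 F217068) (iv6 F328252) (iv7 F197157) D123446
theorem F431895 : act 1 n191493 = n204290 := d15_1 (iv0 F431227) (iv7 D204290) (iv2 F431221)
theorem F431896 : act 1 n204290 = n130839 := d15_1 F431895 (iv7 F214254) (iv2 F383570)
def n204291 : Q := act 6 n123447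
theorem D204291 : act 6 n123447 = n204291 := rfl
theorem F431897 : act 2 n204291 = n191536 := d3_1 D204291 (iv6 D191536) F366871
theorem F431898 : act 3 n204291 = n123449 := d7_1 D204291 (iv6 D123449) D123447
theorem F431899 : act 5 n204291 = n192314 := d12_1 D204291 (iv6 D192314) (iv5 D100054) D100055 (iv5 F304693)
theorem F431900 : act 7 n204291 = n191625 := d14_2 F366872 D204291 (iv6 D191625) F383711 (iv6 F383707)
theorem F431901 : act 0 n192314 = n191654 := d21_7 D113520 F383819 (iv5 F367696) (iv6 D186692) F343478 D204291 F431899 F384062 (iv6 F383745) (iv1 D113519)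
def n204292 : Q := act 0 n123476
theorem D204292 : act 0 n123476 = n204292 := rfl
theorem F431902 : act 1 n170818 = n204292 := d15_0 (iv0 D204292) F304209 D170818
theorem F431903 : act 4 n189925 = n204292 := d20_0 (iv1 F431902) F395264 (iv3 D194975) (iv1 D104832) (iv3 D48465) (iv4 D23621) D23619 D48458 D104814 F378270
theorem F431904 : act 2 n204292 = n170817 := d1_1 F431903 (iv4 F380566) F380562
theorem F431905 : act 6 n204292 = n178084 := d10_2 D189925 F431903 F380561
def n204293 : Q := act 1 n123476
theorem D204293 : act 1 n123476 = n204293 := rfl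
theorem F431906 : act 7 n204293 = n170817 := d15_2 (iv0 D204292) D204293 (iv2 F431904)
theorem F431907 : act 4 n194967 = n204293 := d20_0 (iv1 D204293) F197885 (iv3 D83454) (iv1 F300461) D162657 (iv4 F377758) F377761 (iv4 F395251) F395250 (iv1 F395210)
theorem F431908 : act 0 n170818 = n204293 := d20_10 (iv4 F431907) (iv1 D194967) (iv4 F395200) (iv3 D194963) (iv1 F378038) F378037 (iv4 D178230) (iv1 F199326) (iv4 F407129) F407128
theorem F431909 : act 2 n204293 = n170816 := d15_3 (iv0 D170816) D170817 (iv7 F431906)
theorem F431910 : act 4 n170816 = n194857 := d1_2 F431907 F431909 F395213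
theorem F431911 : act 7 n170816 = n204292 := d4_2 (iv7 F431906) F431909 F431904
theorem F431912 : act 6 n196451 = n170816 := d14_5 F431911 F431905 (iv7 F394976) F400579 (iv7 F400725)
theorem F431913 : act 3 n170816 = n196452 := d7_1 F431912 (iv6 D196452) D196451
theorem F431914 : act 5 n157889 = n170874 := d21_0 (iv1 D170874) (iv5 D81916) (iv6 F126228) D170816 (iv6 F431912) F400724 D197449 F404378 (iv6 F398625) (iv1 F280713)
theorem F431915 : act 6 n170874 = n188065 := d21_3 (iv5 F376981) (iv1 F280713) F431914 (iv1 F387428) (iv6 D187526) F357541 (iv1 D100532) (iv5 F291456) D188020 (iv1 F376982)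
theorem F431916 : act 4 n188067 = n170874 := d10_3 F431915 (iv4 D188065) D188067
def n204294 : Q := act 2 n123476
theorem D204294 : act 2 n123476 = n204294 := rfl
theorem F431917 : act 3 n204294 = n178223 := d0_2 D123476 D204294 (iv2 D178223) (iv3 D84828) (iv2 F121569)
theorem F431918 : act 4 n204294 = n174227 := d1_2 (iv4 F197885) D204294 F353295
theorem F431919 : act 6 n204294 = n174145 := d3_2 (iv6 F197886) D204294 F351054
theorem F431920 : act 7 n204294 = n170818 := d4_2 (iv7 F304209) D204294 (iv2 D170818)
theorem F431921 : act 1 n204294 = n170816 := d15_0 (iv0 D170816) (iv7 F304209) D204294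
theorem F431922 : act 1 n170817 = n204294 := d15_0 F431921 F431911 F431904
def n204295 : Q := act 0 n123482
theorem D204295 : act 0 n123482 = n204295 := rfl
theorem F431923 : act 4 n204295 = n194831 := d20_2 (iv4 F197896) D204295 F414155 (iv1 D199919) F174067 (iv4 F93029) F93031 (iv4 F100446) (iv3 F220414) F365989
theorem F431924 : act 1 n199585 = n204295 := d15_0 (iv0 D204295) (iv7 F431238) F431235
def n204296 : Q := act 1 n123482
theorem D204296 : act 1 n123482 = n204296 := rfl
theorem F431925 : act 1 n204296 = n199585 := d15_1 D204296 (iv7 F412770) F406534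
theorem F431926 : act 4 n194832 = n204296 := d20_0 (iv1 D204296) F197896 (iv3 D83461) (iv1 F113509) D88751 (iv4 F281846) (iv1 F345720) (iv4 F392647) (iv3 F393442) F394653
def n204297 : Q := act 5 n123482
theorem D204297 : act 5 n123482 = n204297 := rfl
theorem F431927 : act 3 n204297 = n123483 := d6_1 D204297 (iv5 D123483) D123482
theorem F431928 : act 4 n196696 = n204297 := d5_0 F431927 (iv4 F344440) F164743 (iv4 F165239) (iv3 F401516)
theorem F431929 : act 6 n196297 = n204297 := d7_0 F431927 F344434 D196297
def n204298 : Q := act 6 n123482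
theorem D204298 : act 6 n123482 = n204298 := rfl
theorem F431930 : act 2 n204298 = n196848 := d3_1 D204298 (iv6 F406545) F406534
theorem F431931 : act 3 n204298 = n123484 := d7_1 D204298 (iv6 D123484) D123482
theorem F431932 : act 4 n204298 = n173824 := d10_1 D204298 F302235 (iv4 F197896)
theorem F431933 : act 7 n204298 = n124431 := d14_2 F431238 D204298 (iv6 F414260) F414261 (iv6 F431237)
theorem F431934 : act 0 n204298 = n174157 := d20_1 (iv4 F431932) (iv4 F408680) F408676 F408272 F169333 (iv4 F101587) D140395 F223532 D199912 F414116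
def n204299 : Q := act 5 n123484
theorem D204299 : act 5 n123484 = n204299 := rfl
theorem F431935 : act 2 n204299 = n124410 := d2_1 D204299 (iv5 D124410) F303750
theorem F431936 : act 6 n204299 = n196298 := d12_2 D123484 D204299 (iv5 D196298) (iv6 F344434) (iv5 D123483)
theorem F431937 : act 7 n204299 = n124432 := d13_2 (iv7 F302628) D204299 (iv5 D124432)
theorem F431938 : act 4 n204299 = n201947 := d16_2 (iv4 F197899) D204299 (iv5 F422483) (iv4 D193195) (iv5 D101340) (iv4 F310311) D57426 (iv7 F301580) F301577
theorem F431939 : act 0 n204299 = n160390 := d17_2 (iv1 F351533) D204299 (iv5 D160390) F326974 F326124 F118772 D77783 F325819 D141111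
theorem F431940 : act 1 n204299 = n160387 := d17_6 F296385 (iv5 D27655) D27653 (iv5 F299751) (iv4 F197899) D204299 (iv5 D160387) (iv0 D76887) (iv4 D35133)
def n204300 : Q := act 0 n123485
theorem D204300 : act 0 n123485 = n204300 := rfl
theorem F431941 : act 5 n204300 = n202455 := d19_1 D204300 F424076 F390805 (iv1 D128259) D128261 (iv4 F366330) F353133 (iv1 F149869) F149866 (iv4 F149138) F310783 (iv1 F229993) F229990 (iv4 F312863) (iv3 F255492) (iv1 F255496) (iv5 F325341) F325340 D123485
theorem F431942 : act 3 n204300 = n166436 := d20_5 F119934 F326119 F325340 D123485 D204300 (iv4 D166436) (iv1 D79905) D79907 F122653 F121547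
theorem F431943 : act 6 n204300 = n197707 := d21_5 D111337 D199459 F412284 F409168 D204300 (iv5 F405456) (iv1 D108681) (iv5 D50179) (iv6 F39169) D51350
theorem F431944 : act 1 n197736 = n204300 := d15_0 (iv0 D204300) (iv7 F411365) F411362
theorem F431945 : act 2 n197857 = n204300 := d3_3 F431943 F405864 D197857
theorem F431946 : act 7 n198052 = n204300 := d14_0 F431943 F405862 (iv6 F345343) (iv7 F281218) (iv6 F406598)
def n204301 : Q := act 1 n123485
theorem D204301 : act 1 n123485 = n204301 := rfl
theorem F431947 : act 1 n204301 = n197736 := d15_1 D204301 F405582 (iv2 F345337)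
theorem F431948 : act 7 n204301 = n197857 := d15_2 (iv0 D204300) D204301 F431945
theorem F431949 : act 3 n194490 = n204301 := d20_3 F406554 (iv1 F380640) (iv4 F393424) (iv1 D204301) (iv3 D123485) (iv4 F325340) (iv1 F170935) F326106 D178238 (iv1 F406555)
theorem F431950 : act 2 n204301 = n198052 := d0_1 F431949 (iv3 F406597) F281222 (iv3 F380642) F393425
theorem F431951 : act 6 n196420 = n204301 := d3_0 F431950 F406598 F400642
theorem F431952 : act 5 n204301 = n202456 := d21_6 (iv5 F402344) F407390 F407388 F172916 (iv1 F400641) F431951 (iv1 D202456) (iv5 F363321) F280521 D180480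
theorem F431953 : act 2 n202456 = n193728 := d2_1 F431952 (iv5 F411368) (iv2 F431950)
theorem F431954 : act 4 n193724 = n202456 := d1_0 F431953 F390798 (iv2 F390792)
theorem F431955 : act 6 n193719 = n202456 := d3_0 F431953 (iv6 D193728) (iv2 F390775)
def n204302 : Q := act 5 n123485
theorem D204302 : act 5 n123485 = n204302 := rfl
theorem F431956 : act 2 n204302 = n198053 := d2_1 D204302 (iv5 D198053) (iv2 F345337)
theorem F431957 : act 3 n204302 = n123487 := d6_1 D204302 (iv5 D123487) D123485
theorem F431958 : act 7 n204302 = n202619 := d13_2 F411365 D204302 F424781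
theorem F431959 : act 0 n145435 = n204302 := d21_10 (iv5 D204302) D204300 F431941 F424077 (iv1 F245638) (iv6 F331799) F175351 (iv1 F82149) D68181 D145435
theorem F431960 : act 6 n194343 = n204302 := d21_5 (iv5 F401142) F401143 (iv5 D134855) D134856 (iv1 F392885) (iv5 D204302) D204300 F431941 F424077 (iv1 F245638)
theorem F431961 : act 4 n204302 = n194616 := d10_1 F431960 (iv6 D194616) (iv4 F392887)
def n204303 : Q := act 0 n123492
theorem D204303 : act 0 n123492 = n204303 := rfl
theorem F431962 : act 5 n204303 = n181323 := d21_8 D197536 F404717 (iv5 D108537) (iv6 F335710) F292914 D191930 (iv5 F384876) D204303 (iv6 F366739) (iv1 F167795)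
theorem F431963 : act 2 n123496 = n204303 := d15_3 (iv0 D204303) (iv0 D123492) D123496
theorem F431964 : act 3 n204303 = n180034 := d0_2 (iv3 F197911) F431963 (iv2 F358448) F221672 F341380
theorem F431965 : act 4 n204303 = n125291 := d1_2 (iv4 F304199) F431963 (iv2 D125291)
theorem F431966 : act 6 n204303 = n198914 := d3_2 F413915 F431963 F413919
theorem F431967 : act 7 n204303 = n123494 := d4_2 D123496 F431963 (iv2 D123494)
theorem F431968 : act 1 n123493 = n204303 := d15_1 D123493 F431967 (iv2 D123494)
def n204304 : Q := act 3 n123492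
theorem D204304 : act 3 n123492 = n204304 := rfl
def n204305 : Q := act 4 n123492
theorem D204305 : act 4 n123492 = n204305 := rfl
theorem F431969 : act 2 n204305 = n165656 := d1_1 D204305 (iv4 F386925) F386924
theorem F431970 : act 5 n204305 = n153592 := d9_2 (iv5 F384876) D204305 F354019 D186874 (iv4 F386948) F386949 (iv4 F386932) F386933 (iv4 F428469) (iv5 D203478) F187666 D203214 (iv4 F427439) F368812 (iv4 F384875)
theorem F431971 : act 3 n204305 = n158323 := d20_3 (iv4 F301728) D123492 D204305 F275781 F363627 F394523 (iv1 F394578) F394576 (iv3 D180111) (iv1 D86059)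
def n204306 : Q := act 6 n123492
theorem D204306 : act 6 n123492 = n204306 := rfl
theorem F431972 : act 2 n204306 = n180414 := d3_1 D204306 (iv6 F386928) F386924
theorem F431973 : act 5 n204306 = n194431 := d12_1 D204306 (iv6 D194431) F158788 D191930 (iv5 F384876)
theorem F431974 : act 3 n125575 = n204306 := d6_3 F431973 F393180 (iv5 F406153)
theorem F431975 : act 1 n180408 = n204306 := d17_6 F413231 (iv5 D187442) (iv1 F178063) (iv5 F178124) F413380 F413378 F431973 (iv0 F395005) (iv4 F413228)
theorem F431976 : act 0 n140703 = n204306 := d21_7 F291996 (iv1 F292958) (iv5 D92614) (iv6 F139464) (iv1 F178081) F409302 F409299 F431973 (iv6 D194431) (iv1 F291995)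
theorem E103883 : n204304 = n140414 := (c7_4 (iv6 F406154) F431974 (iv6 D204306) D204304)
theorem F431977 : act 3 n140414 = n123492 := (sb E103883 (iv3 D204304))
theorem F431978 : act 7 n204306 = n180413 := d8_2 (iv7 F361648) F431974 (iv3 F351543)
def n204307 : Q := act 7 n123492
theorem D204307 : act 7 n123492 = n204307 := rfl
theorem F431979 : act 2 n204307 = n123493 := d4_1 D204307 F386930 F386924
theorem F431980 : act 1 n123494 = n204307 := d15_1 F386927 (iv7 D204307) (iv2 F386924)
theorem F431981 : act 1 n204307 = n123496 := d15_1 F431980 (iv7 D123496) D123494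
def n204308 : Q := act 3 n123493
theorem D204308 : act 3 n123493 = n204308 := rfl
theorem F431982 : act 4 n204308 = n197981 := d5_2 F428469 D204308 (iv3 F428479) (iv4 D203480) (iv3 F428467)
theorem F431983 : act 5 n204308 = n175122 := d6_2 F386933 D204308 (iv3 F386931)
theorem F431984 : act 0 n166436 = n204308 := d17_0 F431983 (iv1 D175122) D175124 (iv4 F353914) (iv5 F341257) (iv0 D155005) (iv5 F321875) D79905 D166436
theorem F431985 : act 1 n164004 = n204308 := d18_8 (iv1 D175122) (iv4 D83645) (iv1 F243744) D175007 F352220 F336515 F330285 (iv4 F258471) F431983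
theorem F431986 : act 6 n173983 = n204308 := d21_5 (iv5 D110953) (iv1 D51159) D51161 F333002 D173983 F431983 (iv1 D175122) D175124 (iv6 F410748) (iv1 F410749)
def n204309 : Q := act 6 n123493
theorem D204309 : act 6 n123493 = n204309 := rfl
theorem F431987 : act 3 n204309 = n173983 := d7_1 D204309 F431986 (iv3 D204308)
theorem F431988 : act 4 n204309 = n174160 := d10_1 D204309 (iv6 F428470) F428469
theorem F431989 : act 0 n204309 = n159184 := d20_7 (iv4 D26944) (iv1 F43437) D55830 D121034 (iv1 F409736) F409738 (iv4 F431988) F250664 (iv3 D76151) F54994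
def n204310 : Q := act 5 n123494
theorem D204310 : act 5 n123494 = n204310 := rfl
theorem F431990 : act 2 n204310 = n123495 := d2_1 D204310 (iv5 D123495) D123494
theorem F431991 : act 3 n204310 = n169883 := d6_1 D204310 (iv5 F431241) F431239
theorem F431992 : act 7 n204310 = n181323 := d13_2 F431967 D204310 (iv5 F431962)
theorem F431993 : act 0 n204310 = n196277 := d21_7 D86348 (iv1 F280776) (iv5 D180405) (iv6 F330797) (iv1 F198741) (iv6 F197909) D204310 F400164 (iv6 D180788) (iv1 D86346)
theorem F431994 : act 1 n204310 = n197636 := d15_0 (iv0 D197636) (iv7 F363314) (iv2 F431990)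
theorem F431995 : act 7 n197636 = n140358 := d15_2 (iv0 F431993) F431994 (iv2 F400162)
def n204311 : Q := act 1 n123495
theorem D204311 : act 1 n123495 = n204311 := rfl
theorem F431996 : act 1 n204311 = n181323 := d15_1 D204311 (iv7 F431992) F431990
theorem F431997 : act 7 n204311 = n196277 := d15_2 (iv0 F350369) D204311 F400162
theorem F431998 : act 5 n204311 = n174116 := d17_7 (iv1 F324243) (iv5 F344931) (iv1 D130156) (iv5 F320828) (iv4 F301728) D123495 D204311 F358728 (iv4 D98245)
theorem F431999 : act 3 n178502 = n204311 := d19_19 (iv1 D204311) (iv5 D123495) F301728 (iv3 D39835) (iv1 F60633) (iv5 F317617) F304580 F315894 (iv1 F315893) D70847 F314088 (iv3 F209473) F237501 F310777 F115116 F60277 D39296 D84946 D178502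
theorem F432000 : act 6 n194920 = n204311 := d21_3 (iv5 F395001) (iv1 D194918) D194920 (iv1 D204311) F384866 (iv5 F429444) (iv1 F429446) (iv5 F389270) F404806 (iv1 F404804)
theorem F432001 : act 2 n197636 = n204311 := d4_3 F431997 F400162 (iv7 F431995)
def n204312 : Q := act 5 n123507
theorem D204312 : act 5 n123507 = n204312 := rfl
theorem F432002 : act 2 n204312 = n141537 := d2_1 D204312 F349464 F276299
theorem F432003 : act 3 n204312 = n128376 := d6_1 D204312 (iv5 F215345) (iv3 F348257)
theorem F432004 : act 6 n204312 = n141534 := d12_2 D123507 D204312 (iv5 F397464) F397465 (iv5 D123506)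
theorem F432005 : act 7 n204312 = n128370 := d13_2 F348269 D204312 (iv5 F215322)
theorem F432006 : act 4 n204312 = n202205 := d18_5 (iv1 F305571) (iv4 F132706) F348256 (iv4 F197932) D204312 F429062 (iv4 D203602) (iv0 D119623) (iv5 F95895)
def n204313 : Q := act 5 n123508
theorem D204313 : act 5 n123508 = n204313 := rfl
theorem F432007 : act 6 n204313 = n123511 := d12_2 D123508 D204313 (iv5 D123511) (iv6 D57562) D57561
def n204314 : Q := act 5 n123509
theorem D204314 : act 5 n123509 = n204314 := rfl
theorem F432008 : act 2 n204314 = n124029 := d2_1 D204314 (iv5 D124029) (iv2 F348253)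
def n204315 : Q := act 0 n123511
theorem D204315 : act 0 n123511 = n204315 := rfl
theorem F432009 : act 5 n204315 = n192853 := d17_3 F348256 D123511 D204315 F388028 F239262 (iv0 F312468) F312471 F306030 (iv4 F132706)
theorem F432010 : act 3 n204315 = n192856 := d20_5 F403506 (iv1 F430315) F430312 F361528 D204315 (iv4 F388034) (iv1 F382992) F382988 (iv3 F431649) (iv1 F431651)
theorem F432011 : act 2 n124044 = n204315 := d15_3 (iv0 D204315) (iv0 F429714) (iv7 F429715)
def n204316 : Q := act 4 n123511
theorem D204316 : act 4 n123511 = n204316 := rfl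
def n204317 : Q := act 7 n123511
theorem D204317 : act 7 n123511 = n204317 := rfl
theorem F432012 : act 3 n204317 = n154462 := d8_1 D204317 (iv7 F361524) F361528
theorem F432013 : act 5 n204317 = n123512 := d13_1 D204317 (iv7 D123512) D123511
theorem F432014 : act 0 n124044 = n204317 := d21_1 F429719 F432013 F348268 F312440 D61532 D131164 F431028 (iv5 D204084) D204085 (iv1 F431027)
def n204318 : Q := act 4 n123518
theorem D204318 : act 4 n123518 = n204318 := rfl
theorem F432015 : act 3 n204318 = n183109 := d5_1 D204318 (iv4 D183109) (iv3 F268865) D191763 F384383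
theorem F432016 : act 6 n204318 = n152235 := d10_2 (iv6 F356970) D204318 (iv4 F355582)
theorem F432017 : act 5 n204318 = n131115 := d16_1 D204318 (iv4 D131115) F96023 (iv4 F78819) (iv5 F97988) F314886 D123913 F314234 (iv2 F314236)
theorem F432018 : act 0 n204318 = n201178 := d17_0 (iv5 D201178) F177549 D114600 (iv4 F214900) (iv5 D133586) F97804 (iv5 F311800) (iv0 F314896) D204318
theorem F432019 : act 1 n204318 = n201476 := d18_6 (iv1 F166671) F166673 (iv1 F166711) F312999 D123518 D204318 F420651 F210754 (iv5 D130862)
def n204319 : Q := act 7 n123521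
theorem D204319 : act 7 n123521 = n204319 := rfl
theorem F432020 : act 2 n204319 = n123538 := d4_1 D204319 (iv7 D123538) (iv2 F197941)
theorem F432021 : act 3 n204319 = n201285 := d8_1 D204319 (iv7 D201285) (iv3 F197942)
theorem F432022 : act 5 n204319 = n134976 := d13_1 D204319 (iv7 F221490) F356543
theorem F432023 : act 6 n204319 = n158936 := d14_1 D204319 (iv7 F280345) (iv6 D148151) F311637 D123521
theorem F432024 : act 1 n123536 = n204319 := d15_1 D123536 (iv7 D204319) F197941
theorem F432025 : act 1 n204319 = n123535 := d15_1 F432024 (iv7 F356565) F356860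
def n204320 : Q := act 5 n123522
theorem D204320 : act 5 n123522 = n204320 := rfl
theorem F432026 : act 2 n204320 = n123542 := d2_1 D204320 (iv5 D123542) (iv2 F359914)
theorem F432027 : act 7 n204320 = n123547 := d13_2 (iv7 F359915) D204320 (iv5 D123547)
theorem F432028 : act 0 n204320 = n171027 := d17_2 D123522 D204320 (iv5 D171027) F307746 (iv5 F322123) (iv0 D66769) D66771 (iv0 F323796) F312427
theorem F432029 : act 1 n204320 = n192852 := d17_6 F339024 (iv5 F357075) (iv1 F357083) F347187 F276307 D204320 (iv5 D192852) (iv0 F309756) F214905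
def n204321 : Q := act 4 n123523
theorem D204321 : act 4 n123523 = n204321 := rfl
theorem F432030 : act 2 n204321 = n123546 := d1_1 D204321 (iv4 D123546) (iv2 F359911)
theorem F432031 : act 3 n204321 = n156612 := d5_1 D204321 F344024 F234025 (iv4 F309675) (iv3 F359912)
theorem F432032 : act 6 n204321 = n191509 := d10_2 F385342 D204321 (iv4 F385341)
theorem F432033 : act 7 n204321 = n123541 := d11_2 (iv7 F359913) D204321 (iv4 D123541)
theorem F432034 : act 5 n204321 = n156605 := d18_4 (iv1 F323795) F197958 (iv1 F197943) D204321 (iv4 F246890) F359927 (iv4 D142384) (iv0 D66769) D66771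
def n204322 : Q := act 5 n123523
theorem D204322 : act 5 n123523 = n204322 := rfl
theorem F432035 : act 2 n204322 = n123547 := d2_1 D204322 (iv5 D123547) (iv2 F359911)
theorem F432036 : act 3 n204322 = n154266 := d6_1 D204322 (iv5 D154266) (iv3 F359912)
theorem F432037 : act 7 n204322 = n123542 := d13_2 (iv7 F359913) D204322 (iv5 D123542)
theorem F432038 : act 0 n204322 = n192852 := d17_2 (iv1 F197943) D204322 (iv5 D192852) F307748 F318304 F325037 (iv5 F314092) (iv0 F197959) F197958
theorem F432039 : act 6 n204322 = n199381 := d21_3 F197972 (iv1 F197943) D204322 (iv1 F424317) (iv6 D202505) (iv5 F420725) (iv1 F420727) F353543 D139409 F366210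
theorem F432040 : act 0 n171027 = n204322 := d21_10 (iv5 D204322) (iv1 D123523) D123524 F356545 F356547 (iv6 F230340) (iv5 D146947) D146945 F424888 F424885
def n204323 : Q := act 4 n123524
theorem D204323 : act 4 n123524 = n204323 := rfl
theorem F432041 : act 2 n204323 = n123551 := d1_1 D204323 (iv4 D123551) (iv2 F197944)
theorem F432042 : act 7 n204323 = n195439 := d11_2 F388038 D204323 F396999
theorem F432043 : act 1 n204323 = n184247 := d18_6 (iv1 D154118) F190976 (iv1 F312425) F312427 D123524 D204323 (iv4 D184247) (iv0 F346704) F346705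
theorem F432044 : act 3 n204323 = n195447 := d19_3 (iv1 D123523) D123524 D204323 (iv1 F408733) F408731 (iv4 D163200) (iv3 D78442) (iv1 F88401) F88399 F43486 F298891 (iv1 D17591) F13036 (iv4 F11566) (iv3 F24899) D32426 D69828 (iv4 F309675) (iv3 F359912)
def n204324 : Q := act 5 n123532
theorem D204324 : act 5 n123532 = n204324 := rfl
theorem F432045 : act 2 n204324 = n203044 := d2_1 D204324 (iv5 D203044) F321907
theorem F432046 : act 4 n204324 = n195483 := d9_1 D204324 F397120 F330602 (iv5 D141722) F102354 (iv5 F318782) (iv4 F85552) D117700 (iv4 F397123) (iv5 F397124) D201965 F423335 F423331 (iv5 F341179) F309419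
theorem F432047 : act 6 n204324 = n203725 := d12_2 D123532 D204324 (iv5 D203725) (iv6 D120390) F106842
theorem F432048 : act 7 n204324 = n203116 := d13_2 (iv7 F349480) D204324 (iv5 D203116)
theorem F432049 : act 1 n204324 = n203128 := d17_6 (iv1 F319166) F181970 (iv1 F320931) (iv5 F341179) F309419 D204324 F427070 (iv0 F359464) (iv4 D142664)
theorem F432050 : act 1 n203129 = n204324 := d15_1 D203129 F432048 F427034
theorem F432051 : act 4 n202341 = n203129 := d18_5 (iv1 F179734) (iv4 F179841) F181516 D115638 D202341 F432050 F432046 F414634 F414630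
def n204325 : Q := act 0 n123534
theorem D204325 : act 0 n123534 = n204325 := rfl
theorem F432052 : act 5 n204325 = n142079 := d17_1 D204325 F359172 (iv5 F234593) (iv4 D146956) (iv5 F331639) (iv0 F210279) F335197 (iv0 D123535) (iv4 F197964)
theorem F432053 : act 4 n204325 = n187202 := d20_2 (iv4 F197964) D204325 F369469 F345953 (iv3 F328075) F328076 (iv1 F235080) D202893 F426075 (iv1 D123536)
theorem F432054 : act 3 n204325 = n142087 := d20_5 (iv4 D134375) F328723 (iv4 F197780) (iv3 F197963) D204325 (iv4 F429841) (iv1 F429846) (iv4 F382182) (iv3 F429134) F429138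
theorem F432055 : act 6 n204325 = n144966 := d21_5 F159131 F148599 F125560 D123534 D204325 (iv5 F330013) D202482 F425941 (iv6 D201511) F178796
theorem F432056 : act 2 n191072 = n204325 := d3_3 F432055 (iv2 F397487) F397490
def n204326 : Q := act 1 n123534
theorem D204326 : act 1 n123534 = n204326 := rfl
theorem F432057 : act 7 n204326 = n191072 := d15_2 (iv0 D204325) D204326 F432056
theorem F432058 : act 4 n203090 = n204326 := d20_0 (iv1 D204326) F197964 F90735 (iv1 F328727) (iv3 F172412) F332234 (iv1 F316071) F316072 D175389 F426925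
theorem F432059 : act 3 n141498 = n204326 := d20_3 (iv4 F334946) (iv1 F232541) (iv4 F334928) (iv1 D204326) F197963 F197780 (iv1 F328722) D134363 (iv3 F379410) F379412
theorem F432060 : act 6 n203083 = n204326 := d21_3 F104025 D131457 (iv5 F426902) (iv1 D204326) (iv6 D123534) (iv5 F125560) F196432 (iv5 F198255) F341996 (iv1 D144905)
theorem F432061 : act 5 n204326 = n141496 := d12_1 F432060 F360157 F337163 (iv6 F337043) (iv5 F426902)
def n204327 : Q := act 5 n123534
theorem D204327 : act 5 n123534 = n204327 := rfl
theorem F432062 : act 3 n204327 = n204283 := d6_1 D204327 (iv5 D204283) (iv3 F197963)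
theorem F432063 : act 0 n204327 = n160239 := d18_0 F253029 F315585 F313192 D146979 F336909 (iv0 F369471) (iv4 F432053) (iv0 D204325) D204327
def n204328 : Q := act 7 n123534
theorem D204328 : act 7 n123534 = n204328 := rfl
theorem F432064 : act 3 n204328 = n191075 := d8_1 D204328 F382117 (iv3 F197963)
theorem F432065 : act 4 n204328 = n123538 := d11_1 D204328 (iv7 D123538) (iv4 F197964)
def n204329 : Q := act 6 n123536
theorem D204329 : act 6 n123536 = n204329 := rfl
theorem F432066 : act 2 n204329 = n199375 := d3_1 D204329 (iv6 D199375) F356860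
theorem F432067 : act 3 n204329 = n203048 := d7_1 D204329 F426772 F426075
theorem F432068 : act 4 n204329 = n130891 := d10_1 D204329 (iv6 F314054) F352577
theorem F432069 : act 7 n204329 = n203057 := d14_2 (iv7 F356859) D204329 F426819 F184891 (iv6 F356571)
theorem F432070 : act 0 n187441 = n204329 := d21_4 (iv5 D143090) (iv1 F349479) (iv5 F349478) (iv6 F370330) (iv6 D204329) (iv5 F356861) F210275 (iv5 F98421) D134425 F353339
def n204330 : Q := act 5 n123540
theorem D204330 : act 5 n123540 = n204330 := rfl
theorem F432071 : act 2 n204330 = n154261 := d2_1 D204330 (iv5 D154261) (iv2 F359908)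
theorem F432072 : act 3 n204330 = n123542 := d6_1 D204330 (iv5 D123542) D123540
theorem F432073 : act 7 n204330 = n154266 := d13_2 (iv7 F359909) D204330 (iv5 D154266)
theorem F432074 : act 0 n204330 = n152026 := d17_2 (iv1 F252390) D204330 (iv5 D152026) F108160 (iv5 F55464) D76594 (iv5 F307790) F238694 (iv4 F109594)
theorem F432075 : act 1 n204330 = n191975 := d17_6 (iv1 F166799) F78859 (iv1 F106207) D148902 F308763 D204330 (iv5 D191975) (iv0 F335222) F239040
def n204331 : Q := act 0 n123541
theorem D204331 : act 0 n123541 = n204331 := rfl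
theorem F432076 : act 5 n204331 = n155898 := d17_1 D204331 F385428 F385425 F284948 (iv5 F366480) F388039 F388037 F197948 D123541
theorem F432077 : act 4 n204331 = n154118 := d18_1 D204331 (iv1 D154118) F190976 F314092 (iv4 F200883) F366286 (iv4 F404605) (iv0 F404606) F344014
theorem F432078 : act 3 n204331 = n155900 := d20_5 (iv4 F132825) (iv1 F307641) F344012 (iv3 F344013) D204331 (iv4 F333712) (iv1 F255193) (iv4 F316601) F316600 F267395
theorem F432079 : act 1 n123546 = n204331 := d15_0 (iv0 D204331) (iv7 F432033) F432030
theorem F432080 : act 6 n186688 = n204331 := d7_0 F432078 F244891 (iv3 F367680)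
def n204332 : Q := act 6 n123541
theorem D204332 : act 6 n123541 = n204332 := rfl
theorem F432081 : act 3 n204332 = n127931 := d7_1 D204332 (iv6 F344017) (iv3 F344013)
theorem F432082 : act 4 n204332 = n123543 := d10_1 D204332 (iv6 D123543) D123541
theorem F432083 : act 5 n204332 = n202497 := d12_1 D204332 (iv6 D202497) (iv5 F180376) D116129 F344014
theorem F432084 : act 7 n204332 = n131258 := d14_2 F432033 D204332 F236173 (iv7 F383613) (iv6 F432032)
theorem F432085 : act 0 n204332 = n127853 := d21_4 (iv5 F424837) (iv1 D202631) F344014 D204332 (iv6 D127853) (iv5 D60046) (iv1 F83572) F83569 D107940 F386538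
def n204333 : Q := act 0 n123542
theorem D204333 : act 0 n123542 = n204333 := rfl
theorem F432086 : act 5 n204333 = n143796 := d17_3 D57577 D123542 D204333 (iv4 D143796) (iv5 D67353) F325041 (iv5 F320424) (iv0 F121503) F90731
theorem F432087 : act 2 n171027 = n204333 := d15_3 (iv0 D204333) (iv0 F430765) F430764
theorem F432088 : act 1 n123547 = n204333 := d15_0 (iv0 D204333) (iv7 F432037) F432035
theorem F432089 : act 7 n204333 = n192852 := d15_2 F430766 F432088 (iv2 F430762)
theorem F432090 : act 3 n192830 = n204333 := d8_3 F432089 F388026 (iv7 F387937)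
theorem F432091 : act 6 n204333 = n144444 := d7_2 F424988 F432090 (iv3 F424986)
theorem F432092 : act 4 n144435 = n204333 := d10_3 F432091 (iv4 D144444) (iv6 F227235)
def n204334 : Q := act 4 n123542
theorem D204334 : act 4 n123542 = n204334 := rfl
def n204335 : Q := act 6 n123542
theorem D204335 : act 6 n123542 = n204335 := rfl
theorem F432093 : act 0 n204335 = n192864 := d21_4 (iv5 D57579) D57577 D123542 D204335 (iv6 D192864) (iv5 D100862) (iv1 F157772) F365340 F366479 (iv1 D123550)
def n204336 : Q := act 5 n123543
theorem D204336 : act 5 n123543 = n204336 := rfl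
theorem F432094 : act 2 n204336 = n204087 := d2_1 D204336 F431032 (iv2 F428387)
theorem F432095 : act 3 n204336 = n192887 := d6_1 D204336 F388107 (iv3 F361928)
theorem F432096 : act 7 n204336 = n204086 := d13_2 F385410 D204336 F431030
theorem F432097 : act 0 n204336 = n204082 := d17_2 (iv1 F361927) D204336 (iv5 D204082) (iv4 F315556) (iv5 D117822) (iv0 F317781) F315549 F309777 (iv4 F302804)
theorem F432098 : act 0 n170646 = n204336 := d19_0 (iv5 D204336) (iv4 F432082) F432081 (iv1 D127931) F317610 (iv4 F317598) F163379 (iv1 F335783) (iv5 F372613) F372612 F140104 F291473 F369212 (iv4 F430838) (iv3 D204020) F302099 (iv5 F268100) (iv4 D170647) (iv3 F268097)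
def n204337 : Q := act 5 n123545
theorem D204337 : act 5 n123545 = n204337 := rfl
theorem F432099 : act 3 n204337 = n123547 := d6_1 D204337 (iv5 D123547) D123545
theorem F432100 : act 4 n204337 = n179170 := d18_5 F197066 (iv4 F242117) F361938 (iv4 F361937) D204337 F338994 F348336 (iv0 F408885) F408882
theorem F432101 : act 6 n204337 = n141391 := d21_3 (iv5 F384323) (iv1 F384325) D204337 (iv1 D141391) (iv6 D66333) D66332 (iv1 F223159) (iv5 D139930) D139931 F351437
def n204338 : Q := act 4 n123547
theorem D204338 : act 4 n123547 = n204338 := rfl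
theorem F432102 : act 5 n204338 = n200420 := d16_1 D204338 F416354 (iv5 F355199) F181805 F344014 (iv4 D123541) D123542 (iv7 F432037) F432035
theorem F432103 : act 3 n204338 = n200424 := d19_3 (iv1 F197947) D123547 D204338 F416372 (iv5 F404345) (iv4 D197444) (iv3 F221393) F221395 (iv5 F247354) F247353 F326319 (iv1 F389167) F389165 F253122 F248867 (iv1 F112805) D75691 D158685 F356148
def n204339 : Q := act 5 n123548
theorem D204339 : act 5 n123548 = n204339 := rfl
theorem F432104 : act 6 n204339 = n193436 := d12_2 D123548 D204339 F430768 (iv6 F424324) (iv5 D123547)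
theorem F432105 : act 1 n204339 = n133592 := d17_6 (iv1 D131490) F96308 D70615 D150078 (iv4 F346682) D204339 (iv5 D133592) (iv0 F351918) F351921
def n204340 : Q := act 4 n123549
theorem D204340 : act 4 n123549 = n204340 := rfl
theorem F432106 : act 6 n204340 = n198071 := d10_2 (iv6 F366484) D204340 (iv4 D198071)
theorem F432107 : act 0 n204340 = n192377 := d18_2 D123549 D204340 (iv4 D192377) F346705 (iv4 F432077) (iv0 D204331) (iv4 D123541) (iv0 D57577) D57579
theorem F432108 : act 1 n204340 = n156271 := d18_6 D87880 D184242 F351945 (iv4 F214905) (iv5 F366483) D204340 F384818 (iv0 D184245) (iv5 D87882)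
def n204341 : Q := act 0 n123551
theorem D204341 : act 0 n123551 = n204341 := rfl
theorem F432109 : act 4 n204341 = n157478 := d18_3 (iv1 D123550) D123551 D204341 (iv5 D157478) F112469 D74935 (iv4 F307746) (iv0 F335235) (iv5 F366480)
theorem F432110 : act 6 n204341 = n195343 := d21_5 (iv5 F403940) F403977 F403973 F365422 D204341 F396768 (iv1 F363488) F364295 F215917 (iv1 F403939)
theorem F432111 : act 7 n184247 = n204341 := d14_0 F432110 (iv7 F396770) (iv6 F364962) (iv7 D184258) (iv6 F286176)
theorem F432112 : act 0 n204341 = n195439 := d21_4 (iv5 F396824) F396827 (iv5 F396768) (iv6 F432110) (iv6 D195439) (iv5 D105594) D105591 (iv5 F400470) (iv6 F403810) (iv1 D195412)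
def n204342 : Q := act 1 n123551
theorem D204342 : act 1 n123551 = n204342 := rfl
theorem F432113 : act 1 n204342 = n195439 := d15_1 D204342 (iv7 F432042) F432041
theorem F432114 : act 4 n204342 = n150124 := d18_7 F345817 (iv4 F244089) (iv1 D123529) F90731 D57579 D123551 D204342 F386607 F386605
theorem F432115 : act 3 n140678 = n204342 := d20_3 F401203 (iv1 F223762) D140678 (iv1 D204342) F365423 (iv4 F162143) (iv1 D49494) (iv4 F78244) (iv3 F165112) D196600
theorem F432116 : act 2 n184247 = n204342 := d1_3 F432114 F236290 D184247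
theorem F432117 : act 6 n184236 = n204342 := d10_0 F432114 F236292 D184236
def n204343 : Q := act 5 n123551
theorem D204343 : act 5 n123551 = n204343 := rfl
theorem F432118 : act 3 n204343 = n195404 := d6_1 D204343 (iv5 D195404) (iv3 F365423)
theorem F432119 : act 4 n204343 = n200448 := d16_2 D123551 D204343 F416461 F385690 F314879 (iv4 F317092) (iv5 F388037) F388038 F197944
def n204344 : Q := act 7 n123551
theorem D204344 : act 7 n123551 = n204344 := rfl
theorem F432120 : act 2 n204344 = n195439 := d4_1 D204344 (iv7 F432042) F432041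
theorem F432121 : act 3 n204344 = n195296 := d8_1 D204344 F396617 (iv3 F365423)
theorem F432122 : act 4 n204344 = n123552 := d11_1 D204344 (iv7 D123552) D123551
theorem F432123 : act 6 n204344 = n195435 := d14_1 D204344 (iv7 F403760) (iv6 D197260) (iv7 F219998) F365422
theorem F432124 : act 1 n184247 = n204344 := d15_1 F432043 (iv7 D204344) (iv2 F432041)
def n204345 : Q := act 6 n123552
theorem D204345 : act 6 n123552 = n204345 := rfl
theorem F432125 : act 2 n204345 = n195438 := d3_1 D204345 (iv6 F396997) F388036
theorem F432126 : act 3 n204345 = n123576 := d7_1 D204345 (iv6 D123576) (iv3 F197971)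
theorem F432127 : act 4 n204345 = n195435 := d10_1 D204345 (iv6 F432123) F432122
theorem F432128 : act 7 n204345 = n134971 := d14_2 D123552 D204345 F217188 (iv7 F100751) (iv6 F329437)
theorem F432129 : act 4 n138101 = n195387 := d20_6 F223601 (iv1 F223604) F329406 (iv3 F329080) (iv1 D138114) (iv3 F221322) (iv1 F403888) (iv4 F432127) F432126 F329230
def n204346 : Q := act 5 n123580
theorem D204346 : act 5 n123580 = n204346 := rfl
theorem F432130 : act 2 n204346 = n192776 := d2_1 D204346 F387719 (iv2 F197998)
theorem F432131 : act 3 n204346 = n193015 := d6_1 D204346 F388520 F252685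
theorem F432132 : act 6 n204346 = n123583 := d12_2 D123580 D204346 (iv5 D123583) (iv6 D57603) D57602
theorem F432133 : act 4 n204346 = n136906 := d16_2 (iv4 F197999) D204346 (iv5 D136906) (iv4 F220079) F220080 F178900 (iv5 F144692) F144693 (iv2 F161823)
theorem F432134 : act 0 n204346 = n191997 := d17_2 (iv1 F347683) D204346 F385148 (iv4 F366174) (iv5 D164302) (iv0 F337871) (iv5 D114114) D114113 F347685
theorem F432135 : act 1 n204346 = n123886 := d15_1 (iv0 F432134) (iv7 F431464) F431461
theorem F432136 : act 1 n123886 = n194689 := d15_1 F432135 F394098 (iv2 F432130)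
def n204347 : Q := act 6 n123597
theorem D204347 : act 6 n123597 = n204347 := rfl
theorem F432137 : act 2 n204347 = n155093 := d3_1 D204347 (iv6 D155093) (iv2 F198013)
theorem F432138 : act 3 n204347 = n123598 := d7_1 D204347 (iv6 D123598) D123597
theorem F432139 : act 4 n204347 = n146910 := d10_1 D204347 F305943 (iv4 F198014)
theorem F432140 : act 5 n204347 = n203556 := d12_1 D204347 (iv6 F428864) F422846 (iv6 D201569) (iv5 F198015)
theorem F432141 : act 7 n204347 = n173359 := d14_2 F241960 D204347 (iv6 F362982) F209617 F335252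
theorem F432142 : act 0 n172006 = n204347 := d21_4 F307223 F305274 F136973 D172006 (iv6 D204347) F198015 F197300 (iv5 F306206) F306207 (iv1 F151561)
def n204348 : Q := act 5 n123600
theorem D204348 : act 5 n123600 = n204348 := rfl
theorem F432143 : act 2 n204348 = n174738 := d2_1 D204348 F273570 (iv2 F331908)
theorem F432144 : act 7 n204348 = n173352 := d13_2 (iv7 F331910) D204348 (iv5 D173352)
theorem F432145 : act 0 n204348 = n158585 := d17_2 (iv1 F331907) D204348 (iv5 D158585) (iv4 F249761) F389496 F389493 F156298 F156283 F331913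
theorem F432146 : act 4 n204348 = n195932 := d18_5 D101467 (iv4 F308241) (iv1 F241968) F241969 D204348 F401963 F415393 (iv0 D193340) (iv5 D101469)
theorem F432147 : act 0 n150549 = n204348 := d21_10 (iv5 D204348) (iv1 D123600) D123601 (iv6 F345587) (iv1 F345570) (iv6 F417949) (iv5 D200799) (iv1 D113481) D113482 F344752
def n204349 : Q := act 0 n123601
theorem D204349 : act 0 n123601 = n204349 := rfl
theorem F432148 : act 3 n204349 = n130524 := d20_5 (iv4 F328702) F328700 (iv4 D160605) (iv3 F198018) D204349 (iv4 D130524) (iv1 F99721) F328145 F129232 (iv1 F301022)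
theorem F432149 : act 6 n204349 = n136771 := d21_5 (iv5 F334746) (iv1 F272151) (iv5 F275320) F345587 D204349 (iv5 F349893) (iv1 D128512) (iv5 D60442) (iv6 F94945) (iv1 F319235)
theorem F432150 : act 5 n204349 = n130440 := d21_0 (iv1 D130440) (iv5 F323659) (iv6 D127215) (iv1 F163560) (iv6 F176259) (iv5 F334746) (iv1 F272151) (iv5 F275320) F345587 D204349
theorem F432151 : act 2 n176111 = n204349 := d15_3 (iv0 D204349) (iv0 F383306) F383305
theorem F432152 : act 1 n155663 = n204349 := d15_0 (iv0 D204349) F302340 (iv2 F344761)
theorem F432153 : act 7 n204349 = n176110 := d15_2 F383307 F432152 (iv2 F383303)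
theorem F432154 : act 4 n157168 = n204349 := d11_3 F432153 (iv4 F410646) F410647
def n204350 : Q := act 4 n123601
theorem D204350 : act 4 n123601 = n204350 := rfl
theorem F432155 : act 2 n204350 = n153695 := d1_1 D204350 F241569 (iv2 F345588)
theorem F432156 : act 3 n204350 = n193855 := d5_1 D204350 (iv4 D193855) (iv3 F363857) (iv4 D160605) (iv3 F198018)
theorem F432157 : act 7 n204350 = n176112 := d11_2 (iv7 F302340) D204350 (iv4 D176112)
theorem F432158 : act 1 n204350 = n194556 := d18_6 F334416 F156294 F301993 (iv4 F90760) D123601 D204350 F393684 F392794 (iv5 F343420)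
theorem F432159 : act 0 n204350 = n194555 := d20_7 D203506 F428615 F423103 F240161 F301009 (iv3 F198018) D204350 F393680 F392787 (iv1 F359982)
def n204351 : Q := act 5 n123603
theorem D204351 : act 5 n123603 = n204351 := rfl
theorem F432160 : act 3 n204351 = n203039 := d6_1 D204351 F426736 F337284
theorem F432161 : act 6 n204351 = n175769 := d12_2 D123603 D204351 (iv5 F303369) (iv6 D120409) (iv5 F90761)
theorem F432162 : act 7 n204351 = n203036 := d13_2 (iv7 F338496) D204351 (iv5 D203036)
theorem F432163 : act 0 n204351 = n146934 := d17_2 F355610 D204351 (iv5 D146934) F105065 D145920 (iv0 F355667) F176072 F355819 (iv4 F355822)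
theorem F432164 : act 1 n204351 = n203750 := d17_6 (iv1 D102778) F74939 D47759 D103010 F355645 D204351 F429682 F370345 F377180
def n204352 : Q := act 3 n123606
theorem D204352 : act 3 n123606 = n204352 := rfl
theorem F432165 : act 2 n204352 = n154191 := d0_1 D204352 (iv3 F368376) F216526 (iv3 F216578) F364188
theorem F432166 : act 4 n204352 = n189844 := d5_2 F361070 D204352 (iv3 F377971) (iv4 D150009) D150008
theorem F432167 : act 5 n204352 = n198985 := d6_2 F368899 D204352 (iv3 D198985)
theorem F432168 : act 7 n204352 = n154190 := d8_2 F419399 D204352 (iv3 F419398)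
theorem F432169 : act 0 n204352 = n154181 := d20_4 (iv4 F422240) F422239 F361070 D204352 F242297 F114531 (iv1 F177473) D120115 F336933 (iv1 F419873)
theorem F432170 : act 0 n154193 = n204352 := d20_4 D153985 F349797 F206276 (iv3 F242310) (iv3 D204352) (iv4 F361070) F336931 (iv4 F324635) F109356 D72868
theorem F432171 : act 6 n204352 = n186915 := d21_3 (iv5 F367303) F410178 (iv5 F432167) (iv1 D186915) (iv6 D89377) F64374 (iv1 F62393) (iv5 F63937) D88866 D186578
theorem F432172 : act 2 n186915 = n193976 := d3_1 F432171 (iv6 F391570) (iv2 F432165)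
theorem F432173 : act 7 n193975 = n186915 := d15_2 F391568 F391575 F432172
theorem F432174 : act 7 n186914 = n193976 := d15_2 F391576 F391577 (iv2 F432172)
theorem F432175 : act 2 n193975 = n186914 := d4_3 F432174 (iv2 F432172) (iv7 F432173)
def n204353 : Q := act 6 n123606
theorem D204353 : act 6 n123606 = n204353 := rfl
theorem F432176 : act 3 n204353 = n186915 := d7_1 D204353 (iv6 F432171) (iv3 D204352)
theorem F432177 : act 4 n204353 = n201579 := d10_1 D204353 (iv6 F421007) F361070
theorem F432178 : act 0 n204353 = n186901 := d21_4 (iv5 F394444) (iv1 F394449) F368899 D204353 (iv6 D186901) F357146 (iv1 F156944) F156941 D186961 F370358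
theorem F432179 : act 1 n204353 = n203119 := d15_1 (iv0 F432178) F427050 (iv2 F368458)
def n204354 : Q := act 5 n123619
theorem D204354 : act 5 n123619 = n204354 := rfl
theorem F432180 : act 3 n204354 = n203219 := d6_1 D204354 F427456 (iv3 F338732)
theorem F432181 : act 7 n204354 = n203215 := d13_2 F374921 D204354 F427443
theorem F432182 : act 0 n204354 = n130438 := d17_2 D123619 D204354 F366668 D193347 (iv5 F389538) F387788 (iv5 F374739) F374742 (iv4 D123621)
theorem F432183 : act 1 n204354 = n160324 := d17_6 (iv1 F396025) F161539 D187829 F374918 (iv4 F374920) D204354 (iv5 F304190) (iv0 D101481) D101483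
def n204355 : Q := act 5 n123621
theorem D204355 : act 5 n123621 = n204355 := rfl
theorem F432184 : act 2 n204355 = n201671 := d2_1 D204355 F421325 (iv2 F374725)
theorem F432185 : act 3 n204355 = n130668 := d6_1 D204355 (iv5 D130668) (iv3 F365364)
theorem F432186 : act 6 n204355 = n201667 := d12_2 (iv6 F365365) D204355 (iv5 D201667) (iv6 F357122) (iv5 D130664)
def n204356 : Q := act 4 n123637
theorem D204356 : act 4 n123637 = n204356 := rfl
theorem F432187 : act 2 n204356 = n154021 := d1_1 D204356 (iv4 F242089) (iv2 F198037)
theorem F432188 : act 3 n204356 = n128678 := d5_1 D204356 F211348 (iv3 F164882) (iv4 F329108) D123637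
theorem F432189 : act 6 n204356 = n189785 := d10_2 (iv6 F306922) D204356 (iv4 D189785)
theorem F432190 : act 7 n204356 = n154022 := d11_2 (iv7 F198036) D204356 F242048
theorem F432191 : act 0 n204356 = n154025 := d17_0 F398007 F398009 (iv5 F389067) F389066 F156039 F304955 (iv5 F109592) (iv0 F240102) D204356
theorem F432192 : act 1 n204356 = n124725 := d18_6 (iv1 F242044) F112583 (iv1 F190126) (iv4 F240122) F240123 D204356 (iv4 D124725) D124724 (iv5 F240981)
def n204357 : Q := act 5 n123638
theorem D204357 : act 5 n123638 = n204357 := rfl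
theorem F432193 : act 3 n204357 = n154443 := d6_1 D204357 F310362 F366836
theorem F432194 : act 6 n204357 = n124032 := d12_2 D123638 D204357 (iv5 F304030) F304031 (iv5 F125737)
theorem F432195 : act 0 n204357 = n134217 := d17_2 (iv1 F363082) D204357 (iv5 D134217) F98369 F80562 F101912 D129091 (iv0 F207323) (iv4 F217114)
theorem F432196 : act 1 n204357 = n197628 := d17_6 (iv1 D30002) F23766 D30001 D63534 (iv4 F329430) D204357 (iv5 D197628) F167785 (iv4 D63538)
theorem F432197 : act 4 n177985 = n204357 := d10_3 F432194 F303655 D177985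
theorem F432198 : act 0 n135210 = n177985 := d18_2 (iv1 D135209) D135210 F432197 (iv5 D204357) F329430 (iv0 F164113) (iv4 F214253) (iv0 F383566) F383563
def n204358 : Q := act 4 n123639
theorem D204358 : act 4 n123639 = n204358 := rfl
theorem F432199 : act 3 n204358 = n129439 := d5_1 D204358 F214084 (iv3 D133240) (iv4 F329109) D123639
theorem F432200 : act 5 n204358 = n129439 := d16_3 (iv4 F303726) F303727 D204358 F214084 (iv5 F405003) (iv4 F428748) F428749 F403078 F270741
theorem F432201 : act 0 n204358 = n129684 := d17_0 (iv5 D129684) F166285 D126581 F344985 (iv5 D101261) D101260 D193169 (iv0 F389023) D204358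
theorem F432202 : act 0 n129678 = n204358 := d20_7 D57637 D123641 F198044 F366873 (iv1 D98525) (iv3 F151913) (iv4 F332374) (iv4 D204358) (iv3 D123639) (iv1 D57636)
def n204359 : Q := act 6 n123639
theorem D204359 : act 6 n123639 = n204359 := rfl
theorem F432203 : act 3 n204359 = n123640 := d7_1 D204359 (iv6 D123640) D123639
theorem F432204 : act 5 n204359 = n204044 := d12_1 D204359 (iv6 D204044) (iv5 D122460) D122461 F303727
theorem F432205 : act 0 n137392 = n204359 := d21_4 F409978 (iv1 D135953) (iv5 F100519) D137392 (iv6 D204359) (iv5 F303727) D204045 F430881 F346169 (iv1 F409976)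
def n204360 : Q := act 0 n123643
theorem D204360 : act 0 n123643 = n204360 := rfl
theorem F432206 : act 5 n204360 = n137435 := d17_1 D204360 (iv1 F390639) (iv5 D132565) F99107 D135562 (iv0 F428424) F428422 F214096 (iv4 F329391)
theorem F432207 : act 4 n204360 = n133446 := d18_1 D204360 (iv1 F214588) F209222 F99121 (iv4 F328967) F328966 F216992 (iv0 D134832) (iv5 F329392)
theorem F432208 : act 3 n204360 = n128653 := d20_5 (iv4 F329109) (iv1 D57636) D57637 D123643 D204360 (iv4 F217066) (iv1 F217076) F217073 F98698 (iv1 F98308)
theorem F432209 : act 6 n204360 = n201057 := d21_5 F45148 F48131 (iv5 F93557) (iv6 F329393) D204360 (iv5 D201057) F327839 F93590 (iv6 D59333) (iv1 F45572)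
theorem F432210 : act 2 n128682 = n204360 := d15_3 (iv0 D204360) F329389 F211975
theorem F432211 : act 1 n128751 = n204360 := d15_0 (iv0 D204360) F329394 F211284
theorem F432212 : act 7 n204360 = n128750 := d15_2 F214098 F432211 (iv2 F211976)
def n204361 : Q := act 4 n123657
theorem D204361 : act 4 n123657 = n204361 := rfl
theorem F432213 : act 2 n204361 = n154284 := d1_1 D204361 (iv4 D154284) (iv2 F198065)
theorem F432214 : act 6 n204361 = n123662 := d10_2 (iv6 F198066) D204361 (iv4 D123662)
theorem F432215 : act 5 n204361 = n199387 := d16_1 D204361 (iv4 D199387) F172561 F166262 D107658 F329468 (iv5 F242386) (iv7 D154285) (iv2 F198065)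
theorem F432216 : act 0 n204361 = n153914 := d17_0 (iv5 D153914) D153912 (iv5 F411855) (iv4 D199362) D199363 (iv0 F411863) F411654 F354239 D204361
def n204362 : Q := act 4 n123659
theorem D204362 : act 4 n123659 = n204362 := rfl
theorem F432217 : act 2 n204362 = n154140 := d1_1 D204362 (iv4 D154140) (iv2 F198072)
theorem F432218 : act 3 n204362 = n203497 := d5_1 D204362 (iv4 F428563) (iv3 F423803) (iv4 F431294) F431293
theorem F432219 : act 5 n204362 = n133075 := d9_2 D123659 D204362 F213724 F97314 (iv4 F305681) (iv5 D55133) F310326 D101349 D193201 F389161 F213680 F97304 (iv4 F309702) (iv5 D58275) (iv4 F190552)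
theorem F432220 : act 6 n204362 = n155707 := d10_2 F358761 D204362 F358754
theorem F432221 : act 7 n204362 = n133074 := d11_2 (iv7 F198073) D204362 F334212
theorem F432222 : act 0 n204362 = n161173 := d17_0 F302720 (iv1 F331974) (iv5 D126800) F329714 F304421 F74384 D101210 F332022 D204362
theorem F432223 : act 1 n204362 = n184286 := d18_6 (iv1 D58269) F44819 D27759 (iv4 F190552) D123659 D204362 (iv4 D184286) (iv0 F312387) (iv5 D124691)
def n204363 : Q := act 4 n123668
theorem D204363 : act 4 n123668 = n204363 := rfl
def n204364 : Q := act 6 n123672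
theorem D204364 : act 6 n123672 = n204364 := rfl
theorem F432224 : act 2 n204364 = n154224 := d3_1 D204364 (iv6 D154224) (iv2 F349798)
theorem F432225 : act 5 n204364 = n194673 := d12_1 D204364 (iv6 D194673) D194672 F394031 F349804
theorem F432226 : act 0 n204364 = n186837 := d21_4 F349806 (iv1 F168768) F349804 D204364 (iv6 D186837) F136956 F291458 D87110 F329137 D134130
theorem F432227 : act 0 n123718 = n194673 := d21_1 D123718 (iv5 F432225) (iv6 D204364) (iv1 D123672) (iv6 D57654) (iv5 D27542) (iv1 D13168) D13170 D27549 D57672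
theorem F432228 : act 1 n204364 = n188429 := d15_1 (iv0 F432226) (iv7 D188429) (iv2 F368199)
def n204365 : Q := act 4 n123678
theorem D204365 : act 4 n123678 = n204365 := rfl
theorem F432229 : act 2 n204365 = n154022 := d1_1 D204365 F242048 (iv2 F240100)
theorem F432230 : act 7 n204365 = n154021 := d11_2 F240101 D204365 (iv4 F242089)
theorem F432231 : act 5 n204365 = n201522 := d16_1 D204365 (iv4 D201522) (iv5 D114758) F190164 (iv5 F108593) (iv4 F240122) F240123 F198036 (iv2 F240100)
theorem F432232 : act 0 n204365 = n124725 := d17_0 (iv5 F398124) (iv1 F398125) F330397 (iv4 D88102) (iv5 D41135) (iv0 F302513) D57657 D123678 D204365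
theorem F432233 : act 1 n204365 = n154025 := d18_6 F311650 (iv4 F304665) F200525 (iv4 F240098) F240099 D204365 F242049 F199559 (iv5 F241545)
theorem F432234 : act 3 n204365 = n201120 := d20_3 F242344 (iv1 F198109) D204365 (iv1 D201120) F177298 D113959 D201135 F419217 F357319 (iv1 F242346)
theorem F432235 : act 6 n200689 = n204365 := d7_0 F432234 (iv6 F419163) F417509
def n204366 : Q := act 6 n123678
theorem D204366 : act 6 n123678 = n204366 := rfl
theorem F432236 : act 2 n204366 = n154231 := d3_1 D204366 (iv6 D154231) (iv2 F240100)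
theorem F432237 : act 4 n204366 = n200689 := d10_1 D204366 F432235 (iv4 D204365)
theorem F432238 : act 5 n204366 = n195016 := d12_1 D204366 F395427 (iv5 D152889) D152890 F240099
theorem F432239 : act 7 n204366 = n189784 := d14_2 F240101 D204366 (iv6 D189784) (iv7 F358610) (iv6 D154230)
def n204367 : Q := act 4 n123681
theorem D204367 : act 4 n123681 = n204367 := rfl
theorem F432240 : act 2 n204367 = n123717 := d1_1 D204367 (iv4 D123717) (iv2 F354950)
theorem F432241 : act 3 n204367 = n159721 := d5_1 D204367 (iv4 D159721) (iv3 D76413) D76414 (iv3 F352397)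
theorem F432242 : act 6 n204367 = n146751 := d10_2 F368245 D204367 (iv4 F368241)
theorem F432243 : act 7 n204367 = n123722 := d11_2 (iv7 F354951) D204367 (iv4 D123722)
theorem F432244 : act 0 n204367 = n184836 := d18_2 D123681 D204367 F354075 (iv5 F393076) F393079 F373301 F373299 (iv0 F366877) (iv5 D123683)
theorem F432245 : act 5 n204367 = n179121 := d18_4 (iv1 D60274) (iv4 F90830) D123681 D204367 (iv4 F392494) F392501 D194359 (iv0 F392940) F347138
theorem F432246 : act 0 n127901 = n204367 := d21_10 F432245 (iv1 F392933) (iv5 D147737) (iv6 F347339) (iv1 D128144) (iv6 D60232) (iv5 D28626) (iv1 F46185) (iv5 F94638) D127901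
def n204368 : Q := act 5 n123681
theorem D204368 : act 5 n123681 = n204368 := rfl
theorem F432247 : act 2 n204368 = n123718 := d2_1 D204368 (iv5 D123718) (iv2 F354950)
theorem F432248 : act 3 n204368 = n159727 := d6_1 D204368 (iv5 D159727) (iv3 F352397)
theorem F432249 : act 6 n204368 = n193274 := d12_2 F368245 D204368 (iv5 D193274) F368248 (iv5 F368244)
theorem F432250 : act 7 n204368 = n123723 := d13_2 (iv7 F354951) D204368 (iv5 D123723)
def n204369 : Q := act 5 n123682
theorem D204369 : act 5 n123682 = n204369 := rfl
theorem F432251 : act 2 n204369 = n123723 := d2_1 D204369 (iv5 D123723) (iv2 F354952)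
theorem F432252 : act 6 n204369 = n184595 := d12_2 F411850 D204369 (iv5 F345612) (iv6 F345615) D199360
theorem F432253 : act 7 n204369 = n123718 := d13_2 (iv7 F354953) D204369 (iv5 D123718)
theorem F432254 : act 4 n197819 = n204369 := d10_3 F432252 F345614 D197819
def n204370 : Q := act 4 n123683
theorem D204370 : act 4 n123683 = n204370 := rfl
theorem F432255 : act 2 n204370 = n123727 := d1_1 D204370 (iv4 D123727) (iv2 F198117)
theorem F432256 : act 3 n204370 = n200940 := d5_1 D204370 F418445 (iv3 F418395) (iv4 F431326) F431324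
theorem F432257 : act 6 n204370 = n123694 := d10_2 (iv6 F198118) D204370 (iv4 D123694)
theorem F432258 : act 7 n204370 = n188426 := d11_2 (iv7 F359721) D204370 (iv4 D188426)
theorem F432259 : act 0 n204370 = n184082 := d20_1 D204370 F286024 (iv3 F154507) D192607 F387229 (iv4 F400454) (iv1 F372049) (iv4 F331083) F159480 (iv1 F366878)
def n204371 : Q := act 3 n123694
theorem D204371 : act 3 n123694 = n204371 := rfl
theorem F432260 : act 4 n204371 = n196151 := d5_2 D123694 D204371 (iv3 F431339) (iv4 D204174) F197286
theorem F432261 : act 6 n204371 = n200940 := d7_2 F432257 D204371 (iv3 F432256)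
theorem F432262 : act 7 n196150 = n204371 := d14_0 F432261 (iv7 D200940) F176815 (iv7 F164449) (iv6 F399627)
def n204372 : Q := act 5 n123694
theorem D204372 : act 5 n123694 = n204372 := rfl
theorem F432263 : act 2 n204372 = n123772 := d2_1 D204372 (iv5 D123772) (iv2 F198155)
theorem F432264 : act 4 n204372 = n124884 := d16_2 D123694 D204372 F200563 F92222 F44873 (iv4 F44459) (iv5 F90871) (iv7 D57689) (iv2 F90832)
theorem F432265 : act 7 n124882 = n204372 := d11_0 F432264 (iv7 D124884) D124882
def n204373 : Q := act 7 n123694
theorem D204373 : act 7 n123694 = n204373 := rfl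
theorem F432266 : act 2 n204373 = n123773 := d4_1 D204373 (iv7 D123773) (iv2 F198155)
theorem F432267 : act 3 n204373 = n196150 := d8_1 D204373 F432262 (iv3 D204371)
theorem F432268 : act 4 n204373 = n123695 := d11_1 D204373 (iv7 D123695) D123694
theorem F432269 : act 5 n204373 = n124882 := d13_1 D204373 F432265 (iv5 D204372)
theorem F432270 : act 6 n204373 = n196152 := d14_1 D204373 F399634 (iv6 F391165) (iv7 F432258) F432257
theorem F432271 : act 1 n123770 = n204373 := d15_1 D123770 (iv7 D204373) F198155
theorem F432272 : act 1 n204373 = n123769 := d15_1 F432271 (iv7 F394195) F394194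
def n204374 : Q := act 6 n123695
theorem D204374 : act 6 n123695 = n204374 := rfl
theorem F432273 : act 2 n204374 = n123774 := d3_1 D204374 (iv6 D123774) (iv2 F198156)
theorem F432274 : act 3 n204374 = n157399 := d7_1 D204374 (iv6 F431347) F431344
theorem F432275 : act 4 n204374 = n196152 := d10_1 D204374 (iv6 F432270) F432268
theorem F432276 : act 5 n204374 = n153866 := d12_1 D204374 (iv6 D153866) F109259 (iv6 F90835) (iv5 F198157)
theorem F432277 : act 7 n204374 = n188427 := d14_2 D123695 D204374 (iv6 D188427) (iv7 F359721) F198118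
def n204375 : Q := act 5 n123698
theorem D204375 : act 5 n123698 = n204375 := rfl
theorem F432278 : act 2 n204375 = n154318 := d2_1 D204375 (iv5 D154318) (iv2 F356980)
theorem F432279 : act 7 n204375 = n154323 := d13_2 (iv7 F356981) D204375 (iv5 D154323)
theorem F432280 : act 6 n189195 = n204375 := d21_5 (iv5 F61463) (iv1 F62473) D43702 (iv6 F144145) D189195 (iv5 D204375) (iv1 F198169) (iv5 F242415) F342723 (iv1 F133352)
def n204376 : Q := act 5 n123699
theorem D204376 : act 5 n123699 = n204376 := rfl
theorem F432281 : act 2 n204376 = n154323 := d2_1 D204376 (iv5 D154323) (iv2 F356469)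
theorem F432282 : act 3 n204376 = n123790 := d6_1 D204376 (iv5 D123790) (iv3 F356467)
theorem F432283 : act 7 n204376 = n154318 := d13_2 (iv7 F356470) D204376 (iv5 D154318)
def n204377 : Q := act 6 n123699
theorem D204377 : act 6 n123699 = n204377 := rfl
theorem F432284 : act 2 n204377 = n154324 := d3_1 D204377 (iv6 D154324) (iv2 F356469)
theorem F432285 : act 3 n204377 = n123791 := d7_1 D204377 (iv6 D123791) (iv3 F356467)
theorem F432286 : act 4 n204377 = n176494 := d10_1 D204377 F359775 (iv4 F343518)
theorem F432287 : act 7 n204377 = n154377 := d14_2 (iv7 F356470) D204377 (iv6 F354227) (iv7 F172562) F336384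
theorem F432288 : act 5 n204377 = n188310 := d21_6 (iv5 D41693) (iv1 F64332) (iv5 F136930) F307559 (iv1 F198164) D204377 (iv1 D188310) F356633 (iv6 D104897) F292054
theorem F432289 : act 0 n153823 = n204377 := d21_10 F432288 (iv1 D188310) F356633 (iv6 D104897) F292054 D89238 F136964 (iv1 F353706) (iv5 D153822) D153823
theorem E103884 : n154376 = n154324 := ((c15_4 (iv0 D154376) D154377 (iv7 F432287) F432284)).symm
theorem F432290 : act 1 n154324 = n73128 := (sb E103884 (iv0 D154376))
theorem F432291 : act 1 n154379 = n204377 := d17_8 (iv1 D176494) D176495 F353620 (iv5 F353600) (iv4 F242327) (iv5 F377054) (iv0 F429624) F429621 F432286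
def n204378 : Q := act 0 n123700
theorem D204378 : act 0 n123700 = n204378 := rfl
theorem F432292 : act 1 n154328 = n204378 := d15_0 (iv0 D204378) F307556 (iv2 F342721)
def n204379 : Q := act 1 n123700
theorem D204379 : act 1 n123700 = n204379 := rfl
theorem F432293 : act 1 n204379 = n154328 := d15_1 D204379 (iv7 D154328) (iv2 F198165)
theorem F432294 : act 5 n134233 = n204379 := d21_6 (iv5 D16222) (iv1 F21946) D27542 D57654 F329651 D134233 (iv1 D204379) (iv5 D123700) (iv6 D57666) (iv1 F44445)
theorem F432295 : act 2 n204379 = n154326 := d2_1 F432294 (iv5 F242414) (iv2 F365269)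
theorem F432296 : act 3 n204379 = n123793 := d6_1 F432294 F329806 (iv3 F216270)
theorem F432297 : act 6 n204379 = n134236 := d12_2 D134233 F432294 (iv5 D134236) (iv6 D63058) D63057
theorem F432298 : act 7 n154325 = n204379 := d15_2 F336385 (iv0 F342725) F432295
theorem F432299 : act 7 n204378 = n154326 := d15_2 F432293 F432292 (iv2 F432295)
theorem F432300 : act 2 n154325 = n204378 := d4_3 F432299 (iv2 F432295) (iv7 F432298)
theorem F432301 : act 4 n182131 = n204378 := d11_3 F432299 (iv4 F376022) F376021
theorem F432302 : act 4 n154325 = n189194 := d16_0 (iv5 D189194) F358764 (iv5 D173416) F127909 D172783 F347343 F242414 (iv7 F432299) (iv2 F432300)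
theorem F432303 : act 3 n154325 = n203729 := d20_9 (iv4 F430811) (iv1 F431172) (iv4 D204138) (iv3 F365285) F364473 F241519 D153650 F376030 (iv4 F432302) (iv1 F429569)
theorem F432304 : act 6 n204378 = n153676 := d10_2 D182131 F432301 F345161
def n204380 : Q := act 4 n123700
theorem D204380 : act 4 n123700 = n204380 := rfl
theorem F432305 : act 2 n204380 = n154327 := d1_1 D204380 (iv4 D154327) (iv2 F198165)
theorem F432306 : act 6 n204380 = n157563 := d10_2 (iv6 F198166) D204380 (iv4 D157563)
theorem F432307 : act 7 n204380 = n182221 := d11_2 (iv7 F307556) D204380 F283662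
theorem F432308 : act 1 n153674 = n204380 := d15_1 (iv0 F358778) F432307 F283661
theorem F432309 : act 5 n194657 = n157563 := d21_8 F358776 (iv1 F358773) (iv5 F287692) (iv6 D185429) F135275 (iv6 F338039) (iv5 F338040) D194657 (iv6 F432306) (iv1 F432308)
theorem F432310 : act 7 n182139 = n194657 := d13_0 F432309 F307555 D182139
theorem F432311 : act 1 n204380 = n185287 := d15_0 (iv0 D185287) (iv7 F342724) (iv2 F432305)
theorem F432312 : act 7 n185287 = n174459 := d15_2 F432308 F432311 F358777
theorem F432313 : act 4 n185287 = n153649 := d18_7 (iv1 F240946) D153645 F356777 F198163 D123700 D204380 F432311 F366702 F366699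
theorem F432314 : act 5 n174460 = n185287 := d16_1 (iv4 F273334) F432313 (iv5 F242011) (iv4 F349796) (iv5 D174298) F128415 D83364 D174400 F273267
def n204381 : Q := act 1 n123710
theorem D204381 : act 1 n123710 = n204381 := rfl
theorem F432315 : act 1 n204381 = n200180 := d15_1 D204381 F415422 F241654
theorem F432316 : act 5 n155865 = n204381 := d21_0 (iv1 D204381) (iv5 F360259) (iv6 F360256) (iv1 F341162) (iv6 D119567) (iv5 D55008) D55005 D119558 (iv6 F347854) (iv1 F279204)
theorem F432317 : act 6 n125094 = n204381 := d21_3 F415466 F352302 D125094 (iv1 D204381) (iv6 D123710) F90858 D60177 D128054 F306221 F415468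
theorem F432318 : act 2 n204381 = n125098 := d3_1 F432317 (iv6 D125098) (iv2 F200960)
theorem F432319 : act 3 n204381 = n154610 := d7_1 F432317 F359975 (iv3 F200961)
def n204382 : Q := act 7 n123710
theorem D204382 : act 7 n123710 = n204382 := rfl
theorem F432320 : act 2 n204382 = n200180 := d4_1 D204382 F415422 F241654
theorem F432321 : act 3 n204382 = n123714 := d8_1 D204382 (iv7 D123714) (iv3 F198194)
theorem F432322 : act 4 n204382 = n123821 := d11_1 D204382 (iv7 D123821) (iv4 F198195)
theorem F432323 : act 5 n204382 = n200155 := d13_1 D204382 F415281 F360259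
theorem F432324 : act 6 n204382 = n129734 := d14_1 D204382 F350861 (iv6 D73119) (iv7 F90859) D123710
theorem F432325 : act 1 n125098 = n204382 := d15_1 (iv0 F355102) (iv7 D204382) (iv2 F241654)
def n204383 : Q := act 4 n123712
theorem D204383 : act 4 n123712 = n204383 := rfl
theorem F432326 : act 2 n204383 = n128213 := d1_1 D204383 (iv4 D128213) (iv2 F357694)
theorem F432327 : act 3 n204383 = n149583 := d5_1 D204383 (iv4 D149583) D149582 (iv4 F337161) (iv3 F357695)
theorem F432328 : act 7 n204383 = n128208 := d11_2 (iv7 F357696) D204383 (iv4 D128208)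
theorem F432329 : act 1 n204383 = n153368 := d18_6 (iv1 F392933) (iv4 F390481) F390483 (iv4 F392529) F392531 D204383 (iv4 F354075) (iv0 F432244) F432245
theorem F432330 : act 0 n204383 = n124673 := d20_1 D204383 (iv4 F205817) F338173 (iv1 D145743) (iv3 F228858) F355089 (iv1 F256820) F256816 F119270 (iv1 F198196)
def n204384 : Q := act 6 n123712
theorem D204384 : act 6 n123712 = n204384 := rfl
theorem F432331 : act 2 n204384 = n128215 := d3_1 D204384 (iv6 D128215) (iv2 F357694)
theorem F432332 : act 3 n204384 = n159037 := d7_1 D204384 F350976 (iv3 F357695)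
theorem F432333 : act 5 n204384 = n179221 := d12_1 D204384 F338754 (iv5 F336631) D194257 F392531
theorem F432334 : act 1 n159056 = n204384 := d18_8 F411845 (iv4 D199359) (iv1 F172525) F340258 (iv5 F336343) (iv4 F411490) F411491 F354234 F432333
def n204385 : Q := act 4 n123713
theorem D204385 : act 4 n123713 = n204385 := rfl
theorem F432335 : act 2 n204385 = n128218 := d1_1 D204385 (iv4 D128218) (iv2 F198197)
theorem F432336 : act 6 n204385 = n128067 := d10_2 (iv6 F198198) D204385 (iv4 D128067)
def n204386 : Q := act 4 n123716
theorem D204386 : act 4 n123716 = n204386 := rfl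
theorem F432337 : act 2 n204386 = n190266 := d1_1 D204386 F379248 (iv2 F368345)
theorem F432338 : act 6 n204386 = n193635 := d10_2 (iv6 F355152) D204386 (iv4 D193635)
theorem F432339 : act 7 n204386 = n190221 := d11_2 F368348 D204386 F379118
theorem F432340 : act 3 n204386 = n190213 := d20_3 (iv4 F147346) F355153 D204386 (iv1 F379100) F147444 F314847 (iv1 F348962) (iv4 D95604) D95603 F361105
theorem F432341 : act 0 n186753 = n204386 := d20_10 (iv4 D204386) (iv1 F368354) (iv4 F378755) (iv3 F378753) (iv1 F178938) (iv3 F362068) F344114 (iv1 F313098) (iv4 F147124) (iv3 F367886)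
def n204387 : Q := act 5 n123716
theorem D204387 : act 5 n123716 = n204387 := rfl
theorem F432342 : act 2 n204387 = n193661 := d2_1 D204387 F390606 (iv2 F368345)
theorem F432343 : act 3 n204387 = n123718 := d6_1 D204387 (iv5 D123718) D123716
theorem F432344 : act 6 n204387 = n136520 := d12_2 (iv6 F355152) D204387 F352825 (iv6 F352815) F352818
def n204388 : Q := act 0 n123717
theorem D204388 : act 0 n123717 = n204388 := rfl
theorem F432345 : act 5 n204388 = n148645 := d17_3 (iv1 F393129) F392928 D204388 (iv4 F425920) F425921 F415959 (iv5 D200314) F331351 D194418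
theorem F432346 : act 4 n204388 = n203579 := d18_1 D204388 (iv1 F428975) (iv4 D128213) (iv5 F347138) F158647 D103362 F331349 F392931 F392928
theorem F432347 : act 2 n184836 = n204388 := d15_3 (iv0 D204388) (iv0 F354074) F354073
theorem F432348 : act 1 n123722 = n204388 := d15_0 (iv0 D204388) F392920 F392918
theorem F432349 : act 7 n204388 = n127901 := d15_2 (iv0 F355764) F432348 (iv2 F240700)
theorem F432350 : act 3 n132823 = n204388 := d20_3 F106155 D69755 (iv4 F314915) (iv1 F432348) (iv3 F354954) (iv4 F179382) (iv1 F363829) (iv4 F239557) F366769 (iv1 F130729)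
theorem F432351 : act 6 n204388 = n132822 := d7_2 D132823 F432350 (iv3 D132822)
def n204389 : Q := act 3 n123717
theorem D204389 : act 3 n123717 = n204389 := rfl
theorem F432352 : act 2 n204389 = n190218 := d0_1 D204389 F379115 (iv2 F251642) (iv3 F432241) F432240
theorem F432353 : act 4 n204389 = n190213 := d5_2 D123717 D204389 (iv3 F432340) (iv4 D204386) (iv3 D123716)
theorem F432354 : act 6 n204389 = n202931 := d7_2 (iv6 F355149) D204389 (iv3 D202931)
theorem F432355 : act 7 n204389 = n190222 := d8_2 (iv7 F392920) D204389 (iv3 F392924)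
theorem F432356 : act 0 n203812 = n204389 := d20_4 (iv4 D132811) (iv1 F336061) (iv4 F298185) (iv3 F429926) (iv3 D204389) (iv4 D123717) (iv1 F198124) F198120 (iv3 F119270) (iv1 F344835)
def n204390 : Q := act 1 n123718
theorem D204390 : act 1 n123718 = n204390 := rfl
theorem F432357 : act 1 n204390 = n123723 := d15_1 D204390 (iv7 F432250) F432247
def n204391 : Q := act 4 n123718
theorem D204391 : act 4 n123718 = n204391 := rfl
theorem F432358 : act 7 n204391 = n197819 := d11_2 F432253 D204391 F432254
theorem F432359 : act 3 n197821 = n204391 := d8_3 F432358 F405886 D197821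
theorem F432360 : act 6 n198323 = n204391 := d14_5 F432358 (iv6 D197819) F168616 D109195 D198323
def n204392 : Q := act 6 n123718
theorem D204392 : act 6 n123718 = n204392 := rfl
theorem F432361 : act 2 n204392 = n193274 := d3_1 D204392 (iv6 F432249) F432247
theorem F432362 : act 3 n204392 = n136520 := d7_1 D204392 (iv6 F432344) F432343
theorem F432363 : act 4 n204392 = n198323 := d10_1 D204392 F432360 (iv4 D204391)
theorem F432364 : act 7 n204392 = n193276 := d14_2 F432253 D204392 F389382 (iv7 F345613) (iv6 F432252)
theorem F432365 : act 5 n192143 = n204392 := d21_8 (iv5 F432225) F432226 F368200 (iv6 D91353) (iv1 F66978) D91275 (iv5 F155985) F388954 (iv6 D204392) F432227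
def n204393 : Q := act 5 n123719
theorem D204393 : act 5 n123719 = n204393 := rfl
theorem F432366 : act 2 n204393 = n157588 := d2_1 D204393 (iv5 F368244) (iv2 F368242)
theorem F432367 : act 3 n204393 = n176871 := d6_1 D204393 F352818 F355151
theorem F432368 : act 6 n204393 = n192143 := d12_2 D123719 D204393 F432365 (iv6 D204392) (iv5 D123718)
theorem F432369 : act 7 n204393 = n157587 := d13_2 (iv7 F368236) D204393 F368237
theorem F432370 : act 4 n204393 = n196761 := d16_2 F355150 D204393 F401712 F165353 (iv5 F181623) (iv4 F350789) (iv5 F350795) (iv7 F350799) (iv2 F355147)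
theorem F432371 : act 1 n204393 = n157590 := d17_6 F350728 (iv5 F319427) (iv1 F230099) F355127 F355150 D204393 F248347 (iv0 F353680) (iv4 F350730)
theorem F432372 : act 0 n204393 = n153284 := d21_1 D204393 (iv5 D153284) (iv6 D72409) F52713 D57654 D123673 F329131 D134030 (iv6 F368251) (iv1 F368252)
def n204394 : Q := act 5 n123721
theorem D204394 : act 5 n123721 = n204394 := rfl
theorem F432373 : act 2 n204394 = n159738 := d2_1 D204394 (iv5 D159738) (iv2 F354947)
theorem F432374 : act 3 n204394 = n123723 := d6_1 D204394 (iv5 D123723) D123721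
theorem F432375 : act 7 n204394 = n159727 := d13_2 (iv7 F354949) D204394 (iv5 D159727)
def n204395 : Q := act 4 n123723
theorem D204395 : act 4 n123723 = n204395 := rfl
theorem F432376 : act 2 n204395 = n197819 := d1_1 D204395 F432254 F432251
theorem F432377 : act 6 n204395 = n197818 := d10_2 (iv6 F373323) D204395 F405881
theorem F432378 : act 3 n198312 = n204395 := d7_3 F432377 F405880 D198312
def n204396 : Q := act 3 n123726
theorem D204396 : act 3 n123726 = n204396 := rfl
theorem F432379 : act 2 n204396 = n192772 := d0_1 D204396 F387714 (iv2 F159479) F159480 F359724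
theorem F432380 : act 7 n204396 = n188398 := d8_2 (iv7 F359727) D204396 F373294
theorem F432381 : act 0 n192770 = n204396 := d20_4 (iv4 D152236) D152234 F355586 (iv3 F426120) (iv3 D204396) F359725 (iv1 F373425) (iv4 F373430) (iv3 F403333) F403337
theorem F432382 : act 5 n204396 = n189287 := d17_3 (iv1 F355763) F426121 F432381 (iv4 D189287) (iv5 D93846) F114570 F114568 F114548 D159696
theorem F432383 : act 1 n192771 = n204396 := d17_6 (iv1 D188584) (iv5 D92501) F333371 (iv5 F107819) (iv4 F238044) (iv5 F387708) F432382 F376334 (iv4 F374091)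
def n204397 : Q := act 5 n123726
theorem D204397 : act 5 n123726 = n204397 := rfl
theorem F432384 : act 2 n204397 = n188429 := d2_1 D204397 F373434 F359724
theorem F432385 : act 3 n204397 = n189287 := d6_1 D204397 (iv5 F432382) (iv3 D204396)
theorem F432386 : act 7 n204397 = n186837 := d13_2 (iv7 F359727) D204397 F368200
theorem F432387 : act 6 n204397 = n147593 := d21_3 (iv5 F359719) (iv1 F359723) D204397 F347991 F191885 (iv5 F248347) (iv1 F432371) (iv5 D204393) (iv6 D123719) (iv1 F198124)
theorem F432388 : act 4 n147594 = n204397 := d10_3 F432387 (iv4 D147593) D147594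
theorem F432389 : act 1 n154224 = n204397 := d15_1 (iv0 F359722) F432386 F368199
theorem F432390 : act 1 n204397 = n188428 := d15_0 (iv0 D188428) D188429 (iv2 F432384)
theorem F432391 : act 7 n188428 = n204364 := d15_2 F432389 F432390 F432224
def n204398 : Q := act 3 n123727
theorem D204398 : act 3 n123727 = n204398 := rfl
theorem F432392 : act 4 n204398 = n123892 := d5_2 D123727 D204398 (iv3 D123892) (iv4 D57724) (iv3 F90862)
theorem F432393 : act 6 n204398 = n123771 := d7_2 (iv6 F198207) D204398 (iv3 D123771)
theorem F432394 : act 0 n196325 = n204398 := d20_4 F406945 (iv1 D108946) (iv4 F164769) (iv3 F400338) (iv3 D204398) (iv4 D123727) (iv1 F308579) (iv4 F140511) F331077 (iv1 F224854)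
def n204399 : Q := act 5 n123727
theorem D204399 : act 5 n123727 = n204399 := rfl
def n204400 : Q := act 7 n123727
theorem D204400 : act 7 n123727 = n204400 := rfl
theorem F432395 : act 2 n204400 = n188426 := d4_1 D204400 (iv7 F432258) F432255
theorem F432396 : act 4 n204400 = n123728 := d11_1 D204400 (iv7 D123728) D123727
theorem F432397 : act 0 n184082 = n204400 := d18_2 F366803 (iv4 F286024) F432396 F198209 (iv4 F198200) F198204 D128208 F354082 D153367
theorem F432398 : act 6 n200943 = n204400 := d3_0 F432395 F391165 D200943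
def n204401 : Q := act 6 n123728
theorem D204401 : act 6 n123728 = n204401 := rfl
theorem F432399 : act 2 n204401 = n188427 := d3_1 D204401 (iv6 D188427) (iv2 F359720)
theorem F432400 : act 3 n204401 = n123895 := d7_1 D204401 (iv6 D123895) (iv3 F198208)
theorem F432401 : act 4 n204401 = n200943 := d10_1 D204401 F432398 F432396
theorem F432402 : act 5 n204401 = n154411 := d12_1 D204401 (iv6 D154411) F109623 (iv6 F90865) (iv5 F198209)
theorem F432403 : act 7 n204401 = n123774 := d14_2 D123728 D204401 (iv6 D123774) (iv7 D57689) (iv6 F90863)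
def n204402 : Q := act 6 n123750
theorem D204402 : act 6 n123750 = n204402 := rfl
theorem F432404 : act 3 n204402 = n123755 := d7_1 D204402 (iv6 D123755) (iv3 F198235)
def n204403 : Q := act 5 n123751
theorem D204403 : act 5 n123751 = n204403 := rfl
theorem F432405 : act 3 n204403 = n123757 := d6_1 D204403 (iv5 D123757) (iv3 F198236)
def n204404 : Q := act 5 n123754
theorem D204404 : act 5 n123754 = n204404 := rfl
theorem F432406 : act 2 n204404 = n198330 := d2_1 D204404 (iv5 D198330) (iv2 F351236)
theorem F432407 : act 3 n204404 = n189002 := d6_1 D204404 (iv5 F390604) F390603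
theorem F432408 : act 4 n204404 = n124880 := d9_1 D204404 F350069 (iv4 D74371) (iv5 F312250) (iv4 D57678) D57679 (iv4 F331047) F331048 (iv4 F350064) F350065 (iv4 D74376) F310575 (iv4 D57683) D57684 D123754
theorem F432409 : act 7 n204404 = n188998 := d13_2 F386069 D204404 (iv5 F386070)
theorem F432410 : act 0 n138756 = n204404 := d18_2 (iv1 D138755) D138756 F432408 F350069 (iv4 D74371) (iv0 D34114) (iv4 F53520) D74353 (iv5 F245792)
def n204405 : Q := act 6 n123754
theorem D204405 : act 6 n123754 = n204405 := rfl
theorem F432411 : act 2 n204405 = n140585 := d3_1 D204405 F351233 (iv2 F351236)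
theorem F432412 : act 4 n204405 = n123755 := d10_1 D204405 (iv6 D123755) D123754
theorem F432413 : act 7 n204405 = n140567 := d14_2 F386069 D204405 (iv6 D140567) (iv7 F180137) (iv6 F386073)
theorem F432414 : act 5 n204405 = n142789 := d21_6 D91371 (iv1 F293298) (iv5 F294321) (iv6 F134770) (iv1 F351235) D204405 (iv1 F348359) (iv5 F373403) (iv6 D188417) (iv1 D91369)
theorem F432415 : act 0 n140582 = n204405 := d17_2 D72719 (iv5 F360598) F432414 (iv4 D142789) (iv5 F322348) (iv0 D81816) F58326 (iv0 F190600) D33548
theorem F432416 : act 1 n140583 = n204405 := d15_1 D140583 F432413 F223701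
def n204406 : Q := act 1 n123755
theorem D204406 : act 1 n123755 = n204406 := rfl
theorem F432417 : act 1 n204406 = n140581 := d15_1 D204406 (iv7 F386066) F386063
theorem F432418 : act 5 n204406 = n153676 := d17_7 (iv1 F308338) (iv5 F199468) F268184 D124825 (iv4 F364080) (iv5 F306666) D204406 F345160 (iv4 D182945)
theorem F432419 : act 4 n152940 = n204406 := d9_15 F432418 F345161 (iv5 F309031) F308445 F92134 D72717 D153689 (iv4 F394059) (iv5 F394060) F308321 (iv5 F306610) F125744 F58326 D72190 D152940
def n204407 : Q := act 7 n123755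
theorem D204407 : act 7 n123755 = n204407 := rfl
theorem F432420 : act 2 n204407 = n140581 := d4_1 D204407 (iv7 F386066) F386063
theorem F432421 : act 4 n204407 = n140567 := d11_1 D204407 (iv7 F432413) F432412
theorem F432422 : act 6 n204407 = n140566 := d14_1 D204407 (iv7 F386079) (iv6 D192223) (iv7 F304653) D123755
theorem F432423 : act 1 n140581 = n194677 := d15_0 (iv0 F394061) D204407 F432420
def n204408 : Q := act 4 n123757
theorem D204408 : act 4 n123757 = n204408 := rfl
theorem F432424 : act 2 n204408 = n182272 := d1_1 D204408 F338046 (iv2 F240116)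
theorem F432425 : act 6 n204408 = n124825 := d10_2 (iv6 F366796) D204408 (iv4 F364080)
theorem F432426 : act 7 n204408 = n182271 := d11_2 F240118 D204408 (iv4 F381167)
theorem F432427 : act 0 n204408 = n153667 := d17_0 (iv5 F338040) D194657 F432309 (iv4 D157563) (iv5 D75005) (iv0 F191288) D118937 (iv0 F198242) D204408
theorem F432428 : act 1 n204408 = n153659 := d18_6 (iv1 F308464) (iv4 F242182) F242183 F198240 D123757 D204408 (iv4 D153659) D153658 F308823
theorem F432429 : act 5 n124822 = n204408 := d21_6 (iv5 D47883) F66119 D23348 (iv6 F75767) (iv1 F307400) D124822 F432427 (iv5 F338040) (iv6 D103931) F293564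
def n204409 : Q := act 0 n123761
theorem D204409 : act 0 n123761 = n204409 := rfl
theorem F432430 : act 5 n204409 = n138756 := d17_1 D204409 F432410 (iv5 D204404) (iv4 D123754) (iv5 D57684) F90837 (iv5 F198157) F198160 D123761
theorem F432431 : act 4 n204409 = n194710 := d18_3 D57686 D123761 D204409 F394186 F313360 (iv0 F312248) (iv4 D57678) (iv0 D27550) D27552
theorem F432432 : act 1 n123766 = n204409 := d15_0 (iv0 D204409) F366884 F366885
def n204410 : Q := act 7 n123763
theorem D204410 : act 7 n123763 = n204410 := rfl
theorem F432433 : act 3 n204410 = n180411 := d8_1 D204410 (iv7 F345254) F362331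
theorem F432434 : act 4 n204410 = n157862 := d11_1 D204410 (iv7 F248833) (iv4 F362330)
theorem F432435 : act 5 n204410 = n197967 := d13_1 D204410 F406314 F389063
theorem F432436 : act 6 n204410 = n188409 := d14_1 D204410 F373348 (iv6 D184557) F304649 D123763
theorem F432437 : act 1 n182777 = n204410 := d15_1 (iv0 F367094) (iv7 D204410) F366883
theorem F432438 : act 1 n204410 = n134914 := d15_1 F432437 (iv7 F410354) F410351
def n204411 : Q := act 0 n123771
theorem D204411 : act 0 n123771 = n204411 := rfl
def n204412 : Q := act 1 n123771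
theorem D204412 : act 1 n123771 = n204412 := rfl
def n204413 : Q := act 2 n123771
theorem D204413 : act 2 n123771 = n204413 := rfl
theorem F432439 : act 4 n204413 = n124017 := d1_2 (iv4 F198250) D204413 (iv2 D124017)
def n204414 : Q := act 5 n123771
theorem D204414 : act 5 n123771 = n204414 := rfl
theorem F432440 : act 3 n204414 = n123772 := d6_1 D204414 (iv5 D123772) D123771
def n204415 : Q := act 7 n123771
theorem D204415 : act 7 n123771 = n204415 := rfl
theorem F432441 : act 3 n204415 = n123773 := d8_1 D204415 (iv7 D123773) D123771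
theorem F432442 : act 4 n204415 = n124019 := d11_1 D204415 (iv7 D124019) (iv4 F198250)
def n204416 : Q := act 0 n123772
theorem D204416 : act 0 n123772 = n204416 := rfl
theorem F432443 : act 5 n204416 = n124784 := d17_3 (iv1 D123770) D123772 D204416 (iv4 D124784) (iv5 D58340) F199718 D124676 F366751 (iv4 F338865)
theorem F432444 : act 6 n149735 = n204416 := d12_0 F432443 F407621 F407618 F322669 D149735
theorem F432445 : act 4 n124828 = n204416 := d16_0 F432443 (iv4 D124784) (iv5 D58340) (iv4 D27779) D27780 D58345 D124795 F312831 (iv2 F312821)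
theorem F432446 : act 1 n124882 = n204416 := d17_6 (iv1 F304655) (iv5 D57679) (iv1 F90839) (iv5 F198157) (iv4 F432268) F432269 F432443 F386085 F386084
def n204417 : Q := act 1 n123772
theorem D204417 : act 1 n123772 = n204417 := rfl
theorem F432447 : act 1 n204417 = n124882 := d15_1 D204417 F432265 F432263
theorem F432448 : act 5 n204417 = n124821 := d17_7 (iv1 F304651) (iv5 D57684) (iv1 D27551) D27552 D57688 D123772 D204417 F309403 (iv4 D88015)
theorem F432449 : act 4 n204417 = n124795 := d17_9 F312828 (iv5 D74454) (iv1 F314688) D124859 (iv4 F412592) (iv5 F412593) (iv0 D123769) D123772 D204417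
theorem F432450 : act 3 n123990 = n204417 := d19_19 (iv1 D204417) (iv5 D123772) (iv4 D57688) F44457 D27575 F299245 F117284 F310584 (iv1 F309134) F28074 (iv4 F30301) (iv3 F60456) D85670 F312239 (iv4 F90494) (iv3 D57320) (iv1 F91190) D77607 F198402
def n204418 : Q := act 4 n123772
theorem D204418 : act 4 n123772 = n204418 := rfl
theorem F432451 : act 2 n204418 = n124884 := d1_1 D204418 (iv4 F432264) F432263
theorem F432452 : act 5 n204418 = n124761 := d9_2 D123772 D204418 F200391 F92187 (iv4 F90834) (iv5 F198157) (iv4 F432268) F432269 (iv4 D124882) (iv5 D58381) (iv4 D27789) (iv5 D13261) (iv4 F21951) D27552 D57688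
theorem F432453 : act 0 n204418 = n124881 := d18_2 (iv1 D204417) D204418 F350064 (iv5 F331048) F331047 F304655 (iv4 F386084) F386086 (iv5 F432448)
theorem F432454 : act 1 n204418 = n124880 := d18_6 (iv1 F432432) (iv4 D123766) (iv1 D57687) D57688 D123772 D204418 (iv4 F432408) (iv0 F432410) (iv5 F432430)
theorem F432455 : act 3 n204418 = n203979 := d20_5 (iv4 F416215) F416216 (iv4 F401772) F401771 (iv1 F432454) F430688 F407142 F407141 (iv3 F401140) F401143
theorem F432456 : act 6 n203978 = n204418 := d7_0 F432455 (iv6 D203979) D203978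
theorem F432457 : act 7 n204418 = n124760 := d15_2 D124881 (iv0 F432453) F200389
def n204419 : Q := act 6 n123772
theorem D204419 : act 6 n123772 = n204419 := rfl
theorem F432458 : act 4 n204419 = n203978 := d10_1 D204419 F432456 (iv4 D204418)
theorem F432459 : act 0 n199413 = n204419 := d21_4 F411996 (iv1 D111308) D111310 D199413 (iv6 D204419) (iv5 D123772) D123769 F412593 (iv6 D199542) (iv1 F411994)
def n204420 : Q := act 7 n123772
theorem D204420 : act 7 n123772 = n204420 := rfl
theorem F432460 : act 2 n204420 = n124882 := d4_1 D204420 F432265 F432263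
theorem F432461 : act 4 n204420 = n124760 := d11_1 D204420 (iv7 F432457) (iv4 D204418)
theorem F432462 : act 5 n204420 = n123773 := d13_1 D204420 (iv7 D123773) D123772
def n204421 : Q := act 6 n123773
theorem D204421 : act 6 n123773 = n204421 := rfl
theorem F432463 : act 2 n204421 = n196152 := d3_1 D204421 (iv6 F432270) F432266
theorem F432464 : act 4 n204421 = n123774 := d10_1 D204421 (iv6 D123774) (iv4 F198251)
theorem F432465 : act 7 n204421 = n200943 := d14_2 D123773 D204421 F432398 (iv7 D204400) F198207
theorem F432466 : act 1 n200942 = n204421 := d15_1 D200942 F432465 (iv2 D200943)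
theorem F432467 : act 1 n204421 = n200941 := d15_1 F432466 (iv7 F420163) F420160
def n204422 : Q := act 5 n123775
theorem D204422 : act 5 n123775 = n204422 := rfl
theorem F432468 : act 2 n204422 = n123780 := d2_1 D204422 (iv5 D123780) (iv2 F198254)
theorem F432469 : act 3 n204422 = n192316 := d6_1 D204422 (iv5 F396167) F396165
theorem F432470 : act 6 n204422 = n204082 := d12_2 D123775 D204422 (iv5 D204082) (iv6 D122619) (iv5 F90872)
theorem F432471 : act 7 n204422 = n202919 := d13_2 (iv7 F356476) D204422 (iv5 D202919)
theorem F432472 : act 4 n204422 = n182239 := d16_4 (iv4 F346801) (iv5 D145998) (iv4 F356475) D204422 F346008 (iv4 F293410) D189890 F378122 F369014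
theorem F432473 : act 0 n204422 = n148536 := d17_2 (iv1 F356474) D204422 (iv5 D148536) F105889 D69615 D148545 (iv5 F233319) (iv0 D117241) (iv4 F183451)
theorem F432474 : act 1 n204422 = n187013 := d17_8 D187011 F368835 (iv1 F372882) F372879 (iv4 F426202) F426203 (iv0 F356473) D204422 (iv4 D187013)
def n204423 : Q := act 0 n123777
theorem D204423 : act 0 n123777 = n204423 := rfl
theorem F432475 : act 5 n204423 = n124523 := d17_1 D204423 F315632 F228003 F233293 (iv5 F426196) F426195 F368869 (iv0 D123778) (iv4 F198259)
theorem F432476 : act 3 n204423 = n124525 := d20_5 (iv4 F321341) F306475 (iv4 F196848) (iv3 F198258) D204423 (iv4 F426219) (iv1 F426223) (iv4 D146707) (iv3 F183508) (iv1 D117271)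
theorem F432477 : act 2 n145994 = n204423 := d15_3 (iv0 D204423) (iv0 F340878) (iv7 F353434)
theorem F432478 : act 7 n204423 = n127432 := d4_2 (iv7 F353434) F432477 (iv2 F227825)
theorem F432479 : act 1 n145909 = n204423 := d15_1 F356479 F432478 (iv2 F227825)
def n204424 : Q := act 7 n123777
theorem D204424 : act 7 n123777 = n204424 := rfl
theorem F432480 : act 2 n204424 = n145909 := d4_1 D204424 F264325 (iv2 F356477)
theorem F432481 : act 3 n204424 = n127431 := d8_1 D204424 F356978 (iv3 F198258)
theorem F432482 : act 4 n204424 = n123781 := d11_1 D204424 (iv7 D123781) (iv4 F198259)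
theorem F432483 : act 1 n127432 = n204424 := d15_1 (iv0 F243222) (iv7 D204424) F356477
theorem F432484 : act 1 n204424 = n145994 := d15_1 F432483 F353434 F227825
def n204425 : Q := act 0 n123780
theorem D204425 : act 0 n123780 = n204425 := rfl
theorem F432485 : act 5 n204425 = n148519 := d17_3 F356472 D123780 D204425 F233271 D148521 (iv0 F233280) (iv5 D117264) (iv0 D54044) (iv4 F85272)
theorem F432486 : act 4 n204425 = n185992 := d18_3 (iv1 F343876) F369011 D204425 (iv5 D185992) F135750 F335593 F61723 (iv0 F335590) D89404
theorem F432487 : act 6 n193672 = n204425 := d10_0 F432486 F288531 D193672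
theorem F432488 : act 7 n187013 = n204425 := d11_0 F432486 F288532 D187013
theorem F432489 : act 2 n204425 = n148536 := d15_3 (iv0 F432473) F432474 F432488
theorem F432490 : act 0 n204425 = n202919 := d21_1 (iv5 F432485) (iv5 D202919) F390390 (iv1 F390389) (iv6 F425173) F425172 (iv1 F359468) (iv5 F347294) D203127 F427065
def n204426 : Q := act 1 n123780
theorem D204426 : act 1 n123780 = n204426 := rfl
theorem F432491 : act 1 n204426 = n202919 := d15_1 D204426 (iv7 F432471) F432468
theorem F432492 : act 7 n204426 = n148536 := d15_2 (iv0 D204425) D204426 (iv2 F432489)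
theorem F432493 : act 5 n143496 = n204426 := d21_6 (iv5 D57561) (iv1 F90340) F314109 D148151 F280346 (iv6 F314579) (iv1 D204426) (iv5 D123780) (iv6 D57694) (iv1 F107813)
theorem F432494 : act 2 n204426 = n187013 := d2_1 F432493 F368838 (iv2 F314577)
theorem F432495 : act 3 n204426 = n143498 := d6_1 F432493 (iv5 D143498) D143496
theorem F432496 : act 4 n204426 = n186790 := d9_1 F432493 (iv5 D186790) F344208 D182995 (iv4 F339710) (iv5 D148521) (iv4 F233271) (iv5 F432485) F432486 (iv5 D185992) F135750 D89707 F345993 F130902 (iv4 F314578)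
def n204427 : Q := act 7 n123780
theorem D204427 : act 7 n123780 = n204427 := rfl
theorem F432497 : act 2 n204427 = n202919 := d4_1 D204427 (iv7 F432471) F432468
theorem F432498 : act 3 n204427 = n123795 := d8_1 D204427 (iv7 D123795) (iv3 F198260)
theorem F432499 : act 4 n204427 = n182238 := d11_1 D204427 F362134 F369011
theorem F432500 : act 5 n204427 = n123781 := d13_1 D204427 (iv7 D123781) D123780
theorem F432501 : act 1 n187013 = n204427 := d15_1 F432474 (iv7 D204427) (iv2 F432468)
theorem F432502 : act 1 n204427 = n148536 := d15_1 F432501 (iv7 F432492) F432494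
def n204428 : Q := act 0 n123785
theorem D204428 : act 0 n123785 = n204428 := rfl
theorem F432503 : act 5 n204428 = n160305 := d17_3 D57695 D123785 D204428 F360251 F335632 F74798 F306485 (iv0 D57119) (iv4 F44462)
theorem F432504 : act 1 n123790 = n204428 := d15_0 (iv0 D204428) (iv7 F429566) F429565
theorem F432505 : act 3 n191445 = n204428 := d19_19 (iv1 F432504) (iv5 D123790) F356446 D123806 (iv1 F356992) (iv5 F343008) F136904 F83651 (iv1 F290315) D92470 F317796 D148484 (iv1 F383449) (iv5 F366435) F151771 F72590 D46016 D98356 D191445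
theorem F432506 : act 4 n204376 = n189196 := d20_6 F398449 (iv1 D191444) D191445 F432505 (iv1 F432504) (iv3 F432282) (iv1 D189196) D189197 (iv3 F388121) (iv1 F398450)
def n204429 : Q := act 1 n123785
theorem D204429 : act 1 n123785 = n204429 := rfl
theorem F432507 : act 1 n204429 = n123790 := d15_1 D204429 (iv7 F411935) F411932
theorem F432508 : act 5 n204429 = n187068 := d17_7 (iv1 F411531) F368213 F356416 F356456 (iv4 F356455) D123785 D204429 F369019 (iv4 F411529)
theorem F432509 : act 3 n202920 = n204429 := d19_19 (iv1 D204429) (iv5 D123785) F356455 (iv3 F356454) (iv1 F292331) F64350 F31401 F14456 (iv1 F6096) F290845 F14813 (iv3 F15851) (iv1 F62497) (iv5 D19089) D19088 D40406 D87007 D182229 (iv4 F426192)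
def n204430 : Q := act 4 n123785
theorem D204430 : act 4 n123785 = n204430 := rfl
theorem F432510 : act 5 n204430 = n191479 := d16_1 D204430 (iv4 D191479) (iv5 F151814) (iv4 F356442) (iv5 D123808) (iv4 F356446) D123790 (iv7 F411935) F411932
def n204431 : Q := act 4 n123790
theorem D204431 : act 4 n123790 = n204431 := rfl
theorem F432511 : act 5 n204431 = n187704 := d9_2 D123790 D204431 (iv4 D187704) (iv5 D90476) (iv4 F133711) F356456 (iv4 F356455) D123785 D204430 F432510 (iv4 D191479) (iv5 F151814) (iv4 F356442) (iv5 D123808) (iv4 F356446)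
def n204432 : Q := act 6 n123790
theorem D204432 : act 6 n123790 = n204432 := rfl
theorem F432512 : act 0 n170654 = n204432 := d21_4 (iv5 D85915) (iv1 F301607) (iv5 F125732) D170654 (iv6 D204432) (iv5 D123790) (iv1 D57696) D57697 F90876 (iv1 F301692)
def n204433 : Q := act 5 n123791
theorem D204433 : act 5 n123791 = n204433 := rfl
theorem F432513 : act 2 n204433 = n203748 := d2_1 D204433 F429671 (iv2 F357131)
theorem F432514 : act 3 n204433 = n188310 := d6_1 D204433 (iv5 F432288) F432285
theorem F432515 : act 7 n204433 = n199320 := d13_2 (iv7 F357132) D204433 (iv5 D199320)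
theorem F432516 : act 4 n204433 = n141847 := d16_2 F357130 D204433 (iv5 D141847) D141846 F422427 (iv4 F422447) F422448 (iv7 F342815) (iv2 F356449)
theorem F432517 : act 0 n204433 = n191335 := d17_2 (iv1 F357133) D204433 F383095 F353564 (iv5 F343220) (iv0 D102456) D102458 D193899 F391329
theorem F432518 : act 0 n203706 = n204433 := d21_10 (iv5 D204433) (iv1 F357134) F171540 (iv6 D108427) (iv1 F98584) (iv6 F341397) D198306 F407553 (iv5 F409131) (iv6 F429469)
def n204434 : Q := act 3 n123792
theorem D204434 : act 3 n123792 = n204434 := rfl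
theorem F432519 : act 4 n200200 = n204434 := d19_2 D112786 D200200 (iv3 D204434) (iv1 F429587) F429584 (iv4 F304015) F304014 F356345 F356337 F153387 (iv3 F153385) F385138 F385136 F231936 F227936 (iv1 F319610) (iv5 D65645) (iv4 F101374) F101373
theorem F432520 : act 5 n204434 = n200188 := d16_3 (iv4 F175589) D200200 F432519 (iv4 D200188) F332138 F332145 F174619 F168331 F165615
def n204435 : Q := act 5 n123792
theorem D204435 : act 5 n123792 = n204435 := rfl
theorem F432521 : act 2 n204435 = n134245 := d2_1 D204435 (iv5 F429567) F429570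
theorem F432522 : act 3 n204435 = n200188 := d6_1 D204435 (iv5 F432520) (iv3 D204434)
theorem F432523 : act 4 n204435 = n186827 := d9_1 D204435 (iv5 D186827) F136913 D89597 D187136 F431177 F431173 F329806 (iv4 F172414) (iv5 F335731) F335702 D98391 D191477 (iv5 F431185) F431184
theorem F432524 : act 7 n204435 = n134040 := d13_2 F429572 D204435 (iv5 F429573)
theorem F432525 : act 1 n204435 = n134242 := d17_8 F289879 (iv5 D82034) (iv1 F126277) (iv5 F289826) F304015 (iv5 F429584) F429587 D204435 F364379
theorem F432526 : act 6 n204435 = n134288 := d21_3 D57697 D123792 D204435 (iv1 F363291) (iv6 F198326) D203706 F432518 (iv5 D204433) (iv6 D123791) (iv1 D57696)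
theorem F432527 : act 0 n204435 = n134243 := d21_4 (iv5 F98216) D134014 (iv5 F362805) (iv6 F432526) (iv6 F370311) (iv5 F370308) (iv1 F198334) (iv5 D123896) (iv6 D57726) F342786
def n204436 : Q := act 6 n123792
theorem D204436 : act 6 n123792 = n204436 := rfl
theorem F432528 : act 5 n204436 = n123979 := d12_1 D204436 (iv6 F363298) (iv5 F362805) (iv6 F432526) (iv5 D204435)
theorem F432529 : act 0 n204436 = n202521 := d21_1 (iv5 F432528) (iv5 D202521) (iv6 D115930) (iv1 F93966) D126878 (iv5 F343823) D198302 F407540 (iv6 F431511) (iv1 F431512)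
def n204437 : Q := act 0 n123794
theorem D204437 : act 0 n123794 = n204437 := rfl
theorem F432530 : act 5 n204437 = n182182 := d17_3 (iv1 F430817) F430815 D204437 (iv4 D182182) (iv5 D86987) D86985 D182176 F383068 (iv4 F383543)
theorem F432531 : act 4 n204437 = n203717 := d18_1 D204437 F429530 (iv4 F431186) F431187 (iv4 D191329) F352774 D182204 F430816 F430815
theorem F432532 : act 1 n191483 = n204437 := d15_0 (iv0 D204437) (iv7 F430812) F430810
theorem F432533 : act 2 n204136 = n204437 := d1_3 F432531 (iv2 F429528) D204136
theorem F432534 : act 7 n204138 = n204437 := d11_0 F432531 (iv7 F429529) D204138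
def n204438 : Q := act 1 n123794
theorem D204438 : act 1 n123794 = n204438 := rfl
theorem F432535 : act 1 n204438 = n191483 := d15_1 D204438 F429580 F429576
theorem F432536 : act 7 n204438 = n204136 := d15_2 (iv0 D204437) D204438 F432533
theorem F432537 : act 4 n204438 = n203718 := d18_7 (iv1 F340885) (iv4 D102472) F304454 (iv4 F44462) D57697 D123794 D204438 F429531 F196564
theorem F432538 : act 2 n204138 = n204438 := d1_3 F432537 F429534 D204138
def n204439 : Q := act 3 n123794
theorem D204439 : act 3 n123794 = n204439 := rfl
theorem F432539 : act 2 n204439 = n204020 := d0_1 D204439 (iv3 D204020) F383248 (iv3 F429577) F429576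
theorem F432540 : act 4 n204439 = n187703 := d5_2 D123794 D204439 F371248 F369011 F198260
theorem F432541 : act 6 n204439 = n204089 := d7_2 (iv6 F198266) D204439 (iv3 D204089)
theorem F432542 : act 1 n187048 = n204439 := d17_8 F371252 (iv5 D122400) (iv1 F89711) (iv5 F151815) (iv4 F383544) (iv5 F429579) (iv0 F431171) F431170 F432540
def n204440 : Q := act 6 n123806
theorem D204440 : act 6 n123806 = n204440 := rfl
theorem F432543 : act 2 n204440 = n164573 := d3_1 D204440 F383420 F356990
theorem F432544 : act 3 n204440 = n123809 := d7_1 D204440 (iv6 D123809) D123806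
theorem F432545 : act 4 n204440 = n180606 := d10_1 D204440 (iv6 F359776) (iv4 F356468)
theorem F432546 : act 5 n204440 = n137420 := d12_1 D204440 F360691 (iv5 D101375) D101376 F356989
theorem F432547 : act 7 n204440 = n134183 := d14_2 F368219 D204440 (iv6 D134183) (iv7 F215990) (iv6 F368218)
theorem F432548 : act 0 n204440 = n164574 := d21_4 (iv5 F372840) F372839 F356989 D204440 F333958 (iv5 F317224) (iv1 F172506) (iv5 F332240) (iv6 F368159) (iv1 F368175)
theorem F432549 : act 1 n204440 = n137440 := d15_1 (iv0 F432548) F328578 D164574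
def n204441 : Q := act 5 n123809
theorem D204441 : act 5 n123809 = n204441 := rfl
theorem F432550 : act 2 n204441 = n193146 := d2_1 D204441 F388916 (iv2 F356449)
theorem F432551 : act 3 n204441 = n137420 := d6_1 D204441 (iv5 F432546) F432544
theorem F432552 : act 6 n204441 = n177862 := d12_2 D123809 D204441 (iv5 D177862) (iv6 F356443) (iv5 D123808)
theorem F432553 : act 7 n204441 = n134190 := d13_2 (iv7 F356450) D204441 (iv5 D134190)
theorem F432554 : act 0 n204441 = n137382 := d17_2 (iv1 F356448) D204441 F355559 (iv4 F350732) (iv5 F375643) (iv0 F431159) (iv5 D204134) F356496 F329968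
theorem F432555 : act 1 n204441 = n160299 := d17_6 D120306 D203706 F432518 (iv5 D204433) (iv4 F357130) D204441 (iv5 D160299) (iv0 D76828) (iv4 F87628)
def n204442 : Q := act 6 n123815
theorem D204442 : act 6 n123815 = n204442 := rfl
theorem F432556 : act 2 n204442 = n160107 := d3_1 D204442 (iv6 D160107) (iv2 F198278)
theorem F432557 : act 3 n204442 = n123817 := d7_1 D204442 (iv6 D123817) D123815
theorem F432558 : act 4 n204442 = n159012 := d10_1 D204442 F349385 (iv4 F198281)
theorem F432559 : act 7 n204442 = n186935 := d14_2 (iv7 F198280) D204442 (iv6 D186935) F337248 F310781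
theorem F432560 : act 0 n204442 = n177140 := d21_10 F426898 (iv1 D203081) (iv5 D117650) (iv6 D54193) (iv1 F85467) D117506 F314529 (iv1 F286784) F302431 D204442
def n204443 : Q := act 5 n123817
theorem D204443 : act 5 n123817 = n204443 := rfl
theorem F432561 : act 2 n204443 = n204176 := d2_1 D204443 (iv5 D204176) (iv2 F198287)
theorem F432562 : act 6 n204443 = n203701 := d12_2 D123817 D204443 (iv5 D203701) (iv6 D120299) (iv5 F112920)
theorem F432563 : act 0 n204443 = n204434 := d17_2 F414870 D204443 F432520 (iv4 D200188) F332138 (iv0 F332165) (iv5 F409891) (iv0 D198920) F356988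
def n204444 : Q := act 7 n123817
theorem D204444 : act 7 n123817 = n204444 := rfl
theorem F432564 : act 2 n204444 = n204177 := d4_1 D204444 (iv7 D204177) (iv2 F198287)
theorem F432565 : act 3 n204444 = n186935 := d8_1 D204444 (iv7 F432559) F432557
theorem F432566 : act 4 n204444 = n198912 := d11_1 D204444 (iv7 F414867) F414864
theorem F432567 : act 6 n204444 = n186831 := d14_1 D204444 F368169 (iv6 D123101) F114948 D123817
theorem F432568 : act 1 n200073 = n204444 := d15_1 (iv0 F414912) (iv7 D204444) F198287
theorem F432569 : act 1 n204444 = n200185 := d15_1 F432568 F415458 (iv2 F414908)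
def n204445 : Q := act 5 n123818
theorem D204445 : act 5 n123818 = n204445 := rfl
def n204446 : Q := act 4 n123819
theorem D204446 : act 4 n123819 = n204446 := rfl
theorem F432570 : act 3 n204446 = n147294 := d5_1 D204446 F230913 F190155 (iv4 F426504) F426503
theorem F432571 : act 6 n204446 = n147292 := d10_2 F365395 D204446 (iv4 F348522)
theorem F432572 : act 7 n204446 = n154598 := d11_2 (iv7 F415428) D204446 (iv4 F355103)
theorem F432573 : act 0 n204446 = n188570 := d20_1 D204446 F374016 (iv3 D92514) F290701 D102775 (iv4 F346102) (iv1 F206352) F206349 (iv3 F241662) (iv1 F241664)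
theorem F432574 : act 5 n203560 = n204446 := d13_3 F432572 F403125 (iv7 F428881)
def n204447 : Q := act 5 n123819
theorem D204447 : act 5 n123819 = n204447 := rfl
theorem F432575 : act 3 n204447 = n193800 := d6_1 D204447 (iv5 F426505) F426503
def n204448 : Q := act 0 n123820
theorem D204448 : act 0 n123820 = n204448 := rfl
def n204449 : Q := act 4 n123820
theorem D204449 : act 4 n123820 = n204449 := rfl
theorem F432576 : act 6 n204449 = n204053 := d10_2 (iv6 F198289) D204449 (iv4 D204053)
def n204450 : Q := act 7 n123820
theorem D204450 : act 7 n123820 = n204450 := rfl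
theorem F432577 : act 3 n204450 = n123835 := d8_1 D204450 (iv7 D123835) (iv3 F198288)
theorem F432578 : act 5 n204450 = n123821 := d13_1 D204450 (iv7 D123821) D123820
def n204451 : Q := act 4 n123825
theorem D204451 : act 4 n123825 = n204451 := rfl
theorem F432579 : act 3 n204451 = n155995 := d5_1 D204451 F340591 F137253 (iv4 F157148) F358615
theorem F432580 : act 5 n204451 = n155992 := d16_1 D204451 F245057 F365202 F171823 (iv5 F171649) F341483 D123830 F341500 F341498
def n204452 : Q := act 6 n123825
theorem D204452 : act 6 n123825 = n204452 := rfl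
theorem F432581 : act 3 n204452 = n193795 := d7_1 D204452 (iv6 D193795) F358615
theorem F432582 : act 5 n204452 = n197599 := d12_1 D204452 F404971 (iv5 F198293) (iv6 D123826) D123825
theorem F432583 : act 7 n204452 = n197598 := d14_2 F341490 D204452 (iv6 F405095) (iv7 F406334) F406333
def n204453 : Q := act 4 n123828
theorem D204453 : act 4 n123828 = n204453 := rfl
theorem F432584 : act 2 n204453 = n144906 := d1_1 D204453 (iv4 F370347) F370346
theorem F432585 : act 3 n204453 = n170270 := d5_1 D204453 (iv4 F410274) F410273 F341483 D123828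
theorem F432586 : act 7 n204453 = n144902 := d11_2 (iv7 F341482) D204453 F227868
theorem F432587 : act 5 n204453 = n190806 := d18_4 F131205 (iv4 F110738) (iv1 F354939) D204453 (iv4 F427679) (iv0 F427681) (iv4 D130890) (iv0 F237487) (iv5 D117248)
theorem F432588 : act 0 n204453 = n144905 := d20_1 D204453 (iv4 F357743) (iv3 F357741) (iv1 F392162) F392159 F223212 F336881 (iv4 F244527) F244526 (iv1 F354939)
theorem F432589 : act 0 n204313 = n194092 := d17_2 (iv1 F354938) D204313 F392028 F374046 (iv5 D177028) (iv0 F343386) F341983 (iv0 F432588) (iv4 D204453)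
theorem F432590 : act 0 n144904 = n204453 := d20_10 (iv4 D204453) (iv1 F354938) (iv4 F310207) F232586 (iv1 D68686) (iv3 F104891) (iv4 F229834) (iv1 F337032) (iv4 F337024) F306063
def n204454 : Q := act 4 n123830
theorem D204454 : act 4 n123830 = n204454 := rfl
def n204455 : Q := act 4 n123832
theorem D204455 : act 4 n123832 = n204455 := rfl
theorem F432591 : act 3 n204455 = n185481 := d5_1 D204455 (iv4 D185481) F151996 D98602 F370309
theorem F432592 : act 5 n204455 = n201991 := d16_1 D204455 F422641 (iv5 F402192) (iv4 F424954) (iv5 F431042) F431041 F253206 (iv7 F370315) (iv2 F370314)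
theorem F432593 : act 1 n204455 = n177928 := d18_6 (iv1 D138631) (iv4 F216058) F391632 F391629 (iv5 F370308) D204455 F277495 D177930 (iv5 F363016)
def n204456 : Q := act 6 n123832
theorem D204456 : act 6 n123832 = n204456 := rfl
theorem F432594 : act 2 n204456 = n185072 := d3_1 D204456 F411839 (iv2 F370314)
theorem F432595 : act 3 n204456 = n191630 := d7_1 D204456 F383982 F370309
theorem F432596 : act 5 n204456 = n204038 := d21_6 (iv5 D86510) (iv1 F297327) D56891 (iv6 F90889) D123832 D204456 (iv1 D204038) F364078 F337945 (iv1 F310411)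
theorem F432597 : act 0 n185074 = n204456 := d21_4 (iv5 D88029) (iv1 F289632) D102375 (iv6 F364067) (iv6 D204456) F370308 F370307 (iv5 D185226) (iv6 D88264) (iv1 F356381)
theorem F432598 : act 7 n185073 = n204456 := d15_2 (iv0 D185072) D185073 F432594
def n204457 : Q := act 3 n123833
theorem D204457 : act 3 n123833 = n204457 := rfl
theorem F432599 : act 2 n204457 = n193770 := d0_1 D204457 (iv3 D193770) (iv2 F157914) F358595 F370313
theorem F432600 : act 1 n204457 = n155512 := d15_0 (iv0 F392030) F392029 (iv2 F432599)
def n204458 : Q := act 4 n123833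
theorem D204458 : act 4 n123833 = n204458 := rfl
theorem F432601 : act 5 n204458 = n202139 := d9_2 F253206 D204458 F424773 F415067 (iv4 F384912) (iv5 F391630) F391629 (iv5 F370308) D204455 F432592 F422641 (iv5 F402192) (iv4 F424954) (iv5 F431042) F431041
theorem F432602 : act 0 n204458 = n177928 := d18_2 (iv1 F198333) D204458 F277495 (iv5 F300527) F191646 (iv0 F354940) F341483 F90900 D123896
def n204459 : Q := act 6 n123833
theorem D204459 : act 6 n123833 = n204459 := rfl
def n204460 : Q := act 0 n123834
theorem D204460 : act 0 n123834 = n204460 := rfl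
theorem F432603 : act 4 n204460 = n204121 := d18_3 (iv1 D123833) D123834 D204460 F431115 F411439 (iv0 F363289) (iv4 F172518) F363297 F253206
def n204461 : Q := act 1 n123834
theorem D204461 : act 1 n123834 = n204461 := rfl
theorem F432604 : act 4 n204461 = n204122 := d18_7 (iv1 F198312) (iv4 D57719) (iv1 D27561) (iv4 F44467) D57710 D123834 D204461 F431120 F341424
theorem F432605 : act 3 n204461 = n203781 := d19_3 (iv1 F411444) F431122 (iv4 F432604) F429783 D204057 F430925 F404852 (iv1 D197564) F343147 (iv4 F409617) (iv3 D198862) (iv1 D110390) D110391 F337176 F337172 (iv1 D151799) F318168 D117811 (iv3 F356846)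
theorem F432606 : act 3 n203909 = n204122 := d5_5 (iv4 F432604) F432605 (iv4 D203781) (iv3 F332470) (iv4 F430347)
theorem F432607 : act 3 n177929 = n194122 := d8_3 (iv7 F430346) F432606 F431121
def n204462 : Q := act 3 n123834
theorem D204462 : act 3 n123834 = n204462 := rfl
theorem F432608 : act 6 n204462 = n204056 := d7_2 (iv6 F198295) D204462 (iv3 D204056)
def n204463 : Q := act 5 n123834
theorem D204463 : act 5 n123834 = n204463 := rfl
theorem F432609 : act 4 n204463 = n196429 := d16_2 D123834 D204463 (iv5 F431479) F431478 F197316 (iv4 F90898) D123896 F198332 F90904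
def n204464 : Q := act 7 n123834
theorem D204464 : act 7 n123834 = n204464 := rfl
theorem F432610 : act 4 n204464 = n123835 := d11_1 D204464 (iv7 D123835) D123834
def n204465 : Q := act 5 n123845
theorem D204465 : act 5 n123845 = n204465 := rfl
theorem F432611 : act 2 n204465 = n152682 := d2_1 D204465 (iv5 F244515) (iv2 F331654)
theorem F432612 : act 3 n204465 = n201491 := d6_1 D204465 (iv5 F428834) F428836
theorem F432613 : act 4 n204465 = n148541 := d16_2 D123845 D204465 F233305 (iv4 F419721) (iv5 F428438) F428437 F233292 F244508 F331649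
theorem F432614 : act 1 n204465 = n148985 := d17_6 (iv1 D69606) D69608 (iv1 F331650) (iv5 D123846) D123845 D204465 (iv5 F234156) F234158 (iv4 D148523)
theorem F432615 : act 6 n204465 = n148981 := d21_3 (iv5 F393504) (iv1 F393506) D204465 (iv1 D148981) (iv6 D69853) F51501 (iv1 F37288) (iv5 F41917) D54390 F184567
def n204466 : Q := act 6 n123845
theorem D204466 : act 6 n123845 = n204466 := rfl
theorem F432616 : act 2 n204466 = n202967 := d3_1 D204466 F426425 (iv2 F331654)
theorem F432617 : act 4 n204466 = n123847 := d10_1 D204466 (iv6 D123847) D123845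
theorem F432618 : act 7 n204466 = n202334 := d14_2 F331656 D204466 F423669 (iv7 F216384) F331662
theorem F432619 : act 5 n204466 = n202335 := d21_6 (iv5 F301167) F301163 (iv5 F159131) D194510 (iv1 F393506) D204466 (iv1 F423674) (iv5 F397464) F397465 F197931
theorem F432620 : act 0 n204466 = n202968 := d21_10 (iv5 F426429) F422809 (iv5 D145056) D145057 F397486 (iv6 D195590) F234156 (iv1 F432614) (iv5 D204465) D204466
theorem F432621 : act 1 n204466 = n146036 := d15_1 (iv0 F432620) F229275 D202968
def n204467 : Q := act 4 n123846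
theorem D204467 : act 4 n123846 = n204467 := rfl
theorem F432622 : act 2 n204467 = n201259 := d1_1 D204467 F419716 (iv2 F331651)
theorem F432623 : act 7 n204467 = n201696 := d11_2 (iv7 F331652) D204467 F421454
theorem F432624 : act 5 n204467 = n201251 := d16_5 (iv4 F432613) (iv5 D204465) (iv4 D123845) D123846 D204467 F419671 F233313 F233312 F233307
theorem F432625 : act 0 n204467 = n152391 := d17_0 (iv5 D152391) (iv1 D71891) D71892 (iv4 F353537) (iv5 D148524) F184565 D203151 F427183 D204467
theorem F432626 : act 1 n204467 = n152386 := d18_8 (iv1 F177564) F348528 (iv1 F233315) (iv4 F339324) D201534 (iv4 F427182) F427183 D204467 (iv5 D152386)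
def n204468 : Q := act 6 n123846
theorem D204468 : act 6 n123846 = n204468 := rfl
theorem F432627 : act 3 n204468 = n123858 := d7_1 D204468 (iv6 D123858) (iv3 F198305)
theorem F432628 : act 5 n204468 = n197265 := d12_1 D204468 F427072 F427070 (iv6 D123847) D123846
theorem F432629 : act 7 n204468 = n202506 := d14_2 (iv7 F331652) D204468 (iv6 D202506) F180486 D134011
theorem F432630 : act 0 n204468 = n139099 := d21_10 (iv5 D139099) F219588 (iv5 F358058) (iv6 D133589) (iv1 F314235) F356970 (iv5 D119865) F331648 D123846 D204468
def n204469 : Q := act 0 n123847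
theorem D204469 : act 0 n123847 = n204469 := rfl
theorem F432631 : act 5 n204469 = n143091 := d17_3 D203128 F427070 D204469 F397115 (iv5 D195478) F179734 (iv5 F414630) F414632 F397123
theorem F432632 : act 4 n204469 = n178675 := d18_1 D204469 (iv1 F316205) (iv4 F359453) (iv5 F397122) (iv4 D195484) D195483 (iv4 F432046) F432049 F427070
theorem F432633 : act 3 n204469 = n143119 := d20_5 (iv4 F172345) F341415 F329968 (iv3 F198306) D204469 (iv4 F341542) (iv1 F229159) (iv4 F426444) F426443 (iv1 D134419)
theorem F432634 : act 6 n204469 = n192079 := d21_5 D69608 (iv1 F331650) (iv5 D123846) D123847 D204469 (iv5 D192079) F385138 F385136 F231937 (iv1 D69606)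
theorem F432635 : act 2 n202700 = n204469 := d15_3 (iv0 D204469) (iv0 F359464) (iv7 F425174)
theorem F432636 : act 7 n204469 = n143090 := d4_2 (iv7 F425174) F432635 F347287
def n204470 : Q := act 4 n123852
theorem D204470 : act 4 n123852 = n204470 := rfl
def n204471 : Q := act 6 n123852
theorem D204471 : act 6 n123852 = n204471 := rfl
theorem F432637 : act 2 n204471 = n203366 := d3_1 D204471 (iv6 F431452) F431450
theorem F432638 : act 5 n204471 = n135198 := d12_1 D204471 (iv6 D135198) F98835 F329969 D123852
theorem F432639 : act 7 n204471 = n135201 := d14_2 (iv7 F343234) D204471 F217373 F98846 (iv6 F216408)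
def n204472 : Q := act 3 n123855
theorem D204472 : act 3 n123855 = n204472 := rfl
theorem F432640 : act 5 n204472 = n134280 := d6_2 (iv5 F329808) D204472 F216308
theorem F432641 : act 6 n204472 = n134283 := d7_2 (iv6 F329809) D204472 F216309
def n204473 : Q := act 3 n123856
theorem D204473 : act 3 n123856 = n204473 := rfl
def n204474 : Q := act 0 n123857
theorem D204474 : act 0 n123857 = n204474 := rfl
theorem F432642 : act 4 n204474 = n198994 := d18_3 (iv1 D123856) D123857 D204474 F410228 F216058 D138631 (iv4 F357153) F406347 F406345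
theorem F432643 : act 1 n123874 = n204474 := d15_0 (iv0 D204474) (iv7 F365248) (iv2 F329926)
theorem F432644 : act 2 n199081 = n204474 := d1_3 F432642 F410230 D199081
theorem F432645 : act 7 n199077 = n204474 := d11_0 F432642 F410227 D199077
def n204475 : Q := act 1 n123857
theorem D204475 : act 1 n123857 = n204475 := rfl
theorem F432646 : act 1 n204475 = n123874 := d15_1 D204475 (iv7 F431458) F431456
theorem F432647 : act 7 n204475 = n199081 := d15_2 (iv0 D204474) D204475 F432644
theorem F432648 : act 4 n204475 = n198993 := d18_7 F341510 F116506 F341417 (iv4 D57714) D57715 D123857 D204475 (iv0 D198993) (iv5 F341503)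
theorem F432649 : act 2 n199077 = n204475 := d1_3 F432648 F410225 D199077
theorem F432650 : act 5 n196915 = n204475 := d16_3 F423023 (iv5 D202140) (iv4 F402273) F432648 F410221 F363021 F364405 (iv7 F411452) F411449
theorem F432651 : act 3 n204475 = n196917 := d19_3 F391633 (iv5 F410221) (iv4 F432648) F402281 (iv5 D153716) F109217 (iv3 F86824) F318260 D138971 F346822 (iv3 D154955) (iv1 D73502) D73504 (iv4 F306705) (iv3 F136651) F337229 D90129 D187433 (iv3 F391628)
def n204476 : Q := act 3 n123857
theorem D204476 : act 3 n123857 = n204476 := rfl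
theorem F432652 : act 7 n204476 = n199560 := d8_2 F365248 D204476 F412671
theorem F432653 : act 0 n204476 = n201723 := d19_4 D27560 D57715 D123857 D204476 (iv5 F421567) (iv4 F423980) F423979 (iv1 F180073) (iv5 F336739) F173472 (iv3 F173465) F219839 F176324 (iv4 F176376) D144346 F415296 (iv5 D123713) F90861 F44456
theorem F432654 : act 1 n196477 = n201723 := d15_0 (iv0 F432653) F432652 F412670
def n204477 : Q := act 5 n123857
theorem D204477 : act 5 n123857 = n204477 := rfl
theorem F432655 : act 7 n204477 = n199561 := d13_2 F365248 D204477 (iv5 D199561)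
def n204478 : Q := act 6 n123857
theorem D204478 : act 6 n123857 = n204478 := rfl
theorem F432656 : act 2 n204478 = n199565 := d3_1 D204478 (iv6 F431457) F431456
theorem F432657 : act 4 n204478 = n123858 := d10_1 D204478 (iv6 D123858) D123857
theorem F432658 : act 7 n204478 = n133973 := d14_2 F365248 D204478 (iv6 D133973) F98181 D111411
theorem F432659 : act 1 n198782 = n204478 := d15_1 (iv0 F409211) F432658 F215901
theorem F432660 : act 0 n199564 = n204478 := d20_1 (iv4 F412685) F432657 (iv3 F432627) F432630 F222286 (iv4 F359389) (iv1 D124084) (iv4 F337462) F173437 D111743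
def n204479 : Q := act 5 n123858
theorem D204479 : act 5 n123858 = n204479 := rfl
theorem F432661 : act 2 n204479 = n193647 := d2_1 D204479 F390550 F363101
theorem F432662 : act 3 n204479 = n197265 := d6_1 D204479 (iv5 F432628) F432627
theorem F432663 : act 6 n204479 = n123862 := d12_2 D123858 D204479 (iv5 D123862) (iv6 D57716) D57715
theorem F432664 : act 7 n204479 = n202510 := d13_2 (iv7 F363102) D204479 (iv5 D202510)
theorem F432665 : act 4 n204479 = n137055 := d16_2 F432657 D204479 (iv5 D137055) (iv4 F111747) F111748 (iv4 F345285) (iv5 F172897) D199565 (iv2 F432656)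
theorem F432666 : act 0 n193151 = n204479 := d21_1 (iv5 F388949) (iv5 D204479) (iv6 D123858) D123855 F329809 (iv5 D63089) D63087 D134290 F331014 F373204
def n204480 : Q := act 4 n123862
theorem D204480 : act 4 n123862 = n204480 := rfl
theorem F432667 : act 2 n204480 = n196527 := d1_1 D204480 F400972 (iv2 F363100)
theorem F432668 : act 3 n204480 = n137057 := d5_1 D204480 F220223 (iv3 F403787) (iv4 F427069) (iv3 F427071)
theorem F432669 : act 5 n204480 = n196647 := d9_2 D123862 D204480 F401324 F345311 F216930 F98635 (iv4 F172441) D199324 F411708 F179637 F84105 (iv5 F101671) (iv4 F345294) F98835 F329968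
theorem F432670 : act 6 n204480 = n137055 := d10_2 F432663 D204480 (iv4 F432665)
theorem F432671 : act 7 n204480 = n202071 := d11_2 (iv7 F365244) D204480 F422824
theorem F432672 : act 0 n204480 = n202021 := d17_0 (iv5 D202021) (iv1 D115329) D115331 D202024 F422736 (iv0 D120455) D120457 (iv0 F198318) D204480
theorem F432673 : act 1 n204480 = n202019 := d18_6 (iv1 D134419) (iv4 F172345) F341415 F329968 D123862 D204480 (iv4 F431733) F431736 F431068
def n204481 : Q := act 0 n123869
theorem D204481 : act 0 n123869 = n204481 := rfl
def n204482 : Q := act 1 n123869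
theorem D204482 : act 1 n123869 = n204482 := rfl
theorem F432674 : act 5 n204482 = n204353 := d17_7 F419522 (iv5 F259022) F335478 (iv5 F352378) F347685 D123869 D204482 F432179 F427049
theorem F432675 : act 6 n188219 = n204482 := d12_0 F432674 (iv6 D204353) (iv5 F368899) D198986 (iv5 F410184)
theorem F432676 : act 4 n204482 = n188220 := d10_1 F432675 (iv6 D188220) D188219
def n204483 : Q := act 4 n123869
theorem D204483 : act 4 n123869 = n204483 := rfl
theorem F432677 : act 6 n204483 = n133984 := d10_2 (iv6 F329925) D204483 (iv4 D133984)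
def n204484 : Q := act 3 n123874
theorem D204484 : act 3 n123874 = n204484 := rfl
theorem F432678 : act 6 n204484 = n133986 := d7_2 (iv6 F329927) D204484 (iv3 D133986)
def n204485 : Q := act 5 n123874
theorem D204485 : act 5 n123874 = n204485 := rfl
theorem F432679 : act 2 n204485 = n199561 := d2_1 D204485 (iv5 D199561) (iv2 F329926)
theorem F432680 : act 6 n204485 = n199405 := d12_2 (iv6 F329927) D204485 (iv5 D199405) (iv6 D111295) (iv5 F98188)
def n204486 : Q := act 0 n123882
theorem D204486 : act 0 n123882 = n204486 := rfl
theorem F432681 : act 4 n204486 = n204127 := d18_3 D57722 D123882 D204486 F431140 F341423 (iv0 D123849) (iv4 D57714) (iv0 D27560) D27562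
theorem F432682 : act 6 n204486 = n199634 := d21_5 (iv5 F345068) (iv1 F167861) D197645 (iv6 F405175) D204486 F412929 (iv1 F388281) (iv5 F424165) (iv6 D202476) (iv1 F345051)
theorem F432683 : act 1 n123887 = n204486 := d15_0 (iv0 D204486) (iv7 F431473) F431470
theorem F432684 : act 7 n204126 = n204486 := d14_0 F432682 (iv7 F412928) (iv6 F412539) (iv7 F198399) (iv6 F431139)
def n204487 : Q := act 1 n123882
theorem D204487 : act 1 n123882 = n204487 := rfl
theorem F432685 : act 1 n204487 = n123887 := d15_1 D204487 (iv7 F431468) F431466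
theorem F432686 : act 4 n161577 = n204487 := d20_6 (iv4 F355586) (iv1 F420215) (iv4 F426116) F426115 (iv1 F384996) F366786 (iv1 D204487) (iv4 D123882) D123881 (iv1 F355577)
theorem F432687 : act 6 n123990 = n204487 := d21_3 (iv5 F191936) F302881 (iv5 F303324) (iv1 D204487) F405175 (iv5 D197645) F167860 D108561 F345065 (iv1 F304275)
theorem F432688 : act 2 n204487 = n204126 := d3_1 F432687 F431139 F198401
def n204488 : Q := act 2 n123886
theorem D204488 : act 2 n123886 = n204488 := rfl
theorem F432689 : act 3 n204488 = n203120 := d0_2 D123886 D204488 F427051 (iv3 F355609) F355567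
theorem F432690 : act 7 n204488 = n191997 := d4_2 F431464 D204488 (iv2 F431461)
theorem F432691 : act 5 n203119 = n204488 := d13_3 F432690 F385148 (iv7 F427050)
theorem F432692 : act 1 n192776 = n204488 := d15_1 (iv0 F431465) F432690 (iv2 F431461)
def n204489 : Q := act 4 n123886
theorem D204489 : act 4 n123886 = n204489 := rfl
def n204490 : Q := act 5 n123886
theorem D204490 : act 5 n123886 = n204490 := rfl
theorem F432693 : act 2 n204490 = n203119 := d2_1 D204490 F432691 (iv2 D204488)
theorem F432694 : act 3 n204490 = n123888 := d6_1 D204490 (iv5 D123888) D123886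
theorem F432695 : act 7 n204490 = n186901 := d13_2 F431464 D204490 (iv5 F431462)
theorem F432696 : act 4 n204490 = n195198 := d17_4 (iv1 F352388) (iv5 F394097) (iv1 F432136) D204490 F396211 (iv0 D188558) F142279 F177719 (iv4 F347680)
theorem F432697 : act 6 n204490 = n195197 := d21_3 (iv5 F394097) (iv1 F432136) D204490 F396209 (iv6 D117586) D117585 F349957 F360704 F360705 (iv1 F352388)
def n204491 : Q := act 6 n123886
theorem D204491 : act 6 n123886 = n204491 := rfl
theorem F432698 : act 3 n204491 = n123889 := d7_1 D204491 (iv6 D123889) D123886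
theorem F432699 : act 7 n204491 = n191992 := d14_2 F431464 D204491 (iv6 D191992) (iv7 F372414) (iv6 F431463)
theorem F432700 : act 5 n188337 = n204491 := d13_3 F432699 F385133 F409135
theorem F432701 : act 0 n188153 = n204491 := d20_4 D191884 F384657 (iv4 D188154) D188153 F432698 (iv4 F363295) (iv1 D111526) (iv4 F171791) (iv3 F384648) (iv1 D191883)
def n204492 : Q := act 5 n123887
theorem D204492 : act 5 n123887 = n204492 := rfl
theorem F432702 : act 6 n204492 = n204272 := d12_2 (iv6 F363296) D204492 (iv5 D204272) F302633 (iv5 F341347)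
def n204493 : Q := act 0 n123892
theorem D204493 : act 0 n123892 = n204493 := rfl
def n204494 : Q := act 1 n123892
theorem D204494 : act 1 n123892 = n204494 := rfl
theorem F432703 : act 3 n188887 = n204494 := d20_3 F143261 D92884 D188887 (iv1 D204494) (iv3 D123892) (iv4 D57724) D57722 D123882 (iv3 F375428) (iv1 D188884)
def n204495 : Q := act 2 n123892
theorem D204495 : act 2 n123892 = n204495 := rfl
theorem F432704 : act 6 n204495 = n124017 := d3_2 (iv6 F198327) D204495 (iv2 D124017)
def n204496 : Q := act 7 n123892
theorem D204496 : act 7 n123892 = n204496 := rfl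
theorem F432705 : act 3 n204496 = n123894 := d8_1 D204496 (iv7 D123894) D123892
def n204497 : Q := act 4 n123893
theorem D204497 : act 4 n123893 = n204497 := rfl
def n204498 : Q := act 6 n123893
theorem D204498 : act 6 n123893 = n204498 := rfl
theorem F432706 : act 2 n204498 = n195911 := d3_1 D204498 (iv6 F413597) (iv2 F413596)
theorem F432707 : act 3 n204498 = n199220 := d7_1 D204498 (iv6 F411210) (iv3 F393759)
theorem F432708 : act 5 n204498 = n124020 := d12_1 D204498 (iv6 D124020) (iv5 D57775) (iv6 F90894) D123893
theorem F432709 : act 0 n204498 = n195909 := d21_4 (iv5 F402192) (iv1 D123891) D123893 D204498 (iv6 D195909) F163674 (iv1 F93291) F180739 D112675 F402193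
theorem F432710 : act 0 n195913 = n204498 := d21_4 F407684 F216237 (iv5 F331824) (iv6 F398706) (iv6 D204498) (iv5 D123893) D123890 (iv5 F415067) (iv6 F415068) (iv1 F407686)
theorem F432711 : act 7 n195910 = n204498 := d8_0 F432707 F411207 (iv3 F398699)
def n204499 : Q := act 5 n123895
theorem D204499 : act 5 n123895 = n204499 := rfl
theorem F432712 : act 2 n204499 = n178083 := d2_1 D204499 (iv5 F406681) (iv2 F406682)
theorem F432713 : act 3 n204499 = n154411 := d6_1 D204499 (iv5 F432402) F432400
theorem F432714 : act 6 n204499 = n123896 := d12_2 D123895 D204499 (iv5 D123896) (iv6 D57726) (iv5 F90895)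
theorem F432715 : act 7 n204499 = n124024 := d13_2 (iv7 F198329) D204499 (iv5 D124024)
theorem F432716 : act 0 n204499 = n178081 := d17_2 (iv1 F363106) D204499 (iv5 F386057) F386056 F374511 (iv0 F365474) (iv5 F412534) (iv0 D199528) F172879
theorem F432717 : act 1 n204499 = n178080 := d15_0 (iv0 D178080) D178083 (iv2 F432712)
theorem F432718 : act 7 n178080 = n193834 := d15_2 (iv0 F432716) F432717 F391137
theorem F432719 : act 3 n193787 = n178080 := d8_3 F432718 (iv3 F392125) F392122
def n204500 : Q := act 4 n123896
theorem D204500 : act 4 n123896 = n204500 := rfl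
theorem F432720 : act 2 n204500 = n204464 := d1_1 D204500 F432610 (iv2 F198330)
theorem F432721 : act 5 n204500 = n204497 := d9_2 D123896 D204500 (iv4 D204497) (iv5 D123893) (iv4 D57724) (iv5 D27562) (iv4 F44467) D57710 D123834 D204463 F432609 (iv5 F431479) F431478 F197316 (iv4 F90898)
theorem F432722 : act 7 n204500 = n123909 := d11_2 (iv7 F198332) D204500 (iv4 D123909)
theorem F432723 : act 0 n204500 = n204461 := d18_2 (iv1 F198334) D204500 F432604 (iv5 F431122) F411448 F363291 (iv4 F353709) (iv0 F370307) (iv5 F370308)
theorem F432724 : act 1 n204500 = n204460 := d18_6 F341417 (iv4 D57714) (iv1 F90381) (iv4 F90898) D123896 D204500 F432603 (iv0 D204121) (iv5 D122696)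
def n204501 : Q := act 4 n123900
theorem D204501 : act 4 n123900 = n204501 := rfl
theorem F432725 : act 2 n204501 = n204451 := d1_1 D204501 (iv4 D204451) (iv2 F341498)
theorem F432726 : act 7 n204501 = n204454 := d11_2 F341500 D204501 (iv4 D204454)
theorem F432727 : act 5 n204501 = n156145 := d16_1 D204501 F365205 (iv5 D111760) (iv4 F171626) (iv5 F341503) (iv4 D123904) D123905 F341490 (iv2 F341498)
theorem F432728 : act 0 n204501 = n202140 := d17_0 (iv5 D202140) F422643 (iv5 F432592) (iv4 D204455) F370308 F370310 D199356 F411830 D204501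
theorem F432729 : act 3 n156152 = n204501 := d6_3 F432727 F245387 D156152
theorem F432730 : act 6 n156148 = n204501 := d12_0 F432727 (iv6 D156145) (iv5 D74279) D74280 D156148
def n204502 : Q := act 6 n123900
theorem D204502 : act 6 n123900 = n204502 := rfl
theorem F432731 : act 2 n204502 = n204452 := d3_1 D204502 (iv6 D204452) (iv2 F341498)
theorem F432732 : act 4 n204502 = n156148 := d10_1 D204502 F432730 (iv4 D204501)
theorem F432733 : act 5 n204502 = n197697 := d12_1 D204502 F405405 (iv5 D146924) (iv6 F341472) D123900
theorem F432734 : act 7 n204502 = n197696 := d14_2 F341500 D204502 F405401 F217210 (iv6 F363285)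
theorem F432735 : act 0 n204456 = n183858 := d21_4 (iv5 D199356) (iv1 F370310) (iv5 F370308) D204456 F364066 (iv5 F370637) (iv1 F405407) (iv5 F432733) (iv6 D204502) (iv1 F411830)
def n204503 : Q := act 4 n123905
theorem D204503 : act 4 n123905 = n204503 := rfl
theorem F432736 : act 2 n204503 = n204454 := d1_1 D204503 (iv4 D204454) (iv2 F341501)
theorem F432737 : act 3 n204503 = n191891 := d5_1 D204503 (iv4 D191891) F152852 D99285 (iv3 F358616)
theorem F432738 : act 7 n204503 = n204451 := d11_2 (iv7 F341490) D204503 (iv4 D204451)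
theorem F432739 : act 1 n204503 = n202140 := d18_6 D123849 (iv4 F341423) (iv1 F341511) (iv4 D123904) D123905 D204503 (iv4 F423023) (iv0 F341436) (iv5 D123852)
def n204504 : Q := act 3 n123907
theorem D204504 : act 3 n123907 = n204504 := rfl
theorem F432740 : act 2 n204504 = n194092 := d0_1 D204504 (iv3 D194092) F157905 F370309 F370314
theorem F432741 : act 7 n204504 = n204457 := d8_2 (iv7 F370315) D204504 (iv3 D204457)
theorem F432742 : act 1 n204313 = n204457 := d15_1 (iv0 F432589) (iv7 F432741) F432740
def n204505 : Q := act 4 n123907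
theorem D204505 : act 4 n123907 = n204505 := rfl
theorem F432743 : act 2 n204505 = n204455 := d1_1 D204505 (iv4 D204455) F370314
theorem F432744 : act 7 n204505 = n204458 := d11_2 (iv7 F370315) D204505 (iv4 D204458)
theorem F432745 : act 1 n204505 = n204123 := d18_6 (iv1 D199278) F172373 D134349 (iv4 F411504) F411502 D204505 (iv4 D204123) D204122 (iv5 F431122)
def n204506 : Q := act 4 n123908
theorem D204506 : act 4 n123908 = n204506 := rfl
theorem F432746 : act 2 n204506 = n204458 := d1_1 D204506 (iv4 D204458) (iv2 F370313)
theorem F432747 : act 3 n204506 = n139665 := d5_1 D204506 (iv4 F359514) (iv3 D102670) D102671 F358595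
theorem F432748 : act 7 n204506 = n204455 := d11_2 F370312 D204506 (iv4 D204455)
theorem F432749 : act 5 n204506 = n139664 := d16_1 D204506 (iv4 F228358) (iv5 F424150) F424149 F386339 (iv4 F411504) F411502 F370315 (iv2 F370313)
theorem F432750 : act 0 n204506 = n204123 := d18_2 (iv1 F198338) D204506 (iv4 D204123) (iv5 D122696) (iv4 F116506) (iv0 F341510) (iv4 D123904) F90903 (iv5 F198296)
def n204507 : Q := act 6 n123908
theorem D204507 : act 6 n123908 = n204507 := rfl
theorem F432751 : act 2 n204507 = n204459 := d3_1 D204507 (iv6 D204459) (iv2 F370313)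
theorem F432752 : act 3 n204507 = n136944 := d7_1 D204507 (iv6 F368480) F358595
def n204508 : Q := act 0 n123909
theorem D204508 : act 0 n123909 = n204508 := rfl
theorem F432753 : act 4 n204508 = n177929 := d18_3 (iv1 D123908) D123909 D204508 F364406 F364408 (iv0 D134285) (iv4 F172404) F374111 F374105
theorem F432754 : act 1 n204464 = n204508 := d15_0 (iv0 D204508) (iv7 F432722) F432720
theorem F432755 : act 3 n124050 = n204508 := d20_9 F432610 (iv1 F198338) D204506 F432747 F359507 F360096 (iv4 D84702) D84700 (iv4 F306747) (iv1 F432754)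
theorem F432756 : act 7 n204508 = n204461 := d8_2 F429782 F432755 F432605
theorem F432757 : act 2 n204508 = n204460 := d15_3 (iv0 D204460) D204461 (iv7 F432756)
def n204509 : Q := act 1 n123909
theorem D204509 : act 1 n123909 = n204509 := rfl
theorem F432758 : act 1 n204509 = n204464 := d15_1 D204509 (iv7 D204464) (iv2 F198339)
theorem F432759 : act 7 n204509 = n204460 := d15_2 (iv0 D204508) D204509 (iv2 F432757)
theorem F432760 : act 4 n204509 = n177930 := d18_7 F350263 F98424 F342785 (iv4 F44471) D57729 D123909 D204509 F431129 F431127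
theorem F432761 : act 2 n204461 = n204509 := d1_3 F432760 (iv2 F431123) (iv4 F432604)
def n204510 : Q := act 3 n123909
theorem D204510 : act 3 n123909 = n204510 := rfl
theorem F432762 : act 4 n204510 = n154408 := d5_2 D123909 D204510 (iv3 D154408) (iv4 D73136) (iv3 F90905)
theorem F432763 : act 6 n204510 = n124052 := d7_2 (iv6 F198340) D204510 (iv3 D124052)
def n204511 : Q := act 5 n123909
theorem D204511 : act 5 n123909 = n204511 := rfl
theorem F432764 : act 2 n204511 = n204463 := d2_1 D204511 (iv5 D204463) (iv2 F198339)
theorem F432765 : act 7 n204511 = n204497 := d13_2 F432722 D204511 (iv5 F432721)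
theorem F432766 : act 4 n204511 = n199811 := d16_2 D123909 D204511 (iv5 F413602) F198328 F90895 (iv4 F90890) (iv5 F198296) (iv7 D123835) (iv2 F90904)
theorem F432767 : act 1 n178164 = n204511 := d18_6 (iv1 F410554) (iv4 F363105) (iv1 D134015) (iv4 F172894) D199561 (iv4 F412676) F432766 F413600 (iv5 F410552)
def n204512 : Q := act 4 n123913
theorem D204512 : act 4 n123913 = n204512 := rfl
theorem F432768 : act 5 n204512 = n131113 := d9_2 D123913 D204512 (iv4 D131113) F96028 (iv4 F78770) D107892 F312999 D123518 D204318 F432017 (iv4 D131115) F96023 (iv4 F78819) (iv5 F97988) F314886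
theorem F432769 : act 0 n204512 = n201476 := d17_0 (iv5 D201476) (iv1 F356878) (iv5 F420206) F420205 (iv5 D133583) (iv0 D62691) D62693 (iv0 F314231) D204512
theorem F432770 : act 1 n204512 = n201178 := d18_6 D107876 F166667 F97993 F314886 D123913 D204512 F419340 F387280 (iv5 D107878)
theorem F432771 : act 6 n193117 = n204512 := d21_9 (iv5 D201476) (iv1 F356878) (iv5 F420206) (iv6 D201367) F178386 D114644 F178745 F157718 D193117 F432769
def n204513 : Q := act 6 n123913
theorem D204513 : act 6 n123913 = n204513 := rfl
theorem F432772 : act 4 n204513 = n193117 := d10_1 D204513 F432771 (iv4 D204512)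
theorem F432773 : act 0 n204513 = n192794 := d21_4 (iv5 D57734) D57730 D123913 D204513 (iv6 F406677) (iv5 D198074) (iv1 F168906) (iv5 F353543) (iv6 F356868) (iv1 D123928)
theorem F432774 : act 1 n204513 = n188992 := d15_1 (iv0 F432773) F375348 (iv2 F387811)
def n204514 : Q := act 3 n123928
theorem D204514 : act 3 n123928 = n204514 := rfl
theorem F432775 : act 2 n204514 = n191753 := d0_1 D204514 (iv3 F385327) F385326 F219758 (iv2 F314903)
theorem F432776 : act 4 n204514 = n177819 := d5_2 F356869 D204514 (iv3 F308826) (iv4 F429637) F429640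
theorem F432777 : act 5 n204514 = n130866 := d6_2 (iv5 F314904) D204514 (iv3 D130866)
theorem F432778 : act 6 n204514 = n202566 := d7_2 (iv6 F356868) D204514 F424537
theorem F432779 : act 7 n204514 = n191757 := d8_2 (iv7 F314905) D204514 F384361
def n204515 : Q := act 6 n123929
theorem D204515 : act 6 n123929 = n204515 := rfl
theorem F432780 : act 3 n204515 = n192542 := d7_1 D204515 F387016 F352839
theorem F432781 : act 4 n204515 = n123930 := d10_1 D204515 (iv6 D123930) D123929
theorem F432782 : act 5 n204515 = n135224 := d12_1 D204515 F217412 (iv5 F345003) (iv6 D131120) (iv5 F314907)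
theorem F432783 : act 7 n204515 = n135223 := d14_2 (iv7 F314908) D204515 F217411 D135232 (iv6 F352118)
theorem F432784 : act 5 n203470 = n135557 := d21_0 (iv1 F217985) (iv5 F432782) (iv6 D204515) (iv1 F394184) F394180 F335358 (iv1 F83292) D54859 D119214 D203470
theorem F432785 : act 3 n159498 = n203470 := d6_3 F432784 (iv3 F418677) F418674
def n204516 : Q := act 0 n123930
theorem D204516 : act 0 n123930 = n204516 := rfl
theorem F432786 : act 3 n204516 = n139105 := d20_5 F360065 F360059 F198375 (iv3 F198353) D204516 F410218 (iv1 D198992) (iv4 F409316) (iv3 D198802) F360070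
theorem F432787 : act 6 n204516 = n139099 := d21_5 (iv5 D123518) (iv1 F316651) D57734 D123930 D204516 (iv5 D139099) F219588 (iv5 F358058) (iv6 D133589) (iv1 F314235)
def n204517 : Q := act 1 n123930
theorem D204517 : act 1 n123930 = n204517 := rfl
def n204518 : Q := act 5 n123930
theorem D204518 : act 5 n123930 = n204518 := rfl
theorem F432788 : act 3 n204518 = n123948 := d6_1 D204518 (iv5 D123948) (iv3 F198353)
theorem F432789 : act 6 n204518 = n123933 := d12_2 D123930 D204518 (iv5 D123933) (iv6 D57735) D57734
def n204519 : Q := act 7 n123930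
theorem D204519 : act 7 n123930 = n204519 := rfl
theorem F432790 : act 3 n204519 = n123949 := d8_1 D204519 (iv7 D123949) (iv3 F198353)
theorem F432791 : act 4 n204519 = n135223 := d11_1 D204519 (iv7 F432783) F432781
theorem F432792 : act 6 n204519 = n135231 := d14_1 D204519 F428383 (iv6 D203453) F313357 D123930
def n204520 : Q := act 1 n123944
theorem D204520 : act 1 n123944 = n204520 := rfl
theorem F432793 : act 5 n204520 = n193665 := d17_7 (iv1 F362583) F329869 (iv1 F218564) (iv5 F373153) (iv4 F429758) F429759 D204520 F390619 (iv4 D136431)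
def n204521 : Q := act 2 n123944
theorem D204521 : act 2 n123944 = n204521 := rfl
theorem F432794 : act 3 n204521 = n199596 := d0_2 D123944 D204521 F431495 (iv3 D204209) F197334
theorem F432795 : act 6 n204521 = n199594 := d3_2 F412283 D204521 F412795
def n204522 : Q := act 3 n123950
theorem D204522 : act 3 n123950 = n204522 := rfl
theorem F432796 : act 5 n204522 = n204209 := d6_2 (iv5 F198380) D204522 (iv3 D204209)
theorem F432797 : act 6 n204522 = n197711 := d7_2 F360046 D204522 (iv3 F405477)
theorem F432798 : act 7 n204522 = n203767 := d8_2 (iv7 F198379) D204522 (iv3 D203767)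
theorem F432799 : act 0 n204522 = n196363 := d20_4 F304541 (iv1 F90930) D123950 D204522 F400476 F164790 D108874 F343111 (iv3 F337465) D85870
theorem F432800 : act 2 n198017 = n204522 := d3_3 F432797 (iv2 F405478) D198017
def n204523 : Q := act 6 n123959
theorem D204523 : act 6 n123959 = n204523 := rfl
theorem F432801 : act 3 n204523 = n193050 := d7_1 D204523 (iv6 D193050) (iv3 F357947)
theorem F432802 : act 0 n204523 = n139370 := d21_4 (iv5 D132793) (iv1 F312599) D123959 D204523 (iv6 D139370) (iv5 D65413) D65410 (iv5 F357473) (iv6 F366654) F366656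
def n204524 : Q := act 4 n123962
theorem D204524 : act 4 n123962 = n204524 := rfl
theorem F432803 : act 2 n204524 = n123970 := d1_1 D204524 (iv4 D123970) (iv2 F198384)
def n204525 : Q := act 6 n123962
theorem D204525 : act 6 n123962 = n204525 := rfl
theorem F432804 : act 2 n204525 = n123971 := d3_1 D204525 (iv6 D123971) (iv2 F198384)
theorem F432805 : act 3 n204525 = n131161 := d7_1 D204525 (iv6 D131161) (iv3 F315061)
def n204526 : Q := act 0 n123970
theorem D204526 : act 0 n123970 = n204526 := rfl
def n204527 : Q := act 1 n123970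
theorem D204527 : act 1 n123970 = n204527 := rfl
def n204528 : Q := act 3 n123970
theorem D204528 : act 3 n123970 = n204528 := rfl
theorem F432806 : act 4 n204528 = n123976 := d5_2 D123970 D204528 (iv3 D123976) (iv4 D57756) (iv3 F90932)
def n204529 : Q := act 6 n123970
theorem D204529 : act 6 n123970 = n204529 := rfl
theorem F432807 : act 4 n204529 = n123971 := d10_1 D204529 (iv6 D123971) D123970
def n204530 : Q := act 0 n123971
theorem D204530 : act 0 n123971 = n204530 := rfl
def n204531 : Q := act 1 n123971
theorem D204531 : act 1 n123971 = n204531 := rfl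
def n204532 : Q := act 5 n123971
theorem D204532 : act 5 n123971 = n204532 := rfl
theorem F432808 : act 3 n204532 = n123980 := d6_1 D204532 (iv5 D123980) (iv3 F198389)
theorem F432809 : act 6 n204532 = n123974 := d12_2 D123971 D204532 (iv5 D123974) (iv6 D57753) D57752
theorem F432810 : act 5 n204530 = n194786 := d21_8 F291470 D90450 (iv5 F292380) F383232 F383231 (iv6 F432809) (iv5 D204532) D204530 (iv6 D194786) F292345
theorem F432811 : act 6 n188222 = n204530 := d12_0 F432810 (iv6 D194786) (iv5 D104411) D104412 (iv5 F372725)
theorem F432812 : act 4 n188223 = n204530 := d16_0 F432810 F394470 F288565 F136280 (iv5 F156826) (iv4 F390209) (iv5 F390211) (iv7 F390212) (iv2 F372726)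
theorem F432813 : act 4 n204128 = n204532 := d10_3 F432809 (iv4 F386728) (iv6 F431144)
def n204533 : Q := act 7 n123971
theorem D204533 : act 7 n123971 = n204533 := rfl
theorem F432814 : act 3 n204533 = n123981 := d8_1 D204533 (iv7 D123981) (iv3 F198389)
def n204534 : Q := act 0 n123976
theorem D204534 : act 0 n123976 = n204534 := rfl
theorem F432815 : act 3 n204534 = n198782 := d20_5 (iv4 D82017) (iv1 F301453) D57756 D123976 D204534 F409210 (iv1 D111744) F81285 (iv3 F81282) (iv1 F337470)
theorem F432816 : act 1 n199596 = n204534 := d15_0 (iv0 D204534) (iv7 F431494) (iv2 F431495)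
theorem F432817 : act 6 n198781 = n204534 := d21_3 (iv5 D111386) F170388 D198781 (iv1 F432816) (iv6 D199596) F365188 (iv1 F172689) D199408 (iv6 F412522) (iv1 D199524)
theorem F432818 : act 4 n134945 = n204534 := d19_2 D63462 (iv5 F336996) F432815 F409211 F172897 F345285 (iv3 D63522) (iv1 F79354) (iv5 D50114) (iv4 D24442) F19547 (iv1 F24121) (iv5 F24123) (iv4 F38349) (iv3 F39106) (iv1 F39108) F19259 D14236 D29978
def n204535 : Q := act 1 n123976
theorem D204535 : act 1 n123976 = n204535 := rfl
def n204536 : Q := act 2 n123976
theorem D204536 : act 2 n123976 = n204536 := rfl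
theorem F432819 : act 7 n204536 = n199596 := d4_2 F431494 D204536 F431495
theorem E103885 : n204535 = n154775 := (c15_1 D204535 (iv0 F412803) (iv7 F432819) (iv2 D204536))
theorem F432820 : act 0 n154775 = n123976 := (sb E103885 (iv1 D204535))
def n204537 : Q := act 6 n123976
theorem D204537 : act 6 n123976 = n204537 := rfl
theorem F432821 : act 3 n204537 = n123977 := d7_1 D204537 (iv6 D123977) D123976
theorem F432822 : act 7 n204537 = n199598 := d14_2 F431494 D204537 (iv6 D199598) (iv7 F411967) (iv6 F431493)
def n204538 : Q := act 0 n123977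
theorem D204538 : act 0 n123977 = n204538 := rfl
def n204539 : Q := act 1 n123977
theorem D204539 : act 1 n123977 = n204539 := rfl
theorem F432823 : act 1 n204539 = n200042 := d15_1 D204539 (iv7 F431499) F431497
def n204540 : Q := act 5 n123977
theorem D204540 : act 5 n123977 = n204540 := rfl
def n204541 : Q := act 7 n123977
theorem D204541 : act 7 n123977 = n204541 := rfl
theorem F432824 : act 2 n204541 = n200042 := d4_1 D204541 (iv7 F431499) F431497
theorem F432825 : act 3 n204541 = n199598 := d8_1 D204541 (iv7 F432822) F432821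
theorem F432826 : act 4 n204541 = n123981 := d11_1 D204541 (iv7 D123981) (iv4 F198392)
theorem F432827 : act 6 n204541 = n180574 := d14_1 D204541 F360057 (iv6 F360049) F197335 D123977
theorem F432828 : act 1 n200042 = n204538 := d15_0 (iv0 D204538) D204541 F432824
def n204542 : Q := act 4 n123978
theorem D204542 : act 4 n123978 = n204542 := rfl
def n204543 : Q := act 5 n123978
theorem D204543 : act 5 n123978 = n204543 := rfl
theorem F432829 : act 3 n204543 = n153675 := d6_1 D204543 F394060 F394058
theorem F432830 : act 6 n204543 = n134254 := d12_2 (iv6 F394048) D204543 F216283 (iv6 F168745) F394045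
theorem F432831 : act 0 n202521 = n204543 := d21_1 D202521 (iv5 D204543) F394048 (iv1 F394046) (iv6 F343846) (iv5 F343848) F343859 (iv5 F373360) F424352 (iv1 D202520)
def n204544 : Q := act 3 n123979
theorem D204544 : act 3 n123979 = n204544 := rfl
def n204545 : Q := act 1 n123980
theorem D204545 : act 1 n123980 = n204545 := rfl
theorem F432832 : act 5 n139420 = n204545 := d21_0 (iv1 D204545) (iv5 D123980) (iv6 D57757) (iv1 F90926) (iv6 F336752) (iv5 D59491) F45750 D30681 D65436 D139420
def n204546 : Q := act 4 n123980
theorem D204546 : act 4 n123980 = n204546 := rfl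
theorem F432833 : act 3 n204546 = n204131 := d5_1 D204546 (iv4 D204131) (iv3 F431143) F432813 F432808
theorem F432834 : act 6 n204546 = n123982 := d10_2 (iv6 F198393) D204546 (iv4 D123982)
def n204547 : Q := act 7 n123980
theorem D204547 : act 7 n123980 = n204547 := rfl
theorem F432835 : act 5 n204547 = n123981 := d13_1 D204547 (iv7 D123981) D123980
def n204548 : Q := act 6 n123986
theorem D204548 : act 6 n123986 = n204548 := rfl
theorem F432836 : act 3 n204548 = n189007 := d7_1 D204548 (iv6 D189007) F374377
theorem F432837 : act 4 n204548 = n123988 := d10_1 D204548 (iv6 D123988) D123986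
def n204549 : Q := act 0 n123988
theorem D204549 : act 0 n123988 = n204549 := rfl
def n204550 : Q := act 7 n123988
theorem D204550 : act 7 n123988 = n204550 := rfl
theorem F432838 : act 3 n204550 = n123996 := d8_1 D204550 (iv7 D123996) (iv3 F198395)
theorem F432839 : act 5 n204550 = n197964 := d13_1 D204550 F406297 (iv5 F358468)
def n204551 : Q := act 3 n123989
theorem D204551 : act 3 n123989 = n204551 := rfl
theorem F432840 : act 4 n204551 = n135404 := d5_2 (iv4 F304462) D204551 (iv3 F387164) F387165 F280080
theorem F432841 : act 5 n204551 = n135149 := d6_2 (iv5 F304463) D204551 F351247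
theorem F432842 : act 7 n204551 = n204242 := d8_2 F198399 D204551 (iv3 D204242)
def n204552 : Q := act 6 n123991
theorem D204552 : act 6 n123991 = n204552 := rfl
theorem F432843 : act 3 n204552 = n123992 := d7_1 D204552 (iv6 D123992) D123991
theorem F432844 : act 4 n204552 = n189007 := d10_1 D204552 (iv6 D189007) (iv4 F374383)
theorem F432845 : act 7 n199667 = n204552 := d8_0 F432843 (iv7 F357727) D199667
def n204553 : Q := act 4 n123999
theorem D204553 : act 4 n123999 = n204553 := rfl
theorem F432846 : act 2 n204553 = n124000 := d1_1 D204553 (iv4 D124000) D123999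
theorem F432847 : act 5 n204553 = n134790 := d9_2 (iv5 F358061) D204553 F216907 (iv5 D130934) F95930 F315091 D75641 (iv5 F304265) D204215 F431515 (iv4 D133209) (iv5 D62509) F47390 (iv5 F47337) D62448
theorem F432848 : act 6 n204553 = n197191 := d10_2 F346573 D204553 F403467
theorem F432849 : act 3 n134792 = n204553 := d20_5 F81139 (iv1 F100936) F100939 (iv3 F217058) F361802 (iv4 D204553) (iv1 F431254) F431252 F217097 F98708
def n204554 : Q := act 0 n124000
theorem D204554 : act 0 n124000 = n204554 := rfl
theorem F432850 : act 5 n204554 = n195130 := d17_3 F217588 (iv5 F358065) D204554 F395889 F321200 D130976 (iv5 F212512) F213233 F217587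
theorem F432851 : act 3 n189574 = n204554 := d6_3 F432850 (iv3 F398836) F398838
def n204555 : Q := act 1 n124000
theorem D204555 : act 1 n124000 = n204555 := rfl
theorem F432852 : act 5 n204555 = n187774 := d18_9 (iv1 F371453) (iv4 D132785) (iv1 F209530) (iv4 F217096) F375711 F375710 F354488 D124000 D204555
theorem F432853 : act 3 n135070 = n204555 := d6_3 F432852 F405053 (iv5 F405054)
def n204556 : Q := act 3 n124000
theorem D204556 : act 3 n124000 = n204556 := rfl
theorem F432854 : act 4 n204556 = n124003 := d5_2 D124000 D204556 (iv3 D124003) (iv4 D57769) D57768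
theorem F432855 : act 6 n204556 = n191806 := d7_2 (iv6 F344854) D204556 F384501
theorem F432856 : act 7 n204556 = n191849 := d8_2 F431514 D204556 (iv3 F431517)
theorem F432857 : act 0 n204556 = n188182 := d20_4 F357924 F358064 D124000 D204556 (iv3 D188182) F295470 (iv1 D46303) (iv4 F295367) (iv3 F143793) F358067
def n204557 : Q := act 0 n124003
theorem D204557 : act 0 n124003 = n204557 := rfl
def n204558 : Q := act 1 n124003
theorem D204558 : act 1 n124003 = n204558 := rfl
def n204559 : Q := act 2 n124003
theorem D204559 : act 2 n124003 = n204559 := rfl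
theorem F432858 : act 3 n204559 = n189004 := d0_2 D124003 D204559 F375374 (iv3 F375376) F197355
def n204560 : Q := act 6 n124003
theorem D204560 : act 6 n124003 = n204560 := rfl
theorem F432859 : act 3 n204560 = n124004 := d7_1 D204560 (iv6 D124004) D124003
theorem F432860 : act 4 n204560 = n191806 := d10_1 D204560 (iv6 F432855) F432854
theorem F432861 : act 1 n204242 = n204560 := d18_6 (iv1 F108161) (iv4 D63644) (iv1 F52400) D71762 D152169 (iv4 F431635) F432860 F384503 (iv5 D152039)
def n204561 : Q := act 0 n124004
theorem D204561 : act 0 n124004 = n204561 := rfl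
def n204562 : Q := act 5 n124004
theorem D204562 : act 5 n124004 = n204562 := rfl
theorem F432862 : act 2 n204562 = n198186 := d2_1 D204562 (iv5 F431529) F431527
theorem F432863 : act 6 n204562 = n197761 := d12_2 D124004 D204562 (iv5 F429726) (iv6 D203762) F191920
theorem F432864 : act 4 n204562 = n138453 := d16_4 F344858 (iv5 D124007) (iv4 F198407) D204562 (iv5 D138453) (iv4 F111080) (iv5 F220230) F220231 F344867
theorem F432865 : act 0 n203981 = n204562 := d21_7 F303324 (iv1 F304335) F191937 D123945 (iv1 F360060) D198782 (iv5 F430695) (iv5 D204562) (iv6 D124004) (iv1 F198400)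
def n204563 : Q := act 7 n124004
theorem D204563 : act 7 n124004 = n204563 := rfl
theorem F432866 : act 2 n204563 = n199668 := d4_1 D204563 (iv7 F431530) F431527
theorem F432867 : act 4 n204563 = n124008 := d11_1 D204563 (iv7 D124008) (iv4 F198407)
theorem F432868 : act 6 n204563 = n199418 := d14_1 D204563 F412101 (iv6 F357726) F197352 D124004
theorem F432869 : act 1 n199668 = n204561 := d15_0 (iv0 D204561) D204563 F432866
def n204564 : Q := act 5 n124005
theorem D204564 : act 5 n124005 = n204564 := rfl
theorem F432870 : act 3 n204564 = n193155 := d6_1 D204564 F388968 F400485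
theorem F432871 : act 7 n204564 = n193151 := d13_2 F400484 D204564 F388949
theorem F432872 : act 4 n204564 = n135735 := d16_2 (iv4 F400483) D204564 (iv5 F404202) F404200 (iv5 D109198) F351223 D109211 (iv7 F405902) F405900
theorem F432873 : act 1 n204564 = n193647 := d17_6 (iv1 F172808) F172805 (iv1 F168626) D109216 (iv4 F400483) D204564 F390550 F362244 (iv4 D111749)
theorem F432874 : act 0 n204564 = n202510 := d21_1 D204564 (iv5 D202510) (iv6 D115923) F84334 F336747 (iv5 D76070) (iv1 F117281) (iv5 F299250) D57771 D124005
theorem F432875 : act 6 n193285 = n204564 := d14_5 F432871 (iv6 D193151) F155981 D101433 D193285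
def n204565 : Q := act 3 n124006
theorem D204565 : act 3 n124006 = n204565 := rfl
theorem F432876 : act 2 n204565 = n188407 := d0_1 D204565 F373343 F140492 (iv3 F373201) F373200
theorem F432877 : act 4 n204565 = n188667 := d5_2 (iv4 F373199) D204565 F374356 (iv4 F374360) F374359
theorem F432878 : act 6 n204565 = n188405 := d7_2 F373198 D204565 F373330
theorem F432879 : act 0 n125472 = n204565 := d20_4 (iv4 F99697) F99698 F96599 (iv3 F201781) (iv3 D204565) F373199 F351229 F306415 F322825 (iv1 F99418)
theorem F432880 : act 5 n204565 = n193256 := d21_8 F388768 F290167 D101242 F345452 (iv1 D110736) (iv6 F92814) D125472 F432879 (iv6 D193256) (iv1 F388770)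
theorem F432881 : act 0 n132189 = n193256 := d19_0 (iv5 F432880) F432877 F374356 D188669 F374362 F209195 (iv3 D61292) F46659 (iv5 D25325) (iv4 D12024) (iv3 F19881) D25317 (iv5 F45714) F45713 (iv3 F45685) (iv1 F45688) D31407 (iv4 F96629) D132189
theorem F432882 : act 1 n132189 = n193263 := d15_1 (iv0 F432881) (iv7 D193263) (iv2 F389335)
theorem F432883 : act 1 n136371 = n193256 := d15_0 (iv0 F432881) F211766 D136371
theorem F432884 : act 1 n193263 = n136371 := d15_0 F432883 (iv7 F389357) (iv2 F389356)
def n204566 : Q := act 5 n124006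
theorem D204566 : act 5 n124006 = n204566 := rfl
theorem F432885 : act 2 n204566 = n193151 := d2_1 D204566 F388949 F373200
theorem F432886 : act 3 n204566 = n193256 := d6_1 D204566 (iv5 F432880) (iv3 D204565)
theorem F432887 : act 4 n204566 = n135736 := d9_1 D204566 (iv5 F404213) (iv4 F404214) F364771 (iv4 D109215) D109216 (iv4 F400483) D204564 F432872 (iv5 F404202) F404200 (iv5 D109198) F351223 D109211 (iv4 F373199)
theorem F432888 : act 6 n204566 = n192213 := d12_2 F373198 D204566 (iv5 F394022) (iv6 D194666) (iv5 F373195)
theorem F432889 : act 0 n204566 = n193647 := d17_2 (iv1 F431540) D204566 F390550 (iv4 F412688) F412689 (iv0 D196364) D196365 F431531 (iv4 F431538)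
theorem F432890 : act 1 n204566 = n202510 := d17_6 (iv1 D51522) F39268 D50395 D109211 (iv4 F373199) D204566 (iv5 D202510) F345275 (iv4 D111754)
def n204567 : Q := act 0 n124007
theorem D204567 : act 0 n124007 = n204567 := rfl
theorem F432891 : act 5 n204567 = n139296 := d17_1 D204567 (iv1 F363103) D204479 F432665 (iv5 D137055) D137053 F247038 (iv0 F344865) F344858
theorem F432892 : act 4 n204567 = n156015 := d18_1 D204567 F349770 F111031 D135922 F363276 F363280 (iv4 F400483) (iv0 D124005) D124007
theorem F432893 : act 2 n156017 = n204567 := d1_3 F432892 F245118 D156017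
theorem F432894 : act 7 n156012 = n204567 := d11_0 F432892 (iv7 D156015) D156012
def n204568 : Q := act 1 n124007
theorem D204568 : act 1 n124007 = n204568 := rfl
theorem F432895 : act 7 n204568 = n156017 := d15_2 (iv0 D204567) D204568 F432893
theorem F432896 : act 5 n204568 = n139297 := d17_7 (iv1 F432659) (iv5 F430695) F432865 (iv5 D204562) F198407 D124007 D204568 F363104 (iv4 F432657)
theorem F432897 : act 4 n204568 = n156010 := d17_9 F360780 (iv5 F167239) D197422 F404202 (iv4 F432872) (iv5 D204564) (iv0 D124005) D124007 D204568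
theorem F432898 : act 3 n125469 = n204568 := d20_9 (iv4 F344858) F344865 (iv4 D135917) D135916 F386011 (iv3 F386012) (iv4 F410657) F410660 (iv4 F400781) (iv1 D204568)
theorem F432899 : act 2 n156012 = n204568 := d1_3 F432897 (iv2 D156010) D156012
def n204569 : Q := act 0 n124013
theorem D204569 : act 0 n124013 = n204569 := rfl
theorem F432900 : act 5 n204569 = n196742 := d21_8 (iv5 F360111) (iv1 F164840) (iv5 F339918) (iv6 D127802) (iv1 F163748) (iv6 F398957) F398958 D204569 (iv6 D196742) (iv1 F360115)
theorem F432901 : act 6 n196432 = n204569 := d12_0 F432900 (iv6 D196742) (iv5 D107262) (iv6 F166503) D196432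
def n204570 : Q := act 1 n124013
theorem D204570 : act 1 n124013 = n204570 := rfl
theorem F432902 : act 5 n204570 = n197817 := d17_7 (iv1 F371949) F178566 (iv1 D106494) D106495 D195984 F398958 D204570 (iv0 D197817) (iv4 F371947)
theorem F432903 : act 6 n194380 = n204570 := d12_0 F432902 F405878 F331455 F367010 D194380
def n204571 : Q := act 0 n124015
theorem D204571 : act 0 n124015 = n204571 := rfl
theorem F432904 : act 2 n124019 = n204571 := d15_3 (iv0 D204571) (iv0 D124015) D124019
theorem F432905 : act 7 n204571 = n124017 := d4_2 D124019 F432904 (iv2 D124017)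
theorem F432906 : act 1 n124016 = n204571 := d15_1 D124016 F432905 (iv2 D124017)
def n204572 : Q := act 2 n124015
theorem D204572 : act 2 n124015 = n204572 := rfl
theorem F432907 : act 7 n124016 = n204572 := d15_2 (iv0 D124015) D124016 (iv2 D204572)
def n204573 : Q := act 5 n124015
theorem D204573 : act 5 n124015 = n204573 := rfl
theorem F432908 : act 0 n138757 = n204573 := d19_0 (iv5 D204573) F430709 (iv3 D203984) (iv1 F405149) F405151 F302062 (iv3 F250553) (iv1 F341532) F309898 F307896 F232827 (iv1 D118546) (iv5 F97871) (iv4 F308182) F90909 F298958 D39685 (iv4 F329260) (iv3 F221895)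
def n204574 : Q := act 7 n124015
theorem D204574 : act 7 n124015 = n204574 := rfl
theorem F432909 : act 2 n204574 = n124016 := d4_1 D204574 F432907 (iv2 D204572)
theorem F432910 : act 3 n204574 = n179688 := d8_1 D204574 (iv7 F430705) F430710
theorem F432911 : act 4 n204574 = n138757 := d11_1 D204574 (iv7 F430708) (iv4 F430709)
theorem F432912 : act 6 n138756 = n204574 := d10_0 F432911 (iv6 D138757) D138756
theorem F432913 : act 0 n124019 = n204574 := d20_7 (iv4 D120543) F303357 D84670 D177833 (iv1 F366782) (iv3 F432441) F432442 F432911 F221895 (iv1 F329571)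
theorem F432914 : act 1 n124019 = n204572 := d15_1 (iv0 F432913) (iv7 F432907) (iv2 F432909)
theorem F432915 : act 1 n124017 = n204574 := d15_0 (iv0 F432913) (iv7 D124019) D124017
theorem F432916 : act 1 n204572 = n124017 := d15_0 F432915 (iv7 D204574) D204572
def n204575 : Q := act 3 n124016
theorem D204575 : act 3 n124016 = n204575 := rfl
theorem F432917 : act 4 n188637 = n204575 := d20_2 F374272 D188637 (iv3 D204575) (iv1 D124016) (iv3 D57774) (iv4 D27577) D27575 D57764 D123991 (iv1 F374384)
theorem F432918 : act 2 n204575 = n188860 := d1_1 F432917 (iv4 D188860) (iv2 F376956)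
theorem F432919 : act 7 n204575 = n188864 := d11_2 (iv7 F376957) F432917 (iv4 D188864)
theorem F432920 : act 5 n204575 = n194683 := d16_1 F432917 F394079 (iv5 D187109) F137270 D102242 (iv4 F377223) F377217 F376966 (iv2 F376956)
theorem F432921 : act 0 n204575 = n189002 := d17_0 (iv5 F390604) (iv1 F407232) (iv5 F413170) F413169 F375031 F367207 F367190 F374278 F432917
theorem F432922 : act 0 n188668 = n204575 := d17_0 F432920 F394080 F413538 F413537 F178154 (iv0 F340024) (iv5 F374362) (iv0 D188669) (iv4 F374360)
theorem F432923 : act 0 n188064 = n188667 := d20_4 (iv4 F371764) (iv1 F387429) (iv4 D188065) D188064 F374356 (iv4 F374360) F432922 (iv4 F432917) F376991 (iv1 F370690)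
theorem F432924 : act 5 n200284 = n188064 := d21_0 F432923 F374357 (iv6 D186054) (iv1 F362337) F138805 (iv5 D61651) F46869 (iv5 F82406) D112936 D200284
theorem F432925 : act 3 n188066 = n200284 := d6_3 F432924 (iv3 D188064) D188066
theorem F432926 : act 3 n188864 = n204572 := d8_1 F432919 (iv7 F432907) D204575
def n204576 : Q := act 4 n124016
theorem D204576 : act 4 n124016 = n204576 := rfl
theorem F432927 : act 2 n204576 = n138757 := d1_1 D204576 (iv4 F432911) F432909
theorem F432928 : act 6 n138752 = n204576 := d3_0 F432927 (iv6 D138757) (iv2 F221892)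
def n204577 : Q := act 5 n124016
theorem D204577 : act 5 n124016 = n204577 := rfl
theorem F432929 : act 3 n204577 = n194683 := d6_1 D204577 (iv5 F432920) (iv3 D204575)
theorem F432930 : act 6 n194682 = n204577 := d7_0 F432929 (iv6 D194683) D194682
theorem F432931 : act 0 n204577 = n138757 := d21_4 D90713 F370820 (iv5 F394075) F432930 (iv6 D138757) (iv5 D65155) D65152 (iv5 F245657) F345110 (iv1 D90712)
def n204578 : Q := act 6 n124016
theorem D204578 : act 6 n124016 = n204578 := rfl
theorem F432932 : act 2 n204578 = n138756 := d3_1 D204578 F432912 F432909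
theorem F432933 : act 4 n204578 = n138752 := d10_1 D204578 F432928 (iv4 D204576)
theorem F432934 : act 0 n188998 = n204578 := d21_4 F109234 F105552 (iv5 F339902) D188998 (iv6 D204578) D204577 F432931 (iv5 F427559) (iv6 D203263) F185893
theorem F432935 : act 1 n198330 = n204578 := d15_0 (iv0 F432934) (iv7 F432409) F432406
def n204579 : Q := act 5 n124017
theorem D204579 : act 5 n124017 = n204579 := rfl
theorem F432936 : act 2 n204579 = n124018 := d2_1 D204579 (iv5 D124018) D124017
def n204580 : Q := act 0 n124018
theorem D204580 : act 0 n124018 = n204580 := rfl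
def n204581 : Q := act 1 n124018
theorem D204581 : act 1 n124018 = n204581 := rfl
def n204582 : Q := act 4 n124018
theorem D204582 : act 4 n124018 = n204582 := rfl
theorem F432937 : act 0 n203263 = n204582 := d20_7 (iv4 F337481) D58507 D125126 F338898 F286005 F365934 (iv4 F427558) (iv4 D204582) F198410 F337475
theorem F432938 : act 5 n204582 = n154779 := d21_2 (iv5 F427559) F432937 (iv6 D154779) F110089 F109101 D90713 F370820 (iv5 F394075) F432930 F432931
theorem F432939 : act 0 n179787 = n154779 := d19_0 (iv5 F432938) (iv4 D204582) F198410 F337475 (iv5 F81283) (iv4 F337473) (iv3 F90976) D124083 (iv5 F359384) (iv4 F359365) F222301 (iv1 D129560) F309761 (iv4 F191581) (iv3 D120313) (iv1 D55367) D55368 (iv4 F302443) D179787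
theorem F432940 : act 1 n204579 = n154779 := d15_0 (iv0 F432939) F366868 (iv2 F432936)
def n204583 : Q := act 6 n124018
theorem D204583 : act 6 n124018 = n204583 := rfl
theorem F432941 : act 3 n204583 = n124020 := d7_1 D204583 (iv6 D124020) (iv3 F198410)
theorem F432942 : act 5 n204583 = n199220 := d12_1 D204583 (iv6 F411210) F393760 F198327 D124018
theorem E103886 : n204581 = n153784 := ((c21_4 (iv5 D151163) F107732 (iv5 F109232) D153784 (iv1 D204581) D204583 F432942 (iv1 D199220) D199221 F411213 F241273)).symm
theorem F432943 : act 0 n153784 = n124018 := (sb E103886 (iv1 D204581))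
theorem F432944 : act 0 n204583 = n194553 := d21_10 (iv5 D194553) (iv1 D103765) D103767 F371749 F394077 F432930 (iv5 D204577) (iv1 D124016) D124018 D204583
theorem F432945 : act 0 n194550 = n204583 := d17_2 D103764 D194550 F432942 F411208 F393276 (iv0 F334489) F288198 (iv0 D48042) D48044
def n204584 : Q := act 6 n124019
theorem D204584 : act 6 n124019 = n204584 := rfl
theorem F432946 : act 3 n204584 = n124021 := d7_1 D204584 (iv6 D124021) (iv3 F198411)
theorem F432947 : act 5 n188953 = n204584 := d21_2 D92925 D188953 (iv6 D204584) F432913 (iv6 F432912) (iv5 F432430) (iv1 F432432) F375242 (iv6 D188951) (iv1 D92923)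
theorem F432948 : act 1 n204584 = n188849 := d17_8 F394077 F394075 F370819 F331133 (iv4 F375232) F394263 F394266 F432947 F375054
def n204585 : Q := act 1 n124020
theorem D204585 : act 1 n124020 = n204585 := rfl
theorem F432949 : act 7 n204585 = n196404 := d15_2 (iv0 F407385) D204585 (iv2 F407380)
theorem F432950 : act 5 n196405 = n204585 := d21_6 (iv5 D199807) (iv1 F410544) (iv5 F415073) F415074 F402250 F402248 (iv1 D204585) (iv5 F432708) (iv6 D204498) F413592
theorem F432951 : act 3 n204585 = n196410 := d6_1 F432950 F400622 (iv3 F400602)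
theorem F432952 : act 4 n202661 = n204585 := d5_0 F432951 (iv4 F421098) F421096 D201602 F424978
theorem F432953 : act 2 n204585 = n140618 := d1_1 F432952 F404739 (iv2 F424974)
theorem F432954 : act 6 n204585 = n156331 := d10_2 D202661 F432952 (iv4 F343833)
def n204586 : Q := act 7 n124020
theorem D204586 : act 7 n124020 = n204586 := rfl
theorem F432955 : act 5 n204586 = n195910 := d13_1 D204586 F432711 F432708
theorem F432956 : act 6 n204586 = n140496 := d14_1 D204586 F349742 F349738 (iv7 F304862) D124020
theorem F432957 : act 1 n140618 = n204586 := d15_1 F407386 (iv7 D204586) (iv2 F366870)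
theorem F432958 : act 1 n204586 = n196404 := d15_1 F432957 (iv7 F432949) F432953
theorem F432959 : act 5 n196813 = n179769 := d18_4 F424802 F424796 (iv1 F423396) (iv4 F401874) F280002 D179771 (iv4 F404739) F432957 F432955
def n204587 : Q := act 3 n124023
theorem D204587 : act 3 n124023 = n204587 := rfl
theorem F432960 : act 7 n204587 = n139370 := d8_2 (iv7 F364224) D204587 F222586
def n204588 : Q := act 5 n124023
theorem D204588 : act 5 n124023 = n204588 := rfl
theorem F432961 : act 7 n204588 = n139377 := d13_2 (iv7 F364224) D204588 (iv5 D139377)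
def n204589 : Q := act 0 n124024
theorem D204589 : act 0 n124024 = n204589 := rfl
theorem F432962 : act 2 n178080 = n204589 := d15_3 (iv0 D204589) (iv0 F391138) (iv7 F432718)
theorem F432963 : act 1 n178083 = n204589 := d15_0 (iv0 D204589) (iv7 F432715) F432712
theorem F432964 : act 7 n204589 = n178081 := d15_2 (iv0 F391139) F432963 (iv2 F391137)
def n204590 : Q := act 4 n124024
theorem D204590 : act 4 n124024 = n204590 := rfl
theorem F432965 : act 2 n204590 = n178079 := d1_1 D204590 F277618 (iv2 F304594)
theorem F432966 : act 6 n204590 = n124025 := d10_2 (iv6 F198414) D204590 (iv4 D124025)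
def n204591 : Q := act 3 n124025
theorem D204591 : act 3 n124025 = n204591 := rfl
theorem F432967 : act 4 n204591 = n154527 := d5_2 D124025 D204591 F242555 F109657 (iv3 F90942)
theorem F432968 : act 7 n204591 = n124052 := d8_2 (iv7 F198415) D204591 (iv3 D124052)
def n204592 : Q := act 0 n124029
theorem D204592 : act 0 n124029 = n204592 := rfl
theorem F432969 : act 3 n204592 = n154472 := d20_5 D177763 (iv1 F304483) (iv4 D124033) (iv3 F198416) D204592 (iv4 F391057) (iv1 F391058) (iv4 D177735) F129803 D84642
theorem F432970 : act 5 n204592 = n203757 := d21_2 D124029 D204592 (iv6 F429711) (iv1 F268091) (iv6 D122619) (iv5 F90872) F161600 (iv5 F115008) D123062 F315670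
def n204593 : Q := act 1 n124029
theorem D204593 : act 1 n124029 = n204593 := rfl
theorem F432971 : act 5 n204593 = n203758 := d17_7 F428406 F428403 (iv1 F246204) F341169 (iv4 F307071) D124029 D204593 F429712 F388028
def n204594 : Q := act 4 n124029
theorem D204594 : act 4 n124029 = n204594 := rfl
def n204595 : Q := act 6 n124029
theorem D204595 : act 6 n124029 = n204595 := rfl
theorem F432972 : act 3 n204595 = n124034 := d7_1 D204595 (iv6 D124034) (iv3 F198416)
def n204596 : Q := act 5 n124030
theorem D204596 : act 5 n124030 = n204596 := rfl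
theorem F432973 : act 3 n204596 = n124035 := d6_1 D204596 (iv5 D124035) (iv3 F198417)
theorem F432974 : act 7 n204596 = n160327 := d13_2 (iv7 F304178) D204596 F304173
theorem F432975 : act 0 n204596 = n203725 := d21_7 (iv5 F90872) F161600 (iv5 F115008) D123062 F315670 D124030 D204596 (iv5 D203725) (iv6 D120390) (iv1 F90020)
def n204597 : Q := act 3 n124031
theorem D204597 : act 3 n124031 = n204597 := rfl
theorem F432976 : act 2 n204597 = n154438 := d0_1 D204597 (iv3 D154438) F308274 D88176 (iv2 F310413)
theorem F432977 : act 5 n204597 = n178122 := d6_2 (iv5 F302096) D204597 (iv3 D178122)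
theorem F432978 : act 7 n204597 = n184951 := d8_2 (iv7 F302097) D204597 F366820
theorem F432979 : act 1 n153813 = n204597 := d15_1 (iv0 F430901) F432978 (iv2 D184951)
theorem F432980 : act 1 n204597 = n153808 := d15_1 F432979 (iv7 F388322) F388319
def n204598 : Q := act 3 n124033
theorem D204598 : act 3 n124033 = n204598 := rfl
def n204599 : Q := act 5 n124033
theorem D204599 : act 5 n124033 = n204599 := rfl
theorem F432981 : act 4 n204599 = n124226 := d9_1 D204599 F304974 (iv4 F129978) F74944 (iv4 F298304) D57787 D124042 F356035 F356031 F304970 F326516 (iv5 F326520) (iv4 F299027) D57782 D124033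
theorem F432982 : act 1 n204599 = n204238 := d17_6 (iv1 D57790) (iv5 D27582) D27580 D57782 D124033 D204599 (iv5 D204238) (iv0 F198433) (iv4 D124048)
theorem F432983 : act 6 n137053 = n204599 := d21_5 (iv5 F431727) F431728 F422825 (iv6 F245325) (iv1 F245329) (iv5 D204599) F304482 F400921 (iv6 D196513) D196510
def n204600 : Q := act 6 n124033
theorem D204600 : act 6 n124033 = n204600 := rfl
theorem F432984 : act 4 n204600 = n124034 := d10_1 D204600 (iv6 D124034) D124033
def n204601 : Q := act 0 n124034
theorem D204601 : act 0 n124034 = n204601 := rfl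
theorem F432985 : act 1 n185105 = n204601 := d15_0 (iv0 D204601) (iv7 F391122) F391121
def n204602 : Q := act 1 n124034
theorem D204602 : act 1 n124034 = n204602 := rfl
theorem F432986 : act 1 n204602 = n185105 := d15_1 D204602 (iv7 F430917) F430914
def n204603 : Q := act 5 n124034
theorem D204603 : act 5 n124034 = n204603 := rfl
theorem F432987 : act 2 n204603 = n136939 := d2_1 D204603 (iv5 F430916) F430914
theorem F432988 : act 6 n204603 = n124035 := d12_2 D124034 D204603 (iv5 D124035) (iv6 D57783) D57782
def n204604 : Q := act 4 n124044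
theorem D204604 : act 4 n124044 = n204604 := rfl
def n204605 : Q := act 6 n124044
theorem D204605 : act 6 n124044 = n204605 := rfl
theorem F432989 : act 3 n204605 = n124046 := d7_1 D204605 (iv6 D124046) D124044
theorem F432990 : act 5 n204605 = n138647 := d12_1 D204605 (iv6 F430767) (iv5 D203996) (iv6 F429720) F429719
def n204606 : Q := act 3 n124045
theorem D204606 : act 3 n124045 = n204606 := rfl
theorem F432991 : act 7 n204606 = n196531 := d8_2 (iv7 F304472) D204606 F400980
theorem F432992 : act 0 n204606 = n202081 := d19_4 F301690 (iv5 F196259) D124045 D204606 (iv5 F423417) F423416 F188513 D176094 (iv5 F353789) (iv4 F353811) F353810 (iv1 D78911) (iv5 F106104) F314257 F109276 F190167 F87264 F306458 (iv3 F306457)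
theorem F432993 : act 5 n196532 = n204606 := d17_1 (iv1 F400988) F432992 (iv5 F423417) F423416 F188514 (iv0 F364023) (iv5 F364895) (iv0 F422837) (iv4 D202074)
theorem F432994 : act 2 n204606 = n202083 := d2_1 F432993 F422852 (iv2 F400982)
theorem F432995 : act 1 n204606 = n202080 := d15_0 (iv0 D202080) D202083 (iv2 F432994)
def n204607 : Q := act 5 n124045
theorem D204607 : act 5 n124045 = n204607 := rfl
theorem F432996 : act 3 n204607 = n196532 := d6_1 D204607 F432993 (iv3 D204606)
theorem F432997 : act 7 n204607 = n196522 := d13_2 (iv7 F304472) D204607 (iv5 F400961)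
theorem F432998 : act 4 n204607 = n124220 := d16_2 D124045 D204607 (iv5 D124220) (iv4 F123642) (iv5 F300564) (iv4 F302440) F191579 (iv7 F196271) (iv2 F196270)
theorem F432999 : act 0 n204607 = n177965 := d17_2 (iv1 F198432) D204607 (iv5 D177965) (iv4 D84716) D84717 F129946 (iv5 F301754) (iv0 D123205) D123206
theorem F433000 : act 1 n204607 = n177978 := d17_6 F310412 F308331 F301690 (iv5 F196259) D124045 D204607 (iv5 D177978) F277513 (iv4 F302308)
theorem F433001 : act 6 n204607 = n202156 := d21_3 (iv5 D204238) (iv1 F198432) D204607 F423083 (iv6 D202091) D202090 F424166 (iv5 D152781) D152782 (iv1 F431617)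
theorem F433002 : act 6 n202161 = n204238 := d21_5 F424180 (iv1 D202154) D202155 F423075 D202161 (iv5 D204238) (iv1 F198432) D204607 F433001 F423083
theorem E103887 : n202380 = n202358 := (c20_10 (iv4 F408079) F425614 F425613 F422698 (iv1 F433000) F432996 (iv4 F415290) (iv1 F415293) F415295 D202380 (iv1 D202358))
theorem F433003 : act 3 n202358 = n115677 := (sb E103887 (iv3 D202380))
def n204608 : Q := act 6 n124045
theorem D204608 : act 6 n124045 = n204608 := rfl
theorem F433004 : act 4 n204608 = n124046 := d10_1 D204608 (iv6 D124046) D124045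
def n204609 : Q := act 6 n124047
theorem D204609 : act 6 n124047 = n204609 := rfl
theorem F433005 : act 3 n204609 = n124049 := d7_1 D204609 (iv6 D124049) D124047
theorem F433006 : act 4 n204609 = n194107 := d10_1 D204609 (iv6 D194107) F390227
theorem F433007 : act 5 n204609 = n194678 := d12_1 D204609 F394062 F367931 D203708 F429485
theorem F433008 : act 5 n193971 = n194107 := d16_1 (iv4 F391553) (iv4 F433006) F433007 (iv4 D194678) F159454 F294973 (iv5 F295210) F159297 F340543
theorem F433009 : act 7 n194107 = n193970 := d13_2 D193971 F433008 (iv5 D193970)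
def n204610 : Q := act 3 n124048
theorem D204610 : act 3 n124048 = n204610 := rfl
theorem F433010 : act 2 n204610 = n202056 := d0_1 D204610 F422814 (iv2 F400979) F400980 (iv2 F304474)
theorem F433011 : act 4 n204610 = n194105 := d5_2 D124048 D204610 (iv3 D194105) F390227 (iv3 D124047)
theorem F433012 : act 4 n185497 = n202056 := d1_2 F433011 F392066 (iv2 F433010)
theorem F433013 : act 6 n202069 = n185497 := d10_0 F433012 F422815 D202069
theorem F433014 : act 5 n139698 = n204610 := d2_0 F433010 (iv5 D202056) (iv2 F349399)
theorem F433015 : act 6 n202049 = n204610 := d3_0 F433010 F422815 (iv2 F422798)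
def n204611 : Q := act 5 n124048
theorem D204611 : act 5 n124048 = n204611 := rfl
theorem F433016 : act 2 n204611 = n196522 := d2_1 D204611 (iv5 F400961) (iv2 F304474)
theorem F433017 : act 3 n204611 = n139698 := d6_1 D204611 F433014 (iv3 D204610)
theorem F433018 : act 4 n204611 = n124217 := d9_1 D204611 (iv5 D124217) F148258 F299029 (iv4 F299232) (iv5 F196259) D124045 D204607 F432998 (iv5 D124220) (iv4 F123642) (iv5 F300564) (iv4 F302440) F191579 D124048
theorem F433019 : act 0 n204611 = n177978 := d17_2 (iv1 F304473) D204611 (iv5 D177978) (iv4 D84720) (iv5 F123442) (iv0 F302673) D120526 F301756 D177760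
theorem F433020 : act 1 n204611 = n177965 := d17_6 D181153 F282165 (iv1 F302439) F191579 D124048 D204611 (iv5 D177965) D177963 F277516
theorem F433021 : act 6 n196517 = n204611 := d21_3 (iv5 D115396) (iv1 F164994) D196517 F433019 F400916 F400907 (iv1 F391317) (iv5 F401321) (iv6 F401322) (iv1 F180738)
def n204612 : Q := act 6 n124048
theorem D204612 : act 6 n124048 = n204612 := rfl
theorem F433022 : act 2 n204612 = n196525 := d3_1 D204612 F400967 (iv2 F304474)
theorem F433023 : act 3 n204612 = n202049 := d7_1 D204612 F433015 (iv3 D204610)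
theorem F433024 : act 4 n204612 = n124049 := d10_1 D204612 (iv6 D124049) D124048
theorem F433025 : act 5 n204612 = n196518 := d12_1 D204612 (iv6 D196518) D196517 F433021 (iv5 D204611)
def n204613 : Q := act 1 n124049
theorem D204613 : act 1 n124049 = n204613 := rfl
theorem F433026 : act 1 n204613 = n185131 := d15_1 D204613 (iv7 F429738) F429736
theorem F433027 : act 7 n204613 = n185111 := d15_2 (iv0 F306745) D204613 F287480
theorem F433028 : act 5 n204613 = n197695 := d17_7 D108589 D197698 F405410 (iv5 F387519) (iv4 F429490) F429491 D204613 (iv0 D197695) F167925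
theorem E103888 : n203769 = n153777 := (c21_5 (iv5 D58483) F61130 (iv5 F300098) D120497 D203769 F405399 (iv5 F433028) (iv1 D204613) (iv5 F429491) (iv6 D203709) (iv1 F302880))
theorem F433029 : act 1 n153777 = n120497 := (sb E103888 (iv0 D203769))
theorem F433030 : act 2 n185134 = n204613 := d2_3 F433028 (iv2 F405396) F370637
def n204614 : Q := act 7 n124049
theorem D204614 : act 7 n124049 = n204614 := rfl
theorem F433031 : act 2 n204614 = n185131 := d4_1 D204614 (iv7 F429738) F429736
theorem F433032 : act 6 n204614 = n138643 := d14_1 D204614 (iv7 F411486) F411485 F196271 D124049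
theorem F433033 : act 1 n185134 = n204614 := d15_1 F429741 (iv7 D204614) (iv2 F429736)
theorem F433034 : act 1 n204614 = n185111 := d15_1 F433033 (iv7 F433027) (iv2 F433030)
def n204615 : Q := act 5 n124050
theorem D204615 : act 5 n124050 = n204615 := rfl
theorem F433035 : act 4 n204615 = n124215 := d16_2 (iv4 F306747) D204615 (iv5 D124215) (iv4 D57914) (iv5 F87640) (iv4 F191613) F301822 (iv7 F301755) F301753
def n204616 : Q := act 6 n124050
theorem D204616 : act 6 n124050 = n204616 := rfl
theorem F433036 : act 4 n204616 = n177921 := d10_1 D204616 (iv6 D177921) (iv4 F306747)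
def n204617 : Q := act 3 n124051
theorem D204617 : act 3 n124051 = n204617 := rfl
def n204618 : Q := act 5 n124051
theorem D204618 : act 5 n124051 = n204618 := rfl
theorem F433037 : act 4 n204618 = n124210 := d9_1 D204618 (iv5 D124210) (iv4 D57910) (iv5 F115444) (iv4 F301640) (iv5 F153925) (iv4 F306747) D204615 F433035 (iv5 D124215) (iv4 D57914) (iv5 F87640) (iv4 F191613) F301822 (iv4 F306749)
def n204619 : Q := act 6 n124051
theorem D204619 : act 6 n124051 = n204619 := rfl
theorem F433038 : act 4 n204619 = n177923 := d10_1 D204619 (iv6 D177923) (iv4 F306749)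
def n204620 : Q := act 0 n124052
theorem D204620 : act 0 n124052 = n204620 := rfl
def n204621 : Q := act 1 n124052
theorem D204621 : act 1 n124052 = n204621 := rfl
def n204622 : Q := act 2 n124052
theorem D204622 : act 2 n124052 = n204622 := rfl
theorem F433039 : act 4 n204622 = n154525 := d1_2 (iv4 F198434) D204622 (iv2 D154525)
def n204623 : Q := act 5 n124052
theorem D204623 : act 5 n124052 = n204623 := rfl
theorem F433040 : act 3 n204623 = n124053 := d6_1 D204623 (iv5 D124053) D124052
def n204624 : Q := act 6 n124053
theorem D204624 : act 6 n124053 = n204624 := rfl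
theorem F433041 : act 4 n204624 = n178089 := d10_1 D204624 (iv6 D178089) (iv4 F306752)
def n204625 : Q := act 3 n124069
theorem D204625 : act 3 n124069 = n204625 := rfl
theorem F433042 : act 4 n204625 = n138755 := d5_2 D124069 D204625 (iv3 F387331) (iv4 D192642) F312630
theorem F433043 : act 5 n204625 = n184056 := d6_2 (iv5 F305163) D204625 (iv3 F338898)
theorem F433044 : act 6 n204625 = n128034 := d7_2 (iv6 F412933) D204625 F412932
theorem F433045 : act 7 n204625 = n204417 := d8_2 (iv7 F198471) D204625 (iv3 F432450)
theorem F433046 : act 0 n204625 = n204420 := d19_4 D27596 D57808 D124069 D204625 F432462 F198251 F90870 (iv1 F90385) F301452 F117261 (iv3 D35290) (iv1 D17127) F12788 (iv4 F13856) (iv3 F30282) D40144 F311163 F90955 (iv3 D27598)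
theorem F433047 : act 1 n204625 = n204372 := d15_1 (iv0 F433046) (iv7 F432265) (iv2 F432460)
theorem F433048 : act 2 n204625 = n204416 := d15_3 (iv0 D204416) D204417 (iv7 F433045)
def n204626 : Q := act 5 n124072
theorem D204626 : act 5 n124072 = n204626 := rfl
theorem F433049 : act 3 n204626 = n124074 := d6_1 D204626 (iv5 D124074) D124072
theorem F433050 : act 7 n204626 = n153944 := d13_2 (iv7 F312104) D204626 (iv5 D153944)
theorem F433051 : act 4 n204626 = n204555 := d16_2 F315057 D204626 F432852 F371452 F317740 (iv4 D61453) D61454 F209622 F209619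
theorem F433052 : act 1 n204626 = n184035 := d17_6 (iv1 F319780) F46606 D29086 D61449 F315057 D204626 (iv5 D184035) (iv0 F321376) F151558
def n204627 : Q := act 4 n124074
theorem D204627 : act 4 n124074 = n204627 := rfl
theorem F433053 : act 2 n204627 = n192086 := d1_1 D204627 F385485 F337495
theorem F433054 : act 5 n204627 = n133579 := d9_2 D124074 D204627 (iv4 D133579) F210307 D74952 F305969 (iv4 F90550) D123221 D204246 F431654 (iv4 D133576) F210313 D74947 (iv5 F314465) (iv4 D124073)
theorem F433055 : act 0 n204627 = n181766 := d17_0 (iv5 D181766) (iv1 F312281) (iv5 F222292) F342602 (iv5 D170892) (iv0 F342605) (iv5 F341529) F342613 D204627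
theorem F433056 : act 1 n204627 = n181760 := d18_6 F342016 F238353 (iv1 F314462) (iv4 D124073) D124074 D204627 (iv4 F385163) F385166 F342018
theorem F433057 : act 6 n187574 = n204627 := d21_3 (iv5 F292864) F292862 F370854 F433055 F352963 (iv5 D101136) (iv1 F311974) D191264 F382810 F157661
def n204628 : Q := act 6 n124074
theorem D204628 : act 6 n124074 = n204628 := rfl
theorem F433058 : act 2 n204628 = n192762 := d3_1 D204628 F387690 F337495
theorem F433059 : act 4 n204628 = n187574 := d10_1 D204628 F433057 (iv4 D204627)
theorem F433060 : act 7 n204628 = n192764 := d14_2 (iv7 F342620) D204628 F387700 (iv7 D159717) (iv6 F309899)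
def n204629 : Q := act 3 n124083
theorem D204629 : act 3 n124083 = n204629 := rfl
theorem F433061 : act 2 n204629 = n191379 := d0_1 D204629 (iv3 F383367) (iv2 F386135) F386136 F359388
theorem F433062 : act 5 n204629 = n132759 := d6_2 F359384 D204629 (iv3 F323357)
theorem F433063 : act 6 n204629 = n189906 := d7_2 F382803 D204629 (iv3 F382802)
theorem F433064 : act 0 n204629 = n192588 := d19_4 (iv1 F101031) D65311 (iv4 F352850) D204629 F387182 (iv4 D135348) F98971 F212147 F95486 (iv4 F95809) (iv3 D61331) (iv1 F79321) (iv5 F98626) F98627 D108583 F362333 (iv5 F351888) (iv4 F222281) (iv3 D139092)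
theorem F433065 : act 4 n204629 = n204527 := d20_6 (iv4 F336750) F337471 (iv4 F337473) (iv3 F90976) D124083 D204629 (iv1 D204527) (iv4 D123970) F90932 (iv1 F90926)
theorem F433066 : act 0 n124780 = n204629 := d20_4 (iv4 F386084) (iv1 F386085) (iv4 D124784) (iv3 F200450) (iv3 D204629) F352850 (iv1 F222290) F352848 F198235 F304650
def n204630 : Q := act 3 n124084
theorem D204630 : act 3 n124084 = n204630 := rfl
theorem F433067 : act 5 n204630 = n191940 := d6_2 F359393 D204630 F384920
theorem F433068 : act 7 n204630 = n192233 := d8_2 (iv7 F359391) D204630 F386136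
theorem F433069 : act 0 n204630 = n173495 := d20_4 (iv4 F352848) (iv1 D139103) (iv4 F359389) D204630 F366726 (iv4 F420769) (iv1 D201507) F356873 (iv3 F382809) F382813
theorem F433070 : act 0 n173514 = n204630 := d20_4 D47114 D101149 F272733 (iv3 F366730) (iv3 D204630) F359389 D139102 F357804 (iv3 D101147) (iv1 D47113)
theorem F433071 : act 2 n192650 = n204630 := d15_3 (iv0 F433070) (iv0 F383369) (iv7 F387354)
def n204631 : Q := act 4 n124089
theorem D204631 : act 4 n124089 = n204631 := rfl
theorem F433072 : act 2 n204631 = n151678 := d1_1 D204631 F238545 (iv2 F314629)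
theorem F433073 : act 5 n204631 = n133772 := d9_2 D124089 D204631 (iv4 D133772) (iv5 D62818) (iv4 D29729) D29730 D62819 D133774 (iv4 F370760) F370761 F360283 (iv5 D71394) (iv4 F52219) F310459 (iv4 F301087)
theorem F433074 : act 7 n204631 = n151683 := d11_2 F316248 D204631 F238558
theorem F433075 : act 0 n204631 = n203349 := d17_0 F427997 F238926 (iv5 F371588) F371587 F166829 F78857 D71426 (iv0 F314627) D204631
def n204632 : Q := act 6 n124144
theorem D204632 : act 6 n124144 = n204632 := rfl
theorem F433076 : act 2 n204632 = n124149 := d3_1 D204632 (iv6 D124149) (iv2 F198608)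
theorem F433077 : act 0 n204632 = n138168 := d21_4 F318995 F305155 D124144 D204632 (iv6 D138168) (iv5 D64905) (iv1 F99638) (iv5 F218654) (iv6 F350359) (iv1 F318993)
def n204633 : Q := act 5 n124145
theorem D204633 : act 5 n124145 = n204633 := rfl
theorem F433078 : act 2 n204633 = n124152 := d2_1 D204633 (iv5 D124152) (iv2 F198609)
theorem F433079 : act 3 n204633 = n204106 := d6_1 D204633 F431093 (iv3 F427149)
theorem F433080 : act 7 n204633 = n179734 := d13_2 (iv7 F306500) D204633 (iv5 D179734)
theorem F433081 : act 0 n204633 = n179756 := d17_2 (iv1 F306498) D204633 F279979 F185684 F321298 (iv0 F357849) (iv5 F429160) F429157 (iv4 F278979)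
theorem F433082 : act 1 n204633 = n179755 := d17_6 (iv1 F85982) (iv5 F155444) F319630 (iv5 F319580) (iv4 F306499) D204633 F279975 F185686 F85998
theorem F433083 : act 0 n185064 = n191308 := d19_16 F433081 F279979 F185684 (iv3 D54693) (iv1 F303865) D118713 F343268 F153894 (iv1 F343265) (iv5 D89545) (iv4 F137186) (iv3 D89495) F68709 F68707 D88210 D185064 (iv5 F382982) F431095 (iv3 F433079)
def n204634 : Q := act 3 n124148
theorem D204634 : act 3 n124148 = n204634 := rfl
theorem F433084 : act 2 n204634 = n129447 := d0_1 D204634 F207621 F95538 D129843 F355290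
theorem F433085 : act 4 n204634 = n124154 := d5_2 D124148 D204634 (iv3 D124154) (iv4 D57858) (iv3 F91142)
theorem F433086 : act 5 n204634 = n129446 := d6_2 F355287 D204634 (iv3 F211844)
theorem F433087 : act 0 n204634 = n136337 := d19_4 (iv1 D57854) D57856 D124148 D204634 (iv5 D136337) D136336 (iv3 F330448) F330446 D106641 (iv4 F382217) F382216 (iv1 F247445) (iv5 D138935) (iv4 F100978) (iv3 D65172) (iv1 F53643) D74477 (iv4 F313360) (iv3 D124140)
theorem F433088 : act 0 n136332 = n204634 := d17_2 D64096 D136332 F433086 (iv4 F211238) (iv5 F343682) F370129 (iv5 D106836) (iv0 D49364) (iv4 F48594)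
theorem F433089 : act 4 n199473 = n196259 := d18_3 F433088 F433085 (iv1 F412319) (iv5 D196259) (iv4 D106840) F164641 (iv4 F212745) F212747 D136332
theorem F433090 : act 6 n196259 = n199472 := d10_2 D199473 F433089 (iv4 D199472)
def n204635 : Q := act 6 n124148
theorem D204635 : act 6 n124148 = n204635 := rfl
theorem F433091 : act 4 n204635 = n124149 := d10_1 D204635 (iv6 D124149) D124148
def n204636 : Q := act 0 n124149
theorem D204636 : act 0 n124149 = n204636 := rfl
theorem F433092 : act 6 n204636 = n136232 := d21_5 (iv5 D124142) (iv1 D57854) D57856 D124149 D204636 (iv5 D136232) (iv1 F99636) (iv5 F100040) (iv6 F219799) F314222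
theorem F433093 : act 2 n138168 = n204636 := d3_3 F433092 F359619 D138168
def n204637 : Q := act 1 n124149
theorem D204637 : act 1 n124149 = n204637 := rfl
theorem F433094 : act 7 n204637 = n138168 := d15_2 (iv0 D204636) D204637 F433093
def n204638 : Q := act 5 n124149
theorem D204638 : act 5 n124149 = n204638 := rfl
theorem F433095 : act 3 n204638 = n124158 := d6_1 D204638 (iv5 D124158) (iv3 F198610)
theorem F433096 : act 6 n204638 = n124152 := d12_2 D124149 D204638 (iv5 D124152) (iv6 D57857) D57856
def n204639 : Q := act 7 n124149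
theorem D204639 : act 7 n124149 = n204639 := rfl
theorem F433097 : act 3 n204639 = n124159 := d8_1 D204639 (iv7 D124159) (iv3 F198610)
theorem F433098 : act 6 n204639 = n136564 := d14_1 D204639 (iv7 F358537) (iv6 D179863) F304407 D124149
theorem F433099 : act 0 n138168 = n204639 := d21_4 F48638 D30499 D64905 D138168 F433098 F358535 F365865 (iv5 F365864) (iv6 D136694) (iv1 D64240)
def n204640 : Q := act 4 n124152
theorem D204640 : act 4 n124152 = n204640 := rfl
theorem F433100 : act 7 n204640 = n179757 := d11_2 (iv7 F304680) D204640 (iv4 D179757)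
theorem F433101 : act 0 n204640 = n203207 := d18_2 F306357 D204640 (iv4 D203207) (iv5 D118220) (iv4 D54452) (iv0 D26334) (iv4 F41999) D54447 D118199
theorem F433102 : act 1 n204640 = n203216 := d18_6 (iv1 F280156) (iv4 D179891) (iv1 F131907) (iv4 F304461) D124152 D204640 (iv4 D203216) F427401 F427400
def n204641 : Q := act 3 n124156
theorem D204641 : act 3 n124156 = n204641 := rfl
def n204642 : Q := act 4 n124156
theorem D204642 : act 4 n124156 = n204642 := rfl
def n204643 : Q := act 5 n124156
theorem D204643 : act 5 n124156 = n204643 := rfl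
def n204644 : Q := act 6 n124156
theorem D204644 : act 6 n124156 = n204644 := rfl
theorem F433103 : act 2 n204644 = n134355 := d3_1 D204644 (iv6 F431563) (iv2 F431564)
theorem F433104 : act 7 n204644 = n134051 := d14_2 (iv7 F410565) D204644 F410229 F410227 D199079
theorem F433105 : act 5 n204644 = n134052 := d21_6 (iv5 D57808) (iv1 F44499) D27618 D57859 D124156 D204644 (iv1 F216064) (iv5 F357707) (iv6 F357712) (iv1 F192004)
theorem F433106 : act 6 n204643 = n134330 := d12_2 (iv6 D204644) D204643 F216338 (iv6 F216063) (iv5 F433105)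
theorem F433107 : act 0 n133288 = n204644 := d17_2 (iv1 F206966) D133288 F433105 F216062 F171564 F164683 (iv5 F168452) F168451 (iv4 F206964)
theorem F433108 : act 1 n134353 = n204644 := d17_6 (iv1 F79596) F79589 (iv1 F79449) (iv5 F79450) D63408 (iv5 F216351) F433105 F216065 (iv4 D63093)
theorem F433109 : act 0 n139478 = n204643 := d21_1 D139478 (iv5 D204643) D204644 (iv1 F433108) F350361 (iv5 F343886) (iv1 D90781) D90783 F362784 (iv1 D139477)
theorem F433110 : act 3 n188603 = n204644 := d8_3 F433104 F379874 (iv7 F379876)
theorem F433111 : act 6 n204641 = n188603 := d7_0 F433110 (iv6 D204644) D204641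
def n204645 : Q := act 3 n124157
theorem D204645 : act 3 n124157 = n204645 := rfl
theorem F433112 : act 7 n204645 = n192672 := d8_2 F431566 D204645 F431567
def n204646 : Q := act 4 n124157
theorem D204646 : act 4 n124157 = n204646 := rfl
theorem F433113 : act 6 n204646 = n204475 := d10_2 F410224 D204646 F432648
theorem F433114 : act 3 n199133 = n204646 := d20_5 (iv4 F418512) F418514 (iv4 D199110) (iv3 F410684) (iv1 F410821) (iv4 D204646) (iv1 D124157) (iv4 F198614) F371923 (iv1 F400666)
theorem F433115 : act 5 n204646 = n199128 := d6_2 D199133 F433114 F410788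
theorem F433116 : act 0 n204541 = n204646 := d21_10 F433115 F412403 F406980 (iv6 D111382) F81096 (iv6 F341350) (iv5 D110266) F323984 D180574 (iv6 F432827)
theorem F433117 : act 1 n204211 = n204646 := d15_0 (iv0 F433116) (iv7 D204541) (iv2 F431497)
def n204647 : Q := act 1 n124158
theorem D204647 : act 1 n124158 = n204647 := rfl
theorem F433118 : act 7 n204647 = n204004 := d15_2 (iv0 F383540) D204647 F430795
theorem F433119 : act 5 n204647 = n141227 := d17_7 D140710 F401622 F417436 F417432 F198614 D124158 D204647 (iv0 D141227) F101834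
def n204648 : Q := act 4 n124158
theorem D204648 : act 4 n124158 = n204648 := rfl
theorem F433120 : act 6 n204648 = n124161 := d10_2 (iv6 F198615) D204648 (iv4 D124161)
theorem F433121 : act 0 n204648 = n204035 := d18_2 (iv1 D204647) D204648 F430862 (iv5 F364135) F364134 F412380 F412378 F224258 (iv5 F433119)
def n204649 : Q := act 7 n124158
theorem D204649 : act 7 n124158 = n204649 := rfl
theorem F433122 : act 5 n204649 = n124159 := d13_1 D204649 (iv7 D124159) D124158
theorem F433123 : act 6 n204649 = n179813 := d14_1 D204649 (iv7 D179813) F131729 F304433 (iv6 F198615)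
theorem F433124 : act 0 n204004 = n204649 := d21_4 F151815 (iv1 F89706) D122405 D204004 F433123 F280034 (iv1 F279922) (iv5 F430803) (iv6 D204006) (iv1 F195857)
def n204650 : Q := act 2 n124160
theorem D204650 : act 2 n124160 = n204650 := rfl
theorem F433125 : act 3 n204650 = n175697 := d0_2 D124160 D204650 F311720 (iv3 D85881) (iv2 F301708)
theorem F433126 : act 4 n204650 = n154090 := d1_2 (iv4 F198616) D204650 F343480
theorem F433127 : act 5 n204650 = n153634 := d2_2 (iv5 F387144) D204650 F387146
theorem F433128 : act 6 n204650 = n124361 := d3_2 (iv6 F304439) D204650 (iv2 D124361)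
theorem F433129 : act 7 n204650 = n154090 := d4_2 (iv7 F304440) D204650 F343480
theorem F433130 : act 1 n204650 = n124820 := d15_0 F366943 (iv7 F304440) D204650
theorem F433131 : act 1 n177825 = n204650 := d15_0 F433130 (iv7 F366778) (iv2 F281974)
def n204651 : Q := act 3 n124161
theorem D204651 : act 3 n124161 = n204651 := rfl
theorem F433132 : act 7 n204651 = n179826 := d8_2 (iv7 F304683) D204651 (iv3 D179826)
def n204652 : Q := act 0 n124168
theorem D204652 : act 0 n124168 = n204652 := rfl
theorem F433133 : act 5 n204652 = n202436 := d17_1 D204652 F423985 (iv5 D199604) F361604 F322455 (iv0 F353877) (iv5 F341200) (iv0 D125273) (iv4 F198628)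
theorem F433134 : act 4 n204652 = n172552 := d18_3 (iv1 D125274) (iv4 F198628) D204652 (iv5 D172552) (iv4 F312611) D192298 (iv4 F386354) F353888 (iv5 F345820)
theorem F433135 : act 3 n204652 = n142000 := d20_5 (iv4 D122581) (iv1 F89949) D57868 D124168 D204652 (iv4 D142000) F102492 (iv4 F173134) F323808 (iv1 F196314)
theorem F433136 : act 1 n124223 = n204652 := d15_0 (iv0 D204652) F198629 D124223
theorem F433137 : act 6 n178221 = n204652 := d21_3 (iv5 F359304) F359336 (iv5 F337717) (iv1 F433136) F198708 D124300 (iv1 F253462) (iv5 F254090) (iv6 F406521) (iv1 F406522)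
theorem F433138 : act 2 n204652 = n124222 := d3_1 F433137 F360092 (iv2 F337716)
theorem F433139 : act 7 n204652 = n124221 := d14_2 F337718 F433137 (iv6 F360095) F173468 (iv6 F341265)
theorem F433140 : act 0 n178098 = n202436 := d21_1 D178098 (iv5 F433133) (iv6 F433137) (iv1 F407132) (iv6 D198183) F333848 (iv1 F375753) F375751 (iv6 F361599) (iv1 D178096)
def n204653 : Q := act 1 n124168
theorem D204653 : act 1 n124168 = n204653 := rfl
theorem F433141 : act 7 n204653 = n124222 := d15_2 (iv0 D204652) D204653 (iv2 F433138)
theorem F433142 : act 4 n204653 = n158142 := d17_9 F353096 F151594 D172574 (iv5 F409622) F409617 (iv5 F343147) D197564 (iv5 F404853) D204653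
theorem F433143 : act 6 n193402 = n204653 := d10_0 F433142 F249095 D193402
theorem F433144 : act 0 n124223 = n204653 := d18_2 (iv1 F201455) (iv4 F198707) F433142 (iv5 D158142) (iv4 F302450) F310670 (iv4 D172368) (iv0 F353877) (iv5 F341200)
theorem F433145 : act 2 n124221 = n204653 := d15_3 (iv0 F433144) F433136 F433139
def n204654 : Q := act 2 n124168
theorem D204654 : act 2 n124168 = n204654 := rfl
theorem F433146 : act 3 n204654 = n178086 := d0_2 D124168 D204654 (iv2 D178086) (iv3 D84769) (iv2 F302228)
theorem F433147 : act 4 n204654 = n125275 := d1_2 (iv4 F198628) D204654 (iv2 D125275)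
theorem F433148 : act 5 n204654 = n199605 := d2_2 (iv5 F404853) D204654 (iv2 F412818)
theorem F433149 : act 6 n204654 = n173967 := d3_2 (iv6 F304738) D204654 (iv2 F351613)
theorem F433150 : act 7 n204654 = n124223 := d4_2 (iv7 F198629) D204654 (iv2 D124223)
theorem F433151 : act 1 n204654 = n124221 := d15_0 (iv0 D124221) (iv7 F198629) D204654
theorem F433152 : act 1 n124222 = n204654 := d15_0 F433151 (iv7 F433139) F433138
def n204655 : Q := act 6 n124169
theorem D204655 : act 6 n124169 = n204655 := rfl
theorem F433153 : act 2 n204655 = n178089 := d3_1 D204655 (iv6 D178089) (iv2 F304740)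
def n204656 : Q := act 5 n124170
theorem D204656 : act 5 n124170 = n204656 := rfl
theorem F433154 : act 3 n204656 = n124171 := d6_1 D204656 (iv5 D124171) D124170
theorem F433155 : act 6 n204656 = n190625 := d12_2 F299771 D204656 F380352 F279740 F309228
theorem F433156 : act 7 n204656 = n124506 := d13_2 (iv7 F297821) D204656 (iv5 D124506)
def n204657 : Q := act 3 n124173
theorem D204657 : act 3 n124173 = n204657 := rfl
theorem F433157 : act 4 n204657 = n124188 := d5_2 D124173 D204657 (iv3 D124188) (iv4 D57889) (iv3 F91612)
theorem F433158 : act 6 n204657 = n126054 := d7_2 (iv6 F325188) D204657 (iv3 D126054)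
theorem F433159 : act 7 n204657 = n124519 := d8_2 (iv7 F297509) D204657 (iv3 D124519)
def n204658 : Q := act 5 n124173
theorem D204658 : act 5 n124173 = n204658 := rfl
theorem F433160 : act 2 n204658 = n124624 := d2_1 D204658 F199313 (iv2 F297508)
theorem F433161 : act 4 n204658 = n124561 := d9_1 D204658 (iv5 D124561) (iv4 D58135) (iv5 D27711) F22034 D13232 D27725 D58189 D124622 F348857 F348854 (iv5 D124171) (iv4 D57878) D57879 D124173
theorem F433162 : act 7 n204658 = n124520 := d13_2 (iv7 F297509) D204658 (iv5 D124520)
theorem F433163 : act 0 n204658 = n124621 := d17_2 (iv1 F297507) D204658 F299760 F119793 F56473 F60851 F123914 (iv0 F296846) (iv4 F122175)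
theorem F433164 : act 1 n204658 = n124620 := d17_6 (iv1 D58156) (iv5 D27716) (iv1 F296480) D57879 D124173 D204658 F297832 (iv0 F297828) (iv4 D124584)
def n204659 : Q := act 0 n124178
theorem D204659 : act 0 n124178 = n204659 := rfl
theorem F433165 : act 5 n204659 = n152010 := d17_1 D204659 F403498 (iv5 F431636) F431637 F430340 (iv0 F426914) (iv5 D193811) D193809 (iv4 F391056)
theorem F433166 : act 1 n149044 = n204659 := d15_0 (iv0 D204659) F302894 (iv2 F234369)
theorem F433167 : act 2 n177734 = n204659 := d2_3 F433165 (iv2 F332474) (iv5 F338080)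
theorem F433168 : act 7 n177733 = n204659 := d13_0 F433165 (iv7 F403500) (iv5 F403503)
def n204660 : Q := act 1 n124178
theorem D204660 : act 1 n124178 = n204660 := rfl
theorem F433169 : act 1 n204660 = n149044 := d15_1 D204660 (iv7 F428224) F428221
theorem F433170 : act 7 n204660 = n177734 := d15_2 (iv0 D204659) D204660 F433167
theorem F433171 : act 4 n204660 = n183780 := d18_7 F353785 F238042 (iv1 F377198) D201215 F419475 (iv4 F391056) D204660 F364035 (iv5 F354925)
theorem F433172 : act 5 n130899 = n204660 := d21_0 (iv1 D204660) (iv5 D124178) D124179 (iv1 F339052) (iv6 F356168) D204248 F431664 F403492 D197199 (iv1 F403497)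
theorem F433173 : act 2 n204660 = n177733 := d2_1 F433172 F403503 (iv2 F403502)
theorem F433174 : act 4 n177733 = n191283 := d1_2 (iv4 F433171) F433173 F382874
theorem F433175 : act 3 n193575 = n177733 := d5_5 F433174 (iv3 F421397) (iv4 D185271) D185270 F421382
theorem F433176 : act 6 n191282 = n177733 := d10_0 F433174 (iv6 D191283) D191282
theorem F433177 : act 1 n191283 = n154385 := d18_8 (iv1 F354931) F238384 D195820 (iv4 F398325) D203906 F430332 (iv0 F428226) F433174 (iv5 D154385)
theorem F433178 : act 6 n204660 = n183779 := d3_2 F433176 (iv2 F433173) (iv2 F382871)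
theorem F433179 : act 3 n204659 = n154571 := d8_3 F421428 F433175 F433168
theorem F433180 : act 3 n191499 = n204660 := d20_5 D101935 F272646 (iv4 D98479) (iv3 F151872) D191499 F433171 F430363 F430361 F274747 (iv1 F128843)
def n204661 : Q := act 3 n124182
theorem D204661 : act 3 n124182 = n204661 := rfl
theorem F433181 : act 4 n204661 = n204199 := d5_2 D124182 D204661 F431451 (iv4 F391056) F198643
theorem F433182 : act 5 n204661 = n178164 := d6_2 (iv5 F305173) D204661 (iv3 D178164)
theorem F433183 : act 7 n204661 = n177770 := d8_2 (iv7 F305174) D204661 (iv3 D177770)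
theorem F433184 : act 2 n204470 = n204661 := d1_3 F433181 F431450 D204470
theorem F433185 : act 0 n185221 = n204661 := d18_2 F362806 (iv4 F287537) F433181 (iv5 D204199) (iv4 D123121) (iv0 D57293) (iv4 F44471) D57728 D123905
def n204662 : Q := act 6 n124182
theorem D204662 : act 6 n124182 = n204662 := rfl
theorem F433186 : act 2 n204662 = n177997 := d3_1 D204662 (iv6 D177997) (iv2 F305172)
theorem F433187 : act 4 n204662 = n124183 := d10_1 D204662 (iv6 D124183) D124182
theorem F433188 : act 5 n204662 = n156019 := d12_1 D204662 (iv6 D156019) D156018 F345267 (iv5 F305173)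
theorem F433189 : act 0 n152347 = n204662 := d21_1 D152347 F433188 (iv6 D156019) (iv1 D74207) F53411 D53184 D115280 F400891 F400890 (iv1 D152345)
theorem F433190 : act 0 n203106 = n156019 := d19_0 (iv5 F433188) F433187 (iv3 F427914) (iv1 F427918) F186952 F114305 F55093 (iv1 F27656) (iv5 F22829) (iv4 D12760) F9381 F9384 (iv5 F11843) D16458 (iv3 F52518) (iv1 F52519) (iv5 F85532) D117681 D203106
theorem F433191 : act 1 n137030 = n156019 := d15_0 (iv0 F433190) F426993 F366538
def n204663 : Q := act 0 n124183
theorem D204663 : act 0 n124183 = n204663 := rfl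
theorem F433192 : act 1 n137013 = n204663 := d15_0 (iv0 D204663) (iv7 F391250) F391247
def n204664 : Q := act 1 n124183
theorem D204664 : act 1 n124183 = n204664 := rfl
theorem F433193 : act 1 n204664 = n137013 := d15_1 D204664 F328989 (iv2 F305175)
def n204665 : Q := act 0 n124188
theorem D204665 : act 0 n124188 = n204665 := rfl
theorem F433194 : act 1 n177798 = n204665 := d15_0 (iv0 D204665) F302598 D177798
def n204666 : Q := act 1 n124188
theorem D204666 : act 1 n124188 = n204666 := rfl
theorem F433195 : act 3 n189916 = n204666 := d20_3 F378077 (iv1 F160475) D189916 (iv1 D204666) (iv3 D124188) (iv4 D57889) (iv1 F298652) D39182 D84787 D178114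
theorem F433196 : act 4 n195051 = n204666 := d20_6 (iv4 F296849) F296848 D96180 D190571 (iv1 F380227) F395579 (iv1 D204666) (iv4 F433157) (iv3 D204657) F297506
theorem F433197 : act 6 n204666 = n197831 := d10_2 F405937 F433196 (iv4 D197831)
theorem F433198 : act 0 n177798 = n204666 := d20_10 (iv4 F433196) (iv1 D195051) (iv4 F172636) F172635 D111287 F351064 F277904 (iv1 F328595) (iv4 F130006) (iv3 F277296)
theorem F433199 : act 7 n204666 = n177797 := d8_2 F394982 F433195 (iv3 F394983)
theorem F433200 : act 2 n177797 = n204665 := d15_3 (iv0 D204665) D204666 F433199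
theorem F433201 : act 2 n204666 = n177796 := d15_3 (iv0 D177796) D177797 (iv7 F433199)
theorem F433202 : act 7 n177796 = n204665 := d4_2 (iv7 F433199) F433201 (iv2 F433200)
def n204667 : Q := act 2 n124188
theorem D204667 : act 2 n124188 = n204667 := rfl
theorem F433203 : act 3 n204667 = n178142 := d0_2 D124188 D204667 (iv2 F277701) F130009 F301313
theorem F433204 : act 6 n204667 = n200591 := d3_2 F412423 D204667 (iv2 F417101)
theorem F433205 : act 7 n204667 = n177798 := d4_2 (iv7 F302598) D204667 (iv2 D177798)
theorem F433206 : act 1 n204667 = n177796 := d15_0 (iv0 D177796) (iv7 F302598) D204667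
theorem F433207 : act 1 n177797 = n204667 := d15_0 F433206 F433202 (iv2 F433200)
def n204668 : Q := act 5 n124188
theorem D204668 : act 5 n124188 = n204668 := rfl
theorem F433208 : act 3 n204668 = n124189 := d6_1 D204668 (iv5 D124189) D124188
theorem F433209 : act 6 n204668 = n188947 := d12_2 F412423 D204668 (iv5 D188947) (iv6 F400321) (iv5 F412422)
theorem F433210 : act 7 n204668 = n177799 := d13_2 (iv7 F302598) D204668 (iv5 D177799)
theorem F433211 : act 4 n193231 = n204668 := d10_3 F433209 F375236 (iv6 F389256)
theorem F433212 : act 0 n193237 = n204668 := d21_4 (iv5 F369617) F369619 (iv5 F360812) D193237 F433209 (iv5 D188947) D188945 F394263 (iv6 D194724) F159823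
def n204669 : Q := act 3 n124206
theorem D204669 : act 3 n124206 = n204669 := rfl
theorem F433213 : act 2 n204669 = n129013 := d0_1 D204669 (iv3 F361238) (iv2 F361240) (iv3 D163622) (iv2 F198696)
theorem F433214 : act 4 n204669 = n124209 := d5_2 D124206 D204669 (iv3 D124209) (iv4 D57910) D57909
theorem F433215 : act 5 n204669 = n193369 := d6_2 (iv5 F337896) D204669 F389600
theorem F433216 : act 6 n204669 = n128998 := d7_2 (iv6 F333463) D204669 (iv3 F333451)
theorem F433217 : act 7 n204669 = n163625 := d8_2 (iv7 F198697) D204669 (iv3 D163625)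
def n204670 : Q := act 0 n124209
theorem D204670 : act 0 n124209 = n204670 := rfl
def n204671 : Q := act 1 n124209
theorem D204671 : act 1 n124209 = n204671 := rfl
def n204672 : Q := act 2 n124209
theorem D204672 : act 2 n124209 = n204672 := rfl
theorem F433218 : act 4 n204672 = n129013 := d1_2 F433214 D204672 (iv2 F433213)
theorem F433219 : act 6 n204672 = n129012 := d3_2 (iv6 F404470) D204672 (iv2 F404465)
def n204673 : Q := act 5 n124209
theorem D204673 : act 5 n124209 = n204673 := rfl
theorem F433220 : act 3 n204673 = n124210 := d6_1 D204673 (iv5 D124210) D124209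
def n204674 : Q := act 6 n124210
theorem D204674 : act 6 n124210 = n204674 := rfl
theorem F433221 : act 7 n204674 = n143930 := d14_2 (iv7 F302544) D204674 (iv6 D143930) (iv7 F182407) (iv6 F349733)
theorem F433222 : act 0 n204674 = n156309 := d21_4 (iv5 F297435) F191505 D124210 D204674 (iv6 D156309) (iv5 F221899) F357949 (iv5 F130011) (iv6 D84806) D84803
theorem F433223 : act 0 n195900 = n204674 := d21_4 (iv5 D200122) (iv1 D112678) D112679 (iv6 F398655) (iv6 D204674) (iv5 D124210) D124208 F299747 D178163 F415113
def n204675 : Q := act 0 n124214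
theorem D204675 : act 0 n124214 = n204675 := rfl
theorem F433224 : act 5 n204675 = n178154 := d17_1 D204675 F419964 F419961 F277702 (iv5 F334705) F334703 (iv5 F336010) (iv0 D178176) F304735
theorem F433225 : act 6 n124255 = n204675 := d21_5 (iv5 F386929) F409282 (iv5 D198795) F325613 D124255 F433224 F419964 F419961 (iv6 F415348) F415351
def n204676 : Q := act 1 n124214
theorem D204676 : act 1 n124214 = n204676 := rfl
theorem F433226 : act 4 n204676 = n203851 := d18_7 F421149 (iv4 F358938) (iv1 F373916) F373912 F317773 F304735 D204676 (iv0 F430102) (iv5 F421150)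
theorem F433227 : act 6 n198278 = n204676 := d10_0 F433226 (iv6 D203851) F407446
theorem F433228 : act 5 n204676 = n178155 := d21_6 D157920 (iv1 F281421) (iv5 D180789) (iv6 F199041) (iv1 F407445) F433227 (iv1 D178155) (iv5 D84801) F60164 D75229
def n204677 : Q := act 2 n124214
theorem D204677 : act 2 n124214 = n204677 := rfl
theorem F433229 : act 4 n204677 = n178178 := d1_2 F304735 D204677 (iv2 D178178)
theorem F433230 : act 6 n204677 = n180170 := d3_2 (iv6 F302545) D204677 (iv2 D180170)
def n204678 : Q := act 5 n124214
theorem D204678 : act 5 n124214 = n204678 := rfl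
theorem F433231 : act 3 n204678 = n124215 := d6_1 D204678 (iv5 D124215) D124214
def n204679 : Q := act 0 n124216
theorem D204679 : act 0 n124216 = n204679 := rfl
theorem F433232 : act 5 n204679 = n156642 := d17_3 (iv1 F424247) (iv5 F390356) D204679 (iv4 D156642) (iv5 F330038) (iv0 F350111) (iv5 D140796) F180273 (iv4 F424245)
theorem F433233 : act 4 n204679 = n200764 := d18_3 (iv1 F430532) F377751 D204679 F417837 (iv4 D178284) F130051 D166335 F395542 D200628
theorem F433234 : act 6 n204679 = n200763 := d21_5 (iv5 D110925) D110922 (iv5 F409341) (iv6 F400758) D204679 F417831 F323804 D142806 F410617 (iv1 D199090)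
def n204680 : Q := act 1 n124216
theorem D204680 : act 1 n124216 = n204680 := rfl
theorem F433235 : act 5 n204680 = n156637 := d17_7 D124886 (iv5 F308699) F308697 (iv5 F360892) (iv4 F360894) (iv5 F390356) D204680 F363749 F200564
theorem F433236 : act 4 n166321 = n204680 := d20_6 F125352 (iv1 F71151) F297487 D166088 F359323 (iv3 F261913) (iv1 D204680) (iv4 F377751) (iv3 D189788) F146870
theorem F433237 : act 6 n204680 = n124275 := d10_2 F413333 F433236 (iv4 F413331)
def n204681 : Q := act 2 n124216
theorem D204681 : act 2 n124216 = n204681 := rfl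
theorem F433238 : act 5 n204681 = n202491 := d2_2 (iv5 F390356) D204681 (iv2 F424237)
theorem F433239 : act 6 n204681 = n199103 := d3_2 (iv6 F400758) D204681 (iv2 F410681)
def n204682 : Q := act 6 n124217
theorem D204682 : act 6 n124217 = n204682 := rfl
theorem F433240 : act 2 n204682 = n196521 := d3_1 D204682 (iv6 F400957) (iv2 F304487)
theorem F433241 : act 3 n204682 = n199165 := d7_1 D204682 (iv6 F410967) F390355
theorem F433242 : act 4 n204682 = n196517 := d10_1 D204682 F433021 F433018
theorem F433243 : act 5 n204682 = n195468 := d12_1 D204682 F409357 (iv5 D198810) F327886 D124217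
theorem F433244 : act 7 n204682 = n202142 := d14_2 (iv7 F304488) D204682 (iv6 F423030) F400533 F363361
theorem F433245 : act 1 n202151 = n204682 := d15_1 D202151 F433244 F423025
theorem F433246 : act 6 n202151 = n198025 := d21_5 (iv5 D57919) D57916 D124217 D204682 (iv1 F433245) (iv5 F406923) F407588 F363356 F363359 (iv1 D124226)
theorem F433247 : act 1 n204682 = n202150 := d15_0 (iv0 D202150) (iv7 F400956) (iv2 F433240)
def n204683 : Q := act 0 n124219
theorem D204683 : act 0 n124219 = n204683 := rfl
theorem F433248 : act 5 n204683 = n197670 := d21_2 F406099 D204683 F405316 F400455 (iv6 D134737) D134736 F354216 (iv5 D65929) D65930 D140469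
theorem F433249 : act 2 n199672 = n204683 := d15_3 (iv0 D204683) (iv0 F407675) (iv7 F413075)
theorem F433250 : act 6 n204683 = n124281 := d3_2 D199672 F433249 (iv2 F365918)
def n204684 : Q := act 2 n124219
theorem D204684 : act 2 n124219 = n204684 := rfl
theorem F433251 : act 4 n204684 = n194485 := d1_2 F394624 D204684 (iv2 F394622)
theorem F433252 : act 6 n204684 = n194484 := d3_2 (iv6 F394621) D204684 (iv2 F394618)
theorem F433253 : act 0 n204684 = n199672 := d20_1 (iv4 F433251) F413073 F409002 (iv1 F363543) (iv3 D185464) (iv4 D88349) D88347 F135293 D104667 F393405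
def n204685 : Q := act 4 n124221
theorem D204685 : act 4 n124221 = n204685 := rfl
theorem F433254 : act 2 n204685 = n158142 := d1_1 D204685 (iv4 F433142) (iv2 F433145)
theorem F433255 : act 3 n204685 = n198832 := d5_1 D204685 F409466 F173465 (iv4 F173472) (iv3 F360093)
theorem F433256 : act 6 n204685 = n173462 := d10_2 F360095 D204685 (iv4 F339367)
theorem F433257 : act 7 n204685 = n172552 := d11_2 F433139 D204685 (iv4 F433134)
theorem F433258 : act 5 n204685 = n157983 := d16_7 F153973 D100044 D192307 (iv5 F415492) F415487 F360094 D204685 F315280 (iv2 F312609)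
theorem F433259 : act 0 n204685 = n191392 := d17_0 F383313 (iv1 F351632) F340664 F348180 (iv5 F404847) F412819 (iv5 F433148) F433151 D204685
theorem F433260 : act 0 n157842 = n204685 := d20_10 (iv4 D204685) (iv1 F433151) F433147 F201456 (iv1 F131960) (iv3 F323208) D82457 (iv1 F329443) F248749 (iv3 F248747)
def n204686 : Q := act 3 n124222
theorem D204686 : act 3 n124222 = n204686 := rfl
def n204687 : Q := act 5 n124222
theorem D204687 : act 5 n124222 = n204687 := rfl
theorem F433261 : act 2 n204687 = n202436 := d2_1 D204687 (iv5 F433133) F433138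
theorem F433262 : act 1 n204687 = n197847 := d17_6 F409620 F328130 (iv1 F344416) (iv5 F278246) F360091 D204687 F406014 F363993 (iv4 F409617)
def n204688 : Q := act 4 n124224
theorem D204688 : act 4 n124224 = n204688 := rfl
def n204689 : Q := act 6 n124224
theorem D204689 : act 6 n124224 = n204689 := rfl
theorem F433263 : act 3 n204689 = n124228 := d7_1 D204689 (iv6 D124228) (iv3 F198709)
theorem F433264 : act 5 n204689 = n124304 := d12_1 D204689 (iv6 D124304) (iv5 D57946) (iv6 F91637) D124224
theorem F433265 : act 0 n204689 = n134730 := d21_4 (iv5 D204687) (iv1 D124222) D124224 D204689 (iv6 D134730) D134729 (iv1 F405995) (iv5 D197846) D197847 (iv1 F433262)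
theorem F433266 : act 0 n193301 = n124304 := d21_1 D193301 (iv5 F433264) (iv6 D204689) F360090 (iv6 F405259) F405258 F375307 F375305 D192481 F389419
theorem F433267 : act 1 n204689 = n190898 := d15_1 (iv0 F433265) (iv7 F381486) F365463
def n204690 : Q := act 3 n124227
theorem D204690 : act 3 n124227 = n204690 := rfl
theorem F433268 : act 5 n204690 = n178078 := d6_2 (iv5 F304977) D204690 (iv3 D178078)
theorem F433269 : act 0 n156007 = n204690 := d20_4 (iv4 F393560) F393561 (iv4 F245492) F245491 (iv3 D204690) (iv4 D124227) D124225 (iv4 F356031) F239988 D152784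
def n204691 : Q := act 6 n124227
theorem D204691 : act 6 n124227 = n204691 := rfl
theorem F433270 : act 4 n204691 = n124228 := d10_1 D204691 (iv6 D124228) D124227
theorem F433271 : act 0 n204691 = n193251 := d20_7 (iv4 F291804) (iv1 F292809) (iv4 F293813) (iv3 F381485) (iv1 F433267) F433263 (iv4 F433270) F389324 (iv3 D101412) (iv1 F156192)
def n204692 : Q := act 0 n124228
theorem D204692 : act 0 n124228 = n204692 := rfl
def n204693 : Q := act 1 n124228
theorem D204693 : act 1 n124228 = n204693 := rfl
def n204694 : Q := act 7 n124228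
theorem D204694 : act 7 n124228 = n204694 := rfl
theorem F433272 : act 5 n204694 = n124313 := d13_1 D204694 (iv7 D124313) (iv5 F198710)
def n204695 : Q := act 1 n124230
theorem D204695 : act 1 n124230 = n204695 := rfl
theorem F433273 : act 1 n204695 = n125519 := d15_1 D204695 F364142 F364144
theorem F433274 : act 7 n204695 = n196420 := d15_2 (iv0 F281219) D204695 (iv2 F400642)
theorem F433275 : act 4 n204695 = n157164 := d18_7 F401161 F401159 (iv1 F248619) (iv4 F365247) (iv5 D180393) (iv4 F198717) D204695 (iv0 D157164) D157166
theorem F433276 : act 6 n197706 = n204695 := d21_3 D50179 D108680 (iv5 F405453) (iv1 D204695) F297087 D180393 F370803 (iv5 F356730) (iv6 D108676) (iv1 D50177)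
theorem F433277 : act 2 n204695 = n164010 := d3_1 F433276 F345343 F405863
def n204696 : Q := act 5 n124230
theorem D204696 : act 5 n124230 = n204696 := rfl
theorem F433278 : act 2 n204696 = n197960 := d2_1 D204696 (iv5 D197960) F364144
theorem F433279 : act 3 n204696 = n124231 := d6_1 D204696 (iv5 D124231) D124230
theorem F433280 : act 7 n204696 = n196421 := d13_2 F337393 D204696 (iv5 D196421)
theorem F433281 : act 0 n204696 = n199469 := d17_2 (iv1 D204695) D204696 (iv5 D199469) (iv4 F412311) F412312 F420098 F420097 F410640 (iv4 F433275)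
def n204697 : Q := act 6 n124231
theorem D204697 : act 6 n124231 = n204697 := rfl
theorem F433282 : act 2 n204697 = n141946 := d3_1 D204697 (iv6 F362691) (iv2 F198719)
theorem F433283 : act 4 n204697 = n196419 := d10_1 D204697 F400639 (iv4 F198720)
theorem F433284 : act 5 n204697 = n180395 := d12_1 D204697 (iv6 D180395) (iv5 D86156) F296315 D124231
theorem F433285 : act 0 n204697 = n141949 := d21_10 F224995 (iv1 F224854) (iv5 F407578) (iv6 F407582) (iv1 F362809) (iv6 D124247) (iv5 D57927) (iv1 F91641) D124231 D204697
theorem F433286 : act 0 n141831 = n204697 := d21_4 (iv5 D141836) (iv1 D66496) D66497 (iv6 F224856) (iv6 D204697) (iv5 D124231) (iv1 D57921) D57923 D124237 F341382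
theorem F433287 : act 7 n141947 = n204697 := d13_0 F433284 F363346 (iv5 F363351)
def n204698 : Q := act 2 n124233
theorem D204698 : act 2 n124233 = n204698 := rfl
theorem F433288 : act 7 n124234 = n204698 := d15_2 (iv0 D124233) D124234 (iv2 D204698)
def n204699 : Q := act 3 n124233
theorem D204699 : act 3 n124233 = n204699 := rfl
theorem F433289 : act 4 n204699 = n160843 := d20_6 (iv4 D17367) F21979 D27639 D57922 D124233 D204699 (iv1 D160843) (iv4 F119935) (iv3 D78767) (iv1 D35863)
theorem F433290 : act 0 n164002 = n204699 := d20_10 F433289 (iv1 D160843) (iv4 F119935) (iv3 D78767) (iv1 D35863) D35864 F56527 D35870 D78791 D164002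
def n204700 : Q := act 4 n124233
theorem D204700 : act 4 n124233 = n204700 := rfl
theorem F433291 : act 0 n204700 = n163503 := d18_2 D124233 D204700 (iv4 F341840) D197909 F406177 F381402 (iv4 F429404) (iv0 F429405) (iv5 D124236)
theorem F433292 : act 1 n204700 = n191187 := d18_8 D191185 F382518 (iv1 F358109) (iv4 F382713) F382714 F287861 F253363 D204700 (iv5 D191187)
theorem F433293 : act 6 n204700 = n130229 := d21_5 (iv5 D177347) F298916 D181008 (iv6 F382524) (iv1 F433292) (iv5 D130229) (iv1 D61130) D61132 D130239 F354343
def n204701 : Q := act 5 n124233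
theorem D204701 : act 5 n124233 = n204701 := rfl
theorem F433294 : act 0 n204701 = n203689 := d17_2 D124233 D204701 (iv5 D203689) (iv4 F262172) (iv5 F382592) F382594 F211641 F354389 F119733
theorem F433295 : act 4 n204701 = n166699 := d17_4 (iv1 F394873) (iv5 D124236) D124233 D204701 (iv5 D166699) D166697 (iv5 F381396) (iv0 D190870) (iv4 F381395)
theorem F433296 : act 6 n204701 = n190297 := d21_3 (iv5 D124236) D124233 D204701 (iv1 D190297) F147501 (iv5 F291433) D101389 F360812 D190869 (iv1 F394873)
theorem F433297 : act 2 n203691 = n204701 := d3_3 F433296 (iv2 F379315) (iv6 F429429)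
theorem E103889 : n204698 = n160405 := (c2_4 (iv5 F429427) F433297 (iv5 D204701) D204698)
theorem F433298 : act 2 n160405 = n124233 := (sb E103889 (iv2 D204698))
theorem F433299 : act 7 n160405 = n124234 := (sb E103889 (iv7 F433288))
theorem F433300 : act 2 n124234 = n160404 := d15_3 (iv0 D160404) D160405 F433299
theorem F433301 : act 7 n124233 = n160404 := d4_2 (iv7 F433299) F433298 (iv2 F433300)
theorem F433302 : act 7 n197837 = n204700 := d11_2 F433301 (iv4 F405964) (iv4 D204700)
theorem F433303 : act 7 n203690 = n204701 := d13_2 F433301 F429434 (iv5 D204701)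
theorem F433304 : act 2 n204700 = n197838 := d15_3 F405966 F405965 F433302
theorem F433305 : act 6 n157860 = n124234 := d3_0 F433300 (iv6 F431246) F399471
theorem F433306 : act 1 n204701 = n160418 := d15_1 (iv0 F433294) F253406 (iv2 F429426)
def n204702 : Q := act 6 n124233
theorem D204702 : act 6 n124233 = n204702 := rfl
theorem F433307 : act 4 n204702 = n130229 := d10_1 D204702 (iv6 F433293) (iv4 D204700)
theorem F433308 : act 5 n204702 = n197465 := d12_1 D204702 F425473 F425470 (iv6 F433296) (iv5 D204701)
theorem F433309 : act 0 n204702 = n138995 := d21_10 (iv5 D138995) (iv1 F313644) F413143 (iv6 D199692) F355989 (iv6 F326167) D160418 (iv1 F433306) (iv5 D204701) D204702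
theorem F433310 : act 0 n139004 = n204702 := d21_4 (iv5 F417528) F413926 F413923 F333025 (iv6 D204702) D204701 F433294 (iv5 D203689) (iv6 F197649) F417527
theorem F433311 : act 3 n204702 = n125513 := d20_3 (iv4 F418184) F418186 (iv4 F433307) (iv1 D125513) F92851 D58761 F92865 (iv4 F78171) (iv3 F112140) (iv1 F207272)
theorem F433312 : act 5 n125513 = n144319 := d6_2 (iv5 F433308) F433311 (iv3 F404448)
theorem F433313 : act 6 n125513 = n204699 := d7_2 D204702 F433311 (iv3 D204699)
def n204703 : Q := act 3 n124234
theorem D204703 : act 3 n124234 = n204703 := rfl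
def n204704 : Q := act 4 n124234
theorem D204704 : act 4 n124234 = n204704 := rfl
theorem F433314 : act 2 n204704 = n197837 := d1_1 D204704 F405964 (iv2 F433300)
theorem F433315 : act 6 n204704 = n196093 := d10_2 F433305 D204704 (iv4 F399375)
theorem F433316 : act 7 n204704 = n197838 := d11_2 F433299 D204704 F405967
theorem F433317 : act 5 n204704 = n189704 := d16_1 D204704 F377462 F293604 (iv4 F122811) D166699 (iv4 F433295) (iv5 D204701) F433301 (iv2 F433300)
theorem F433318 : act 0 n204704 = n191187 := d17_0 (iv5 D191187) D191185 (iv5 F429400) (iv4 D203683) D203684 (iv0 F429405) (iv5 D124236) D124234 D204704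
theorem F433319 : act 0 n196272 = n204703 := d20_4 (iv4 F167996) F167994 (iv4 F164674) (iv3 F400146) (iv3 D204703) D204704 F433318 F382526 F168708 (iv1 F167991)
theorem F433320 : act 3 n204704 = n163430 := d20_9 F282821 (iv1 F158079) D194161 F392228 (iv1 F287811) (iv3 F287860) F287861 (iv1 F253365) D204704 (iv1 F282823)
theorem F433321 : act 0 n163503 = n204704 := d20_10 (iv4 D204704) (iv1 D124234) (iv4 F119733) (iv3 D78548) (iv1 D35785) D35786 F56455 D35792 D78571 D163503
def n204705 : Q := act 5 n124234
theorem D204705 : act 5 n124234 = n204705 := rfl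
theorem F433322 : act 2 n204705 = n203690 := d2_1 D204705 (iv5 F429434) (iv2 F433300)
theorem F433323 : act 7 n204705 = n203691 := d13_2 F433299 D204705 F429427
theorem F433324 : act 0 n204705 = n160418 := d17_2 (iv1 F253365) D204705 (iv5 D160418) (iv4 F119776) (iv5 F257753) (iv0 F354468) F211648 F354391 F287861
theorem F433325 : act 0 n203689 = n204705 := d21_7 D157862 F412616 F407346 F417517 (iv1 F417516) F197649 D203689 (iv5 D204705) (iv6 F433305) (iv1 D157860)
def n204706 : Q := act 5 n124235
theorem D204706 : act 5 n124235 = n204706 := rfl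
theorem F433326 : act 2 n204706 = n124236 := d2_1 D204706 (iv5 D124236) D124235
theorem F433327 : act 3 n204706 = n203695 := d6_1 D204706 (iv5 D203695) (iv3 F198728)
theorem F433328 : act 4 n204706 = n190908 := d9_1 D204706 F381509 (iv4 D158049) D158050 (iv4 F294066) F294067 F135380 D160407 F381519 F381517 F358096 (iv5 F358097) (iv4 F150263) F358445 F341825
theorem F433329 : act 1 n204706 = n190167 := d17_6 D163594 F382537 F382535 F358445 F341825 D204706 (iv5 F379022) (iv0 D160415) (iv4 F119776)
def n204707 : Q := act 3 n124242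
theorem D204707 : act 3 n124242 = n204707 := rfl
theorem F433330 : act 2 n204707 = n200864 := d0_1 D204707 F418203 F280698 F280697 F261330
theorem F433331 : act 6 n204707 = n180404 := d7_2 (iv6 F330797) D204707 (iv3 D180404)
theorem F433332 : act 7 n204707 = n200865 := d8_2 (iv7 F261331) D204707 (iv3 F418205)
theorem F433333 : act 4 n204707 = n189799 := d20_6 (iv4 D55942) F43542 D27642 D57926 D124242 D204707 (iv1 D189799) F146887 (iv3 D78765) (iv1 F88523)
theorem F433334 : act 0 n200863 = n204707 := d20_1 (iv4 F418201) F433333 (iv3 F395549) (iv1 F429947) F429943 F417140 (iv1 F412620) F362854 (iv3 F418277) (iv1 D200884)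
theorem F433335 : act 0 n204707 = n197958 := d20_1 (iv4 F433333) F406279 F176751 (iv1 F165585) D195043 F395553 F365804 (iv4 F377803) (iv3 F380464) (iv1 F380472)
theorem F433336 : act 5 n204707 = n199753 := d17_1 F433334 (iv1 D199753) (iv5 D111661) (iv4 F173222) (iv5 F398079) F418281 D196230 F418280 (iv4 F418201)
def n204708 : Q := act 4 n124242
theorem D204708 : act 4 n124242 = n204708 := rfl
theorem F433337 : act 2 n204708 = n163802 := d1_1 D204708 (iv4 F330794) F261330
theorem F433338 : act 3 n204708 = n165950 := d5_1 D204708 (iv4 F395550) F395549 (iv4 F433333) (iv3 D204707)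
theorem F433339 : act 6 n204708 = n163801 := d10_2 (iv6 F330797) D204708 (iv4 F258230)
theorem F433340 : act 7 n204708 = n165938 := d11_2 (iv7 F261331) D204708 F261369
theorem F433341 : act 1 n204708 = n164027 := d18_8 (iv1 F366375) F288116 F366225 F208636 D130130 (iv4 F341827) F198741 D204708 F363808
theorem F433342 : act 0 n165950 = n188499 := d20_10 F373723 (iv1 D165784) F122335 (iv3 D36264) (iv1 F296935) D78508 (iv4 F299011) D124242 D204708 F433338
theorem F433343 : act 1 n165937 = n204708 := d15_0 F433341 (iv7 F363809) (iv2 F377700)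
def n204709 : Q := act 5 n124242
theorem D204709 : act 5 n124242 = n204709 := rfl
theorem F433344 : act 2 n204709 = n203694 := d2_1 D204709 (iv5 D203694) F261330
theorem F433345 : act 3 n204709 = n199753 := d6_1 D204709 (iv5 F433336) (iv3 D204707)
theorem F433346 : act 7 n204709 = n203693 := d13_2 (iv7 F261331) D204709 (iv5 D203693)
theorem F433347 : act 0 n160266 = n204709 := d19_0 (iv5 D204709) D204708 F433338 F433342 F373721 F211637 (iv3 F211633) F383855 (iv5 D180672) (iv4 D86303) (iv3 D39931) (iv1 D18883) (iv5 F28014) (iv4 F55848) (iv3 D35142) D35140 D76905 F115536 (iv3 F253111)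
def n204710 : Q := act 5 n124243
theorem D204710 : act 5 n124243 = n204710 := rfl
theorem F433348 : act 2 n204710 = n203693 := d2_1 D204710 (iv5 D203693) (iv2 F261329)
theorem F433349 : act 7 n204710 = n203694 := d13_2 F261328 D204710 (iv5 D203694)
theorem F433350 : act 0 n204710 = n160266 := d17_2 (iv1 F198745) D204710 (iv5 D160266) F320279 (iv5 D61366) D61365 D130820 F330893 (iv4 F341827)
def n204711 : Q := act 5 n124244
theorem D204711 : act 5 n124244 = n204711 := rfl
theorem F433351 : act 2 n204711 = n124245 := d2_1 D204711 (iv5 D124245) D124244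
theorem F433352 : act 7 n204711 = n203695 := d13_2 (iv7 F198743) D204711 (iv5 D203695)
theorem F433353 : act 1 n204711 = n203696 := d17_6 (iv1 F345536) F345539 (iv1 F208644) (iv5 F336086) F336085 D204711 F429438 (iv0 D160263) F320279
theorem F433354 : act 1 n203697 = n204711 := d15_1 D203697 F433352 F429437
def n204712 : Q := act 0 n124245
theorem D204712 : act 0 n124245 = n204712 := rfl
theorem F433355 : act 1 n203695 = n204712 := d15_0 (iv0 D204712) F198748 (iv2 F429437)
theorem F433356 : act 5 n204712 = n124255 := d17_7 D165708 F334634 F331839 D130130 (iv4 F341827) D203695 F433355 (iv0 D124255) (iv4 F122246)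
theorem F433357 : act 2 n203697 = n204712 := d2_3 F433356 (iv2 F262238) (iv5 F429442)
theorem F433358 : act 7 n203696 = n204712 := d13_0 F433356 F262239 (iv5 F429438)
def n204713 : Q := act 1 n124245
theorem D204713 : act 1 n124245 = n204713 := rfl
theorem F433359 : act 1 n204713 = n203695 := d15_1 D204713 (iv7 F433352) F433351
theorem F433360 : act 7 n204713 = n203697 := d15_2 (iv0 D204712) D204713 F433357
theorem F433361 : act 5 n204713 = n124256 := d17_7 (iv1 F336024) F336025 (iv1 F208642) F324233 (iv4 F299011) D124245 D204713 F253110 (iv4 F320277)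
theorem F433362 : act 2 n203696 = n204713 := d2_3 F433361 F262237 (iv5 F429438)
theorem F433363 : act 6 n186303 = n204713 := d12_0 F433361 F413343 (iv5 F411305) (iv6 F411304) F303414
theorem F433364 : act 4 n186304 = n204713 := d16_2 F137449 (iv5 F289074) F433361 (iv4 F198754) (iv5 F326012) (iv4 F377695) F377696 (iv7 D94456) (iv2 F291542)
def n204714 : Q := act 4 n124245
theorem D204714 : act 4 n124245 = n204714 := rfl
theorem F433365 : act 3 n204714 = n190165 := d5_1 D204714 F379019 (iv3 D124305) (iv4 F91667) (iv3 F198747)
theorem F433366 : act 7 n204714 = n174712 := d11_2 (iv7 F198748) D204714 (iv4 F413102)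
theorem F433367 : act 0 n204714 = n174713 := d18_2 (iv1 D204713) D204714 F406261 (iv5 F412112) F412111 (iv0 D165708) F122246 D124256 (iv5 F433361)
theorem F433368 : act 2 n204714 = n174711 := d15_3 (iv0 D174711) D174712 (iv7 F433366)
theorem F433369 : act 4 n174711 = n204711 := d1_2 D204714 F433368 F433351
theorem F433370 : act 6 n190095 = n204714 := d3_0 F433368 F368450 F378842
theorem F433371 : act 0 n173335 = n204714 := d21_4 (iv5 D173326) (iv1 D82948) D82950 D173335 (iv6 F433370) F378840 (iv1 F158645) (iv5 F378864) F378865 F273463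
def n204715 : Q := act 6 n124245
theorem D204715 : act 6 n124245 = n204715 := rfl
theorem F433372 : act 3 n204715 = n124247 := d7_1 D204715 (iv6 D124247) (iv3 F198747)
theorem F433373 : act 4 n204715 = n190095 := d10_1 D204715 F433370 (iv4 D204714)
theorem F433374 : act 5 n204715 = n198301 := d12_1 D204715 (iv6 D198301) (iv5 F366062) (iv6 D124246) D124245
theorem F433375 : act 7 n204715 = n194416 := d14_2 (iv7 F198748) D204715 (iv6 F404723) F429445 (iv6 D203698)
def n204716 : Q := act 1 n124246
theorem D204716 : act 1 n124246 = n204716 := rfl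
theorem F433376 : act 1 n204716 = n198914 := d15_1 D204716 (iv7 F414846) F414844
theorem F433377 : act 7 n204716 = n174140 := d15_2 F353646 D204716 (iv2 F353647)
theorem F433378 : act 3 n197978 = n204716 := d19_19 (iv1 D204716) F366062 F361664 F352412 (iv1 F232066) (iv5 D148234) (iv4 D69491) (iv3 D32269) (iv1 D15218) (iv5 F20464) (iv4 F40841) F40840 (iv1 F40755) D53179 (iv4 F165969) F330508 F180909 F344738 D197978
theorem F433379 : act 4 n166469 = n204716 := d20_0 (iv1 D204716) (iv4 F320724) F320723 F318602 F105468 (iv4 F94383) F320063 F318907 (iv3 F230740) (iv1 F353659)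
theorem F433380 : act 2 n204716 = n178147 := d1_1 F433379 (iv4 F358895) F353660
theorem F433381 : act 6 n204716 = n166467 := d10_2 D166469 F433379 (iv4 D166467)
def n204717 : Q := act 4 n124255
theorem D204717 : act 4 n124255 = n204717 := rfl
theorem F433382 : act 2 n204717 = n180588 := d1_1 D204717 F281094 F262238
theorem F433383 : act 3 n204717 = n203826 := d5_1 D204717 F429985 F416921 (iv4 F413304) (iv3 F413307)
theorem F433384 : act 7 n204717 = n203822 := d11_2 (iv7 F262239) D204717 F429973
theorem F433385 : act 5 n204717 = n185797 := d16_1 D204717 F288116 (iv5 F291544) F137449 (iv5 F289074) F433364 F433361 (iv7 F262236) F262238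
theorem F433386 : act 1 n204717 = n203821 := d18_8 (iv1 F365900) (iv4 F397817) F397818 F209257 D130810 F320277 F253108 D204717 F429970
theorem F433387 : act 0 n204717 = n158797 := d20_1 D204717 (iv4 F430993) (iv3 F430995) (iv1 D160294) (iv3 D76827) (iv4 D35115) F27973 D27645 D57931 D124255
def n204718 : Q := act 5 n124257
theorem D204718 : act 5 n124257 = n204718 := rfl
theorem F433388 : act 2 n204718 = n124258 := d2_1 D204718 (iv5 D124258) D124257
theorem F433389 : act 1 n204718 = n204709 := d17_6 F330895 F330889 (iv1 F209368) F342148 F261042 D204718 (iv5 D204709) (iv0 D124242) F299011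
theorem F433390 : act 0 n204718 = n204710 := d21_7 (iv5 F387497) F387499 (iv5 F387399) F387404 (iv1 F409277) F409275 D204718 (iv5 D204710) F365184 F337363
def n204719 : Q := act 4 n124258
theorem D204719 : act 4 n124258 = n204719 := rfl
theorem F433391 : act 5 n204719 = n176738 := d16_3 F122246 D124258 D204719 F369283 F369268 F209257 D130810 F320278 (iv2 D165710)
def n204720 : Q := act 6 n124258
theorem D204720 : act 6 n124258 = n204720 := rfl
theorem F433392 : act 3 n204720 = n124260 := d7_1 D204720 (iv6 D124260) (iv3 F198755)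
def n204721 : Q := act 5 n124274
theorem D204721 : act 5 n124274 = n204721 := rfl
theorem F433393 : act 4 n204721 = n191010 := d19_2 D124274 D204721 F381865 (iv1 F369882) F369879 F327101 F119780 (iv1 F293073) (iv5 F294073) (iv4 D41261) (iv3 F296073) (iv1 F296382) (iv5 D17233) (iv4 D8081) D8080 (iv1 F28316) D26746 (iv4 F44571) D57937
theorem F433394 : act 6 n191009 = n204721 := d10_0 F433393 (iv6 D191010) D191009
theorem F433395 : act 0 n124305 = n204721 := d20_7 F369878 (iv1 F344657) (iv4 F378825) F378824 F433371 F433365 F379019 F433393 F381865 (iv1 F369882)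
theorem F433396 : act 1 n190433 = n191010 := d18_6 D163949 (iv4 F341836) (iv1 D113591) (iv4 F176734) D200866 F418208 (iv4 F433393) (iv0 F433395) F198785
def n204722 : Q := act 3 n124275
theorem D204722 : act 3 n124275 = n204722 := rfl
theorem F433397 : act 7 n204722 = n196865 := d8_2 (iv7 F412086) D204722 (iv3 F412087)
def n204723 : Q := act 5 n124275
theorem D204723 : act 5 n124275 = n204723 := rfl
theorem F433398 : act 0 n204723 = n124305 := d17_2 (iv1 F253426) D204723 F198785 (iv4 F146887) D189801 (iv0 F417339) (iv5 F417276) F377822 F267340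
def n204724 : Q := act 5 n124276
theorem D204724 : act 5 n124276 = n204724 := rfl
theorem F433399 : act 2 n204724 = n124277 := d2_1 D204724 (iv5 D124277) D124276
def n204725 : Q := act 6 n124276
theorem D204725 : act 6 n124276 = n204725 := rfl
theorem F433400 : act 2 n204725 = n124278 := d3_1 D204725 (iv6 D124278) D124276
theorem F433401 : act 3 n204725 = n199646 := d7_1 D204725 F412979 F253439
theorem F433402 : act 7 n204725 = n199621 := d14_2 F253423 D204725 F412878 (iv7 F409226) F409225
theorem F433403 : act 5 n199622 = n204725 := d13_3 F433402 (iv5 D199621) D199622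
theorem F433404 : act 1 n199633 = n204725 := d15_1 D199633 F433402 F412877
theorem F433405 : act 1 n204725 = n197892 := d15_1 F433404 (iv7 F417536) F417533
def n204726 : Q := act 0 n124277
theorem D204726 : act 0 n124277 = n204726 := rfl
def n204727 : Q := act 1 n124277
theorem D204727 : act 1 n124277 = n204727 := rfl
def n204728 : Q := act 4 n124277
theorem D204728 : act 4 n124277 = n204728 := rfl
theorem F433406 : act 3 n204728 = n204719 := d5_1 D204728 (iv4 D204719) F198755 (iv4 F91659) (iv3 F198771)
def n204729 : Q := act 6 n124277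
theorem D204729 : act 6 n124277 = n204729 := rfl
theorem F433407 : act 3 n204729 = n124279 := d7_1 D204729 (iv6 D124279) (iv3 F198771)
theorem F433408 : act 5 n204729 = n199417 := d12_1 D204729 F412098 (iv5 F363322) (iv6 D124278) D124277
theorem F433409 : act 0 n197923 = n204729 := d21_4 (iv5 D196921) F364876 F379004 (iv6 F406204) (iv6 D204729) (iv5 D124277) D124274 D204721 (iv6 F433394) (iv1 F402297)
theorem F433410 : act 7 n199416 = n204729 := d13_0 F433408 (iv7 D199417) D199416
def n204730 : Q := act 1 n124278
theorem D204730 : act 1 n124278 = n204730 := rfl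
theorem F433411 : act 1 n204730 = n199621 := d15_1 D204730 (iv7 F433402) F433400
theorem F433412 : act 7 n204730 = n199633 := d15_2 (iv0 F417534) D204730 (iv2 F417533)
theorem F433413 : act 3 n196856 = n204730 := d19_19 (iv1 D204730) F363322 (iv4 F176548) F176547 (iv1 F95727) D126176 (iv4 F417631) F417630 (iv1 F342130) (iv5 F342128) F276861 (iv3 F199114) (iv1 F199116) (iv5 F336028) F165433 F78346 D49604 D107392 D196856
theorem F433414 : act 4 n125724 = n204730 := d20_0 (iv1 D204730) (iv4 F276772) (iv3 D177389) (iv1 D84515) F326939 (iv4 D58883) (iv1 D27994) (iv4 F45263) (iv3 F93087) D125724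
theorem F433415 : act 2 n204730 = n197892 := d1_1 F433414 (iv4 F417542) F417540
theorem F433416 : act 5 n197725 = n204730 := d2_0 F433415 (iv5 D197892) (iv2 F405526)
theorem F433417 : act 6 n170858 = n204730 := d3_0 F433415 F430658 F430665
def n204731 : Q := act 3 n124281
theorem D204731 : act 3 n124281 = n204731 := rfl
theorem F433418 : act 2 n204731 = n199420 := d0_1 D204731 (iv3 D199420) F202499 D111583 F365918
theorem F433419 : act 7 n204731 = n199675 := d8_2 F365920 D204731 F413080
theorem F433420 : act 4 n204731 = n130167 := d20_6 F327207 (iv1 D51906) (iv4 F325616) D57940 D124281 D204731 F345531 (iv4 F320279) (iv3 D76806) D76805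
theorem F433421 : act 0 n204731 = n199674 := d20_10 F430993 F366377 F198754 F262235 (iv1 D160568) D160569 (iv4 F262404) (iv1 F408999) F408997 D204731
theorem F433422 : act 0 n199611 = n204731 := d18_2 F429972 F429969 F433420 (iv5 D130167) (iv4 F342175) D185784 (iv4 F351700) F366376 F326012
theorem F433423 : act 1 n199420 = n204070 := d15_0 (iv0 F430989) (iv7 F433419) F433418
def n204732 : Q := act 5 n124281
theorem D204732 : act 5 n124281 = n204732 := rfl
theorem F433424 : act 2 n204732 = n199671 := d2_1 D204732 (iv5 D199671) F365918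
def n204733 : Q := act 5 n124283
theorem D204733 : act 5 n124283 = n204733 := rfl
theorem F433425 : act 2 n204733 = n124284 := d2_1 D204733 (iv5 D124284) D124283
def n204734 : Q := act 0 n124284
theorem D204734 : act 0 n124284 = n204734 := rfl
def n204735 : Q := act 1 n124284
theorem D204735 : act 1 n124284 = n204735 := rfl
theorem F433426 : act 3 n197717 = n204735 := d20_3 (iv4 F253431) (iv1 F413063) F413065 (iv1 D204735) F198776 F91662 D120274 F191508 (iv3 F326833) (iv1 F343778)
theorem F433427 : act 5 n197716 = n204735 := d21_0 (iv1 D204735) (iv5 D124284) F326435 (iv1 F173033) F173032 (iv5 F406213) (iv1 F426732) F426731 (iv6 F362622) F405494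
theorem F433428 : act 7 n204735 = n197942 := d13_2 (iv7 F405492) F433427 (iv5 D197942)
theorem F433429 : act 2 n197942 = n204734 := d15_3 (iv0 D204734) D204735 F433428
theorem F433430 : act 5 n204734 = n197940 := d2_2 D197942 F433429 (iv2 D197940)
def n204736 : Q := act 4 n124284
theorem D204736 : act 4 n124284 = n204736 := rfl
theorem F433431 : act 3 n204736 = n203692 := d5_1 D204736 (iv4 D203692) F191506 (iv4 F91662) (iv3 F198776)
theorem F433432 : act 5 n160616 = n204736 := d19_1 D160616 (iv4 D204736) F198776 F91663 (iv5 D55946) (iv4 D26979) F21447 F9517 (iv5 D3936) (iv4 F5364) F5363 (iv1 F5367) F2897 F2896 D3716 (iv1 F13770) D17079 D35180 D77017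
theorem F433433 : act 0 n160867 = n204736 := d20_4 D78476 F119681 (iv4 F115959) (iv3 F254033) F433431 (iv4 D203692) D203690 F429433 F248970 F112869
def n204737 : Q := act 6 n124284
theorem D204737 : act 6 n124284 = n204737 := rfl
theorem F433434 : act 3 n204737 = n124286 := d7_1 D204737 (iv6 D124286) (iv3 F198776)
theorem F433435 : act 5 n204737 = n199664 := d12_1 D204737 F413049 (iv5 D112496) (iv6 F326435) D124284
theorem F433436 : act 7 n204737 = n199663 := d14_2 F253445 D204737 F413046 F327526 F353992
def n204738 : Q := act 0 n124297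
theorem D204738 : act 0 n124297 = n204738 := rfl
theorem F433437 : act 5 n204738 = n190907 := d17_1 D204738 F406211 F406210 (iv4 F382526) (iv5 D191187) D191186 (iv5 F429416) (iv0 F429422) F328512
theorem F433438 : act 4 n204738 = n163594 := d20_0 (iv1 F262174) F262172 (iv3 F253106) (iv1 F253110) F262235 (iv4 F262234) (iv1 D166630) F122759 D124297 D204738
theorem F433439 : act 2 n199414 = n204738 := d15_3 (iv0 D204738) (iv0 F412058) F412081
theorem F433440 : act 1 n199417 = n204738 := d15_0 (iv0 D204738) F257962 (iv2 F412095)
theorem F433441 : act 7 n204738 = n199415 := d15_2 F412099 F433440 F412075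
theorem F433442 : act 1 n197922 = n204729 := d17_6 (iv1 F262174) (iv5 F382592) (iv1 F382595) F211648 (iv4 F354465) D197922 F433408 F433440 F433438
theorem F433443 : act 5 n204726 = n197921 := d21_0 (iv1 F406201) F389424 (iv6 D193303) F360809 D190907 (iv5 F433437) (iv1 F433440) (iv5 F433408) (iv6 D204729) D204726
theorem F433444 : act 3 n197922 = n204726 := d6_3 F433443 (iv3 D197921) D197922
theorem F433445 : act 4 n204726 = n190430 := d16_4 (iv4 F398063) D196230 (iv4 F406198) (iv5 F433443) (iv5 D190430) D190429 F399899 F204730 F398064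
theorem F433446 : act 0 n190430 = n199754 := d18_2 D204726 F433445 (iv4 D199754) (iv5 D111661) (iv4 F173222) D199742 (iv4 F413334) (iv0 D124274) D124277
def n204739 : Q := act 5 n124297
theorem D204739 : act 5 n124297 = n204739 := rfl
theorem F433447 : act 2 n204739 = n199416 := d2_1 D204739 (iv5 D199416) (iv2 F365642)
theorem F433448 : act 3 n204739 = n124298 := d6_1 D204739 (iv5 D124298) D124297
theorem F433449 : act 0 n204739 = n197923 := d17_2 F412058 D204739 (iv5 D197923) (iv4 F354392) (iv5 F211641) F354469 F257753 D163595 (iv4 F406893)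
theorem F433450 : act 0 n197922 = n204739 := d21_1 D197922 (iv5 D204739) F365643 (iv1 F172723) F348804 (iv5 F354403) (iv1 D108769) (iv5 D50219) D50220 D108772
theorem F433451 : act 6 n194756 = n204739 := d21_5 (iv5 D101441) (iv1 F156008) F156006 D104351 D194756 (iv5 D204739) D204738 F433437 (iv6 D190907) (iv1 F292811)
def n204740 : Q := act 4 n124298
theorem D204740 : act 4 n124298 = n204740 := rfl
theorem F433452 : act 2 n204740 = n199666 := d1_1 D204740 (iv4 D199666) F327525
def n204741 : Q := act 6 n124298
theorem D204741 : act 6 n124298 = n204741 := rfl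
theorem F433453 : act 2 n204741 = n199663 := d3_1 D204741 F413046 F327525
theorem F433454 : act 3 n204741 = n194756 := d7_1 D204741 F433451 F433448
theorem F433455 : act 5 n204741 = n199658 := d12_1 D204741 (iv6 D199658) (iv5 D111568) F328000 D124298
def n204742 : Q := act 6 n124300
theorem D204742 : act 6 n124300 = n204742 := rfl
theorem F433456 : act 2 n204742 = n124304 := d3_1 D204742 (iv6 D124304) (iv2 F198783)
theorem F433457 : act 5 n194744 = n204742 := d21_8 (iv5 F254090) (iv1 D121270) D121272 D203893 (iv1 F430276) (iv6 F381846) (iv5 F381483) (iv1 F394323) (iv6 D204742) (iv1 F253462)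
theorem F433458 : act 2 n204689 = n194744 := d2_3 F433457 F433456 (iv5 F433264)
theorem F433459 : act 6 n197563 = n194744 := d12_0 F433457 (iv6 D204742) (iv5 D124300) (iv6 F198708) (iv5 F404849)
theorem F433460 : act 7 n194743 = n204689 := d15_2 F394323 F394322 F433458
theorem F433461 : act 3 n204694 = n194743 := d8_3 F433460 F433263 D204694
def n204743 : Q := act 4 n124301
theorem D204743 : act 4 n124301 = n204743 := rfl
def n204744 : Q := act 6 n124301
theorem D204744 : act 6 n124301 = n204744 := rfl
theorem F433462 : act 3 n204744 = n124312 := d7_1 D204744 (iv6 F405509) F405505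
def n204745 : Q := act 4 n124302
theorem D204745 : act 4 n124302 = n204745 := rfl
def n204746 : Q := act 6 n124302
theorem D204746 : act 6 n124302 = n204746 := rfl
def n204747 : Q := act 0 n124303
theorem D204747 : act 0 n124303 = n204747 := rfl
theorem F433463 : act 4 n204747 = n164003 := d18_3 (iv1 D124302) D124303 D204747 (iv5 D164003) (iv4 D78791) (iv0 D35870) (iv4 F56527) D78770 (iv5 F250820)
def n204748 : Q := act 1 n124303
theorem D204748 : act 1 n124303 = n204748 := rfl
def n204749 : Q := act 3 n124303
theorem D204749 : act 3 n124303 = n204749 := rfl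
theorem F433464 : act 4 n204749 = n124309 := d5_2 D124303 D204749 (iv3 D124309) (iv4 D57949) (iv3 F91665)
theorem F433465 : act 7 n204749 = n204077 := d8_2 F253463 D204749 F431003
def n204750 : Q := act 6 n124303
theorem D204750 : act 6 n124303 = n204750 := rfl
theorem F433466 : act 4 n204750 = n124304 := d10_1 D204750 (iv6 D124304) D124303
def n204751 : Q := act 0 n124304
theorem D204751 : act 0 n124304 = n204751 := rfl
theorem F433467 : act 5 n204751 = n134828 := d21_8 (iv5 F403460) F403461 F389634 D197562 (iv1 F404848) D204689 F433264 D204751 (iv6 D134828) D134825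
theorem F433468 : act 3 n134829 = n204751 := d6_3 F433467 F216976 D134829
def n204752 : Q := act 7 n124304
theorem D204752 : act 7 n124304 = n204752 := rfl
theorem F433469 : act 3 n204752 = n124313 := d8_1 D204752 (iv7 D124313) (iv3 F198784)
theorem F433470 : act 5 n204752 = n194743 := d13_1 D204752 F433460 F433264
def n204753 : Q := act 0 n124307
theorem D204753 : act 0 n124307 = n204753 := rfl
def n204754 : Q := act 1 n124307
theorem D204754 : act 1 n124307 = n204754 := rfl
def n204755 : Q := act 2 n124307
theorem D204755 : act 2 n124307 = n204755 := rfl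
theorem F433471 : act 5 n204755 = n163956 := d2_2 (iv5 F198787) D204755 (iv2 D163956)
def n204756 : Q := act 4 n124307
theorem D204756 : act 4 n124307 = n204756 := rfl
theorem F433472 : act 3 n204756 = n187252 := d5_1 D204756 F381513 F198729 F91669 D124307
theorem F433473 : act 5 n166671 = n204756 := d19_1 D166671 (iv4 D204756) (iv3 D124307) (iv1 D57948) (iv5 D27650) (iv4 D13202) F9762 (iv1 F5899) (iv5 D3948) F2914 F1699 D1707 F2953 F4112 D6115 (iv1 F27423) (iv5 F28600) D36437 D79995
theorem F433474 : act 0 n160619 = n204756 := d21_7 F354541 (iv1 F173550) (iv5 F220409) (iv6 F340585) (iv1 F160322) F353171 D160619 (iv5 F433473) (iv6 F408574) F408571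
def n204757 : Q := act 6 n124307
theorem D204757 : act 6 n124307 = n204757 := rfl
theorem F433475 : act 3 n204757 = n124308 := d7_1 D204757 (iv6 D124308) D124307
def n204758 : Q := act 0 n124308
theorem D204758 : act 0 n124308 = n204758 := rfl
theorem F433476 : act 4 n204758 = n141844 := d18_1 D204758 F224891 F343805 (iv5 D156332) F111575 D134954 (iv4 F405376) F405373 F404926
theorem F433477 : act 6 n204758 = n197948 := d21_5 F119944 F88522 (iv5 F91668) D124308 D204758 F406262 F409243 F409241 (iv6 D160437) (iv1 F119946)
theorem F433478 : act 1 n197543 = n204758 := d15_0 (iv0 D204758) (iv7 F343179) (iv2 F404753)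
theorem F433479 : act 2 n141997 = n204758 := d3_3 F433477 (iv2 F413076) F413077
theorem F433480 : act 7 n141988 = n204758 := d15_2 F363312 (iv0 F359657) (iv2 F433479)
def n204759 : Q := act 1 n124308
theorem D204759 : act 1 n124308 = n204759 := rfl
theorem F433481 : act 1 n204759 = n197543 := d15_1 D204759 F404756 F253467
theorem F433482 : act 7 n204759 = n141997 := d15_2 (iv0 D204758) D204759 F433479
theorem F433483 : act 4 n204759 = n141842 := d17_9 (iv1 F343800) (iv5 F343795) (iv1 F223637) (iv5 F400349) (iv4 F400353) (iv5 F405375) F405373 F404926 D204759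
theorem F433484 : act 2 n141988 = n204759 := d1_3 F433483 F224884 D141988
def n204760 : Q := act 0 n124309
theorem D204760 : act 0 n124309 = n204760 := rfl
theorem F433485 : act 1 n204074 = n204760 := d15_0 (iv0 D204760) F198790 (iv2 F431000)
theorem F433486 : act 5 n204760 = n203886 := d17_7 D164074 F413684 (iv1 F270254) (iv5 D172105) (iv4 F196332) D204074 F433485 (iv0 D203886) F193355
theorem F433487 : act 2 n204076 = n204760 := d2_3 F433486 F430251 (iv5 F431002)
def n204761 : Q := act 1 n124309
theorem D204761 : act 1 n124309 = n204761 := rfl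
theorem F433488 : act 7 n204761 = n204076 := d15_2 (iv0 D204760) D204761 F433487
theorem F433489 : act 5 n204761 = n203887 := d17_7 (iv1 F258573) (iv5 F380920) (iv1 D103000) (iv5 F112838) (iv4 F115364) (iv5 F198789) D204761 F430248 F258391
theorem F433490 : act 2 n204761 = n204075 := d15_3 (iv0 D204075) D204076 (iv7 F433488)
theorem F433491 : act 5 n204075 = n163938 := d2_2 (iv5 F433489) F433490 F430249
theorem F433492 : act 7 n204075 = n204760 := d4_2 (iv7 F433488) F433490 (iv2 F433487)
theorem F433493 : act 1 n204761 = n204074 := d15_0 F433485 (iv7 F433492) (iv2 F433490)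
def n204762 : Q := act 2 n124309
theorem D204762 : act 2 n124309 = n204762 := rfl
theorem F433494 : act 3 n204762 = n160457 := d0_2 D124309 D204762 F253456 F115552 (iv2 F91670)
theorem F433495 : act 5 n204762 = n160295 := d2_2 (iv5 F198789) D204762 (iv2 D160295)
theorem F433496 : act 7 n204762 = n204074 := d4_2 (iv7 F198790) D204762 F431000
theorem F433497 : act 1 n204762 = n204075 := d15_0 (iv0 D204075) (iv7 F198790) D204762
theorem F433498 : act 1 n204076 = n204762 := d15_0 F433497 F433492 (iv2 F433487)
theorem F433499 : act 6 n163939 = n197867 := d21_3 (iv5 F433495) (iv1 F433498) F431002 F408444 (iv6 F412971) (iv5 D199645) D199644 (iv5 F430769) F430974 (iv1 F253202)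
theorem F433500 : act 3 n197869 = n163939 := d7_3 F433499 (iv3 D197867) D197869
def n204763 : Q := act 6 n124309
theorem D204763 : act 6 n124309 = n204763 := rfl
theorem F433501 : act 3 n204763 = n124310 := d7_1 D204763 (iv6 D124310) D124309
def n204764 : Q := act 0 n124310
theorem D204764 : act 0 n124310 = n204764 := rfl
def n204765 : Q := act 1 n124310
theorem D204765 : act 1 n124310 = n204765 := rfl
theorem F433502 : act 1 n204765 = n160468 := d15_1 D204765 (iv7 D160468) (iv2 F198791)
def n204766 : Q := act 5 n124310
theorem D204766 : act 5 n124310 = n204766 := rfl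
theorem F433503 : act 2 n204766 = n160400 := d2_1 D204766 F253346 (iv2 F198791)
theorem F433504 : act 6 n204766 = n124442 := d12_2 D124310 D204766 (iv5 D124442) F299357 (iv5 F91672)
theorem F433505 : act 5 n204764 = n202133 := d21_8 F402268 (iv1 F398753) F172096 (iv6 F351536) (iv1 F351530) (iv6 F433504) (iv5 D204766) D204764 (iv6 D202133) (iv1 F402266)
theorem F433506 : act 2 n160466 = n204764 := d2_3 F433505 F423006 (iv5 F401351)
theorem F433507 : act 7 n204765 = n160466 := d15_2 (iv0 D204764) D204765 F433506
theorem F433508 : act 7 n160467 = n204764 := d15_2 (iv0 D160466) D160467 (iv2 F433506)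
theorem F433509 : act 2 n204765 = n160467 := d4_3 F433508 (iv2 F433506) (iv7 F433507)
theorem F433510 : act 1 n160468 = n204764 := d15_1 F433502 (iv7 F433508) (iv2 F433509)
def n204767 : Q := act 7 n124310
theorem D204767 : act 7 n124310 = n204767 := rfl
theorem F433511 : act 2 n204767 = n160468 := d4_1 D204767 (iv7 D160468) (iv2 F198791)
theorem F433512 : act 4 n204767 = n124313 := d11_1 D204767 (iv7 D124313) (iv4 F198792)
theorem F433513 : act 6 n204767 = n204080 := d14_1 D204767 (iv7 D204080) (iv6 D122591) (iv7 F91671) D124310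
theorem F433514 : act 1 n160467 = n204767 := d15_1 D160467 (iv7 D204767) F198791
theorem F433515 : act 1 n204767 = n160466 := d15_1 F433514 (iv7 F433507) F433509
def n204768 : Q := act 3 n124311
theorem D204768 : act 3 n124311 = n204768 := rfl
def n204769 : Q := act 4 n124311
theorem D204769 : act 4 n124311 = n204769 := rfl
def n204770 : Q := act 5 n124311
theorem D204770 : act 5 n124311 = n204770 := rfl
def n204771 : Q := act 4 n124312
theorem D204771 : act 4 n124312 = n204771 := rfl
def n204772 : Q := act 4 n124322
theorem D204772 : act 4 n124322 = n204772 := rfl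
theorem F433516 : act 2 n204772 = n124379 := d1_1 D204772 (iv4 D124379) (iv2 F198817)
theorem F433517 : act 3 n204772 = n156304 := d5_1 D204772 (iv4 F385680) (iv3 D101868) (iv4 F156575) F286890
theorem F433518 : act 5 n204772 = n156303 := d9_2 (iv5 F301971) D204772 F245614 F351079 F326988 (iv5 F326989) F57378 D56977 D122657 F423372 F423370 (iv5 D162074) (iv4 D77863) (iv5 F298108) (iv4 F115393)
theorem F433519 : act 7 n204772 = n124382 := d11_2 (iv7 F198816) D204772 (iv4 D124382)
theorem F433520 : act 0 n204772 = n204096 := d18_2 D124322 D204772 F431072 (iv5 D124035) F301401 (iv0 D35494) D35497 (iv0 F56183) D57955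
theorem F433521 : act 1 n204772 = n186084 := d18_6 D76811 (iv4 F115323) (iv1 F115857) (iv4 F115393) (iv5 F301971) D204772 (iv4 D186084) F299209 (iv5 D76813)
def n204773 : Q := act 6 n124322
theorem D204773 : act 6 n124322 = n204773 := rfl
theorem F433522 : act 2 n204773 = n124380 := d3_1 D204773 (iv6 D124380) (iv2 F198817)
theorem F433523 : act 3 n204773 = n189154 := d7_1 D204773 F375870 F286890
theorem F433524 : act 5 n204773 = n125130 := d12_1 D204773 (iv6 D125130) F301828 F115396 (iv5 F301971)
theorem F433525 : act 7 n204773 = n136802 := d14_2 (iv7 F198816) D204773 (iv6 F431738) (iv7 D204262) F303338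
theorem F433526 : act 0 n136796 = n204773 := d21_4 (iv5 F330986) (iv1 F209728) (iv5 F327510) D136796 (iv6 D204773) F301971 (iv1 F115397) (iv5 F324298) (iv6 D64041) (iv1 F224173)
theorem F433527 : act 0 n204773 = n136804 := d20_4 D193524 F390164 F375871 (iv3 F433523) F220015 F100149 (iv1 F79923) D109585 (iv3 F375836) F375838
def n204774 : Q := act 0 n124323
theorem D204774 : act 0 n124323 = n204774 := rfl
theorem F433528 : act 5 n204774 = n160399 := d17_1 D204774 F422490 (iv5 D201950) F179546 F324298 F115397 (iv5 F301971) (iv0 D124322) D124323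
theorem F433529 : act 4 n204774 = n160280 := d18_3 (iv1 F299213) D124323 D204774 F253144 F115328 F55813 D35123 F115381 D56977
theorem F433530 : act 2 n124384 = n204774 := d15_3 (iv0 D204774) (iv0 F303364) (iv7 F304598)
theorem F433531 : act 1 n124388 = n204774 := d15_0 (iv0 D204774) (iv7 F429000) F428997
theorem F433532 : act 7 n204774 = n124385 := d15_2 (iv0 F304501) F433531 (iv2 F303365)
def n204775 : Q := act 4 n124326
theorem D204775 : act 4 n124326 = n204775 := rfl
theorem F433533 : act 2 n204775 = n124401 := d1_1 D204775 (iv4 D124401) (iv2 F198825)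
theorem F433534 : act 3 n204775 = n160399 := d5_1 D204775 (iv4 D160399) (iv3 F253342) (iv4 F351463) (iv3 F351611)
theorem F433535 : act 7 n204775 = n124426 := d11_2 (iv7 F198826) D204775 (iv4 D124426)
theorem F433536 : act 0 n204775 = n156027 := d18_2 (iv1 F366002) D204775 F324311 (iv5 D76093) F54984 F298929 (iv4 F55802) D76812 D160277
theorem F433537 : act 1 n204775 = n201930 := d18_6 F299211 F44577 D27653 D57959 D124326 D204775 F422414 F325436 (iv5 D123285)
def n204776 : Q := act 6 n124326
theorem D204776 : act 6 n124326 = n204776 := rfl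
theorem F433538 : act 2 n204776 = n124402 := d3_1 D204776 (iv6 D124402) (iv2 F198825)
theorem F433539 : act 5 n204776 = n179882 := d12_1 D204776 (iv6 D179882) (iv5 D85915) F117159 D124326
def n204777 : Q := act 0 n124333
theorem D204777 : act 0 n124333 = n204777 := rfl
theorem F433540 : act 3 n204777 = n199256 := d20_5 (iv4 D35133) F296385 D57965 D124333 D204777 F411342 F408558 F365849 (iv3 D160389) (iv1 D76888)
theorem F433541 : act 5 n199255 = n204777 := d6_0 F433540 (iv5 D199256) D199255
theorem F433542 : act 7 n203685 = n204777 := d8_0 F433540 F411343 (iv3 F429407)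
def n204778 : Q := act 1 n124333
theorem D204778 : act 1 n124333 = n204778 := rfl
def n204779 : Q := act 4 n124334
theorem D204779 : act 4 n124334 = n204779 := rfl
theorem F433543 : act 2 n204779 = n124457 := d1_1 D204779 (iv4 D124457) (iv2 F198851)
theorem F433544 : act 3 n204779 = n202364 := d5_1 D204779 (iv4 F423767) F393264 (iv4 F393352) F393351
theorem F433545 : act 5 n204779 = n124388 := d9_2 D124334 D204779 F198920 F91741 F44603 (iv5 F44610) (iv4 F323081) D109129 D198285 F407476 (iv4 D124323) (iv5 D57955) F44577 D27655 D57965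
theorem F433546 : act 7 n204779 = n124387 := d11_2 F407413 D204779 (iv4 F407414)
theorem F433547 : act 0 n204779 = n201947 := d18_2 (iv1 F407469) D204779 (iv4 F431938) (iv5 D204299) F197899 (iv0 F115346) D160286 (iv0 F325841) (iv5 F407467)
def n204780 : Q := act 4 n124355
theorem D204780 : act 4 n124355 = n204780 := rfl
theorem F433548 : act 2 n204780 = n187105 := d1_1 D204780 (iv4 D187105) F357226
theorem F433549 : act 7 n204780 = n192277 := d11_2 F357227 D204780 (iv4 D192277)
theorem F433550 : act 0 n204780 = n193248 := d18_2 D124355 D204780 (iv4 D193248) (iv5 D101402) F74682 F74680 F74676 F289714 D57975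
theorem F433551 : act 1 n204780 = n192214 := d18_6 D187050 F368924 (iv1 F368956) F368952 (iv5 F357225) D204780 (iv4 D192214) F356387 F137169
def n204781 : Q := act 6 n124355
theorem D204781 : act 6 n124355 = n204781 := rfl
theorem F433552 : act 2 n204781 = n136355 := d3_1 D204781 (iv6 F343226) F357226
theorem F433553 : act 3 n204781 = n192550 := d7_1 D204781 (iv6 D192550) F367365
theorem F433554 : act 5 n204781 = n135923 := d12_1 D204781 F386306 F386302 (iv6 D187104) (iv5 F357225)
theorem F433555 : act 0 n204781 = n136356 := d21_4 (iv5 F295315) (iv1 F357224) (iv5 F357225) D204781 F431722 F431719 (iv1 D193899) (iv5 D102458) (iv6 D47533) D47530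
theorem F433556 : act 6 n135910 = n193875 := d21_3 F337455 (iv1 F410574) (iv5 F410580) (iv1 D193875) (iv6 D102445) (iv5 F295315) (iv1 F357224) (iv5 F357225) D204781 F433555
theorem F433557 : act 0 n132186 = n204781 := d21_4 F332948 (iv1 D110914) (iv5 F338262) (iv6 F211757) (iv6 D204781) F357225 (iv1 F357223) (iv5 D102449) D102450 F343869
theorem F433558 : act 4 n192550 = n138289 := d20_6 (iv4 D30136) (iv1 F47036) D62015 D132186 F433557 F433553 (iv1 D138289) (iv4 F211759) (iv3 D132187) (iv1 F96624)
theorem F433559 : act 6 n138289 = n192549 := d10_2 D192550 F433558 (iv4 D192549)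
theorem F433560 : act 2 n193875 = n135914 := d3_1 F433556 (iv6 D135914) D135910
theorem F433561 : act 7 n136354 = n204781 := d13_0 F433554 (iv7 F386308) F359222
def n204782 : Q := act 4 n124356
theorem D204782 : act 4 n124356 = n204782 := rfl
theorem F433562 : act 2 n204782 = n192277 := d1_1 D204782 (iv4 D192277) (iv2 F357221)
theorem F433563 : act 3 n204782 = n192160 := d5_1 D204782 (iv4 D192160) (iv3 D99808) (iv4 F136380) (iv3 F357229)
theorem F433564 : act 7 n204782 = n187105 := d11_2 F357228 D204782 (iv4 D187105)
theorem F433565 : act 0 n204782 = n192214 := d18_2 F289742 D204782 (iv4 D192214) (iv5 D99863) F73695 (iv0 F289633) (iv4 F34884) D46630 D99843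
theorem F433566 : act 1 n204782 = n193248 := d18_6 F394021 F356388 (iv1 D185223) (iv4 F136376) F335699 D204782 (iv4 D193248) F386036 (iv5 F394022)
def n204783 : Q := act 6 n124356
theorem D204783 : act 6 n124356 = n204783 := rfl
theorem F433567 : act 2 n204783 = n192278 := d3_1 D204783 (iv6 D192278) (iv2 F357221)
theorem F433568 : act 3 n204783 = n186601 := d7_1 D204783 (iv6 D186601) (iv3 F357229)
theorem F433569 : act 5 n204783 = n187137 := d12_1 D204783 (iv6 D187137) (iv5 D89597) (iv6 F136377) F335699
theorem F433570 : act 0 n204783 = n135577 := d21_4 D102449 (iv1 F335698) F335699 D204783 F218032 F326702 D131030 F330986 (iv6 F333134) (iv1 F153735)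
def n204784 : Q := act 5 n124357
theorem D204784 : act 5 n124357 = n204784 := rfl
theorem F433571 : act 2 n204784 = n192280 := d2_1 D204784 (iv5 D192280) (iv2 F198887)
theorem F433572 : act 3 n204784 = n137638 := d6_1 D204784 (iv5 D137638) (iv3 F357236)
theorem F433573 : act 7 n204784 = n193867 := d13_2 (iv7 F357237) D204784 (iv5 D193867)
theorem F433574 : act 4 n204784 = n177896 := d16_2 D124357 D204784 F391147 F277468 F129921 (iv4 F289773) D99843 F289744 (iv2 F91733)
theorem F433575 : act 1 n204784 = n201943 := d17_6 (iv1 D99848) (iv5 D46632) F289715 D57975 D124357 D204784 (iv5 D201943) (iv0 F385970) (iv4 D192200)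
theorem F433576 : act 6 n149147 = n204784 := d10_0 F433574 F277467 (iv4 F234524)
def n204785 : Q := act 5 n124361
theorem D204785 : act 5 n124361 = n204785 := rfl
theorem F433577 : act 2 n204785 = n124362 := d2_1 D204785 (iv5 D124362) D124361
theorem F433578 : act 3 n204785 = n175696 := d6_1 D204785 (iv5 D175696) (iv3 F311718)
theorem F433579 : act 7 n204785 = n191518 := d13_2 (iv7 F311719) D204785 (iv5 D191518)
theorem F433580 : act 1 n204785 = n157634 := d17_6 (iv1 F152877) (iv5 F348381) (iv1 F384726) (iv5 D154089) (iv4 F198894) D204785 (iv5 D157634) (iv0 F196515) F196514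
theorem F433581 : act 4 n141169 = n204785 := d20_8 F384956 (iv1 F156646) (iv4 D47322) F327152 (iv1 F101321) (iv3 F218888) F218889 D141169 F433578 (iv1 F384955)
def n204786 : Q := act 4 n124362
theorem D204786 : act 4 n124362 = n204786 := rfl
theorem F433582 : act 2 n204786 = n141169 := d1_1 D204786 F433581 F433577
theorem F433583 : act 7 n204786 = n141170 := d11_2 F431754 D204786 F431756
theorem F433584 : act 0 n204786 = n138606 := d18_2 F431052 D204786 (iv4 F422990) (iv5 F422992) (iv4 D171127) (iv0 D82018) (iv4 F90056) D122648 D204092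
theorem F433585 : act 1 n204786 = n141168 := d15_1 (iv0 F433584) (iv7 F353374) (iv2 F353372)
def n204787 : Q := act 6 n124362
theorem D204787 : act 6 n124362 = n204787 := rfl
theorem F433586 : act 3 n204787 = n124367 := d7_1 D204787 (iv6 D124367) (iv3 F198895)
def n204788 : Q := act 1 n124366
theorem D204788 : act 1 n124366 = n204788 := rfl
theorem F433587 : act 1 n204788 = n124373 := d15_1 D204788 (iv7 F255954) F255953
theorem F433588 : act 7 n204788 = n160317 := d15_2 (iv0 F423379) D204788 (iv2 F423373)
theorem F433589 : act 4 n204788 = n160277 := d18_7 (iv1 F310308) (iv4 F60896) F118766 (iv4 F91361) D57978 D124366 D204788 (iv0 F310312) (iv5 D101340)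
theorem F433590 : act 2 n160325 = n204788 := d1_3 F433589 F253136 D160325
theorem F433591 : act 6 n201903 = n204788 := d10_0 F433589 F422444 F422439
theorem F433592 : act 3 n204788 = n202422 := d19_3 (iv1 F115325) D160277 (iv4 F433589) (iv1 D202422) D202423 (iv4 F423942) (iv3 F390048) F394160 F394159 (iv4 D191352) F362745 (iv1 F305462) F305463 F314261 (iv3 F234327) (iv1 F108937) F54486 (iv4 F54542) (iv3 F55820)
theorem E103890 : n202422 = n201904 := (c0_1 F433592 F422308 (iv3 F423212) F423211 (iv3 F351559) F433590)
theorem F433593 : act 0 n201904 = n115722 := (sb E103890 (iv1 D202422))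
theorem F433594 : act 3 n201904 = n204788 := (sb E103890 (iv3 F433592))
theorem E103891 : n202421 = n137064 := ((c15_4 (iv0 D202421) (iv0 F433593) F422309 (iv2 F220229))).symm
theorem F433595 : act 1 n137064 = n115722 := (sb E103891 (iv0 D202421))
def n204789 : Q := act 3 n124366
theorem D204789 : act 3 n124366 = n204789 := rfl
theorem F433596 : act 0 n202224 = n204789 := d20_4 (iv4 F404599) F404598 (iv4 F181929) (iv3 F423308) (iv3 D204789) (iv4 D124366) F304326 D160352 (iv3 F341525) (iv1 F245488)
def n204790 : Q := act 5 n124366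
theorem D204790 : act 5 n124366 = n204790 := rfl
theorem F433597 : act 2 n204790 = n202430 := d2_1 D204790 F423962 F255953
theorem F433598 : act 4 n204790 = n124456 := d16_2 D124366 D204790 F325848 F101696 (iv5 F324759) F56087 D57981 (iv7 F117151) F117150
def n204791 : Q := act 6 n124366
theorem D204791 : act 6 n124366 = n204791 := rfl
theorem F433599 : act 4 n204791 = n124367 := d10_1 D204791 (iv6 D124367) D124366
def n204792 : Q := act 0 n124367
theorem D204792 : act 0 n124367 = n204792 := rfl
theorem F433600 : act 6 n204792 = n193871 := d21_5 (iv5 D27663) D27661 D57978 D124367 D204792 F391265 F355546 D123248 F303338 (iv1 D57984)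
theorem F433601 : act 2 n193897 = n204792 := d3_3 F433600 (iv2 F391266) D193897
def n204793 : Q := act 1 n124367
theorem D204793 : act 1 n124367 = n204793 := rfl
theorem F433602 : act 7 n204793 = n193897 := d15_2 (iv0 D204792) D204793 F433601
theorem F433603 : act 3 n202117 = n204793 := d8_3 F433602 F391321 (iv7 F422939)
theorem F433604 : act 6 n202115 = n204793 := d14_5 F433602 (iv6 D193897) F353566 (iv6 F219640) (iv7 F422930)
def n204794 : Q := act 4 n124371
theorem D204794 : act 4 n124371 = n204794 := rfl
theorem F433605 : act 2 n204794 = n191519 := d1_1 D204794 (iv4 D191519) (iv2 F311712)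
theorem F433606 : act 6 n204794 = n193609 := d10_2 (iv6 F311713) D204794 F405136
theorem F433607 : act 7 n204794 = n191516 := d11_2 F314157 D204794 (iv4 D191516)
theorem F433608 : act 5 n204794 = n192137 := d17_5 (iv1 F367492) F151904 F311710 D124371 D204794 F385706 F156827 F153537 (iv4 F367489)
theorem F433609 : act 0 n204794 = n137531 := d17_0 (iv5 F390173) (iv1 F390175) (iv5 D101874) (iv4 F274517) (iv5 F151902) (iv0 F154559) (iv5 F157829) (iv0 F311711) D204794
theorem F433610 : act 1 n204794 = n192098 := d18_6 (iv1 F34820) (iv4 F35296) (iv1 F59445) (iv4 F309519) D124371 D204794 (iv4 D192098) (iv0 D99700) (iv5 D46581)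
def n204795 : Q := act 5 n124373
theorem D204795 : act 5 n124373 = n204795 := rfl
theorem F433611 : act 3 n204795 = n156305 := d6_1 D204795 (iv5 F423195) F423196
theorem F433612 : act 4 n204795 = n124455 := d9_1 D204795 (iv5 F303293) F303292 (iv5 D77783) (iv4 F91361) D57978 D124366 D204790 F433598 F325848 F101696 (iv5 F324759) F56087 D57981 D124373
theorem F433613 : act 7 n204795 = n202430 := d13_2 F255954 D204795 F423962
theorem F433614 : act 6 n204795 = n202620 := d21_9 F423092 (iv1 F224170) (iv5 F401366) (iv6 D196654) (iv1 F165178) D115501 D202243 F423378 D204795 F424785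
def n204796 : Q := act 6 n124373
theorem D204796 : act 6 n124373 = n204796 := rfl
theorem F433615 : act 2 n204796 = n202754 := d3_1 D204796 (iv6 F431758) F431757
theorem F433616 : act 4 n204796 = n124374 := d10_1 D204796 (iv6 D124374) D124373
theorem F433617 : act 0 n193886 = n204796 := d18_2 F411716 (iv4 F391296) F433616 F332948 (iv4 F171828) (iv0 D51288) (iv4 F80899) D111198 D199326
def n204797 : Q := act 2 n124378
theorem D204797 : act 2 n124378 = n204797 := rfl
theorem F433618 : act 3 n204797 = n186628 := d0_2 D124378 D204797 (iv2 F367490) F286890 F198817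
theorem F433619 : act 5 n204797 = n191893 := d2_2 F301780 D204797 F384701
theorem F433620 : act 7 n204797 = n143404 := d4_2 F301779 D204797 F349508
theorem F433621 : act 1 n204797 = n177809 := d15_0 (iv0 F301778) F301779 D204797
theorem F433622 : act 1 n191745 = n204797 := d15_0 F433621 (iv7 F388243) F388239
def n204798 : Q := act 6 n124378
theorem D204798 : act 6 n124378 = n204798 := rfl
theorem F433623 : act 3 n204798 = n124380 := d7_1 D204798 (iv6 D124380) D124378
theorem F433624 : act 5 n204798 = n179764 := d12_1 D204798 (iv6 D179764) D179763 (iv6 F301781) F301780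
theorem F433625 : act 7 n204798 = n143436 := d14_2 F301779 D204798 (iv6 D143436) F205161 (iv6 F349514)
def n204799 : Q := act 3 n124379
theorem D204799 : act 3 n124379 = n204799 := rfl
theorem F433626 : act 2 n204799 = n202423 := d0_1 D204799 F423941 (iv2 F245616) (iv3 F433517) F433516
theorem F433627 : act 7 n204799 = n204097 := d8_2 F301790 D204799 (iv3 D204097)
theorem F433628 : act 5 n202202 = n204799 := d2_0 F433626 (iv5 D202423) F423226
def n204800 : Q := act 5 n124379
theorem D204800 : act 5 n124379 = n204800 := rfl
theorem F433629 : act 2 n204800 = n156303 := d2_1 D204800 (iv5 F433518) F433516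
theorem F433630 : act 3 n204800 = n202202 := d6_1 D204800 F433628 (iv3 D204799)
theorem F433631 : act 4 n204800 = n124448 := d9_1 D204800 (iv5 D124448) F297438 (iv5 D36537) (iv4 F57382) (iv5 F300544) D124382 F351086 F180050 F351085 F118753 F298902 F123187 (iv5 F301791) D124379
theorem F433632 : act 7 n204800 = n202242 := d13_2 F301790 D204800 (iv5 F423372)
theorem F433633 : act 0 n204800 = n156143 := d17_2 F304174 D204800 F351461 (iv4 D160325) (iv5 D76839) F115330 (iv5 F253144) F253146 D160328
theorem F433634 : act 1 n204800 = n196652 := d17_6 F117152 (iv5 D76093) F300539 (iv5 F301791) D124379 D204800 F401355 F366036 (iv4 D161958)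
def n204801 : Q := act 6 n124379
theorem D204801 : act 6 n124379 = n204801 := rfl
theorem F433635 : act 4 n204801 = n124380 := d10_1 D204801 (iv6 D124380) D124379
def n204802 : Q := act 0 n124380
theorem D204802 : act 0 n124380 = n204802 := rfl
theorem F433636 : act 2 n136804 = n204802 := d15_3 (iv0 D204802) F365136 D136804
theorem F433637 : act 7 n204802 = n136796 := d4_2 D136804 F433636 F220012
theorem F433638 : act 1 n136802 = n204802 := d15_1 D136802 F433637 F220012
def n204803 : Q := act 7 n124380
theorem D204803 : act 7 n124380 = n204803 := rfl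
theorem F433639 : act 2 n204803 = n136802 := d4_1 D204803 (iv7 F433525) F433522
theorem F433640 : act 3 n204803 = n143436 := d8_1 D204803 (iv7 F433625) F433623
theorem F433641 : act 5 n204803 = n135192 := d13_1 D204803 F360249 (iv5 F198919)
theorem F433642 : act 6 n204803 = n143434 := d14_1 D204803 (iv7 F349516) F196517 (iv7 F301792) D124380
theorem F433643 : act 1 n136796 = n204803 := d15_1 (iv0 F433526) (iv7 D204803) (iv2 F433522)
theorem F433644 : act 1 n204803 = n136804 := d15_1 F433643 (iv7 D136804) (iv2 F220012)
def n204804 : Q := act 5 n124384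
theorem D204804 : act 5 n124384 = n204804 := rfl
theorem F433645 : act 2 n204804 = n160399 := d2_1 D204804 (iv5 F433528) (iv2 F433530)
theorem F433646 : act 7 n204804 = n160336 := d13_2 (iv7 F304598) D204804 (iv5 D160336)
theorem F433647 : act 4 n204804 = n124442 := d16_2 (iv4 F304597) D204804 (iv5 D124442) (iv4 D58034) F297543 (iv4 F55802) D76813 D160280 F253143
theorem F433648 : act 1 n204804 = n196668 := d17_6 F366001 (iv5 D160275) F115322 (iv5 F115375) (iv4 F304597) D204804 F401422 (iv0 F433536) (iv4 D204775)
def n204805 : Q := act 6 n124384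
theorem D204805 : act 6 n124384 = n204805 := rfl
theorem F433649 : act 4 n204805 = n160338 := d10_1 D204805 (iv6 D160338) (iv4 F304597)
def n204806 : Q := act 3 n124385
theorem D204806 : act 3 n124385 = n204806 := rfl
theorem F433650 : act 6 n204806 = n200508 := d7_2 F429658 D204806 (iv3 F429657)
theorem F433651 : act 0 n204806 = n124387 := d19_4 (iv1 D76812) D76813 (iv4 F301835) D204806 (iv5 D124387) (iv4 D57985) (iv3 F85893) D118096 F322837 (iv4 F322834) F188984 D119782 F307669 (iv4 D71499) (iv3 F232522) (iv1 F56667) (iv5 F108484) (iv4 F239833) F311977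
theorem F433652 : act 4 n204806 = n124410 := d20_6 (iv4 D155240) (iv1 F313893) (iv4 F188657) (iv3 F428998) (iv1 F429002) D204806 F362607 D198772 (iv3 F423098) F423101
theorem F433653 : act 0 n124457 = n204806 := d20_4 F409721 (iv1 F409505) F409508 (iv3 F404600) (iv3 D204806) F301835 (iv1 F299209) D186084 (iv3 F409582) (iv1 F409725)
theorem F433654 : act 5 n204806 = n124426 := d17_1 F433653 F351830 D201950 F422488 (iv5 D160360) D160358 F303293 (iv0 D124455) D124457
theorem F433655 : act 2 n201947 = n204806 := d2_3 F433654 (iv2 F389136) F422483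
def n204807 : Q := act 5 n124385
theorem D204807 : act 5 n124385 = n204807 := rfl
theorem F433656 : act 2 n204807 = n160336 := d2_1 D204807 (iv5 D160336) F303365
theorem F433657 : act 3 n204807 = n124426 := d6_1 D204807 (iv5 F433654) (iv3 D204806)
theorem F433658 : act 4 n204807 = n124438 := d9_1 D204807 (iv5 D124438) (iv4 D58030) (iv5 F299728) (iv4 F55821) (iv5 F115375) (iv4 F304597) D204804 F433647 (iv5 D124442) (iv4 D58034) F297543 (iv4 F55802) D76813 (iv4 F301835)
theorem F433659 : act 7 n204807 = n160399 := d13_2 F433532 D204807 (iv5 F433528)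
theorem F433660 : act 0 n204807 = n196668 := d17_2 (iv1 F429002) D204807 F401422 F324311 (iv5 D76093) F300540 (iv5 F300544) (iv0 F301972) (iv4 F428999)
def n204808 : Q := act 5 n124386
theorem D204808 : act 5 n124386 = n204808 := rfl
theorem F433661 : act 2 n204808 = n202363 := d2_1 D204808 F423760 (iv2 F357243)
theorem F433662 : act 3 n204808 = n124387 := d6_1 D204808 (iv5 D124387) D124386
theorem F433663 : act 6 n204808 = n149148 := d12_2 (iv6 F357245) D204808 (iv5 D149148) (iv6 F346024) (iv5 D137638)
theorem F433664 : act 7 n204808 = n202364 := d13_2 (iv7 F357246) D204808 F423765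
theorem F433665 : act 0 n204808 = n156294 := d17_2 (iv1 F422915) D204808 (iv5 D156294) (iv4 F111536) D127068 (iv0 F204302) (iv5 F402955) (iv0 F402958) (iv4 F422912)
theorem F433666 : act 1 n204808 = n156291 := d17_6 D34103 (iv5 F101278) F101279 (iv5 F100581) (iv4 F357244) D204808 (iv5 D156291) (iv0 D74340) F53512
theorem F433667 : act 0 n202415 = n139640 := d21_4 (iv5 D204808) F422625 F422624 D202415 (iv6 D139640) (iv5 D65538) D65535 (iv5 F180017) F351403 (iv1 F433666)
theorem F433668 : act 4 n193527 = n204808 := d18_7 (iv1 F111534) F84013 (iv1 F53515) D74347 D156304 (iv4 F385680) D193527 F433666 (iv5 D156291)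
def n204809 : Q := act 0 n124387
theorem D204809 : act 0 n124387 = n204809 := rfl
theorem F433669 : act 5 n204809 = n124401 := d17_3 (iv1 D124385) D124387 D204809 (iv4 D124401) (iv5 D58002) (iv0 F118769) D88641 F299209 (iv4 F301835)
theorem F433670 : act 4 n204809 = n124432 := d18_3 (iv1 F407416) F407414 D204809 (iv5 D124432) (iv4 D58022) (iv0 F299838) D76865 D160358 F303293
theorem F433671 : act 1 n124457 = n204809 := d15_0 (iv0 D204809) (iv7 F433546) F433543
theorem F433672 : act 7 n204809 = n201947 := d15_2 (iv0 F433653) F433671 F433655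
theorem F433673 : act 0 n124453 = n124496 := d20_4 (iv4 F433670) (iv1 F433671) (iv4 D124457) (iv3 F199042) F199123 F129598 F299117 D167648 (iv3 F358850) F358856
def n204810 : Q := act 6 n124387
theorem D204810 : act 6 n124387 = n204810 := rfl
theorem F433674 : act 3 n204810 = n149148 := d7_1 D204810 (iv6 F433663) F433662
theorem F433675 : act 5 n204810 = n149147 := d12_1 D204810 F433576 (iv5 D204784) F198888 D124387
def n204811 : Q := act 3 n124401
theorem D204811 : act 3 n124401 = n204811 := rfl
theorem F433676 : act 4 n204811 = n143936 := d5_2 D124401 D204811 F388879 (iv4 D193137) F307577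
theorem F433677 : act 1 n196387 = n204811 := d18_6 F168120 (iv4 D31338) (iv1 F163962) (iv4 F78129) D106935 D196387 F433676 F226583 (iv5 D134868)
theorem F433678 : act 0 n197701 = n204811 := d20_1 D197701 F433676 F388879 F388877 (iv3 F359728) (iv4 D163137) D163135 (iv4 F405342) F407425 (iv1 F400539)
def n204812 : Q := act 6 n124401
theorem D204812 : act 6 n124401 = n204812 := rfl
theorem F433679 : act 4 n204812 = n124402 := d10_1 D204812 (iv6 D124402) D124401
def n204813 : Q := act 0 n124402
theorem D204813 : act 0 n124402 = n204813 := rfl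
theorem F433680 : act 6 n204813 = n203745 := d21_5 (iv5 D88641) F118769 D58002 D124402 D204813 (iv5 D203745) (iv1 D120456) D120457 F191904 (iv1 F299209)
theorem F433681 : act 3 n203201 = n204813 := d7_3 F433680 F429651 (iv6 F427389)
theorem F433682 : act 5 n204813 = n203200 := d6_2 D203201 F433681 (iv3 D203200)
def n204814 : Q := act 1 n124402
theorem D204814 : act 1 n124402 = n204814 := rfl
def n204815 : Q := act 7 n124402
theorem D204815 : act 7 n124402 = n204815 := rfl
theorem F433683 : act 6 n204815 = n139301 := d14_1 D204815 F389142 (iv6 D193196) F310315 D124402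
def n204816 : Q := act 3 n124407
theorem D204816 : act 3 n124407 = n204816 := rfl
theorem F433684 : act 4 n204816 = n162898 := d5_2 (iv4 F198957) D204816 (iv3 D162898) (iv4 D78309) F119080
theorem F433685 : act 5 n204816 = n156794 := d6_2 (iv5 F301181) D204816 F351464
theorem F433686 : act 6 n204816 = n177494 := d7_2 F301654 D204816 (iv3 D177494)
theorem F433687 : act 7 n204816 = n177213 := d8_2 F351534 D204816 (iv3 F351538)
theorem F433688 : act 0 n204816 = n199534 := d19_4 D36535 (iv5 F298501) (iv4 F198957) D204816 F412565 (iv4 D153797) (iv3 F312390) (iv1 D119280) F86833 (iv4 F112469) F309598 (iv1 F75727) D104133 (iv4 F336289) (iv3 D141060) F324867 (iv5 D36547) F28700 (iv3 F28694)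
theorem F433689 : act 0 n196870 = n204816 := d20_4 F332999 D174150 F362033 D196870 (iv3 D204816) F198957 F325816 (iv4 F223782) F364754 (iv1 D110964)
theorem F433690 : act 2 n177245 = n204816 := d15_3 (iv0 F433689) F402098 F361747
def n204817 : Q := act 3 n124408
theorem D204817 : act 3 n124408 = n204817 := rfl
theorem F433691 : act 4 n204817 = n137265 := d5_2 (iv4 F198960) D204817 F353287 F299377 (iv3 F299372)
theorem F433692 : act 5 n204817 = n137219 := d6_2 (iv5 F302251) D204817 (iv3 F361555)
theorem F433693 : act 0 n204817 = n198673 := d20_4 F223782 (iv1 F325817) (iv4 F198960) D204817 (iv3 F408824) F400855 (iv1 D159201) (iv4 F250664) (iv3 D159184) (iv1 F325842)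
theorem F433694 : act 0 n197999 = n204817 := d20_4 F172825 (iv1 D108850) D108851 D197999 (iv3 D204817) F198960 (iv1 D77788) D77789 (iv3 F326229) (iv1 F172824)
def n204818 : Q := act 1 n124409
theorem D204818 : act 1 n124409 = n204818 := rfl
theorem F433695 : act 1 n204818 = n173980 := d15_1 D204818 (iv7 F406543) F406541
theorem F433696 : act 7 n204818 = n199590 := d15_2 F364762 D204818 (iv2 F412785)
theorem F433697 : act 3 n196770 = n204818 := d20_3 F417109 F417098 (iv4 F401739) (iv1 D204818) (iv3 D124409) (iv4 D58007) F301575 D76865 D160359 F417111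
theorem F433698 : act 4 n164554 = n204818 := d20_6 (iv4 D35251) F28248 D35717 D78361 D162973 F334233 (iv1 D204818) F305789 F122655 (iv1 F57147)
theorem F433699 : act 6 n164562 = n204818 := d21_3 (iv5 F410263) F410266 (iv5 F338230) (iv1 D204818) F305790 D166444 F330681 D178522 F341265 F405593
theorem F433700 : act 2 n204818 = n199496 := d3_1 F433699 F412393 (iv2 F259398)
theorem F433701 : act 5 n204818 = n196768 := d12_1 F433699 (iv6 D196768) F172103 (iv6 F361558) (iv5 F338230)
def n204819 : Q := act 5 n124409
theorem D204819 : act 5 n124409 = n204819 := rfl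
theorem F433702 : act 3 n204819 = n124410 := d6_1 D204819 (iv5 D124410) D124409
theorem F433703 : act 6 n204819 = n202630 := d12_2 (iv6 F305790) D204819 (iv5 D202630) (iv6 F344433) (iv5 D166444)
theorem F433704 : act 7 n204819 = n199591 := d13_2 (iv7 F353075) D204819 (iv5 D199591)
theorem F433705 : act 4 n204819 = n160272 := d16_2 (iv4 F305789) D204819 (iv5 D160272) F115320 D157987 F306784 (iv5 F303496) (iv7 F330283) F262001
theorem F433706 : act 0 n204819 = n197742 := d17_2 (iv1 D204818) D204819 (iv5 D197742) (iv4 F402877) F427650 F427645 (iv5 F342133) F346373 F433698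
def n204820 : Q := act 4 n124424
theorem D204820 : act 4 n124424 = n204820 := rfl
theorem F433707 : act 3 n204820 = n124438 := d5_1 D204820 (iv4 F433658) F433657 (iv4 D124426) (iv3 F199008)
theorem F433708 : act 5 n204820 = n124437 := d9_2 D124424 D204820 F302225 F315012 D173930 (iv5 F351607) (iv4 D101316) D101317 D193180 F389084 F253340 F319515 D173927 F335273 F198964
theorem F433709 : act 7 n204820 = n160395 := d11_2 (iv7 F351612) D204820 (iv4 F351463)
def n204821 : Q := act 6 n124424
theorem D204821 : act 6 n124424 = n204821 := rfl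
theorem F433710 : act 3 n204821 = n124427 := d7_1 D204821 (iv6 D124427) (iv3 F199008)
theorem F433711 : act 5 n204821 = n139303 := d12_1 D204821 (iv6 F431211) (iv5 D204150) F303601 D124424
def n204822 : Q := act 6 n124426
theorem D204822 : act 6 n124426 = n204822 := rfl
theorem F433712 : act 4 n204822 = n124427 := d10_1 D204822 (iv6 D124427) D124426
theorem F433713 : act 5 n204822 = n201975 := d12_1 D204822 (iv6 D201975) (iv5 F416779) (iv6 F433650) F433654
theorem F433714 : act 0 n193880 = n204822 := d17_0 F433713 F423151 (iv5 D202183) F179726 F338262 D110914 (iv5 F332948) (iv0 F343869) (iv4 F391288)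
def n204823 : Q := act 0 n124427
theorem D204823 : act 0 n124427 = n204823 := rfl
theorem F433715 : act 5 n204823 = n143881 := d17_3 (iv1 F101079) (iv5 F342821) D204823 (iv4 D143881) F168317 (iv0 F168219) (iv5 D53840) (iv0 F168209) (iv4 F80959)
theorem F433716 : act 1 n139301 = n204823 := d15_0 (iv0 D204823) (iv7 F411715) F411714
theorem F433717 : act 7 n204823 = n175724 := d15_2 F222760 F433716 (iv2 F357155)
theorem F433718 : act 3 n175686 = n204823 := d19_19 (iv1 F433716) (iv5 D139301) (iv4 F168334) F168333 (iv1 D49774) F38036 (iv4 F78631) F313848 F323620 F321960 (iv4 D35670) F323440 (iv1 F323445) (iv5 D17207) D17206 F311708 (iv1 F59443) D83873 D175686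
def n204824 : Q := act 1 n124431
theorem D204824 : act 1 n124431 = n204824 := rfl
theorem F433719 : act 7 n204824 = n196781 := d15_2 (iv0 F402112) D204824 F401775
theorem F433720 : act 4 n174277 = n204824 := d20_6 (iv4 D78212) (iv1 D35653) D35654 D78217 D162756 (iv3 F378046) (iv1 D204824) (iv4 F414265) F414264 F326439
theorem F433721 : act 2 n204824 = n174157 := d1_1 F433720 (iv4 F408680) F408675
theorem F433722 : act 6 n204824 = n173240 := d10_2 D174277 F433720 F271572
theorem F433723 : act 3 n199515 = n204824 := d7_3 F433722 (iv3 F346351) F412483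
theorem F433724 : act 5 n196468 = n204824 := d12_5 F433722 (iv5 D173240) (iv6 F271528) (iv5 F337620) D196468
theorem F433725 : act 1 n204298 = n196781 := d15_1 (iv0 F431934) (iv7 F433719) F433721
theorem F433726 : act 1 n204824 = n196848 := d15_0 (iv0 D196848) F346358 (iv2 F433721)
def n204825 : Q := act 2 n124431
theorem D204825 : act 2 n124431 = n204825 := rfl
theorem F433727 : act 3 n204825 = n173980 := d0_2 D124431 D204825 F353078 F353076 F302632
theorem F433728 : act 6 n204825 = n199392 := d3_2 F414260 D204825 (iv2 F414258)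
theorem F433729 : act 7 n204825 = n196848 := d4_2 F431933 D204825 (iv2 F431930)
theorem F433730 : act 1 n204825 = n174157 := d15_0 (iv0 F431934) F431933 D204825
theorem F433731 : act 1 n196781 = n204825 := d15_0 F433730 (iv7 F346358) (iv2 F401775)
def n204826 : Q := act 5 n124431
theorem D204826 : act 5 n124431 = n204826 := rfl
theorem F433732 : act 3 n204826 = n124432 := d6_1 D204826 (iv5 D124432) D124431
theorem F433733 : act 0 n204826 = n196585 := d21_1 D204826 F401156 (iv6 D170868) (iv1 F248771) (iv6 F430780) F430779 (iv1 D173238) D173240 (iv6 F433722) (iv1 D204824)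
def n204827 : Q := act 6 n124432
theorem D204827 : act 6 n124432 = n204827 := rfl
theorem F433734 : act 2 n204827 = n204492 := d3_1 D204827 F432702 F431784
theorem F433735 : act 5 n204827 = n204203 := d12_1 D204827 F431472 F409229 F324528 D124432
theorem F433736 : act 7 n204827 = n202626 := d14_2 F431937 D204827 (iv6 D202626) (iv7 F400277) (iv6 F431936)
theorem F433737 : act 0 n196915 = n204827 := d21_4 D196805 F401858 (iv5 F180732) D196915 (iv6 D204827) (iv5 D124432) (iv1 F198959) F302251 F401350 F401349
def n204828 : Q := act 1 n124437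
theorem D204828 : act 1 n124437 = n204828 := rfl
theorem F433738 : act 1 n204828 = n160394 := d15_1 D204828 (iv7 F351614) (iv2 F351613)
theorem F433739 : act 7 n204828 = n160393 := d15_2 F362471 D204828 (iv2 F365976)
theorem F433740 : act 4 n204828 = n166653 := d18_7 (iv1 F307717) (iv4 F428573) (iv1 F428577) (iv4 D173930) (iv5 F315012) (iv4 F302225) D204828 (iv0 F428771) (iv5 D203535)
theorem F433741 : act 3 n198105 = n204828 := d20_3 (iv4 F429410) (iv1 F430014) F430012 (iv1 D204828) (iv3 D124437) (iv4 D58030) F297538 (iv4 F324495) (iv3 F407402) F429408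
theorem F433742 : act 2 n204828 = n160392 := d0_1 F433741 F365973 F168517 (iv3 F168945) (iv2 F406839)
theorem F433743 : act 6 n157865 = n204828 := d3_0 F433742 (iv6 F365974) F327464
def n204829 : Q := act 1 n124438
theorem D204829 : act 1 n124438 = n204829 := rfl
theorem F433744 : act 1 n204829 = n124442 := d15_1 D204829 (iv7 F277625) F277624
theorem F433745 : act 7 n204829 = n160398 := d15_2 (iv0 F351527) D204829 (iv2 F351537)
theorem F433746 : act 5 n204829 = n141115 := d17_7 (iv1 F301551) (iv5 D34772) (iv1 F299727) F299728 D58030 D124438 D204829 F325835 F197899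
theorem F433747 : act 2 n160397 = n204829 := d2_3 F433746 F325836 F301181
theorem F433748 : act 6 n198359 = n204829 := d12_0 F433746 F325837 (iv5 F341296) (iv6 F169198) D198359
def n204830 : Q := act 6 n124438
theorem D204830 : act 6 n124438 = n204830 := rfl
theorem F433749 : act 5 n204830 = n204655 := d12_1 D204830 (iv6 D204655) (iv5 D124169) F302229 D124438
def n204831 : Q := act 1 n124441
theorem D204831 : act 1 n124441 = n204831 := rfl
theorem F433750 : act 4 n193621 = n204831 := d20_6 (iv4 D77040) F120816 D35721 D78376 D162982 (iv3 F390474) (iv1 D204831) F302230 (iv3 D158000) F297468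
theorem F433751 : act 6 n204831 = n198088 := d10_2 (iv6 F390475) F433750 F406740
theorem F433752 : act 3 n204831 = n198090 := d19_3 (iv1 F390035) D193621 F433750 F406749 F401908 F401905 F353973 (iv1 D163075) (iv5 D78410) D78409 F119606 (iv1 F341305) (iv5 D51437) F39240 (iv3 F19999) D25411 D52325 D113364 (iv3 F390033)
def n204832 : Q := act 6 n124448
theorem D204832 : act 6 n124448 = n204832 := rfl
theorem F433753 : act 2 n204832 = n196876 := d3_1 D204832 (iv6 D196876) (iv2 F351089)
theorem F433754 : act 3 n204832 = n199996 := d7_1 D204832 (iv6 D199996) F351097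
theorem F433755 : act 5 n204832 = n203678 := d12_1 D204832 (iv6 D203678) (iv5 D120266) (iv6 F297439) D124448
theorem F433756 : act 0 n204832 = n175024 := d21_4 (iv5 D198270) F324493 D124448 D204832 (iv6 F364949) (iv5 F364939) (iv1 F164727) D116110 (iv6 F344459) (iv1 F407416)
theorem F433757 : act 0 n203678 = n196573 := d21_7 (iv5 F37899) D49550 F172110 D107191 F345405 D204832 F433755 (iv5 D196573) (iv6 D107086) (iv1 D49465)
def n204833 : Q := act 5 n124450
theorem D204833 : act 5 n124450 = n204833 := rfl
theorem F433758 : act 3 n204833 = n142748 := d6_1 D204833 (iv5 F405714) (iv3 F405716)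
theorem F433759 : act 7 n204833 = n175036 := d13_2 (iv7 F411308) D204833 (iv5 F407443)
theorem F433760 : act 4 n204833 = n162809 := d18_5 D198134 F406957 F430098 F430097 D204833 F402011 F402008 F401919 (iv5 F401908)
theorem F433761 : act 6 n175005 = n204833 := d10_0 F433760 F322732 (iv4 F273909)
def n204834 : Q := act 6 n124450
theorem D204834 : act 6 n124450 = n204834 := rfl
theorem F433762 : act 2 n204834 = n204676 := d3_1 D204834 (iv6 F433227) F411309
theorem F433763 : act 7 n204834 = n204675 := d14_2 (iv7 F411308) D204834 (iv6 F433225) F262239 (iv6 F413344)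
def n204835 : Q := act 1 n124453
theorem D204835 : act 1 n124453 = n204835 := rfl
def n204836 : Q := act 4 n124453
theorem D204836 : act 4 n124453 = n204836 := rfl
theorem F433764 : act 2 n204836 = n194388 := d1_1 D204836 F393023 (iv2 F351541)
theorem F433765 : act 3 n204836 = n198840 := d5_1 D204836 F409508 (iv3 F404600) (iv4 D124457) (iv3 F199042)
theorem F433766 : act 6 n204836 = n194387 := d10_2 F353009 D204836 F393016
theorem F433767 : act 7 n204836 = n198881 := d11_2 F351544 D204836 F409726
theorem F433768 : act 0 n204836 = n200502 := d21_4 F347871 F347873 (iv5 F393017) (iv6 F433766) (iv6 D200502) F373684 (iv1 F175515) F328796 (iv6 F376060) F376058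
def n204837 : Q := act 0 n124469
theorem D204837 : act 0 n124469 = n204837 := rfl
theorem F433769 : act 5 n204837 = n147672 := d17_1 D204837 F336340 D163100 F351055 F338767 (iv0 F166048) (iv5 F345347) (iv0 D124471) (iv4 F199090)
theorem F433770 : act 4 n204837 = n127071 := d18_1 D204837 (iv1 F349879) F170726 (iv5 F408286) (iv4 F409532) F409535 F272998 (iv0 F395044) F395042
theorem F433771 : act 3 n204837 = n194272 := d20_5 (iv4 D124466) (iv1 D58057) D58058 D124469 D204837 F392601 (iv1 D147644) (iv4 F205013) (iv3 F323914) (iv1 F199079)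
theorem F433772 : act 2 n174210 = n204837 := d15_3 (iv0 D204837) (iv0 F349873) F338790
theorem F433773 : act 1 n174211 = n204837 := d15_0 (iv0 D204837) F199091 D174211
theorem F433774 : act 7 n204837 = n174209 := d15_2 F349872 F433773 (iv2 F353244)
def n204838 : Q := act 3 n124471
theorem D204838 : act 3 n124471 = n204838 := rfl
theorem F433775 : act 5 n204838 = n127059 := d6_2 (iv5 F345347) D204838 (iv3 D127059)
theorem F433776 : act 6 n204838 = n128235 := d7_2 F430565 D204838 (iv3 F430564)
theorem F433777 : act 7 n204838 = n177525 := d8_2 (iv7 F345348) D204838 (iv3 D177525)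
theorem F433778 : act 4 n204838 = n162907 := d20_6 F56358 (iv1 D27684) D27685 D58060 D124471 D204838 (iv1 D162907) F119523 (iv3 D35712) (iv1 F56356)
def n204839 : Q := act 4 n124471
theorem D204839 : act 4 n124471 = n204839 := rfl
theorem F433779 : act 2 n204839 = n177531 := d1_1 D204839 (iv4 D177531) (iv2 F345346)
theorem F433780 : act 5 n204839 = n163092 := d9_2 (iv5 F345347) D204839 (iv4 D163092) D163093 F338803 (iv5 D136251) F99645 (iv5 F345351) F345350 (iv5 D180644) F132252 D86297 (iv4 F336484) (iv5 D136699) F163985
theorem F433781 : act 7 n204839 = n177526 := d11_2 (iv7 F345348) D204839 (iv4 D177526)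
theorem F433782 : act 0 n204839 = n198541 := d17_0 F408286 (iv1 F349881) (iv5 F338791) F250823 (iv5 F336486) F221428 F323017 F199094 D204839
theorem F433783 : act 1 n204839 = n198542 := d18_6 F166387 F93940 D64244 F163985 (iv5 F345347) D204839 (iv4 F409537) F409540 (iv5 D197146)
def n204840 : Q := act 3 n124474
theorem D204840 : act 3 n124474 = n204840 := rfl
theorem F433784 : act 7 n204840 = n177511 := d8_2 (iv7 F341243) D204840 (iv3 D177511)
theorem F433785 : act 4 n204840 = n162757 := d20_6 F56352 (iv1 F43247) D27692 D58085 D124474 D204840 (iv1 D162757) F119413 (iv3 D35673) D35671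
theorem F433786 : act 2 n200178 = n204840 := d1_3 F433785 F430056 (iv4 F430046)
theorem F433787 : act 0 n200177 = n204840 := d20_10 F433785 (iv1 D162757) F119413 (iv3 D35673) D35671 D78261 D162802 (iv1 F401309) F401306 (iv3 F415411)
theorem F433788 : act 0 n204840 = n200179 := d20_1 (iv4 F433785) F415418 F407901 (iv1 F174037) (iv3 F349716) (iv4 F402662) (iv1 F402664) D198086 (iv3 F430058) (iv1 F430063)
def n204841 : Q := act 4 n124474
theorem D204841 : act 4 n124474 = n204841 := rfl
theorem F433789 : act 2 n204841 = n177517 := d1_1 D204841 (iv4 D177517) (iv2 F341241)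
theorem F433790 : act 6 n204841 = n196496 := d10_2 (iv6 F341242) D204841 F400845
theorem F433791 : act 7 n204841 = n177512 := d11_2 (iv7 F341243) D204841 (iv4 D177512)
theorem F433792 : act 0 n174138 = n204841 := d20_10 (iv4 D204841) (iv1 F199100) (iv4 F276950) (iv3 F431777) (iv1 F431783) (iv3 F346351) F271575 (iv1 F127709) D83245 D174138
def n204842 : Q := act 4 n124475
theorem D204842 : act 4 n124475 = n204842 := rfl
theorem F433793 : act 2 n204842 = n177512 := d1_1 D204842 (iv4 D177512) (iv2 F341235)
theorem F433794 : act 3 n204842 = n196500 := d5_1 D204842 F400866 F362027 F272953 (iv3 F341236)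
theorem F433795 : act 6 n204842 = n173987 := d10_2 (iv6 F341237) D204842 F272621
theorem F433796 : act 7 n204842 = n177517 := d11_2 (iv7 F341238) D204842 (iv4 D177517)
theorem F433797 : act 5 n204842 = n196875 := d16_5 F169682 D196717 (iv4 F401585) (iv5 F353880) D204842 (iv4 F408762) F408763 (iv7 D109733) (iv2 F169681)
theorem F433798 : act 1 n174138 = n204842 := d15_1 (iv0 F433792) F433796 (iv2 F433789)
def n204843 : Q := act 6 n124479
theorem D204843 : act 6 n124479 = n204843 := rfl
theorem F433799 : act 2 n204843 = n157852 := d3_1 D204843 F353299 (iv2 F199111)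
theorem F433800 : act 3 n204843 = n138144 := d7_1 D204843 (iv6 F366245) F353267
theorem F433801 : act 4 n204843 = n157856 := d10_1 D204843 (iv6 F430780) F430778
theorem F433802 : act 7 n204843 = n170747 := d14_2 (iv7 F199112) D204843 F395265 F395262 (iv6 D174227)
theorem F433803 : act 0 n204843 = n155958 := d21_4 (iv5 D158892) F118558 D124479 D204843 (iv6 D155958) D155957 (iv1 F387861) F387858 (iv6 F346339) F346335
theorem F433804 : act 1 n204843 = n170745 := d15_0 (iv0 D170745) (iv7 F248764) (iv2 F433799)
def n204844 : Q := act 5 n124480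
theorem D204844 : act 5 n124480 = n204844 := rfl
theorem F433805 : act 2 n204844 = n124498 := d2_1 D204844 F199129 F199113
theorem F433806 : act 3 n204844 = n177597 := d6_1 D204844 (iv5 D177597) (iv3 F199114)
theorem F433807 : act 7 n204844 = n124493 := d13_2 (iv7 F199115) D204844 (iv5 D124493)
theorem F433808 : act 0 n204844 = n124495 := d21_1 D204844 F346531 F346488 F324545 (iv6 D84872) (iv5 F130076) (iv1 F345553) F345554 (iv6 D124485) D124480
theorem F433809 : act 0 n124494 = n204844 := d21_10 (iv5 D204844) (iv1 F199116) (iv5 F336028) (iv6 D107384) F94108 D127215 F323659 (iv1 F351714) D191389 F383304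
theorem F433810 : act 4 n204835 = n204844 := d17_9 F433808 F346531 (iv1 D162806) D162809 (iv4 F433760) (iv5 D204833) (iv0 D124450) D124453 D204835
theorem E103892 : n204835 = n177285 := ((c1_4 F433810 F433805 F199128 D177285)).symm
theorem F433811 : act 0 n177285 = n124453 := (sb E103892 (iv1 D204835))
theorem F433812 : act 4 n177285 = n204844 := (sb E103892 F433810)
def n204845 : Q := act 4 n124481
theorem D204845 : act 4 n124481 = n204845 := rfl
theorem F433813 : act 2 n204845 = n124483 := d1_1 D204845 (iv4 D124483) D124481
theorem F433814 : act 3 n204845 = n198138 := d5_1 D204845 (iv4 F408533) F408531 (iv4 F416526) F416523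
theorem F433815 : act 7 n204845 = n124488 := d11_2 F199117 D204845 (iv4 D124488)
theorem F433816 : act 5 n204845 = n196824 := d16_7 F401905 F271732 (iv4 F272953) (iv5 F346357) (iv4 F402008) F402009 D204845 (iv7 F402002) F401998
theorem F433817 : act 0 n198134 = n204845 := d20_10 (iv4 D204845) F362193 (iv4 F321447) F169106 D109127 F351072 (iv4 F351073) D204275 F431806 (iv3 F410866)
theorem F433818 : act 1 n198090 = n204845 := d15_1 (iv0 F406749) F433815 (iv2 F362196)
def n204846 : Q := act 0 n124483
theorem D204846 : act 0 n124483 = n204846 := rfl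
theorem F433819 : act 4 n204846 = n203845 := d20_2 D124483 D204846 (iv3 D203845) (iv1 D121079) (iv3 D55871) F43472 (iv1 D13223) D13224 D27699 D58098
theorem F433820 : act 3 n204846 = n196855 := d20_5 F168583 F167070 (iv4 F168515) (iv3 F362198) D204846 (iv4 F412264) (iv1 F412267) F173059 (iv3 D108962) (iv1 F168586)
theorem F433821 : act 1 n124488 = n204846 := d15_0 (iv0 D204846) (iv7 F362197) F362196
theorem E103893 : n203848 = n203845 := ((c18_8 (iv1 F402023) (iv4 D196843) (iv1 D107386) (iv4 F165433) F336028 D124488 F433821 F433819 (iv0 D203848) (iv5 F423639))).symm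
theorem F433822 : act 1 n203845 = n121088 := (sb E103893 (iv0 D203848))
theorem F433823 : act 6 n134817 = n204846 := d21_9 (iv5 F402000) (iv1 F401921) (iv5 F412486) (iv6 F412483) (iv1 F271577) (iv6 F324771) D108742 D197871 F406068 (iv1 F433821)
theorem F433824 : act 2 n204846 = n198090 := d3_1 F433823 (iv6 D198090) F358827
theorem F433825 : act 7 n204846 = n198134 := d14_2 (iv7 F358826) F433823 (iv6 F406958) (iv7 F254462) (iv6 F349856)
def n204847 : Q := act 1 n124483
theorem D204847 : act 1 n124483 = n204847 := rfl
theorem F433826 : act 1 n204847 = n124488 := d15_1 D204847 (iv7 F433815) F433813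
theorem F433827 : act 7 n204847 = n198090 := d15_2 (iv0 D204846) D204847 (iv2 F433824)
theorem F433828 : act 4 n204847 = n203849 := d17_9 (iv1 D203849) (iv5 F423639) (iv1 F402023) F402019 (iv4 F362029) F164967 D107386 F402005 D204847
theorem F433829 : act 6 n180796 = n204847 := d21_9 (iv5 F402005) (iv1 D107386) (iv5 F164967) (iv6 D107031) D107028 F342031 D180449 (iv1 F387626) F387624 (iv1 D204847)
theorem F433830 : act 2 n204847 = n198134 := d3_1 F433829 (iv6 F406958) F281432
def n204848 : Q := act 6 n124483
theorem D204848 : act 6 n124483 = n204848 := rfl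
theorem F433831 : act 3 n204848 = n197557 := d7_1 D204848 F404815 (iv3 F362198)
theorem F433832 : act 4 n204848 = n124485 := d10_1 D204848 (iv6 D124485) D124483
theorem F433833 : act 5 n204848 = n197556 := d12_1 D204848 F404808 F402027 (iv6 D196844) F402005
def n204849 : Q := act 6 n124487
theorem D204849 : act 6 n124487 = n204849 := rfl
theorem F433834 : act 2 n204849 = n198164 := d3_1 D204849 F407060 F351043
theorem F433835 : act 3 n204849 = n124490 := d7_1 D204849 (iv6 D124490) D124487
theorem F433836 : act 4 n204849 = n198729 := d10_1 D204849 F409007 F408792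
theorem F433837 : act 5 n204849 = n136731 := d12_1 D204849 (iv6 D136731) (iv5 D64272) D64273 (iv5 F336030)
theorem F433838 : act 0 n204849 = n197067 := d21_4 (iv5 D127077) F166984 (iv5 F336030) D204849 (iv6 D197067) (iv5 F397157) F397158 (iv5 D110372) D110373 F349874
theorem F433839 : act 0 n165768 = n204849 := d21_4 (iv5 F340647) F155902 F364245 F336531 (iv6 D204849) F336030 F168126 D127071 (iv6 F353247) (iv1 F340648)
def n204850 : Q := act 0 n124493
theorem D204850 : act 0 n124493 = n204850 := rfl
theorem F433840 : act 5 n204850 = n159201 := d21_2 D124493 D204850 F342101 (iv1 D86059) (iv6 F322581) (iv5 D61105) D61103 (iv5 F345539) (iv6 F345546) F345543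
theorem F433841 : act 2 n124494 = n204850 := d15_3 (iv0 D204850) (iv0 F415357) F415356
theorem F433842 : act 1 n124498 = n204850 := d15_0 (iv0 D204850) (iv7 F433807) F433805
theorem F433843 : act 7 n204850 = n124495 := d15_2 (iv0 F415358) F433842 (iv2 F415353)
theorem F433844 : act 3 n197100 = n204850 := d19_19 (iv1 F433842) F199129 (iv4 F321447) F169106 D109127 (iv5 F351079) (iv4 F245614) (iv3 D156303) (iv1 F168141) D137058 (iv4 F416061) F416058 (iv1 F226653) (iv5 F416493) (iv4 D200455) (iv3 F219833) (iv1 F219836) (iv5 F219446) (iv4 F403041)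
theorem F433845 : act 6 n176110 = n204850 := d21_9 F199129 (iv1 F345544) (iv5 F401901) (iv6 D196822) (iv1 F165418) F344759 (iv5 D158585) D158583 (iv5 F344756) (iv1 F433842)
def n204851 : Q := act 4 n124493
theorem D204851 : act 4 n124493 = n204851 := rfl
theorem F433846 : act 2 n204851 = n124496 := d1_1 D204851 (iv4 D124496) (iv2 F199121)
theorem F433847 : act 5 n204851 = n204309 := d9_2 D124493 D204851 F431988 F409739 F409726 (iv5 F351546) F321447 (iv5 F199129) F199128 D177286 (iv4 F393025) F393024 F393023 F351540 F199040
theorem F433848 : act 7 n204851 = n177285 := d11_2 F433807 D204851 F433812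
theorem F433849 : act 0 n204851 = n177284 := d17_0 (iv5 F351546) D198277 F407443 F273950 F320976 D159201 (iv5 F433840) (iv0 D204850) D204851
theorem F433850 : act 0 n177283 = n204851 := d20_7 F339170 F345505 D101841 D193503 F406820 (iv3 F393022) F393023 (iv4 D204851) F199122 (iv1 F345507)
def n204852 : Q := act 6 n124493
theorem D204852 : act 6 n124493 = n204852 := rfl
theorem F433851 : act 2 n204852 = n124497 := d3_1 D204852 (iv6 D124497) (iv2 F199121)
theorem F433852 : act 3 n204852 = n177656 := d7_1 D204852 (iv6 D177656) (iv3 F199122)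
theorem F433853 : act 5 n204852 = n125372 := d12_1 D204852 (iv6 D125372) F92767 (iv6 F91891) D124493
def n204853 : Q := act 4 n124494
theorem D204853 : act 4 n124494 = n204853 := rfl
theorem F433854 : act 5 n204853 = n198090 := d17_5 (iv1 F402011) (iv5 D162809) D162805 (iv5 F360733) D204853 F433818 F433816 F401911 (iv4 F402008)
theorem F433855 : act 0 n204853 = n198143 := d17_0 F406978 F362031 F164967 (iv4 F165433) F336028 F199116 D204844 (iv0 F433809) D204853
def n204854 : Q := act 0 n124496
theorem D204854 : act 0 n124496 = n204854 := rfl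
theorem F433856 : act 5 n204854 = n198274 := d17_1 D204854 (iv1 F407435) (iv5 F411305) F411303 F303417 (iv0 F322729) (iv5 F360733) (iv0 D124494) D124496
theorem F433857 : act 3 n204854 = n194560 := d20_5 F263964 (iv1 F299118) (iv4 F129598) (iv3 F199123) D204854 F393692 (iv1 F393355) (iv4 F406898) (iv3 F406901) F312391
theorem F433858 : act 2 n177284 = n204854 := d15_3 (iv0 D204854) (iv0 F433673) (iv7 F351544)
theorem F433859 : act 1 n177285 = n204854 := d15_0 (iv0 D204854) (iv7 F199124) D177285
theorem F433860 : act 7 n204854 = n177283 := d15_2 (iv0 F433811) F433859 (iv2 F351541)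
theorem F433861 : act 6 n194556 = n204854 := d14_5 F433860 F353010 (iv7 D103844) (iv6 F159195) D194556
def n204855 : Q := act 5 n124496
theorem D204855 : act 5 n124496 = n204855 := rfl
theorem F433862 : act 2 n204855 = n204309 := d2_1 D204855 (iv5 F433847) F433846
theorem F433863 : act 3 n204855 = n177020 := d6_1 D204855 F276427 (iv3 F199123)
theorem F433864 : act 7 n204855 = n177286 := d13_2 F199124 D204855 (iv5 D177286)
theorem F433865 : act 1 n204855 = n160372 := d17_8 D162805 (iv5 F360733) F433809 (iv5 D204844) (iv4 F407433) (iv5 F433856) (iv0 D204854) D204855 F305000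
theorem F433866 : act 6 n204855 = n204307 := d21_3 D124453 F433673 D204855 (iv1 F431980) F197909 D203695 (iv1 F433359) F433361 F413343 (iv1 D124451)
theorem F433867 : act 1 n174910 = n204855 := d15_0 F433865 F305002 F366382
def n204856 : Q := act 5 n124511
theorem D204856 : act 5 n124511 = n204856 := rfl
theorem F433868 : act 2 n204856 = n124561 := d2_1 D204856 (iv5 D124561) (iv2 F199160)
theorem F433869 : act 3 n204856 = n129265 := d6_1 D204856 F338703 (iv3 F356285)
theorem F433870 : act 7 n204856 = n124622 := d13_2 (iv7 F348856) D204856 F348857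
theorem F433871 : act 4 n204856 = n124624 := d16_2 D124511 D204856 F199313 F91979 F44731 (iv4 F44725) (iv5 F91938) (iv7 D58136) (iv2 F91908)
theorem F433872 : act 0 n204856 = n188732 := d17_2 F268021 D204856 F374625 (iv4 D146679) F308244 (iv0 F296485) D81433 (iv0 F125683) D170592
theorem F433873 : act 1 n204856 = n185744 := d17_6 F299083 (iv5 D124509) (iv1 D58107) D58108 D124511 D204856 F288039 (iv0 F346567) (iv4 D181589)
def n204857 : Q := act 1 n124519
theorem D204857 : act 1 n124519 = n204857 := rfl
theorem F433874 : act 4 n199402 = n204857 := d20_0 (iv1 D204857) F199181 (iv3 D84658) D84656 F325635 F79565 F39152 (iv4 F80990) (iv3 F172635) D199402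
def n204858 : Q := act 2 n124519
theorem D204858 : act 2 n124519 = n204858 := rfl
theorem F433875 : act 3 n204858 = n124617 := d0_2 D124519 D204858 (iv2 D124617) (iv3 D58188) (iv2 F91917)
theorem F433876 : act 4 n204858 = n177798 := d1_2 (iv4 F199181) D204858 (iv2 D177798)
theorem F433877 : act 6 n204858 = n169909 := d3_2 (iv6 F199182) D204858 (iv2 D169909)
theorem F433878 : act 4 n195050 = n204665 := d20_0 (iv1 F433194) (iv4 F433876) F433875 F332210 F202059 F92989 (iv1 D48647) (iv4 F76512) (iv3 F161131) D195050
def n204859 : Q := act 5 n124519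
theorem D204859 : act 5 n124519 = n204859 := rfl
theorem F433879 : act 3 n204859 = n124520 := d6_1 D204859 (iv5 D124520) D124519
theorem F433880 : act 6 n204859 = n188781 := d12_2 (iv6 F199182) D204859 F377717 (iv6 D189777) F294455
theorem F433881 : act 0 n126207 = n204859 := d19_0 (iv5 D204859) F199181 (iv3 D84658) D84656 (iv5 F345327) (iv4 F400919) F400918 (iv1 F179586) D139661 F359518 F386182 (iv1 F386180) (iv5 D99932) D99931 F153863 (iv1 D92797) (iv5 F76627) (iv4 F93363) (iv3 F202969)
theorem F433882 : act 4 n204859 = n188782 := d20_8 F209348 D130788 (iv4 F374601) F374600 F371350 (iv3 F377047) (iv4 F377049) F433881 F374858 F365773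
def n204860 : Q := act 4 n124520
theorem D204860 : act 4 n124520 = n204860 := rfl
theorem F433883 : act 2 n204860 = n124622 := d1_1 D204860 (iv4 D124622) (iv2 F199183)
theorem F433884 : act 3 n204860 = n188731 := d5_1 D204860 F374616 (iv3 F374858) (iv4 F433882) F433879
theorem F433885 : act 5 n204860 = n124562 := d9_2 D124520 D204860 F199216 F91938 F44725 (iv5 F44731) (iv4 F91979) (iv5 F199313) (iv4 F433871) (iv5 D204856) (iv4 D124511) (iv5 D58108) F44711 D27706 D58118
theorem F433886 : act 6 n204860 = n188730 := d10_2 F377713 D204860 F377715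
theorem F433887 : act 7 n204860 = n124561 := d11_2 F433162 D204860 (iv4 F433161)
theorem F433888 : act 0 n204860 = n185744 := d17_0 F288039 F310539 (iv5 F342196) F342193 (iv5 D163623) (iv0 D78614) D78616 (iv0 F301895) D204860
theorem F433889 : act 1 n204860 = n188732 := d18_8 F310253 (iv4 D181589) F299083 (iv4 F342197) F212089 F342198 (iv0 F301895) D204860 F374625
def n204861 : Q := act 3 n124532
theorem D204861 : act 3 n124532 = n204861 := rfl
theorem F433890 : act 5 n204861 = n186546 := d6_2 (iv5 F313326) D204861 F337129
theorem F433891 : act 6 n204861 = n148854 := d7_2 (iv6 F313327) D204861 F233870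
theorem F433892 : act 7 n204861 = n186946 := d8_2 F356804 D204861 F368615
theorem F433893 : act 1 n145057 = n204861 := d15_1 (iv0 F397486) F433892 (iv2 F397483)
theorem F433894 : act 0 n204148 = n204861 := d21_4 (iv5 F380173) (iv1 D190574) D190575 (iv6 F431200) F433891 (iv5 D148854) (iv1 F205688) (iv5 F229099) F229100 (iv1 F340876)
def n204862 : Q := act 4 n124532
theorem D204862 : act 4 n124532 = n204862 := rfl
theorem F433895 : act 2 n204862 = n147767 := d1_1 D204862 (iv4 F315760) F315759
theorem F433896 : act 5 n204862 = n174279 := d9_2 (iv5 F313326) D204862 F303092 (iv5 F346777) F209090 D130578 (iv4 F346790) F199193 F310998 F334575 (iv4 F126932) D172056 (iv4 F337131) (iv5 F289480) (iv4 F337127)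
theorem F433897 : act 6 n204862 = n147752 := d10_2 (iv6 F313327) D204862 F233745
theorem F433898 : act 7 n204862 = n147395 := d11_2 F356804 D204862 (iv4 F345661)
theorem F433899 : act 0 n204862 = n147488 := d18_2 D124532 D204862 F231270 F105427 (iv4 F317104) F147258 F315634 (iv0 D58120) D58122
theorem F433900 : act 1 n204862 = n147764 := d18_6 F243019 (iv4 F339837) (iv1 F346797) (iv4 F337127) (iv5 F313326) D204862 F355209 (iv0 D69279) D69281
theorem F433901 : act 3 n204862 = n174298 := d20_5 (iv4 D143720) (iv1 F313412) D154987 F355210 (iv1 F433900) F349796 F426700 (iv4 F429117) (iv3 D203627) (iv1 F339395)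
def n204863 : Q := act 4 n124536
theorem D204863 : act 4 n124536 = n204863 := rfl
theorem F433902 : act 6 n204863 = n177188 := d10_2 (iv6 F364614) D204863 (iv4 D177188)
theorem F433903 : act 7 n204863 = n177024 := d11_2 (iv7 F364615) D204863 F276443
theorem F433904 : act 5 n204863 = n200164 := d18_4 F252830 (iv4 F118459) D124536 D204863 F415332 F350654 (iv4 D174556) (iv0 F337060) (iv5 D161725)
theorem F433905 : act 0 n204347 = n204863 := d20_10 (iv4 D204863) (iv1 F380167) (iv4 F380169) F206072 (iv1 F94742) D60284 (iv4 F109299) (iv1 F337507) (iv4 F198017) (iv3 F432138)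
def n204864 : Q := act 5 n124536
theorem D204864 : act 5 n124536 = n204864 := rfl
theorem F433906 : act 3 n204864 = n144963 := d6_1 D204864 F333654 (iv3 F364613)
theorem F433907 : act 7 n204864 = n177028 := d13_2 (iv7 F364615) D204864 (iv5 D177028)
theorem F433908 : act 0 n204864 = n203083 := d17_2 D124536 D204864 F426902 (iv4 F383331) F383332 F350646 (iv5 D174505) (iv0 D83401) (iv4 F118459)
theorem F433909 : act 4 n204864 = n187441 := d19_2 D124536 D204864 (iv3 D187441) (iv1 F368473) F368471 (iv4 D89388) (iv3 F137040) F367276 (iv5 D46978) (iv4 F74192) (iv3 F153207) F331177 (iv5 D84237) F299349 F297241 F116111 F56467 (iv4 F296103) D58125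
theorem F433910 : act 6 n204864 = n144960 := d21_3 (iv5 D124539) D124536 D204864 F349474 F349465 F162430 (iv1 F82321) D67928 D144902 F341977
theorem F433911 : act 0 n124552 = n204864 := d21_1 F337051 (iv5 D204864) F364614 F272905 (iv6 F344127) (iv5 D149000) (iv1 F234188) (iv5 F335249) D190806 (iv1 F381158)
def n204865 : Q := act 3 n124543
theorem D204865 : act 3 n124543 = n204865 := rfl
theorem F433912 : act 2 n204865 = n132822 := d0_1 D204865 (iv3 D132822) (iv2 F97207) F333922 F299090
theorem F433913 : act 4 n204865 = n194134 := d5_2 D124543 D204865 (iv3 F426154) F426151 F199203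
theorem F433914 : act 6 n204865 = n184836 := d7_2 (iv6 F297825) D204865 (iv3 D184836)
theorem F433915 : act 7 n204865 = n127899 := d8_2 (iv7 F342199) D204865 F342771
theorem F433916 : act 0 n204865 = n132914 := d19_4 D27709 D58127 D124543 D204865 (iv5 D132914) (iv4 F213508) F213507 D196258 F400082 F396428 D195669 (iv1 F398315) (iv5 D195818) F190358 (iv3 D117974) (iv1 D54347) (iv5 D26267) (iv4 F41716) F41715
theorem F433917 : act 0 n132977 = n204865 := d20_4 F334118 F338594 F258910 (iv3 F338587) (iv3 D204865) (iv4 D124543) D124541 (iv4 F337894) F217526 D135333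
def n204866 : Q := act 5 n124543
theorem D204866 : act 5 n124543 = n204866 := rfl
theorem F433918 : act 2 n204866 = n129207 := d2_1 D204866 F333923 F299090
theorem F433919 : act 4 n204866 = n124621 := d9_1 D204866 F299760 F119793 F56473 (iv4 F297110) D58131 D124550 F333927 (iv4 F341757) F297832 F119764 F56467 (iv4 F296103) D58127 D124543
theorem F433920 : act 6 n204866 = n126889 := d12_2 (iv6 F297825) D204866 (iv5 F204657) (iv6 F337907) F337905
theorem F433921 : act 7 n204866 = n129199 := d13_2 (iv7 F342199) D204866 (iv5 F212089)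
theorem F433922 : act 1 n204866 = n129204 := d17_6 (iv1 D58134) (iv5 D27711) D27709 D58127 D124543 D204866 F341970 F267225 (iv4 D124556)
theorem F433923 : act 0 n204866 = n129205 := d18_0 F380162 (iv1 F381031) F381028 F288039 F310540 F229992 F341971 F337904 D204866
def n204867 : Q := act 4 n124552
theorem D204867 : act 4 n124552 = n204867 := rfl
theorem F433924 : act 2 n204867 = n203011 := d1_1 D204867 F426631 F397469
theorem F433925 : act 3 n204867 = n187189 := d5_1 D204867 F369416 (iv3 F341965) (iv4 D124553) D124552
theorem F433926 : act 7 n204867 = n203088 := d11_2 (iv7 F267908) D204867 F426918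
theorem F433927 : act 0 n204867 = n203017 := d18_2 F380175 D204867 (iv4 F427039) F427040 F244144 (iv0 D83401) (iv4 F118459) (iv0 F319572) D190575
theorem F433928 : act 1 n204867 = n187087 := d18_6 F237473 (iv4 F237481) F337054 (iv4 F337050) F337051 D204867 F426472 (iv0 F427663) (iv5 D203284)
theorem F433929 : act 6 n146807 = n204867 := d21_3 (iv5 D88923) D88921 (iv5 F356598) F433927 (iv6 D203017) (iv5 F391545) (iv1 F391548) (iv5 D117440) D117441 F360632
def n204868 : Q := act 6 n124552
theorem D204868 : act 6 n124552 = n204868 := rfl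
theorem F433930 : act 2 n204868 = n144965 := d3_1 D204868 (iv6 F397471) F397469
theorem F433931 : act 3 n204868 = n124554 := d7_1 D204868 (iv6 D124554) D124552
theorem F433932 : act 4 n204868 = n146807 := d10_1 D204868 F433929 (iv4 D204867)
theorem F433933 : act 0 n204868 = n144967 := d21_4 F432587 (iv1 F381158) F337051 D204868 (iv6 F233282) F233284 F162995 D106052 (iv6 F230222) F432590
theorem F433934 : act 0 n144964 = n204868 := d21_4 F103989 F77026 (iv5 F104078) D144964 (iv6 D204868) (iv5 F337051) (iv1 D131458) (iv5 F104025) (iv6 D67932) (iv1 F104023)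
theorem F433935 : act 1 n150853 = n201492 := d18_8 F433934 F433932 (iv1 F356600) (iv4 D138975) (iv5 D65235) (iv4 F100981) D138942 F366535 F420704
theorem F433936 : act 5 n204868 = n202484 := d21_8 F357108 (iv1 F306071) (iv5 F236017) (iv6 D150025) (iv1 F178717) D201492 F420704 F433934 F424201 (iv1 F357110)
theorem F433937 : act 7 n144966 = n204868 := d13_0 F433936 (iv7 D202484) F330013
def n204869 : Q := act 0 n124553
theorem D204869 : act 0 n124553 = n204869 := rfl
theorem F433938 : act 5 n204869 = n129205 := d17_1 D204869 (iv1 D129205) (iv5 F333927) (iv4 D124550) (iv5 D58131) F297109 D124171 F297822 D124553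
theorem F433939 : act 4 n204869 = n147336 := d18_1 D204869 (iv1 F310846) D170592 F337898 (iv4 F354349) (iv0 F354352) F341950 F337769 (iv5 F341966)
theorem F433940 : act 6 n204869 = n147334 := d21_5 (iv5 F337738) (iv1 F194221) F337755 (iv6 F341967) D204869 F348852 (iv1 D146759) (iv5 D68806) (iv6 F104992) F334037
theorem F433941 : act 2 n147505 = n204869 := d15_3 (iv0 D204869) (iv0 F267224) (iv7 F366789)
theorem F433942 : act 1 n124556 = n204869 := d15_0 (iv0 D204869) (iv7 F267930) F267929
theorem F433943 : act 7 n204869 = n181686 := d15_2 F267225 F433942 (iv2 F366790)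
def n204870 : Q := act 1 n124557
theorem D204870 : act 1 n124557 = n204870 := rfl
theorem F433944 : act 1 n204870 = n142087 := d15_1 D204870 F350200 F267927
theorem F433945 : act 7 n204870 = n197139 := d15_2 (iv0 F350196) D204870 F403219
theorem F433946 : act 4 n204870 = n133331 := d18_7 (iv1 F354254) F158561 (iv1 F331330) F130680 (iv5 F113820) (iv4 F350198) D204870 (iv0 F335860) F354255
theorem F433947 : act 5 n204870 = n160240 := d18_9 (iv1 F313171) (iv4 F422243) F422245 F420401 F309626 (iv4 F230379) F339817 (iv4 F350198) D204870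
theorem F433948 : act 3 n191073 = n204870 := d20_3 (iv4 F349079) F349083 (iv4 F382103) (iv1 D204870) F350197 (iv4 D75926) (iv1 F306172) D154821 (iv3 F334936) F349086
theorem F433949 : act 6 n148860 = n204870 := d21_3 (iv5 D128343) F201152 (iv5 F233886) (iv1 D204870) (iv6 D124557) F299837 F299199 (iv5 F299085) (iv6 F312105) F206467
theorem F433950 : act 2 n204870 = n166282 := d3_1 F433949 F261824 F233887
def n204871 : Q := act 6 n124559
theorem D204871 : act 6 n124559 = n204871 := rfl
theorem F433951 : act 2 n204871 = n197134 := d3_1 D204871 F403198 F268020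
theorem F433952 : act 3 n204871 = n179249 := d7_1 D204871 (iv6 F351360) F354317
theorem F433953 : act 4 n204871 = n190771 := d10_1 D204871 F380985 F310633
theorem F433954 : act 7 n204871 = n179278 := d14_2 F354283 D204871 (iv6 F354263) F241157 D147877
theorem F433955 : act 0 n204871 = n160724 := d21_4 (iv5 F342196) (iv1 F354302) (iv5 F354300) D204871 (iv6 D160724) F115835 D78063 F298865 (iv6 F298866) F310539
theorem F433956 : act 5 n179247 = n204871 := d21_2 (iv5 F353767) (iv1 F354252) (iv6 D204871) (iv1 D124559) (iv6 F199195) F313329 F343372 F343369 F242984 (iv1 F230769)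
theorem F433957 : act 0 n133331 = n204871 := d21_4 (iv5 D69767) D69765 (iv5 F334052) F334526 (iv6 D204871) F354300 (iv1 F354301) (iv5 F348865) (iv6 F348868) F333946
def n204872 : Q := act 0 n124560
theorem D204872 : act 0 n124560 = n204872 := rfl
theorem F433958 : act 4 n204872 = n191534 := d20_0 F383690 (iv4 F425512) F425511 F320184 (iv3 F341959) (iv4 D124556) (iv1 D58134) D58135 D124560 D204872
theorem F433959 : act 5 n204872 = n129724 := d21_2 F374621 D204872 F364574 (iv1 D134593) (iv6 D63243) F317493 F296721 D39951 (iv6 F132314) D180746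
theorem F433960 : act 1 n197142 = n204872 := d15_0 (iv0 D204872) (iv7 F361189) (iv2 F403236)
theorem F433961 : act 3 n129726 = n204872 := d6_3 F433959 (iv3 D129724) D129726
theorem F433962 : act 6 n204872 = n191533 := d7_2 (iv6 F364894) F433961 (iv3 F383687)
def n204873 : Q := act 1 n124560
theorem D204873 : act 1 n124560 = n204873 := rfl
theorem F433963 : act 4 n173794 = n204873 := d20_6 (iv4 F334587) (iv1 F230034) F311115 (iv3 F415451) (iv1 F415454) (iv3 F363112) (iv1 D204873) (iv4 F427251) (iv3 D203164) F334580
theorem F433964 : act 6 n160726 = n204873 := d21_3 (iv5 F323563) D107711 (iv5 F344860) (iv1 D204873) F383682 F383677 F338120 (iv5 D172866) (iv6 F348513) F348510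
theorem F433965 : act 5 n204873 = n195115 := d12_1 F433964 (iv6 D195115) (iv5 F161455) (iv6 F346582) (iv5 F344860)
theorem F433966 : act 0 n197142 = n204873 := d21_7 (iv5 D136711) (iv1 F100384) F139279 F139277 D90506 F365712 (iv5 F403237) F433965 (iv6 D195115) (iv1 F219856)
theorem F433967 : act 0 n160738 = n173794 := d20_10 F433963 (iv1 D204873) (iv4 F427251) (iv3 D203164) F334580 (iv3 D69228) D69229 (iv1 F231466) (iv4 F230983) (iv3 F361634)
def n204874 : Q := act 2 n124560
theorem D204874 : act 2 n124560 = n204874 := rfl
theorem F433968 : act 3 n204874 = n155471 := d0_2 D124560 D204874 F347679 (iv3 F356285) F199160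
theorem F433969 : act 4 n204874 = n176085 := d1_2 F427251 D204874 (iv2 F427250)
theorem F433970 : act 6 n204874 = n155469 := d3_2 (iv6 F383682) D204874 F383679
theorem F433971 : act 7 n204874 = n197142 := d4_2 F361189 D204874 F403236
def n204875 : Q := act 6 n124561
theorem D204875 : act 6 n124561 = n204875 := rfl
theorem F433972 : act 3 n204875 = n174020 := d7_1 D204875 (iv6 F366570) (iv3 F374622)
theorem F433973 : act 5 n204875 = n174019 := d12_1 D204875 F344388 (iv5 F313329) F199195 D124561
def n204876 : Q := act 1 n124587
theorem D204876 : act 1 n124587 = n204876 := rfl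
theorem F433974 : act 1 n204876 = n196899 := d15_1 D204876 F402214 (iv2 F326808)
theorem F433975 : act 7 n204876 = n126308 := d15_2 (iv0 F326807) D204876 F203085
theorem F433976 : act 4 n204876 = n156597 := d17_9 F246276 F161157 (iv1 D49459) F37843 (iv4 F40185) D52306 D113323 (iv5 F326810) D204876
theorem F433977 : act 6 n169898 = n204876 := d21_3 D113249 F362283 (iv5 F362940) (iv1 D204876) F326811 D126186 (iv1 F409807) (iv5 D198901) F175705 (iv1 F175703)
theorem F433978 : act 2 n204876 = n196440 := d3_1 F433977 (iv6 F416235) F416233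
theorem F433979 : act 5 n204876 = n198930 := d21_6 (iv5 F417563) (iv1 F417564) (iv5 D113357) D113358 (iv1 F362937) F433977 (iv1 D198930) (iv5 D110729) (iv6 F170876) (iv1 F202029)
def n204877 : Q := act 6 n124602
theorem D204877 : act 6 n124602 = n204877 := rfl
theorem F433980 : act 2 n204877 = n195102 := d3_1 D204877 (iv6 F395757) (iv2 F354350)
theorem F433981 : act 3 n204877 = n200094 := d7_1 D204877 F414982 (iv3 F354374)
theorem F433982 : act 5 n204877 = n198518 := d12_1 D204877 (iv6 D198518) (iv5 D109402) (iv6 F326096) D124602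
theorem F433983 : act 0 n204877 = n200756 := d21_4 (iv5 D181690) (iv1 F296421) D124602 D204877 (iv6 D200756) (iv5 D113423) (iv1 D52361) D52363 D113430 F331162
theorem F433984 : act 7 n204877 = n200840 := d15_2 (iv0 F417798) (iv0 F433983) (iv2 D200840)
theorem F433985 : act 1 n204877 = n200839 := d15_0 (iv0 D200839) (iv7 F395776) (iv2 F433980)
def n204878 : Q := act 6 n124607
theorem D204878 : act 6 n124607 = n204878 := rfl
theorem F433986 : act 2 n204878 = n133000 := d3_1 D204878 (iv6 F354290) F354287
theorem F433987 : act 3 n204878 = n131987 := d7_1 D204878 F391729 F391723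
theorem F433988 : act 5 n204878 = n165685 := d12_1 D204878 F416735 F282147 F297652 D124607
theorem F433989 : act 7 n204878 = n132999 := d14_2 (iv7 F354351) D204878 F416710 (iv7 F395776) (iv6 F395757)
theorem F433990 : act 0 n204878 = n132952 := d21_4 (iv5 D181681) F297513 D124607 D204878 (iv6 D132952) (iv5 F213571) F347529 F347530 (iv6 F348876) F299382
theorem F433991 : act 1 n204878 = n133002 := d15_1 (iv0 F433990) (iv7 D133002) (iv2 F213576)
def n204879 : Q := act 6 n124610
theorem D204879 : act 6 n124610 = n204879 := rfl
theorem F433992 : act 3 n204879 = n128868 := d7_1 D204879 (iv6 D128868) (iv3 F341952)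
theorem F433993 : act 4 n204879 = n129806 := d10_1 D204879 (iv6 D129806) (iv4 F341953)
def n204880 : Q := act 5 n124611
theorem D204880 : act 5 n124611 = n204880 := rfl
theorem F433994 : act 2 n204880 = n126044 := d2_1 D204880 F202748 F323183
theorem F433995 : act 3 n204880 = n125772 := d6_1 D204880 (iv5 F349557) F358202
theorem F433996 : act 7 n204880 = n125809 := d13_2 F325536 D204880 F349542
theorem F433997 : act 0 n204880 = n126048 := d17_2 (iv1 F280421) D204880 F202754 F93246 (iv5 F323115) F323114 F38790 F323898 (iv4 F131975)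
theorem F433998 : act 1 n204880 = n126023 := d17_6 (iv1 F170446) F323939 F132974 F133014 (iv4 F299410) D204880 (iv5 D126023) (iv0 F170141) (iv4 D110008)
def n204881 : Q := act 0 n124612
theorem D204881 : act 0 n124612 = n204881 := rfl
theorem F433999 : act 5 n204881 = n200698 := d17_1 D204881 F417546 (iv5 F348750) F257871 D163664 F334239 (iv5 F341644) (iv0 D167935) F299822
theorem F434000 : act 4 n204881 = n167768 := d18_3 F341641 F299822 D204881 F303730 (iv4 F263660) (iv0 F346973) F346965 F334238 F341892
theorem F434001 : act 6 n204881 = n180343 := d21_5 (iv5 F429412) (iv1 F430014) (iv5 D203831) (iv6 F297644) D204881 (iv5 F380496) (iv1 F380498) F378167 F366911 (iv1 F338778)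
theorem F434002 : act 3 n200699 = n204881 := d7_3 F434001 (iv3 F362863) (iv6 F417548)
theorem F434003 : act 7 n204881 = n176504 := d8_2 F418765 F434002 (iv3 F418763)
def n204882 : Q := act 1 n124612
theorem D204882 : act 1 n124612 = n204882 := rfl
theorem F434004 : act 4 n204882 = n176479 := d18_7 (iv1 F249443) (iv4 F305687) (iv1 F213733) F305918 F318580 F299822 D204882 (iv0 F275781) (iv5 D158323)
theorem F434005 : act 3 n194501 = n204882 := d20_3 (iv4 D190587) (iv1 F160246) (iv4 F393453) (iv1 D204882) (iv3 D124612) (iv4 F296849) F296848 D96180 D190571 (iv1 F380227)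
theorem F434006 : act 2 n204882 = n176504 := d0_1 F434005 (iv3 F418763) F418762 F417554 F393454
def n204883 : Q := act 5 n124612
theorem D204883 : act 5 n124612 = n204883 := rfl
theorem F434007 : act 2 n204883 = n128863 := d2_1 D204883 (iv5 F418488) F418487
theorem F434008 : act 3 n204883 = n124613 := d6_1 D204883 (iv5 D124613) D124612
theorem F434009 : act 4 n204883 = n196085 := d18_5 (iv1 D113312) (iv4 F176506) F341641 F299822 D204883 (iv0 D196085) (iv4 F399346) (iv0 F417353) (iv5 D200648)
theorem F434010 : act 6 n196092 = n204883 := d7_0 F434008 (iv6 F359048) F399372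
def n204884 : Q := act 6 n124618
theorem D204884 : act 6 n124618 = n204884 := rfl
theorem F434011 : act 3 n204884 = n124623 := d7_1 D204884 (iv6 D124623) (iv3 F199309)
theorem F434012 : act 4 n204884 = n193355 := d10_1 D204884 (iv6 D193355) (iv4 F352184)
theorem F434013 : act 5 n204884 = n180358 := d12_1 D204884 (iv6 D180358) (iv5 D86140) (iv6 F91978) D124618
theorem F434014 : act 0 n204884 = n195172 := d21_4 (iv5 F352187) F352186 D124618 D204884 F396087 (iv5 D113527) D113525 (iv5 F332707) (iv6 F361251) (iv1 F184677)
def n204885 : Q := act 3 n124622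
theorem D204885 : act 3 n124622 = n204885 := rfl
theorem F434015 : act 2 n204885 = n129266 := d0_1 D204885 (iv3 F365713) (iv2 F374615) (iv3 F433884) F433883
theorem F434016 : act 4 n204885 = n154632 := d5_2 D124622 D204885 (iv3 F352203) (iv4 F352184) F199309
theorem F434017 : act 5 n204885 = n197078 := d6_2 (iv5 F348857) D204885 (iv3 F402950)
theorem F434018 : act 6 n204885 = n144342 := d7_2 (iv6 F348866) D204885 F361751
theorem F434019 : act 7 n204885 = n129265 := d8_2 F433870 D204885 (iv3 F433869)
theorem F434020 : act 0 n204885 = n129256 := d19_4 (iv1 D58187) D58189 D124622 D204885 (iv5 F217560) F334118 (iv3 F230945) F315506 (iv5 F125653) (iv4 D81740) D81739 (iv1 F344140) F344141 D170452 F341632 (iv1 F341630) F318580 F299822 (iv3 D124612)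
theorem F434021 : act 0 n129268 = n204885 := d20_4 F96722 F47408 (iv4 F95354) (iv3 F207476) (iv3 D204885) (iv4 D124622) D124620 F341757 F95336 D60739
def n204886 : Q := act 1 n124623
theorem D204886 : act 1 n124623 = n204886 := rfl
def n204887 : Q := act 7 n124623
theorem D204887 : act 7 n124623 = n204887 := rfl
theorem F434022 : act 5 n204887 = n180361 := d13_1 D204887 (iv7 D180361) (iv5 F199312)
def n204888 : Q := act 6 n124624
theorem D204888 : act 6 n124624 = n204888 := rfl
theorem F434023 : act 3 n204888 = n190565 := d7_1 D204888 F383723 F383722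
def n204889 : Q := act 4 n124627
theorem D204889 : act 4 n124627 = n204889 := rfl
theorem F434024 : act 2 n204889 = n178230 := d1_1 D204889 (iv4 D178230) (iv2 F353910)
theorem F434025 : act 5 n204889 = n203533 := d9_2 (iv5 F330645) D204889 F428759 F188189 (iv4 F188165) (iv5 F428716) F428715 F341257 F353914 (iv5 D175124) (iv4 D83645) (iv5 D38563) (iv4 F46182) D60194 D128090
theorem F434026 : act 6 n204889 = n125354 := d10_2 (iv6 F330646) D204889 (iv4 D125354)
theorem F434027 : act 7 n204889 = n178235 := d11_2 (iv7 F353911) D204889 (iv4 D178235)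
def n204890 : Q := act 5 n124633
theorem D204890 : act 5 n124633 = n204890 := rfl
theorem F434028 : act 2 n204890 = n145338 := d2_1 D204890 (iv5 D145338) (iv2 F330947)
theorem F434029 : act 7 n204890 = n174588 := d13_2 (iv7 F199345) D204890 F273441
theorem F434030 : act 4 n204890 = n170744 := d16_2 D124633 D204890 (iv5 D170744) (iv4 D81859) (iv5 D37477) (iv4 F58360) D81851 (iv7 F298760) (iv2 F118568)
theorem F434031 : act 0 n204890 = n173309 := d17_2 (iv1 F365169) D204890 (iv5 D173309) (iv4 D82940) (iv5 D38161) D38160 D82937 (iv0 F300603) D162605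
theorem F434032 : act 1 n204890 = n173334 := d17_6 (iv1 F127883) F59368 (iv1 F118117) D58233 D124633 D204890 F271774 F271718 F271715
theorem F434033 : act 4 n198566 = n198720 := d20_6 (iv4 F434030) F434031 F271724 F326133 D109574 D198566 F408987 F392211 F392210 (iv1 F298772)
def n204891 : Q := act 3 n124640
theorem D204891 : act 3 n124640 = n204891 := rfl
theorem F434034 : act 4 n204891 = n166079 := d5_2 (iv4 F298307) D204891 (iv3 D166079) (iv4 D79735) (iv3 F296733)
theorem F434035 : act 6 n204891 = n198529 := d7_2 (iv6 F414516) D204891 F414518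
theorem F434036 : act 7 n204891 = n162657 := d8_2 F300464 D204891 (iv3 D162657)
theorem F434037 : act 0 n204891 = n198681 := d19_4 (iv1 F128566) F298274 (iv4 F298307) D204891 F415966 (iv4 D200316) (iv3 F415955) (iv1 F415959) (iv5 F425921) F425920 (iv3 D148645) (iv1 F309220) (iv5 F281040) (iv4 F308860) F308859 F125645 (iv5 D81725) F297931 (iv3 F296821)
theorem F434038 : act 0 n200579 = n204891 := d20_4 F358725 D153594 (iv4 F378091) (iv3 F417038) (iv3 D204891) F298307 (iv1 F119255) (iv4 F119316) (iv3 F256907) (iv1 F358724)
def n204892 : Q := act 4 n124642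
theorem D204892 : act 4 n124642 = n204892 := rfl
theorem F434039 : act 2 n204892 = n174588 := d1_1 D204892 F273442 (iv2 F199385)
theorem F434040 : act 5 n204892 = n145339 := d9_2 D124642 D204892 F330955 (iv5 D81851) F58360 D37477 D81859 D170744 (iv4 F434030) (iv5 D204890) (iv4 D124633) (iv5 D58233) (iv4 D27741) D27742 D58236
theorem F434041 : act 7 n204892 = n145338 := d11_2 (iv7 F199386) D204892 F330951
theorem F434042 : act 0 n204892 = n173334 := d18_2 (iv1 F289078) D204892 (iv4 D173334) (iv5 D82950) (iv4 D38174) F117739 D58246 F136145 (iv5 F289077)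
theorem F434043 : act 1 n204892 = n173309 := d18_6 D78140 F298764 (iv1 D58235) D58236 D124642 D204892 F271724 F301423 (iv5 D78143)
theorem F434044 : act 3 n204892 = n145343 := d19_3 (iv1 D124640) D124642 D204892 (iv1 F401080) F401082 F165438 (iv3 F168100) F162266 F162265 D131806 F363887 (iv1 D127406) D127407 (iv4 F395124) F395123 (iv1 F362937) F362940 (iv4 F434034) (iv3 D204891)
def n204893 : Q := act 6 n124642
theorem D204893 : act 6 n124642 = n204893 := rfl
theorem F434045 : act 2 n204893 = n174650 := d3_1 D204893 (iv6 D174650) (iv2 F199385)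
theorem F434046 : act 5 n204893 = n204843 := d12_1 D204893 (iv6 D204843) (iv5 D124479) (iv6 F92043) D124642
def n204894 : Q := act 3 n124643
theorem D204894 : act 3 n124643 = n204894 := rfl
theorem F434047 : act 5 n204894 = n201181 := d6_2 (iv5 F340174) D204894 F419350
theorem F434048 : act 6 n204894 = n179996 := d7_2 (iv6 F340175) D204894 (iv3 D179996)
theorem F434049 : act 7 n204894 = n178180 := d8_2 (iv7 F340176) D204894 (iv3 D178180)
theorem F434050 : act 4 n204894 = n166091 := d20_6 F57076 (iv1 F44744) D27743 D58237 D124643 D204894 (iv1 D166091) F122427 (iv3 D36336) D36334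
theorem F434051 : act 0 n147893 = n204894 := d18_0 F434050 (iv1 D166091) F122427 D79789 (iv4 F338183) (iv0 F339599) (iv4 F230979) F237576 D147893
theorem F434052 : act 1 n147876 = n204894 := d18_6 (iv1 F418273) F415505 F352243 F352242 F270744 F352250 F434050 F430516 F430517
def n204895 : Q := act 4 n124643
theorem D204895 : act 4 n124643 = n204895 := rfl
theorem F434053 : act 2 n204895 = n178186 := d1_1 D204895 (iv4 D178186) (iv2 F340173)
theorem F434054 : act 3 n204895 = n194797 := d5_1 D204895 (iv4 F418160) F418159 (iv4 F434050) (iv3 D204894)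
theorem F434055 : act 6 n204895 = n179997 := d10_2 (iv6 F340175) D204895 (iv4 D179997)
theorem F434056 : act 7 n204895 = n178181 := d11_2 (iv7 F340176) D204895 (iv4 D178181)
theorem F434057 : act 1 n204895 = n198668 := d18_6 F398497 (iv4 D195859) F359178 (iv4 F177570) (iv5 F340174) D204895 F408796 F394747 F352041
def n204896 : Q := act 4 n124644
theorem D204896 : act 4 n124644 = n204896 := rfl
theorem F434058 : act 2 n204896 = n178181 := d1_1 D204896 (iv4 D178181) (iv2 F340147)
theorem F434059 : act 6 n204896 = n198709 := d10_2 F336477 D204896 F408953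
theorem F434060 : act 7 n204896 = n178186 := d11_2 (iv7 F340148) D204896 (iv4 D178186)
theorem F434061 : act 0 n204896 = n198668 := d18_2 (iv1 F199393) D204896 F408796 (iv5 F403032) F403031 (iv0 F370540) (iv4 F403242) F403239 F262056
def n204897 : Q := act 4 n124646
theorem D204897 : act 4 n124646 = n204897 := rfl
theorem F434062 : act 2 n204897 = n174578 := d1_1 D204897 F273435 (iv2 F199395)
theorem F434063 : act 7 n204897 = n174581 := d11_2 (iv7 F199396) D204897 F273437
theorem F434064 : act 5 n204897 = n173306 := d16_1 D204897 F271715 F127876 F127240 (iv5 F59648) D82945 D173320 F271747 (iv2 F199395)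
def n204898 : Q := act 6 n124646
theorem D204898 : act 6 n124646 = n204898 := rfl
theorem F434065 : act 2 n204898 = n174665 := d3_1 D204898 (iv6 D174665) (iv2 F199395)
def n204899 : Q := act 5 n124647
theorem D204899 : act 5 n124647 = n204899 := rfl
theorem F434066 : act 2 n204899 = n173825 := d2_1 D204899 (iv5 D173825) (iv2 F302202)
theorem F434067 : act 7 n204899 = n173834 := d13_2 (iv7 F302203) D204899 (iv5 D173834)
theorem F434068 : act 0 n204899 = n162704 := d17_2 (iv1 F302201) D204899 (iv5 D162704) (iv4 D78167) (iv5 D35637) (iv0 D17274) D17278 D35653 D78212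
theorem F434069 : act 1 n204899 = n160639 := d17_6 F296941 (iv5 D38246) D38244 (iv5 F299494) (iv4 F199398) D204899 (iv5 D160639) (iv0 F297468) (iv4 D75263)
def n204900 : Q := act 5 n124648
theorem D204900 : act 5 n124648 = n204900 := rfl
theorem F434070 : act 2 n204900 = n124665 := d2_1 D204900 F199413 F199402
theorem F434071 : act 3 n204900 = n176088 := d6_1 D204900 F334705 (iv3 F199403)
theorem F434072 : act 4 n204900 = n155469 := d9_1 D204900 F244467 F311780 (iv5 F156315) (iv4 F352184) (iv5 D124618) F91977 D58251 D124664 (iv5 F387325) F387326 F385182 D193356 (iv5 F417025) F417024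
theorem F434073 : act 7 n204900 = n124661 := d13_2 (iv7 F199404) D204900 (iv5 D124661)
theorem F434074 : act 1 n204900 = n124662 := d17_6 (iv1 F389610) F389612 (iv1 F389562) (iv5 F417025) F417024 D204900 (iv5 F334607) (iv0 D166159) D166162
theorem F434075 : act 0 n204900 = n124663 := d21_7 (iv5 F129780) (iv1 F277100) F342327 (iv6 F360740) (iv1 F360742) (iv6 F360730) D204900 (iv5 F336440) F336441 (iv1 F334656)
theorem F434076 : act 6 n176085 = n204900 := d10_0 F434072 (iv6 F433970) F433969
theorem F434077 : act 5 n174601 = n176085 := d21_2 F249568 D174601 F434076 F434075 F342673 F346570 (iv1 D86824) D86826 D181804 (iv1 F346568)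
theorem F434078 : act 3 n176087 = n174601 := d6_3 F434077 (iv3 D176085) D176087
def n204901 : Q := act 6 n124649
theorem D204901 : act 6 n124649 = n204901 := rfl
theorem F434079 : act 2 n204901 = n124653 := d3_1 D204901 (iv6 D124653) D124649
theorem F434080 : act 3 n204901 = n152485 := d7_1 D204901 F406378 (iv3 F406377)
theorem F434081 : act 5 n204901 = n152467 := d12_1 D204901 F239657 F322754 D148881 (iv5 F347459)
theorem F434082 : act 7 n204901 = n152466 := d14_2 F199406 D204901 F347780 F342126 F342140
theorem F434083 : act 0 n204901 = n164070 := d21_4 (iv5 F334608) (iv1 F336428) (iv5 F347459) D204901 (iv6 D164070) F323673 (iv1 F336068) F336072 F334677 (iv1 F323503)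
theorem F434084 : act 0 n173649 = n204901 := d21_4 F118939 (iv1 F118938) D83049 (iv6 F272129) (iv6 D204901) F347459 F336427 (iv5 F320070) F122491 (iv1 F321827)
def n204902 : Q := act 0 n124651
theorem D204902 : act 0 n124651 = n204902 := rfl
theorem F434085 : act 5 n204902 = n191537 := d17_1 D204902 F383697 (iv5 F383876) F383877 F336440 (iv0 F434075) (iv5 D204900) (iv0 D124648) D124651
theorem F434086 : act 4 n204902 = n198866 := d18_1 D204902 (iv1 F409652) (iv4 F389589) (iv5 D193365) (iv4 F184768) F136724 (iv4 F326583) D128843 F361729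
theorem F434087 : act 1 n124656 = n204902 := d15_0 (iv0 D204902) (iv7 F383875) F383872
theorem F434088 : act 6 n198864 = n204902 := d21_3 (iv5 F417326) F417331 (iv5 F409634) (iv1 F434087) F347463 (iv5 D84541) D84538 D177442 F355889 F395685
def n204903 : Q := act 1 n124651
theorem D204903 : act 1 n124651 = n204903 := rfl
theorem F434089 : act 1 n204903 = n124656 := d15_1 D204903 (iv7 F383869) F383867
theorem F434090 : act 5 n204903 = n191535 := d17_7 D101504 F156315 (iv1 F274660) (iv5 F155795) F361727 F361729 D204903 F383694 (iv4 D101506)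
theorem F434091 : act 4 n204903 = n198919 := d17_9 (iv1 D198919) F332154 (iv1 D82450) D82451 (iv4 F347466) (iv5 D128844) D128843 F361729 D204903
theorem F434092 : act 3 n200660 = n204903 := d19_19 (iv1 D204903) (iv5 F361729) (iv4 F361727) F156045 (iv1 F156046) F156039 (iv4 F305177) (iv3 F190381) (iv1 D18646) D18647 D39312 D85010 F334036 (iv5 D178285) D178284 (iv3 F355926) (iv1 F395111) (iv5 F395112) (iv4 F417382)
theorem F434093 : act 6 n204903 = n180364 := d7_2 F417384 F434092 (iv3 F341795)
def n204904 : Q := act 6 n124651
theorem D204904 : act 6 n124651 = n204904 := rfl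
theorem F434094 : act 3 n204904 = n125582 := d7_1 D204904 F363257 (iv3 F341642)
theorem F434095 : act 4 n204904 = n124653 := d10_1 D204904 (iv6 D124653) D124651
theorem F434096 : act 7 n204904 = n200518 := d14_2 F383875 D204904 (iv6 F416832) (iv7 F342129) (iv6 F383874)
theorem F434097 : act 0 n176525 = n204904 := d21_4 F329445 (iv1 F303743) F303745 (iv6 F275834) (iv6 D204904) (iv5 F361729) (iv1 D128843) D128844 F347467 (iv1 F329443)
theorem F434098 : act 1 n198916 = n204904 := d15_0 (iv0 F434097) (iv7 F414883) F414882
def n204905 : Q := act 5 n124653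
theorem D204905 : act 5 n124653 = n204905 := rfl
theorem F434099 : act 2 n204905 = n152467 := d2_1 D204905 (iv5 F434081) F434079
theorem F434100 : act 3 n204905 = n147050 := d6_1 D204905 F354868 (iv3 F354867)
theorem F434101 : act 6 n204905 = n145753 := d12_2 D124653 D204905 F228889 (iv6 F336445) (iv5 D124652)
theorem F434102 : act 7 n204905 = n147367 := d13_2 F347455 D204905 F343321
theorem F434103 : act 0 n204905 = n152465 := d17_2 (iv1 F354869) D204905 F353623 (iv4 D113223) D113224 F416931 F416929 F342089 (iv4 D175943)
theorem F434104 : act 4 n204905 = n151425 := d17_4 (iv1 D83958) D83959 (iv1 F354869) D204905 (iv5 F392363) F392361 F355836 F353838 (iv4 F334786)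
theorem F434105 : act 1 n204905 = n147628 := d17_8 F347777 F376816 (iv1 D189528) F144857 F342083 (iv5 F414839) F414843 D204905 (iv4 F347774)
def n204906 : Q := act 4 n124655
theorem D204906 : act 4 n124655 = n204906 := rfl
theorem F434106 : act 2 n204906 = n204308 := d1_1 D204906 F431982 (iv2 F406369)
theorem F434107 : act 3 n204906 = n140413 := d5_1 D204906 F365118 (iv3 F347461) (iv4 D124656) D124655
theorem F434108 : act 6 n204906 = n177460 := d10_2 (iv6 F363188) D204906 (iv4 F346372)
theorem F434109 : act 5 n204906 = n178518 := d16_1 D204906 (iv4 D178518) D178519 F278193 (iv5 D149220) F185062 D178538 F406371 (iv2 F406369)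
theorem F434110 : act 0 n204906 = n180690 := d18_2 (iv1 F406373) D204906 F281223 (iv5 F337705) (iv4 F261794) (iv0 F261795) F425369 F425366 F352221
theorem F434111 : act 1 n204906 = n203949 := d18_6 F331710 (iv4 F331708) (iv1 F278232) (iv4 D178534) (iv5 F363189) D204906 (iv4 D203949) (iv0 D121711) (iv5 F319972)
def n204907 : Q := act 5 n124670
theorem D204907 : act 5 n124670 = n204907 := rfl
theorem F434112 : act 2 n204907 = n149115 := d2_1 D204907 (iv5 D149115) (iv2 F302796)
theorem F434113 : act 3 n204907 = n124672 := d6_1 D204907 (iv5 D124672) (iv3 F199433)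
theorem F434114 : act 7 n204907 = n154557 := d13_2 F199435 D204907 (iv5 D154557)
def n204908 : Q := act 5 n124671
theorem D204908 : act 5 n124671 = n204908 := rfl
theorem F434115 : act 2 n204908 = n153371 := d2_1 D204908 (iv5 D153371) (iv2 F199436)
theorem F434116 : act 6 n204908 = n124672 := d12_2 D124671 D204908 (iv5 D124672) (iv6 D58261) D58260
theorem F434117 : act 0 n204908 = n189786 := d18_0 (iv4 D189786) (iv1 F358587) F242464 F109623 (iv4 F109619) F206353 (iv4 F392160) F392162 D204908
def n204909 : Q := act 4 n124676
theorem D204909 : act 4 n124676 = n204909 := rfl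
theorem F434118 : act 2 n204909 = n153938 := d1_1 D204909 (iv4 D153938) (iv2 F199441)
theorem F434119 : act 6 n204909 = n141900 := d10_2 (iv6 F393088) D204909 (iv4 F393091)
theorem F434120 : act 7 n204909 = n204409 := d11_2 F394189 D204909 F432431
theorem F434121 : act 5 n204909 = n156581 := d16_1 D204909 (iv4 D156581) (iv5 D74454) F53632 D34157 F312242 D124777 F200447 (iv2 F199441)
theorem F434122 : act 0 n204909 = n184551 := d18_2 (iv1 F366751) D204909 (iv4 D184551) (iv5 D88006) F309278 (iv0 F308474) F61025 D40903 D87792
theorem F434123 : act 1 n204909 = n184556 := d18_6 (iv1 F90831) F314458 (iv1 F312244) F94584 D124676 D204909 (iv4 D184556) (iv0 F306664) F90871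
def n204910 : Q := act 5 n124678
theorem D204910 : act 5 n124678 = n204910 := rfl
theorem F434124 : act 2 n204910 = n153944 := d2_1 D204910 (iv5 D153944) (iv2 F199447)
theorem F434125 : act 4 n204910 = n204554 := d9_1 D204910 F432850 F395889 F321200 (iv4 D61448) D61449 F315057 D204626 F433051 F432852 F371452 F317740 (iv4 D61453) D61454 (iv4 F312101)
theorem F434126 : act 6 n204910 = n201201 := d12_2 D124678 D204910 (iv5 D201201) (iv6 D114111) F92113
theorem F434127 : act 0 n204910 = n184035 := d17_2 (iv1 F312100) D204910 (iv5 D184035) (iv4 F311279) F217636 F212508 F319566 F317263 D135348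
theorem F434128 : act 4 n134941 = n204558 := d20_6 (iv4 F434125) F434127 (iv4 F338858) F217604 (iv1 F217535) (iv3 F217537) (iv1 D204558) (iv4 F432854) (iv3 D204556) D204554
def n204911 : Q := act 5 n124681
theorem D204911 : act 5 n124681 = n204911 := rfl
theorem F434129 : act 4 n204911 = n173834 := d9_1 D204911 (iv5 D173834) (iv4 D83128) (iv5 D38267) D38266 D83126 (iv4 F318022) D204252 F431682 (iv5 D173825) (iv4 D83121) (iv5 D38262) D38261 D83117 (iv4 F318025)
theorem F434130 : act 0 n204911 = n173857 := d17_2 (iv1 F318024) D204911 F312378 F310110 (iv5 D78192) (iv0 D35647) D35650 D78199 D162730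
theorem F434131 : act 1 n204911 = n173813 := d17_6 F314372 (iv5 F315037) F121253 D83117 (iv4 F318025) D204911 (iv5 D173813) F301369 (iv4 D75695)
def n204912 : Q := act 1 n124682
theorem D204912 : act 1 n124682 = n204912 := rfl
theorem F434132 : act 7 n204912 = n158864 := d15_2 (iv0 F431702) D204912 F431701
theorem F434133 : act 5 n204912 = n157994 := d17_7 F300788 (iv5 D45893) D45891 (iv5 F317246) F94819 D124682 D204912 (iv0 F310299) F310301
theorem F434134 : act 4 n204912 = n158812 := d17_9 (iv1 F417654) F417651 F193038 D173825 (iv4 F431682) (iv5 D204252) F235761 D124682 D204912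
theorem F434135 : act 6 n189907 = n204912 := d21_3 F354449 F159079 D189907 (iv1 D204912) (iv6 F419876) (iv5 D201289) F251382 F352978 (iv6 F388050) F388052
theorem F434136 : act 2 n204912 = n158696 := d3_1 F434135 F356147 (iv2 F378184)
theorem F434137 : act 3 n204912 = n192235 := d7_1 F434135 F386145 (iv3 F378185)
def n204913 : Q := act 0 n124686
theorem D204913 : act 0 n124686 = n204913 := rfl
theorem F434138 : act 4 n204913 = n128174 := d18_3 (iv1 F321899) (iv4 F327052) D204913 (iv5 D128174) F94806 D72967 D154102 (iv0 F330644) (iv5 D107658)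
theorem F434139 : act 2 n154105 = n204913 := d1_3 F434138 (iv2 F241894) (iv4 F362135)
theorem F434140 : act 6 n128178 = n204913 := d10_0 F434138 F206310 D128178
theorem F434141 : act 0 n204913 = n124940 := d20_7 (iv4 D39611) (iv1 F29989) D18803 D39767 D85988 (iv3 F341256) (iv4 F434138) F200671 (iv3 D58413) (iv1 F60479)
theorem F434142 : act 7 n154106 = n204913 := d15_2 (iv0 D154105) D154106 (iv2 F434139)
def n204914 : Q := act 1 n124686
theorem D204914 : act 1 n124686 = n204914 := rfl
theorem F434143 : act 1 n204914 = n124940 := d15_1 D204914 F327054 (iv2 F199455)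
theorem F434144 : act 7 n204914 = n154105 := d15_2 (iv0 D204913) D204914 F434139
theorem F434145 : act 5 n153642 = n204914 := d21_0 (iv1 D204914) (iv5 D124686) (iv6 D58267) (iv1 F52726) D72430 D153308 (iv1 F426496) (iv5 D202983) (iv6 F353933) F360537
theorem F434146 : act 3 n204914 = n138295 := d6_1 F434145 F348678 (iv3 F348681)
theorem F434147 : act 2 n154106 = n204914 := d4_3 F434144 F434139 (iv7 F434142)
def n204915 : Q := act 7 n124686
theorem D204915 : act 7 n124686 = n204915 := rfl
theorem F434148 : act 2 n204915 = n124940 := d4_1 D204915 F327054 (iv2 F199455)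
theorem F434149 : act 4 n204915 = n124964 := d11_1 D204915 F200695 (iv4 F327052)
theorem F434150 : act 5 n204915 = n124687 := d13_1 D204915 (iv7 D124687) D124686
theorem F434151 : act 1 n154106 = n204915 := d15_1 D154106 (iv7 D204915) F199455
theorem F434152 : act 1 n204915 = n154105 := d15_1 F434151 (iv7 F434144) (iv2 F434147)
def n204916 : Q := act 6 n124691
theorem D204916 : act 6 n124691 = n204916 := rfl
theorem F434153 : act 2 n204916 = n154123 := d3_1 D204916 (iv6 D154123) (iv2 F199469)
theorem F434154 : act 3 n204916 = n137240 := d7_1 D204916 (iv6 F427276) F427275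
theorem F434155 : act 5 n204916 = n194731 := d12_1 D204916 F394283 F351799 (iv6 F310130) D124691
def n204917 : Q := act 7 n124699
theorem D204917 : act 7 n124699 = n204917 := rfl
theorem F434156 : act 2 n204917 = n124710 := d4_1 D204917 (iv7 D124710) (iv2 F199491)
theorem F434157 : act 3 n204917 = n124731 := d8_1 D204917 F199576 (iv3 F199492)
theorem F434158 : act 5 n204917 = n124700 := d13_1 D204917 (iv7 D124700) D124699
theorem F434159 : act 6 n204917 = n124710 := d14_1 D204917 (iv7 D124710) (iv6 F106283) (iv7 F106778) (iv6 F199493)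
theorem F434160 : act 1 n124708 = n204917 := d15_1 D124708 (iv7 D204917) F199491
theorem F434161 : act 1 n204917 = n124707 := d15_1 F434160 (iv7 F241357) F241353
def n204918 : Q := act 1 n124701
theorem D204918 : act 1 n124701 = n204918 := rfl
theorem F434162 : act 1 n204918 = n186676 := d15_1 D204918 F367636 F304377
theorem F434163 : act 7 n204918 = n160099 := d15_2 (iv0 F366929) D204918 F252680
theorem F434164 : act 4 n204918 = n197180 := d18_7 F371164 (iv4 D187674) (iv1 F371163) (iv4 F371127) (iv5 D124712) (iv4 F199505) D204918 F403419 (iv5 F349318)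
theorem F434165 : act 3 n133672 = n204918 := d20_3 (iv4 F403382) (iv1 D197170) (iv4 F215095) (iv1 D204918) F199504 F92145 D58285 F191109 D69977 D149111
theorem F434166 : act 2 n204918 = n175485 := d0_1 F434165 (iv3 D175485) F348223 (iv3 F348266) F348265
theorem F434167 : act 6 n204918 = n133671 := d7_2 D133672 F434165 (iv3 D133671)
theorem F434168 : act 5 n192554 = n204918 := d2_0 F434166 F348236 (iv2 F387048)
def n204919 : Q := act 5 n124701
theorem D204919 : act 5 n124701 = n204919 := rfl
theorem F434169 : act 3 n204919 = n124702 := d6_1 D204919 (iv5 D124702) (iv3 F199504)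
theorem F434170 : act 6 n204919 = n191964 := d12_2 D124701 D204919 (iv5 D191964) (iv6 D99413) (iv5 F92141)
theorem F434171 : act 4 n204919 = n191964 := d16_2 (iv4 F199505) D204919 (iv5 D191964) F153122 D100345 F367641 (iv5 D186677) (iv7 F301614) F197495
theorem F434172 : act 1 n204919 = n192556 := d17_8 (iv1 D100388) (iv5 D46852) F72173 D97993 D191307 (iv5 F382980) (iv0 F366929) D204919 (iv4 D192556)
theorem F434173 : act 0 n204919 = n192253 := d18_0 (iv4 D192253) (iv1 F382967) F382965 (iv5 D153879) (iv4 F241758) F376314 F376312 (iv0 F366929) D204919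
def n204920 : Q := act 0 n124702
theorem D204920 : act 0 n124702 = n204920 := rfl
theorem F434174 : act 6 n204920 = n193568 := d21_5 (iv5 D47485) F290156 D99416 (iv6 F199507) D204920 F390307 F390999 (iv5 F390997) (iv6 D193780) (iv1 D102323)
theorem F434175 : act 2 n175524 = n204920 := d15_3 (iv0 D204920) (iv0 F338132) F338130
theorem F434176 : act 1 n192957 = n204920 := d15_0 (iv0 D204920) (iv7 F365484) (iv2 F388332)
theorem F434177 : act 7 n204920 = n192955 := d15_2 F388336 F434176 F388329
theorem F434178 : act 3 n204920 = n192814 := d0_2 D175524 F434175 (iv2 F387880) (iv3 D101930) F338106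
def n204921 : Q := act 4 n124702
theorem D204921 : act 4 n124702 = n204921 := rfl
theorem F434179 : act 2 n204921 = n192956 := d1_1 D204921 (iv4 D192956) (iv2 F199506)
theorem F434180 : act 3 n204921 = n137643 := d5_1 D204921 (iv4 F346031) (iv3 F385024) (iv4 F434171) F434169
theorem F434181 : act 6 n204921 = n137643 := d10_2 (iv6 F199507) D204921 (iv4 F346031)
theorem F434182 : act 7 n204921 = n202275 := d11_2 F365484 D204921 (iv4 F423443)
theorem F434183 : act 0 n204921 = n149137 := d18_2 F338132 D204921 (iv4 D149137) D149138 (iv4 F241370) (iv0 F242771) (iv4 F234296) (iv0 F234297) (iv5 F338072)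
theorem F434184 : act 5 n204921 = n137642 := d18_4 F390301 (iv4 D193566) F338132 D204921 F220801 (iv0 F428506) (iv4 F428504) (iv0 F428505) F393215
theorem F434185 : act 1 n204921 = n149142 := d18_6 (iv1 F106342) (iv4 F191119) (iv1 D58286) (iv4 F92145) D124702 D204921 (iv4 D149142) (iv0 F363007) F363010
def n204922 : Q := act 6 n124707
theorem D204922 : act 6 n124707 = n204922 := rfl
theorem F434186 : act 2 n204922 = n143046 := d3_1 D204922 F316978 (iv2 F199525)
theorem F434187 : act 3 n204922 = n142625 := d7_1 D204922 F356835 F199516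
theorem F434188 : act 4 n204922 = n149232 := d10_1 D204922 (iv6 D149232) (iv4 F199515)
theorem F434189 : act 5 n204922 = n147230 := d12_1 D204922 F242768 D154639 (iv6 F242762) F241371
theorem F434190 : act 7 n204922 = n143027 := d14_2 F241357 D204922 (iv6 D143027) (iv7 F225631) F346221
theorem F434191 : act 0 n204922 = n143044 := d21_4 F242058 F242771 F241371 D204922 (iv6 F364504) (iv5 D170568) (iv1 F300253) (iv5 F346214) (iv6 D154887) (iv1 F242060)
theorem F434192 : act 0 n143041 = n204922 := d21_4 F205119 F182490 (iv5 F180130) D143041 (iv6 D204922) (iv5 F241371) (iv1 F428069) F428071 (iv6 F346212) (iv1 F205120)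
def n204923 : Q := act 5 n124709
theorem D204923 : act 5 n124709 = n204923 := rfl
theorem F434193 : act 2 n204923 = n200217 := d2_1 D204923 F415558 (iv2 F234598)
theorem F434194 : act 3 n204923 = n164464 := d6_1 D204923 (iv5 D164464) (iv3 F199526)
theorem F434195 : act 6 n204923 = n190582 := d12_2 (iv6 F199527) D204923 (iv5 D190582) (iv6 D96216) (iv5 F120156)
theorem F434196 : act 0 n204923 = n203485 := d17_2 F234431 D204923 F428502 (iv4 D149057) (iv5 D69914) (iv0 D32465) D32467 D69921 D149065
theorem F434197 : act 4 n204923 = n193691 := d18_5 (iv1 F158911) (iv4 F199520) (iv1 D124708) D124709 D204923 (iv0 D193691) (iv4 D102238) D102236 F337145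
def n204924 : Q := act 3 n124715
theorem D204924 : act 3 n124715 = n204924 := rfl
theorem F434198 : act 4 n204924 = n150105 := d5_2 F347337 D204924 F236233 F231476 (iv3 F347336)
theorem F434199 : act 5 n204924 = n158968 := d6_2 (iv5 F347342) D204924 (iv3 F360768)
theorem F434200 : act 6 n204924 = n202900 := d7_2 (iv6 F361779) D204924 (iv3 F426112)
theorem F434201 : act 7 n204924 = n153984 := d8_2 (iv7 F347347) D204924 (iv3 D153984)
theorem F434202 : act 0 n204924 = n158935 := d20_10 (iv4 D158935) (iv1 D75850) D75851 D158938 F347362 F238434 (iv4 F403056) F403058 F347337 D204924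
theorem F434203 : act 0 n158933 = n204924 := d20_4 (iv4 F380513) (iv1 F380515) F377976 (iv3 F361768) (iv3 D204924) (iv4 F347337) (iv1 D128144) F94793 (iv3 F109580) D154190
def n204925 : Q := act 3 n124724
theorem D204925 : act 3 n124724 = n204925 := rfl
theorem F434204 : act 2 n204925 = n191549 := d0_1 D204925 F397621 (iv2 F397619) F242347 (iv2 F240982)
theorem F434205 : act 5 n204925 = n192634 := d6_2 F240981 D204925 (iv3 F387289)
theorem F434206 : act 7 n204925 = n154014 := d8_2 F240983 D204925 (iv3 D154014)
theorem F434207 : act 0 n186689 = n204925 := d20_4 D193356 F389561 (iv4 D186691) (iv3 F367684) (iv3 D204925) (iv4 F242338) (iv1 D154233) (iv4 D73076) F306913 (iv1 F156316)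
theorem F434208 : act 1 n191547 = n204925 := d15_0 (iv0 F434207) F367685 (iv2 F383760)
def n204926 : Q := act 3 n124725
theorem D204926 : act 3 n124725 = n204926 := rfl
theorem F434209 : act 0 n204926 = n188795 := d20_10 (iv4 D188795) (iv1 F335790) D187495 (iv3 F398204) (iv1 F398207) F396465 F242338 (iv1 D124724) D124725 D204926
theorem F434210 : act 1 n204926 = n188781 := d15_1 (iv0 F434209) F374856 (iv2 F374931)
def n204927 : Q := act 5 n124729
theorem D204927 : act 5 n124729 = n204927 := rfl
theorem F434211 : act 2 n204927 = n142854 := d2_1 D204927 (iv5 D142854) (iv2 F320223)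
theorem F434212 : act 3 n204927 = n201525 := d6_1 D204927 (iv5 D201525) F199570
theorem F434213 : act 7 n204927 = n154053 := d13_2 (iv7 F199568) D204927 (iv5 D154053)
theorem F434214 : act 0 n204927 = n187793 := d17_2 (iv1 F199571) D204927 F371516 (iv4 F315741) F315742 F241538 F241537 F206238 (iv4 F206237)
theorem F434215 : act 1 n204927 = n201521 := d17_6 (iv1 F109385) (iv5 F200526) F200525 (iv5 F190134) D124729 D204927 F420847 F339634 (iv4 D72923)
def n204928 : Q := act 6 n124734
theorem D204928 : act 6 n124734 = n204928 := rfl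
theorem F434216 : act 2 n204928 = n197468 := d3_1 D204928 (iv6 D197468) F311289
theorem F434217 : act 3 n204928 = n124740 := d7_1 D204928 (iv6 D124740) (iv3 F199602)
theorem F434218 : act 5 n204928 = n203790 := d12_1 D204928 (iv6 D203790) F199606 (iv6 D124735) D124734
theorem F434219 : act 0 n204928 = n201425 := d21_4 (iv5 D71312) (iv1 F232422) D124734 D204928 (iv6 F428229) F428228 F314160 (iv5 F321155) (iv6 D139003) (iv1 F313647)
theorem F434220 : act 0 n201494 = n204928 := d21_4 (iv5 F393269) F393272 D201519 F420837 (iv6 D204928) (iv5 D124734) F314615 (iv5 D65285) D65286 D139087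
def n204929 : Q := act 6 n124745
theorem D204929 : act 6 n124745 = n204929 := rfl
theorem F434221 : act 3 n204929 = n124747 := d7_1 D204929 (iv6 D124747) D124745
theorem F434222 : act 4 n204929 = n203835 := d10_1 D204929 F430032 F206388
def n204930 : Q := act 5 n124759
theorem D204930 : act 5 n124759 = n204930 := rfl
theorem F434223 : act 3 n204930 = n124760 := d6_1 D204930 (iv5 D124760) D124759
theorem F434224 : act 7 n204930 = n203979 := d13_2 (iv7 F405289) D204930 F430689
theorem F434225 : act 0 n204930 = n198125 := d17_2 F332971 D204930 F406923 F406548 F404218 (iv0 D156009) D156013 (iv0 F349772) (iv4 F332966)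
def n204931 : Q := act 6 n124760
theorem D204931 : act 6 n124760 = n204931 := rfl
theorem F434226 : act 2 n204931 = n124883 := d3_1 D204931 (iv6 D124883) (iv2 F200389)
theorem F434227 : act 5 n204931 = n153179 := d12_1 D204931 (iv6 D153179) (iv5 D72296) (iv6 F92184) D124760
def n204932 : Q := act 6 n124761
theorem D204932 : act 6 n124761 = n204932 := rfl
theorem F434228 : act 2 n204932 = n124885 := d3_1 D204932 (iv6 D124885) (iv2 F200390)
theorem F434229 : act 3 n204932 = n181155 := d7_1 D204932 (iv6 F405288) F405286
theorem F434230 : act 4 n204932 = n124762 := d10_1 D204932 (iv6 D124762) (iv4 F200391)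
theorem F434231 : act 5 n204932 = n181154 := d12_1 D204932 F282171 (iv5 F430684) F432456 F432452
theorem F434232 : act 7 n204932 = n147065 := d14_2 D124761 D204932 F230544 F105134 (iv6 F92184)
theorem F434233 : act 1 n142159 = n204932 := d15_1 (iv0 F322972) F434232 F230543
theorem F434234 : act 1 n204932 = n147904 := d15_1 F434233 (iv7 F363745) (iv2 F363747)
def n204933 : Q := act 4 n124777
theorem D204933 : act 4 n124777 = n204933 := rfl
theorem F434235 : act 2 n204933 = n204409 := d1_1 D204933 F432431 (iv2 F394187)
theorem F434236 : act 3 n204933 = n187563 := d5_1 D204933 F370822 F345022 (iv4 D157403) (iv3 F313361)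
theorem F434237 : act 5 n204933 = n204578 := d9_2 D124777 D204933 F432933 (iv5 D138752) F100927 (iv5 F312246) F94584 D124676 D204909 F434121 (iv4 D156581) (iv5 D74454) F53632 D34157 F312242
theorem F434238 : act 7 n204933 = n153938 := d11_2 (iv7 F200447) D204933 (iv4 D153938)
theorem F434239 : act 0 n204933 = n184556 := d17_0 (iv5 F412331) F412332 F350384 (iv4 D87796) (iv5 D40904) D40903 D87792 (iv0 F310400) D204933
theorem F434240 : act 1 n204933 = n184551 := d18_6 D57660 (iv4 F90838) (iv1 F312241) F312242 D124777 D204933 (iv4 D184551) (iv0 F306662) (iv5 D57662)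
theorem F434241 : act 6 n187562 = n204933 := d21_9 (iv5 F412331) F412332 F350384 F134770 F294319 D103847 (iv5 F371748) F394077 F394075 F434239
def n204934 : Q := act 6 n124777
theorem D204934 : act 6 n124777 = n204934 := rfl
theorem F434242 : act 3 n204934 = n157404 := d7_1 D204934 (iv6 D157404) (iv3 F313361)
theorem F434243 : act 4 n204934 = n187562 := d10_1 D204934 F434241 (iv4 D204933)
theorem F434244 : act 5 n204934 = n154559 := d12_1 D204934 (iv6 D154559) (iv5 D73258) (iv6 F199701) D124777
theorem F434245 : act 7 n204934 = n188105 := d14_2 (iv7 F200447) D204934 F393082 (iv7 F393078) F240937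
def n204935 : Q := act 5 n124779
theorem D204935 : act 5 n124779 = n204935 := rfl
theorem F434246 : act 2 n204935 = n124780 := d2_1 D204935 (iv5 D124780) D124779
theorem F434247 : act 3 n204935 = n191747 := d6_1 D204935 (iv5 D191747) (iv3 F200449)
theorem F434248 : act 7 n204935 = n192588 := d13_2 (iv7 F354630) D204935 F387182
theorem F434249 : act 0 n204935 = n191379 := d17_2 (iv1 F354628) D204935 (iv5 D191379) F151558 (iv5 F321379) F47278 F317260 F315053 F312103
theorem F434250 : act 4 n204935 = n197595 := d18_5 F311808 (iv4 F197997) F357807 (iv4 F354629) D204935 F405075 F405072 (iv0 D123968) (iv5 D57752)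
def n204936 : Q := act 1 n124780
theorem D204936 : act 1 n124780 = n204936 := rfl
theorem F434251 : act 1 n204936 = n192588 := d15_1 D204936 (iv7 F434248) F434246
theorem F434252 : act 7 n204936 = n191379 := d15_2 (iv0 F433066) D204936 (iv2 F433061)
theorem F434253 : act 5 n204936 = n132770 := d17_7 (iv1 F217573) (iv5 D135340) (iv1 F207233) F357873 F200428 D124780 D204936 (iv0 F338852) F338854
theorem F434254 : act 4 n204936 = n204526 := d18_7 F395891 F395889 F321198 F217591 (iv5 F405077) F405078 D204936 (iv0 D204526) F366658
theorem F434255 : act 3 n204936 = n192650 := d20_3 D123970 D204526 (iv4 F434254) (iv1 F387355) (iv3 D100508) D100509 F332984 F332982 (iv3 F153245) F306300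
def n204937 : Q := act 6 n124780
theorem D204937 : act 6 n124780 = n204937 := rfl
theorem F434256 : act 3 n204937 = n124785 := d7_1 D204937 (iv6 D124785) (iv3 F200450)
def n204938 : Q := act 7 n124785
theorem D204938 : act 7 n124785 = n204938 := rfl
theorem F434257 : act 4 n204938 = n140727 := d11_1 D204938 (iv7 F407619) F407620
theorem F434258 : act 1 n202466 = n204938 := d15_1 (iv0 F424120) (iv7 D204938) F366813
theorem F434259 : act 1 n204938 = n136557 := d15_1 F434258 F358533 (iv2 F424116)
def n204939 : Q := act 5 n124791
theorem D204939 : act 5 n124791 = n204939 := rfl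
theorem F434260 : act 3 n204939 = n193063 := d6_1 D204939 F388631 (iv3 F351351)
theorem F434261 : act 4 n204939 = n184568 := d9_1 D204939 (iv5 D184568) (iv4 D88015) (iv5 D41085) (iv4 F60999) (iv5 F304644) D124789 (iv5 F405550) (iv4 F412643) F412642 F386084 F153796 (iv4 F302081) (iv5 F190641) D124791
theorem F434262 : act 7 n204939 = n178901 := d13_2 (iv7 F200459) D204939 (iv5 D178901)
theorem F434263 : act 0 n204939 = n156608 := d17_2 (iv1 F366611) D204939 (iv5 D156608) (iv4 D74469) (iv5 F245845) (iv0 D74381) (iv5 D34117) D34115 D74376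
theorem F434264 : act 1 n204939 = n156615 := d17_6 D58320 F306657 F304642 (iv5 F190641) D124791 D204939 (iv5 D156615) (iv0 F312321) (iv4 D58322)
def n204940 : Q := act 2 n124794
theorem D204940 : act 2 n124794 = n204940 := rfl
theorem F434265 : act 4 n204940 = n196414 := d1_2 (iv4 F312826) D204940 F400632
theorem F434266 : act 1 n204940 = n193268 := d15_0 F389365 (iv7 F312827) D204940
theorem F434267 : act 5 n192644 = n204940 := d17_5 D99370 (iv5 F310427) (iv1 F198464) (iv5 F310431) D192644 F434266 (iv5 F389348) (iv0 D191950) (iv4 D99371)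
def n204941 : Q := act 5 n124794
theorem D204941 : act 5 n124794 = n204941 := rfl
theorem F434268 : act 2 n204941 = n192644 := d2_1 D204941 F434267 (iv2 D204940)
theorem F434269 : act 3 n204941 = n124795 := d6_1 D204941 (iv5 D124795) D124794
theorem F434270 : act 7 n204941 = n192642 := d13_2 (iv7 F312827) D204941 (iv5 F387332)
theorem F434271 : act 0 n204941 = n192006 := d17_2 F404407 D204941 F385173 (iv4 D107017) D107018 (iv0 F400731) F400729 D197453 (iv4 F404404)
theorem F434272 : act 4 n204941 = n161574 := d17_4 D100511 D192681 F404407 D204941 (iv5 D161574) (iv0 F310437) F272728 (iv0 D46890) D46892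
theorem F434273 : act 1 n204941 = n192009 := d17_8 (iv1 F357955) (iv5 D154173) (iv1 F311760) F136837 F155366 D192684 (iv0 F387463) D204941 (iv4 D192009)
theorem F434274 : act 6 n204941 = n187993 := d21_3 D192681 F404407 D204941 (iv1 D187993) (iv6 D90717) (iv5 D42465) D42462 (iv5 F293364) (iv6 F74095) D100511
def n204942 : Q := act 6 n124794
theorem D204942 : act 6 n124794 = n204942 := rfl
theorem F434275 : act 3 n204942 = n124796 := d7_1 D204942 (iv6 D124796) D124794
def n204943 : Q := act 6 n124795
theorem D204943 : act 6 n124795 = n204943 := rfl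
theorem F434276 : act 2 n204943 = n194557 := d3_1 D204943 (iv6 F393685) (iv2 F312830)
theorem F434277 : act 3 n204943 = n187993 := d7_1 D204943 (iv6 F434274) F434269
theorem F434278 : act 7 n204943 = n153757 := d14_2 (iv7 F312831) D204943 (iv6 D153757) (iv7 F241261) F345112
theorem F434279 : act 1 n194460 = n204943 := d15_1 F411215 F434278 (iv2 F411211)
theorem F434280 : act 1 n204943 = n194559 := d15_1 F434279 (iv7 D194559) (iv2 F393302)
def n204944 : Q := act 1 n124796
theorem D204944 : act 1 n124796 = n204944 := rfl
theorem F434281 : act 1 n204944 = n140590 := d15_1 D204944 F363147 (iv2 F312832)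
theorem F434282 : act 4 n204944 = n127554 := d18_7 F341059 (iv4 F350022) (iv1 F379167) F379169 (iv5 D124799) (iv4 F200462) D204944 F328586 (iv5 F341061)
theorem F434283 : act 2 n145149 = n204944 := d1_3 F434282 F243165 D145149
theorem F434284 : act 6 n140563 = n204944 := d10_0 F434282 F339614 (iv4 F363685)
def n204945 : Q := act 5 n124796
theorem D204945 : act 5 n124796 = n204945 := rfl
theorem F434285 : act 2 n204945 = n202609 := d2_1 D204945 F424728 (iv2 F312832)
theorem F434286 : act 4 n204945 = n194627 := d9_1 D204945 F393867 (iv4 F321387) (iv5 D103753) (iv4 F159188) D194542 (iv4 F393662) (iv5 F411095) F411094 F393871 (iv4 F231450) F379171 F379169 (iv5 D124799) (iv4 F200462)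
theorem F434287 : act 7 n204945 = n202610 := d16_8 F411094 F393871 (iv4 F231450) F379171 F379169 (iv5 D124799) (iv4 F200462) D204945 F424736
theorem F434288 : act 0 n204945 = n202611 := d17_2 (iv1 D204944) D204945 F424740 F180893 (iv5 F180987) F315940 (iv5 D138534) (iv0 F312810) (iv4 F434282)
theorem F434289 : act 1 n204945 = n188434 := d17_6 (iv1 F231206) (iv5 F250378) (iv1 F250381) (iv5 D124799) (iv4 F200462) D204945 F373458 (iv0 F350020) F243409
def n204946 : Q := act 7 n124796
theorem D204946 : act 7 n124796 = n204946 := rfl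
theorem F434290 : act 2 n204946 = n140590 := d4_1 D204946 F363147 (iv2 F312832)
theorem F434291 : act 4 n204946 = n124800 := d11_1 D204946 (iv7 D124800) (iv4 F200462)
theorem F434292 : act 5 n204946 = n202610 := d13_1 D204946 (iv7 F434287) (iv5 D204945)
theorem F434293 : act 6 n204946 = n140568 := d14_1 D204946 F342411 (iv6 F342409) F312817 D124796
theorem F434294 : act 1 n145149 = n204946 := d15_1 (iv0 F366695) (iv7 D204946) F312832
def n204947 : Q := act 4 n124797
theorem D204947 : act 4 n124797 = n204947 := rfl
theorem F434295 : act 2 n204947 = n178949 := d1_1 D204947 (iv4 D178949) F243053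
theorem F434296 : act 3 n204947 = n202142 := d5_1 D204947 (iv4 D202142) (iv3 F349442) (iv4 D178672) (iv3 F243070)
theorem F434297 : act 6 n204947 = n154695 := d10_2 F231178 D204947 (iv4 D154695)
theorem F434298 : act 7 n204947 = n199165 := d11_2 F231194 D204947 F410964
theorem F434299 : act 5 n204947 = n196971 := d16_1 D204947 F402488 (iv5 D109693) (iv4 F81610) F337310 D95474 F337317 (iv7 F243055) F243053
theorem F434300 : act 0 n204947 = n199162 := d17_0 (iv5 D199162) F393864 (iv5 F424845) F424844 (iv5 F250378) F335117 D194542 F393661 D204947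
theorem F434301 : act 1 n204947 = n156365 := d18_6 F315261 F58275 D44599 D95469 F337298 D204947 F245730 (iv0 F341073) (iv5 D68039)
def n204948 : Q := act 4 n124798
theorem D204948 : act 4 n124798 = n204948 := rfl
theorem F434302 : act 2 n204948 = n199165 := d1_1 D204948 F410964 F231193
theorem F434303 : act 6 n204948 = n202491 := d10_2 (iv6 F243044) D204948 F424236
theorem F434304 : act 7 n204948 = n178949 := d11_2 F243055 D204948 (iv4 D178949)
theorem F434305 : act 0 n204948 = n156365 := d17_0 (iv5 F363389) (iv1 F407794) (iv5 F424861) F424862 (iv5 F242594) (iv0 F242596) (iv5 D124799) D124798 D204948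
theorem F434306 : act 1 n204948 = n199162 := d18_6 F315260 (iv4 F316809) (iv1 F70644) D95474 F337317 D204948 F410953 F245763 F341028
def n204949 : Q := act 6 n124808
theorem D204949 : act 6 n124808 = n204949 := rfl
theorem F434307 : act 3 n204949 = n124810 := d7_1 D204949 (iv6 D124810) D124808
theorem F434308 : act 4 n204949 = n124820 := d10_1 D204949 (iv6 D124820) (iv4 F200480)
theorem F434309 : act 5 n204949 = n192629 := d12_1 D204949 (iv6 D192629) (iv5 D100457) (iv6 F154485) F338889
theorem F434310 : act 7 n204949 = n191756 := d14_2 (iv7 F200481) D204949 (iv6 D191756) F281958 F363202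
def n204950 : Q := act 5 n124814
theorem D204950 : act 5 n124814 = n204950 := rfl
theorem F434311 : act 2 n204950 = n145583 := d2_1 D204950 (iv5 D145583) (iv2 F342425)
theorem F434312 : act 3 n204950 = n124831 := d6_1 D204950 (iv5 D124831) (iv3 F200487)
theorem F434313 : act 6 n204950 = n124817 := d12_2 D124814 D204950 (iv5 D124817) (iv6 D58358) D58357
theorem F434314 : act 4 n204950 = n140658 := d16_2 F397216 D204950 F405734 F227562 F222745 (iv4 F163991) D195521 F397206 (iv2 F397213)
def n204951 : Q := act 6 n124819
theorem D204951 : act 6 n124819 = n204951 := rfl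
theorem F434315 : act 2 n204951 = n192589 := d3_1 D204951 (iv6 D192589) (iv2 F338895)
theorem F434316 : act 3 n204951 = n124822 := d7_1 D204951 (iv6 D124822) (iv3 F200490)
theorem F434317 : act 4 n204951 = n179764 := d10_1 D204951 (iv6 D179764) (iv4 F338886)
def n204952 : Q := act 5 n124820
theorem D204952 : act 5 n124820 = n204952 := rfl
theorem F434318 : act 2 n204952 = n204011 := d2_1 D204952 F431628 F431625
theorem F434319 : act 3 n204952 = n124825 := d6_1 D204952 (iv5 D124825) (iv3 F200491)
theorem F434320 : act 7 n204952 = n191759 := d13_2 F366778 D204952 (iv5 D191759)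
theorem F434321 : act 4 n204952 = n183762 := d16_6 (iv4 F386323) (iv5 F386329) F427404 (iv5 F434309) F434308 D204952 (iv5 D183762) (iv7 F295168) F295165
theorem F434322 : act 0 n204952 = n192309 := d17_2 (iv1 F366943) D204952 (iv5 D192309) F307491 D153632 F384371 (iv5 D191759) F343482 F198616
theorem F434323 : act 1 n204952 = n179821 := d17_6 (iv1 F387131) (iv5 F387136) (iv1 F427406) (iv5 F434309) F434308 D204952 F280038 F301703 (iv4 F241319)
def n204953 : Q := act 6 n124821
theorem D204953 : act 6 n124821 = n204953 := rfl
theorem F434324 : act 2 n204953 = n142816 := d3_1 D204953 F360597 (iv2 F309404)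
theorem F434325 : act 3 n204953 = n179769 := d7_1 D204953 (iv6 D179769) (iv3 F338887)
theorem F434326 : act 4 n204953 = n124822 := d10_1 D204953 (iv6 D124822) D124821
theorem F434327 : act 7 n204953 = n142811 := d14_2 (iv7 F309405) D204953 (iv6 F424211) F424212 F358529
theorem F434328 : act 0 n204953 = n153689 := d21_4 F432269 (iv1 F432447) F432448 D204953 F394050 (iv5 F412608) (iv1 D199544) D199545 F412611 (iv1 F432272)
theorem F434329 : act 5 n204953 = n142773 := d21_6 (iv5 F294252) (iv1 F159222) (iv5 F294313) (iv6 F135018) (iv1 F309403) D204953 (iv1 D142773) D142774 F345148 (iv1 F158604)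
theorem F434330 : act 0 n152940 = n204953 := d17_0 F434329 (iv1 D142773) D142774 (iv4 F345151) F140500 D182189 (iv5 F306666) D204406 (iv4 F432419)
def n204954 : Q := act 0 n124822
theorem D204954 : act 0 n124822 = n204954 := rfl
theorem F434331 : act 5 n204954 = n182137 := d17_1 D204954 (iv1 D182137) D182139 F350094 F350093 F205957 D153689 (iv0 F434328) F434326
theorem F434332 : act 6 n204954 = n138156 := d21_5 (iv5 D124777) (iv1 F92206) D58360 D124822 D204954 (iv5 D138156) D138152 F412614 (iv6 D184041) (iv1 F310401)
theorem F434333 : act 3 n138168 = n204954 := d7_3 F434332 F221344 D138168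
def n204955 : Q := act 1 n124822
theorem D204955 : act 1 n124822 = n204955 := rfl
theorem F434334 : act 5 n204955 = n182136 := d17_7 D86971 (iv5 F309031) F308443 D123757 D204408 (iv5 F432429) D204955 (iv0 D182136) (iv4 D86973)
def n204956 : Q := act 7 n124822
theorem D204956 : act 7 n124822 = n204956 := rfl
theorem F434335 : act 4 n204956 = n142811 := d11_1 D204956 (iv7 F434327) F434326
theorem F434336 : act 5 n204956 = n182271 := d13_1 D204956 (iv7 F432426) (iv5 F432429)
def n204957 : Q := act 5 n124827
theorem D204957 : act 5 n124827 = n204957 := rfl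
theorem F434337 : act 2 n204957 = n193381 := d2_1 D204957 (iv5 F403870) F403869
theorem F434338 : act 3 n204957 = n124828 := d6_1 D204957 (iv5 D124828) D124827
theorem F434339 : act 7 n204957 = n193383 := d13_2 (iv7 F312818) D204957 F389652
theorem F434340 : act 4 n204957 = n193373 := d16_2 (iv4 F403595) D204957 F389621 F315124 F208903 D156780 (iv5 F403587) (iv7 F403591) F403597
theorem F434341 : act 0 n204957 = n179730 := d17_2 F404151 D204957 (iv5 F343130) (iv4 F343128) (iv5 D108137) F167220 D197387 F404104 D197401
theorem F434342 : act 1 n204957 = n149093 := d17_6 (iv1 F403647) F403645 F315136 (iv5 F403593) (iv4 F403595) D204957 (iv5 F404119) F404121 F387486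
theorem F434343 : act 6 n153744 = n204957 := d21_9 (iv5 F343130) (iv1 F387488) (iv5 D192687) F154563 D100589 D192753 F401118 (iv1 D153742) D153744 F434341
def n204958 : Q := act 6 n124827
theorem D204958 : act 6 n124827 = n204958 := rfl
theorem F434344 : act 3 n204958 = n124829 := d7_1 D204958 (iv6 D124829) D124827
theorem F434345 : act 4 n204958 = n195396 := d10_1 D204958 (iv6 F403596) (iv4 F403595)
theorem F434346 : act 5 n204958 = n145431 := d12_1 D204958 F348831 D153744 F434343 (iv5 D204957)
theorem F434347 : act 0 n204958 = n196627 := d21_4 F404119 (iv1 F434342) (iv5 D204957) D204958 (iv6 F424069) F424068 F420522 (iv5 F371985) (iv6 F387485) (iv1 F404121)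
theorem F434348 : act 7 n204958 = n140587 := d15_2 (iv0 F424722) (iv0 F434347) (iv2 F411185)
def n204959 : Q := act 1 n124831
theorem D204959 : act 1 n124831 = n204959 := rfl
theorem F434349 : act 1 n204959 = n142896 := d15_1 D204959 (iv7 D142896) (iv2 F322364)
theorem F434350 : act 7 n204959 = n142767 := d15_2 (iv0 F342465) D204959 F322210
theorem F434351 : act 5 n202178 = n204959 := d21_0 (iv1 D204959) (iv5 D124831) (iv6 D58363) (iv1 F92207) F109548 (iv5 F109547) F200418 F322370 D142880 (iv1 F423132)
theorem F434352 : act 6 n157429 = n204959 := d21_3 D68225 (iv1 F324908) F247962 (iv1 D204959) F200494 (iv5 D58366) F190653 F58326 F313626 F323604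
theorem F434353 : act 2 n204959 = n126346 := d3_1 F434352 (iv6 F208148) F314522
theorem F434354 : act 3 n204959 = n141079 := d7_1 F434352 (iv6 F345704) F361611
def n204960 : Q := act 0 n124833
theorem D204960 : act 0 n124833 = n204960 := rfl
theorem F434355 : act 4 n204960 = n127976 := d18_3 (iv1 F320559) D124833 D204960 (iv5 D127976) F205765 F109000 F52849 F190100 F320562
theorem F434356 : act 2 n142882 = n204960 := d15_3 (iv0 D204960) (iv0 F348357) (iv7 F342510)
theorem F434357 : act 1 n142789 = n204960 := d15_0 (iv0 D204960) F322363 (iv2 F322375)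
theorem F434358 : act 7 n204960 = n142700 := d15_2 F348359 F434357 F225598
theorem F434359 : act 3 n196738 = n204960 := d20_9 (iv4 D142789) (iv1 D66930) (iv4 F102880) (iv3 F356921) (iv1 F390470) F390467 (iv4 D192187) F371276 F401644 (iv1 F434357)
def n204961 : Q := act 6 n124855
theorem D204961 : act 6 n124855 = n204961 := rfl
theorem F434360 : act 2 n204961 = n197493 := d3_1 D204961 (iv6 D197493) F313651
theorem F434361 : act 3 n204961 = n197347 := d7_1 D204961 (iv6 D197347) (iv3 F340260)
theorem F434362 : act 4 n204961 = n124857 := d10_1 D204961 (iv6 D124857) D124855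
theorem F434363 : act 0 n204961 = n197437 := d21_4 (iv5 F317328) F403598 F403593 D204961 F404312 (iv5 D108157) F165694 F351846 F366370 (iv1 F315127)
theorem F434364 : act 1 n204961 = n197506 := d15_1 (iv0 F434363) F404610 (iv2 F404311)
def n204962 : Q := act 2 n124858
theorem D204962 : act 2 n124858 = n204962 := rfl
theorem F434365 : act 3 n204962 = n192691 := d0_2 D124858 D204962 F387502 (iv3 D138749) (iv2 F314689)
theorem F434366 : act 4 n204962 = n197225 := d1_2 (iv4 F316982) D204962 (iv2 F403632)
theorem F434367 : act 7 n204962 = n192687 := d4_2 (iv7 F316983) D204962 F387483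
theorem F434368 : act 5 n192688 = n204962 := d13_3 F434367 (iv5 D192687) D192688
def n204963 : Q := act 5 n124858
theorem D204963 : act 5 n124858 = n204963 := rfl
theorem F434369 : act 2 n204963 = n192688 := d2_1 D204963 F434368 (iv2 D204962)
theorem F434370 : act 3 n204963 = n124859 := d6_1 D204963 (iv5 D124859) D124858
theorem F434371 : act 4 n204963 = n193372 := d9_1 D204963 (iv5 D193372) (iv4 F232357) F312969 (iv4 F403877) F403876 (iv4 F387486) (iv5 D192687) F338891 (iv5 D124809) (iv4 D58356) D58357 D124813 (iv5 F343143) (iv4 F316982)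
theorem F434372 : act 7 n204963 = n192686 := d13_2 (iv7 F316983) D204963 (iv5 F387482)
theorem F434373 : act 1 n204963 = n179737 := d17_8 (iv1 F201027) (iv5 D125120) (iv1 F92437) D85851 D179730 (iv5 F343130) (iv0 F343132) D204963 (iv4 D179737)
theorem F434374 : act 0 n204963 = n179741 := d18_0 (iv4 D179741) (iv1 D85856) D85857 (iv5 F343119) F212506 F212505 F343128 (iv0 F343132) D204963
def n204964 : Q := act 6 n124858
theorem D204964 : act 6 n124858 = n204964 := rfl
theorem F434375 : act 3 n204964 = n124860 := d7_1 D204964 (iv6 D124860) D124858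
theorem F434376 : act 4 n204964 = n197347 := d10_1 D204964 (iv6 D197347) (iv4 F316982)
theorem F434377 : act 7 n204964 = n202607 := d14_2 (iv7 F316983) D204964 (iv6 D202607) F180868 (iv6 F325039)
def n204965 : Q := act 0 n124868
theorem D204965 : act 0 n124868 = n204965 := rfl
theorem F434378 : act 5 n204965 = n138506 := d17_1 D204965 (iv1 F221697) D138528 (iv4 F407633) (iv5 D198330) (iv0 F357934) D194713 (iv0 F394202) F375241
theorem F434379 : act 4 n204965 = n192224 := d18_1 D204965 (iv1 F412594) F412592 (iv5 D124859) (iv4 D58375) F92189 (iv4 F200391) F200396 D124868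
theorem F434380 : act 2 n204939 = n204965 := d15_3 (iv0 D204965) (iv0 F341163) (iv7 F434262)
theorem F434381 : act 1 n124873 = n204965 := d15_0 (iv0 D204965) F314699 (iv2 F314710)
theorem F434382 : act 7 n204965 = n197730 := d15_2 F278779 F434381 F405548
theorem F434383 : act 3 n196379 = n204965 := d8_3 F434382 F405549 (iv7 F400517)
theorem F434384 : act 6 n197920 = n204965 := d14_5 F434382 (iv6 D197730) F168486 D108771 D197920
def n204966 : Q := act 3 n124882
theorem D204966 : act 3 n124882 = n204966 := rfl
theorem F434385 : act 5 n204966 = n196150 := d6_2 F432269 D204966 (iv3 F432267)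
def n204967 : Q := act 6 n124882
theorem D204967 : act 6 n124882 = n204967 := rfl
theorem F434386 : act 4 n204967 = n124883 := d10_1 D204967 (iv6 D124883) D124882
def n204968 : Q := act 0 n124883
theorem D204968 : act 0 n124883 = n204968 := rfl
def n204969 : Q := act 1 n124883
theorem D204969 : act 1 n124883 = n204969 := rfl
def n204970 : Q := act 7 n124883
theorem D204970 : act 7 n124883 = n204970 := rfl
theorem F434387 : act 5 n204970 = n154782 := d13_1 D204970 (iv7 D154782) (iv5 F200562)
def n204971 : Q := act 6 n124884
theorem D204971 : act 6 n124884 = n204971 := rfl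
theorem F434388 : act 2 n204971 = n203978 := d3_1 D204971 F432456 F432451
theorem F434389 : act 0 n204971 = n198107 := d21_4 (iv5 D156615) (iv1 F312320) (iv5 F200563) D204971 (iv6 D198107) (iv5 F219108) (iv1 D108617) D108619 D197730 (iv1 F405552)
def n204972 : Q := act 5 n124885
theorem D204972 : act 5 n124885 = n204972 := rfl
theorem F434390 : act 2 n204972 = n181154 := d2_1 D204972 (iv5 F434231) F434228
theorem F434391 : act 3 n204972 = n197880 := d6_1 D204972 (iv5 F406096) F405275
theorem F434392 : act 4 n204972 = n181229 := d9_1 D204972 (iv5 F356068) F257792 F334017 F105123 D68956 D147065 F356028 (iv4 F282288) (iv5 F356026) (iv4 D166335) (iv5 F330051) F105509 (iv5 F92224) (iv4 F200564)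
theorem F434393 : act 7 n204972 = n147907 := d13_2 (iv7 F200565) D204972 (iv5 D147907)
theorem F434394 : act 0 n204972 = n202492 := d17_2 (iv1 F339601) D204972 (iv5 D202492) F180226 D115837 F330018 (iv5 D74485) D74484 D156642
def n204973 : Q := act 6 n124893
theorem D204973 : act 6 n124893 = n204973 := rfl
theorem F434395 : act 2 n204973 = n178966 := d3_1 D204973 (iv6 D178966) (iv2 F200581)
theorem F434396 : act 3 n204973 = n199366 := d7_1 D204973 (iv6 D199366) (iv3 F316925)
theorem F434397 : act 4 n204973 = n124894 := d10_1 D204973 (iv6 D124894) D124893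
theorem F434398 : act 7 n204973 = n146358 := d14_2 F232451 D204973 F229685 F104827 (iv6 F107835)
theorem F434399 : act 1 n138688 = n204973 := d15_1 F426277 F434398 (iv2 F426273)
theorem F434400 : act 1 n204973 = n138693 := d15_1 F434399 F425102 F425099
def n204974 : Q := act 3 n124935
theorem D204974 : act 3 n124935 = n204974 := rfl
theorem F434401 : act 4 n204974 = n136375 := d5_2 D124935 D204974 F219493 (iv4 D133579) (iv3 F312355)
theorem F434402 : act 6 n204974 = n192551 := d7_2 (iv6 F397551) D204974 F397550
theorem F434403 : act 7 n204974 = n179012 := d8_2 F232993 D204974 (iv3 D179012)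
def n204975 : Q := act 6 n124940
theorem D204975 : act 6 n124940 = n204975 := rfl
theorem F434404 : act 3 n204975 = n124942 := d7_1 D204975 (iv6 D124942) D124940
theorem F434405 : act 4 n204975 = n124965 := d10_1 D204975 (iv6 D124965) (iv4 F200671)
theorem F434406 : act 5 n204975 = n189905 := d12_1 D204975 (iv6 D189905) (iv5 F345949) F199539 (iv5 F327053)
theorem F434407 : act 7 n204975 = n154137 := d14_2 (iv7 F327054) D204975 (iv6 D154137) (iv7 D72983) (iv6 F109474)
def n204976 : Q := act 3 n124943
theorem D204976 : act 3 n124943 = n204976 := rfl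
theorem F434408 : act 2 n204976 = n201425 := d0_1 D204976 F420465 F314618 (iv3 F231838) F243242
theorem F434409 : act 5 n204976 = n146364 := d6_2 (iv5 F317208) D204976 (iv3 D146364)
theorem F434410 : act 6 n204976 = n153585 := d7_2 F233207 D204976 F360994
theorem F434411 : act 7 n204976 = n201494 := d8_2 F397413 D204976 F420712
theorem F434412 : act 0 n197468 = n204976 := d21_4 F312279 D70585 F312969 D197468 F434410 F360995 (iv1 F316598) F347177 (iv6 D124857) F313649
def n204977 : Q := act 4 n124943
theorem D204977 : act 4 n124943 = n204977 := rfl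
theorem F434413 : act 6 n204977 = n155609 := d10_2 F233207 D204977 (iv4 D155609)
theorem F434414 : act 5 n204977 = n146635 := d16_1 D204977 (iv4 D146635) (iv5 D68717) (iv4 D31971) D31972 D68718 (iv5 F317212) (iv7 F243240) F243242
theorem F434415 : act 0 n204977 = n146647 := d17_0 F229944 (iv1 F221223) (iv5 F326863) F225832 F325986 (iv0 F103993) D144876 (iv0 F317207) D204977
theorem F434416 : act 1 n204977 = n146484 := d18_6 F162391 (iv4 F85459) (iv1 F85461) D68630 (iv5 F317208) D204977 F322558 (iv0 F322551) F229939
def n204978 : Q := act 4 n124944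
theorem D204978 : act 4 n124944 = n204978 := rfl
theorem F434417 : act 3 n204978 = n203042 := d5_1 D204978 (iv4 D203042) (iv3 F426746) F426748 F314622
theorem F434418 : act 5 n204978 = n146362 := d9_2 (iv5 F317212) D204978 (iv4 D146362) (iv5 D68629) (iv4 D31933) D31934 D68630 (iv5 F317208) D204977 F434414 (iv4 D146635) (iv5 D68717) (iv4 D31971) D31972 D68718
theorem F434419 : act 6 n204978 = n202579 := d10_2 (iv6 F233136) D204978 F424595
theorem F434420 : act 0 n204978 = n146484 := d17_0 (iv5 D146484) (iv1 F114805) D159926 (iv4 F319489) F319490 F104890 F321487 D124944 D204978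
theorem F434421 : act 1 n204978 = n146647 := d18_6 F316386 (iv4 F316397) F54567 D68718 (iv5 F317212) D204978 (iv4 D146647) F104910 (iv5 D48919)
def n204979 : Q := act 0 n124961
theorem D204979 : act 0 n124961 = n204979 := rfl
theorem F434422 : act 5 n204979 = n125095 := d17_1 D204979 (iv1 F200965) (iv5 F319277) (iv4 D108566) D108567 (iv0 F359037) (iv5 D134212) D134210 (iv4 F351352)
theorem F434423 : act 1 n178906 = n204979 := d15_0 (iv0 D204979) F200692 D178906
theorem F434424 : act 6 n198837 = n204979 := d21_3 F320642 (iv1 F324589) (iv5 F409493) (iv1 F434423) F361289 (iv5 D157082) (iv1 F353054) F187935 (iv6 F350831) F350827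
theorem F434425 : act 2 n204979 = n159058 := d3_1 F434424 (iv6 F348490) F409494
theorem F434426 : act 7 n204979 = n159053 := d14_2 (iv7 F409492) F434424 F348498 F342404 F330813
theorem F434427 : act 3 n176630 = n204979 := d8_3 F434426 (iv3 F348499) (iv7 F354224)
def n204980 : Q := act 1 n124961
theorem D204980 : act 1 n124961 = n204980 := rfl
theorem F434428 : act 1 n204980 = n178906 := d15_1 D204980 (iv7 F428962) F428959
theorem F434429 : act 7 n204980 = n159058 := d15_2 (iv0 D204979) D204980 (iv2 F434425)
theorem F434430 : act 3 n204361 = n204980 := d20_3 (iv4 F166262) (iv1 F336383) D204361 (iv1 D204980) (iv3 D124961) (iv4 D58412) (iv1 D27798) D27799 D58413 (iv1 F320219)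
theorem F434431 : act 4 n197535 = n204980 := d20_6 (iv4 D74371) (iv1 F53532) (iv4 F100846) (iv3 F167791) (iv1 F167795) D197535 (iv1 D204980) F351352 (iv3 F351351) F366610
theorem F434432 : act 5 n125096 = n204980 := d21_0 (iv1 D204980) (iv5 F250316) (iv6 F306221) F206066 (iv6 F347966) F347965 (iv1 F229432) F229430 (iv6 F113853) (iv1 F200966)
theorem F434433 : act 6 n145632 = n204980 := d21_3 F305463 (iv1 F130197) (iv5 F342400) (iv1 D204980) (iv6 F383149) (iv5 D191348) (iv1 D98111) D98112 F362746 (iv1 F305462)
theorem F434434 : act 2 n204980 = n159053 := d3_1 F434433 F348498 (iv2 F342402)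
def n204981 : Q := act 4 n124978
theorem D204981 : act 4 n124978 = n204981 := rfl
theorem F434435 : act 2 n204981 = n124985 := d1_1 D204981 (iv4 D124985) (iv2 F200738)
theorem F434436 : act 5 n204981 = n178878 := d9_2 D124978 D204981 (iv4 D178878) (iv5 D85282) (iv4 D39407) (iv5 D18676) D18675 F321959 (iv4 F120006) D164100 (iv4 F348067) (iv5 D157260) (iv4 D74774) (iv5 F312284) D58428
theorem F434437 : act 6 n204981 = n165877 := d10_2 (iv6 F322696) D204981 (iv4 D165877)
theorem F434438 : act 7 n204981 = n164095 := d11_2 (iv7 F322697) D204981 F258630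
theorem F434439 : act 1 n204981 = n164098 := d18_6 F199894 (iv4 D39390) (iv1 F44904) D58428 D124978 D204981 F354793 (iv0 F358667) (iv5 D152247)
theorem F434440 : act 1 n164099 = n204981 := d15_1 D164099 F434438 F258629
def n204982 : Q := act 3 n124983
theorem D204982 : act 3 n124983 = n204982 := rfl
theorem F434441 : act 2 n204982 = n129055 := d0_1 D204982 F207292 (iv2 F354788) (iv3 D164156) (iv2 F323615)
theorem F434442 : act 5 n204982 = n149038 := d6_2 F303237 D204982 (iv3 F348452)
theorem F434443 : act 6 n204982 = n177525 := d7_2 (iv6 F345356) D204982 (iv3 D177525)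
theorem F434444 : act 7 n204982 = n164151 := d8_2 (iv7 F323616) D204982 (iv3 D164151)
theorem F434445 : act 4 n204982 = n129054 := d20_6 F114141 F43558 (iv4 F56557) (iv3 F320939) D124983 D204982 F349822 F119741 F56459 D35796
theorem F434446 : act 0 n174054 = n204982 := d18_0 F434445 F349822 F119741 D78582 (iv4 F323696) (iv0 F155156) (iv4 F188733) (iv0 F315778) (iv5 F337627)
theorem F434447 : act 1 n163817 = n204982 := d17_6 (iv1 F427682) F427684 F427704 F427699 F213515 F355018 F434442 F317094 D174033
def n204983 : Q := act 4 n124983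
theorem D204983 : act 4 n124983 = n204983 := rfl
theorem F434448 : act 2 n204983 = n164157 := d1_1 D204983 (iv4 D164157) (iv2 F323615)
theorem F434449 : act 6 n204983 = n177526 := d10_2 (iv6 F345356) D204983 (iv4 D177526)
theorem F434450 : act 7 n204983 = n164152 := d11_2 (iv7 F323616) D204983 (iv4 D164152)
theorem F434451 : act 1 n204983 = n198493 := d18_6 D131435 (iv4 F404575) F404574 F403512 F303237 D204983 F408150 (iv0 F362437) (iv5 D131438)
def n204984 : Q := act 4 n124984
theorem D204984 : act 4 n124984 = n204984 := rfl
theorem F434452 : act 2 n204984 = n164152 := d1_1 D204984 (iv4 D164152) (iv2 F323611)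
theorem F434453 : act 7 n204984 = n164157 := d11_2 (iv7 F323612) D204984 (iv4 D164157)
theorem F434454 : act 0 n204984 = n198493 := d18_2 (iv1 F322693) D204984 F408150 (iv5 D152250) F199893 F133062 F92469 F92290 F323618

end Cfsg.Agent.Helper17.ONTC
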