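import Cfsg.Agent.Helper17.ONTC.Facts51

set_option autoImplicit false
set_option linter.all false

noncomputable section

namespace Cfsg.Agent.Helper17.ONTC

def n204985 : Q := act 0 n124985
theorem D204985 : act 0 n124985 = n204985 := rfl
theorem F434455 : act 4 n204985 = n131550 := d18_3 (iv1 D124984) D124985 D204985 F210800 (iv4 D65354) (iv0 F309704) F301199 (iv0 F303239) (iv5 F200758)
theorem F434456 : act 3 n204985 = n131540 := d20_5 F250092 F113664 (iv4 F120007) (iv3 F322698) D204985 (iv4 D131540) (iv1 F345780) (iv4 F276084) F276083 F250094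
theorem F434457 : act 1 n164095 = n204985 := d15_0 (iv0 D204985) F322700 (iv2 F258629)
theorem F434458 : act 6 n174209 = n204985 := d21_3 (iv5 F353268) F336522 (iv5 F353243) (iv1 F434457) (iv6 D164095) D164094 (iv1 F258628) (iv5 D158900) D158901 (iv1 F353269)
theorem F434459 : act 2 n204985 = n164099 := d3_1 F434458 (iv6 F353276) F353244
theorem F434460 : act 7 n164098 = n204985 := d15_2 F434440 F434439 F434459
def n204986 : Q := act 1 n124985
theorem D204986 : act 1 n124985 = n204986 := rfl
theorem F434461 : act 1 n204986 = n164095 := d15_1 D204986 (iv7 F434438) F434435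
theorem F434462 : act 7 n204986 = n164099 := d15_2 (iv0 D204985) D204986 (iv2 F434459)
theorem F434463 : act 4 n204986 = n186852 := d18_7 (iv1 F199884) (iv4 D58425) (iv1 D27803) D27805 D58433 D124985 D204986 (iv0 F427629) (iv5 D203277)
theorem F434464 : act 3 n196172 = n204986 := d20_3 F395344 F395342 (iv4 F399699) (iv1 D204986) F322698 F120007 (iv1 F119989) D164082 (iv3 F394571) F394574
theorem F434465 : act 2 n204986 = n164098 := d0_1 F434464 F334260 (iv2 F399735) F399736 (iv2 F399696)
theorem F434466 : act 5 n204986 = n196171 := d6_2 D196172 F434464 (iv3 D196171)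
def n204987 : Q := act 5 n124985
theorem D204987 : act 5 n124985 = n204987 := rfl
theorem F434467 : act 2 n204987 = n178878 := d2_1 D204987 (iv5 F434436) F434435
theorem F434468 : act 3 n204987 = n164114 := d6_1 D204987 F258641 (iv3 F322698)
theorem F434469 : act 7 n204987 = n164100 := d13_2 (iv7 F322700) D204987 (iv5 D164100)
theorem F434470 : act 4 n204987 = n178828 := d16_2 D124985 D204987 (iv5 D178828) (iv4 D85247) (iv5 D39399) D39398 F323618 (iv7 F322697) F200738
theorem F434471 : act 0 n204987 = n187388 := d17_2 (iv1 D204986) D204987 F370123 F335296 (iv5 D118449) D118448 F363198 (iv0 F368272) (iv4 F434463)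
theorem F434472 : act 1 n204987 = n156877 := d17_6 (iv1 F345379) (iv5 D124982) (iv1 D58432) D58433 D124985 D204987 (iv5 F352047) D194983 F395299
def n204988 : Q := act 3 n124987
theorem D204988 : act 3 n124987 = n204988 := rfl
theorem F434473 : act 2 n204988 = n176499 := d0_1 D204988 F344112 F272679 F344090 F308622
theorem F434474 : act 4 n204988 = n176477 := d5_2 (iv4 F280214) D204988 F278519 D178696 (iv3 F280210)
theorem F434475 : act 5 n204988 = n134686 := d6_2 (iv5 F309873) D204988 (iv3 D134686)
theorem F434476 : act 6 n204988 = n161356 := d7_2 (iv6 F350953) D204988 (iv3 D161356)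
theorem F434477 : act 7 n204988 = n155116 := d8_2 (iv7 F239439) D204988 F243932
theorem F434478 : act 0 n204988 = n133005 := d20_4 F239308 (iv1 F330101) (iv4 F280214) D204988 F213660 F210598 (iv1 F318799) F344087 F243966 F239309
theorem F434479 : act 0 n193461 = n204988 := d20_4 F305422 F355385 (iv4 F272736) (iv3 F389924) (iv3 D204988) F280214 (iv1 F427287) F427289 F347053 F307531
def n204989 : Q := act 4 n124989
theorem D204989 : act 4 n124989 = n204989 := rfl
theorem F434480 : act 3 n204989 = n133289 := d5_1 D204989 F214253 F97533 (iv4 F95371) (iv3 F307028)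
theorem F434481 : act 6 n204989 = n129378 := d10_2 (iv6 F307029) D204989 (iv4 D129378)
theorem F434482 : act 5 n204989 = n138079 := d16_3 (iv4 F92292) D124989 D204989 (iv4 F423707) (iv5 D202348) F348346 D116657 F322174 F92287
theorem F434483 : act 7 n138079 = n185345 := d16_8 F423463 (iv5 D202279) F179811 F316289 (iv4 F92292) D124989 D204989 F434482 (iv2 F362121)
theorem F434484 : act 0 n204989 = n204286 := d18_2 F239414 D204989 F431864 (iv5 D152319) (iv4 D71861) F52434 (iv4 F52505) (iv0 F108312) D152303
def n204990 : Q := act 1 n124997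
theorem D204990 : act 1 n124997 = n204990 := rfl
theorem F434485 : act 1 n204990 = n178828 := d15_1 D204990 (iv7 F348066) (iv2 F348065)
theorem F434486 : act 7 n204990 = n178877 := d15_2 F416014 D204990 (iv2 F416009)
theorem F434487 : act 5 n204990 = n125043 := d17_7 (iv1 F53827) F313576 (iv1 D27803) D27806 D58437 D124997 D204990 F316036 (iv4 D74588)
theorem F434488 : act 3 n200022 = n204990 := d19_19 (iv1 D204990) (iv5 D124997) (iv4 D58437) F44908 (iv1 F44889) (iv5 F52385) F52384 F300703 (iv1 F43186) (iv5 F297359) D55377 F312878 F78844 D71426 D151510 (iv3 F416456) F416458 F367396 (iv4 F414660)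
theorem F434489 : act 2 n204990 = n178876 := d0_1 F434488 (iv3 F415979) F415978 (iv3 F367384) F414659
def n204991 : Q := act 4 n124997
theorem D204991 : act 4 n124997 = n204991 := rfl
theorem F434490 : act 2 n204991 = n164100 := d1_1 D204991 (iv4 F348067) (iv2 F348065)
theorem F434491 : act 3 n204991 = n201415 := d5_1 D204991 (iv4 D201415) (iv3 F420407) F420410 (iv3 F366282)
theorem F434492 : act 5 n204991 = n164095 := d9_2 D124997 D204991 F258630 (iv5 F323618) (iv4 D39398) D39399 D85247 D178828 (iv4 F434470) (iv5 D204987) (iv4 D124985) (iv5 D58433) (iv4 D27805) D27806 D58437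
theorem F434493 : act 7 n204991 = n178878 := d11_2 (iv7 F200778) D204991 (iv4 D178878)
theorem F434494 : act 0 n204991 = n156877 := d18_2 (iv1 D204990) D204991 (iv4 D156877) (iv5 D74601) (iv4 D34204) F313577 D58463 D125043 (iv5 F434487)
theorem F434495 : act 1 n204991 = n187388 := d18_6 (iv1 F167263) F112206 (iv1 F311905) D58437 D124997 D204991 F370122 F246892 F246891
def n204992 : Q := act 6 n125004
theorem D204992 : act 6 n125004 = n204992 := rfl
theorem F434496 : act 2 n204992 = n178932 := d3_1 D204992 (iv6 D178932) (iv2 F355439)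
theorem F434497 : act 3 n204992 = n203518 := d7_1 D204992 (iv6 F428670) (iv3 F355520)
theorem F434498 : act 4 n204992 = n128259 := d10_1 D204992 (iv6 F392786) F392785
theorem F434499 : act 5 n204992 = n127673 := d12_1 D204992 (iv6 F233838) F334057 (iv6 F354243) F350203
theorem F434500 : act 0 n204992 = n128096 := d21_4 (iv5 F429842) (iv1 F429846) F350203 D204992 (iv6 F427237) F427236 F432246 F432245 (iv6 D179121) (iv1 F200890)
theorem F434501 : act 0 n128282 = n204992 := d21_4 F364107 (iv1 F212645) (iv5 F354110) (iv6 F354109) (iv6 D204992) (iv5 F350203) (iv1 D159003) F113820 D85473 D179128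
theorem F434502 : act 0 n144171 = n193732 := d20_4 (iv4 F425913) (iv1 D140721) (iv4 F103435) (iv3 F226872) F390805 (iv4 F434498) F434500 F354111 F340950 (iv1 F425909)
def n204993 : Q := act 5 n125019
theorem D204993 : act 5 n125019 = n204993 := rfl
theorem F434503 : act 3 n204993 = n125020 := d6_1 D204993 (iv5 D125020) D125019
theorem F434504 : act 7 n204993 = n179158 := d13_2 (iv7 F200834) D204993 (iv5 D179158)
theorem F434505 : act 4 n204993 = n204384 := d16_2 (iv4 F200833) D204993 F432333 F369482 (iv5 D187204) (iv4 F345968) F345969 (iv7 F321604) F321602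
theorem F434506 : act 0 n204993 = n178896 := d17_2 F369481 D204993 (iv5 F342625) F362135 (iv5 D153914) D153913 (iv5 F411844) (iv0 F411845) F369482
theorem F434507 : act 6 n204993 = n204383 := d21_3 D187204 F369481 D204993 F432330 (iv6 D124673) (iv5 D58262) (iv1 D27755) D27757 D58267 (iv1 F345954)
def n204994 : Q := act 6 n125043
theorem D204994 : act 6 n125043 = n204994 := rfl
theorem F434508 : act 2 n204994 = n179092 := d3_1 D204994 (iv6 D179092) (iv2 F201187)
theorem F434509 : act 4 n204994 = n197488 := d10_1 D204994 (iv6 D197488) (iv4 F316037)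
theorem F434510 : act 7 n204994 = n155728 := d14_2 (iv7 F201185) D204994 (iv6 D155728) F110827 (iv6 F155446)
theorem F434511 : act 0 n204994 = n148655 := d21_4 D178828 (iv1 F434485) F434487 D204994 (iv6 F322198) (iv5 F339845) (iv1 F363714) D199969 F414403 (iv1 F200774)
theorem F434512 : act 0 n151281 = n204994 := d21_4 (iv5 D199948) (iv1 F174266) (iv5 F174337) F363692 (iv6 D204994) (iv5 F434487) (iv1 D204990) (iv5 D124997) (iv6 F318438) (iv1 F414286)
def n204995 : Q := act 4 n125045
theorem D204995 : act 4 n125045 = n204995 := rfl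
theorem F434513 : act 3 n204995 = n176840 := d5_1 D204995 F377543 D194197 (iv4 F392351) F355408
theorem F434514 : act 7 n204995 = n179101 := d11_2 (iv7 F200882) D204995 (iv4 D179101)
theorem F434515 : act 5 n204995 = n194983 := d16_1 D204995 F395299 F345359 F311241 (iv5 D74589) D74588 D156841 F246816 (iv2 F316046)
theorem F434516 : act 0 n204995 = n157231 := d17_0 F356892 (iv1 D164099) D164100 (iv4 F348067) (iv5 D157260) (iv0 F316053) D178867 F279025 D204995
def n204996 : Q := act 5 n125046
theorem D204996 : act 5 n125046 = n204996 := rfl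
theorem F434517 : act 3 n204996 = n199161 := d6_1 D204996 F410949 F366322
theorem F434518 : act 6 n204996 = n195514 := d12_2 D125046 D204996 (iv5 F397199) F379939 (iv5 D125045)
theorem F434519 : act 7 n204996 = n202709 := d13_2 F366285 D204996 (iv5 D202709)
theorem F434520 : act 4 n195516 = n204996 := d10_3 F434518 (iv4 D195514) D195516
def n204997 : Q := act 3 n125063
theorem D204997 : act 3 n125063 = n204997 := rfl
theorem F434521 : act 4 n204997 = n154103 := d5_2 F411743 D204997 (iv3 F411750) (iv4 D199333) D199332
theorem F434522 : act 7 n204997 = n179221 := d8_2 (iv7 F351007) D204997 (iv3 D179221)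
theorem F434523 : act 0 n204997 = n125088 := d19_4 D111202 (iv5 F411746) F411743 D204997 (iv5 F353925) F353924 (iv3 F335399) F329098 (iv5 F329118) (iv4 D29969) (iv3 F48165) F48166 (iv5 D24117) (iv4 F19519) F11898 F19937 D11839 D24938 D51291
theorem F434524 : act 1 n204997 = n197135 := d15_1 (iv0 F434523) (iv7 F411854) F411853
theorem F434525 : act 6 n147815 = n204997 := d14_5 F434522 F338754 (iv7 F144137) (iv6 F353764) F242703
def n204998 : Q := act 6 n125063
theorem D204998 : act 6 n125063 = n204998 := rfl
theorem F434526 : act 2 n204998 = n179229 := d3_1 D204998 (iv6 D179229) (iv2 F351006)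
theorem F434527 : act 3 n204998 = n147815 := d7_1 D204998 F434525 (iv3 D204997)
theorem F434528 : act 5 n204998 = n188567 := d12_1 D204998 F374003 F226286 F351002 F351005
theorem F434529 : act 7 n204998 = n155781 := d14_2 (iv7 F351007) D204998 (iv6 D155781) (iv7 F338750) F338749
theorem F434530 : act 0 n204998 = n197129 := d21_4 (iv5 F131572) D179651 F351005 D204998 F403178 F383587 F383585 F429265 (iv6 F429266) (iv1 D125188)
theorem F434531 : act 0 n148659 = n204998 := d21_4 (iv5 D203640) (iv1 D119855) D119856 (iv6 F366114) (iv6 D204998) (iv5 F351005) (iv1 F339413) F339415 (iv6 F322251) (iv1 F429202)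
def n204999 : Q := act 1 n125084
theorem D204999 : act 1 n125084 = n204999 := rfl
theorem F434532 : act 1 n204999 = n125089 := d15_1 D204999 (iv7 F404778) (iv2 F404780)
theorem F434533 : act 7 n204999 = n197609 := d15_2 (iv0 F403095) D204999 F405011
theorem F434534 : act 4 n204999 = n197111 := d18_7 F403028 F341468 (iv1 F360209) (iv4 F352319) (iv5 D125085) D125084 D204999 (iv0 D197111) (iv5 F403026)
theorem F434535 : act 2 n197612 = n204999 := d1_3 F434534 (iv2 F403098) D197612
theorem F434536 : act 6 n204999 = n155834 := d3_2 (iv6 F405019) F434535 (iv2 F386921)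
def n205000 : Q := act 3 n125084
theorem D205000 : act 3 n125084 = n205000 := rfl
theorem F434537 : act 2 n205000 = n136549 := d0_1 D205000 F219644 F364388 D197549 (iv2 F404780)
theorem F434538 : act 4 n205000 = n135901 := d5_2 D125084 D205000 (iv3 F419111) F419112 (iv3 D125083)
theorem F434539 : act 0 n205000 = n196474 := d20_4 F317012 D58474 D125084 D205000 (iv3 D196474) (iv4 D107017) D107014 (iv4 F167703) (iv3 F167901) (iv1 F167903)
theorem F434540 : act 7 n205000 = n136544 := d15_2 (iv0 F404769) (iv0 F434539) F404770
theorem F434541 : act 5 n198321 = n205000 := d13_3 F434540 F219648 (iv7 F407595)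
theorem F434542 : act 6 n136116 = n205000 := d14_5 F434540 (iv6 F338914) (iv7 F338937) (iv6 D137659) (iv7 F219083)
def n205001 : Q := act 5 n125084
theorem D205001 : act 5 n125084 = n205001 := rfl
theorem F434543 : act 3 n205001 = n198321 := d6_1 D205001 F434541 (iv3 D205000)
theorem F434544 : act 4 n205001 = n195253 := d16_2 D125084 D205001 (iv5 D195253) F161907 D134038 (iv4 F350811) (iv5 D125090) F200956 (iv2 D125082)
theorem F434545 : act 0 n195253 = n197674 := d20_7 F79762 D50395 (iv4 F351223) (iv3 F169164) D198321 (iv3 F434543) F434544 (iv4 D197674) F388636 F364228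
theorem F434546 : act 6 n201453 = n205001 := d7_0 F434543 F407593 F420559
def n205002 : Q := act 6 n125084
theorem D205002 : act 6 n125084 = n205002 := rfl
theorem F434547 : act 2 n205002 = n196283 := d3_1 D205002 (iv6 F404777) (iv2 F404780)
theorem F434548 : act 3 n205002 = n136116 := d7_1 D205002 F434542 (iv3 D205000)
theorem F434549 : act 4 n205002 = n125086 := d10_1 D205002 (iv6 D125086) D125084
theorem F434550 : act 7 n137657 = n205002 := d11_0 F434549 F352300 (iv4 F220828)
theorem F434551 : act 1 n202603 = n205002 := d15_1 (iv0 F424704) (iv7 F434550) (iv2 F224829)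
def n205003 : Q := act 7 n125084
theorem D205003 : act 7 n125084 = n205003 := rfl
theorem F434552 : act 2 n205003 = n125089 := d4_1 D205003 (iv7 F404778) (iv2 F404780)
theorem F434553 : act 3 n205003 = n136544 := d8_1 D205003 (iv7 F434540) (iv3 D205000)
theorem F434554 : act 4 n205003 = n125087 := d11_1 D205003 (iv7 D125087) D125084
theorem F434555 : act 1 n197612 = n205003 := d15_1 (iv0 F405021) (iv7 D205003) F404780
theorem F434556 : act 1 n205003 = n197609 := d15_1 F434555 (iv7 F434533) (iv2 F434535)
theorem F434557 : act 6 n163137 = n205003 := d10_0 F434554 F352301 D163137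
def n205004 : Q := act 0 n125085
theorem D205004 : act 0 n125085 = n205004 := rfl
theorem F434558 : act 5 n205004 = n203576 := d17_1 D205004 F428963 (iv5 D159058) (iv4 F331622) (iv5 D63036) D63034 (iv5 F338487) (iv0 F355249) (iv4 F352319)
theorem F434559 : act 2 n158983 = n205004 := d15_3 (iv0 D205004) F352320 F278783
theorem F434560 : act 1 n125090 = n205004 := d15_0 (iv0 D205004) (iv7 F415469) F415463
theorem F434561 : act 7 n205004 = n157079 := d15_2 (iv0 F350813) F434560 (iv2 F361292)
theorem F434562 : act 4 n173418 = n205004 := d20_0 (iv1 F434560) F350811 F216025 F329639 (iv3 F198026) F198027 (iv1 F178095) F336956 (iv3 F405033) F419401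
theorem F434563 : act 6 n157571 = n205004 := d21_3 F109242 D78044 (iv5 F248329) (iv1 F434560) (iv6 F350820) (iv5 F325665) F332158 (iv5 F318786) F358629 (iv1 F109611)
theorem F434564 : act 3 n205004 = n179264 := d7_1 F434563 (iv6 F347849) F248331
def n205005 : Q := act 6 n125085
theorem D205005 : act 6 n125085 = n205005 := rfl
theorem F434565 : act 2 n205005 = n129731 := d3_1 D205005 (iv6 F352308) F352307
theorem F434566 : act 7 n205005 = n129726 := d14_2 F415469 D205005 F364894 (iv7 F364891) D200187
theorem F434567 : act 5 n205005 = n129706 := d21_6 F275797 (iv1 F313591) D157035 (iv6 F336910) (iv1 F352320) D205005 (iv1 D129706) D129707 F315808 (iv1 F275799)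
theorem F434568 : act 0 n202774 = n205005 := d21_4 F347934 F354582 (iv5 F182687) D202774 (iv6 D205005) (iv5 D125085) (iv1 F319274) F319277 F113853 (iv1 F347933)
def n205006 : Q := act 5 n125086
theorem D205006 : act 5 n125086 = n205006 := rfl
theorem F434569 : act 2 n205006 = n129732 := d2_1 D205006 (iv5 F350890) (iv2 F352298)
theorem F434570 : act 3 n205006 = n136713 := d6_1 D205006 F219862 (iv3 F352299)
theorem F434571 : act 6 n205006 = n129706 := d12_2 D125086 D205006 (iv5 F434567) (iv6 D205005) (iv5 D125085)
theorem F434572 : act 7 n205006 = n129909 := d13_2 (iv7 F352300) D205006 (iv5 F350886)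
theorem F434573 : act 4 n205006 = n200897 := d19_2 (iv1 F352297) D205006 (iv3 D200897) F176784 (iv5 F230150) (iv4 D146788) (iv3 F230144) F412525 F412524 (iv4 F409849) (iv3 F425378) F425382 (iv5 D144555) (iv4 D67747) (iv3 F103777) F320890 (iv5 F318584) F318583 (iv3 F95417)
theorem F434574 : act 0 n127094 = n205006 := d19_0 (iv5 D205006) (iv4 F434549) F434548 (iv1 F219091) D196793 F401817 (iv3 F412063) (iv1 F412205) (iv5 D199439) (iv4 F219319) F219318 F219307 F349586 F162258 F76920 (iv1 F37142) D28308 D59654 D127094
def n205007 : Q := act 6 n125088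
theorem D205007 : act 6 n125088 = n205007 := rfl
theorem F434575 : act 3 n205007 = n125091 := d7_1 D205007 (iv6 D125091) D125088
theorem F434576 : act 4 n205007 = n199289 := d10_1 D205007 (iv6 D199289) F350807
theorem F434577 : act 5 n205007 = n125974 := d12_1 D205007 F359599 F333969 F353922 F353925
theorem F434578 : act 7 n163149 = n205007 := d13_0 F434577 F327220 D163149
def n205008 : Q := act 5 n125089
theorem D205008 : act 5 n125089 = n205008 := rfl
theorem F434579 : act 3 n205008 = n197634 := d6_1 D205008 F405119 (iv3 F366474)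
def n205009 : Q := act 6 n125089
theorem D205009 : act 6 n125089 = n205009 := rfl
theorem F434580 : act 2 n205009 = n163137 := d3_1 D205009 F434557 F434552
theorem F434581 : act 3 n205009 = n197638 := d7_1 D205009 (iv6 D197638) (iv3 F366474)
theorem F434582 : act 4 n205009 = n125091 := d10_1 D205009 (iv6 D125091) D125089
theorem F434583 : act 7 n205009 = n163154 := d14_2 F404778 D205009 (iv6 F359766) (iv7 F400195) (iv6 F404777)
def n205010 : Q := act 3 n125095
theorem D205010 : act 3 n125095 = n205010 := rfl
theorem F434584 : act 5 n205010 = n176630 := d6_2 F434422 D205010 F434427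
theorem F434585 : act 6 n205010 = n147151 := d7_2 F353674 D205010 (iv3 F413368)
theorem F434586 : act 7 n205010 = n159051 := d8_2 (iv7 F354750) D205010 (iv3 D159051)
theorem F434587 : act 2 n205010 = n175786 := d15_3 (iv0 D175786) (iv0 F348510) (iv7 F434586)
theorem F434588 : act 0 n205010 = n135252 := d21_10 F217455 D136449 (iv5 F344830) (iv6 F383785) F383787 (iv6 D147436) (iv5 F230754) F359053 (iv5 F413367) (iv6 F434585)
theorem F434589 : act 0 n147285 = n205010 := d17_0 F434584 (iv1 F354219) F324293 (iv4 D83967) F302295 (iv0 F344785) (iv5 F334740) F334737 (iv4 F319429)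
def n205011 : Q := act 0 n125097
theorem D205011 : act 0 n125097 = n205011 := rfl
theorem F434590 : act 4 n205011 = n197089 := d18_3 (iv1 D125096) D125097 D205011 (iv5 D197089) F166241 D134210 (iv4 F351352) D204980 (iv5 F434432)
theorem F434591 : act 3 n205011 = n193823 := d20_5 (iv4 D146661) F200222 (iv4 F113793) (iv3 F200967) D205011 F391103 (iv1 F357124) (iv4 F230332) F230331 F229960
theorem F434592 : act 2 n158964 = n205011 := d15_3 (iv0 D205011) F411697 (iv7 F391594)
theorem F434593 : act 1 n158965 = n205011 := d15_0 (iv0 D205011) F200968 D158965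
theorem F434594 : act 7 n205011 = n158963 := d15_2 (iv0 F411696) F434593 (iv2 F391592)
def n205012 : Q := act 5 n125097
theorem D205012 : act 5 n125097 = n205012 := rfl
theorem F434595 : act 3 n205012 = n158971 := d6_1 D205012 F250302 (iv3 F200967)
theorem F434596 : act 4 n205012 = n195250 := d9_1 D205012 (iv5 F405310) (iv4 D197668) (iv5 D108567) D108566 F319277 (iv4 F250298) F354744 F396469 (iv5 F405322) (iv4 D197672) (iv5 D108572) F317012 D58477 D125097
theorem F434597 : act 7 n205012 = n158966 := d13_2 (iv7 F200968) D205012 (iv5 D158966)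
def n205013 : Q := act 0 n125099
theorem D205013 : act 0 n125099 = n205013 := rfl
theorem F434598 : act 5 n205013 = n125967 := d21_2 F229436 D205013 F342265 (iv1 D120153) (iv6 F342217) (iv5 F300858) (iv1 F188635) F301505 (iv6 F308644) (iv1 F347826)
theorem F434599 : act 6 n205013 = n166202 := d21_5 (iv5 D159058) (iv1 D75957) (iv5 F92372) D125099 D205013 (iv5 D166202) (iv1 F303530) D119596 D203576 F428963
theorem F434600 : act 1 n148667 = n205013 := d15_0 (iv0 D205013) F200972 D148667
theorem F434601 : act 3 n166205 = n205013 := d7_3 F434599 F261680 D166205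
theorem F434602 : act 7 n148665 = n205013 := d14_0 F434599 (iv7 F366930) F362746 (iv7 F362747) F408980
theorem F434603 : act 2 n205013 = n147812 := d15_3 F405302 F405303 F434602
def n205014 : Q := act 1 n125099
theorem D205014 : act 1 n125099 = n205014 := rfl
theorem F434604 : act 1 n205014 = n148667 := d15_1 D205014 (iv7 F405301) F405298
theorem F434605 : act 7 n205014 = n147812 := d15_2 (iv0 D205013) D205014 (iv2 F434603)
theorem F434606 : act 5 n205014 = n125968 := d18_9 (iv1 D125968) (iv4 F169856) D198695 (iv4 F429348) F429349 F403170 (iv0 F405279) F405276 D205014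
theorem F434607 : act 3 n147414 = n205014 := d20_3 (iv4 F336314) (iv1 F353744) (iv4 F353739) (iv1 D205014) F200971 F92377 (iv1 F85703) D117914 F334596 (iv1 F242690)
theorem F434608 : act 6 n167234 = n205014 := d21_3 F325024 (iv1 F255221) F357000 (iv1 D205014) (iv6 D125099) F92372 D75956 D159053 F348498 F356995
theorem F434609 : act 2 n205014 = n148665 := d3_1 F434608 (iv6 F408980) F343981
def n205015 : Q := act 5 n125114
theorem D205015 : act 5 n125114 = n205015 := rfl
theorem F434610 : act 2 n205015 = n191797 := d2_1 D205015 (iv5 D191797) (iv2 F201014)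
theorem F434611 : act 3 n205015 = n125115 := d6_1 D205015 (iv5 D125115) D125114
theorem F434612 : act 4 n205015 = n129470 := d9_1 D205015 F211869 (iv4 F97286) D132982 F213618 F207743 (iv4 F305763) D182024 (iv4 F355253) (iv5 F207694) (iv4 F97161) D132753 F213189 (iv5 F207752) (iv4 F308186)
theorem F434613 : act 6 n205015 = n135115 := d12_2 (iv6 F210915) D205015 (iv5 D135115) D135116 F337827
theorem F434614 : act 7 n205015 = n149090 := d13_2 F232560 D205015 (iv5 D149090)
theorem F434615 : act 0 n205015 = n186637 := d17_2 (iv1 F272723) D205015 (iv5 F384744) F384743 F316292 (iv0 D81662) D81664 (iv0 F341990) F342000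
theorem F434616 : act 1 n205015 = n191820 := d17_6 D149798 F355256 F212237 (iv5 F207752) (iv4 F308186) D205015 (iv5 F384539) (iv0 F359905) F235627
def n205016 : Q := act 4 n125115
theorem D205016 : act 4 n125115 = n205016 := rfl
theorem F434617 : act 2 n205016 = n179730 := d1_1 D205016 (iv4 D179730) (iv2 F201015)
theorem F434618 : act 6 n205016 = n135119 := d10_2 (iv6 F337791) D205016 (iv4 D135119)
theorem F434619 : act 7 n205016 = n149093 := d11_2 F232561 D205016 (iv4 D149093)
theorem F434620 : act 0 n205016 = n193383 := d18_2 (iv1 F284622) D205016 (iv4 D193383) (iv5 F312670) F217631 F248141 F166819 F167409 F310493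
theorem F434621 : act 1 n205016 = n193381 := d18_6 D47237 F155125 F314615 F312269 D125115 D205016 (iv4 D193381) (iv0 D101550) (iv5 D47239)
def n205017 : Q := act 3 n125121
theorem D205017 : act 3 n125121 = n205017 := rfl
theorem F434622 : act 2 n205017 = n191799 := d0_1 D205017 (iv3 F384483) F235628 F308336 F236102
theorem F434623 : act 5 n205017 = n192324 := d6_2 F311688 D205017 F386431
theorem F434624 : act 6 n205017 = n146902 := d7_2 F426687 D205017 (iv3 F426685)
theorem F434625 : act 7 n205017 = n179736 := d8_2 F236105 D205017 (iv3 D179736)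
theorem F434626 : act 4 n205017 = n129833 := d20_6 F191596 F337475 (iv4 F337481) (iv3 F92438) D125121 D205017 (iv1 F212769) (iv4 F352314) (iv3 D120495) (iv1 F191599)
theorem F434627 : act 1 n186633 = n205017 := d17_8 (iv1 F212769) (iv5 D132545) (iv1 F96954) F207694 F355253 (iv5 D182024) F233106 D186633 F434626
theorem F434628 : act 0 n191798 = n205017 := d18_0 F434626 (iv1 F212769) (iv4 F352314) F302803 F132948 (iv0 F306188) (iv4 F308186) F272723 D191798
def n205018 : Q := act 4 n125121
theorem D205018 : act 4 n125121 = n205018 := rfl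
theorem F434629 : act 2 n205018 = n179741 := d1_1 D205018 (iv4 D179741) F236102
theorem F434630 : act 7 n205018 = n179737 := d11_2 F236105 D205018 (iv4 D179737)
theorem F434631 : act 5 n205018 = n197401 := d16_1 D205018 (iv4 D197401) (iv5 F316477) (iv4 F201217) F314335 F222366 F315116 F236104 F236102
theorem F434632 : act 0 n205018 = n192686 := d18_2 D125121 D205018 F387480 (iv5 D101548) (iv4 F190879) F314614 F312269 (iv0 D58503) D58506
theorem F434633 : act 1 n205018 = n192688 := d18_6 F312662 F236181 F311683 F167418 F311688 D205018 F387490 D193376 F389637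
def n205019 : Q := act 4 n125122
theorem D205019 : act 4 n125122 = n205019 := rfl
theorem F434634 : act 2 n205019 = n179737 := d1_1 D205019 (iv4 D179737) (iv2 F236106)
theorem F434635 : act 5 n205019 = n197404 := d9_2 F315116 D205019 (iv4 D197404) (iv5 F316480) F316479 F214876 F167418 F311688 D205018 F434631 (iv4 D197401) (iv5 F316477) (iv4 F201217) F314335 F222366
theorem F434636 : act 7 n205019 = n179741 := d11_2 (iv7 F236104) D205019 (iv4 D179741)
theorem F434637 : act 0 n205019 = n192688 := d18_2 (iv1 F201029) D205019 F387490 (iv5 D101543) F155125 F232422 (iv4 F61727) (iv0 F232487) D85853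
theorem F434638 : act 1 n205019 = n192686 := d18_6 D150235 F315124 F222367 F222366 F315116 D205019 F387480 F236437 (iv5 D150237)
theorem F434639 : act 3 n205019 = n201454 := d19_3 D108277 F315116 D205019 (iv1 F420566) F216927 F98683 F82365 (iv1 F39953) (iv5 F46795) (iv4 D29127) (iv3 F46784) D61512 F96028 (iv4 F78770) (iv3 D49830) F55537 (iv5 F38102) (iv4 F78855) (iv3 F79091)
def n205020 : Q := act 3 n125129
theorem D205020 : act 3 n125129 = n205020 := rfl
theorem F434640 : act 2 n205020 = n135150 := d0_1 D205020 (iv3 F351244) (iv2 F309404) F338887 (iv2 F201037)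
theorem F434641 : act 4 n205020 = n189153 := d5_2 D125129 D205020 F375869 F367992 (iv3 D125128)
theorem F434642 : act 5 n205020 = n204242 := d6_2 F301733 D205020 (iv3 D204242)
theorem F434643 : act 7 n205020 = n135149 := d8_2 (iv7 F201038) D205020 F351247
theorem F434644 : act 0 n205020 = n135139 := d19_4 D55486 (iv5 F301828) D125129 D205020 (iv5 F239070) (iv4 D152047) F108168 D71684 F316247 (iv4 F92535) (iv3 D58574) (iv1 F59763) (iv5 F311256) F55511 (iv3 D24300) D24298 D49829 F78768 (iv3 F312864)
theorem F434645 : act 0 n135154 = n205020 := d20_4 (iv4 F351223) D109196 (iv4 F400477) (iv3 F400478) (iv3 D205020) (iv4 D125129) (iv1 D58508) F337481 F79754 D50395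
theorem F434646 : act 6 n189151 = n205020 := d14_5 F434643 F362326 F404832 D198325 (iv7 F407616)
def n205021 : Q := act 6 n125129
theorem D205021 : act 6 n125129 = n205021 := rfl
theorem F434647 : act 2 n205021 = n179769 := d3_1 D205021 (iv6 D179769) (iv2 F201037)
theorem F434648 : act 3 n205021 = n189151 := d7_1 D205021 F434646 (iv3 D205020)
theorem F434649 : act 4 n205021 = n125130 := d10_1 D205021 (iv6 D125130) D125129
theorem F434650 : act 0 n205021 = n198193 := d21_4 (iv5 F304274) (iv1 F197508) F301733 D205021 (iv6 D198193) (iv5 F172612) (iv1 D51383) D51384 (iv6 F328363) D177831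
def n205022 : Q := act 7 n125130
theorem D205022 : act 7 n125130 = n205022 := rfl
theorem F434651 : act 2 n205022 = n135192 := d4_1 D205022 F360249 (iv2 F201039)
theorem F434652 : act 3 n205022 = n186643 := d8_1 D205022 (iv7 F367998) F367996
theorem F434653 : act 5 n205022 = n136802 := d13_1 D205022 (iv7 F433525) F433524
theorem F434654 : act 6 n205022 = n134812 := d14_1 D205022 F350741 (iv6 F350739) (iv7 F117532) D125130
theorem F434655 : act 1 n179771 = n205022 := d15_1 D179771 (iv7 D205022) F201039
theorem F434656 : act 1 n205022 = n179770 := d15_1 F434655 (iv7 F424975) F424974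
theorem E103894 : n204805 = n201981 := ((c18_3 (iv1 D136802) (iv4 F179570) D201981 F433649 F253235 F366888 F407386 F404739 F434655 F434653)).symm
theorem F434657 : act 4 n201981 = n160338 := (sb E103894 F433649)
theorem F434658 : act 6 n201981 = n124384 := (sb E103894 (iv6 D204805))
def n205023 : Q := act 4 n125160
theorem D205023 : act 4 n125160 = n205023 := rfl
theorem F434659 : act 2 n205023 = n132315 := d1_1 D205023 (iv4 D132315) (iv2 F316704)
theorem F434660 : act 3 n205023 = n128586 := d5_1 D205023 (iv4 F332632) F332631 F318966 (iv3 F300833)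
theorem F434661 : act 7 n205023 = n128272 := d11_2 (iv7 F201170) D205023 (iv4 D128272)
theorem F434662 : act 5 n205023 = n198078 := d16_7 (iv4 F413141) (iv5 F413143) (iv4 D125163) (iv5 D58529) D58528 D125160 D205023 F406702 F355969
theorem F434663 : act 0 n205023 = n129224 := d18_2 (iv1 F316703) D205023 (iv4 D129224) (iv5 F208883) D61174 (iv0 F309717) F302475 F311276 F215416
theorem F434664 : act 1 n205023 = n129229 := d18_6 F310685 (iv4 F310696) (iv1 D58526) D58528 D125160 D205023 (iv4 D129229) F96711 F312960
def n205024 : Q := act 6 n125163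
theorem D205024 : act 6 n125163 = n205024 := rfl
theorem F434665 : act 4 n205024 = n125164 := d10_1 D205024 (iv6 D125164) D125163
theorem F434666 : act 7 n205024 = n127690 := d14_2 (iv7 F201177) D205024 F205280 F94437 (iv6 F94873)
theorem F434667 : act 0 n203276 = n205024 := d18_2 D118431 D203276 F434665 F201180 (iv4 F205194) (iv0 F334489) F334491 (iv0 F240650) F105162
theorem F434668 : act 1 n142906 = n205024 := d18_6 (iv1 D38925) (iv4 F36226) D47985 D103601 F342454 (iv4 F225783) F434665 F341038 (iv5 D84421)
def n205025 : Q := act 6 n125170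
theorem D205025 : act 6 n125170 = n205025 := rfl
theorem F434669 : act 2 n205025 = n144468 := d3_1 D205025 F317337 (iv2 F201207)
theorem F434670 : act 4 n205025 = n125171 := d10_1 D205025 (iv6 D125171) D125170
theorem F434671 : act 7 n205025 = n144471 := d14_2 (iv7 F201208) D205025 F366582 F241379 F185775
theorem F434672 : act 0 n202761 = n205025 := d21_4 D105692 D195552 F397322 D202761 (iv6 D205025) (iv5 F403601) (iv1 F403604) F167384 F325038 F179964
def n205026 : Q := act 3 n125174
theorem D205026 : act 3 n125174 = n205026 := rfl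
theorem F434673 : act 5 n205026 = n197403 := d6_2 (iv5 F316480) D205026 (iv3 D197403)
theorem F434674 : act 7 n205026 = n179905 := d8_2 F232986 D205026 (iv3 D179905)
def n205027 : Q := act 6 n125174
theorem D205027 : act 6 n125174 = n205027 := rfl
theorem F434675 : act 2 n205027 = n144429 := d3_1 D205027 F363462 F232983
theorem F434676 : act 4 n205027 = n139765 := d10_1 D205027 F222946 (iv4 F316479)
theorem F434677 : act 7 n205027 = n144430 := d14_2 F232986 D205027 F427327 (iv7 F427328) (iv6 F233011)
theorem F434678 : act 0 n144426 = n205027 := d21_4 D105628 (iv1 F227225) (iv5 D144425) D144426 (iv6 D205027) F316480 (iv1 D108142) (iv5 D49947) F38172 D48833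
theorem F434679 : act 1 n144432 = n205027 := d15_1 F427474 F434677 (iv2 F427470)
def n205028 : Q := act 1 n125176
theorem D205028 : act 1 n125176 = n205028 := rfl
theorem F434680 : act 1 n205028 = n156035 := d15_1 D205028 F245157 F353527
theorem F434681 : act 7 n205028 = n179911 := d15_2 (iv0 F404148) D205028 (iv2 F404147)
theorem F434682 : act 4 n146987 = n205028 := d20_0 (iv1 D205028) F201219 (iv3 D58549) (iv1 F92258) D124958 (iv4 F415913) (iv1 D200303) F175917 D197092 F403013
theorem F434683 : act 3 n195472 = n205028 := d20_3 F403764 (iv1 F214390) F397095 (iv1 D205028) (iv3 D125176) (iv4 D58544) D58542 D125170 (iv3 F396965) (iv1 F403767)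
theorem F434684 : act 2 n205028 = n179910 := d0_1 F434683 (iv3 F364195) (iv2 F366616) D197403 F404157
theorem F434685 : act 5 n197241 = n205028 := d2_0 F434684 F336911 F403700
theorem F434686 : act 5 n179951 = n197257 := d18_9 (iv1 D197257) F167048 D134974 (iv4 F403703) F434685 (iv4 F434682) (iv0 F403013) (iv4 F403804) (iv0 F403811)
def n205029 : Q := act 6 n125177
theorem D205029 : act 6 n125177 = n205029 := rfl
theorem F434687 : act 2 n205029 = n195475 := d3_1 D205029 F397099 (iv2 F343121)
theorem F434688 : act 3 n205029 = n195496 := d7_1 D205029 (iv6 F404115) (iv3 F404112)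
theorem F434689 : act 4 n205029 = n134726 := d10_1 D205029 (iv6 F388740) (iv4 F343126)
theorem F434690 : act 5 n205029 = n195497 := d12_1 D205029 (iv6 D195497) F353530 (iv6 D125178) D125177
theorem F434691 : act 0 n205029 = n195319 := d21_4 (iv5 F316477) (iv1 D125175) D125177 D205029 (iv6 D195319) (iv5 D105516) D105513 F361839 (iv6 D108144) D108141
theorem F434692 : act 7 n205029 = n196300 := d15_2 (iv0 F423156) (iv0 F434691) F423155
theorem F434693 : act 0 n195311 = n205029 := d20_10 F434689 (iv1 F216749) (iv4 F396625) F396624 (iv1 F162176) D137801 F221043 (iv1 F396677) (iv4 D195312) D195311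
def n205030 : Q := act 0 n125178
theorem D205030 : act 0 n125178 = n205030 := rfl
theorem F434694 : act 5 n205030 = n201967 := d17_1 D205030 (iv1 F422553) F349985 (iv4 D66431) (iv5 F317980) D31644 D68003 (iv0 F155431) (iv4 F201222)
theorem F434695 : act 4 n205030 = n201425 := d18_3 F155291 (iv4 F201222) D205030 (iv5 D201425) (iv4 D114489) (iv0 F290329) (iv4 F83612) (iv0 F311534) D67998
theorem F434696 : act 6 n155893 = n205030 := d10_0 F434695 (iv6 F428229) F428232
theorem F434697 : act 1 n145651 = n205030 := d18_6 F429828 (iv4 F349964) (iv1 F420585) F420581 F181095 (iv4 F228675) F434695 (iv0 F434219) F434218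
theorem F434698 : act 3 n205030 = n195483 := d19_3 F178545 D201425 (iv4 F434695) (iv1 D195483) (iv5 D105620) (iv4 F83970) (iv3 D53169) (iv1 F46319) D60467 F95026 (iv3 F170598) (iv1 F353477) (iv5 F223032) (iv4 F379394) (iv3 D190324) (iv1 D95870) (iv5 D44761) (iv4 F58162) (iv3 F86798)
def n205031 : Q := act 1 n125178
theorem D205031 : act 1 n125178 = n205031 := rfl
theorem F434699 : act 1 n205031 = n145651 := d15_1 D205031 F228676 F353529
theorem F434700 : act 4 n205031 = n201494 := d17_9 F434220 F434218 F429828 F225915 (iv4 F225901) F397112 (iv0 F397111) F353530 D205031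
def n205032 : Q := act 7 n125178
theorem D205032 : act 7 n125178 = n205032 := rfl
theorem F434701 : act 2 n205032 = n145651 := d4_1 D205032 F228676 F353529
theorem F434702 : act 3 n205032 = n141354 := d8_1 D205032 F224400 (iv3 F353525)
theorem F434703 : act 4 n205032 = n125179 := d11_1 D205032 (iv7 D125179) (iv4 F201222)
theorem F434704 : act 5 n205032 = n134004 := d13_1 D205032 F215938 F353530
theorem F434705 : act 6 n205032 = n145649 := d14_1 D205032 F320845 (iv6 D85970) (iv7 F92479) D125178
def n205033 : Q := act 5 n125181
theorem D205033 : act 5 n125181 = n205033 := rfl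
theorem F434706 : act 2 n205033 = n204702 := d2_1 D205033 F433308 (iv2 F404447)
theorem F434707 : act 6 n205033 = n160405 := d12_2 (iv6 F341149) D205033 (iv5 F429427) F429429 F378998
theorem F434708 : act 7 n205033 = n179610 := d13_2 (iv7 F201238) D205033 (iv5 D179610)
theorem F434709 : act 0 n205033 = n129023 := d17_2 (iv1 F314350) D205033 F208891 (iv4 D74564) (iv5 F208892) F98057 F98053 F79055 D74735
theorem F434710 : act 1 n205033 = n129028 := d17_6 (iv1 F201162) F310807 (iv1 F310793) (iv5 F302474) D125181 D205033 F208895 D156773 (iv4 F312157)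
def n205034 : Q := act 3 n125187
theorem D205034 : act 3 n125187 = n205034 := rfl
theorem F434711 : act 5 n205034 = n128175 := d6_2 (iv5 F350997) D205034 (iv3 F342704)
theorem F434712 : act 7 n205034 = n128174 := d8_2 (iv7 F350998) D205034 F341256
theorem F434713 : act 4 n205034 = n154106 := d20_6 F60356 (iv1 D27853) D27854 D58549 D125187 D205034 (iv1 D154106) F326221 (iv3 D39454) (iv1 F60355)
theorem F434714 : act 0 n205034 = n204361 := d20_10 (iv4 D204361) (iv1 F354239) F354237 (iv3 F345606) F345603 (iv3 F402902) F402903 D199337 F411759 D205034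
def n205035 : Q := act 6 n125187
theorem D205035 : act 6 n125187 = n205035 := rfl
theorem F434715 : act 2 n205035 = n162607 := d3_1 D205035 F350985 (iv2 F350996)
theorem F434716 : act 5 n205035 = n203296 := d12_1 D205035 (iv6 D203296) D203295 F427733 (iv5 F350997)
theorem F434717 : act 0 n141804 = n205035 := d21_4 F359100 (iv1 D66482) D66484 D141804 (iv6 D205035) F350997 (iv1 F350992) (iv5 D107613) F78552 D59428
def n205036 : Q := act 1 n125190
theorem D205036 : act 1 n125190 = n205036 := rfl
theorem F434718 : act 1 n205036 = n195498 := d15_1 D205036 F397154 (iv2 F353521)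
theorem F434719 : act 7 n205036 = n188497 := d15_2 (iv0 F353473) D205036 F373709
theorem F434720 : act 5 n205036 = n188498 := d17_7 (iv1 F379399) F379395 F224594 F223040 (iv4 F170161) F353475 D205036 F373719 (iv4 F346326)
theorem F434721 : act 4 n205036 = n145505 := d18_7 F181515 (iv4 D116397) F102938 F102936 D105628 F353474 D205036 F228555 (iv5 D141333)
theorem F434722 : act 3 n198865 = n205036 := d20_5 F165986 (iv1 D53187) F80331 D110425 F409640 F434721 F228554 F224370 F165984 D107588
def n205037 : Q := act 1 n125197
theorem D205037 : act 1 n125197 = n205037 := rfl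
theorem F434723 : act 7 n205037 = n179541 := d15_2 (iv0 F282911) D205037 F279559
theorem F434724 : act 5 n205037 = n195231 := d18_9 F396384 (iv4 F359061) (iv1 F425170) (iv4 D202699) F181644 (iv4 F214684) (iv0 F355800) F355798 D205037
theorem F434725 : act 6 n150580 = n205037 := d21_3 F424675 (iv1 F414548) (iv5 F348043) (iv1 D205037) (iv6 F334906) F334905 F183263 D146632 (iv6 F342381) D202596
theorem F434726 : act 2 n205037 = n179631 := d3_1 F434725 (iv6 F348035) (iv2 F348039)
theorem F434727 : act 0 n179632 = n205037 := d21_4 (iv5 F344030) F346601 (iv5 F309228) (iv6 F279740) (iv6 F434725) F348043 F348044 (iv5 F228726) (iv6 F342376) F346598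
def n205038 : Q := act 2 n125197
theorem D205038 : act 2 n125197 = n205038 := rfl
theorem F434728 : act 3 n205038 = n179637 := d0_2 D125197 D205038 (iv2 D179637) (iv3 D85779) (iv2 F131537)
theorem F434729 : act 5 n205038 = n147982 := d2_2 (iv5 F201279) D205038 F231812
theorem F434730 : act 6 n205038 = n194514 := d3_2 F334906 D205038 F393519
theorem F434731 : act 7 n205038 = n179632 := d4_2 (iv7 F201280) D205038 (iv2 D179632)
theorem F434732 : act 1 n205038 = n179631 := d15_0 (iv0 D179631) (iv7 F201280) D205038
theorem F434733 : act 1 n179541 = n205038 := d15_0 F434732 F348040 (iv2 F279559)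
def n205039 : Q := act 4 n125273
theorem D205039 : act 4 n125273 = n205039 := rfl
theorem F434734 : act 2 n205039 = n125354 := d1_1 D205039 (iv4 D125354) (iv2 F353891)
theorem F434735 : act 6 n205039 = n178230 := d10_2 (iv6 F341201) D205039 (iv4 D178230)
theorem F434736 : act 7 n205039 = n125349 := d11_2 (iv7 F353892) D205039 (iv4 D125349)
def n205040 : Q := act 3 n125274
theorem D205040 : act 3 n125274 = n205040 := rfl
theorem F434737 : act 2 n205040 = n174118 := d0_1 D205040 (iv3 F353951) (iv2 F353895) (iv3 D125348) (iv2 F353889)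
theorem F434738 : act 5 n205040 = n191720 := d6_2 (iv5 F345820) D205040 F384257
theorem F434739 : act 6 n205040 = n174038 := d7_2 F353946 D205040 F358645
theorem F434740 : act 7 n205040 = n125353 := d8_2 (iv7 F353890) D205040 (iv3 D125353)
theorem F434741 : act 1 n173232 = n205040 := d15_1 (iv0 F347504) F434740 F353909
theorem F434742 : act 1 n205040 = n163696 := d15_1 F434741 F355393 (iv2 F271554)
def n205041 : Q := act 4 n125274
theorem D205041 : act 4 n125274 = n205041 := rfl
theorem F434743 : act 2 n205041 = n125349 := d1_1 D205041 (iv4 D125349) (iv2 F353889)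
theorem F434744 : act 6 n205041 = n144311 := d10_2 F353946 D205041 (iv4 F358647)
theorem F434745 : act 7 n205041 = n125354 := d11_2 (iv7 F353890) D205041 (iv4 D125354)
theorem F434746 : act 3 n205041 = n144313 := d19_3 (iv1 F353883) (iv5 F345820) D205041 F402152 (iv5 F402153) (iv4 F415619) (iv3 D200228) F175770 D112866 D200232 (iv3 F415633) (iv1 D187270) D187272 F369668 (iv3 F392633) F392636 (iv5 D172371) (iv4 D82541) D82540
def n205042 : Q := act 0 n125287
theorem D205042 : act 0 n125287 = n205042 := rfl
theorem F434747 : act 5 n205042 = n125358 := d17_1 D205042 F357868 F341219 (iv4 F433147) F433148 (iv0 D199605) (iv5 D111472) F361601 (iv4 F302659)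
theorem F434748 : act 3 n205042 = n147452 := d20_5 (iv4 D27901) (iv1 F45032) D58651 D125287 D205042 (iv4 F362491) (iv1 D174679) (iv4 F302658) F119466 (iv1 F56362)
theorem F434749 : act 6 n205042 = n147451 := d21_5 F220482 (iv1 F100490) (iv5 F320720) (iv6 F201494) D205042 F231242 (iv1 F402976) F402973 F336501 F325250
theorem F434750 : act 2 n165646 = n205042 := d15_3 (iv0 D205042) (iv0 F353953) (iv7 F348594)
theorem F434751 : act 1 n165647 = n205042 := d15_0 (iv0 D205042) (iv7 F304724) D165647
theorem F434752 : act 7 n205042 = n164025 := d15_2 (iv0 F353876) F434751 F339509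
def n205043 : Q := act 3 n125311
theorem D205043 : act 3 n125311 = n205043 := rfl
theorem F434753 : act 4 n205043 = n199261 := d5_2 (iv4 F301636) D205043 F411360 (iv4 F297437) (iv3 F298976)
theorem F434754 : act 5 n205043 = n197637 := d6_2 (iv5 F360008) D205043 (iv3 D197637)
theorem F434755 : act 6 n205043 = n199260 := d7_2 (iv6 F301637) D205043 F411356
theorem F434756 : act 7 n205043 = n180166 := d8_2 (iv7 F201554) D205043 (iv3 D180166)
theorem F434757 : act 0 n144322 = n205043 := d21_4 F92860 F53454 D67620 D144322 F434755 F411357 (iv1 F400864) (iv5 D196499) (iv6 D107037) (iv1 F92858)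
def n205044 : Q := act 0 n125312
theorem D205044 : act 0 n125312 = n205044 := rfl
theorem F434758 : act 5 n205044 = n197636 := d17_1 D205044 (iv1 F431994) (iv5 D204310) F304441 F322580 F344936 F303617 F322764 (iv4 F201555)
theorem F434759 : act 4 n205044 = n173232 := d18_3 (iv1 F328764) (iv4 F201555) D205044 F347503 (iv4 F355387) F367930 F367927 F334684 F328786
theorem F434760 : act 2 n174116 = n205044 := d15_3 (iv0 D205044) F358719 (iv7 F355394)
theorem F434761 : act 1 n180170 = n205044 := d15_0 (iv0 D205044) F201556 D180170
theorem F434762 : act 7 n205044 = n180168 := d15_2 (iv0 F355395) F434761 F358731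
theorem F434763 : act 6 n173231 = n205044 := d14_5 F434762 F358733 (iv7 F254362) (iv6 F330715) (iv7 F271552)
def n205045 : Q := act 5 n125312
theorem D205045 : act 5 n125312 = n205045 := rfl
theorem F434764 : act 2 n205045 = n191391 := d2_1 D205045 (iv5 D191391) (iv2 F358716)
theorem F434765 : act 3 n205045 = n125313 := d6_1 D205045 (iv5 D125313) D125312
theorem F434766 : act 7 n205045 = n180171 := d13_2 (iv7 F201556) D205045 (iv5 D180171)
theorem F434767 : act 4 n205045 = n188090 := d16_2 (iv4 F201555) D205045 (iv5 F383500) F383499 (iv5 D120415) F300578 (iv5 F321788) (iv7 F322768) F322767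
theorem F434768 : act 0 n205045 = n191930 := d17_2 (iv1 F358719) D205045 (iv5 F384876) D204305 F431970 F384260 (iv5 F434738) F434742 (iv4 F281418)
theorem F434769 : act 1 n205045 = n192516 := d17_6 (iv1 F201503) (iv5 F342099) (iv1 D98230) (iv5 F321013) (iv4 F201555) D205045 F386933 F431968 F431965
theorem F434770 : act 6 n192342 = n205045 := d10_0 F434767 (iv6 F372302) D192342
def n205046 : Q := act 4 n125334
theorem D205046 : act 4 n125334 = n205046 := rfl
theorem F434771 : act 2 n205046 = n177610 := d1_1 D205046 F333811 (iv2 F330723)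
theorem F434772 : act 5 n205046 = n199653 := d9_2 (iv5 F344885) D205046 (iv4 F413018) D199969 F414402 F385517 F274030 F327556 (iv4 F193295) (iv5 F413013) F413014 D199967 F414390 F385523 (iv4 F278301)
theorem F434773 : act 6 n205046 = n174108 := d10_2 (iv6 F330725) D205046 (iv4 D174108)
theorem F434774 : act 7 n205046 = n163726 := d11_2 (iv7 F330726) D205046 F258086
theorem F434775 : act 0 n205046 = n203885 := d18_2 D125334 D205046 F430237 (iv5 D127990) (iv4 F205931) F300970 F190304 (iv0 D119144) (iv5 F321018)
theorem F434776 : act 1 n205046 = n158445 := d18_6 F189975 (iv4 F128790) D175347 (iv4 F278301) (iv5 F344885) D205046 (iv4 D158445) D158444 (iv5 F249645)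
theorem F434777 : act 3 n205046 = n178546 := d19_3 (iv1 F278300) (iv5 F344885) D205046 (iv1 D178546) (iv5 D85011) (iv4 D39312) (iv3 F43316) D55641 F311045 (iv4 F104782) (iv3 F237438) (iv1 D29744) (iv5 F24638) (iv4 F49218) (iv3 F317614) (iv1 F53272) F315368 (iv4 F316585) (iv3 F318947)
def n205047 : Q := act 1 n125349
theorem D205047 : act 1 n125349 = n205047 := rfl
theorem F434778 : act 1 n205047 = n125354 := d15_1 D205047 (iv7 F434745) F434743
def n205048 : Q := act 3 n125349
theorem D205048 : act 3 n125349 = n205048 := rfl
theorem F434779 : act 0 n194888 = n205048 := d20_4 (iv4 D190680) F150262 D191257 (iv3 F394865) (iv3 D205048) (iv4 D125349) (iv1 F201458) (iv4 F433147) F433146 (iv1 F394595)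
def n205049 : Q := act 5 n125349
theorem D205049 : act 5 n125349 = n205049 := rfl
def n205050 : Q := act 6 n125349
theorem D205050 : act 6 n125349 = n205050 := rfl
theorem F434780 : act 2 n205050 = n144311 := d3_1 D205050 (iv6 F434744) F434743
theorem F434781 : act 4 n205050 = n125351 := d10_1 D205050 (iv6 D125351) D125349
theorem F434782 : act 7 n205050 = n199117 := d14_2 F434736 D205050 F410748 F353916 (iv6 F434735)
theorem F434783 : act 5 n144310 = n205050 := d21_2 (iv5 F400560) (iv1 F400561) (iv6 D205050) (iv1 F383316) (iv6 F411325) (iv5 D199250) (iv1 D111110) F333001 (iv6 F333002) D110958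
theorem F434784 : act 1 n205050 = n199119 := d17_6 D156687 F338251 (iv1 F429847) (iv5 F429853) F245987 F434783 F410756 F357639 (iv4 F111874)
theorem F434785 : act 1 n199112 = n205050 := d15_0 F434784 (iv7 D199119) (iv2 F410723)
def n205051 : Q := act 4 n125353
theorem D205051 : act 4 n125353 = n205051 := rfl
theorem F434786 : act 5 n205051 = n192518 := d16_1 D205051 (iv4 D192518) D192519 (iv4 F386939) (iv5 D182920) (iv4 F154905) F353952 F353950 (iv2 F353909)
theorem F434787 : act 1 n205051 = n174202 := d18_6 D98229 (iv4 F354029) (iv1 F354031) (iv4 F241416) F353948 D205051 F272994 F322764 F321013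
theorem F434788 : act 0 n205051 = n180807 := d20_1 D205051 F281456 (iv3 F281449) F348554 F249643 D158445 (iv1 F434776) (iv4 D205046) F330724 (iv1 F353949)
def n205052 : Q := act 3 n125354
theorem D205052 : act 3 n125354 = n205052 := rfl
theorem F434789 : act 7 n205052 = n144313 := d8_2 F434745 D205052 (iv3 F434746)
theorem F434790 : act 0 n199261 = n205052 := d20_4 F148258 (iv1 F196426) F297437 (iv3 F411360) (iv3 D205052) (iv4 D125354) (iv1 D58700) (iv4 F91636) (iv3 D57918) D57916
def n205053 : Q := act 5 n125354
theorem D205053 : act 5 n125354 = n205053 := rfl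
def n205054 : Q := act 4 n125357
theorem D205054 : act 4 n125357 = n205054 := rfl
theorem F434791 : act 2 n205054 = n125360 := d1_1 D205054 (iv4 D125360) (iv2 F201628)
theorem F434792 : act 6 n205054 = n173390 := d10_2 F250765 D205054 F342349
theorem F434793 : act 7 n205054 = n191809 := d11_2 F341220 D205054 (iv4 F384507)
theorem F434794 : act 0 n205054 = n173515 := d18_2 F345831 D205054 F271968 D173520 F361594 (iv0 F363992) (iv4 F406490) (iv0 F406494) F339510
theorem F434795 : act 1 n205054 = n191807 := d18_6 F357801 (iv4 F433134) (iv1 F433136) F198707 D125357 D205054 F384505 (iv0 D172574) (iv5 F151594)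
def n205055 : Q := act 0 n125360
theorem D205055 : act 0 n125360 = n205055 := rfl
theorem F434796 : act 4 n205055 = n173454 := d18_3 F330178 D125360 D205055 (iv5 F348176) F172955 F361601 (iv4 F302659) (iv0 F353953) (iv5 D135368)
theorem F434797 : act 3 n205055 = n157402 := d20_5 F238339 F232793 D133627 (iv3 F361497) D205055 (iv4 F403374) F403376 (iv4 F385409) F385408 F361919
theorem F434798 : act 2 n173515 = n205055 := d15_3 (iv0 D205055) (iv0 F351633) (iv7 F357794)
theorem F434799 : act 1 n191809 = n205055 := d15_0 (iv0 D205055) (iv7 F427154) (iv2 F427157)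
theorem F434800 : act 7 n205055 = n191807 := d15_2 D191809 F434799 F384504
theorem F434801 : act 6 n157400 = n205055 := d14_5 F434800 (iv6 D191807) F354622 (iv6 D173496) (iv7 F354638)
def n205056 : Q := act 1 n125366
theorem D205056 : act 1 n125366 = n205056 := rfl
theorem F434802 : act 1 n205056 = n125370 := d15_1 D205056 (iv7 F261366) (iv2 F261367)
theorem F434803 : act 7 n205056 = n180364 := d15_2 F258685 D205056 F280686
theorem F434804 : act 5 n205056 = n186703 := d17_7 (iv1 D98656) (iv5 F74354) D101163 D193080 F388687 F358981 D205056 (iv0 F384181) (iv4 D191696)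
theorem F434805 : act 4 n205056 = n188494 := d17_9 (iv1 F373692) F325693 (iv1 F258033) (iv5 D86304) D86303 D180672 (iv0 F383855) F358981 D205056
theorem F434806 : act 3 n180329 = n205056 := d20_3 F95275 D128648 F358307 (iv1 D205056) (iv3 F358972) F358973 D165948 F280652 (iv3 F362863) (iv1 D129081)
theorem F434807 : act 6 n198868 = n205056 := d21_9 (iv5 F358981) F383855 (iv5 D180672) D180673 F413273 F413271 F397860 (iv1 F384097) (iv5 F409660) (iv1 D205056)
theorem F434808 : act 2 n205056 = n180363 := d3_1 F434807 (iv6 F384093) (iv2 F409658)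
def n205057 : Q := act 5 n125370
theorem D205057 : act 5 n125370 = n205057 := rfl
theorem F434809 : act 2 n205057 = n180366 := d2_1 D205057 (iv5 D180366) F261364
theorem F434810 : act 4 n205057 = n193082 := d9_1 D205057 (iv5 D193082) (iv4 F362334) (iv5 D180439) (iv4 D86176) (iv5 F194349) D125366 (iv5 F358981) (iv4 F388687) (iv5 D193080) F362339 (iv5 D180449) (iv4 D86181) (iv5 F201640) D125370
theorem F434811 : act 6 n205057 = n191644 := d12_2 (iv6 F355052) D205057 (iv5 F396083) F396084 (iv5 F332711)
theorem F434812 : act 7 n205057 = n180376 := d13_2 F261366 D205057 (iv5 D180376)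
theorem F434813 : act 0 n205057 = n191567 := d17_2 F258686 D205057 F383849 (iv4 F254261) D163690 (iv0 F258214) (iv5 F194347) F258235 D164137
theorem F434814 : act 1 n205057 = n180672 := d17_6 (iv1 F92786) F92784 (iv1 F60692) (iv5 F201640) D125370 D205057 (iv5 D180672) (iv0 F132261) (iv4 D75190)
def n205058 : Q := act 5 n125373
theorem D205058 : act 5 n125373 = n205058 := rfl
theorem F434815 : act 2 n205058 = n128509 := d2_1 D205058 F346501 F360732
theorem F434816 : act 6 n205058 = n127766 := d12_2 (iv6 F360740) D205058 (iv5 F362166) F362167 F342327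
theorem F434817 : act 7 n205058 = n173378 := d13_2 (iv7 F360741) D205058 F271859
theorem F434818 : act 4 n205058 = n195924 := d16_4 (iv4 F417284) (iv5 D200630) (iv4 F366129) D205058 F400232 F386660 (iv5 F384174) (iv7 F386882) (iv2 F389566)
theorem F434819 : act 0 n205058 = n175019 := d17_2 D125373 D205058 F360718 (iv4 D113475) D113476 F345759 (iv5 F345757) (iv0 F324562) F160849
theorem F434820 : act 1 n205058 = n175018 := d17_6 (iv1 F416657) D200495 (iv1 F417286) (iv5 D200630) (iv4 F366129) D205058 F360724 (iv0 F407045) (iv4 F416652)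
def n205059 : Q := act 4 n125378
theorem D205059 : act 4 n125378 = n205059 := rfl
theorem F434821 : act 2 n205059 = n137162 := d1_1 D205059 (iv4 F416938) F416936
theorem F434822 : act 3 n205059 = n143075 := d5_1 D205059 F352441 F133643 (iv4 F92779) (iv3 F201658)
theorem F434823 : act 6 n205059 = n135967 := d10_2 F418007 D205059 (iv4 F418006)
theorem F434824 : act 7 n205059 = n157803 := d11_2 (iv7 F201659) D205059 (iv4 D157803)
theorem F434825 : act 0 n205059 = n193363 := d17_0 F389583 (iv1 D190548) (iv5 D96151) (iv4 F147818) (iv5 F345227) F160844 D180351 F280668 D205059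
theorem F434826 : act 1 n205059 = n193362 := d18_6 F254413 (iv4 D125400) (iv1 D58716) (iv4 F92776) D125378 D205059 F389579 (iv0 F389597) (iv5 F389596)
def n205060 : Q := act 0 n125380
theorem D205060 : act 0 n125380 = n205060 := rfl
theorem F434827 : act 4 n205060 = n183509 := d20_0 (iv1 F380763) (iv4 F398039) (iv3 D195748) D195746 (iv3 F398034) (iv4 D137152) (iv1 F218737) (iv4 F418006) (iv3 F418009) D205060
theorem F434828 : act 1 n182516 = n205060 := d15_0 (iv0 D205060) (iv7 F418048) F418045
theorem F434829 : act 2 n182513 = n205060 := d1_3 F434827 (iv2 F380751) (iv4 F380752)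
theorem F434830 : act 7 n182514 = n205060 := d11_0 F434827 (iv7 F380755) (iv4 F416725)
def n205061 : Q := act 1 n125380
theorem D205061 : act 1 n125380 = n205061 := rfl
theorem F434831 : act 1 n205061 = n182516 := d15_1 D205061 (iv7 D182516) (iv2 F201662)
theorem F434832 : act 7 n205061 = n182513 := d15_2 (iv0 D205060) D205061 F434829
theorem F434833 : act 4 n205061 = n136224 := d18_7 (iv1 F394150) (iv4 F416720) F416721 F375935 F294442 (iv4 F201663) D205061 F380762 F380760
theorem F434834 : act 6 n136223 = n205061 := d21_3 F220883 F173421 (iv5 F219255) (iv1 D205061) (iv6 D125380) (iv5 D58711) F45081 D44513 D95290 (iv1 F349686)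
theorem F434835 : act 2 n205061 = n182514 := d3_1 F434834 (iv6 F417979) F417974
def n205062 : Q := act 4 n125405
theorem D205062 : act 4 n125405 = n205062 := rfl
theorem F434836 : act 2 n205062 = n200530 := d1_1 D205062 F416891 F353629
theorem F434837 : act 3 n205062 = n199425 := d5_1 D205062 (iv4 D199425) D199424 F412123 F342073
theorem F434838 : act 6 n205062 = n128717 := d10_2 (iv6 F336017) D205062 F333054
theorem F434839 : act 7 n205062 = n199726 := d11_2 F353631 D205062 F413270
theorem F434840 : act 0 n205062 = n200465 := d18_2 (iv1 F277063) D205062 (iv4 D200465) F232043 (iv4 F343316) F238144 (iv4 F239656) (iv0 F419687) F419685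
theorem F434841 : act 1 n205062 = n200463 := d18_6 (iv1 F230553) F343350 F353834 (iv4 F334786) (iv5 F336016) D205062 (iv4 D200463) (iv0 D113140) F105258
def n205063 : Q := act 5 n125426
theorem D205063 : act 5 n125426 = n205063 := rfl
theorem F434842 : act 3 n205063 = n125441 := d6_1 D205063 (iv5 D125441) (iv3 F201713)
theorem F434843 : act 4 n205063 = n194704 := d18_5 D69217 D147711 (iv1 F353255) F254099 D205063 (iv0 D194704) (iv4 F336607) (iv0 D147719) (iv5 D69219)
theorem F434844 : act 0 n193131 = n205063 := d21_10 (iv5 D205063) F368205 (iv5 F434577) (iv6 D205007) F375967 (iv6 D189177) F294127 (iv1 F291978) (iv5 F155934) D193131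
def n205064 : Q := act 5 n125428
theorem D205064 : act 5 n125428 = n205064 := rfl
theorem F434845 : act 0 n205064 = n164011 := d17_2 D125428 D205064 (iv5 D164011) (iv4 D78796) F250795 F55016 (iv5 F55912) F55914 D58726
theorem F434846 : act 1 n205064 = n164003 := d17_6 (iv1 F280695) (iv5 F254070) (iv1 F254411) F248744 (iv4 F201715) D205064 (iv5 D164003) D164001 F280696
theorem F434847 : act 4 n164011 = n204748 := d18_1 F434845 (iv1 D204748) (iv4 D124303) (iv5 D57946) F44572 D27921 D58731 F201720 D205064
def n205065 : Q := act 6 n125428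
theorem D205065 : act 6 n125428 = n205065 := rfl
theorem F434848 : act 2 n205065 = n199247 := d3_1 D205065 F413342 (iv2 F256577)
theorem F434849 : act 3 n205065 = n197771 := d7_1 D205065 F413312 (iv3 F413311)
theorem F434850 : act 4 n205065 = n174807 := d10_1 D205065 F342071 (iv4 F201715)
theorem F434851 : act 7 n199250 = n205065 := d11_0 F434850 (iv7 F383319) F411324
theorem F434852 : act 5 n199236 = n205065 := d16_3 (iv4 F226274) (iv5 F363871) (iv4 F411262) F434850 (iv5 D174807) (iv4 F272355) F330226 (iv7 F341205) (iv2 D143869)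
def n205066 : Q := act 5 n125429
theorem D205066 : act 5 n125429 = n205066 := rfl
theorem F434853 : act 3 n205066 = n203697 := d6_1 D205066 F429442 (iv3 F256581)
theorem F434854 : act 0 n205066 = n164003 := d17_2 (iv1 F201716) D205066 (iv5 D164003) (iv4 D78791) (iv5 F250799) (iv0 D34808) F27600 D27921 D58731
theorem F434855 : act 1 n205066 = n164011 := d17_6 (iv1 F258468) F257781 (iv1 F254181) (iv5 F256538) (iv4 F256579) D205066 (iv5 D164011) F258466 F258465
theorem F434856 : act 6 n125429 = n205047 := d21_3 D164011 (iv1 F434855) (iv5 D205066) (iv1 D205047) D205050 (iv5 F434783) (iv1 F400566) (iv5 F400567) (iv6 F364753) (iv1 F258466)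
theorem F434857 : act 0 n205049 = n202459 := d21_1 D205049 (iv5 F424090) (iv6 F352239) F352240 (iv6 D164012) D164011 (iv1 F434855) (iv5 D205066) F434856 (iv1 D205047)
def n205067 : Q := act 1 n125430
theorem D205067 : act 1 n125430 = n205067 := rfl
theorem F434858 : act 4 n160864 = n205067 := d20_0 (iv1 D205067) (iv4 F254097) (iv3 D160899) (iv1 D77209) (iv3 D35243) (iv4 D17102) D17101 D35240 D77199 D160864
theorem F434859 : act 6 n205067 = n194888 := d10_2 (iv6 F358421) F434858 (iv4 D194888)
def n205068 : Q := act 2 n125430
theorem D205068 : act 2 n125430 = n205068 := rfl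
def n205069 : Q := act 5 n125430
theorem D205069 : act 5 n125430 = n205069 := rfl
theorem F434860 : act 3 n205069 = n125431 := d6_1 D205069 (iv5 D125431) D125430
def n205070 : Q := act 6 n125430
theorem D205070 : act 6 n125430 = n205070 := rfl
theorem F434861 : act 3 n205070 = n125432 := d7_1 D205070 (iv6 D125432) D125430
theorem F434862 : act 4 n205070 = n199971 := d10_1 D205070 (iv6 F414413) F254097
theorem F434863 : act 1 n204277 = n205070 := d18_6 (iv1 D198610) F169682 D196715 F401579 (iv5 F395194) (iv4 F431820) F434862 (iv0 D199971) (iv5 F408520)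
def n205071 : Q := act 0 n125431
theorem D205071 : act 0 n125431 = n205071 := rfl
theorem F434864 : act 5 n205071 = n180373 := d17_3 (iv1 D125429) D125431 D205071 (iv4 D180373) F256339 (iv0 F257783) F250809 F256588 (iv4 F256579)
theorem F434865 : act 1 n125451 = n205071 := d15_0 (iv0 D205071) (iv7 F254443) F254451
def n205072 : Q := act 1 n125431
theorem D205072 : act 1 n125431 = n205072 := rfl
theorem F434866 : act 1 n205072 = n125451 := d15_1 D205072 F254450 F254444
theorem F434867 : act 5 n205072 = n180646 := d17_7 F254088 F43547 D35894 (iv5 F254073) D58726 D125431 D205072 F281177 (iv4 D86309)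
theorem F434868 : act 3 n204710 = n205072 := d6_3 F434867 (iv3 F281181) D204710
theorem F434869 : act 6 n190995 = n205072 := d12_0 F434867 F400833 F400831 (iv6 F400832) F381832
theorem F434870 : act 4 n205072 = n190996 := d10_1 F434869 (iv6 D190996) D190995
theorem F434871 : act 1 n190996 = n199666 := d18_6 D78769 D163960 F258429 (iv4 F281179) (iv5 F434867) F434870 (iv4 D199666) F327524 (iv5 D78772)
def n205073 : Q := act 4 n125431
theorem D205073 : act 4 n125431 = n205073 := rfl
theorem F434872 : act 1 n205073 = n203892 := d18_6 (iv1 D57944) F44572 D27920 D58726 D125431 D205073 (iv4 D203892) F254078 (iv5 D124298)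
theorem F434873 : act 6 n205073 = n198485 := d21_5 F378815 F393116 F393112 F430271 (iv1 F434872) (iv5 D198485) F380650 F380648 (iv6 D190089) D190086
theorem F434874 : act 3 n198486 = n205073 := d7_3 F434873 F408138 (iv6 F409020)
theorem F434875 : act 4 n205069 = n198485 := d5_4 D198486 F434874 (iv4 D205073) (iv3 F434860) F408138
theorem F434876 : act 6 n125431 = n205069 := d10_0 F434875 (iv6 F434873) (iv4 D205073)
theorem F434877 : act 5 n205070 = n125432 := d12_3 F434876 (iv5 D205069) D205070 (iv6 D125432) D125431
def n205074 : Q := act 0 n125432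
theorem D205074 : act 0 n125432 = n205074 := rfl
theorem F434878 : act 4 n205074 = n177601 := d18_1 D205074 (iv1 F403544) F403541 (iv5 F363323) F363325 (iv0 F395195) (iv4 F431820) F434863 F434877
theorem F434879 : act 1 n203846 = n205074 := d15_0 (iv0 D205074) (iv7 F339263) (iv2 F430085)
theorem F434880 : act 7 n177631 = n205074 := d11_0 F434878 F277067 D177631
theorem F434881 : act 3 n204281 = n205074 := d20_5 (iv4 F173183) (iv1 F173190) F343756 (iv3 F197650) D204281 F434878 (iv1 F403544) F403541 F172694 D111302
theorem F434882 : act 2 n205074 = n174114 := d0_1 F434881 (iv3 D174114) (iv2 F271551) F412174 F431840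
def n205075 : Q := act 1 n125432
theorem D205075 : act 1 n125432 = n205075 := rfl
theorem F434883 : act 1 n205075 = n203846 := d15_1 D205075 F430087 F254432
theorem F434884 : act 7 n205075 = n174114 := d15_2 (iv0 D205074) D205075 (iv2 F434882)
theorem F434885 : act 3 n173225 = n205075 := d19_19 (iv1 D205075) (iv5 F434877) F434862 F414412 F353254 D162985 (iv4 F393338) F393337 F363157 D196994 F402605 (iv3 F364917) F364919 F324975 F127661 F58971 D38134 D82897 D173225
theorem F434886 : act 4 n177630 = n205075 := d20_0 (iv1 D205075) F201717 (iv3 F201713) F368205 (iv3 D125974) (iv4 F172665) (iv1 D111292) (iv4 F166905) (iv3 F403540) F403543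
theorem F434887 : act 2 n205075 = n177631 := d1_1 F434886 (iv4 D177631) D177630
theorem F434888 : act 6 n205075 = n180485 := d10_2 F362463 F434886 F280909
def n205076 : Q := act 4 n125441
theorem D205076 : act 4 n125441 = n205076 := rfl
def n205077 : Q := act 7 n125449
theorem D205077 : act 7 n125449 = n205077 := rfl
theorem F434889 : act 2 n205077 = n160737 := d4_1 D205077 F359845 (iv2 F358636)
theorem F434890 : act 3 n205077 = n125458 := d8_1 D205077 (iv7 D125458) (iv3 F201730)
theorem F434891 : act 4 n205077 = n134817 := d11_1 D205077 F358826 (iv4 F349852)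
theorem F434892 : act 5 n205077 = n152491 := d13_1 D205077 F347990 (iv5 F347988)
theorem F434893 : act 6 n205077 = n203845 := d14_1 D205077 F430084 (iv6 D160582) F254321 D125449
theorem F434894 : act 1 n174040 = n205077 := d15_1 (iv0 F358633) (iv7 D205077) F358636
theorem F434895 : act 1 n205077 = n180599 := d15_1 F434894 F387322 F387317
def n205078 : Q := act 4 n125451
theorem D205078 : act 4 n125451 = n205078 := rfl
theorem F434896 : act 0 n205078 = n203892 := d18_2 (iv1 F434865) D205078 (iv4 D203892) (iv5 D121272) F88531 (iv0 F254088) D86309 (iv0 F280700) (iv5 F434864)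
def n205079 : Q := act 6 n125451
theorem D205079 : act 6 n125451 = n205079 := rfl
theorem F434897 : act 2 n205079 = n191873 := d3_1 D205079 F384631 F254451
theorem F434898 : act 5 n205079 = n191870 := d12_1 D205079 F412309 (iv5 D199465) F349855 D125451
theorem F434899 : act 4 n194167 = n205079 := d16_2 D102866 D194167 F434898 (iv4 D191870) (iv5 F367087) F142560 D186050 F288660 F158174
theorem F434900 : act 6 n205078 = n194167 := d10_0 F434899 (iv6 D205079) D205078
def n205080 : Q := act 0 n125459
theorem D205080 : act 0 n125459 = n205080 := rfl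
theorem F434901 : act 6 n205080 = n202981 := d21_5 (iv5 D87418) F69724 D94122 F352684 D205080 (iv5 D202981) (iv1 F360602) F350038 (iv6 D104206) (iv1 F134171)
def n205081 : Q := act 1 n125459
theorem D205081 : act 1 n125459 = n205081 := rfl
theorem F434902 : act 5 n205081 = n197589 := d17_7 F352252 D198322 F407602 (iv5 F405200) (iv4 D136666) (iv5 F201732) D205081 (iv0 F404933) F358548
theorem F434903 : act 4 n205081 = n197630 := d17_9 (iv1 F405105) (iv5 F407609) (iv1 F407610) (iv5 F219648) (iv4 D136544) D136545 F343910 (iv5 F201732) D205081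
def n205082 : Q := act 0 n125463
theorem D205082 : act 0 n125463 = n205082 := rfl
theorem F434904 : act 3 n205082 = n187108 := d20_5 F96623 F80349 D58736 D125463 D205082 F377224 (iv1 D112902) F329285 (iv3 F329011) D62016
theorem F434905 : act 1 n192268 = n205082 := d15_0 (iv0 D205082) F201752 (iv2 F386251)
theorem F434906 : act 7 n197249 = n205082 := d8_0 F434904 (iv7 F390581) (iv3 F403728)
def n205083 : Q := act 1 n125463
theorem D205083 : act 1 n125463 = n205083 := rfl
theorem F434907 : act 6 n202975 = n205083 := d21_9 F201751 (iv1 F393993) (iv5 D136574) (iv6 F352948) (iv1 F99583) D136100 (iv5 F360622) (iv1 F360625) D202975 (iv1 D205083)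
theorem F434908 : act 2 n205083 = n197249 := d3_1 F434907 (iv6 F414621) (iv2 F426458)
theorem F434909 : act 0 n192268 = n205083 := d21_4 F153699 F352787 F361849 D192268 (iv6 F434907) (iv5 D202975) (iv1 D117438) D117440 F328423 (iv1 F329325)
theorem F434910 : act 7 n197250 = n205083 := d15_2 (iv0 D197249) D197250 F434908
theorem F434911 : act 2 n197250 = n205082 := d4_3 (iv7 F434906) (iv2 F434908) (iv7 F434910)
def n205084 : Q := act 2 n125463
theorem D205084 : act 2 n125463 = n205084 := rfl
theorem F434912 : act 4 n205084 = n197223 := d1_2 (iv4 F201750) D205084 (iv2 D197223)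
theorem F434913 : act 5 n205084 = n136674 := d2_2 (iv5 F201751) D205084 (iv2 D136674)
theorem F434914 : act 7 n205084 = n192268 := d4_2 (iv7 F201752) D205084 F386251
theorem F434915 : act 1 n205084 = n197249 := d15_0 (iv0 D197249) (iv7 F201752) D205084
theorem F434916 : act 1 n197250 = n205084 := d15_0 F434915 F434906 (iv2 F434911)
theorem F434917 : act 5 n136584 = n197250 := d17_7 (iv1 F403626) D197268 (iv1 F403794) F176183 F93890 D64206 D136584 F434916 F434912
def n205085 : Q := act 6 n125463
theorem D205085 : act 6 n125463 = n205085 := rfl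
theorem F434918 : act 3 n205085 = n125464 := d7_1 D205085 (iv6 D125464) D125463
theorem F434919 : act 4 n205085 = n144446 := d10_1 D205085 F227243 (iv4 F201750)
theorem F434920 : act 7 n205085 = n136838 := d14_2 (iv7 F201752) D205085 (iv6 F365611) (iv7 F385834) F385838
theorem F434921 : act 5 n203197 = n205085 := d16_1 D203197 F434919 F404357 F278982 (iv5 F241307) (iv4 F278979) (iv5 F278981) (iv7 F427272) F427269
def n205086 : Q := act 5 n125464
theorem D205086 : act 5 n125464 = n205086 := rfl
theorem F434922 : act 2 n205086 = n136837 := d2_1 D205086 (iv5 D136837) (iv2 F201753)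
theorem F434923 : act 3 n205086 = n203197 := d6_1 D205086 F434921 F434918
theorem F434924 : act 6 n205086 = n136679 := d12_2 D125464 D205086 (iv5 D136679) (iv6 D64236) F92806
theorem F434925 : act 7 n205086 = n136839 := d13_2 F201756 D205086 (iv5 D136839)
theorem F434926 : act 0 n205086 = n137473 := d17_2 F201755 D205086 (iv5 D137473) F100541 (iv5 F101980) F101978 F47574 (iv0 F48346) D63751
def n205087 : Q := act 5 n125465
theorem D205087 : act 5 n125465 = n205087 := rfl
theorem F434927 : act 2 n205087 = n197310 := d2_1 D205087 (iv5 D197310) F201760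
theorem F434928 : act 3 n205087 = n198997 := d6_1 D205087 (iv5 D198997) (iv3 F201758)
theorem F434929 : act 6 n205087 = n200297 := d12_2 (iv6 F201759) D205087 (iv5 D200297) (iv6 F179923) F179920
theorem F434930 : act 7 n205087 = n197311 := d13_2 (iv7 F201762) D205087 (iv5 D197311)
theorem F434931 : act 0 n205087 = n126016 := d17_2 D125465 D205087 F202714 F202611 D198587 (iv0 F408416) (iv5 D136503) F161369 (iv4 F92809)
theorem F434932 : act 4 n205087 = n198683 := d17_4 (iv1 F93032) F93030 D125465 D205087 (iv5 F408861) F408860 (iv5 D109303) D109302 (iv4 F169322)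
theorem F434933 : act 1 n205087 = n145311 := d17_8 F408352 (iv5 F378869) (iv1 F378872) (iv5 D174694) (iv4 F326926) (iv5 F167120) F201761 D205087 (iv4 F408350)
theorem F434934 : act 0 n203618 = n202013 := d19_12 (iv1 F408860) F408861 (iv4 F434932) F434928 F410249 (iv5 D140425) (iv4 F171677) D139382 F424592 F424589 F424591 (iv3 F429102) (iv5 D202013) (iv4 F182873) F182872 D116984 D202805 F425659 F407972
def n205088 : Q := act 5 n125469
theorem D205088 : act 5 n125469 = n205088 := rfl
theorem F434935 : act 3 n205088 = n139297 := d6_1 D205088 (iv5 F432896) (iv3 F432898)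
theorem F434936 : act 7 n205088 = n199799 := d13_2 (iv7 F400782) D205088 F413550
theorem F434937 : act 4 n203584 = n205088 := d16_0 (iv5 D205088) F400781 F412017 F412014 (iv5 F410073) F410072 F175880 (iv7 F239700) (iv2 F428989)
theorem F434938 : act 6 n205088 = n199765 := d10_2 (iv6 F428990) F434937 F413397
theorem F434939 : act 0 n136372 = n205088 := d20_4 (iv4 F99702) F99703 (iv4 F99800) (iv3 F219489) F434935 F351246 (iv1 D111357) (iv4 F171825) F332960 (iv1 F100016)
def n205089 : Q := act 6 n125469
theorem D205089 : act 6 n125469 = n205089 := rfl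
def n205090 : Q := act 3 n125470
theorem D205090 : act 3 n125470 = n205090 := rfl
def n205091 : Q := act 6 n125470
theorem D205091 : act 6 n125470 = n205091 := rfl
theorem F434940 : act 5 n205091 = n185294 := d12_1 D205091 (iv6 F351167) F239549 D152576 F412018
theorem F434941 : act 3 n185296 = n205091 := d6_3 F434940 (iv3 D185294) D185296
theorem F434942 : act 6 n205090 = n185296 := d7_0 F434941 (iv6 D205091) D205090
theorem F434943 : act 0 n157597 = n205090 := d21_4 (iv5 D34371) D34369 D75021 D157597 F434942 (iv5 D185296) (iv1 F310372) (iv5 F248364) (iv6 D157612) (iv1 D75029)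
theorem F434944 : act 0 n205090 = n181759 := d21_10 F373209 (iv1 D188376) (iv5 F155985) (iv6 D101247) (iv1 F74416) D47212 F74485 D88284 D185296 (iv6 F434942)
def n205092 : Q := act 5 n125471
theorem D205092 : act 5 n125471 = n205092 := rfl
theorem F434945 : act 2 n205092 = n125472 := d2_1 D205092 (iv5 D125472) D125471
theorem F434946 : act 0 n205092 = n188407 := d21_7 (iv5 D101369) (iv1 F290172) (iv5 F362209) (iv6 D137325) (iv1 F171411) (iv6 F201780) D205092 F373344 (iv6 D101421) (iv1 F364411)
def n205093 : Q := act 1 n125472
theorem D205093 : act 1 n125472 = n205093 := rfl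
theorem F434947 : act 7 n205093 = n188407 := d15_2 (iv0 F432879) D205093 (iv2 F432876)
theorem F434948 : act 5 n205093 = n193263 := d17_7 (iv1 F227050) (iv5 F433312) (iv1 D125513) (iv5 D58757) (iv4 F92813) D125472 D205093 F432884 F219488
theorem F434949 : act 3 n188410 = n205093 := d20_3 (iv4 F404864) (iv1 F405206) (iv4 F405211) (iv1 D205093) F201781 (iv4 F96599) (iv1 F98335) F98333 D64233 (iv1 F343910)
theorem F434950 : act 6 n205093 = n201541 := d7_2 (iv6 F373355) F434949 (iv3 F420897)
def n205094 : Q := act 4 n125472
theorem D205094 : act 4 n125472 = n205094 := rfl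
theorem F434951 : act 3 n205094 = n196132 := d5_1 D205094 F399549 F211726 F96599 (iv3 F201781)
theorem F434952 : act 5 n205094 = n196131 := d16_7 (iv4 F410063) F377413 (iv4 D125514) (iv5 D58757) (iv4 F92813) D125472 D205094 F399544 F410066
def n205095 : Q := act 6 n125472
theorem D205095 : act 6 n125472 = n205095 := rfl
theorem F434953 : act 3 n205095 = n125473 := d7_1 D205095 (iv6 D125473) (iv3 F201781)
theorem F434954 : act 5 n205095 = n198938 := d12_1 D205095 (iv6 D198938) (iv5 D110738) (iv6 F92814) D125472
theorem F434955 : act 0 n184523 = n194670 := d21_10 F394036 F409984 (iv5 F434954) (iv6 D205095) F432879 F432878 (iv5 F393394) (iv1 F393398) F361034 D184523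
theorem F434956 : act 0 n205095 = n202296 := d21_1 (iv5 F434954) F423536 F413136 (iv1 F366219) (iv6 D134174) D134173 (iv1 F360209) (iv5 D134275) D134276 F409984
def n205096 : Q := act 1 n125473
theorem D205096 : act 1 n125473 = n205096 := rfl
theorem F434957 : act 1 n205096 = n192989 := d15_1 D205096 F388449 F219508
theorem F434958 : act 3 n186779 = n205096 := d19_19 (iv1 D205096) F201782 (iv4 F203971) (iv3 F351685) (iv1 F409838) (iv5 D198907) F171170 F80961 F164127 (iv5 F46693) D61378 D130837 (iv1 F328978) F328980 F70080 (iv3 F139089) (iv1 F139093) (iv5 F357554) D186779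
theorem F434959 : act 0 n132175 = n136687 := d20_1 (iv4 F211731) (iv4 D136687) D136686 F407349 F375675 (iv4 D189081) (iv1 F295266) D186779 F434958 (iv1 D205096)
def n205097 : Q := act 7 n125473
theorem D205097 : act 7 n125473 = n205097 := rfl
theorem F434960 : act 2 n205097 = n192989 := d4_1 D205097 F388449 F219508
theorem F434961 : act 5 n205097 = n198940 := d13_1 D205097 (iv7 D198940) (iv5 F201782)
theorem F434962 : act 6 n205097 = n150110 := d14_1 D205097 F236255 F344177 (iv7 F99812) D125473
def n205098 : Q := act 6 n125474
theorem D205098 : act 6 n125474 = n205098 := rfl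
theorem F434963 : act 2 n205098 = n138225 := d3_1 D205098 (iv6 D138225) F202572
theorem F434964 : act 3 n205098 = n126171 := d7_1 D205098 F202891 (iv3 F201783)
theorem F434965 : act 4 n205098 = n136244 := d10_1 D205098 (iv6 D136244) (iv4 F201784)
theorem F434966 : act 5 n205098 = n126170 := d12_1 D205098 (iv6 F228346) (iv5 D145311) D145312 F228349
theorem F434967 : act 7 n205098 = n198665 := d14_2 F202575 D205098 F408782 F399181 (iv6 D138211)
theorem F434968 : act 0 n205098 = n197312 := d21_4 (iv5 F247354) F247356 F228349 D205098 (iv6 D197312) D197311 F408803 F408800 (iv6 F221396) F221395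
theorem F434969 : act 0 n137844 = n205098 := d21_4 (iv5 F84168) D115599 (iv5 F179909) D137844 (iv6 D205098) (iv5 F228349) (iv1 F228351) F365572 F242128 F328164
def n205099 : Q := act 4 n125475
theorem D205099 : act 4 n125475 = n205099 := rfl
theorem F434970 : act 2 n205099 = n193657 := d1_1 D205099 F390586 F409336
theorem F434971 : act 3 n205099 = n200002 := d5_1 D205099 F414566 F397097 (iv4 F409344) F409342
theorem F434972 : act 5 n205099 = n187381 := d9_2 F409334 D205099 (iv4 F370082) (iv5 D106632) D106631 D196081 F410682 F410680 (iv4 F415748) F415745 F370080 (iv5 D106637) D106636 D196090 (iv4 F409330)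
theorem F434973 : act 7 n205099 = n199086 := d11_2 F409339 D205099 (iv4 D199086)
def n205100 : Q := act 3 n125476
theorem D205100 : act 3 n125476 = n205100 := rfl
theorem F434974 : act 7 n205100 = n199088 := d8_2 (iv7 F409338) D205100 (iv3 D199088)
def n205101 : Q := act 6 n125476
theorem D205101 : act 6 n125476 = n205101 := rfl
theorem F434975 : act 2 n205101 = n199087 := d3_1 D205101 (iv6 D199087) (iv2 F409340)
theorem F434976 : act 4 n205101 = n200000 := d10_1 D205101 (iv6 F415746) F415748
theorem F434977 : act 5 n205101 = n204948 := d12_1 D205101 F434303 (iv5 F433238) F433239 F410680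
theorem F434978 : act 0 n154760 = n205101 := d17_0 F434977 F434305 (iv5 F363389) F356936 D194544 F393669 (iv5 F415941) (iv0 F415942) F378309
def n205102 : Q := act 5 n125478
theorem D205102 : act 5 n125478 = n205102 := rfl
theorem F434979 : act 3 n205102 = n125479 := d6_1 D205102 (iv5 D125479) (iv3 F201793)
theorem F434980 : act 6 n205102 = n204727 := d21_9 (iv5 D124277) D124274 D204721 (iv6 F433394) (iv1 F402297) (iv6 F410849) (iv5 D199140) F390651 D205102 (iv1 D204727)
theorem F434981 : act 5 n196489 = n204727 := d12_5 (iv6 F434980) (iv5 D205102) (iv6 D125478) (iv5 F164972) D196489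
theorem F434982 : act 3 n204727 = n196492 := d6_1 F434981 (iv5 D196492) (iv3 F400819)
theorem F434983 : act 4 n204727 = n190426 := d16_2 F418278 F434981 (iv5 D190426) D190425 F398060 (iv4 F398063) D196230 (iv7 F399986) (iv2 F418276)
theorem F434984 : act 1 n190426 = n199754 := d18_6 F433335 F406279 (iv1 F418274) F418278 F434981 F434983 (iv4 D199754) D199753 (iv5 F433336)
def n205103 : Q := act 1 n125479
theorem D205103 : act 1 n125479 = n205103 := rfl
theorem F434985 : act 1 n205103 = n144490 := d15_1 D205103 F227333 (iv2 F201795)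
theorem F434986 : act 7 n205103 = n197462 := d15_2 F401528 D205103 (iv2 F404439)
theorem F434987 : act 5 n205103 = n144302 := d17_7 F103527 F103525 (iv1 D60521) F46375 (iv4 F92821) D125479 D205103 F227011 (iv4 D129794)
theorem F434988 : act 3 n204897 = n205103 := d19_19 (iv1 D205103) (iv5 D125479) F92821 F45117 (iv1 F53920) (iv5 F95074) (iv4 F206863) (iv3 F362286) F377921 F366362 F176856 F176445 F93052 D125670 F345718 F289066 (iv1 F136145) D124646 D204897
theorem F434989 : act 2 n197463 = n205103 := d2_3 F434987 (iv2 F400719) (iv5 F404443)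
def n205104 : Q := act 4 n125479
theorem D205104 : act 4 n125479 = n205104 := rfl
theorem F434990 : act 2 n205104 = n197464 := d1_1 D205104 (iv4 D197464) (iv2 F201795)
def n205105 : Q := act 3 n125480
theorem D205105 : act 3 n125480 = n205105 := rfl
theorem F434991 : act 4 n205105 = n202118 := d5_2 D125480 D205105 (iv3 D202118) (iv4 F201763) (iv3 F201766)
theorem F434992 : act 5 n205105 = n196579 := d6_2 (iv5 F201798) D205105 (iv3 D196579)
theorem F434993 : act 7 n205105 = n144300 := d8_2 (iv7 F201797) D205105 (iv3 D144300)
theorem F434994 : act 0 n125508 = n205105 := d20_4 F186217 (iv1 F94429) D60031 (iv3 F366756) (iv3 D205105) (iv4 D125480) F92824 (iv4 F103620) F319666 D118426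
def n205106 : Q := act 0 n125487
theorem D205106 : act 0 n125487 = n205106 := rfl
theorem F434995 : act 3 n205106 = n142906 := d20_5 F171983 (iv1 D106405) (iv4 F92841) (iv3 F201822) D205106 F225783 (iv1 F322381) (iv4 F186230) F317569 (iv1 F171981)
theorem F434996 : act 5 n205106 = n198331 := d21_8 (iv5 F363279) F367938 (iv5 F345423) F345424 (iv1 F170402) D198784 F409221 D205106 (iv6 D198331) (iv1 F363280)
theorem F434997 : act 0 n202616 = n196416 := d21_4 F434996 (iv1 F407639) F401230 (iv6 F424765) (iv6 D196416) (iv5 F358803) (iv1 F170407) F330458 D125487 D205106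
theorem F434998 : act 2 n196732 = n205106 := d2_3 F434996 F407636 F401622
theorem F434999 : act 6 n140630 = n205106 := d12_0 F434996 (iv6 D198331) (iv5 D109216) (iv6 F351219) (iv5 F223730)
theorem F435000 : act 7 n140661 = n205106 := d13_0 F434996 F407637 (iv5 F342482)
def n205107 : Q := act 1 n125487
theorem D205107 : act 1 n125487 = n205107 := rfl
theorem F435001 : act 7 n205107 = n196732 := d15_2 (iv0 D205106) D205107 F434998
theorem F435002 : act 5 n205107 = n189013 := d17_7 (iv1 F224259) (iv5 F430797) F433124 F433122 (iv4 F409220) F409221 D205107 F375415 (iv4 F224256)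
theorem F435003 : act 3 n189016 = n205107 := d20_3 (iv4 F419960) (iv1 F419965) (iv4 F419966) (iv1 D205107) F201822 F92841 F163597 (iv4 F171976) D199106 F419963
theorem F435004 : act 6 n140383 = n205107 := d21_3 (iv5 D65989) (iv1 F101560) (iv5 F223498) (iv1 D205107) (iv6 D125487) (iv5 F330458) (iv1 F170406) F345393 F345395 (iv1 D140637)
theorem F435005 : act 2 n205107 = n140661 := d3_1 F435004 (iv6 D140661) (iv2 F223497)
def n205108 : Q := act 4 n125489
theorem D205108 : act 4 n125489 = n205108 := rfl
theorem F435006 : act 2 n205108 = n196436 := d1_1 D205108 (iv4 D196436) (iv2 F201826)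
theorem F435007 : act 0 n205108 = n145356 := d18_2 (iv1 F228362) D205108 (iv4 D145356) (iv5 D68150) F50033 D51998 (iv4 F165719) F165717 (iv5 F228361)
def n205109 : Q := act 5 n125498
theorem D205109 : act 5 n125498 = n205109 := rfl
theorem F435008 : act 2 n205109 = n125515 := d2_1 D205109 F201862 F201849
theorem F435009 : act 3 n205109 = n196496 := d6_1 D205109 F400846 (iv3 F201850)
theorem F435010 : act 7 n205109 = n125511 := d13_2 (iv7 F201851) D205109 (iv5 D125511)
theorem F435011 : act 1 n125513 = n205109 := d15_1 D125513 F435010 F201859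
theorem F435012 : act 1 n205109 = n125512 := d15_0 (iv0 D125512) D125515 (iv2 F435008)
def n205110 : Q := act 5 n125499
theorem D205110 : act 5 n125499 = n205110 := rfl
theorem F435013 : act 2 n205110 = n125502 := d2_1 D205110 (iv5 D125502) D125499
theorem F435014 : act 3 n205110 = n200681 := d6_1 D205110 F417459 (iv3 F246675)
theorem F435015 : act 7 n205110 = n125507 := d13_2 F201853 D205110 (iv5 D125507)
theorem F435016 : act 0 n205110 = n144321 := d21_1 D205110 (iv5 D144321) (iv6 F104331) (iv1 F402235) (iv6 D111072) (iv5 D51229) D51225 F80817 (iv6 F92850) (iv1 F219721)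
theorem F435017 : act 6 n200679 = n205110 := d14_5 F435015 (iv6 F395312) (iv7 F405806) (iv6 F412270) (iv7 F417448)
def n205111 : Q := act 6 n125499
theorem D205111 : act 6 n125499 = n205111 := rfl
theorem F435018 : act 2 n205111 = n125503 := d3_1 D205111 (iv6 D125503) D125499
theorem F435019 : act 4 n205111 = n136609 := d10_1 D205111 (iv6 D136609) (iv4 F219722)
theorem F435020 : act 0 n205111 = n196431 := d20_1 (iv4 F435019) F400662 (iv3 D136494) (iv1 F218587) F359417 D193602 (iv1 F391384) F391381 (iv3 F391364) F391385
def n205112 : Q := act 1 n125500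
theorem D205112 : act 1 n125500 = n205112 := rfl
theorem F435021 : act 1 n205112 = n128361 := d15_1 D205112 (iv7 F279069) F366486
theorem F435022 : act 4 n205112 = n179253 := d17_9 (iv1 F398596) (iv5 F398597) F429859 F429855 F400588 F400586 F412199 (iv5 F412200) D205112
theorem F435023 : act 3 n199123 = n205112 := d20_9 F366485 (iv1 F319237) F176263 F163609 (iv1 F77639) D49436 (iv4 F80745) D110998 (iv4 F410766) (iv1 D205112)
theorem F435024 : act 6 n196669 = n205112 := d21_9 F412200 (iv1 F412199) (iv5 F400586) F400587 F386566 F400386 (iv5 D196337) F181498 (iv5 F401425) (iv1 D205112)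
theorem F435025 : act 2 n205112 = n179254 := d3_1 F435024 (iv6 F360000) D196669
def n205113 : Q := act 6 n125500
theorem D205113 : act 6 n125500 = n205113 := rfl
theorem F435026 : act 3 n205113 = n125503 := d7_1 D205113 (iv6 D125503) D125500
def n205114 : Q := act 0 n125501
theorem D205114 : act 0 n125501 = n205114 := rfl
theorem F435027 : act 4 n205114 = n196461 := d20_2 D125501 D205114 (iv3 D196461) (iv1 D107007) (iv3 D49436) F37810 (iv1 D13323) D13324 D27936 D58754
theorem F435028 : act 3 n192667 = n205114 := d5_5 F435027 (iv3 D196461) F393363 (iv3 F393362) (iv4 F387420)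
theorem F435029 : act 7 n136606 = n205114 := d11_0 F435027 (iv7 F410659) F410657
theorem F435030 : act 0 n205114 = n125506 := d20_1 (iv4 F435027) (iv4 D125506) D125505 (iv1 F219751) D138994 (iv4 F316130) F316129 (iv4 D107017) D107016 F400752
theorem F435031 : act 6 n205114 = n192659 := d14_1 F435029 F391944 (iv6 D194066) F361823 (iv6 F386013)
theorem F435032 : act 2 n205114 = n136577 := d15_3 F366314 D136606 F435029
theorem F435033 : act 5 n192658 = n205114 := d12_5 F435031 (iv5 D192659) (iv6 D100492) D100491 D192658
def n205115 : Q := act 1 n125501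
theorem D205115 : act 1 n125501 = n205115 := rfl
theorem F435034 : act 1 n205115 = n125506 := d15_1 D205115 F219719 (iv2 F219723)
theorem F435035 : act 7 n205115 = n136577 := d15_2 (iv0 D205114) D205115 (iv2 F435032)
theorem F435036 : act 2 n136606 = n205115 := d4_3 F435035 (iv2 F435032) (iv7 F435029)
theorem F435037 : act 3 n135894 = n205115 := d8_3 F435035 (iv3 D136577) (iv7 F391940)
theorem F435038 : act 6 n205115 = n136095 := d7_2 (iv6 F391939) F435037 (iv3 D136095)
theorem F435039 : act 4 n196785 = n205115 := d10_3 F435038 (iv4 F220500) D196785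
def n205116 : Q := act 3 n125501
theorem D205116 : act 3 n125501 = n205116 := rfl
theorem F435040 : act 2 n205116 = n136601 := d0_1 D205116 (iv3 D136601) (iv2 D64214) D64215 (iv2 F219723)
theorem F435041 : act 4 n205116 = n179562 := d5_2 D125501 D205116 F279619 (iv4 F366485) (iv3 D125500)
theorem F435042 : act 0 n205116 = n136543 := d20_10 F219642 (iv1 D107712) (iv4 F84081) (iv3 D53234) (iv1 F45111) D58740 F92813 D58754 D125501 D205116
theorem F435043 : act 0 n136626 = n205116 := d20_4 F386801 (iv1 F411501) F411498 F391827 (iv3 D205116) (iv4 D125501) D125498 (iv4 F219573) (iv3 F422984) (iv1 F422988)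
theorem F435044 : act 7 n205116 = n136628 := d15_2 (iv0 F352331) (iv0 F435042) (iv2 D136628)
def n205117 : Q := act 5 n125501
theorem D205117 : act 5 n125501 = n205117 := rfl
theorem F435045 : act 2 n205117 = n136608 := d2_1 D205117 (iv5 D136608) (iv2 F219723)
theorem F435046 : act 4 n205117 = n201551 := d16_2 D125501 D205117 F420922 F225400 D142492 (iv4 F395311) (iv5 D125507) F201853 (iv2 D125499)
theorem F435047 : act 7 n201548 = n205117 := d11_0 F435046 (iv7 D201551) (iv4 F420916)
def n205118 : Q := act 6 n125501
theorem D205118 : act 6 n125501 = n205118 := rfl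
theorem F435048 : act 2 n205118 = n136609 := d3_1 D205118 (iv6 D136609) (iv2 F219723)
theorem F435049 : act 4 n205118 = n125503 := d10_1 D205118 (iv6 D125503) D125501
def n205119 : Q := act 7 n125501
theorem D205119 : act 7 n125501 = n205119 := rfl
theorem F435050 : act 2 n205119 = n125506 := d4_1 D205119 F219719 (iv2 F219723)
theorem F435051 : act 3 n205119 = n136628 := d8_1 D205119 (iv7 F435044) (iv3 D205116)
theorem F435052 : act 4 n205119 = n125504 := d11_1 D205119 (iv7 D125504) D125501
theorem F435053 : act 5 n205119 = n201548 := d13_1 D205119 F435047 (iv5 D205117)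
theorem F435054 : act 1 n136606 = n205119 := d15_1 D136606 (iv7 D205119) F219723
theorem F435055 : act 1 n205119 = n136577 := d15_1 F435054 (iv7 F435035) (iv2 F435036)
def n205120 : Q := act 0 n125502
theorem D205120 : act 0 n125502 = n205120 := rfl
theorem F435056 : act 4 n205120 = n190688 := d20_8 F380606 F361258 F340307 F160635 (iv1 F160519) D194935 (iv4 F395083) D205120 F380597 D190690
theorem F435057 : act 5 n205120 = n144320 := d21_2 D125502 D205120 (iv6 F228456) (iv1 F402570) (iv6 D196903) F180606 (iv1 F181241) F39067 (iv6 F45130) D58754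
theorem F435058 : act 2 n144321 = n205120 := d15_3 (iv0 D205120) (iv0 F414595) (iv7 F227053)
theorem F435059 : act 1 n125507 = n205120 := d15_0 (iv0 D205120) (iv7 F395308) F395310
theorem F435060 : act 3 n199117 = n205120 := d19_19 (iv1 F435059) (iv5 D125507) D125506 F219718 F219716 D64226 D136642 (iv3 F341531) (iv1 F192004) (iv5 D57808) (iv4 F91198) F56144 F91191 (iv5 F298952) D40258 (iv3 F299923) D85265 (iv5 F250303) (iv4 F410746)
theorem F435061 : act 6 n190687 = n205120 := d21_9 (iv5 D125507) (iv1 D58755) D58757 (iv6 F172317) F361570 F340597 D194830 F394647 F380596 (iv1 F435059)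
def n205121 : Q := act 0 n125503
theorem D205121 : act 0 n125503 = n205121 := rfl
def n205122 : Q := act 1 n125503
theorem D205122 : act 1 n125503 = n205122 := rfl
def n205123 : Q := act 5 n125503
theorem D205123 : act 5 n125503 = n205123 := rfl
def n205124 : Q := act 7 n125503
theorem D205124 : act 7 n125503 = n205124 := rfl
def n205125 : Q := act 6 n125504
theorem D205125 : act 6 n125504 = n205125 := rfl
theorem F435062 : act 2 n205125 = n125508 := d3_1 D205125 (iv6 D125508) (iv2 F201854)
theorem F435063 : act 3 n205125 = n128390 := d7_1 D205125 (iv6 F416500) F416504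
theorem F435064 : act 0 n144300 = n205125 := d20_4 F345174 (iv1 F92833) D67609 D144300 F435063 F206508 (iv1 F205394) F346507 (iv3 D144301) (iv1 F345172)
def n205126 : Q := act 5 n125505
theorem D205126 : act 5 n125505 = n205126 := rfl
theorem F435065 : act 2 n205126 = n128362 := d2_1 D205126 (iv5 D128362) F314327
theorem F435066 : act 3 n205126 = n125507 := d6_1 D205126 (iv5 D125507) D125505
theorem F435067 : act 4 n205126 = n198078 := d9_1 D205126 (iv5 F434662) (iv4 D205023) (iv5 D125160) (iv4 D58528) D58529 D125163 F413143 F413141 F355970 (iv4 D129534) F312119 F94527 D60030 (iv4 F312154)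
theorem F435068 : act 6 n205126 = n198077 := d12_2 (iv6 F312155) D205126 (iv5 F406698) (iv6 D153782) F109228
theorem F435069 : act 7 n205126 = n200681 := d13_2 F246672 D205126 F417459
theorem F435070 : act 0 n205126 = n129012 := d17_2 (iv1 F219752) D205126 (iv5 F208766) (iv4 D74735) (iv5 F311941) F311940 (iv5 D30627) D30624 D65251
theorem F435071 : act 1 n205126 = n128996 := d17_6 (iv1 F201132) (iv5 D125151) (iv1 F92452) D60030 (iv4 F312154) D205126 F208765 (iv0 F314349) (iv4 D125181)
def n205127 : Q := act 5 n125506
theorem D205127 : act 5 n125506 = n205127 := rfl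
theorem F435072 : act 2 n205127 = n201548 := d2_1 D205127 (iv5 F435053) F435050
theorem F435073 : act 3 n205127 = n136620 := d6_1 D205127 F219760 (iv3 F219718)
theorem F435074 : act 4 n205127 = n198959 := d9_1 D205127 (iv5 D198959) (iv4 F379573) (iv5 F395081) (iv4 F395083) (iv5 D125502) D125501 D205117 F435046 F420922 F225400 D142492 (iv4 F395311) (iv5 D125507) D125506
theorem F435075 : act 7 n205127 = n136608 := d13_2 (iv7 F219719) D205127 (iv5 D136608)
theorem F435076 : act 6 n205127 = n152548 := d21_9 D152559 (iv1 F420934) (iv5 D201555) F420935 (iv1 D192656) D192658 F435033 F435030 D205127 (iv1 F239732)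
def n205128 : Q := act 1 n125508
theorem D205128 : act 1 n125508 = n205128 := rfl
def n205129 : Q := act 7 n125508
theorem D205129 : act 7 n125508 = n205129 := rfl
theorem F435077 : act 3 n205129 = n127419 := d8_1 D205129 F204802 (iv3 F366756)
theorem F435078 : act 5 n205129 = n154778 := d13_1 D205129 F243426 (iv5 F366758)
theorem F435079 : act 1 n144300 = n205129 := d15_1 (iv0 F435064) (iv7 D205129) (iv2 F435062)
def n205130 : Q := act 0 n125511
theorem D205130 : act 0 n125511 = n205130 := rfl
theorem F435080 : act 1 n125515 = n205130 := d15_0 (iv0 D205130) (iv7 F435010) F435008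
theorem F435081 : act 5 n205130 = n128806 := d17_7 (iv1 D193262) (iv5 F373344) F388754 F219504 F99863 (iv5 F201862) F435080 F227051 (iv4 F389361)
theorem F435082 : act 7 n125513 = n205130 := d13_0 F435081 (iv7 F404450) (iv5 F433312)
theorem F435083 : act 2 n205130 = n125512 := d15_3 (iv0 D125512) D125513 F435082
theorem F435084 : act 5 n125512 = n144318 := d2_2 (iv5 F435081) F435083 (iv2 F404451)
theorem F435085 : act 4 n125512 = n194151 := d19_2 D144318 (iv5 F435084) F395335 (iv1 F399701) (iv5 D196172) (iv4 D106722) F77975 (iv1 D25341) (iv5 D12032) (iv4 D5696) (iv3 F7648) D11202 (iv5 F18317) (iv4 F19191) (iv3 F24431) (iv1 F24434) D14805 D31409 D67619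
theorem F435086 : act 6 n194149 = n125512 := d10_0 F435085 (iv6 D194151) D194149
def n205131 : Q := act 1 n125511
theorem D205131 : act 1 n125511 = n205131 := rfl
theorem F435087 : act 1 n205131 = n125515 := d15_1 D205131 (iv7 D125515) (iv2 F201859)
theorem F435088 : act 7 n205131 = n125512 := d15_2 (iv0 D205130) D205131 (iv2 F435083)
theorem F435089 : act 5 n128805 = n205131 := d21_6 (iv5 F177274) (iv1 D68119) (iv5 F78382) D107441 D196905 (iv6 F402241) (iv1 D205131) (iv5 D125511) F92850 (iv1 F80830)
theorem F435090 : act 2 n205131 = n125513 := d2_1 F435089 F433312 F404449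
theorem F435091 : act 0 n199243 = n196680 := d21_7 F435089 (iv1 D205131) (iv5 D125511) F92850 (iv1 F80830) D111108 D199243 F401465 F207060 D128805
def n205132 : Q := act 4 n125511
theorem D205132 : act 4 n125511 = n205132 := rfl
theorem F435092 : act 2 n205132 = n125514 := d1_1 D205132 (iv4 D125514) (iv2 F201859)
theorem F435093 : act 6 n205132 = n198616 := d10_2 F411087 D205132 (iv4 F411086)
def n205133 : Q := act 3 n125512
theorem D205133 : act 3 n125512 = n205133 := rfl
def n205134 : Q := act 4 n125513
theorem D205134 : act 4 n125513 = n205134 := rfl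
theorem F435094 : act 6 n205134 = n160843 := d10_2 (iv6 F433313) D205134 (iv4 F433289)
theorem F435095 : act 0 n205134 = n203877 := d17_0 (iv5 F430196) (iv1 F379576) (iv5 F395081) (iv4 F395083) (iv5 D125502) (iv0 D58754) D58757 D125513 D205134
def n205135 : Q := act 0 n125514
theorem D205135 : act 0 n125514 = n205135 := rfl
theorem F435096 : act 4 n205135 = n199566 := d20_2 D125514 D205135 F412691 (iv1 F222467) F337395 (iv4 F418184) F418186 (iv4 F433307) F433311 (iv1 D125513)
theorem F435097 : act 6 n158107 = n205135 := d10_0 F435096 (iv6 D199566) F365858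
theorem F435098 : act 3 n158110 = n205135 := d20_5 F296970 (iv1 F119997) D78846 (iv3 F327057) (iv1 F365759) F435096 F430294 F430292 (iv3 D164106) (iv1 F296968)
def n205136 : Q := act 1 n125514
theorem D205136 : act 1 n125514 = n205136 := rfl
def n205137 : Q := act 7 n125514
theorem D205137 : act 7 n125514 = n205137 := rfl
theorem F435099 : act 3 n205137 = n195895 := d8_1 D205137 F398638 F361576
theorem F435100 : act 4 n205137 = n125515 := d11_1 D205137 (iv7 D125515) D125514
theorem F435101 : act 6 n205137 = n198662 := d14_1 D205137 (iv7 D198662) F169720 D109747 (iv6 F361568)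
def n205138 : Q := act 5 n125519
theorem D205138 : act 5 n125519 = n205138 := rfl
theorem F435102 : act 2 n205138 = n196421 := d2_1 D205138 (iv5 D196421) (iv2 F201869)
theorem F435103 : act 3 n205138 = n197721 := d6_1 D205138 (iv5 D197721) F364141
theorem F435104 : act 6 n205138 = n145303 := d12_2 D125519 D205138 (iv5 D145303) F104280 (iv5 F92860)
theorem F435105 : act 7 n205138 = n197960 := d13_2 (iv7 F364142) D205138 (iv5 D197960)
theorem F435106 : act 1 n205138 = n199469 := d17_6 (iv1 F356729) F356730 F400607 (iv5 D196406) (iv4 F201870) D205138 (iv5 D199469) F349857 F253099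
def n205139 : Q := act 0 n125520
theorem D205139 : act 0 n125520 = n205139 := rfl
theorem F435107 : act 3 n205139 = n203891 := d20_5 F92862 (iv1 D58760) D58761 D125520 D205139 F430265 F322709 F333005 F80708 (iv1 F78137)
theorem F435108 : act 5 n205139 = n157148 := d21_8 (iv5 F273441) (iv1 F273443) (iv5 F271728) (iv6 F401906) (iv1 F401919) F165435 (iv5 F201871) D205139 (iv6 F359164) F330943
theorem F435109 : act 2 n195894 = n205139 := d15_3 (iv0 D205139) (iv0 F364146) (iv7 F398632)
theorem F435110 : act 1 n195892 = n205139 := d15_0 (iv0 D205139) F201872 (iv2 F398619)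
theorem F435111 : act 7 n205139 = n195893 := d15_2 F398623 F435110 F398630
theorem F435112 : act 6 n203888 = n205139 := d14_5 F435111 (iv6 F398625) F280710 F366928 (iv7 F430246)
def n205140 : Q := act 3 n125522
theorem D205140 : act 3 n125522 = n205140 := rfl
theorem F435113 : act 2 n205140 = n162910 := d0_1 D205140 F257226 (iv2 F325533) (iv3 D125675) F201881
theorem F435114 : act 4 n205140 = n162958 := d5_2 F408093 D205140 (iv3 F280868) (iv4 F378070) (iv3 F408092)
theorem F435115 : act 5 n205140 = n198083 := d6_2 F349546 D205140 F406730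
theorem F435116 : act 6 n205140 = n162908 := d7_2 (iv6 F349549) D205140 (iv3 F365217)
theorem F435117 : act 7 n205140 = n125671 := d8_2 F201883 D205140 (iv3 D125671)
theorem F435118 : act 0 n163456 = n205140 := d21_4 D79960 (iv1 F257741) (iv5 D163455) D163456 F435116 F365216 D198084 F429412 (iv6 D166601) (iv1 D79958)
def n205141 : Q := act 5 n125524
theorem D205141 : act 5 n125524 = n205141 := rfl
theorem F435119 : act 2 n205141 = n125525 := d2_1 D205141 (iv5 D125525) D125524
theorem F435120 : act 3 n205141 = n125621 := d6_1 D205141 (iv5 D125621) (iv3 F201885)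
theorem F435121 : act 7 n205141 = n125678 := d13_2 (iv7 F201886) D205141 (iv5 D125678)
theorem F435122 : act 0 n205141 = n125681 := d17_2 (iv1 F201887) D205141 F362566 (iv4 F169702) F344591 (iv0 F172156) (iv5 F408088) (iv0 F408090) (iv4 D125672)
theorem F435123 : act 1 n205141 = n125680 := d17_6 D125751 F349592 (iv1 F172136) D195536 (iv4 F397268) D205141 F358192 (iv0 D58893) (iv4 F93107)
theorem F435124 : act 6 n205141 = n197839 := d21_9 F399418 (iv1 D196102) D196103 F399421 (iv1 F360483) F349547 (iv5 D125673) (iv1 F201887) D205141 (iv1 F405975)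
def n205142 : Q := act 1 n125525
theorem D205142 : act 1 n125525 = n205142 := rfl
theorem F435125 : act 1 n205142 = n125678 := d15_1 D205142 (iv7 F435121) F435119
theorem F435126 : act 7 n205142 = n125681 := d15_2 F356062 D205142 F362564
theorem F435127 : act 5 n205142 = n125539 := d17_7 F219307 F349586 (iv1 F172130) F336178 F173997 D125525 D205142 F201928 (iv4 F202253)
theorem F435128 : act 3 n125887 = n205142 := d20_3 (iv4 F360433) (iv1 D125890) (iv4 F202380) (iv1 D205142) F201889 F92883 F82614 (iv4 F45288) (iv3 F93151) (iv1 F202368)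
theorem F435129 : act 4 n205142 = n125916 := d5_2 (iv4 F202380) F435128 F202403 F93161 (iv3 F93150)
theorem F435130 : act 6 n205142 = n125885 := d7_2 D125887 F435128 (iv3 D125885)
theorem F435131 : act 2 n125680 = n205142 := d1_3 F435129 F362926 (iv4 F358191)
def n205143 : Q := act 4 n125525
theorem D205143 : act 4 n125525 = n205143 := rfl
theorem F435132 : act 3 n205143 = n200523 := d5_1 D205143 (iv4 D200523) F176366 (iv4 F92883) (iv3 F201889)
theorem F435133 : act 6 n205143 = n125909 := d10_2 F349551 D205143 (iv4 F411043)
theorem F435134 : act 7 n205143 = n125682 := d11_2 (iv7 F201890) D205143 (iv4 D125682)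
theorem F435135 : act 5 n205143 = n141285 := d16_1 D205143 (iv4 D141285) (iv5 D66272) D66271 (iv5 F355934) F202135 D125678 (iv7 F435121) F435119
theorem F435136 : act 0 n205143 = n131907 := d17_0 (iv5 D131907) (iv1 F164370) F360465 F360466 (iv5 D125769) F201921 F349577 F356062 D205143
theorem F435137 : act 1 n205143 = n131910 := d18_8 F96488 F77693 D49198 D106479 D195960 F398864 F356062 D205143 (iv5 D131910)
def n205144 : Q := act 0 n125527
theorem D205144 : act 0 n125527 = n205144 := rfl
theorem F435138 : act 4 n205144 = n125688 := d18_3 (iv1 D200528) (iv4 F201893) D205144 F366354 F161091 F169468 D198527 F408238 (iv5 F416882)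
theorem F435139 : act 2 n125633 = n205144 := d1_3 F435138 (iv2 F366356) (iv4 F356047)
theorem F435140 : act 1 n125636 = n205144 := d18_6 (iv1 F382096) (iv4 D191070) F318862 D137286 (iv5 F220430) F356045 F435138 (iv0 D125688) (iv5 F366352)
theorem F435141 : act 7 n125634 = n205144 := d15_2 (iv0 D125633) D125634 (iv2 F435139)
def n205145 : Q := act 1 n125527
theorem D205145 : act 1 n125527 = n205145 := rfl
theorem F435142 : act 1 n205145 = n125636 := d15_1 D205145 (iv7 D125636) (iv2 F201892)
theorem F435143 : act 7 n205145 = n125633 := d15_2 (iv0 D205144) D205145 F435139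
theorem F435144 : act 2 n125634 = n205145 := d4_3 F435143 F435139 (iv7 F435141)
theorem F435145 : act 4 n125631 = n205145 := d11_3 F435143 F356047 (iv7 F202076)
theorem F435146 : act 3 n205145 = n125633 := d5_1 F435145 F356047 F161093 (iv4 F92996) D125631
theorem F435147 : act 6 n205145 = n125914 := d3_2 F405908 F435144 F405921
def n205146 : Q := act 7 n125527
theorem D205146 : act 7 n125527 = n205146 := rfl
theorem F435148 : act 2 n205146 = n125636 := d4_1 D205146 (iv7 D125636) (iv2 F201892)
theorem F435149 : act 3 n205146 = n197840 := d8_1 D205146 (iv7 F416879) (iv3 F349552)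
theorem F435150 : act 4 n205146 = n200529 := d11_1 D205146 (iv7 D200529) (iv4 F201893)
theorem F435151 : act 5 n205146 = n195949 := d13_1 D205146 F398828 F342980
theorem F435152 : act 6 n205146 = n125691 := d14_1 D205146 (iv7 D125691) (iv6 D58855) (iv7 F92882) D125527
theorem F435153 : act 1 n125634 = n205146 := d15_1 D125634 (iv7 D205146) F201892
theorem F435154 : act 1 n205146 = n125633 := d15_1 F435153 (iv7 F435143) (iv2 F435144)
def n205147 : Q := act 4 n125530
theorem D205147 : act 4 n125530 = n205147 := rfl
theorem F435155 : act 2 n205147 = n125618 := d1_1 D205147 (iv4 D125618) (iv2 F203762)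
theorem F435156 : act 3 n205147 = n197897 := d5_1 D205147 (iv4 D197897) (iv3 D108762) D108763 (iv3 F201902)
theorem F435157 : act 7 n205147 = n125613 := d11_2 (iv7 F203763) D205147 (iv4 D125613)
theorem F435158 : act 0 n205147 = n198776 := d17_0 F409184 (iv1 D197915) (iv5 F173037) F173218 D199740 F413330 (iv5 D125621) F201903 D205147
theorem F435159 : act 1 n205147 = n198774 := d18_8 (iv1 F414754) F414752 (iv1 F405533) D197912 (iv5 F406190) F201991 F201903 D205147 (iv5 F409174)
def n205148 : Q := act 6 n125530
theorem D205148 : act 6 n125530 = n205148 := rfl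
theorem F435160 : act 2 n205148 = n125620 := d3_1 D205148 (iv6 D125620) (iv2 F203762)
theorem F435161 : act 3 n205148 = n197901 := d7_1 D205148 (iv6 D197901) (iv3 F201902)
theorem F435162 : act 7 n205148 = n127364 := d14_2 (iv7 F203763) D205148 F331160 (iv7 F360408) (iv6 D125615)
theorem F435163 : act 0 n205148 = n127359 := d21_4 D58868 D125720 (iv5 F360423) D205148 (iv6 D127359) D127358 (iv1 F204623) (iv5 D113423) (iv6 F343544) (iv1 D58866)
theorem F435164 : act 1 n205148 = n127367 := d15_1 (iv0 F435163) (iv7 D127367) (iv2 F204608)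
def n205149 : Q := act 3 n125531
theorem D205149 : act 3 n125531 = n205149 := rfl
theorem F435165 : act 2 n205149 = n197886 := d0_1 D205149 (iv3 D197886) F203773 (iv3 D125612) (iv2 F203764)
theorem F435166 : act 4 n205149 = n199535 := d5_2 F201904 D205149 (iv3 D199535) (iv4 D111392) D111391
theorem F435167 : act 5 n205149 = n198893 := d6_2 F360426 D205149 F416872
theorem F435168 : act 6 n205149 = n129058 := d7_2 F360410 D205149 F365657
theorem F435169 : act 7 n205149 = n125617 := d8_2 (iv7 F203765) D205149 (iv3 D125617)
theorem F435170 : act 0 n205149 = n197008 := d20_10 (iv4 D197008) (iv1 F176440) (iv4 F405912) F405911 (iv1 F325569) (iv3 F282844) (iv4 F409183) (iv1 F409186) F201904 D205149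
theorem F435171 : act 1 n205149 = n129073 := d15_1 (iv0 F435170) (iv7 F417054) F417053
def n205150 : Q := act 5 n125532
theorem D205150 : act 5 n125532 = n205150 := rfl
theorem F435172 : act 2 n205150 = n125533 := d2_1 D205150 (iv5 D125533) D125532
theorem F435173 : act 3 n205150 = n125678 := d6_1 D205150 (iv5 D125678) (iv3 F201905)
theorem F435174 : act 7 n205150 = n125621 := d13_2 (iv7 F201906) D205150 (iv5 D125621)
theorem F435175 : act 0 n205150 = n125624 := d17_2 (iv1 F201907) D205150 F405944 D125715 (iv5 F405547) (iv0 F409180) (iv5 D198775) (iv0 F408193) (iv4 D125613)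
theorem F435176 : act 1 n205150 = n125623 := d17_6 D111318 D199426 F412141 (iv5 F410325) F410324 D205150 F355946 (iv0 D58865) (iv4 F81039)
def n205151 : Q := act 6 n125532
theorem D205151 : act 6 n125532 = n205151 := rfl
theorem F435177 : act 2 n205151 = n125534 := d3_1 D205151 (iv6 D125534) D125532
theorem F435178 : act 3 n205151 = n125679 := d7_1 D205151 (iv6 D125679) (iv3 F201905)
theorem F435179 : act 5 n205151 = n166318 := d21_6 F331139 (iv1 F297452) (iv5 F360407) (iv6 D125615) (iv1 F201907) D205151 (iv1 F277836) (iv5 F417837) (iv6 D200764) (iv1 D113432)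
theorem F435180 : act 0 n205151 = n200882 := d21_10 (iv5 F430517) (iv1 F430516) (iv5 F418141) (iv6 D200849) F343554 (iv6 D125712) (iv5 F355946) (iv1 F435176) (iv5 D205150) D205151
theorem F435181 : act 0 n127355 = n205151 := d21_4 D52363 D113427 (iv5 F203742) D127355 (iv6 D205151) D205150 F435175 F405944 F343544 (iv1 D52361)
theorem F435182 : act 7 n205151 = n200881 := d15_2 F418273 (iv0 F435180) F418272
def n205152 : Q := act 6 n125533
theorem D205152 : act 6 n125533 = n205152 := rfl
theorem F435183 : act 3 n205152 = n125535 := d7_1 D205152 (iv6 D125535) (iv3 F201910)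
def n205153 : Q := act 1 n125535
theorem D205153 : act 1 n125535 = n205153 := rfl
theorem F435184 : act 1 n205153 = n125691 := d15_1 D205153 (iv7 D125691) (iv2 F201913)
theorem F435185 : act 7 n205153 = n125688 := d15_2 (iv0 F395484) D205153 (iv2 F366356)
theorem F435186 : act 4 n205153 = n125634 := d18_7 F398829 F163846 D106741 (iv4 F399407) (iv5 F399410) (iv4 F201914) D205153 F435153 F435151
theorem F435187 : act 5 n205153 = n125705 := d18_9 (iv1 F202194) D195030 F414273 F414272 (iv5 F416870) F416869 (iv0 D197839) (iv4 F201914) D205153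
theorem F435188 : act 2 n125631 = n205153 := d2_3 F435187 (iv2 D125705) (iv5 F202075)
theorem F435189 : act 3 n200537 = n205153 := d6_3 F435187 F202189 D200537
def n205154 : Q := act 7 n125535
theorem D205154 : act 7 n125535 = n205154 := rfl
theorem F435190 : act 2 n205154 = n125691 := d4_1 D205154 (iv7 D125691) (iv2 F201913)
theorem F435191 : act 4 n205154 = n197841 := d11_1 D205154 (iv7 D197841) (iv4 F201914)
theorem F435192 : act 5 n205154 = n125598 := d13_1 D205154 (iv7 F413741) (iv5 F413745)
theorem F435193 : act 6 n205154 = n125636 := d14_1 D205154 (iv7 D125636) (iv6 D58821) (iv7 F92901) D125535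
theorem F435194 : act 1 n125631 = n205154 := d15_1 (iv0 F366358) (iv7 D205154) F201913
theorem F435195 : act 1 n205154 = n125688 := d15_1 F435194 (iv7 F435185) (iv2 F435188)
def n205155 : Q := act 3 n125536
theorem D205155 : act 3 n125536 = n205155 := rfl
theorem F435196 : act 2 n205155 = n125696 := d0_1 D205155 F345722 (iv2 F301511) (iv3 F328788) F201916
theorem F435197 : act 4 n205155 = n198421 := d5_2 (iv4 F201915) D205155 F407974 F169324 (iv3 F93056)
theorem F435198 : act 6 n205155 = n200135 := d7_2 F201919 D205155 F415186
theorem F435199 : act 7 n205155 = n125694 := d8_2 (iv7 F201918) D205155 (iv3 D125694)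
theorem F435200 : act 0 n205155 = n125699 := d20_10 (iv4 F395142) (iv1 F395143) F392647 F267326 (iv1 F354274) F202154 F93051 D58848 (iv4 F201915) D205155
theorem F435201 : act 0 n125537 = n205155 := d20_4 (iv4 F417268) (iv1 F417271) F277850 (iv3 F356070) (iv3 D205155) F201915 (iv1 F93059) (iv4 F175701) (iv3 F355922) (iv1 F395541)
theorem F435202 : act 5 n205155 = n195063 := d17_1 F435201 (iv1 F415618) F415616 (iv4 F395240) (iv5 F395244) (iv0 D190258) (iv5 F160605) D194950 F395146
def n205156 : Q := act 5 n125536
theorem D205156 : act 5 n125536 = n205156 := rfl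
theorem F435203 : act 2 n205156 = n125693 := d2_1 D205156 (iv5 D125693) F201916
theorem F435204 : act 3 n205156 = n195063 := d6_1 D205156 (iv5 F435202) (iv3 D205155)
theorem F435205 : act 7 n205156 = n125695 := d13_2 (iv7 F201918) D205156 (iv5 D125695)
theorem F435206 : act 4 n205156 = n198681 := d16_2 (iv4 F201915) D205156 F415966 (iv4 D200316) (iv5 D112978) F82436 (iv5 F40161) F82620 F93055
theorem F435207 : act 0 n205156 = n200578 := d17_2 D125536 D205156 (iv5 F417035) F202447 F93175 F82352 F82350 F82312 (iv4 F92905)
theorem F435208 : act 1 n205156 = n200577 := d17_6 F176218 (iv5 D113102) (iv1 F82546) (iv5 F93057) (iv4 F201915) D205156 F417029 F404517 F176560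
theorem F435209 : act 6 n205156 = n195061 := d21_3 (iv5 D125537) D125536 D205156 F395689 (iv6 D105249) (iv5 F342865) (iv1 F165243) F328812 (iv6 F345728) F345730
def n205157 : Q := act 3 n125538
theorem D205157 : act 3 n125538 = n205157 := rfl
theorem F435210 : act 2 n205157 = n126035 := d0_1 D205157 (iv3 D126035) F202283 (iv3 D125766) F201925
theorem F435211 : act 4 n205157 = n197063 := d5_2 F349583 D205157 (iv3 F409049) (iv4 F414608) F414607
theorem F435212 : act 7 n205157 = n125762 := d8_2 F201927 D205157 (iv3 D125762)
theorem F435213 : act 0 n195688 = n205157 := d20_4 F45173 D49080 D106209 D195688 (iv3 D205157) (iv4 F349583) (iv1 F209139) F349587 (iv3 D125558) (iv1 D58786)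
theorem F435214 : act 1 n190665 = n205157 := d15_0 (iv0 F435213) (iv7 F416713) F416711
def n205158 : Q := act 6 n125538
theorem D205158 : act 6 n125538 = n205158 := rfl
theorem F435215 : act 2 n205158 = n125768 := d3_1 D205158 (iv6 D125768) F201925
theorem F435216 : act 5 n205158 = n197012 := d12_1 D205158 F402685 (iv5 D125929) D125930 (iv5 F349577)
theorem F435217 : act 7 n205158 = n195065 := d14_2 F201927 D205158 (iv6 D195065) F174313 (iv6 F358190)
theorem F435218 : act 0 n205158 = n200775 := d21_10 F418791 F419251 F419249 (iv6 D163425) (iv1 F365832) (iv6 D125526) D125525 (iv1 F356062) (iv5 F349577) D205158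
theorem F435219 : act 0 n125946 = n205158 := d21_4 (iv5 F417559) (iv1 F417562) (iv5 F377770) (iv6 F377772) (iv6 D205158) F349577 F356061 (iv5 D125678) D125679 F355999
def n205159 : Q := act 6 n125540
theorem D205159 : act 6 n125540 = n205159 := rfl
theorem F435220 : act 2 n205159 = n125542 := d3_1 D205159 (iv6 D125542) D125540
theorem F435221 : act 3 n205159 = n125719 := d7_1 D205159 (iv6 D125719) (iv3 F201929)
theorem F435222 : act 7 n205159 = n177422 := d14_2 (iv7 F201930) D205159 F377861 F363217 F363215
theorem F435223 : act 0 n205159 = n166556 := d21_4 (iv5 F349546) (iv1 F399522) F399519 D205159 (iv6 D166556) (iv5 F135433) D185723 (iv5 F347544) (iv6 D125526) D125522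
theorem F435224 : act 1 n205159 = n177423 := d15_1 (iv0 F435223) (iv7 F358238) (iv2 F358228)
def n205160 : Q := act 6 n125541
theorem D205160 : act 6 n125541 = n205160 := rfl
theorem F435225 : act 3 n205160 = n125543 := d7_1 D205160 (iv6 D125543) (iv3 F201933)
theorem F435226 : act 4 n205160 = n132139 := d10_1 D205160 F211661 (iv4 F349576)
def n205161 : Q := act 5 n125542
theorem D205161 : act 5 n125542 = n205161 := rfl
theorem F435227 : act 3 n205161 = n125545 := d6_1 D205161 (iv5 D125545) (iv3 F201935)
theorem F435228 : act 7 n205161 = n194806 := d13_2 F377857 D205161 F394543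
theorem F435229 : act 4 n205161 = n194809 := d19_2 (iv1 F358189) D205161 F394549 (iv1 F160484) F362525 (iv4 F364965) (iv3 D160538) F319511 (iv5 D83184) D83183 F318023 (iv1 F312791) (iv5 D133152) (iv4 F310622) F296519 (iv1 F57566) (iv5 F122692) (iv4 F296364) D84531
theorem F435230 : act 0 n205161 = n162894 := d21_1 D205161 F395830 (iv6 D195114) (iv1 F161402) D113659 (iv5 F358175) (iv1 F211186) F207167 F341768 (iv1 F358189)
theorem F435231 : act 0 n177456 = n205161 := d21_10 (iv5 D205161) (iv1 F358242) (iv5 D181142) F132697 D160996 F360301 F417596 (iv1 D200710) D200712 (iv6 F417606)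
def n205162 : Q := act 1 n125543
theorem D205162 : act 1 n125543 = n205162 := rfl
theorem F435232 : act 1 n205162 = n125735 := d15_1 D205162 (iv7 D125735) (iv2 F201936)
theorem F435233 : act 7 n205162 = n125732 := d15_2 F399168 D205162 (iv2 F399167)
theorem F435234 : act 4 n205162 = n125780 := d18_7 (iv1 D195094) F342881 F172145 (iv4 F211501) (iv5 F360479) (iv4 F201937) D205162 F399166 F399161
theorem F435235 : act 2 n125733 = n205162 := d1_3 F435234 (iv2 F399170) F399171
theorem F435236 : act 5 n125558 = n205162 := d16_1 F349587 F435234 F342879 F96476 (iv5 F96495) (iv4 F211366) (iv5 F414585) F414586 F211363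
theorem F435237 : act 3 n205162 = n125560 := d19_3 F163723 (iv5 F342879) (iv4 F435234) (iv1 F348403) (iv5 D125589) F92966 (iv3 D49673) F37976 (iv5 F45428) F45429 D48700 F139350 (iv5 D90539) F65469 D90567 F139394 D106236 D195730 F397973
theorem F435238 : act 1 n125735 = n196044 := d15_1 F435232 (iv7 F399169) F435235
def n205163 : Q := act 5 n125543
theorem D205163 : act 5 n125543 = n205163 := rfl
theorem F435239 : act 2 n205163 = n125734 := d2_1 D205163 (iv5 D125734) (iv2 F201936)
theorem F435240 : act 6 n205163 = n125545 := d12_2 D125543 D205163 (iv5 D125545) (iv6 D58777) D58776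
theorem F435241 : act 4 n205163 = n199892 := d16_4 (iv4 F211501) (iv5 F360479) (iv4 F201937) D205163 F414011 F214396 (iv5 F206873) F206874 F164200
def n205164 : Q := act 7 n125543
theorem D205164 : act 7 n125543 = n205164 := rfl
theorem F435242 : act 2 n205164 = n125735 := d4_1 D205164 (iv7 D125735) (iv2 F201936)
theorem F435243 : act 4 n205164 = n195959 := d11_1 D205164 F398859 (iv4 F201937)
theorem F435244 : act 6 n205164 = n125782 := d14_1 D205164 (iv7 D125782) (iv6 D58898) (iv7 F92911) D125543
theorem F435245 : act 1 n125733 = n205164 := d15_1 D125733 (iv7 D205164) F201936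
theorem F435246 : act 1 n205164 = n125732 := d15_1 F435245 (iv7 F435233) (iv2 F435235)
def n205165 : Q := act 5 n125544
theorem D205165 : act 5 n125544 = n205165 := rfl
theorem F435247 : act 2 n205165 = n125737 := d2_1 D205165 (iv5 D125737) F201939
theorem F435248 : act 3 n205165 = n177446 := d6_1 D205165 (iv5 D177446) (iv3 F341722)
theorem F435249 : act 7 n205165 = n125739 := d13_2 (iv7 F201941) D205165 (iv5 D125739)
theorem F435250 : act 0 n205165 = n197002 := d17_2 D125544 D205165 (iv5 D197002) (iv4 D107524) (iv5 F80814) (iv0 F100266) (iv5 D59238) (iv0 F100259) (iv4 F92914)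
theorem F435251 : act 1 n205165 = n196999 := d17_6 D52011 D112687 F175367 (iv5 F165326) (iv4 F201938) D205165 (iv5 D196999) F166487 (iv4 D52013)
def n205166 : Q := act 4 n125545
theorem D205166 : act 4 n125545 = n205166 := rfl
theorem F435252 : act 2 n205166 = n125742 := d1_1 D205166 (iv4 D125742) (iv2 F201943)
theorem F435253 : act 3 n205166 = n194814 := d5_1 D205166 F394565 (iv3 F394549) (iv4 F435229) F435227
theorem F435254 : act 6 n205166 = n199892 := d10_2 F435240 D205166 (iv4 F435241)
theorem F435255 : act 7 n205166 = n194812 := d11_2 F402590 D205166 (iv4 F402593)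
theorem F435256 : act 5 n205166 = n145428 := d16_1 D205166 (iv4 D145428) (iv5 D68178) (iv4 D31738) (iv5 F45264) (iv4 F93100) (iv5 F202238) (iv7 D125743) (iv2 F201943)
theorem F435257 : act 0 n205166 = n145451 := d18_2 (iv1 F415201) D205166 (iv4 D145451) (iv5 D68193) (iv4 D31744) D31743 D68188 F175375 (iv5 F415200)
theorem F435258 : act 1 n205166 = n145416 := d18_6 (iv1 F168922) F168924 (iv1 D58779) (iv4 F92914) D125545 D205166 (iv4 F402662) F402665 F202330
def n205167 : Q := act 6 n125547
theorem D205167 : act 6 n125547 = n205167 := rfl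
theorem F435259 : act 2 n205167 = n125785 := d3_1 D205167 (iv6 D125785) F201948
theorem F435260 : act 3 n205167 = n125695 := d7_1 D205167 (iv6 F227656) F364819
theorem F435261 : act 4 n205167 = n195023 := d10_1 D205167 (iv6 D195023) (iv4 F201947)
theorem F435262 : act 5 n205167 = n125694 := d12_1 D205167 F202173 F328813 (iv6 F332782) F201950
theorem F435263 : act 7 n205167 = n195063 := d14_2 F201949 D205167 (iv6 D195063) F168359 (iv6 F174556)
theorem F435264 : act 0 n205167 = n125948 := d21_4 D52432 D113594 F201950 D205167 (iv6 D125948) D125947 (iv1 F417237) (iv5 D200618) (iv6 D113287) F165648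
theorem F435265 : act 0 n197483 = n205167 := d21_4 D125610 (iv1 F352194) (iv5 F403287) (iv6 F404515) (iv6 D205167) (iv5 F201950) F332778 (iv5 F332800) F161413 (iv1 F92991)
def n205168 : Q := act 3 n125552
theorem D205168 : act 3 n125552 = n205168 := rfl
theorem F435266 : act 4 n205168 = n195082 := d5_2 (iv4 F342903) D205168 (iv3 D195082) (iv4 D105247) D105246
theorem F435267 : act 5 n205168 = n125732 := d6_2 (iv5 F361379) D205168 (iv3 F366351)
theorem F435268 : act 6 n205168 = n200768 := d7_2 F361373 D205168 (iv3 D200768)
theorem F435269 : act 7 n205168 = n125558 := d8_2 F201969 D205168 (iv3 D125558)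
theorem F435270 : act 0 n205168 = n199157 := d20_10 (iv4 D199157) (iv1 F344594) F202253 F173211 (iv1 F173210) D125714 (iv4 F395684) (iv1 D195078) (iv4 F342903) D205168
theorem F435271 : act 0 n125824 = n205168 := d20_4 (iv4 D109135) D109132 F169122 D125824 (iv3 D205168) F342903 F362951 (iv4 F206986) (iv3 F343538) F169124
def n205169 : Q := act 5 n125553
theorem D205169 : act 5 n125553 = n205169 := rfl
theorem F435272 : act 3 n205169 = n125555 := d6_1 D205169 (iv5 D125555) D125553
theorem F435273 : act 6 n125730 = n205169 := d7_0 F435272 F361385 D125730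
theorem F435274 : act 0 n200541 = n205169 := d21_4 (iv5 D52265) D52262 D113220 D200541 (iv6 F435273) F202226 F342088 (iv5 F416952) (iv6 F416955) (iv1 D113228)
def n205170 : Q := act 6 n125553
theorem D205170 : act 6 n125553 = n205170 := rfl
theorem F435275 : act 2 n205170 = n177612 := d3_1 D205170 (iv6 F416540) F416539
theorem F435276 : act 3 n205170 = n125556 := d7_1 D205170 (iv6 D125556) D125553
theorem F435277 : act 4 n205170 = n193504 := d10_1 D205170 F390108 (iv4 F202629)
theorem F435278 : act 5 n205170 = n200071 := d12_1 D205170 (iv6 D200071) (iv5 F202226) F435273 (iv5 D205169)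
theorem F435279 : act 7 n205170 = n177613 := d14_2 F416562 D205170 (iv6 F358039) (iv7 F281203) (iv6 F416561)
theorem F435280 : act 0 n177602 = n205170 := d17_0 F435278 (iv1 F414901) F417291 F417289 (iv5 F342327) F277100 F129780 F334656 D177602
theorem F435281 : act 1 n177617 = n205170 := d17_6 (iv1 F318839) (iv5 F347440) (iv1 D133104) (iv5 F316544) (iv4 F327210) (iv5 F341713) F435278 (iv0 F414900) F273710
def n205171 : Q := act 3 n125554
theorem D205171 : act 3 n125554 = n205171 := rfl
theorem F435282 : act 2 n205171 = n195075 := d0_1 D205171 (iv3 D195075) (iv2 D105245) D105246 F342905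
theorem F435283 : act 0 n205171 = n147691 := d20_4 (iv4 F45173) D58785 D125554 D205171 F231447 F204916 (iv1 F377899) F377901 (iv3 D106213) (iv1 D49081)
theorem F435284 : act 0 n195089 = n205171 := d20_4 F324474 F323071 D112339 (iv3 F395721) (iv3 D205171) (iv4 D125554) D125551 F201966 F163212 F93265
theorem F435285 : act 6 n177558 = n205171 := d21_3 D203831 (iv1 F430015) F406731 F435283 F349820 (iv5 F349819) (iv1 F216088) (iv5 F207291) (iv6 F417113) F417116
theorem F435286 : act 7 n205171 = n166598 := d15_2 F353613 (iv0 F435283) (iv2 F353614)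
def n205172 : Q := act 5 n125554
theorem D205172 : act 5 n125554 = n205172 := rfl
theorem F435287 : act 2 n205172 = n128790 := d2_1 D205172 (iv5 F342904) F342905
theorem F435288 : act 4 n205172 = n159566 := d18_5 (iv1 D49081) (iv4 F45173) D58785 D125554 D205172 (iv0 D159566) F165903 (iv0 F348400) (iv5 D106215)
theorem F435289 : act 0 n200758 = n205172 := d21_10 (iv5 D205172) F362949 (iv5 F419142) (iv6 F419144) F211958 (iv6 F362874) (iv5 F343611) (iv1 F176713) (iv5 F202421) (iv6 F417806)
theorem F435290 : act 1 n189821 = n205172 := d15_0 (iv0 F435289) (iv7 F418264) F418262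
def n205173 : Q := act 6 n125554
theorem D205173 : act 6 n125554 = n205173 := rfl
theorem F435291 : act 2 n205173 = n195079 := d3_1 D205173 (iv6 D195079) F342905
theorem F435292 : act 3 n205173 = n177558 := d7_1 D205173 F435285 (iv3 D205171)
theorem F435293 : act 4 n205173 = n125556 := d10_1 D205173 (iv6 D125556) D125554
theorem F435294 : act 0 n126215 = n205173 := d21_4 (iv5 D125686) D125684 (iv5 F362281) F362294 (iv6 D205173) D205172 (iv1 F435290) F418254 (iv6 F418255) F377783
theorem F435295 : act 7 n200710 = n205173 := d11_0 F435293 F361378 (iv4 F417593)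
theorem F435296 : act 1 n200713 = n205173 := d18_6 (iv1 F161170) (iv4 D105213) (iv1 F76531) (iv4 F82698) (iv5 F176554) (iv4 F417608) F435293 F361375 (iv5 D105232)
def n205174 : Q := act 7 n125554
theorem D205174 : act 7 n125554 = n205174 := rfl
theorem F435297 : act 2 n205174 = n125559 := d4_1 D205174 F342900 F342905
theorem F435298 : act 3 n205174 = n166598 := d8_1 D205174 (iv7 F435286) (iv3 D205171)
theorem F435299 : act 4 n205174 = n125557 := d11_1 D205174 (iv7 D125557) D125554
theorem F435300 : act 6 n205174 = n132149 := d14_1 D205174 F341808 F417595 F435295 (iv6 D205173)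
theorem F435301 : act 1 n195078 = n205174 := d15_1 D195078 (iv7 D205174) (iv2 F342905)
theorem F435302 : act 1 n205174 = n128677 := d15_1 F435301 (iv7 F343539) (iv2 F395683)
def n205175 : Q := act 0 n125555
theorem D205175 : act 0 n125555 = n205175 := rfl
theorem F435303 : act 5 n205175 = n197826 := d17_3 D58785 D125555 D205175 F405912 (iv5 F397870) (iv0 D195690) (iv5 D106210) (iv0 D49080) (iv4 F45173)
theorem F435304 : act 6 n205175 = n195103 := d21_5 (iv5 D58766) D58764 (iv5 F93096) (iv6 F361385) D205175 (iv5 D195103) (iv1 D105264) (iv5 F161095) (iv6 D105178) (iv1 F92885)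
theorem F435305 : act 2 n125814 = n205175 := d15_3 (iv0 D205175) F361387 (iv7 F202323)
theorem F435306 : act 3 n205175 = n125854 := d0_2 D125814 F435305 (iv2 F202356) F169387 F93134
theorem F435307 : act 0 n205175 = n125560 := d21_10 (iv5 D125560) (iv1 D58786) D58788 D125568 (iv1 F417001) F416999 F176422 (iv1 F161216) D195103 (iv6 F435304)
def n205176 : Q := act 7 n125555
theorem D205176 : act 7 n125555 = n205176 := rfl
theorem F435308 : act 2 n205176 = n125560 := d4_1 D205176 (iv7 F361386) (iv2 F361383)
theorem F435309 : act 5 n205176 = n125557 := d13_1 D205176 (iv7 D125557) D125555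
theorem F435310 : act 0 n125814 = n205176 := d21_7 D96679 D190793 (iv5 F400119) (iv6 F417842) F417841 F176857 (iv5 F202322) F435309 (iv6 F361389) (iv1 D96677)
def n205177 : Q := act 0 n125558
theorem D205177 : act 0 n125558 = n205177 := rfl
theorem F435311 : act 4 n205177 = n125751 := d18_1 D205177 (iv1 F219311) F219309 (iv5 F399519) (iv4 D196127) F360481 (iv4 F201937) D205162 (iv5 F435236)
theorem F435312 : act 3 n205177 = n125849 := d20_5 (iv4 F207163) F362952 (iv4 D125559) D125558 D205177 (iv4 F414272) F414271 (iv4 D195026) D195025 F395470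
theorem F435313 : act 2 n125824 = n205177 := d15_3 (iv0 D205177) (iv0 F397274) F397273
theorem F435314 : act 6 n205177 = n195694 := d3_2 F355939 F435313 (iv2 F397881)
theorem F435315 : act 7 n205177 = n199157 := d4_2 F397273 F435313 F410930
def n205178 : Q := act 2 n125558
theorem D205178 : act 2 n125558 = n205178 := rfl
theorem F435316 : act 3 n205178 = n180673 := d0_2 D125558 D205178 (iv2 F416560) F416564 F201971
theorem F435317 : act 4 n205178 = n131914 := d1_2 F349587 D205178 F211363
theorem F435318 : act 5 n205178 = n125733 := d2_2 (iv5 F435236) D205178 F435235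
theorem F435319 : act 6 n205178 = n180671 := d3_2 F383181 D205178 (iv2 F383180)
theorem F435320 : act 1 n205178 = n199157 := d15_0 (iv0 F435270) F435269 D205178
theorem F435321 : act 1 n125824 = n205178 := d15_0 F435320 (iv7 F435315) (iv2 F435313)
def n205179 : Q := act 4 n125560
theorem D205179 : act 4 n125560 = n205179 := rfl
theorem F435322 : act 7 n205179 = n125729 := d11_2 F361386 D205179 F202225
theorem F435323 : act 6 n125560 = n205179 := d14_5 F435322 (iv6 D125729) (iv7 F93093) D125602 F361386
def n205180 : Q := act 5 n125561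
theorem D205180 : act 5 n125561 = n205180 := rfl
theorem F435324 : act 2 n205180 = n190791 := d2_1 D205180 (iv5 D190791) (iv2 F361398)
theorem F435325 : act 7 n205180 = n190790 := d13_2 (iv7 F361399) D205180 (iv5 D190790)
theorem F435326 : act 0 n205180 = n196074 := d17_2 (iv1 F361397) D205180 F399322 (iv4 F358303) F164626 D106851 (iv5 F348402) (iv0 F348401) F254496
theorem F435327 : act 1 n205180 = n180331 := d17_6 (iv1 F206945) (iv5 F96583) (iv1 F164275) D196105 (iv4 F399431) D205180 (iv5 D180331) D180329 (iv4 F358307)
def n205181 : Q := act 4 n125564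
theorem D205181 : act 4 n125564 = n205181 := rfl
theorem F435328 : act 2 n205181 = n125567 := d1_1 D205181 (iv4 D125567) (iv2 F201976)
theorem F435329 : act 3 n205181 = n195740 := d5_1 D205181 (iv4 F398113) F398112 (iv4 D125875) (iv3 F201977)
theorem F435330 : act 6 n205181 = n125570 := d10_2 F416984 D205181 (iv4 F416989)
theorem F435331 : act 5 n205181 = n195739 := d16_1 D205181 F398002 F397648 F163125 (iv5 F77469) (iv4 F92937) (iv5 F93159) F93160 (iv2 F201976)
def n205182 : Q := act 3 n125565
theorem D205182 : act 3 n125565 = n205182 := rfl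
theorem F435332 : act 5 n205182 = n200068 := d6_2 F405907 D205182 F414884
def n205183 : Q := act 4 n125565
theorem D205183 : act 4 n125565 = n205183 := rfl
theorem F435333 : act 6 n205183 = n205153 := d10_2 (iv6 F405908) D205183 F435186
def n205184 : Q := act 3 n125566
theorem D205184 : act 3 n125566 = n205184 := rfl
def n205185 : Q := act 4 n125566
theorem D205185 : act 4 n125566 = n205185 := rfl
def n205186 : Q := act 6 n125566
theorem D205186 : act 6 n125566 = n205186 := rfl
def n205187 : Q := act 1 n125567
theorem D205187 : act 1 n125567 = n205187 := rfl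
theorem F435334 : act 4 n125683 = n205187 := d20_6 (iv4 F92900) F92902 (iv4 F92996) D125631 F366358 (iv3 F202165) (iv1 D205187) (iv4 D125567) F92935 (iv1 F79538)
theorem F435335 : act 6 n125682 = n205187 := d21_9 F418127 (iv1 D200845) (iv5 F366365) (iv6 D125815) (iv1 F93135) D58927 D125842 (iv1 F360471) (iv5 F360473) (iv1 D205187)
def n205188 : Q := act 3 n125570
theorem D205188 : act 3 n125570 = n205188 := rfl
theorem F435336 : act 6 n205188 = n195740 := d7_2 F435330 D205188 (iv3 F435329)
theorem F435337 : act 7 n205188 = n125927 := d8_2 (iv7 F399527) D205188 (iv3 D125927)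
theorem F435338 : act 2 n195772 = n205188 := d3_3 F435336 F398004 D195772
theorem F435339 : act 5 n195956 = n205188 := d12_5 F435336 (iv5 D195740) D195741 (iv5 F398007) (iv6 F398847)
theorem F435340 : act 0 n200523 = n205188 := d21_4 (iv5 D125831) (iv1 F168915) (iv5 F405955) F416853 F435336 (iv5 D195740) (iv1 F177126) D201059 (iv6 F418936) (iv1 F406717)
def n205189 : Q := act 5 n125570
theorem D205189 : act 5 n125570 = n205189 := rfl
theorem F435341 : act 2 n205189 = n125924 := d2_1 D205189 (iv5 D125924) (iv2 F399526)
theorem F435342 : act 3 n205189 = n195956 := d6_1 D205189 F435339 (iv3 D205188)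
theorem F435343 : act 7 n205189 = n125929 := d13_2 (iv7 F399527) D205189 (iv5 D125929)
theorem F435344 : act 1 n205189 = n200997 := d17_8 D200998 F418674 (iv1 F398231) (iv5 D195798) F163315 F93404 F201986 D205189 F418673
theorem F435345 : act 1 n200744 = n125929 := d15_1 (iv0 F417744) (iv7 F435343) F435341
def n205190 : Q := act 3 n125571
theorem D205190 : act 3 n125571 = n205190 := rfl
theorem F435346 : act 7 n205190 = n125922 := d8_2 (iv7 F399525) D205190 (iv3 D125922)
theorem F435347 : act 5 n195721 = n205190 := d13_3 F435346 F398105 (iv7 F397943)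
theorem F435348 : act 2 n205190 = n195726 := d16_9 F398100 F398099 (iv4 D195730) (iv5 D106236) (iv4 D49095) D49096 D106237 (iv5 F398105) (iv7 F435346)
def n205191 : Q := act 5 n125571
theorem D205191 : act 5 n125571 = n205191 := rfl
theorem F435349 : act 2 n205191 = n125929 := d2_1 D205191 (iv5 D125929) (iv2 F399523)
theorem F435350 : act 3 n205191 = n195721 := d6_1 D205191 F435347 (iv3 D205190)
theorem F435351 : act 6 n205191 = n145460 := d12_2 (iv6 F399524) D205191 F349556 (iv6 D125768) (iv5 F362566)
theorem F435352 : act 7 n205191 = n125924 := d13_2 (iv7 F399525) D205191 (iv5 D125924)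
theorem F435353 : act 4 n205191 = n200890 := d17_4 (iv1 F163235) F93404 (iv1 F201983) D205191 F418298 F250897 (iv5 D114002) F161584 (iv4 F383825)
theorem F435354 : act 0 n205191 = n200997 := d18_0 F418673 D200998 (iv4 F418676) F395515 (iv4 F395516) (iv0 D125932) F93163 D125571 D205191
def n205192 : Q := act 6 n125576
theorem D205192 : act 6 n125576 = n205192 := rfl
theorem F435355 : act 2 n205192 = n125577 := d3_1 D205192 (iv6 D125577) D125576
theorem F435356 : act 4 n205192 = n125622 := d10_1 D205192 (iv6 D125622) (iv4 F201991)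
theorem F435357 : act 0 n205192 = n180404 := d21_4 D111642 (iv1 F406189) (iv5 F406190) D205192 (iv6 F433331) F433336 (iv1 D199753) (iv5 D111661) (iv6 D51493) D51488
def n205193 : Q := act 0 n125577
theorem D205193 : act 0 n125577 = n205193 := rfl
theorem F435358 : act 4 n205193 = n181699 := d18_3 (iv1 D125628) (iv4 F201993) D205193 (iv5 F382706) F382707 (iv0 D190648) (iv4 F380443) (iv0 F380445) (iv5 F358326)
theorem F435359 : act 2 n180404 = n205193 := d15_3 (iv0 D205193) (iv0 F364551) (iv7 F280773)
theorem F435360 : act 6 n205193 = n200864 := d3_2 F433331 F435359 (iv2 F433330)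
def n205194 : Q := act 5 n125577
theorem D205194 : act 5 n125577 = n205194 := rfl
theorem F435361 : act 3 n205194 = n125578 := d6_1 D205194 (iv5 D125578) (iv3 F201992)
theorem F435362 : act 6 n205194 = n203984 := d12_2 D125577 D205194 F430707 (iv6 D199482) F172797
theorem F435363 : act 7 n205194 = n156582 := d13_2 F412700 D205194 (iv5 F412698)
theorem F435364 : act 0 n198258 = n205194 := d21_7 (iv5 F406157) (iv1 F406156) F406150 D199430 F431596 F346876 D198258 (iv5 D205194) (iv6 D125577) D125574
theorem F435365 : act 4 n199745 = n205194 := d10_3 F435362 (iv4 F430709) F430711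
theorem F435366 : act 0 n205194 = n198256 := d20_4 (iv4 F372956) F372958 (iv4 F336671) (iv3 F435361) F407367 (iv4 F295440) (iv1 D93241) D93242 F143820 (iv1 F343101)
theorem F435367 : act 5 n163410 = n191161 := d17_5 F364551 D205194 F435366 (iv5 D198256) F346875 (iv0 D191161) F294051 D181700 (iv4 F282832)
theorem F435368 : act 0 n191151 = n194767 := d17_0 (iv5 D194767) (iv1 D104353) F75899 (iv4 F135435) (iv5 F326384) F262134 F435367 (iv0 D191161) (iv4 F382413)
theorem F435369 : act 6 n191161 = n188443 := d21_3 (iv5 D163413) D163410 F435367 (iv1 F373547) F373545 (iv5 F382384) (iv1 F382385) D201886 F422224 (iv1 F327188)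
theorem F435370 : act 1 n191151 = n194762 := d15_1 (iv0 F435368) F394384 F394381
def n205195 : Q := act 6 n125579
theorem D205195 : act 6 n125579 = n205195 := rfl
theorem F435371 : act 2 n205195 = n195112 := d3_1 D205195 (iv6 D195112) (iv2 F201996)
theorem F435372 : act 3 n205195 = n125580 := d7_1 D205195 (iv6 D125580) D125579
theorem F435373 : act 4 n205195 = n158110 := d10_1 D205195 (iv6 D158110) F326929
theorem F435374 : act 5 n205195 = n195332 := d12_1 D205195 (iv6 D195332) (iv5 F163800) (iv6 F202264) F202261
theorem F435375 : act 7 n205195 = n195332 := d14_2 (iv7 F201997) D205195 (iv6 D195332) (iv7 F170666) F170675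
theorem F435376 : act 0 n205195 = n200052 := d21_4 D58891 D125759 F202261 D205195 F414794 (iv5 F403090) F403089 (iv5 D126333) F174545 (iv1 D58890)
theorem F435377 : act 0 n126315 = n205195 := d21_4 (iv5 F221400) F402617 (iv5 D196997) (iv6 F203109) (iv6 D205195) (iv5 F202261) (iv1 F202267) (iv5 F202250) (iv6 F220361) F220360
def n205196 : Q := act 3 n125581
theorem D205196 : act 3 n125581 = n205196 := rfl
theorem F435378 : act 5 n205196 = n126047 := d6_2 F416910 D205196 (iv3 F416908)
theorem F435379 : act 7 n205196 = n200514 := d8_2 (iv7 F375979) D205196 (iv3 D200514)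
theorem F435380 : act 4 n205196 = n177289 := d20_6 (iv4 D51556) (iv1 F39304) D27960 D58798 D125581 D205196 F363310 F171697 (iv3 D58771) (iv1 F81368)
theorem F435381 : act 2 n177465 = n205196 := d1_3 F435380 (iv2 F361646) F361647
theorem F435382 : act 6 n126051 = n205196 := d10_0 F435380 (iv6 D177289) (iv4 F325215)
theorem F435383 : act 1 n198516 = n205196 := d17_8 F363310 F171698 (iv1 F354459) (iv5 D111642) D111641 D199727 (iv0 F417258) (iv5 F408190) F435380
def n205197 : Q := act 4 n125581
theorem D205197 : act 4 n125581 = n205197 := rfl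
theorem F435384 : act 2 n205197 = n189181 := d1_1 D205197 F375974 F375978
theorem F435385 : act 7 n205197 = n200515 := d11_2 (iv7 F375979) D205197 (iv4 D200515)
theorem F435386 : act 5 n205197 = n189170 := d16_1 D205197 F375935 F294442 (iv4 F201663) (iv5 F366132) F416918 F416916 (iv7 F375975) F375978
theorem F435387 : act 0 n198867 = n205197 := d20_10 (iv4 D205197) (iv1 F202005) (iv4 F341859) F341858 (iv1 F352234) F332388 (iv4 F270745) F409662 (iv4 D198868) D198867
theorem F435388 : act 6 n205197 = n194390 := d21_5 (iv5 D78674) D78670 (iv5 F257740) (iv6 F409654) F435387 (iv5 D194390) F355479 (iv5 D180627) (iv6 D86282) (iv1 F254423)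
def n205198 : Q := act 6 n125581
theorem D205198 : act 6 n125581 = n205198 := rfl
theorem F435389 : act 2 n205198 = n200519 := d3_1 D205198 (iv6 D200519) F375978
theorem F435390 : act 3 n205198 = n126051 := d7_1 D205198 F435382 (iv3 D205196)
theorem F435391 : act 4 n205198 = n194390 := d10_1 D205198 (iv6 F435388) (iv4 D205197)
theorem F435392 : act 5 n205198 = n126043 := d12_1 D205198 (iv6 D126043) D126042 F416913 F416910
theorem F435393 : act 7 n205198 = n177016 := d14_2 (iv7 F375979) D205198 (iv6 F365984) F416825 (iv6 D200517)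
theorem F435394 : act 0 n162954 = n205198 := d21_4 (iv5 D159237) F297380 D181133 (iv6 F357896) (iv6 D205198) (iv5 F416910) (iv1 F416909) (iv5 D125804) F330159 (iv1 F299544)
theorem F435395 : act 1 n162949 = n205198 := d15_0 (iv0 F435394) (iv7 F409777) (iv2 F409779)
def n205199 : Q := act 4 n125586
theorem D205199 : act 4 n125586 = n205199 := rfl
theorem F435396 : act 2 n205199 = n200138 := d1_1 D205199 F415204 (iv2 F405924)
theorem F435397 : act 3 n205199 = n200946 := d5_1 D205199 F418456 F275808 D176525 (iv3 F356083)
theorem F435398 : act 6 n205199 = n201020 := d10_2 F356084 D205199 F418764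
theorem F435399 : act 7 n205199 = n200875 := d11_2 (iv7 F405922) D205199 F418247
theorem F435400 : act 0 n205199 = n200877 := d17_0 (iv5 F418254) F377875 (iv5 F342899) (iv4 D125559) D125560 (iv0 F435307) F435303 F405914 D205199
theorem F435401 : act 5 n205199 = n201115 := d18_4 (iv1 D107529) (iv4 F92966) D125586 D205199 F419145 (iv0 D195619) F163125 D106107 (iv5 F395220)
theorem F435402 : act 0 n127356 = n205199 := d20_10 (iv4 D205199) (iv1 F405914) F405912 (iv3 F324558) F324555 D145455 (iv4 F406104) (iv1 D197882) F168701 D127356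
def n205200 : Q := act 3 n125587
theorem D205200 : act 3 n125587 = n205200 := rfl
theorem F435403 : act 4 n205200 = n198462 := d20_6 (iv4 D59295) (iv1 F170946) D109398 (iv3 F405911) (iv1 F405917) D205200 (iv1 D198462) F169346 D125675 (iv1 F202162)
theorem F435404 : act 1 n205163 = n205200 := d18_6 F209129 F95731 D106578 (iv4 F214396) (iv5 F414011) (iv4 F435241) F435403 (iv0 F408090) F349537
def n205201 : Q := act 4 n125587
theorem D205201 : act 4 n125587 = n205201 := rfl
theorem F435405 : act 2 n205201 = n200875 := d1_1 D205201 F418247 F405920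
theorem F435406 : act 6 n205201 = n129080 := d10_2 (iv6 F405919) D205201 (iv4 F354466)
theorem F435407 : act 7 n205201 = n200138 := d11_2 F405923 D205201 F415204
theorem F435408 : act 0 n205201 = n127356 := d17_0 (iv5 F417805) F435289 (iv5 D205172) (iv4 D125554) D125555 F361387 (iv5 D125589) D125587 D205201
theorem F435409 : act 5 n205201 = n195092 := d18_4 (iv1 F176440) (iv4 F405912) (iv1 F405917) D205201 F397650 (iv0 F397894) (iv4 D195702) F163224 (iv5 F361380)
theorem F435410 : act 1 n205201 = n200877 := d18_8 F377875 F211241 F365647 F165903 (iv5 D107531) (iv4 F92966) D125587 D205201 (iv5 F418254)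
theorem F435411 : act 3 n205201 = n127351 := d19_3 (iv1 F202401) F405918 D205201 (iv1 F204590) F329195 F95063 (iv3 F79242) D108414 (iv5 F167763) F101866 D141286 F365359 F295240 (iv4 F284028) F380738 (iv1 D126271) (iv5 F202373) (iv4 D125875) (iv3 F201977)
theorem F435412 : act 0 n196249 = n128895 := d21_4 (iv5 D58962) (iv1 F161331) (iv5 F343567) D196249 (iv6 F395731) (iv5 F435409) F435408 (iv5 F417805) F417806 (iv1 D125936)
def n205202 : Q := act 5 n125588
theorem D205202 : act 5 n125588 = n205202 := rfl
theorem F435413 : act 2 n205202 = n125589 := d2_1 D205202 (iv5 D125589) D125588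
theorem F435414 : act 3 n205202 = n198889 := d6_1 D205202 (iv5 D198889) (iv3 F202017)
theorem F435415 : act 7 n205202 = n205175 := d13_2 F405913 D205202 F435303
theorem F435416 : act 1 n205202 = n205176 := d17_6 (iv1 F381041) (iv5 F397872) F402680 (iv5 D197011) (iv4 F202018) D205202 F435309 F342908 F92937
theorem F435417 : act 0 n205202 = n125602 := d21_7 F332899 (iv1 F168361) D113367 D200721 (iv1 F417634) (iv6 F348393) D205202 (iv5 F361379) (iv6 F361373) (iv1 F361393)
theorem F435418 : act 4 n200093 = n205202 := d18_7 F342907 F92933 (iv1 F381059) (iv4 F395467) F395476 F202023 D200093 F435416 F435309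
theorem F435419 : act 5 n201169 = n200093 := d16_3 (iv4 F251332) F251333 (iv4 F419317) F435418 (iv5 D205202) F202018 D197011 F402678 (iv2 F397868)
theorem F435420 : act 3 n200093 = n201170 := d19_3 (iv1 F405909) D205202 (iv4 F435418) F419320 (iv5 D201059) (iv4 D113832) (iv3 D52565) (iv1 F83020) (iv5 D52541) F40337 F20687 (iv1 F11518) D7198 D15164 D32117 D69037 (iv5 F330314) D200068 F414884
def n205203 : Q := act 4 n125589
theorem D205203 : act 4 n125589 = n205203 := rfl
theorem F435421 : act 2 n205203 = n200093 := d1_1 D205203 F435418 F435413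
theorem F435422 : act 3 n205203 = n198517 := d5_1 D205203 (iv4 D198517) F169387 (iv4 F92968) (iv3 F202019)
theorem F435423 : act 7 n205203 = n200092 := d11_2 F202323 D205203 F414979
theorem F435424 : act 0 n205203 = n125815 := d18_2 (iv1 F348403) D205203 F202325 F355902 (iv4 D106209) (iv0 D49080) (iv4 F45173) D58786 D125560
theorem F435425 : act 1 n205203 = n200095 := d18_6 F418259 (iv4 F395223) (iv1 D107529) (iv4 F92966) D125589 D205203 F414984 F409774 (iv5 F418261)
def n205204 : Q := act 0 n125591
theorem D205204 : act 0 n125591 = n205204 := rfl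
theorem F435426 : act 5 n205204 = n125617 := d17_3 F417780 F395476 D205204 F418253 (iv5 F418254) F435290 (iv5 D205172) (iv0 F201970) D200752
theorem F435427 : act 6 n205204 = n126301 := d21_5 F45279 (iv1 F45214) D58804 D125591 D205204 (iv5 D126301) (iv1 D59201) F45431 (iv6 D28020) D28017
theorem F435428 : act 1 n198894 = n205204 := d15_0 (iv0 D205204) (iv7 F397889) (iv2 F409772)
theorem F435429 : act 3 n125619 = n205204 := d19_19 (iv1 F435428) F409773 F397866 F381042 (iv1 F381055) (iv5 F384088) (iv4 F384090) (iv3 F418839) F418841 (iv5 D141291) (iv4 F224302) (iv3 D141283) F162260 (iv5 F349586) (iv4 F219306) (iv3 D125824) (iv1 F168914) D198080 F406712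
theorem F435430 : act 7 n205204 = n198893 := d8_2 F360428 F435429 F416872
theorem F435431 : act 2 n205204 = n198892 := d15_3 (iv0 D198892) D198893 (iv7 F435430)
def n205205 : Q := act 1 n125591
theorem D205205 : act 1 n125591 = n205205 := rfl
theorem F435432 : act 1 n205205 = n198894 := d15_1 D205205 (iv7 D198894) (iv2 F202022)
theorem F435433 : act 7 n205205 = n198892 := d15_2 (iv0 D205204) D205205 (iv2 F435431)
theorem F435434 : act 5 n205205 = n197886 := d17_7 (iv1 F176437) D197011 F402679 (iv5 D195685) (iv4 F395467) F395476 D205205 (iv0 F417045) (iv4 D200580)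
theorem F435435 : act 3 n197887 = n205205 := d20_9 F202023 D200092 F414979 (iv3 D125814) (iv1 F93135) (iv3 F93139) (iv4 F202066) (iv1 F360420) (iv4 F406120) (iv1 D205205)
theorem F435436 : act 2 n205205 = n198893 := d0_1 F435435 F416872 F360424 (iv3 F202217) (iv2 F406119)
theorem F435437 : act 4 n205205 = n196125 := d5_2 (iv4 F406120) F435435 F399515 D196127 (iv3 F399528)
theorem F435438 : act 0 n196125 = n125609 := d18_2 (iv1 F435432) F435437 (iv4 F361384) (iv5 D125555) D125554 (iv0 F201970) D200752 (iv0 F417781) (iv5 F409773)
theorem F435439 : act 1 n196125 = n205179 := d18_6 (iv1 F405917) D205201 F435408 (iv4 F406118) (iv5 F435434) F435437 (iv4 D205179) (iv0 F435307) F435303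
def n205206 : Q := act 3 n125592
theorem D205206 : act 3 n125592 = n205206 := rfl
theorem F435440 : act 2 n205206 = n200873 := d0_1 D205206 F418241 F409779 (iv3 D198895) F202026
theorem F435441 : act 4 n205206 = n199877 := d5_2 (iv4 F202024) D205206 (iv3 D199877) (iv4 D111881) D111880
theorem F435442 : act 5 n205206 = n127357 := d6_2 F417569 D205206 F417570
theorem F435443 : act 6 n205206 = n200859 := d7_2 F202027 D205206 (iv3 D200859)
theorem F435444 : act 7 n205206 = n198896 := d8_2 F202028 D205206 (iv3 D198896)
def n205207 : Q := act 4 n125597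
theorem D205207 : act 4 n125597 = n205207 := rfl
theorem F435445 : act 2 n205207 = n190595 := d1_1 D205207 F413742 (iv2 F413744)
theorem F435446 : act 3 n205207 = n198544 := d5_1 D205207 (iv4 F417049) (iv3 D200581) D200582 F417055
theorem F435447 : act 6 n205207 = n125698 := d10_2 (iv6 F366353) D205207 (iv4 D125698)
theorem F435448 : act 7 n205207 = n190594 := d11_2 F413735 D205207 (iv4 F413731)
theorem F435449 : act 5 n205207 = n190031 := d16_1 D205207 F378617 F373888 (iv4 F353144) (iv5 F405973) (iv4 F435191) F435192 (iv7 F413741) (iv2 F413744)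
theorem F435450 : act 1 n205207 = n190597 := d18_8 (iv1 F353145) (iv4 D114234) (iv1 F290558) F77435 D97211 D191070 F382096 D205207 F380256
theorem F435451 : act 0 n205207 = n190585 := d20_1 D205207 (iv4 F405934) (iv3 D197830) (iv1 D108695) (iv3 D50186) (iv4 D24475) F24051 (iv4 F45218) D58809 D125597
def n205208 : Q := act 5 n125599
theorem D205208 : act 5 n125599 = n205208 := rfl
theorem F435452 : act 2 n205208 = n125600 := d2_1 D205208 (iv5 D125600) D125599
theorem F435453 : act 4 n205208 = n196041 := d16_2 (iv4 F202047) D205208 (iv5 D196041) F163846 (iv5 F114326) (iv4 F149962) F316661 F81369 D64524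
theorem F435454 : act 6 n205208 = n196044 := d21_3 F413734 (iv1 F413730) D205208 (iv1 F435238) F399165 F399161 (iv1 D195094) (iv5 F395497) (iv6 D195034) (iv1 F399419)
def n205209 : Q := act 6 n125599
theorem D205209 : act 6 n125599 = n205209 := rfl
theorem F435455 : act 2 n205209 = n125601 := d3_1 D205209 (iv6 D125601) D125599
theorem F435456 : act 3 n205209 = n174847 := d7_1 D205209 F355848 F231342
theorem F435457 : act 4 n205209 = n137262 := d10_1 D205209 F220403 (iv4 F202047)
def n205210 : Q := act 0 n125601
theorem D205210 : act 0 n125601 = n205210 := rfl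
theorem F435458 : act 3 n205210 = n128647 := d20_5 F170872 (iv1 D64450) (iv4 F92984) (iv3 F202049) D205210 (iv4 F364826) (iv1 F402645) (iv4 F402646) (iv3 F402647) (iv1 F176524)
theorem F435459 : act 6 n205210 = n128646 := d21_5 D195031 F395492 (iv5 D125600) D125601 D205210 F206938 D196241 F400021 F362946 (iv1 F202194)
def n205211 : Q := act 1 n125601
theorem D205211 : act 1 n125601 = n205211 := rfl
theorem F435460 : act 6 n200133 = n205211 := d21_3 F402413 (iv1 F397877) (iv5 F415178) (iv1 D205211) (iv6 D125601) D125600 F413739 (iv5 D195027) D195028 F402414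
theorem F435461 : act 3 n205211 = n162907 := d7_1 F435460 (iv6 F417118) F415179
def n205212 : Q := act 7 n125601
theorem D205212 : act 7 n125601 = n205212 := rfl
theorem F435462 : act 3 n205212 = n125603 := d8_1 D205212 (iv7 D125603) (iv3 F202049)
theorem F435463 : act 4 n205212 = n137264 := d11_1 D205212 (iv7 D137264) (iv4 F202050)
theorem F435464 : act 6 n205212 = n127372 := d14_1 D205212 F204681 F176535 F173583 D125601
def n205213 : Q := act 4 n125607
theorem D205213 : act 4 n125607 = n205213 := rfl
theorem F435465 : act 5 n205213 = n203435 := d16_3 (iv4 F92985) D125607 D205213 (iv4 D203435) (iv5 D119062) F310813 D69152 (iv7 F171208) (iv2 D110620)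
def n205214 : Q := act 6 n125607
theorem D205214 : act 6 n125607 = n205214 := rfl
theorem F435466 : act 3 n205214 = n125609 := d7_1 D205214 (iv6 D125609) (iv3 F202058)
theorem F435467 : act 5 n205214 = n137169 := d12_1 D205214 F367712 F352189 (iv6 D125608) D125607
theorem F435468 : act 0 n205214 = n137556 := d21_10 (iv5 D137556) D137554 (iv5 F416983) (iv6 D200562) (iv1 F416950) (iv6 F416955) F355839 (iv1 D125605) D125607 D205214
def n205215 : Q := act 0 n125609
theorem D205215 : act 0 n125609 = n205215 := rfl
theorem F435469 : act 4 n205215 = n205204 := d18_3 (iv1 F361387) F361384 D205215 F435426 F418253 (iv0 F435400) (iv4 D205199) (iv0 D125586) D125589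
theorem F435470 : act 1 n205179 = n205215 := d18_6 F395470 (iv4 F207163) F362952 (iv4 D125559) D125560 D205179 F435469 (iv0 D205204) (iv5 F395476)
def n205216 : Q := act 5 n125609
theorem D205216 : act 5 n125609 = n205216 := rfl
theorem F435471 : act 2 n205216 = n200677 := d2_1 D205216 F417439 F202224
theorem F435472 : act 3 n205216 = n137169 := d6_1 D205216 (iv5 F435467) F435466
theorem F435473 : act 6 n205216 = n125610 := d12_2 D125609 D205216 (iv5 D125610) (iv6 D58814) D58813
def n205217 : Q := act 7 n125609
theorem D205217 : act 7 n125609 = n205217 := rfl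
theorem F435474 : act 2 n205217 = n205179 := d4_1 D205217 F435322 F202224
theorem F435475 : act 4 n205217 = n205176 := d11_1 D205217 (iv7 D205176) F361384
theorem F435476 : act 6 n205217 = n205176 := d14_1 D205217 (iv7 D205176) F361385 F93095 D125609
def n205218 : Q := act 4 n125610
theorem D205218 : act 4 n125610 = n205218 := rfl
theorem F435477 : act 2 n205218 = n200676 := d1_1 D205218 (iv4 D200676) (iv2 F202062)
theorem F435478 : act 7 n205218 = n200672 := d11_2 (iv7 F202063) D205218 (iv4 D200672)
def n205219 : Q := act 6 n125612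
theorem D205219 : act 6 n125612 = n205219 := rfl
theorem F435479 : act 2 n205219 = n197888 := d3_1 D205219 (iv6 D197888) F203773
theorem F435480 : act 3 n205219 = n125615 := d7_1 D205219 (iv6 D125615) D125612
theorem F435481 : act 4 n205219 = n197725 := d10_1 D205219 (iv6 D197725) (iv4 F202065)
theorem F435482 : act 5 n205219 = n166627 := d12_1 D205219 F363328 D200039 (iv6 F414734) (iv5 F202218)
theorem F435483 : act 0 n205219 = n129030 := d21_4 D198288 F407486 (iv5 F202218) D205219 (iv6 D129030) (iv5 F211935) (iv1 D128687) D128689 (iv6 F348809) F169124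
theorem F435484 : act 1 n205219 = n162904 := d15_1 (iv0 F435483) F345580 F333033
def n205220 : Q := act 1 n125613
theorem D205220 : act 1 n125613 = n205220 := rfl
theorem F435485 : act 1 n205220 = n125618 := d15_1 D205220 F203766 (iv2 F203772)
theorem F435486 : act 7 n205220 = n198774 := d15_2 (iv0 F408193) D205220 (iv2 D198774)
theorem F435487 : act 3 n198001 = n205220 := d20_3 (iv4 D191064) D191062 (iv4 F406462) (iv1 D205220) (iv3 F400885) (iv4 F405523) (iv1 F412349) (iv4 D199487) F408263 F408262
theorem F435488 : act 2 n205220 = n198776 := d0_1 F435487 F409182 F170340 D110224 F406463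
def n205221 : Q := act 6 n125617
theorem D205221 : act 6 n125617 = n205221 := rfl
theorem F435489 : act 3 n205221 = n125620 := d7_1 D205221 (iv6 D125620) D125617
theorem F435490 : act 4 n205221 = n189795 := d10_1 D205221 F418255 (iv4 F418253)
theorem F435491 : act 5 n205221 = n126302 := d12_1 D205221 (iv6 D126302) D126301 (iv6 F435427) F435426
theorem F435492 : act 0 n205221 = n201020 := d21_10 (iv5 D201020) F177001 D126212 F202974 (iv1 F202037) (iv6 F395477) F395476 D205204 F435426 D205221
theorem F435493 : act 1 n205221 = n201013 := d15_1 (iv0 F435492) F418733 (iv2 F418762)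
def n205222 : Q := act 6 n125618
theorem D205222 : act 6 n125618 = n205222 := rfl
theorem F435494 : act 3 n205222 = n189796 := d7_1 D205222 (iv6 F377788) F202069
theorem F435495 : act 4 n205222 = n125620 := d10_1 D205222 (iv6 D125620) D125618
theorem F435496 : act 0 n163952 = n205222 := d18_0 F435495 F360430 (iv4 F101596) D140415 F377741 (iv0 F388983) (iv4 F406430) (iv0 F406432) F363366
theorem F435497 : act 5 n203941 = n205222 := d6_0 F435494 F377786 D203941
def n205223 : Q := act 6 n125619
theorem D205223 : act 6 n125619 = n205223 := rfl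
theorem F435498 : act 3 n205223 = n126301 := d7_1 D205223 (iv6 F435427) (iv3 F435429)
theorem F435499 : act 5 n126299 = n205223 := d6_0 F435498 (iv5 D126301) D126299
def n205224 : Q := act 1 n125620
theorem D205224 : act 1 n125620 = n205224 := rfl
theorem F435500 : act 1 n205224 = n127364 := d15_1 D205224 (iv7 F435162) F435160
theorem F435501 : act 7 n205224 = n127359 := d15_2 (iv0 F360430) D205224 F204608
theorem F435502 : act 2 n127367 = n205224 := d4_3 F435501 F204608 D127367
theorem F435503 : act 3 n200954 = n205224 := d8_3 F435501 F204609 D200954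
theorem F435504 : act 6 n200886 = n205224 := d14_5 F435501 (iv6 D127359) F94216 D113589 D200886
def n205225 : Q := act 5 n125620
theorem D205225 : act 5 n125620 = n205225 := rfl
theorem F435505 : act 3 n205225 = n126302 := d6_1 D205225 (iv5 F435491) F435489
theorem F435506 : act 6 n205225 = n126299 := d12_2 D125620 D205225 F435499 (iv6 D205223) (iv5 D125619)
theorem F435507 : act 4 n205225 = n190720 := d18_5 F365986 F366964 F435496 F435495 D205225 F380796 (iv4 F395399) (iv0 D195009) (iv5 F276430)
theorem F435508 : act 7 n169915 = n205225 := d11_0 F435507 (iv7 D190720) (iv4 F267339)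
def n205226 : Q := act 7 n125620
theorem D205226 : act 7 n125620 = n205226 := rfl
theorem F435509 : act 2 n205226 = n127364 := d4_1 D205226 (iv7 F435162) F435160
theorem F435510 : act 5 n205226 = n169915 := d13_1 D205226 F435508 (iv5 D205225)
theorem F435511 : act 6 n205226 = n166625 := d14_1 D205226 (iv7 F326460) F360410 F203765 D125620
theorem F435512 : act 1 n127367 = n205226 := d15_1 F435164 (iv7 D205226) (iv2 F435160)
theorem F435513 : act 1 n205226 = n127359 := d15_1 F435512 (iv7 F435501) (iv2 F435502)
def n205227 : Q := act 6 n125621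
theorem D205227 : act 6 n125621 = n205227 := rfl
theorem F435514 : act 2 n205227 = n125626 := d3_1 D205227 (iv6 D125626) (iv2 F202070)
theorem F435515 : act 3 n205227 = n197839 := d7_1 D205227 (iv6 F435124) F435120
theorem F435516 : act 0 n205227 = n197836 := d21_4 (iv5 F360423) (iv1 F201903) D125621 D205227 (iv6 D197836) (iv5 D108697) D108694 (iv5 F360431) (iv6 D125723) D125720
theorem F435517 : act 0 n191167 = n205227 := d21_4 F202355 (iv1 F325569) (iv5 F326398) (iv6 F382461) (iv6 D205227) (iv5 D125621) (iv1 F201908) (iv5 F360426) F360427 D125854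
def n205228 : Q := act 0 n125622
theorem D205228 : act 0 n125622 = n205228 := rfl
theorem F435518 : act 5 n205228 = n191111 := d17_1 D205228 F395666 (iv5 D195073) F161184 D109091 D198260 F407371 (iv0 F435357) F435356
theorem F435519 : act 6 n205228 = n196230 := d21_5 (iv5 F405959) F405960 (iv5 D125621) D125622 D205228 (iv5 D196230) (iv1 F418281) F398079 (iv6 D111655) D111652
theorem F435520 : act 2 n125627 = n205228 := d3_3 F435519 F399984 F405947
theorem F435521 : act 3 n128650 = n205228 := d7_3 F435519 F399985 F207307
theorem F435522 : act 4 n199554 = n205228 := d10_3 F435519 (iv4 F406198) (iv6 F412647)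
theorem F435523 : act 7 n125628 = n205228 := d14_0 F435519 (iv7 F399986) F341837 F95272 (iv6 F358327)
theorem F435524 : act 0 n205228 = n125630 := d20_1 F435522 (iv4 F412697) (iv3 D199568) (iv1 F172912) (iv3 F326756) F60682 (iv1 F56217) (iv4 F112759) D157869 F412648
def n205229 : Q := act 1 n125622
theorem D205229 : act 1 n125622 = n205229 := rfl
theorem F435525 : act 1 n205229 = n125630 := d15_1 D205229 (iv7 D125630) (iv2 F202071)
theorem F435526 : act 7 n205229 = n125627 := d15_2 (iv0 D205228) D205229 F435520
theorem F435527 : act 5 n205229 = n196095 := d18_9 F399383 F382687 D191236 F382704 (iv5 F382705) (iv4 F280772) (iv0 F435357) F435356 D205229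
theorem F435528 : act 3 n129020 = n205229 := d20_9 (iv4 F435356) F435357 F280772 (iv3 F262507) F262505 (iv3 F356037) (iv4 F406180) (iv1 F406182) (iv4 F354392) (iv1 D205229)
theorem F435529 : act 6 n128638 = n205229 := d21_3 (iv5 F358328) F358331 D128638 (iv1 D205229) (iv6 D125622) D125621 (iv1 F413330) (iv5 D199740) (iv6 F343547) (iv1 F348765)
theorem F435530 : act 2 n205229 = n125628 := d3_1 F435529 F358327 (iv2 F206924)
theorem F435531 : act 4 n205229 = n199091 := d10_1 F435529 (iv6 D199091) (iv4 F206926)
def n205230 : Q := act 5 n125622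
theorem D205230 : act 5 n125622 = n205230 := rfl
theorem F435532 : act 2 n205230 = n125629 := d2_1 D205230 (iv5 D125629) (iv2 F202071)
theorem F435533 : act 3 n205230 = n187418 := d6_1 D205230 F373480 (iv3 F373482)
def n205231 : Q := act 7 n125622
theorem D205231 : act 7 n125622 = n205231 := rfl
theorem F435534 : act 2 n205231 = n125630 := d4_1 D205231 (iv7 D125630) (iv2 F202071)
theorem F435535 : act 3 n205231 = n163423 := d8_1 D205231 (iv7 F373478) (iv3 F373482)
theorem F435536 : act 6 n205231 = n200881 := d14_1 D205231 (iv7 F435182) (iv6 D205151) F201906 D125622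
theorem F435537 : act 1 n125628 = n205231 := d15_1 D125628 (iv7 D205231) F202071
theorem F435538 : act 1 n205231 = n125627 := d15_1 F435537 (iv7 F435526) F435530
def n205232 : Q := act 3 n125624
theorem D205232 : act 3 n125624 = n205232 := rfl
theorem F435539 : act 5 n205232 = n125714 := d6_2 (iv5 F405944) D205232 (iv3 D125714)
theorem F435540 : act 0 n125683 = n205232 := d17_0 F435539 F202213 (iv5 F355902) (iv4 F202325) F366365 D200845 (iv5 F418127) D205187 (iv4 F435334)
theorem F435541 : act 6 n125917 = n205232 := d21_5 (iv5 D28007) (iv1 F45179) (iv5 F45283) D58955 D125917 F435539 F202213 (iv5 F355902) (iv6 D110466) F80353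
theorem F435542 : act 4 n205232 = n200571 := d10_1 F435541 (iv6 D200571) F395518
def n205233 : Q := act 6 n125624
theorem D205233 : act 6 n125624 = n205233 := rfl
theorem F435543 : act 3 n205233 = n125917 := d7_1 D205233 F435541 (iv3 D205232)
theorem F435544 : act 5 n205233 = n200756 := d12_1 D205233 (iv6 D200756) (iv5 D113423) (iv6 F343544) (iv5 F405944)
theorem F435545 : act 0 n205233 = n200569 := d20_4 F176421 D113234 F395518 (iv3 F435543) (iv3 D200569) F395518 (iv1 F202413) F202410 (iv3 F416994) (iv1 D200566)
def n205234 : Q := act 1 n125625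
theorem D205234 : act 1 n125625 = n205234 := rfl
theorem F435546 : act 5 n205234 = n185560 := d17_7 (iv1 F168479) D108766 F354405 (iv5 F354401) (iv4 F202203) F202205 D205234 (iv0 F405516) (iv4 D197722)
theorem F435547 : act 3 n185561 = n205234 := d20_3 D58946 D125883 F366142 (iv1 D205234) (iv3 F355944) F355945 (iv1 F355943) F202375 (iv3 D125880) (iv1 D58945)
def n205235 : Q := act 6 n125625
theorem D205235 : act 6 n125625 = n205235 := rfl
theorem F435548 : act 3 n205235 = n125890 := d7_1 D205235 (iv6 F360432) F355944
theorem F435549 : act 4 n205235 = n125626 := d10_1 D205235 (iv6 D125626) D125625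
def n205236 : Q := act 0 n125626
theorem D205236 : act 0 n125626 = n205236 := rfl
theorem F435550 : act 6 n205236 = n197832 := d21_5 (iv5 D125619) (iv1 D58816) D58818 D125626 D205236 (iv5 D197832) (iv1 F202152) (iv5 F406727) (iv6 F406729) (iv1 F360429)
theorem F435551 : act 2 n197836 = n205236 := d15_3 (iv0 D205236) (iv0 F360409) (iv7 F405963)
theorem F435552 : act 7 n205236 = n191167 := d4_2 (iv7 F405963) F435551 F382460
theorem F435553 : act 4 n205236 = n205233 := d16_0 F435544 F417797 (iv5 D194383) F158505 (iv5 F291961) (iv4 F257726) F366006 (iv7 F405963) F435551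
theorem F435554 : act 5 n191168 = n205236 := d16_1 (iv4 F382462) F435553 F435544 F417797 (iv5 D194383) F158505 (iv5 F291961) D187416 F370258
def n205237 : Q := act 5 n125626
theorem D205237 : act 5 n125626 = n205237 := rfl
theorem F435555 : act 3 n205237 = n125635 := d6_1 D205237 (iv5 D125635) (iv3 F202072)
theorem F435556 : act 6 n205237 = n125629 := d12_2 D125626 D205237 (iv5 D125629) (iv6 D58819) D58818
theorem F435557 : act 4 n205237 = n202862 := d17_4 F373555 F366006 F360409 D205237 (iv5 D202862) (iv0 F183079) (iv5 F331259) D97439 F373556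
theorem F435558 : act 1 n205237 = n191125 := d17_8 D191126 F382479 (iv1 F382478) F382475 (iv4 F382462) F435554 (iv0 D205236) D205237 F382329
def n205238 : Q := act 7 n125626
theorem D205238 : act 7 n125626 = n205238 := rfl
theorem F435559 : act 3 n205238 = n125636 := d8_1 D205238 (iv7 D125636) (iv3 F202072)
theorem F435560 : act 1 n191167 = n205238 := d15_1 (iv0 F435517) (iv7 D205238) (iv2 F435514)
theorem F435561 : act 1 n205238 = n197836 := d15_1 F435560 F405963 (iv2 F382460)
def n205239 : Q := act 4 n125627
theorem D205239 : act 4 n125627 = n205239 := rfl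
theorem F435562 : act 2 n205239 = n199554 := d1_1 D205239 F435522 (iv2 F435520)
theorem F435563 : act 3 n205239 = n199095 := d5_1 D205239 F410637 F406173 F406170 F405946
theorem F435564 : act 6 n205239 = n163950 := d10_2 F405947 D205239 (iv4 F365833)
theorem F435565 : act 7 n205239 = n199091 := d11_2 F435526 D205239 (iv4 F435531)
theorem F435566 : act 0 n205239 = n161003 := d20_1 D205239 F254510 (iv3 D77265) D77263 F326754 (iv4 D51993) (iv1 F164057) (iv4 F45223) (iv3 F92994) D125627
def n205240 : Q := act 4 n125628
theorem D205240 : act 4 n125628 = n205240 := rfl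
theorem F435567 : act 2 n205240 = n199091 := d1_1 D205240 (iv4 F435531) F435530
theorem F435568 : act 3 n205240 = n199544 := d5_1 D205240 (iv4 F412605) F207284 F95275 (iv3 F358325)
theorem F435569 : act 6 n205240 = n128641 := d10_2 (iv6 F358327) D205240 (iv4 D128641)
theorem F435570 : act 7 n205240 = n199554 := d11_2 (iv7 F435523) D205240 F435522
theorem F435571 : act 1 n205240 = n161003 := d18_6 (iv1 F327188) F327190 (iv1 F284411) (iv4 F358276) (iv5 F358326) D205240 F254510 D161008 F382705
def n205241 : Q := act 0 n125629
theorem D205241 : act 0 n125629 = n205241 := rfl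
theorem F435572 : act 3 n205241 = n191190 := d20_5 (iv4 F410127) (iv1 F410130) (iv4 D125642) (iv3 F202073) D205241 (iv4 D191190) (iv1 D97363) (iv4 F150107) (iv3 F382510) F382513
theorem F435573 : act 6 n205241 = n188457 := d21_5 F366006 F360409 D205237 F435556 D205241 F373552 (iv1 D106474) (iv5 F96581) D132136 F373555
theorem F435574 : act 4 n188459 = n205241 := d10_3 F435573 (iv4 D188457) D188459
theorem F435575 : act 5 n195071 = n205241 := d21_2 (iv5 D195073) D195071 F435573 (iv1 F373551) F360830 F171462 (iv1 F164587) (iv5 F358363) D191111 F395666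
def n205242 : Q := act 1 n125629
theorem D205242 : act 1 n125629 = n205242 := rfl
theorem F435576 : act 5 n195072 = n205242 := d21_6 D125614 (iv1 F360420) (iv5 D125718) D125719 (iv1 F417545) F418239 (iv1 D205242) (iv5 D125629) (iv6 D58819) D58815
def n205243 : Q := act 4 n125629
theorem D205243 : act 4 n125629 = n205243 := rfl
theorem F435577 : act 3 n205243 = n201882 := d5_1 D205243 (iv4 D201882) (iv3 F342960) (iv4 D125642) (iv3 F202073)
theorem F435578 : act 6 n205243 = n202862 := d10_2 F435556 D205243 (iv4 F435557)
def n205244 : Q := act 7 n125629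
theorem D205244 : act 7 n125629 = n205244 := rfl
theorem F435579 : act 3 n205244 = n125643 := d8_1 D205244 (iv7 D125643) (iv3 F202073)
theorem F435580 : act 5 n205244 = n125630 := d13_1 D205244 (iv7 D125630) D125629
theorem F435581 : act 6 n163458 = n205244 := d12_0 F435580 (iv6 F415506) (iv5 F415509) (iv6 D163459) D163458
def n205245 : Q := act 6 n125631
theorem D205245 : act 6 n125631 = n205245 := rfl
theorem F435582 : act 2 n205245 = n205183 := d3_1 D205245 F435333 (iv2 F435188)
theorem F435583 : act 3 n205245 = n125632 := d7_1 D205245 (iv6 D125632) D125631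
theorem F435584 : act 4 n205245 = n125914 := d10_1 D205245 (iv6 F435147) (iv4 F435145)
theorem F435585 : act 5 n205245 = n196124 := d12_1 D205245 (iv6 F403295) (iv5 F395753) (iv6 D125706) (iv5 F202075)
theorem F435586 : act 7 n205185 = n205245 := d11_0 F435584 F405925 D205185
theorem F435587 : act 0 n200571 = n205245 := d18_2 F435540 F435542 F435584 F405918 D205201 F435410 (iv4 F418253) F417059 (iv5 F417057)
def n205246 : Q := act 5 n125632
theorem D205246 : act 5 n125632 = n205246 := rfl
theorem F435588 : act 2 n205246 = n200567 := d2_1 D205246 (iv5 D200567) (iv2 F202077)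
theorem F435589 : act 3 n205246 = n196124 := d6_1 D205246 (iv5 F435585) F435583
theorem F435590 : act 6 n205246 = n125707 := d12_2 D125632 D205246 (iv5 D125707) (iv6 D58864) (iv5 F92995)
theorem F435591 : act 7 n201138 = n205246 := d14_0 F435590 F202199 F161226 D113960 D201138
def n205247 : Q := act 7 n125632
theorem D205247 : act 7 n125632 = n205247 := rfl
theorem F435592 : act 2 n205247 = n200568 := d4_1 D205247 (iv7 D200568) (iv2 F202077)
theorem F435593 : act 3 n205247 = n205185 := d8_1 D205247 F435586 F435583
theorem F435594 : act 4 n205247 = n195037 := d11_1 D205247 (iv7 D195037) (iv4 F202078)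
theorem F435595 : act 5 n205247 = n201138 := d13_1 D205247 F435591 (iv5 D205246)
theorem F435596 : act 6 n205247 = n195037 := d14_1 D205247 (iv7 D195037) (iv6 D105178) (iv7 F92999) D125632
theorem F435597 : act 1 n200566 = n205247 := d15_1 D200566 (iv7 D205247) F202077
theorem F435598 : act 1 n205247 = n200565 := d15_1 F435597 (iv7 F416988) (iv2 F416993)
def n205248 : Q := act 5 n125633
theorem D205248 : act 5 n125633 = n205248 := rfl
theorem F435599 : act 4 n205248 = n201267 := d16_2 (iv4 F356047) D205248 F419766 (iv4 F229239) F229240 (iv4 F202190) (iv5 F435187) F435185 (iv2 F366356)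
theorem F435600 : act 1 n196100 = n205248 := d18_6 (iv1 F290558) F77435 D97209 (iv4 F338511) D201590 (iv4 F421063) F435599 (iv0 D201267) (iv5 D114235)
def n205249 : Q := act 6 n125633
theorem D205249 : act 6 n125633 = n205249 := rfl
theorem F435601 : act 3 n205249 = n125914 := d7_1 D205249 (iv6 F435147) F435146
theorem F435602 : act 4 n205249 = n195034 := d10_1 D205249 (iv6 D195034) (iv4 F356047)
theorem F435603 : act 7 n205249 = n205186 := d14_2 F435143 D205249 (iv6 D205186) (iv7 F405925) (iv6 F435147)
theorem F435604 : act 5 n205249 = n205200 := d21_6 (iv5 D58813) (iv1 D27966) D27968 D58821 D125633 D205249 (iv1 F435404) (iv5 D205163) (iv6 D125543) (iv1 F92987)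
theorem E103895 : n205186 = n205184 := (c8_1 F435603 (iv3 D205184) (iv7 F405925) (iv3 F435601))
theorem F435605 : act 6 n205184 = n125566 := (sb E103895 (iv6 D205186))
theorem F435606 : act 7 n205184 = n205249 := (sb E103895 (iv7 F435603))
theorem F435607 : act 1 n200573 = n205249 := d17_8 (iv1 F395499) (iv5 D131898) (iv1 F163852) (iv5 F399172) F399171 (iv5 F435318) F435320 (iv5 F417008) F435602
def n205250 : Q := act 3 n125634
theorem D205250 : act 3 n125634 = n205250 := rfl
theorem F435608 : act 6 n205250 = n205182 := d7_2 F405908 D205250 (iv3 D205182)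
def n205251 : Q := act 5 n125634
theorem D205251 : act 5 n125634 = n205251 := rfl
theorem F435609 : act 4 n205251 = n195665 := d9_1 D205251 (iv5 D195665) F364256 (iv5 D74184) (iv4 F76483) D105177 (iv4 F356047) D205248 F435599 F419766 (iv4 F229239) F229240 (iv4 F202190) (iv5 F435187) F435186
theorem F435610 : act 0 n196100 = n205251 := d19_0 (iv5 D205251) (iv4 F435186) (iv3 F435189) F416924 F355839 (iv4 F343345) (iv3 F334725) (iv1 F175128) (iv5 F175131) F228898 F346415 (iv1 F346417) (iv5 F419648) F419649 (iv3 F338513) (iv1 D149995) F107026 (iv4 F164274) (iv3 F399406)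
def n205252 : Q := act 0 n125637
theorem D205252 : act 0 n125637 = n205252 := rfl
theorem F435611 : act 5 n205252 = n189677 := d17_1 D205252 F377365 F376288 (iv4 D176852) F346852 D144223 F350477 F158076 F364547
theorem F435612 : act 3 n205252 = n128649 := d20_5 F79539 D50189 (iv4 F165632) D125637 D205252 (iv4 F358300) (iv1 F327652) (iv4 F358303) F343615 (iv1 D108700)
theorem F435613 : act 2 n163457 = n205252 := d15_3 (iv0 D205252) (iv0 F373493) F373492
theorem F435614 : act 1 n194161 = n205252 := d15_0 (iv0 D205252) F364544 (iv2 F392224)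
theorem F435615 : act 7 n205252 = n129070 := d15_2 (iv0 F392227) F435614 (iv2 F373490)
theorem F435616 : act 6 n125699 = n205252 := d14_5 F435615 F413733 F413735 F366353 D125699
def n205253 : Q := act 3 n125641
theorem D205253 : act 3 n125641 = n205253 := rfl
theorem F435617 : act 2 n205253 = n191258 := d0_1 D205253 F382776 (iv2 F399995) F399996 F202088
theorem F435618 : act 5 n205253 = n166584 := d6_2 (iv5 F202087) D205253 F358044
theorem F435619 : act 7 n205253 = n191259 := d8_2 (iv7 F202086) D205253 (iv3 F382781)
theorem F435620 : act 0 n205253 = n163442 := d20_4 F409804 F379823 F379824 D205253 F257729 F119729 D86896 (iv4 F134053) (iv3 F326806) (iv1 F409807)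
theorem F435621 : act 0 n191260 = n205253 := d20_4 (iv4 D191261) (iv1 D97481) (iv4 F150263) (iv3 F382784) (iv3 D205253) (iv4 F379824) F379822 F332822 (iv3 F382527) (iv1 F382794)
def n205254 : Q := act 3 n125649
theorem D205254 : act 3 n125649 = n205254 := rfl
theorem F435622 : act 6 n205254 = n196054 := d7_2 F202116 D205254 (iv3 D196054)
theorem F435623 : act 7 n205254 = n128895 := d8_2 (iv7 F202113) D205254 (iv3 D128895)
theorem F435624 : act 0 n205254 = n130302 := d20_4 F206909 (iv1 F164609) (iv4 F202114) D205254 F208837 F95659 F333899 (iv4 F207138) (iv3 D128904) (iv1 F206912)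
def n205255 : Q := act 3 n125654
theorem D205255 : act 3 n125654 = n205255 := rfl
theorem F435625 : act 2 n205255 = n196079 := d0_1 D205255 (iv3 F399343) F355043 (iv3 D128827) (iv2 F355047)
theorem F435626 : act 7 n205255 = n128832 := d8_2 (iv7 F355048) D205255 (iv3 D128832)
theorem F435627 : act 0 n205255 = n196083 := d20_10 F399349 F330446 (iv4 F95092) F95091 F207219 D128978 (iv4 F207230) F217213 F217212 D205255
theorem F435628 : act 0 n135681 = n205255 := d20_4 (iv4 F217970) F218184 (iv4 D135682) D135681 (iv3 D205255) (iv4 F217212) (iv1 F332708) F347402 (iv3 F218466) (iv1 F218468)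
def n205256 : Q := act 7 n125657
theorem D205256 : act 7 n125657 = n205256 := rfl
theorem F435629 : act 2 n205256 = n128894 := d4_1 D205256 (iv7 D128894) (iv2 F202134)
theorem F435630 : act 3 n205256 = n172545 := d8_1 D205256 (iv7 F367722) F367720
theorem F435631 : act 5 n205256 = n200848 := d13_1 D205256 F418135 (iv5 F367718)
theorem F435632 : act 6 n205256 = n128853 := d14_1 D205256 (iv7 D128853) (iv6 D60594) (iv7 F93024) D125657
theorem F435633 : act 1 n128892 = n205256 := d15_1 D128892 (iv7 D205256) F202134
theorem F435634 : act 1 n205256 = n127407 := d15_1 F435633 (iv7 F417764) F417760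
def n205257 : Q := act 4 n125658
theorem D205257 : act 4 n125658 = n205257 := rfl
theorem F435635 : act 3 n205257 = n190596 := d5_1 D205257 (iv4 D190596) F148005 D96268 (iv3 F363492)
theorem F435636 : act 5 n205257 = n205164 := d9_2 (iv5 F349594) D205257 F435243 F398856 F207118 (iv5 F96489) (iv4 F209109) F349543 F360470 (iv5 D125734) (iv4 F93141) D125842 F360467 F164202 (iv4 F209113)
theorem F435637 : act 6 n205257 = n128857 := d10_2 F363493 D205257 F362288
theorem F435638 : act 7 n205257 = n205163 := d11_2 (iv7 F414014) D205257 F435241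
def n205258 : Q := act 3 n125659
theorem D205258 : act 3 n125659 = n205258 := rfl
theorem F435639 : act 5 n205258 = n178884 := d6_2 F349543 D205258 F347164
theorem F435640 : act 0 n142502 = n205258 := d17_0 F435639 F425815 F425813 (iv4 D198091) D198092 (iv0 F406759) F168950 D140397 (iv4 F362619)
theorem F435641 : act 1 n142497 = n205258 := d17_6 F362625 (iv5 D145075) (iv1 F251051) (iv5 F344493) (iv4 D142496) D142497 F435639 (iv0 F363387) F247442
def n205259 : Q := act 4 n125664
theorem D205259 : act 4 n125664 = n205259 := rfl
theorem F435642 : act 7 n205259 = n190229 := d11_2 (iv7 F356021) D205259 F379136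
theorem F435643 : act 0 n205259 = n199940 := d17_0 F414239 (iv1 F382839) (iv5 D191269) (iv4 F158371) D194262 F392556 D199988 F414497 D205259
theorem F435644 : act 1 n205259 = n199941 := d18_6 F328682 (iv4 F82210) F82212 (iv4 F93040) D125664 D205259 (iv4 D199941) F358524 (iv5 F149599)
def n205260 : Q := act 3 n125666
theorem D205260 : act 3 n125666 = n205260 := rfl
theorem F435645 : act 2 n205260 = n205257 := d0_1 D205260 F435635 F405935 (iv3 D197830) (iv2 F406720)
theorem F435646 : act 5 n205260 = n125735 := d6_2 F406718 D205260 (iv3 F406716)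
theorem F435647 : act 7 n205260 = n125734 := d8_2 (iv7 F406721) D205260 (iv3 F360476)
theorem F435648 : act 4 n205260 = n199893 := d20_6 F92876 (iv1 F45198) D27980 D58846 D125666 D205260 (iv1 D199893) F173997 (iv3 D58765) D58764
theorem F435649 : act 1 n205200 = n205260 := d17_8 (iv1 D199893) (iv5 F336178) (iv1 D111008) D111009 D199157 (iv5 F417008) F435607 F435604 F435648
def n205261 : Q := act 4 n125666
theorem D205261 : act 4 n125666 = n205261 := rfl
theorem F435650 : act 2 n205261 = n197831 := d1_1 D205261 (iv4 D197831) (iv2 F406720)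
theorem F435651 : act 7 n205261 = n197828 := d11_2 (iv7 F406721) D205261 (iv4 D197828)
theorem F435652 : act 0 n197862 = n205261 := d20_10 (iv4 D205261) (iv1 F202147) F168631 (iv3 F167982) (iv1 F167986) D108860 F324540 (iv1 F324424) (iv4 F170951) D197862
theorem F435653 : act 6 n177796 = n205261 := d3_0 F435650 (iv6 F433197) F433201
def n205262 : Q := act 6 n125666
theorem D205262 : act 6 n125666 = n205262 := rfl
theorem F435654 : act 2 n205262 = n195051 := d3_1 D205262 (iv6 F405937) (iv2 F406720)
theorem F435655 : act 4 n205262 = n177796 := d10_1 D205262 F435653 (iv4 D205261)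
theorem F435656 : act 5 n205262 = n201060 := d12_1 D205262 (iv6 D201060) D201059 (iv6 F418936) F406718
theorem F435657 : act 0 n205262 = n195049 := d21_4 D108907 D198081 F406718 D205262 (iv6 D195049) (iv5 F203057) (iv1 F203061) F220873 (iv6 F397279) (iv1 D108905)
theorem F435658 : act 1 n205262 = n195053 := d15_1 (iv0 F435657) (iv7 D195053) (iv2 F395575)
theorem F435659 : act 7 n195050 = n205262 := d13_0 F435656 F418942 F395578
def n205263 : Q := act 3 n125667
theorem D205263 : act 3 n125667 = n205263 := rfl
theorem F435660 : act 7 n205263 = n197830 := d8_2 (iv7 F406724) D205263 (iv3 D197830)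
theorem F435661 : act 1 n137283 = n205263 := d15_1 F380253 F435660 (iv2 F405935)
theorem F435662 : act 1 n205263 = n137286 := d15_1 F435661 (iv7 F356048) F356050
def n205264 : Q := act 4 n125667
theorem D205264 : act 4 n125667 = n205264 := rfl
theorem F435663 : act 2 n205264 = n197828 := d1_1 D205264 (iv4 D197828) (iv2 F406723)
theorem F435664 : act 7 n205264 = n197831 := d11_2 (iv7 F406724) D205264 (iv4 D197831)
theorem F435665 : act 0 n205264 = n197862 := d17_0 F406052 (iv1 F413291) (iv5 D198286) F169122 D125825 F355943 F93157 D125667 D205264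
theorem F435666 : act 3 n205264 = n196270 := d20_3 (iv4 F168631) (iv1 F202152) D205264 (iv1 F400137) F223457 F101594 (iv1 F94219) D113586 (iv3 F176748) (iv1 F168479)
def n205265 : Q := act 6 n125667
theorem D205265 : act 6 n125667 = n205265 := rfl
theorem F435667 : act 2 n205265 = n125726 := d3_1 D205265 F360477 (iv2 F406723)
theorem F435668 : act 5 n205265 = n125719 := d12_1 D205265 (iv6 D125719) D125718 F406729 F406727
theorem F435669 : act 0 n205265 = n205206 := d21_4 D125831 (iv1 F406725) F406727 D205265 F435443 F418185 (iv1 F434664) F434662 (iv6 D198078) (iv1 F168910)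
def n205266 : Q := act 0 n125670
theorem D205266 : act 0 n125670 = n205266 := rfl
theorem F435670 : act 5 n205266 = n126177 := d17_3 F93052 D125670 D205266 F202905 (iv5 F168056) F168055 F41238 D27986 (iv4 F82655)
theorem F435671 : act 4 n205266 = n194951 := d18_1 D205266 (iv1 F395157) F415516 (iv5 D200208) (iv4 D112837) (iv0 D52079) D52081 (iv0 F93053) D125670
theorem F435672 : act 3 n205266 = n169906 := d20_5 (iv4 D36382) F118846 D79713 (iv3 F345717) D205266 (iv4 F381066) F381067 (iv4 F257735) F257734 F121536
theorem F435673 : act 2 n194943 = n205266 := d15_3 (iv0 D205266) (iv0 F392632) (iv7 F395118)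
theorem F435674 : act 1 n200209 = n205266 := d15_0 (iv0 D205266) F345719 (iv2 F415517)
theorem F435675 : act 7 n205266 = n169900 := d15_2 (iv0 F415521) F435674 (iv2 F392629)
def n205267 : Q := act 1 n125671
theorem D205267 : act 1 n125671 = n205267 := rfl
theorem F435676 : act 1 n205267 = n162910 := d15_1 D205267 (iv7 F280898) F358203
theorem F435677 : act 7 n205267 = n163456 := d15_2 (iv0 F373496) D205267 (iv2 F373494)
theorem F435678 : act 4 n205267 = n200174 := d18_7 D189179 (iv4 F415397) (iv1 F394156) F416573 (iv5 D200467) (iv4 F202157) D205267 (iv0 F415386) (iv5 D189181)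
theorem F435679 : act 3 n197008 = n205267 := d20_3 F92966 D107528 D197008 (iv1 D205267) (iv3 D125671) D125672 F408090 (iv4 F435403) (iv3 D205200) (iv1 D125587)
theorem F435680 : act 6 n166318 = n205267 := d14_5 F435677 (iv6 D163456) (iv7 F254431) F362482 (iv7 F373667)
def n205268 : Q := act 5 n125671
theorem D205268 : act 5 n125671 = n205268 := rfl
theorem F435681 : act 3 n205268 = n125673 := d6_1 D205268 (iv5 D125673) D125671
theorem F435682 : act 7 n205268 = n198083 := d13_2 F435117 D205268 (iv5 F435115)
theorem F435683 : act 4 n205268 = n125868 := d16_2 (iv4 F202157) D205268 F366009 F267344 F293587 (iv4 F329733) F318577 (iv7 F132149) (iv2 F324601)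
theorem F435684 : act 1 n205268 = n198891 := d17_6 (iv1 F176309) D200473 F416602 (iv5 D200467) (iv4 F202157) D205268 F409769 (iv0 F409058) F409055
theorem F435685 : act 6 n205268 = n125867 := d21_5 F326398 F325568 D110464 D198891 (iv1 F435684) (iv5 F398162) F398163 F203031 (iv6 D125876) D125873
def n205269 : Q := act 6 n125671
theorem D205269 : act 6 n125671 = n205269 := rfl
theorem F435686 : act 2 n205269 = n165604 := d3_1 D205269 F366192 F358203
theorem F435687 : act 3 n205269 = n125674 := d7_1 D205269 (iv6 D125674) D125671
theorem F435688 : act 4 n205269 = n165613 := d10_1 D205269 (iv6 F354039) (iv4 F202157)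
theorem F435689 : act 7 n205269 = n200955 := d14_2 F435117 D205269 (iv6 F430005) F430006 (iv6 F435116)
theorem F435690 : act 1 n204882 = n205269 := d15_1 D204882 F435689 F418487
theorem F435691 : act 1 n205269 = n204881 := d15_1 F435690 F434003 (iv2 F434006)
def n205270 : Q := act 4 n125678
theorem D205270 : act 4 n125678 = n205270 := rfl
theorem F435692 : act 2 n205270 = n125682 := d1_1 D205270 (iv4 D125682) (iv2 F202163)
theorem F435693 : act 5 n205270 = n129085 := d9_2 D125678 D205270 F207319 F176205 (iv4 F176208) F336178 F173997 D125525 D205143 F435135 (iv4 D141285) (iv5 D66272) D66271 (iv5 F355934) F202135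
theorem F435694 : act 0 n205270 = n131910 := d17_0 (iv5 D131910) F96488 D106477 (iv4 F349576) (iv5 D125541) D125539 (iv5 F435127) F435125 D205270
theorem F435695 : act 1 n205270 = n131907 := d18_6 (iv1 F435404) F435241 (iv1 F414013) F202135 D125678 D205270 (iv4 F417007) F435607 F435604
def n205271 : Q := act 6 n125678
theorem D205271 : act 6 n125678 = n205271 := rfl
theorem F435696 : act 2 n205271 = n125683 := d3_1 D205271 (iv6 D125683) (iv2 F202163)
theorem F435697 : act 5 n197008 = n205271 := d2_0 F435696 F417057 F417053
theorem F435698 : act 0 n205160 = n125851 := d21_4 F435127 (iv1 D125539) D125541 D205160 F416871 (iv5 F435167) F435170 F435697 (iv6 D205271) (iv1 F435125)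
def n205272 : Q := act 5 n125679
theorem D205272 : act 5 n125679 = n205272 := rfl
theorem F435699 : act 2 n205272 = n125686 := d2_1 D205272 (iv5 D125686) (iv2 F202164)
theorem F435700 : act 3 n205272 = n166318 := d6_1 D205272 (iv5 F435179) F435178
theorem F435701 : act 6 n205272 = n197008 := d12_2 D125679 D205272 F435697 (iv6 D205271) (iv5 D125678)
theorem F435702 : act 7 n205272 = n129078 := d13_2 F395109 D205272 F395112
theorem F435703 : act 4 n205272 = n197009 := d16_2 F355936 D205272 F402670 F176623 (iv5 F114614) (iv4 F283804) F283805 (iv7 F251822) F251824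
theorem F435704 : act 1 n205272 = n200880 := d17_6 F160588 F76222 D97357 F288027 F355936 D205272 F418269 F377781 F362282
def n205273 : Q := act 3 n125680
theorem D205273 : act 3 n125680 = n205273 := rfl
theorem F435705 : act 5 n205273 = n125762 := d6_2 (iv5 F358192) D205273 (iv3 D125762)
theorem F435706 : act 6 n195771 = n205273 := d12_0 F435705 (iv6 F358198) D200769 (iv6 F417857) (iv5 F398101)
theorem F435707 : act 4 n205273 = n195772 := d10_1 F435706 (iv6 D195772) D195771
theorem F435708 : act 0 n195772 = n125899 := d20_7 (iv4 D28019) D28017 (iv4 F45280) (iv3 F93067) D125680 D205273 F435707 (iv4 D125899) (iv3 D58950) (iv1 F45285)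
def n205274 : Q := act 6 n125680
theorem D205274 : act 6 n125680 = n205274 := rfl
theorem F435709 : act 2 n205274 = n125885 := d3_1 D205274 (iv6 F435130) (iv2 F435131)
theorem F435710 : act 3 n205274 = n195771 := d7_1 D205274 F435706 (iv3 D205273)
theorem F435711 : act 4 n205274 = n125915 := d10_1 D205274 (iv6 F362925) (iv4 F358191)
theorem F435712 : act 5 n205274 = n200771 := d12_1 D205274 (iv6 D200771) (iv5 D113445) (iv6 F358190) (iv5 F358192)
theorem F435713 : act 7 n205274 = n205181 := d14_2 (iv7 F358193) D205274 F435330 F399527 D125930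
theorem F435714 : act 0 n205274 = n205187 := d21_4 (iv5 D58896) D58893 (iv5 F358192) D205274 (iv6 F435335) F360473 (iv1 F211677) (iv5 F398856) (iv6 F398860) (iv1 D125772)
theorem F435715 : act 0 n200572 = n205274 := d20_10 F435711 (iv1 F202402) D205185 (iv3 F435593) (iv1 F435597) F416994 (iv4 F202410) (iv1 F202412) F395509 D200572
def n205275 : Q := act 3 n125681
theorem D205275 : act 3 n125681 = n205275 := rfl
theorem F435716 : act 4 n205275 = n125891 := d5_2 (iv4 F362565) D205275 F202383 (iv4 F202405) (iv3 F362929)
theorem F435717 : act 5 n205275 = n125766 := d6_2 (iv5 F362566) D205275 (iv3 D125766)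
theorem F435718 : act 6 n205275 = n205190 := d7_2 F399524 D205275 (iv3 D205190)
theorem F435719 : act 7 n205275 = n125887 := d8_2 F435126 D205275 F435128
theorem F435720 : act 2 n126036 = n205275 := d4_3 F435719 (iv2 F409060) F409062
theorem F435721 : act 1 n126393 = n205275 := d15_1 F409065 F435719 (iv2 F409060)
theorem F435722 : act 1 n205275 = n126424 := d15_1 F435721 (iv7 F360444) F366017
def n205276 : Q := act 1 n125683
theorem D205276 : act 1 n125683 = n205276 := rfl
theorem F435723 : act 5 n205276 = n128691 := d17_7 D106206 F163213 (iv1 F163226) (iv5 F361400) D200582 (iv5 F417057) D205276 (iv0 F343540) (iv4 D106209)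
theorem F435724 : act 3 n198097 = n205276 := d19_19 (iv1 D205276) F417057 (iv4 D200582) D200581 (iv1 F417050) F411031 F411028 F365735 (iv1 D126870) D126872 (iv4 F405597) F405596 (iv1 F386121) (iv5 D108764) D108763 (iv3 F201902) (iv1 F201903) D125621 (iv4 F406787)
theorem F435725 : act 6 n128692 = n205276 := d21_3 (iv5 F349561) (iv1 F163721) D128692 (iv1 D205276) (iv6 D125683) (iv5 D58853) D58850 D125673 (iv6 F349547) (iv1 F360482)
def n205277 : Q := act 7 n125683
theorem D205277 : act 7 n125683 = n205277 := rfl
theorem F435726 : act 3 n205277 = n125691 := d8_1 D205277 (iv7 D125691) (iv3 F202165)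
theorem F435727 : act 5 n205277 = n129073 := d13_1 D205277 (iv7 F417054) (iv5 F417057)
theorem F435728 : act 6 n205277 = n197840 := d14_1 D205277 (iv7 F416879) F349551 F201890 D125683
def n205278 : Q := act 6 n125684
theorem D205278 : act 6 n125684 = n205278 := rfl
theorem F435729 : act 2 n205278 = n200953 := d3_1 D205278 F418479 F355927
theorem F435730 : act 3 n205278 = n190800 := d7_1 D205278 F381122 (iv3 F355926)
theorem F435731 : act 4 n205278 = n189842 := d10_1 D205278 (iv6 D189842) F355928
theorem F435732 : act 5 n205278 = n203828 := d12_1 D205278 F429995 (iv5 F362295) (iv6 F362294) F362281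
theorem F435733 : act 7 n205278 = n195114 := d14_2 (iv7 F355930) D205278 (iv6 D195114) F173640 (iv6 F356011)
theorem F435734 : act 0 n205278 = n200951 := d21_4 (iv5 D128940) D128938 F362281 D205278 (iv6 F418466) F202329 (iv1 F165149) (iv5 F332893) (iv6 F299706) F362275
theorem F435735 : act 1 n205278 = n196998 := d15_1 (iv0 F435734) F402619 (iv2 F418467)
def n205279 : Q := act 0 n125686
theorem D205279 : act 0 n125686 = n205279 := rfl
theorem F435736 : act 6 n205279 = n129048 := d21_5 (iv5 F435723) (iv1 D205276) F417057 (iv6 F417058) D205279 F355903 (iv1 D110468) D110469 (iv6 F355901) F343540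
theorem F435737 : act 7 n200880 = n205279 := d14_0 F435736 (iv7 F417568) F417571 F204601 D200880
theorem F435738 : act 3 n205279 = n200882 := d8_1 F435737 (iv7 D200882) (iv3 F418268)
theorem F435739 : act 1 n129078 = n205279 := d15_1 (iv0 F377784) (iv7 F435737) F418267
def n205280 : Q := act 7 n125686
theorem D205280 : act 7 n125686 = n205280 := rfl
theorem F435740 : act 2 n205280 = n129078 := d4_1 D205280 (iv7 F435702) F435699
theorem F435741 : act 3 n205280 = n125699 := d8_1 D205280 (iv7 D125699) (iv3 F202166)
theorem F435742 : act 4 n205280 = n200765 := d11_1 D205280 F417839 F417061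
theorem F435743 : act 5 n205280 = n125687 := d13_1 D205280 (iv7 D125687) D125686
theorem F435744 : act 6 n205280 = n128649 := d14_1 D205280 F358311 D129073 (iv7 F417054) (iv6 F417058)
theorem F435745 : act 1 n200880 = n205280 := d15_1 F435704 (iv7 D205280) (iv2 F435699)
def n205281 : Q := act 6 n125688
theorem D205281 : act 6 n125688 = n205281 := rfl
theorem F435746 : act 2 n205281 = n195034 := d3_1 D205281 (iv6 D195034) F366356
theorem F435747 : act 3 n205281 = n200549 := d7_1 D205281 (iv6 D200549) F366357
theorem F435748 : act 5 n205281 = n195091 := d12_1 D205281 (iv6 D195091) (iv5 D105257) (iv6 F161092) (iv5 F366354)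
theorem F435749 : act 0 n125916 = n205281 := d17_0 F435748 (iv1 F398073) (iv5 F398074) F201946 F349546 (iv0 D125522) D125525 D205142 F435129
theorem F435750 : act 1 n195960 = n205281 := d17_6 F214404 (iv5 D66272) (iv1 F111172) F99517 D106479 D195960 F435748 (iv0 F395730) (iv4 F214402)
def n205282 : Q := act 6 n125693
theorem D205282 : act 6 n125693 = n205282 := rfl
theorem F435751 : act 2 n205282 = n195061 := d3_1 D205282 (iv6 F435209) F435203
theorem F435752 : act 3 n205282 = n172519 := d7_1 D205282 (iv6 D172519) (iv3 F329145)
theorem F435753 : act 4 n205282 = n198679 := d10_1 D205282 (iv6 F408850) F394749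
theorem F435754 : act 7 n205282 = n195085 := d14_2 (iv7 F202171) D205282 F395712 (iv7 F415226) F415225
theorem F435755 : act 0 n205282 = n195077 := d21_4 (iv5 D58858) D58856 D125693 D205282 (iv6 D195077) F342870 (iv1 F165251) (iv5 F328813) (iv6 F202173) F366355
theorem F435756 : act 1 n205282 = n195087 := d15_1 (iv0 F435755) (iv7 D195087) (iv2 F395679)
theorem E103896 : n200716 = n195077 := (c15_1 D200716 (iv0 F435755) F435754 (iv2 F395710))
theorem F435757 : act 0 n195077 = n113362 := (sb E103896 (iv1 D200716))
theorem E103897 : n200715 = n195087 := ((c15_1 F435756 (iv0 D200715) (iv7 F395614) (iv2 F435751))).symm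
theorem F435758 : act 1 n195087 = n113362 := (sb E103897 (iv0 D200715))
def n205283 : Q := act 4 n125695
theorem D205283 : act 4 n125695 = n205283 := rfl
theorem F435759 : act 2 n205283 = n200579 := d1_1 D205283 (iv4 D200579) (iv2 F202174)
theorem F435760 : act 3 n205283 = n198582 := d5_1 D205283 (iv4 D198582) (iv3 F395461) (iv4 F435261) F435260
theorem F435761 : act 6 n205283 = n166678 := d10_2 F227656 D205283 F364820
theorem F435762 : act 7 n205283 = n198681 := d11_2 F435205 D205283 (iv4 F435206)
theorem F435763 : act 1 n205283 = n162657 := d18_6 F175699 F170994 (iv1 F93065) (iv4 F93073) D125695 D205283 (iv4 F377758) (iv0 F394790) (iv5 F394791)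
def n205284 : Q := act 6 n125696
theorem D205284 : act 6 n125696 = n205284 := rfl
theorem F435764 : act 2 n205284 = n200135 := d3_1 D205284 (iv6 F435198) F435196
theorem F435765 : act 3 n205284 = n167778 := d7_1 D205284 (iv6 D167778) (iv3 F345722)
theorem F435766 : act 5 n205284 = n200721 := d12_1 D205284 (iv6 D200721) (iv5 D113367) D113368 (iv5 F202175)
theorem F435767 : act 7 n205284 = n200134 := d14_2 F345725 D205284 F415184 (iv7 F204593) (iv6 F345728)
theorem F435768 : act 0 n129047 = n205284 := d21_4 F395753 (iv1 D128667) (iv5 F95267) D129047 (iv6 D205284) F202175 (iv1 F404517) (iv5 F417029) F417032 (iv1 F395673)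
theorem F435769 : act 1 n200133 = n205284 := d15_0 (iv0 F435768) (iv7 F417576) F417573
def n205285 : Q := act 3 n125698
theorem D205285 : act 3 n125698 = n205285 := rfl
theorem F435770 : act 2 n205285 = n174667 := d0_1 D205285 (iv3 F413781) F413780 F395147 F395151
theorem F435771 : act 6 n205285 = n198544 := d7_2 F435447 D205285 (iv3 F435446)
theorem F435772 : act 7 n205285 = n174668 := d8_2 (iv7 F395144) D205285 F418495
theorem F435773 : act 0 n205285 = n173325 := d20_4 (iv4 F202172) F366355 D125698 D205285 (iv3 D173325) F127832 (iv1 D41437) D41438 D88751 (iv1 F364566)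
theorem F435774 : act 1 n205285 = n174669 := d15_1 (iv0 F435773) (iv7 F418493) F418491
theorem F435775 : act 6 n174668 = n158093 := d14_1 F435772 F276094 (iv6 F383186) (iv7 F408293) (iv6 F435771)
def n205286 : Q := act 5 n125698
theorem D205286 : act 5 n125698 = n205286 := rfl
theorem F435776 : act 4 n205286 = n144065 := d9_1 D205286 F226775 F103357 F82307 D112837 D200208 (iv4 F415516) (iv5 F425669) (iv4 D202807) (iv5 D116986) F85027 F41238 (iv4 F45252) D58858 D125698
theorem F435777 : act 6 n205286 = n190030 := d12_2 F435447 D205286 (iv5 D190030) D190031 (iv5 F435449)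
theorem F435778 : act 7 n205286 = n144064 := d13_2 (iv7 F395144) D205286 F395145
theorem F435779 : act 0 n205286 = n200224 := d17_2 F369671 D205286 F415600 F394810 (iv5 D112840) (iv0 F93053) D125670 (iv0 F392632) F392630
theorem F435780 : act 1 n205286 = n187257 := d17_6 F418163 (iv5 D125695) (iv1 D58857) D58858 D125698 D205286 F369648 F395249 (iv4 F418160)
def n205287 : Q := act 5 n125703
theorem D205287 : act 5 n125703 = n205287 := rfl
theorem F435781 : act 2 n205287 = n195031 := d2_1 D205287 (iv5 D195031) (iv2 F395473)
theorem F435782 : act 3 n205287 = n195698 := d6_1 D205287 (iv5 D195698) (iv3 F202187)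
theorem F435783 : act 7 n205287 = n195027 := d13_2 F395471 D205287 (iv5 D195027)
theorem F435784 : act 0 n205287 = n205208 := d17_2 D125703 D205287 (iv5 D205208) F202047 (iv5 F100457) D127594 (iv5 F347760) (iv0 D109512) (iv4 F93079)
theorem F435785 : act 1 n205287 = n125728 := d17_6 (iv1 D190595) (iv5 D96228) D96226 D190592 F380248 D205287 F202222 D199836 (iv4 F413742)
theorem F435786 : act 6 n195099 = n205287 := d21_9 (iv5 D205208) (iv1 F413740) (iv5 F413745) (iv6 D125535) F92902 D105178 F161095 D105263 D195099 F435784
def n205288 : Q := act 6 n125703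
theorem D205288 : act 6 n125703 = n205288 := rfl
theorem F435787 : act 2 n205288 = n190663 := d3_1 D205288 F416708 (iv2 F395473)
theorem F435788 : act 3 n205288 = n195699 := d7_1 D205288 (iv6 D195699) (iv3 F202187)
theorem F435789 : act 5 n205288 = n131986 := d12_1 D205288 F395780 D195099 F435786 (iv5 D205287)
theorem F435790 : act 0 n205288 = n200144 := d21_4 (iv5 F202222) (iv1 F435785) (iv5 D205287) D205288 F415225 (iv5 D113242) F92906 D125537 (iv6 F413743) (iv1 D199836)
theorem F435791 : act 1 n205288 = n125786 := d15_1 (iv0 F435790) F364821 (iv2 F415223)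
def n205289 : Q := act 3 n125704
theorem D205289 : act 3 n125704 = n205289 := rfl
theorem F435792 : act 2 n205289 = n195688 := d0_1 D205289 (iv3 D195688) F395468 (iv3 D195025) (iv2 F395474)
theorem F435793 : act 6 n205289 = n166607 := d7_2 (iv6 F425866) D205289 F425865
theorem F435794 : act 7 n205289 = n190665 := d8_2 (iv7 F395475) D205289 F416703
theorem F435795 : act 1 n126035 = n205289 := d15_1 (iv0 F416715) F435794 (iv2 F416711)
theorem F435796 : act 1 n205289 = n125762 := d15_1 F435795 (iv7 F435212) F435210
def n205290 : Q := act 5 n125704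
theorem D205290 : act 5 n125704 = n205290 := rfl
theorem F435797 : act 2 n205290 = n195027 := d2_1 D205290 (iv5 D195027) (iv2 F395474)
theorem F435798 : act 6 n205290 = n205202 := d12_2 (iv6 F425866) D205290 (iv5 D205202) F348393 (iv5 F425863)
theorem F435799 : act 7 n205290 = n195031 := d13_2 (iv7 F395475) D205290 (iv5 D195031)
theorem F435800 : act 0 n205290 = n125728 := d17_2 (iv1 F202193) D205290 F202222 F173582 (iv5 F316661) F316659 F347764 (iv0 F169470) (iv4 F161091)
theorem F435801 : act 0 n205208 = n205290 := d21_1 D205208 (iv5 D205290) F425866 (iv1 D202850) F346880 (iv5 F399998) F400000 F376767 F413733 (iv1 F413730)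
def n205291 : Q := act 5 n125712
theorem D205291 : act 5 n125712 = n205291 := rfl
theorem F435802 : act 2 n205291 = n128583 := d2_1 D205291 (iv5 F207157) (iv2 F343548)
theorem F435803 : act 3 n205291 = n128688 := d6_1 D205291 F208789 F343549
theorem F435804 : act 4 n205291 = n126258 := d9_1 D205291 (iv5 F349603) F257695 (iv5 F293296) (iv4 F159227) D194569 F393711 (iv5 D128675) (iv4 F96402) D131799 (iv4 F295478) F295479 F82341 D110936 (iv4 F343551)
theorem F435805 : act 6 n205291 = n126257 := d12_2 D125712 D205291 F360436 (iv6 F360432) F355946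
theorem F435806 : act 7 n205291 = n128674 := d13_2 F343550 D205291 (iv5 F348757)
theorem F435807 : act 1 n205291 = n128672 := d17_6 (iv1 F410613) F410615 (iv1 D110934) D110936 (iv4 F343551) D205291 (iv5 F349607) (iv0 D129061) (iv4 F207274)
theorem F435808 : act 1 n128673 = n205291 := d15_1 D128673 F435806 (iv2 D128674)
def n205292 : Q := act 6 n125720
theorem D205292 : act 6 n125720 = n205292 := rfl
theorem F435809 : act 2 n205292 = n205223 := d3_1 D205292 (iv6 D205223) F360422
theorem F435810 : act 3 n205292 = n195749 := d7_1 D205292 F406139 F406135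
theorem F435811 : act 4 n205292 = n198083 := d10_1 D205292 (iv6 D198083) (iv4 F360418)
theorem F435812 : act 7 n205292 = n125868 := d14_2 F360421 D205292 (iv6 D125868) (iv7 F174933) F360400
theorem F435813 : act 5 n205292 = n195748 := d21_6 (iv5 D108697) D108694 (iv5 F360431) (iv6 D125723) D125720 D205292 F398041 (iv5 F416852) (iv6 F416853) (iv1 D197834)
theorem F435814 : act 1 n125808 = n205292 := d17_6 (iv1 F283862) (iv5 F375942) (iv1 F375944) D189184 (iv4 F398854) F398855 F435813 (iv0 F398042) (iv4 D182519)
theorem F435815 : act 1 n205223 = n195957 := d15_0 (iv0 F398851) (iv7 F435812) F435809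
def n205293 : Q := act 0 n125722
theorem D205293 : act 0 n125722 = n205293 := rfl
theorem F435816 : act 5 n205293 = n126041 := d17_1 D205293 (iv1 F202745) D198097 F406787 (iv5 D125621) F201903 F360423 (iv0 D125720) D125722
theorem F435817 : act 2 n126042 = n205293 := d15_3 (iv0 D205293) (iv0 F407486) F407485
theorem F435818 : act 3 n205293 = n200538 := d0_2 (iv3 F202746) F435817 F416926 (iv3 F202719) F202718
theorem F435819 : act 6 n205293 = n125807 := d3_2 (iv6 F416913) F435817 F416911
theorem F435820 : act 7 n205293 = n200542 := d4_2 F407485 F435817 F416932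
def n205294 : Q := act 3 n125724
theorem D205294 : act 3 n125724 = n205294 := rfl
theorem F435821 : act 2 n205294 = n177014 := d0_1 D205294 F365979 F202985 (iv3 F417541) F417540
theorem F435822 : act 4 n205294 = n196853 := d5_2 (iv4 F433414) D205294 F402043 D196856 F433413
theorem F435823 : act 5 n205294 = n163035 := d6_2 F417501 D205294 (iv3 F417496)
theorem F435824 : act 7 n205294 = n177013 := d8_2 (iv7 F417502) D205294 (iv3 F417490)
theorem F435825 : act 0 n126043 = n205294 := d20_4 (iv4 D38986) F324009 (iv4 F93244) (iv3 F202747) (iv3 D205294) F433414 (iv1 D204730) (iv4 F276772) (iv3 D177389) (iv1 D84515)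
theorem F435826 : act 1 n177015 = n205294 := d15_0 (iv0 F435825) F325211 D177015
theorem F435827 : act 6 n205294 = n166591 := d21_3 (iv5 F406812) (iv1 F365326) (iv5 F435823) (iv1 F327275) (iv6 D113497) D113496 (iv1 F220846) F220845 D199536 F412570
def n205295 : Q := act 6 n125724
theorem D205295 : act 6 n125724 = n205295 := rfl
theorem F435828 : act 2 n205295 = n195072 := d3_1 D205295 (iv6 F418239) F417540
theorem F435829 : act 3 n205295 = n166591 := d7_1 D205295 (iv6 F435827) (iv3 D205294)
theorem F435830 : act 4 n205295 = n170858 := d10_1 D205295 F433417 (iv4 F433414)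
theorem F435831 : act 0 n205295 = n195068 := d21_4 (iv5 F406044) (iv1 F417500) F417501 D205295 (iv6 D195068) D195067 F395641 (iv5 F203754) D127357 F412412
theorem F435832 : act 0 n177413 = n205295 := d21_4 (iv5 D125860) (iv1 F326455) D84525 D177413 (iv6 D205295) (iv5 F417501) (iv1 F417499) F362140 (iv6 D177346) (iv1 F326459)
theorem F435833 : act 7 n195071 = n205295 := d11_0 F435830 F430664 F430660
def n205296 : Q := act 7 n125726
theorem D205296 : act 7 n125726 = n205296 := rfl
theorem F435834 : act 3 n205296 = n125743 := d8_1 D205296 (iv7 D125743) (iv3 F202220)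
theorem F435835 : act 5 n205296 = n125727 := d13_1 D205296 (iv7 D125727) D125726
theorem F435836 : act 6 n205296 = n195050 := d14_1 D205296 F435659 (iv6 D205262) F406721 (iv6 F360477)
theorem F435837 : act 0 n205206 = n205296 := d17_0 F435835 F417491 (iv5 D200687) F176543 D199621 (iv0 F417539) (iv5 F417537) (iv0 F417538) (iv4 F435441)
def n205297 : Q := act 2 n125728
theorem D205297 : act 2 n125728 = n205297 := rfl
theorem F435838 : act 3 n205297 = n200539 := d0_2 D125728 D205297 (iv2 F416930) F202058 F93092
theorem F435839 : act 5 n205297 = n191070 := d2_2 (iv5 F202222) D205297 F382091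
theorem F435840 : act 7 n205297 = n205208 := d4_2 (iv7 F202223) D205297 F435452
theorem F435841 : act 1 n205297 = n195027 := d15_0 (iv0 F413739) (iv7 F202223) D205297
theorem F435842 : act 1 n195031 = n205297 := d15_0 F435841 (iv7 F435783) F435781
def n205298 : Q := act 4 n125728
theorem D205298 : act 4 n125728 = n205298 := rfl
theorem F435843 : act 3 n205298 = n131895 := d5_1 D205298 (iv4 F366349) F202048 (iv4 F93089) D125728
theorem F435844 : act 5 n205298 = n131888 := d9_2 (iv5 F202222) D205298 F333544 F163785 F319199 F100457 (iv4 F202047) D205208 F435453 (iv5 D196041) F163846 (iv5 F114326) (iv4 F149962) F316661 (iv4 F173582)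
theorem F435845 : act 7 n205298 = n131895 := d11_2 (iv7 F202223) D205298 (iv4 F366349)
theorem F435846 : act 6 n131891 = n205298 := d12_0 F435844 (iv6 D131888) (iv5 D61886) D61887 D131891
def n205299 : Q := act 6 n125728
theorem D205299 : act 6 n125728 = n205299 := rfl
theorem F435847 : act 3 n205299 = n125729 := d7_1 D205299 (iv6 D125729) D125728
theorem F435848 : act 4 n205299 = n131891 := d10_1 D205299 F435846 (iv4 D205298)
theorem F435849 : act 5 n205299 = n195713 := d12_1 D205299 (iv6 F419214) (iv5 D200675) F176535 (iv5 F202222)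
def n205300 : Q := act 0 n125729
theorem D205300 : act 0 n125729 = n205300 := rfl
theorem F435850 : act 4 n205300 = n198892 := d18_3 F435417 (iv4 F202225) D205300 (iv5 F418261) (iv4 D200878) (iv0 F418252) F415204 F405915 D205202
theorem F435851 : act 5 n205300 = n196126 := d21_8 (iv5 F152003) D191640 F417422 F417421 (iv1 F417419) D200677 F417439 D205300 F399517 (iv1 D191615)
theorem F435852 : act 1 n205217 = n205300 := d15_0 (iv0 D205300) (iv7 F435322) (iv2 F435474)
theorem F435853 : act 3 n125841 = n205300 := d20_9 F435475 (iv1 F435416) (iv4 F435418) F435420 F419320 F418933 F399162 (iv1 F349585) (iv4 F360466) (iv1 F435852)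
theorem F435854 : act 7 n205300 = n196125 := d8_2 (iv7 F360461) F435853 F399515
theorem F435855 : act 0 n125774 = n200844 := d20_10 (iv4 D200844) F365770 (iv4 F435848) F435847 D205300 (iv3 F435853) F360466 F349584 F93137 (iv3 F202288)
theorem F435856 : act 2 n205300 = n205215 := d15_3 (iv0 D205215) (iv0 F435438) (iv7 F435854)
def n205301 : Q := act 1 n125729
theorem D205301 : act 1 n125729 = n205301 := rfl
theorem F435857 : act 1 n205301 = n205217 := d15_1 D205301 (iv7 D205217) (iv2 F202224)
theorem F435858 : act 7 n205301 = n205215 := d15_2 (iv0 D205300) D205301 (iv2 F435856)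
theorem F435859 : act 4 n205301 = n198893 := d18_7 (iv1 F395472) (iv4 F395684) (iv1 D195078) (iv4 F342903) F361379 (iv4 F202225) D205301 F409771 (iv5 D195698)
theorem F435860 : act 5 n196122 = n205301 := d21_6 D128932 (iv1 F352199) F204685 (iv6 F363269) (iv1 F164361) D196122 (iv1 D205301) (iv5 F417439) (iv6 D200677) F352200
theorem F435861 : act 2 n205301 = n196125 := d2_1 F435860 (iv5 D196125) (iv2 F399511)
def n205302 : Q := act 2 n125730
theorem D205302 : act 2 n125730 = n205302 := rfl
theorem F435862 : act 3 n205302 = n205208 := d0_2 D125730 D205302 F435452 F202048 F93098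
theorem F435863 : act 5 n205302 = n147555 := d2_2 (iv5 F202226) D205302 F231341
theorem F435864 : act 7 n205302 = n200539 := d4_2 (iv7 F202227) D205302 (iv2 F416930)
theorem F435865 : act 1 n205302 = n126085 := d15_0 (iv0 F362996) (iv7 F202227) D205302
theorem F435866 : act 1 n200538 = n205302 := d15_0 F435865 F202789 (iv2 F416926)
def n205303 : Q := act 4 n125730
theorem D205303 : act 4 n125730 = n205303 := rfl
theorem F435867 : act 3 n205303 = n205213 := d5_1 D205303 (iv4 D205213) F202058 (iv4 F93097) D125730
theorem F435868 : act 7 n205303 = n205213 := d11_2 (iv7 F202227) D205303 (iv4 D205213)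
theorem F435869 : act 5 n205303 = n194208 := d16_1 D205303 F392379 (iv5 F376816) F313051 F171210 (iv4 F202057) (iv5 F416929) (iv7 F435864) (iv2 D205302)
def n205304 : Q := act 3 n125733
theorem D205304 : act 3 n125733 = n205304 := rfl
theorem F435870 : act 5 n205304 = n180673 := d6_2 F435318 D205304 (iv3 F435316)
def n205305 : Q := act 6 n125733
theorem D205305 : act 6 n125733 = n205305 := rfl
theorem F435871 : act 4 n205305 = n200843 := d10_1 D205305 (iv6 F418123) F399171
theorem F435872 : act 5 n195712 = n205305 := d21_2 F201979 D195712 (iv6 D205305) (iv1 D125733) (iv6 D58872) (iv5 D27991) D27989 (iv5 F92995) D125632 F361388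
def n205306 : Q := act 0 n125734
theorem D205306 : act 0 n125734 = n205306 := rfl
theorem F435873 : act 4 n205306 = n189838 := d18_1 D205306 F377936 F201879 F349557 F349554 F349559 (iv4 F360468) (iv0 D125732) D125734
theorem F435874 : act 3 n205306 = n197825 := d20_5 F287867 F405929 (iv4 D197828) F360476 D205306 (iv4 F415204) F418252 D200878 F418257 F405516
theorem F435875 : act 5 n205306 = n205184 := d21_2 D125734 D205306 F435605 (iv1 D125566) D125568 F201979 D195712 F435872 (iv6 D205305) (iv1 D125733)
theorem F435876 : act 1 n205257 = n205306 := d15_0 (iv0 D205306) (iv7 F435647) F435645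
theorem F435877 : act 7 n205200 = n205306 := d13_0 F435875 F435606 F435604
theorem F435878 : act 6 n189837 = n205306 := d10_0 F435873 (iv6 D189838) D189837
def n205307 : Q := act 1 n125734
theorem D205307 : act 1 n125734 = n205307 := rfl
theorem F435879 : act 1 n205307 = n205257 := d15_1 D205307 F435638 F435239
theorem F435880 : act 4 n205307 = n195542 := d17_9 (iv1 F408097) F408094 (iv1 F211361) (iv5 F395697) (iv4 F435266) F435267 (iv0 D125732) D125734 D205307
theorem F435881 : act 3 n198916 = n205307 := d20_9 (iv4 F360470) (iv1 D125659) F93036 (iv3 D27982) (iv1 F45220) D58812 F92985 D110618 D198916 (iv1 D205307)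
theorem F435882 : act 2 n205307 = n205200 := d0_1 F435881 (iv3 D205200) (iv2 F405920) (iv3 F414884) F414882
def n205308 : Q := act 4 n125737
theorem D205308 : act 4 n125737 = n205308 := rfl
theorem F435883 : act 0 n205308 = n162978 := d17_0 (iv5 F388044) (iv1 F415162) F415159 (iv4 D196644) (iv5 D107166) (iv0 F104337) D145440 F228472 D205308
def n205309 : Q := act 6 n125737
theorem D205309 : act 6 n125737 = n205309 := rfl
theorem F435884 : act 3 n205309 = n190781 := d7_1 D205309 F397859 (iv3 F346881)
theorem F435885 : act 5 n205309 = n196232 := d12_1 D205309 (iv6 F399994) (iv5 D113414) F165566 D125737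
theorem F435886 : act 7 n205309 = n195697 := d14_2 F414482 D205309 (iv6 D195697) (iv7 F397849) F414485
theorem F435887 : act 4 n160676 = n205309 := d11_3 F435886 (iv4 F397885) (iv7 F414345)
theorem F435888 : act 6 n205308 = n160676 := d10_0 F435887 (iv6 D205309) D205308
def n205310 : Q := act 4 n125739
theorem D205310 : act 4 n125739 = n205310 := rfl
theorem F435889 : act 3 n205310 = n159281 := d5_1 D205310 (iv4 D159281) (iv3 F381050) (iv4 F416670) F416669
theorem F435890 : act 6 n205310 = n189828 := d10_2 (iv6 F416663) D205310 (iv4 F416659)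
theorem F435891 : act 1 n205310 = n162978 := d18_6 F100265 F93138 F82159 (iv4 F93099) D125739 D205310 (iv4 F282126) F332906 (iv5 D126344)
def n205311 : Q := act 3 n125741
theorem D205311 : act 3 n125741 = n205311 := rfl
theorem F435892 : act 2 n205311 = n177450 := d0_1 D205311 (iv3 F417630) F417629 (iv3 F415198) F415197
theorem F435893 : act 5 n205311 = n172506 := d6_2 (iv5 F202237) D205311 F354769
theorem F435894 : act 7 n205311 = n177451 := d8_2 (iv7 F202236) D205311 (iv3 F357905)
theorem F435895 : act 0 n205311 = n177454 := d19_4 F332884 D200131 F415153 D205311 F276871 F129713 F60073 (iv1 F41763) D35731 (iv4 F311429) F320423 (iv1 F325041) D67353 D143796 F318431 (iv1 F154870) (iv5 F154930) F356174 F332888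
theorem F435896 : act 1 n205311 = n177449 := d15_1 (iv0 F435895) F342129 F342127
def n205312 : Q := act 6 n125741
theorem D205312 : act 6 n125741 = n205312 := rfl
theorem F435897 : act 5 n205312 = n205282 := d12_1 D205312 (iv6 D205282) (iv5 D125693) (iv6 F165161) (iv5 F202237)
theorem F435898 : act 0 n194945 = n205312 := d21_4 F377919 (iv1 F395127) (iv5 D194944) D194945 (iv6 D205312) F202237 (iv1 F165893) D197002 F402638 (iv1 F377918)
def n205313 : Q := act 3 n125742
theorem D205313 : act 3 n125742 = n205313 := rfl
theorem F435899 : act 6 n205313 = n205258 := d7_2 (iv6 F360475) D205313 (iv3 D205258)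
theorem F435900 : act 0 n205313 = n203837 := d20_4 F415153 (iv1 D125741) D125742 D205313 (iv3 D203837) (iv4 D121049) (iv1 F88337) D78189 D162711 (iv1 F415155)
theorem F435901 : act 0 n202846 = n205313 := d21_4 (iv5 D198620) F169698 D136263 (iv6 F425843) F435899 F435639 F425815 F425813 F406752 (iv1 F408572)
def n205314 : Q := act 7 n125742
theorem D205314 : act 7 n125742 = n205314 := rfl
theorem F435902 : act 2 n205314 = n194812 := d4_1 D205314 (iv7 F435255) F435252
theorem F435903 : act 4 n205314 = n125743 := d11_1 D205314 (iv7 D125743) D125742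
theorem F435904 : act 5 n205314 = n145434 := d13_1 D205314 (iv7 F402584) F402585
theorem F435905 : act 6 n205314 = n194811 := d14_1 D205314 F394559 (iv6 F414020) F414017 (iv6 F360475)
theorem F435906 : act 1 n145416 = n205314 := d15_1 F435258 (iv7 D205314) (iv2 F435252)
theorem F435907 : act 1 n205314 = n145451 := d15_1 F435906 F402543 F402539
def n205315 : Q := act 3 n125746
theorem D205315 : act 3 n125746 = n205315 := rfl
theorem F435908 : act 5 n205315 = n193235 := d6_2 F401253 D205315 F401254
theorem F435909 : act 7 n205315 = n196867 := d8_2 (iv7 F202240) D205315 F402089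
theorem F435910 : act 0 n205315 = n196773 := d19_4 D27993 D58880 D125746 D205315 F401749 (iv4 F406420) F406419 (iv1 F168841) D136024 F338260 F172008 (iv1 F80834) D111119 D199260 F411356 (iv1 F197114) (iv5 F343733) F81044 F45258
def n205316 : Q := act 1 n125755
theorem D205316 : act 1 n125755 = n205316 := rfl
theorem F435911 : act 1 n205316 = n172096 := d15_1 D205316 (iv7 F377867) F377865
theorem F435912 : act 7 n205316 = n176825 := d15_2 (iv0 F362514) D205316 F362557
theorem F435913 : act 5 n205316 = n200293 := d18_9 (iv1 F415864) (iv4 F416099) (iv1 F416101) F376508 F376507 F151334 F328127 (iv4 F202256) D205316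
theorem F435914 : act 2 n194970 = n205316 := d2_3 F435913 F415860 (iv5 F395236)
theorem F435915 : act 3 n158878 = n205316 := d6_3 F435913 F415861 F362553
def n205317 : Q := act 4 n125757
theorem D205317 : act 4 n125757 = n205317 := rfl
theorem F435916 : act 3 n205317 = n197026 := d5_1 D205317 F402735 F165923 (iv4 F210015) F362512
theorem F435917 : act 6 n205317 = n197024 := d10_2 (iv6 F362511) D205317 F402727
theorem F435918 : act 5 n205317 = n201475 := d16_1 D205317 F420649 (iv5 F327581) F220677 (iv5 F202250) (iv4 F219334) (iv5 F413876) F413875 F219332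
theorem F435919 : act 0 n205317 = n200029 := d17_0 F428321 (iv1 D203441) (iv5 F415782) F415781 (iv5 D199832) (iv0 F173537) D111870 (iv0 F202258) D205317
theorem F435920 : act 1 n205317 = n200032 := d18_6 (iv1 F174531) (iv4 F174543) (iv1 D58890) (iv4 F93111) D125757 D205317 (iv4 D200032) F377411 F377408
def n205318 : Q := act 1 n125768
theorem D205318 : act 1 n125768 = n205318 := rfl
theorem F435921 : act 1 n205318 = n195065 := d15_1 D205318 (iv7 F435217) F435215
theorem F435922 : act 7 n205318 = n200775 := d15_2 (iv0 F333469) D205318 F418789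
theorem F435923 : act 5 n205318 = n201142 := d17_7 (iv1 D115121) D115123 F418295 (iv5 D200889) (iv4 F402689) F349556 D205318 F419241 F207170
theorem F435924 : act 4 n205318 = n194937 := d18_7 (iv1 F397240) (iv4 F397243) (iv1 D137501) (iv4 F206728) (iv5 F408645) F408644 D205318 (iv0 F395090) D194991
theorem F435925 : act 2 n125946 = n205318 := d1_3 F435924 F395089 F392613
theorem F435926 : act 6 n194936 = n205318 := d10_0 F435924 (iv6 D194937) D194936
theorem F435927 : act 3 n200751 = n205318 := d20_5 F246738 (iv1 D156798) D156799 F348762 D200751 F435924 F397250 F397247 (iv3 F406701) (iv1 F406704)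
def n205319 : Q := act 6 n125769
theorem D205319 : act 6 n125769 = n205319 := rfl
theorem F435928 : act 2 n205319 = n125774 := d3_1 D205319 (iv6 D125774) (iv2 F202286)
def n205320 : Q := act 6 n125773
theorem D205320 : act 6 n125773 = n205320 := rfl
theorem F435929 : act 4 n205320 = n125774 := d10_1 D205320 (iv6 D125774) D125773
theorem F435930 : act 0 n205320 = n126296 := d21_10 (iv5 D126296) (iv1 F163237) (iv5 F201985) (iv6 F202406) (iv1 F202415) (iv6 F399179) (iv5 D196046) F163855 F349561 D205320
theorem F435931 : act 0 n126301 = n205320 := d21_4 F417057 (iv1 F417059) (iv5 F435426) F435427 (iv6 D205320) (iv5 F349561) (iv1 F163721) D128692 F435725 (iv1 D205276)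
def n205321 : Q := act 1 n125774
theorem D205321 : act 1 n125774 = n205321 := rfl
def n205322 : Q := act 5 n125774
theorem D205322 : act 5 n125774 = n205322 := rfl
theorem F435932 : act 3 n205322 = n125781 := d6_1 D205322 (iv5 D125781) (iv3 F202288)
theorem F435933 : act 6 n205322 = n125777 := d12_2 D125774 D205322 (iv5 D125777) (iv6 D58897) D58896
def n205323 : Q := act 7 n125774
theorem D205323 : act 7 n125774 = n205323 := rfl
theorem F435934 : act 3 n205323 = n125782 := d8_1 D205323 (iv7 D125782) (iv3 F202288)
def n205324 : Q := act 3 n125780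
theorem D205324 : act 3 n125780 = n205324 := rfl
theorem F435935 : act 5 n205324 = n131892 := d6_2 (iv5 F342879) D205324 F211322
theorem F435936 : act 7 n205324 = n131891 := d8_2 (iv7 F342880) D205324 F211321
theorem F435937 : act 6 n125780 = n205324 := d14_5 F435936 F435846 F435845 F211323 (iv7 F342880)
theorem F435938 : act 2 n205324 = n200843 := d15_3 F418122 F395782 (iv7 F435936)
theorem F435939 : act 0 n205324 = n195099 := d21_4 (iv5 D195960) F163723 (iv5 F342879) F435937 F435786 (iv5 D205287) (iv1 F202188) (iv5 F366354) D205281 (iv1 F435750)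
theorem F435940 : act 0 n195103 = n205324 := d21_4 F361381 (iv1 F405914) (iv5 F435303) F435304 (iv6 F435937) F342879 (iv1 F96477) (iv5 F362927) (iv6 D125916) D125913
def n205325 : Q := act 1 n125786
theorem D205325 : act 1 n125786 = n205325 := rfl
theorem F435941 : act 1 n205325 = n200144 := d15_1 D205325 F415226 F358383
theorem F435942 : act 7 n205325 = n190663 := d15_2 F435791 D205325 (iv2 F435787)
theorem F435943 : act 5 n205325 = n131987 := d18_9 (iv1 D131987) (iv4 F99320) (iv1 F364717) (iv4 F377839) F377837 F377832 (iv0 F358145) (iv4 F202299) D205325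
theorem F435944 : act 3 n165685 = n205325 := d6_3 F435943 (iv3 F433987) F433988
def n205326 : Q := act 5 n125796
theorem D205326 : act 5 n125796 = n205326 := rfl
theorem F435945 : act 6 n205326 = n154293 := d12_2 (iv6 F387397) D205326 F332024 (iv6 F343508) D192661
theorem F435946 : act 4 n205326 = n154294 := d17_4 D189179 (iv5 F416641) F416644 D205326 (iv5 F389044) F389047 (iv5 D189182) (iv0 D93353) (iv4 F143975)
def n205327 : Q := act 4 n125797
theorem D205327 : act 4 n125797 = n205327 := rfl
def n205328 : Q := act 6 n125797
theorem D205328 : act 6 n125797 = n205328 := rfl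
def n205329 : Q := act 5 n125800
theorem D205329 : act 5 n125800 = n205329 := rfl
theorem F435947 : act 3 n205329 = n125802 := d6_1 D205329 (iv5 D125802) D125800
def n205330 : Q := act 5 n125801
theorem D205330 : act 5 n125801 = n205330 := rfl
theorem F435948 : act 3 n205330 = n163191 := d6_1 D205330 (iv5 F348489) F202671
def n205331 : Q := act 4 n125802
theorem D205331 : act 4 n125802 = n205331 := rfl
def n205332 : Q := act 6 n125802
theorem D205332 : act 6 n125802 = n205332 := rfl
theorem F435949 : act 5 n205332 = n195746 := d12_1 D205332 F398035 (iv5 D126197) (iv6 F359805) D125802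
theorem F435950 : act 0 n195726 = n205332 := d21_4 (iv5 D59057) D59054 D126036 (iv6 F397962) (iv6 D205332) (iv5 D125802) (iv1 D58913) D58915 D125809 F349540
theorem F435951 : act 1 n125922 = n205332 := d17_6 F163244 (iv5 D106230) (iv1 F77486) D49096 D106237 (iv5 F398105) F435949 (iv0 D195746) (iv4 D106244)
def n205333 : Q := act 4 n125804
theorem D205333 : act 4 n125804 = n205333 := rfl
theorem F435952 : act 2 n205333 = n125808 := d1_1 D205333 (iv4 D125808) (iv2 F202316)
theorem F435953 : act 3 n205333 = n205215 := d5_1 D205333 F435469 (iv3 F435429) (iv4 F406712) F406710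
theorem F435954 : act 0 n205333 = n125868 := d18_2 (iv1 F416909) D205333 (iv4 F435683) (iv5 D205268) F202157 F324600 F341859 F202005 (iv5 F416910)
theorem F435955 : act 1 n205333 = n205223 := d15_0 F435815 (iv7 F398852) (iv2 F435952)
def n205334 : Q := act 3 n125806
theorem D205334 : act 3 n125806 = n205334 := rfl
theorem F435956 : act 4 n205334 = n126042 := d5_2 (iv4 F416828) D205334 F202746 D126046 (iv3 F359714)
theorem F435957 : act 5 n205334 = n200514 := d6_2 (iv5 F416829) D205334 (iv3 D200514)
theorem F435958 : act 7 n205334 = n126047 := d8_2 (iv7 F416912) D205334 (iv3 F416908)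
theorem F435959 : act 1 n125865 = n205334 := d18_8 F416817 (iv4 F409183) (iv1 F409186) F201904 (iv5 F360426) F360425 F406717 F406715 F435957
def n205335 : Q := act 6 n125806
theorem D205335 : act 6 n125806 = n205335 := rfl
theorem F435960 : act 2 n205335 = n126087 := d3_1 D205335 (iv6 F416919) (iv2 F416917)
theorem F435961 : act 4 n205335 = n126048 := d10_1 D205335 F366130 (iv4 F416828)
theorem F435962 : act 7 n205335 = n126046 := d14_2 (iv7 F416912) D205335 (iv6 F407484) F407485 F416913
theorem F435963 : act 5 n205335 = n126271 := d21_6 (iv5 D126424) F202161 (iv5 F349542) (iv6 D125809) D125806 D205335 (iv1 D126271) (iv5 F202373) (iv6 F409061) F409064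
theorem F435964 : act 0 n198517 = n205335 := d17_0 F435963 (iv1 D126271) (iv5 F202373) (iv4 D125875) (iv5 D58943) (iv0 F170418) (iv5 F202359) (iv0 F202360) D198517
def n205336 : Q := act 3 n125807
theorem D205336 : act 3 n125807 = n205336 := rfl
theorem F435965 : act 5 n205336 = n200518 := d6_2 F358966 D205336 (iv3 D200518)
theorem F435966 : act 6 n205336 = n200538 := d7_2 F435819 D205336 (iv3 F435818)
theorem F435967 : act 2 n200541 = n205336 := d3_3 F435966 F416926 D200541
theorem F435968 : act 0 n200551 = n205250 := d21_4 (iv5 D125607) D125604 F356086 D200551 F435608 F435332 (iv1 F416833) (iv5 F435965) F435966 F416928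
def n205337 : Q := act 4 n125807
theorem D205337 : act 4 n125807 = n205337 := rfl
theorem F435969 : act 7 n205337 = n126088 := d11_2 F416915 D205337 F416918
theorem F435970 : act 5 n205337 = n200819 := d16_5 (iv4 F143975) D189181 F375974 F358966 D205337 F418046 (iv5 F375942) (iv7 D189172) F143929
theorem F435971 : act 3 n200820 = n205337 := d20_5 (iv4 F201937) (iv1 F399168) (iv4 D196044) (iv3 F399153) (iv1 F418052) (iv4 D205337) (iv1 D125807) D125808 F202318 F360480
def n205338 : Q := act 0 n125808
theorem D205338 : act 0 n125808 = n205338 := rfl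
theorem F435972 : act 5 n205338 = n183508 := d21_8 (iv5 D75174) (iv1 F70728) (iv5 F125364) D169937 F399486 F399485 F398855 D205338 (iv6 D183508) (iv1 F294525)
theorem F435973 : act 2 n125868 = n205338 := d15_3 (iv0 D205338) F435814 F435812
theorem F435974 : act 6 n205338 = n125857 := d3_2 D125868 F435973 F202358
theorem F435975 : act 7 n205338 = n205223 := d4_2 F435812 F435973 (iv2 F435809)
theorem F435976 : act 3 n195715 = n205338 := d8_3 F435975 F435498 (iv7 F397923)
def n205339 : Q := act 6 n125808
theorem D205339 : act 6 n125808 = n205339 := rfl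
theorem F435977 : act 3 n205339 = n205320 := d7_1 D205339 (iv6 D205320) (iv3 F202318)
theorem F435978 : act 4 n205339 = n125809 := d10_1 D205339 (iv6 D125809) D125808
theorem F435979 : act 1 n125835 = n205339 := d18_6 (iv1 F93243) (iv4 F169775) (iv1 D51872) D51874 D112443 (iv4 F360398) F435978 F349541 (iv5 D59077)
theorem E103898 : n205321 = n200847 := ((c20_1 D200847 (iv1 D205321) (iv4 F435929) (iv3 F435977) (iv1 F435979) F202336 F93141 D125732 F360468 (iv3 F211321) (iv1 F395782))).symm
theorem F435980 : act 0 n200847 = n125774 := (sb E103898 (iv1 D205321))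
def n205340 : Q := act 6 n125811
theorem D205340 : act 6 n125811 = n205340 := rfl
theorem F435981 : act 3 n205340 = n177616 := d7_1 D205340 (iv6 D177616) (iv3 F341727)
theorem F435982 : act 4 n205340 = n180231 := d10_1 D205340 (iv6 F431574) F431573
theorem F435983 : act 5 n205340 = n200798 := d12_1 D205340 (iv6 D200798) (iv5 D113478) (iv6 F325588) (iv5 F341728)
theorem F435984 : act 7 n205340 = n203884 := d14_2 (iv7 F341729) D205340 (iv6 D203884) (iv7 F328093) (iv6 F358956)
theorem F435985 : act 0 n205340 = n163673 := d21_10 F399347 (iv1 F417354) F395398 F365984 (iv1 F430029) F430027 (iv5 D121068) F297535 (iv5 F341728) D205340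
theorem F435986 : act 0 n200636 = n200798 := d21_1 D200636 (iv5 F435983) (iv6 D205340) (iv1 D125811) (iv6 D58916) D58915 D125806 F416829 D200517 (iv1 F416827)
theorem F435987 : act 0 n163668 = n205340 := d17_0 F435983 F417947 F417358 F348163 (iv5 D133008) D133007 (iv5 F341918) F258002 D163668
def n205341 : Q := act 0 n125815
theorem D205341 : act 0 n125815 = n205341 := rfl
theorem F435988 : act 4 n205341 = n205175 := d18_3 (iv1 D198893) (iv4 F202325) D205341 F435303 F405912 F176440 D197008 (iv0 F435170) F435167
theorem F435989 : act 2 n200092 = n205341 := d15_3 (iv0 D205341) (iv0 F435424) F435423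
theorem F435990 : act 7 n205341 = n200093 := d4_2 F435423 F435989 (iv2 F435421)
theorem F435991 : act 1 n200095 = n205341 := d15_1 F435425 F435990 (iv2 F435421)
def n205342 : Q := act 7 n125815
theorem D205342 : act 7 n125815 = n205342 := rfl
theorem F435992 : act 2 n205342 = n200095 := d4_1 D205342 (iv7 D200095) (iv2 F202324)
theorem F435993 : act 3 n205342 = n195099 := d8_1 D205342 (iv7 F395770) F366361
theorem F435994 : act 4 n205342 = n198894 := d11_1 D205342 (iv7 D198894) (iv4 F202325)
theorem F435995 : act 5 n205342 = n195098 := d13_1 D205342 (iv7 F395768) (iv5 F366365)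
theorem F435996 : act 6 n205342 = n195698 := d14_1 D205342 F397889 (iv6 D125591) (iv7 F93136) D125815
theorem F435997 : act 1 n200093 = n205342 := d15_1 D200093 (iv7 D205342) F202324
theorem F435998 : act 1 n205342 = n200092 := d15_1 F435997 (iv7 F435423) F435421
def n205343 : Q := act 5 n125824
theorem D205343 : act 5 n125824 = n205343 := rfl
theorem F435999 : act 3 n205343 = n125825 := d6_1 D205343 (iv5 D125825) D125824
theorem F436000 : act 4 n205343 = n131910 := d9_1 D205343 (iv5 D131910) (iv4 D61895) F46982 (iv4 F80757) D111009 D199157 (iv5 F417008) F417007 (iv5 D131907) (iv4 D61893) F77802 (iv4 F162258) (iv5 F349586) (iv4 F219306)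
theorem F436001 : act 0 n205343 = n205249 := d17_2 (iv1 F435321) D205343 F435604 F435403 F408088 F206797 (iv5 F344588) (iv0 F360766) (iv4 F435317)
def n205344 : Q := act 6 n125825
theorem D205344 : act 6 n125825 = n205344 := rfl
theorem F436002 : act 2 n205344 = n200523 := d3_1 D205344 (iv6 F416853) (iv2 F405956)
theorem F436003 : act 4 n205344 = n200520 := d10_1 D205344 F416838 (iv4 F202375)
theorem F436004 : act 0 n205344 = n195772 := d21_4 (iv5 D58925) D58922 D125825 D205344 (iv6 D195772) (iv5 D106251) D106248 D195761 F418937 (iv1 D125834)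
theorem F436005 : act 1 n205344 = n125927 := d15_1 (iv0 F436004) (iv7 F435337) (iv2 F435338)
def n205345 : Q := act 2 n125828
theorem D205345 : act 2 n125828 = n205345 := rfl
theorem F436006 : act 3 n205345 = n199157 := d0_2 D125828 D205345 F410930 F397275 F397276
theorem F436007 : act 4 n205345 = n198694 := d1_2 F407207 D205345 F408905
theorem F436008 : act 5 n205345 = n125910 := d2_2 F416882 D205345 F416884
theorem F436009 : act 7 n205345 = n125849 := d4_2 F406706 D205345 (iv2 F408240)
theorem F436010 : act 1 n205345 = n125850 := d15_0 (iv0 F406707) F406706 D205345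
theorem F436011 : act 1 n125853 = n205345 := d15_0 F436010 (iv7 F408237) F408235
def n205346 : Q := act 6 n125828
theorem D205346 : act 6 n125828 = n205346 := rfl
theorem F436012 : act 3 n205346 = n125830 := d7_1 D205346 (iv6 D125830) D125828
def n205347 : Q := act 4 n125829
theorem D205347 : act 4 n125829 = n205347 := rfl
theorem F436013 : act 3 n205347 = n200529 := d5_1 D205347 (iv4 F435150) F435149 (iv4 F416883) F416885
theorem F436014 : act 7 n205347 = n200524 := d11_2 F405954 D205347 F416856
theorem F436015 : act 0 n205347 = n199729 := d17_0 (iv5 D199729) F387406 D125865 (iv4 F406715) F406718 (iv0 D125666) (iv5 F93157) (iv0 F355982) D205347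
theorem F436016 : act 1 n205347 = n199727 := d18_8 D199725 F413264 (iv1 F204655) (iv4 D125710) (iv5 F355946) F355945 (iv0 F355982) D205347 (iv5 D199727)
def n205348 : Q := act 6 n125829
theorem D205348 : act 6 n125829 = n205348 := rfl
theorem F436017 : act 0 n205348 = n205233 := d21_4 (iv5 D198080) (iv1 F168916) D125829 D205348 (iv6 D205233) F405944 (iv1 D58866) D58868 D125723 (iv1 F406713)
def n205349 : Q := act 0 n125832
theorem D205349 : act 0 n125832 = n205349 := rfl
theorem F436018 : act 4 n205349 = n180778 := d20_0 (iv1 D180778) F132332 (iv3 D75163) (iv1 F56943) D79574 F122203 D79596 D165724 (iv3 F360223) D205349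
theorem F436019 : act 6 n205349 = n181222 := d21_5 (iv5 F406718) (iv1 F406717) (iv5 D125831) D125832 D205349 (iv5 D181222) (iv1 F132773) (iv5 F354276) (iv6 D125669) D125666
theorem F436020 : act 5 n205349 = n197021 := d21_0 F417206 F417205 (iv6 F395582) (iv1 F435658) (iv6 D205262) (iv5 F406718) (iv1 F406717) (iv5 D125831) D125832 D205349
theorem F436021 : act 2 n125836 = n205349 := d15_3 (iv0 D205349) (iv0 F417522) F417520
theorem F436022 : act 7 n205349 = n125837 := d4_2 F417520 F436021 (iv2 F417518)
theorem F436023 : act 3 n189811 = n205349 := d8_3 F436022 (iv3 F365755) F383832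
theorem F436024 : act 1 n125839 = n205349 := d15_1 (iv0 F417521) F436022 (iv2 F417518)
theorem F436025 : act 3 n197784 = n180778 := d20_5 (iv4 F168462) (iv1 F168465) F98658 (iv3 F168595) D197784 (iv4 F436018) (iv1 F436024) (iv4 F405660) F405659 (iv1 F168552)
theorem F436026 : act 7 n199718 = n197784 := d8_0 F436025 (iv7 F386124) (iv3 F413237)
def n205350 : Q := act 5 n125832
theorem D205350 : act 5 n125832 = n205350 := rfl
theorem F436027 : act 2 n205350 = n125838 := d2_1 D205350 (iv5 D125838) (iv2 F202335)
theorem F436028 : act 6 n205350 = n195787 := d12_2 D125832 D205350 F398172 (iv6 F360416) (iv5 D125831)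
theorem F436029 : act 4 n205350 = n195788 := d16_2 F405642 D205350 F398177 (iv4 F295060) (iv5 F134786) (iv4 F286050) (iv5 F405661) (iv7 D197760) (iv2 F405640)
theorem F436030 : act 0 n205350 = n196094 := d17_2 F417522 D205350 F399475 (iv4 F365757) (iv5 F394056) F394027 F387650 F281395 (iv4 F417519)
theorem F436031 : act 0 n196087 = n205350 := d21_10 (iv5 D205350) D205349 F436020 (iv6 D197021) (iv1 F349567) F172213 (iv5 F295474) D191204 F382563 D196087
theorem F436032 : act 7 n205350 = n196092 := d15_2 F417143 (iv0 F436030) F399373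
def n205351 : Q := act 7 n125832
theorem D205351 : act 7 n125832 = n205351 := rfl
theorem F436033 : act 2 n205351 = n125839 := d4_1 D205351 (iv7 D125839) (iv2 F202335)
theorem F436034 : act 3 n205351 = n203832 := d8_1 D205351 F430019 (iv3 F360223)
theorem F436035 : act 5 n205351 = n196092 := d13_1 D205351 (iv7 F436032) (iv5 D205350)
theorem F436036 : act 6 n205351 = n203831 := d14_1 D205351 F430013 F365213 F168913 D125832
theorem F436037 : act 1 n125837 = n205351 := d15_1 D125837 (iv7 D205351) F202335
theorem F436038 : act 1 n205351 = n125836 := d15_1 F436037 (iv7 F417520) F417518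
theorem F436039 : act 0 n128630 = n204883 := d21_4 D128675 (iv1 F343601) F358330 D128630 (iv6 F434010) (iv5 F436035) (iv1 F436037) (iv5 F417202) (iv6 F417201) (iv1 D128673)
def n205352 : Q := act 3 n125834
theorem D205352 : act 3 n125834 = n205352 := rfl
theorem F436040 : act 5 n205352 = n197830 := d6_2 F386117 D205352 (iv3 D197830)
theorem F436041 : act 0 n125851 = n205352 := d17_2 (iv1 D125849) D125851 F436040 F405934 (iv5 D190585) (iv0 F353143) (iv5 F395480) (iv0 F414271) F414272
def n205353 : Q := act 4 n125834
theorem D205353 : act 4 n125834 = n205353 := rfl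
theorem F436042 : act 2 n205353 = n125865 := d1_1 D205353 (iv4 F406715) F406722
theorem F436043 : act 6 n205353 = n195755 := d10_2 F418937 D205353 (iv4 F398067)
theorem F436044 : act 5 n205353 = n125864 := d16_7 F174930 (iv5 F341351) (iv4 F407254) F407255 (iv4 D197831) F386117 D205353 (iv7 F413267) (iv2 F413265)
theorem F436045 : act 0 n205353 = n126047 := d17_0 (iv5 F435378) (iv1 F435383) F408190 (iv4 F202375) (iv5 D125825) (iv0 D58922) D58925 D125834 D205353
def n205354 : Q := act 0 n125835
theorem D205354 : act 0 n125835 = n205354 := rfl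
theorem F436046 : act 4 n205354 = n126044 := d18_3 F409763 (iv4 F360398) D205354 F202748 (iv4 D110535) F171080 F169603 F170857 D198889
def n205355 : Q := act 3 n125836
theorem D205355 : act 3 n125836 = n205355 := rfl
theorem F436047 : act 2 n205355 = n194969 := d0_1 D205355 F395231 F383829 F436023 (iv2 F436021)
theorem F436048 : act 4 n205355 = n176825 := d5_2 (iv4 F364837) D205355 (iv3 D176825) D176826 (iv3 F276205)
theorem F436049 : act 6 n205355 = n194968 := d7_2 F386116 D205355 F395215
theorem F436050 : act 0 n205355 = n190789 := d20_10 F381082 (iv1 D186082) F135891 (iv3 D75179) (iv1 F70732) D96342 F148280 D170835 (iv4 F364837) D205355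
theorem F436051 : act 0 n180671 = n205355 := d20_4 (iv4 D78650) (iv1 F254318) D86303 D180671 (iv3 D205355) F364837 (iv1 F281399) F281397 F248632 F119819
def n205356 : Q := act 0 n125838
theorem D205356 : act 0 n125838 = n205356 := rfl
theorem F436052 : act 2 n196094 = n205356 := d15_3 (iv0 D205356) F399378 D196094
theorem F436053 : act 1 n196092 = n205356 := d15_0 (iv0 D205356) (iv7 F360393) (iv2 F399373)
theorem F436054 : act 7 n205356 = n196087 := d15_2 D196092 F436053 F399361
theorem F436055 : act 6 n196086 = n205356 := d21_9 (iv5 F436035) (iv1 F436037) (iv5 F417202) (iv6 F417201) (iv1 D128673) D128676 F348753 (iv1 F396098) (iv5 F399358) (iv1 F436053)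
theorem F436056 : act 5 n200598 = n205356 := d21_2 F417205 (iv1 F417133) (iv6 F436055) (iv1 F399359) (iv6 D126269) F170924 (iv1 D110497) (iv5 F165919) D197021 F417206
theorem F436057 : act 4 n205356 = n191675 := d18_5 (iv1 D169908) F125353 D157859 (iv4 F417135) F436056 (iv0 D191675) F295373 D182510 (iv5 F395389)
theorem F436058 : act 5 n191672 = n191675 := d17_3 (iv1 D190555) (iv5 F152021) D191672 (iv4 F436057) (iv5 F436056) F417133 (iv5 F417205) (iv0 F417206) F402714
def n205357 : Q := act 6 n125841
theorem D205357 : act 6 n125841 = n205357 := rfl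
theorem F436059 : act 2 n205357 = n205320 := d3_1 D205357 (iv6 D205320) F360464
theorem F436060 : act 4 n205357 = n205319 := d10_1 D205357 (iv6 D205319) (iv4 F360466)
theorem F436061 : act 0 n205357 = n195715 := d21_10 (iv5 D195715) (iv1 F163235) F93404 D125931 (iv1 F202412) (iv6 F360463) (iv5 D131907) (iv1 F164370) F360465 D205357
theorem F436062 : act 1 n205357 = n195717 := d15_1 (iv0 F436061) F397928 (iv2 F397922)
def n205358 : Q := act 7 n125842
theorem D205358 : act 7 n125842 = n205358 := rfl
theorem F436063 : act 2 n205358 = n128868 := d4_1 D205358 (iv7 F211502) F360469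
theorem F436064 : act 3 n205358 = n195784 := d8_1 D205358 F398161 F360396
theorem F436065 : act 4 n205358 = n128608 := d11_1 D205358 F206874 (iv4 F360467)
theorem F436066 : act 5 n205358 = n125843 := d13_1 D205358 (iv7 D125843) D125842
theorem F436067 : act 6 n205358 = n128607 := d14_1 D205358 F206868 (iv6 F96547) F327448 (iv6 F202339)
theorem F436068 : act 1 n141285 = n205358 := d15_1 (iv0 F224304) (iv7 D205358) (iv2 F360469)
theorem F436069 : act 1 n205358 = n129085 := d15_1 F436068 (iv7 F401504) F401502
def n205359 : Q := act 5 n125850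
theorem D205359 : act 5 n125850 = n205359 := rfl
theorem F436070 : act 2 n205359 = n125851 := d2_1 D205359 (iv5 D125851) D125850
theorem F436071 : act 6 n205359 = n205205 := d21_3 F411038 F406707 D205359 (iv1 D205205) (iv6 D125591) (iv5 D58804) (iv1 F45247) (iv5 F45281) D58953 D125909
def n205360 : Q := act 6 n125850
theorem D205360 : act 6 n125850 = n205360 := rfl
theorem F436072 : act 2 n205360 = n125852 := d3_1 D205360 (iv6 D125852) D125850
theorem F436073 : act 4 n205360 = n155969 := d10_1 D205360 (iv6 D155969) (iv4 F202350)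
theorem F436074 : act 7 n205360 = n202849 := d14_2 F408237 D205360 F425860 (iv7 F377833) (iv6 F408236)
def n205361 : Q := act 4 n125851
theorem D205361 : act 4 n125851 = n205361 := rfl
theorem F436075 : act 6 n205361 = n205301 := d10_2 (iv6 F416871) D205361 F435859
theorem F436076 : act 0 n205361 = n205298 := d17_0 F435844 F398830 (iv5 F435151) F435150 F416887 F413749 (iv5 F436040) (iv0 F436041) D205361
theorem F436077 : act 1 n205361 = n196041 := d18_6 (iv1 F202188) F161091 F169470 (iv4 F169469) D125851 D205361 (iv4 F435453) (iv0 F435784) (iv5 D205287)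
def n205362 : Q := act 7 n125851
theorem D205362 : act 7 n125851 = n205362 := rfl
theorem F436078 : act 3 n205362 = n125857 := d8_1 D205362 (iv7 D125857) (iv3 F202351)
theorem F436079 : act 5 n205362 = n125853 := d13_1 D205362 (iv7 D125853) D125851
theorem F436080 : act 6 n205362 = n195715 := d14_1 D205362 F397923 (iv6 F435427) F435430 (iv6 F416871)
def n205363 : Q := act 1 n125852
theorem D205363 : act 1 n125852 = n205363 := rfl
theorem F436081 : act 1 n205363 = n202849 := d15_1 D205363 (iv7 F436074) F436072
theorem F436082 : act 5 n205363 = n195079 := d17_7 (iv1 F170874) (iv5 D110469) D110467 F365655 (iv4 F365656) (iv5 F365658) D205363 (iv0 F395688) (iv4 D113360)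
theorem F436083 : act 4 n205363 = n200724 := d17_9 F417648 (iv5 F220261) F221459 (iv5 F425867) F425868 (iv5 D129059) D129058 (iv5 F365658) D205363
theorem F436084 : act 3 n195086 = n205363 := d20_3 (iv4 F408834) F408837 F395714 (iv1 D205363) F202352 F325641 (iv1 D79940) (iv4 F122679) (iv3 F262071) F377858
def n205364 : Q := act 4 n125854
theorem D205364 : act 4 n125854 = n205364 := rfl
theorem F436085 : act 2 n205364 = n198517 := d1_1 D205364 (iv4 D198517) F202356
theorem F436086 : act 5 n205364 = n145458 := d16_1 D205364 (iv4 D145458) (iv5 D68198) F50048 (iv5 F38774) (iv4 F80351) D110464 F170869 F202356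
theorem F436087 : act 0 n205364 = n126087 := d17_0 F398085 (iv1 F398083) (iv5 D125886) (iv4 D58946) (iv5 D28015) D28013 D58940 F202357 D205364
theorem F436088 : act 1 n205364 = n126046 := d18_6 (iv1 F202162) (iv4 D59295) (iv1 F170946) D109398 (iv5 F202355) D205364 (iv4 D126046) (iv0 F349540) F349542
theorem F436089 : act 3 n205364 = n200984 := d19_3 (iv1 F170852) (iv5 F202355) D205364 F418624 (iv5 D195761) F177122 F177120 (iv1 F105004) (iv5 D32013) (iv4 D15102) D15101 F26977 (iv5 F51028) (iv4 F104652) D146020 (iv1 F245008) F364562 F356049 F356044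
def n205365 : Q := act 6 n125854
theorem D205365 : act 6 n125854 = n205365 := rfl
theorem F436090 : act 2 n205365 = n198518 := d3_1 D205365 (iv6 D198518) F202356
theorem F436091 : act 3 n205365 = n195103 := d7_1 D205365 (iv6 F435304) F435306
theorem F436092 : act 5 n205365 = n195102 := d12_1 D205365 (iv6 F395757) F354348 (iv6 F325530) (iv5 F202355)
theorem F436093 : act 7 n200842 = n205365 := d13_0 F436092 F395776 D200842
def n205366 : Q := act 0 n125855
theorem D205366 : act 0 n125855 = n205366 := rfl
theorem F436094 : act 4 n205366 = n204880 := d18_1 D205366 F433997 (iv4 F435961) F435963 (iv4 F395372) F395375 F360455 (iv0 F398174) F398172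
theorem F436095 : act 2 n205354 = n205366 := d1_3 F436094 F433994 (iv4 F436046)
theorem F436096 : act 7 n205339 = n205366 := d11_0 F436094 F433996 (iv4 F435978)
theorem F436097 : act 1 n125867 = n205366 := d17_8 F433997 F202754 (iv1 F170140) D198748 F409063 (iv5 F203031) (iv0 F398163) F398162 F436094
def n205367 : Q := act 1 n125855
theorem D205367 : act 1 n125855 = n205367 := rfl
theorem F436098 : act 1 n205367 = n125867 := d15_1 D205367 F360401 (iv2 F360399)
theorem F436099 : act 7 n205367 = n205354 := d15_2 (iv0 D205366) D205367 F436095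
theorem F436100 : act 4 n205367 = n162916 := d17_9 (iv1 F357904) (iv5 D126023) (iv1 F202285) (iv5 F435717) F435716 (iv5 F203035) (iv0 F398174) F398172 D205367
theorem F436101 : act 2 n205339 = n205367 := d1_3 F436100 F360840 (iv4 F435978)
theorem F436102 : act 6 n205333 = n205367 := d10_0 F436100 (iv6 F360841) D205333
def n205368 : Q := act 3 n125855
theorem D205368 : act 3 n125855 = n205368 := rfl
theorem F436103 : act 2 n205368 = n200535 := d0_1 D205368 F416920 F176386 (iv3 F202336) (iv2 F360399)
theorem F436104 : act 6 n205368 = n200532 := d7_2 F360416 D205368 F416904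
def n205369 : Q := act 7 n125855
theorem D205369 : act 7 n125855 = n205369 := rfl
theorem F436105 : act 2 n205369 = n125867 := d4_1 D205369 F360401 (iv2 F360399)
theorem F436106 : act 4 n205369 = n125857 := d11_1 D205369 (iv7 D125857) D125855
theorem F436107 : act 5 n205369 = n126268 := d13_1 D205369 (iv7 F398173) F398172
theorem F436108 : act 1 n205339 = n205369 := d15_1 F435979 (iv7 D205369) F360399
theorem F436109 : act 1 n205369 = n205354 := d15_1 F436108 (iv7 F436099) (iv2 F436101)
def n205370 : Q := act 0 n125865
theorem D205370 : act 0 n125865 = n205370 := rfl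
theorem F436110 : act 5 n205370 = n177465 := d17_3 F387406 D125865 D205370 (iv4 F361647) (iv5 F406157) (iv0 D111656) (iv5 D51492) D51489 D111646
theorem F436111 : act 4 n205370 = n200542 := d18_1 D205370 F416934 F406120 (iv5 D125718) (iv4 F172753) F172755 D111641 (iv0 F202282) D125865
theorem F436112 : act 2 n126047 = n205370 := d15_3 (iv0 D205370) F435959 F435958
theorem F436113 : act 3 n205370 = n200541 := d0_2 F416908 F436112 F435967 (iv3 D205336) F416911
theorem F436114 : act 6 n205370 = n126023 := d3_2 D126047 F436112 F202718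
theorem F436115 : act 0 n205304 = n200541 := d20_4 F349554 (iv1 F399174) F399171 D205304 (iv3 F436113) F436111 F416934 F406120 F399528 F399521
def n205371 : Q := act 6 n125865
theorem D205371 : act 6 n125865 = n205371 := rfl
theorem F436116 : act 2 n205371 = n195755 := d3_1 D205371 (iv6 F436043) F436042
theorem F436117 : act 3 n205371 = n125868 := d7_1 D205371 (iv6 D125868) (iv3 F202362)
theorem F436118 : act 4 n205371 = n201059 := d10_1 D205371 (iv6 F418936) F406715
theorem F436119 : act 5 n205371 = n195736 := d12_1 D205371 (iv6 F397993) (iv5 D169919) F326462 D125865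
theorem F436120 : act 7 n205371 = n195749 := d14_2 F414732 D205371 F406139 F406136 F414734
def n205372 : Q := act 3 n125873
theorem D205372 : act 3 n125873 = n205372 := rfl
theorem F436121 : act 2 n205372 = n205347 := d0_1 D205372 F436013 F416886 (iv3 D125877) F202366
theorem F436122 : act 5 n205372 = n181703 := d6_2 (iv5 F326398) D205372 F282844
theorem F436123 : act 7 n205372 = n125880 := d8_2 F202367 D205372 (iv3 D125880)
theorem F436124 : act 4 n197833 = n205372 := d19_2 D108904 (iv5 F405950) (iv3 D205372) (iv1 F202365) F93152 F45278 F22253 (iv1 F9876) F8560 (iv4 D5584) (iv3 F8502) D11897 F22574 (iv4 F23925) (iv3 F24042) (iv1 F38509) (iv5 D24526) D24525 D50284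
def n205373 : Q := act 0 n125875
theorem D205373 : act 0 n125875 = n205373 := rfl
theorem F436125 : act 5 n205373 = n126386 := d17_3 (iv1 D126271) (iv5 F202373) D205373 (iv4 D126386) (iv5 D59290) D59288 D126380 F395374 F395372
theorem F436126 : act 4 n205373 = n126424 := d18_1 D205373 (iv1 F435722) F435716 (iv5 F203035) (iv4 F360455) (iv0 F380731) F380733 (iv0 D126270) (iv5 F202373)
theorem F436127 : act 1 n125888 = n205373 := d15_0 (iv0 D205373) (iv7 F398094) F398091
theorem F436128 : act 2 n125883 = n205373 := d1_3 F436126 F325538 (iv4 F366142)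
theorem F436129 : act 7 n125884 = n205373 := d11_0 F436126 (iv7 F360444) F360443
theorem F436130 : act 3 n200559 = n205373 := d20_5 (iv4 F416991) (iv1 D200566) F176421 (iv3 F176415) D200559 F436126 (iv1 F435722) F435716 F202383 (iv1 F201983)
def n205374 : Q := act 1 n125875
theorem D205374 : act 1 n125875 = n205374 := rfl
theorem F436131 : act 1 n205374 = n125888 := d15_1 D205374 (iv7 D125888) (iv2 F202372)
theorem F436132 : act 7 n205374 = n125883 := d15_2 (iv0 D205373) D205374 F436128
theorem F436133 : act 4 n205374 = n126393 := d18_7 (iv1 F202284) F93246 F169960 (iv4 F45275) D58943 D125875 D205374 F435721 F435717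
theorem F436134 : act 5 n205374 = n126418 := d18_9 (iv1 F228496) (iv4 D145458) (iv1 F170958) D126247 F360447 F360445 (iv0 D125873) D125875 D205374
theorem F436135 : act 3 n205327 = n205374 := d19_19 (iv1 D205374) F202373 (iv4 D59194) F45420 D28113 F45421 (iv4 D23715) (iv3 F36877) F36879 (iv5 D14408) F11185 (iv3 F11181) D14401 F36865 F36868 D28006 D58912 D125797 D205327
theorem F436136 : act 2 n125884 = n205374 := d1_3 F436133 (iv2 F366017) F360443
def n205375 : Q := act 7 n125876
theorem D205375 : act 7 n125876 = n205375 := rfl
theorem F436137 : act 2 n205375 = n125891 := d4_1 D205375 (iv7 D125891) (iv2 F202374)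
theorem F436138 : act 3 n205375 = n125928 := d8_1 D205375 F416988 (iv3 F416986)
theorem F436139 : act 4 n205375 = n126036 := d11_1 D205375 (iv7 F409062) F409063
theorem F436140 : act 6 n205375 = n195770 := d14_1 D205375 (iv7 F418889) F418888 F202345 D125876
theorem F436141 : act 1 n125890 = n205375 := d15_1 D125890 (iv7 D205375) F202374
theorem F436142 : act 1 n205375 = n125889 := d15_1 F436141 (iv7 F360448) F360434
def n205376 : Q := act 3 n125878
theorem D205376 : act 3 n125878 = n205376 := rfl
theorem F436143 : act 4 n205376 = n205238 := d5_2 D125878 D205376 F435559 (iv4 F356045) (iv3 D125877)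
theorem F436144 : act 7 n205376 = n205235 := d8_2 (iv7 F360435) D205376 F435548
def n205377 : Q := act 6 n125878
theorem D205377 : act 6 n125878 = n205377 := rfl
theorem F436145 : act 4 n205377 = n125879 := d10_1 D205377 (iv6 D125879) D125878
theorem F436146 : act 5 n205377 = n200839 := d21_6 F202359 F170418 D58943 D125876 (iv1 F360449) D205377 (iv1 F433985) F433982 (iv6 D198518) F202360
theorem F436147 : act 4 n130394 = n200839 := d16_0 (iv5 F436146) F436145 (iv5 F366006) F257726 F291961 (iv4 F158505) D194383 F393009 F361873
theorem F436148 : act 6 n200839 = n130392 := d10_2 D130394 F436147 (iv4 D130392)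
theorem F436149 : act 0 n200569 = n205377 := d20_10 F436145 F360409 (iv4 F435549) F435548 (iv1 D125890) F93150 (iv4 F93161) D125917 (iv4 F395518) D200569
def n205378 : Q := act 1 n125879
theorem D205378 : act 1 n125879 = n205378 := rfl
theorem F436150 : act 1 n205378 = n205236 := d15_1 D205378 F435552 F382460
theorem F436151 : act 7 n205378 = n205227 := d15_2 (iv0 F360409) D205378 F435514
theorem F436152 : act 3 n125902 = n205378 := d19_19 (iv1 D205378) (iv5 F366006) F257726 F367000 F175893 D195207 (iv4 F400324) (iv3 D196322) (iv1 D106894) D106896 (iv4 F172883) (iv3 F172884) D198108 F406854 (iv4 F413264) (iv3 F413268) (iv1 F436010) F436008 F405977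
theorem F436153 : act 2 n205378 = n205238 := d0_1 F436152 F435559 (iv2 F435148) F435149 (iv2 F416878)
def n205379 : Q := act 3 n125883
theorem D205379 : act 3 n125883 = n205379 := rfl
theorem F436154 : act 7 n205379 = n205327 := d8_2 F436132 D205379 F436135
theorem F436155 : act 4 n200521 = n205379 := d19_2 D113207 (iv5 F416843) (iv3 D205379) (iv1 F398095) (iv5 D195768) F163283 (iv3 D49105) (iv1 F40184) (iv5 D25403) (iv4 D12080) (iv3 F19995) F38623 F38621 F24060 (iv3 F24054) (iv1 F24055) F22954 D25384 D52256
theorem F436156 : act 2 n205379 = n205331 := d1_1 F436155 (iv4 D205331) F416845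
def n205380 : Q := act 6 n125883
theorem D205380 : act 6 n125883 = n205380 := rfl
theorem F436157 : act 4 n205380 = n191241 := d10_1 D205380 F382719 (iv4 F366142)
theorem F436158 : act 0 n205380 = n205235 := d20_1 (iv4 F436157) F435549 F202072 D125633 (iv3 F435146) (iv4 F435145) F366358 (iv4 F93156) (iv3 F202389) F382720
def n205381 : Q := act 3 n125884
theorem D205381 : act 3 n125884 = n205381 := rfl
theorem F436159 : act 7 n205381 = n200559 := d8_2 (iv7 F436129) D205381 F436130
theorem F436160 : act 0 n205381 = n200549 := d19_4 F299412 D180038 F360443 D205381 F416958 F350314 (iv3 D136199) (iv1 D64038) (iv5 D30189) (iv4 F40759) (iv3 D25792) D25790 D53176 (iv4 F165977) (iv3 F402883) F402887 F318577 (iv4 F257227) F257226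
theorem F436161 : act 0 n200561 = n205381 := d20_4 (iv4 F398108) (iv1 F417001) F416998 (iv3 F416969) (iv3 D205381) (iv4 F360443) F360441 F202380 F93150 D58956
theorem F436162 : act 5 n205381 = n128718 := d17_3 (iv1 F418017) (iv5 F416970) F436161 F333063 F220886 (iv0 D63926) D63929 D135967 (iv4 F418006)
theorem F436163 : act 2 n200560 = n205381 := d2_3 F436162 F333062 F416968
def n205382 : Q := act 5 n125884
theorem D205382 : act 5 n125884 = n205382 := rfl
theorem F436164 : act 2 n205382 = n126418 := d2_1 D205382 (iv5 F436134) (iv2 F436136)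
theorem F436165 : act 3 n205382 = n128718 := d6_1 D205382 (iv5 F436162) (iv3 D205381)
theorem F436166 : act 4 n205382 = n126114 := d9_1 D205382 (iv5 D126114) (iv4 D59097) (iv5 F324417) (iv4 F135383) D185561 (iv4 F366142) (iv5 F417941) (iv4 D200797) (iv5 D113478) F82749 F323902 (iv4 F131975) D180038 F360443
theorem F436167 : act 7 n205382 = n126386 := d13_2 (iv7 F436129) D205382 (iv5 F436125)
theorem F436168 : act 1 n205382 = n197015 := d17_8 (iv1 F349567) F349569 (iv1 F93273) D59191 (iv4 F202379) (iv5 D125886) D125884 D205382 F402700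
theorem F436169 : act 6 n128715 = n205382 := d7_0 F436165 (iv6 D128718) D128715
def n205383 : Q := act 6 n125884
theorem D205383 : act 6 n125884 = n205383 := rfl
theorem F436170 : act 4 n205383 = n200552 := d10_1 D205383 F416960 F360443
theorem F436171 : act 5 n199425 = n205383 := d21_2 (iv5 D200039) F412137 (iv6 D205383) (iv1 D125884) D125887 F360438 (iv1 D59055) D59057 D126047 F416961
theorem F436172 : act 2 n205383 = n199729 := d2_1 F436171 (iv5 D199729) (iv2 F412134)
theorem F436173 : act 7 n205383 = n199727 := d13_2 (iv7 F412135) F436171 (iv5 D199727)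
theorem F436174 : act 1 n205383 = n205372 := d17_6 (iv1 D125575) (iv5 F172797) (iv1 F412140) (iv5 D199426) D199425 F436171 F436122 (iv0 F416817) F416816
theorem F436175 : act 0 n205383 = n200524 := d18_0 F416856 (iv1 D197834) D197835 F405959 F174942 F409228 F409224 (iv0 F412136) F436171
theorem F436176 : act 6 n199729 = n205374 := d3_2 D205383 F436172 (iv2 F436136)
theorem E103899 : n205328 = n205327 := ((c7_2 F436176 (iv3 F436135) (iv6 D205328) (iv3 F413279))).symm
theorem F436177 : act 6 n205327 = n125797 := (sb E103899 (iv6 D205328))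
def n205384 : Q := act 0 n125885
theorem D205384 : act 0 n125885 = n205384 := rfl
theorem F436178 : act 4 n205384 = n205271 := d18_3 (iv1 D125914) (iv4 F202376) D205384 (iv5 F435697) (iv4 D197008) (iv0 D107528) (iv4 F92966) D125587 (iv5 F405918)
theorem F436179 : act 3 n205384 = n195035 := d20_5 (iv4 D125881) (iv1 D58945) D58946 D125885 D205384 (iv4 F395516) (iv1 F202414) F202405 (iv3 F202383) (iv1 F349598)
theorem F436180 : act 6 n205384 = n205270 := d21_5 (iv5 D125769) (iv1 F201928) (iv5 F435127) F435130 D205384 F435693 (iv1 F436069) F436066 F349547 (iv1 F349585)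
theorem F436181 : act 1 n205181 = n205384 := d15_0 (iv0 D205384) (iv7 F202377) (iv2 F435328)
theorem F436182 : act 2 n205187 = n205384 := d3_3 F436180 F435692 F435335
theorem F436183 : act 7 n200572 = n205384 := d15_2 (iv0 F435714) (iv0 F435715) (iv2 F436182)
def n205385 : Q := act 1 n125885
theorem D205385 : act 1 n125885 = n205385 := rfl
theorem F436184 : act 1 n205385 = n205181 := d15_1 D205385 (iv7 F435713) F435709
theorem F436185 : act 7 n205385 = n205187 := d15_2 (iv0 D205384) D205385 F436182
theorem F436186 : act 4 n205277 = n205385 := d20_6 (iv4 F45282) D58820 F92996 (iv3 F161093) (iv1 F399419) (iv3 F435726) (iv1 D205385) F202376 (iv3 D58954) F45284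
theorem F436187 : act 6 n200528 = n205385 := d21_3 (iv5 D125851) (iv1 F405756) (iv5 F416882) (iv1 D205385) (iv6 F435130) F435127 (iv1 D125539) D125541 D205160 F435698
theorem F436188 : act 2 n205385 = n200572 := d3_1 F436187 (iv6 F417010) F416884
theorem F436189 : act 3 n205385 = n205348 := d7_1 F436187 (iv6 D205348) (iv3 F416885)
def n205386 : Q := act 5 n125885
theorem D205386 : act 5 n125885 = n205386 := rfl
theorem F436190 : act 2 n205386 = n200771 := d2_1 D205386 (iv5 F435712) F435709
theorem F436191 : act 3 n205386 = n125886 := d6_1 D205386 (iv5 D125886) D125885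
theorem F436192 : act 6 n205386 = n127387 := d12_2 F435130 D205386 F204921 F358188 (iv5 F435127)
theorem F436193 : act 7 n205386 = n200845 := d13_2 F202377 D205386 (iv5 F418127)
theorem F436194 : act 1 n205386 = n200094 := d17_6 F435417 (iv5 F361379) F342901 (iv5 F93159) (iv4 F202376) D205386 (iv5 D200094) D200093 F435418
theorem F436195 : act 0 n205386 = n195098 := d21_1 D205386 (iv5 F435995) F435996 (iv1 F409771) (iv6 F416871) (iv5 D125851) (iv1 F405756) (iv5 F416882) F436187 (iv1 D205385)
def n205387 : Q := act 6 n125889
theorem D205387 : act 6 n125889 = n205387 := rfl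
theorem F436196 : act 2 n205387 = n205377 := d3_1 D205387 (iv6 D205377) F360446
theorem F436197 : act 3 n205387 = n125933 := d7_1 D205387 (iv6 F399179) F399176
theorem F436198 : act 4 n205387 = n191167 := d10_1 D205387 F382461 (iv4 F360445)
theorem F436199 : act 7 n205387 = n205233 := d14_2 F360448 D205387 (iv6 D205233) (iv7 F413327) F413326
def n205388 : Q := act 6 n125891
theorem D205388 : act 6 n125891 = n205388 := rfl
theorem F436200 : act 2 n205388 = n195770 := d3_1 D205388 (iv6 F436140) F436137
theorem F436201 : act 3 n205388 = n125931 := d7_1 D205388 (iv6 D125931) (iv3 F202383)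
theorem F436202 : act 4 n205388 = n205190 := d10_1 D205388 (iv6 F435718) F435716
theorem F436203 : act 5 n205388 = n200983 := d12_1 D205388 F418619 (iv5 F398195) F398196 F203035
theorem F436204 : act 7 n205388 = n125892 := d14_2 D125891 D205388 (iv6 D125892) (iv7 D58948) D58947
theorem F436205 : act 0 n205388 = n195740 := d21_10 (iv5 D195740) (iv1 F177126) D201059 (iv6 F418936) (iv1 F406717) F360416 (iv5 F398172) F398174 F203035 D205388
theorem F436206 : act 0 n195773 = n205388 := d18_2 F436205 (iv4 F398113) F436202 (iv5 F435347) (iv4 D195721) (iv0 F164522) D196189 F418621 (iv5 F436203)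
def n205389 : Q := act 3 n125893
theorem D205389 : act 3 n125893 = n205389 := rfl
theorem F436207 : act 4 n205389 = n199885 := d5_2 (iv4 F330421) D205389 (iv3 F413972) F261752 F298088
theorem F436208 : act 5 n205389 = n135686 := d6_2 (iv5 F330422) D205389 (iv3 D135686)
theorem F436209 : act 6 n205389 = n163632 := d7_2 (iv6 F330423) D205389 (iv3 D163632)
def n205390 : Q := act 3 n125894
theorem D205390 : act 3 n125894 = n205390 := rfl
theorem F436210 : act 4 n205390 = n196464 := d5_2 F327885 D205390 F400757 (iv4 D110300) (iv3 F327884)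
theorem F436211 : act 5 n205390 = n135681 := d6_2 (iv5 F330398) D205390 (iv3 D135681)
theorem F436212 : act 6 n205390 = n189788 := d7_2 F330411 D205390 (iv3 D189788)
theorem F436213 : act 7 n205390 = n196090 := d8_2 (iv7 F330414) D205390 F399371
theorem F436214 : act 0 n198243 = n205390 := d20_4 D128960 (iv1 F358868) (iv4 F358866) (iv3 F407327) (iv3 D205390) (iv4 F327885) (iv1 F324476) (iv4 F202738) (iv3 F360219) (iv1 D128959)
theorem F436215 : act 2 n205390 = n196081 := d16_9 F410682 F410680 (iv4 F415748) F415745 F370080 (iv5 D106637) D106636 D196090 (iv7 F436213)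
def n205391 : Q := act 4 n125898
theorem D205391 : act 4 n125898 = n205391 := rfl
theorem F436216 : act 2 n205391 = n125899 := d1_1 D205391 (iv4 D125899) D125898
theorem F436217 : act 3 n205391 = n200571 := d5_1 D205391 (iv4 F435542) (iv3 D205232) F405943 F405939
theorem F436218 : act 5 n205391 = n182519 := d9_2 (iv5 F202387) D205391 (iv4 D182519) (iv5 F358597) F402914 F402911 F168774 D113202 D200523 F416852 (iv4 D182524) D182525 (iv4 F360195) (iv5 D163508) (iv4 F329024)
theorem F436219 : act 7 n205391 = n205344 := d11_2 F416839 D205391 F436003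
theorem F436220 : act 0 n205188 = n205391 := d17_2 D195956 F435339 F436218 (iv4 D182519) (iv5 F358597) (iv0 F388172) F388171 (iv0 F355869) F216836
theorem F436221 : act 6 n200569 = n205391 := d21_5 (iv5 D199734) (iv1 F173210) (iv5 F405944) D205233 F435545 F436218 F398042 (iv5 F435813) (iv6 D205292) (iv1 F413300)
def n205392 : Q := act 6 n125898
theorem D205392 : act 6 n125898 = n205392 := rfl
theorem F436222 : act 2 n205392 = n125900 := d3_1 D205392 (iv6 D125900) D125898
theorem F436223 : act 3 n205392 = n205236 := d7_1 D205392 F435550 F405939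
theorem F436224 : act 4 n205392 = n200569 := d10_1 D205392 F436221 (iv4 D205391)
def n205393 : Q := act 5 n125899
theorem D205393 : act 5 n125899 = n205393 := rfl
theorem F436225 : act 2 n205393 = n182519 := d2_1 D205393 (iv5 F436218) F436216
theorem F436226 : act 3 n205393 = n132156 := d6_1 D205393 (iv5 F360473) (iv3 F202388)
theorem F436227 : act 7 n205393 = n182524 := d13_2 F416851 D205393 (iv5 F416852)
theorem F436228 : act 1 n205393 = n169921 := d17_6 (iv1 F416914) F416916 (iv1 D125582) (iv5 F93155) D125899 D205393 (iv5 F366009) (iv0 F435954) (iv4 D205333)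
theorem F436229 : act 0 n205393 = n126299 := d21_1 D205393 F435499 (iv6 D205223) (iv1 F360419) F398077 (iv5 D195764) (iv1 D106249) D106251 D195772 F435708
theorem F436230 : act 4 n182325 = n205393 := d16_0 (iv5 D205393) (iv4 D125899) F93155 F92952 D113147 D200469 (iv5 F416585) F359717 (iv2 F352435)
theorem F436231 : act 6 n205393 = n132154 := d10_2 (iv6 F352431) F436230 (iv4 F216411)
def n205394 : Q := act 6 n125899
theorem D205394 : act 6 n125899 = n205394 := rfl
theorem F436232 : act 2 n205394 = n200569 := d3_1 D205394 F436221 F436216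
theorem F436233 : act 3 n205394 = n205187 := d7_1 D205394 (iv6 F435335) (iv3 F202388)
theorem F436234 : act 4 n205394 = n125900 := d10_1 D205394 (iv6 D125900) D125899
theorem F436235 : act 7 n205394 = n205348 := d14_2 F416851 D205394 (iv6 D205348) (iv7 F405954) F416853
def n205395 : Q := act 1 n125900
theorem D205395 : act 1 n125900 = n205395 := rfl
def n205396 : Q := act 5 n125900
theorem D205396 : act 5 n125900 = n205396 := rfl
theorem F436236 : act 3 n205396 = n125903 := d6_1 D205396 (iv5 D125903) (iv3 F202389)
theorem F436237 : act 6 n205396 = n203859 := d12_2 D125900 D205396 (iv5 D203859) F328215 (iv5 F93155)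
theorem F436238 : act 0 n132113 = n205396 := d21_10 (iv5 D205396) F382720 (iv5 D191241) (iv6 D97437) F293070 D78613 (iv5 F340304) F211210 F212088 D132113
def n205397 : Q := act 7 n125900
theorem D205397 : act 7 n125900 = n205397 := rfl
theorem F436239 : act 3 n205397 = n125904 := d8_1 D205397 (iv7 D125904) (iv3 F202389)
theorem F436240 : act 4 n205397 = n205348 := d11_1 D205397 (iv7 F436235) F436234
theorem F436241 : act 6 n205397 = n205347 := d14_1 D205397 F436014 (iv6 D200524) F176367 D125900
theorem F436242 : act 0 n205377 = n205348 := d20_1 (iv4 F436145) (iv4 F436240) F436239 (iv1 F405970) (iv3 F435149) F435150 (iv1 F416889) F405977 F436152 (iv1 D205378)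
def n205398 : Q := act 5 n125901
theorem D205398 : act 5 n125901 = n205398 := rfl
theorem F436243 : act 3 n205398 = n131893 := d6_1 D205398 F342980 F349552
theorem F436244 : act 6 n205398 = n185723 := d12_2 (iv6 F349551) D205398 (iv5 F347544) (iv6 D125526) D125525
theorem F436245 : act 0 n196265 = n205398 := d19_0 (iv5 D205398) F411043 (iv3 F411042) (iv1 D197834) (iv5 D108697) F79534 (iv3 D24492) D24490 D50211 F79566 D66535 (iv1 F331550) F331551 D141856 (iv3 F382331) F382334 F372119 D191171 (iv3 F400107)
def n205399 : Q := act 5 n125902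
theorem D205399 : act 5 n125902 = n205399 := rfl
def n205400 : Q := act 6 n125902
theorem D205400 : act 6 n125902 = n205400 := rfl
theorem F436246 : act 2 n205400 = n205277 := d3_1 D205400 F435728 (iv2 F416878)
theorem F436247 : act 4 n205400 = n200572 := d10_1 D205400 (iv6 F417010) F405977
theorem F436248 : act 7 n205400 = n205271 := d14_2 F416877 D205400 (iv6 D205271) (iv7 F435121) F435124
theorem F436249 : act 5 n200580 = n205400 := d21_2 F435426 F417046 (iv6 D205400) (iv1 D125902) (iv6 D58951) F45279 (iv1 F45214) D58804 D125591 D205204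
theorem F436250 : act 1 n205400 = n205232 := d17_6 (iv1 D49081) D49083 D106220 (iv5 F377922) D200580 F436249 F435539 F395472 (iv4 D106214)
theorem F436251 : act 0 n205400 = n205276 := d21_1 F436249 F435723 (iv6 D128691) F95142 D128622 (iv5 F418560) (iv1 F418561) (iv5 F435491) (iv6 D205221) F417046
def n205401 : Q := act 1 n125911
theorem D205401 : act 1 n125911 = n205401 := rfl
theorem F436252 : act 1 n205401 = n199837 := d15_1 D205401 F413748 (iv2 F356050)
theorem F436253 : act 7 n205401 = n190596 := d15_2 (iv0 F405933) D205401 F405935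
theorem F436254 : act 5 n205401 = n205160 := d18_9 F435698 D205361 F436076 (iv4 D205298) F202222 F173582 D111811 F356049 D205401
theorem F436255 : act 3 n205163 = n205401 := d19_19 (iv1 D205401) (iv5 D125911) F93158 (iv3 F202072) D205236 (iv5 F435554) F382462 (iv3 F382422) (iv1 F382425) (iv5 D113100) (iv4 F99690) (iv3 D64083) F48586 D48814 (iv4 F93108) F344599 D133349 (iv5 F414011) (iv4 F435241)
theorem F436256 : act 4 n190597 = n205401 := d20_0 (iv1 D205401) (iv4 F356049) (iv3 F324438) (iv1 F324537) D109607 (iv4 F170787) F351015 (iv4 F351016) D199843 F413771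
theorem F436257 : act 6 n205161 = n205401 := d21_3 (iv5 D177424) (iv1 F358189) D205161 (iv1 D205401) F202394 (iv5 D125670) F93053 D112840 F411039 (iv1 F358236)
theorem F436258 : act 2 n205401 = n205263 := d0_1 F436255 (iv3 D205263) F406723 F360476 (iv2 F435239)
def n205402 : Q := act 3 n125913
theorem D205402 : act 3 n125913 = n205402 := rfl
theorem F436259 : act 5 n205402 = n176525 := d6_2 (iv5 F361381) D205402 (iv3 F356083)
theorem F436260 : act 7 n205402 = n205182 := d8_2 F405927 D205402 (iv3 D205182)
theorem F436261 : act 4 n205402 = n200555 := d20_6 F45282 (iv1 D28018) D28019 D58954 D125913 D205402 (iv1 D200555) (iv4 D113229) F82638 (iv1 F45222)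
theorem F436262 : act 5 n200555 = n194200 := d16_3 D176525 (iv5 F436259) F436261 F392360 (iv5 F363541) (iv4 F343350) (iv5 F343348) F355841 F330301
theorem F436263 : act 2 n194209 = n200555 := d2_3 F436262 F392359 D194209
theorem F436264 : act 6 n194209 = n200555 := d12_0 F436262 (iv6 D194200) F158250 D102977 D194209
def n205403 : Q := act 4 n125913
theorem D205403 : act 4 n125913 = n205403 := rfl
theorem F436265 : act 2 n205403 = n205185 := d1_1 D205403 (iv4 D205185) F405926
theorem F436266 : act 7 n205403 = n205183 := d11_2 F405927 D205403 (iv4 D205183)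
theorem F436267 : act 5 n205403 = n196123 := d17_5 (iv1 F348403) (iv5 D125589) D125586 (iv5 F361381) D205403 (iv0 D196123) D196125 F435439 (iv4 D205179)
theorem F436268 : act 0 n205403 = n200571 := d18_2 D125913 D205403 (iv4 F435542) F435539 (iv4 F395684) F435301 F435299 F342908 (iv5 F93159)
theorem F436269 : act 0 n205402 = n205329 := d19_4 D196123 (iv5 F436267) (iv4 D205403) D205402 (iv5 D205329) F353848 F353847 (iv1 D147374) (iv5 D69090) (iv4 F85468) (iv3 D54146) D54144 D117502 F327696 (iv3 F168407) (iv1 D62588) F47512 (iv4 F77901) (iv3 F164364)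
def n205404 : Q := act 6 n125913
theorem D205404 : act 6 n125913 = n205404 := rfl
theorem F436270 : act 2 n205404 = n205184 := d3_1 D205404 F435605 F405926
theorem F436271 : act 0 n205404 = n205343 := d21_10 (iv5 D205343) F435271 F435267 F366350 F413739 (iv6 F395483) (iv5 D125589) D125586 (iv5 F361381) D205404
theorem F436272 : act 0 n200573 = n205404 := d21_4 F435935 F391984 F365649 D200573 (iv6 D205404) F361381 (iv1 F405914) (iv5 F435303) F435304 F435940
def n205405 : Q := act 1 n125916
theorem D205405 : act 1 n125916 = n205405 := rfl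
theorem F436273 : act 1 n205405 = n195960 := d15_1 D205405 F398863 (iv2 F362926)
theorem F436274 : act 7 n205405 = n195034 := d15_2 (iv0 F435749) D205405 (iv2 F435746)
theorem F436275 : act 5 n205405 = n132168 := d17_7 (iv1 F164670) F176205 (iv1 D113096) F82537 (iv4 F95150) (iv5 F362927) D205405 F398072 F398068
theorem F436276 : act 3 n195037 = n205405 := d20_3 (iv4 F416989) (iv1 F435598) F435594 (iv1 D205405) F202403 F93161 D58956 (iv4 F398108) F201978 D125570
theorem F436277 : act 4 n205184 = n205405 := d20_6 (iv4 F366142) (iv1 F398095) F398093 (iv3 F202397) (iv1 F202402) D205184 (iv1 D205405) (iv4 F435129) (iv3 F435128) (iv1 F360442)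
theorem F436278 : act 6 n205405 = n205185 := d10_2 (iv6 F435605) F436277 (iv4 D205185)
def n205406 : Q := act 5 n125917
theorem D205406 : act 5 n125917 = n205406 := rfl
theorem F436279 : act 3 n205406 = n200756 := d6_1 D205406 (iv5 F435544) F435543
theorem F436280 : act 6 n205406 = n200753 := d12_2 (iv6 F435541) D205406 (iv5 D200753) F343543 (iv5 F435539)
def n205407 : Q := act 3 n125918
theorem D205407 : act 3 n125918 = n205407 := rfl
theorem F436281 : act 0 n205407 = n205327 := d20_4 F435594 (iv1 F395508) (iv4 F395509) D205407 F436135 F436133 (iv1 F409065) F409063 F416986 (iv1 F435598)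
def n205408 : Q := act 5 n125918
theorem D205408 : act 5 n125918 = n205408 := rfl
theorem F436282 : act 6 n205408 = n132032 := d12_2 F360463 D205408 F211525 (iv6 D131908) D131907
def n205409 : Q := act 0 n125919
theorem D205409 : act 0 n125919 = n205409 := rfl
theorem F436283 : act 5 n205409 = n200844 := d17_3 (iv1 D125918) D125919 D205409 (iv4 D200844) (iv5 D113548) (iv0 D52404) (iv5 F82642) D113235 (iv4 F395509)
theorem F436284 : act 6 n205409 = n133389 := d21_5 (iv5 D126304) (iv1 F93405) (iv5 F343558) (iv6 F343579) D205409 (iv5 F343683) (iv1 F165950) (iv5 D106844) (iv6 F164614) (iv1 F343602)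
def n205410 : Q := act 1 n125919
theorem D205410 : act 1 n125919 = n205410 := rfl
theorem F436285 : act 5 n200847 = n205410 := d21_6 F45281 F45246 D51967 D112617 D200092 (iv6 F418130) (iv1 D205410) (iv5 D125919) (iv6 D58955) F45284
def n205411 : Q := act 0 n125922
theorem D205411 : act 0 n125922 = n205411 := rfl
theorem F436286 : act 5 n205411 = n195747 := d17_1 D205411 (iv1 D195747) D195749 (iv4 F398076) (iv5 D195764) (iv0 F397937) (iv5 F398101) F398103 (iv4 F398104)
theorem F436287 : act 1 n195726 = n205411 := d15_0 (iv0 D205411) (iv7 F435346) F435348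
theorem F436288 : act 3 n205380 = n205411 := d19_19 (iv1 F436287) (iv5 D195726) (iv4 D106233) F114804 (iv1 D76558) (iv5 D34985) F27857 (iv3 F27847) D34978 (iv5 F104808) (iv4 F104811) (iv3 F319198) (iv1 F290565) (iv5 F399613) (iv4 F400108) F400107 F382467 D191241 (iv4 F436157)
theorem F436289 : act 6 n205411 = n205379 := d7_2 D205380 F436288 (iv3 D205379)
def n205412 : Q := act 2 n125922
theorem D205412 : act 2 n125922 = n205412 := rfl
theorem F436290 : act 3 n205412 = n195772 := d0_2 D125922 D205412 F435338 (iv3 D205188) F399526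
theorem F436291 : act 4 n205412 = n201049 := d1_2 (iv4 F398104) D205412 F418886
theorem F436292 : act 5 n205412 = n195579 := d2_2 (iv5 F398105) D205412 F397426
theorem F436293 : act 6 n205412 = n195768 := d3_2 (iv6 F398106) D205412 F398091
theorem F436294 : act 7 n205412 = n195726 := d4_2 F435346 D205412 (iv2 F435348)
def n205413 : Q := act 0 n125924
theorem D205413 : act 0 n125924 = n205413 := rfl
theorem F436295 : act 4 n205413 = n201000 := d18_1 D205413 (iv1 F418681) F418317 F365649 (iv4 F395509) F202412 F202410 F201988 D125924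
theorem F436296 : act 5 n205413 = n205357 := d21_2 D125924 D205413 (iv6 D205357) (iv1 D125841) (iv6 D58927) (iv5 D28010) (iv1 D13366) D13368 D28020 D58956
theorem F436297 : act 1 n125929 = n205413 := d15_0 (iv0 D205413) (iv7 F435352) F435349
theorem F436298 : act 7 n205413 = n200997 := d15_2 F435345 F436297 F418672
theorem F436299 : act 6 n195941 = n205413 := d21_3 F328928 F164046 (iv5 F398791) (iv1 F436297) (iv6 F402685) (iv5 F435216) F435218 F418791 (iv6 F342945) F288401
def n205414 : Q := act 6 n125924
theorem D205414 : act 6 n125924 = n205414 := rfl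
theorem F436300 : act 3 n205414 = n195733 := d7_1 D205414 (iv6 D195733) (iv3 F398109)
theorem F436301 : act 0 n205414 = n201014 := d21_4 F45431 D58956 D125924 D205414 (iv6 D201014) D201013 (iv1 F435493) F435491 (iv6 D126302) (iv1 D59201)
def n205415 : Q := act 2 n125927
theorem D205415 : act 2 n125927 = n205415 := rfl
theorem F436302 : act 3 n205415 = n195726 := d0_2 D125927 D205415 (iv2 F435348) (iv3 D205190) F399523
theorem F436303 : act 7 n205415 = n195772 := d4_2 F435337 D205415 F435338
theorem F436304 : act 1 n205415 = n205391 := d15_0 (iv0 F436220) F435337 D205415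
theorem F436305 : act 1 n200523 = n205415 := d15_0 F436304 F436219 F436002
theorem F436306 : act 5 n195725 = n205415 := d17_7 (iv1 F416847) (iv5 F416850) (iv1 D113208) D113210 (iv4 F398850) (iv5 D195957) (iv0 F397958) F436304 (iv4 D205391)
def n205416 : Q := act 4 n125927
theorem D205416 : act 4 n125927 = n205416 := rfl
theorem F436307 : act 3 n205416 = n126036 := d5_1 D205416 (iv4 F436139) F436138 (iv4 D125928) D125927
theorem F436308 : act 5 n205416 = n126035 := d18_4 F416579 D125899 F395500 D205416 F202737 (iv0 F174858) F82587 D58913 D125802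
theorem F436309 : act 6 n205415 = n205416 := d12_0 F436308 F360218 (iv5 F336396) F397957 F436306
def n205417 : Q := act 5 n125927
theorem D205417 : act 5 n125927 = n205417 := rfl
theorem F436310 : act 2 n205417 = n195725 := d2_1 D205417 F436306 (iv2 D205415)
theorem F436311 : act 3 n205417 = n125929 := d6_1 D205417 (iv5 D125929) D125927
theorem F436312 : act 7 n205417 = n195956 := d13_2 F435337 D205417 F435339
theorem F436313 : act 6 n205417 = n128761 := d21_3 (iv5 D205393) F395500 D205417 (iv1 F216092) F329122 (iv5 D86361) F60838 D81507 D169921 (iv1 F436228)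
theorem F436314 : act 4 n190737 = n205417 := d16_0 (iv5 D205417) D205416 F436308 F202737 D200037 F414721 F366844 (iv7 F378179) (iv2 F380874)
theorem F436315 : act 0 n195958 = n205417 := d19_0 (iv5 D205417) D205416 F436307 F333476 (iv5 D180038) F131975 F60629 F44783 F44782 (iv4 F88492) D78719 (iv1 F338757) (iv5 F338764) F214316 (iv3 F214313) (iv1 F97599) F95712 (iv4 F163720) (iv3 F398853)
theorem F436316 : act 1 n195955 = n205417 := d15_0 (iv0 F436315) (iv7 D195958) (iv2 F398845)
def n205418 : Q := act 6 n125927
theorem D205418 : act 6 n125927 = n205418 := rfl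
theorem F436317 : act 2 n205418 = n205416 := d3_1 D205418 (iv6 F436309) (iv2 D205415)
theorem F436318 : act 3 n205418 = n125930 := d7_1 D205418 (iv6 D125930) D125927
theorem F436319 : act 4 n205418 = n205415 := d10_1 D205418 F436309 (iv4 D205416)
theorem F436320 : act 7 n205418 = n205273 := d14_2 F435337 D205418 (iv6 F435706) F398110 (iv6 F435336)
theorem F436321 : act 0 n205418 = n205152 := d21_4 (iv5 F398855) F436315 (iv5 D205417) D205418 (iv6 D205152) (iv5 D125533) D125530 F360423 D205292 (iv1 F435814)
theorem F436322 : act 5 n205157 = n205418 := d13_3 F436320 F435705 (iv7 F435212)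
def n205419 : Q := act 5 n125928
theorem D205419 : act 5 n125928 = n205419 := rfl
theorem F436323 : act 2 n205419 = n195714 := d2_1 D205419 (iv5 F416995) F416993
theorem F436324 : act 6 n205419 = n196058 := d12_2 F398865 D205419 F399247 F206991 D195960
theorem F436325 : act 7 n205419 = n195703 := d13_2 (iv7 F416988) D205419 F416987
theorem F436326 : act 0 n205419 = n195713 := d17_2 (iv1 F417000) D205419 (iv5 F435849) F435848 (iv5 D131891) D131890 F395502 F395501 (iv4 F416998)
theorem F436327 : act 0 n195712 = n205419 := d21_7 F436275 (iv1 F214403) (iv5 F349560) (iv6 F435244) (iv1 F435245) D205305 (iv5 F435872) (iv5 D205419) (iv6 F398865) (iv1 F436273)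
def n205420 : Q := act 5 n125931
theorem D205420 : act 5 n125931 = n205420 := rfl
theorem F436328 : act 2 n205420 = n131897 := d2_1 D205420 (iv5 F362930) (iv2 F202409)
theorem F436329 : act 3 n205420 = n200983 := d6_1 D205420 (iv5 F436203) F436201
theorem F436330 : act 6 n205420 = n195794 := d12_2 D125931 D205420 F398206 F163307 F93404
theorem F436331 : act 7 n205420 = n125934 := d13_2 (iv7 F202411) D205420 (iv5 D125934)
theorem F436332 : act 0 n205420 = n205410 := d17_2 (iv1 F202413) D205420 (iv5 F436285) (iv4 D200847) (iv5 D113553) F161221 (iv5 F395506) F395520 F395518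
theorem F436333 : act 1 n205420 = n205409 := d17_6 F435930 (iv5 D126296) (iv1 F163237) (iv5 F201985) (iv4 F202410) D205420 F436283 (iv0 F435855) (iv4 F435929)
def n205421 : Q := act 3 n125932
theorem D205421 : act 3 n125932 = n205421 := rfl
theorem F436334 : act 7 n205421 = n205407 := d8_2 (iv7 F395512) D205421 (iv3 D205407)
theorem F436335 : act 0 n205421 = n205379 := d20_4 F202078 D195035 (iv4 F395516) D205421 (iv3 D205379) F366142 F333480 (iv4 F436139) F436138 F377847
theorem F436336 : act 5 n182514 = n205421 := d18_9 F436335 (iv4 F436155) (iv1 F416844) D205391 F436218 (iv4 D182519) (iv0 D87131) (iv4 F133720) D182514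
theorem F436337 : act 5 n205407 = n205060 := d13_3 (iv7 F434830) F436336 F436334
theorem F436338 : act 3 n205060 = n205408 := d6_1 F436337 (iv5 D205408) D205407
def n205422 : Q := act 5 n125932
theorem D205422 : act 5 n125932 = n205422 := rfl
theorem F436339 : act 2 n205422 = n205406 := d2_1 D205422 (iv5 D205406) F395513
theorem F436340 : act 3 n205422 = n182514 := d6_1 D205422 F436336 (iv3 D205421)
theorem F436341 : act 7 n205422 = n205408 := d13_2 (iv7 F395512) D205422 (iv5 D205408)
theorem F436342 : act 0 n205422 = n205322 := d21_1 D205422 (iv5 D205322) (iv6 D125774) (iv1 F349550) (iv6 D108909) (iv5 D50285) F38503 (iv5 F45289) D58959 D125932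
theorem F436343 : act 0 n195760 = n205422 := d19_0 (iv5 D205422) F395516 (iv3 F436179) (iv1 F436181) F435331 F398002 (iv3 D195618) F163123 (iv5 F106082) (iv4 D69716) D69715 (iv1 F114382) (iv5 D76298) (iv4 F82958) D106096 F163114 (iv5 F177121) (iv4 F177122) D195760
def n205423 : Q := act 6 n125932
theorem D205423 : act 6 n125932 = n205423 := rfl
theorem F436344 : act 2 n205423 = n205232 := d3_1 D205423 (iv6 F435541) F395513
theorem F436345 : act 7 n205423 = n205276 := d14_2 (iv7 F395512) D205423 (iv6 F435725) (iv7 F211341) F360463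
theorem F436346 : act 5 n205423 = n200752 := d21_6 (iv5 D50285) F38503 (iv5 F45289) D58959 D125932 D205423 F417780 F395476 (iv6 D125591) F92969
theorem F436347 : act 0 n205271 = n205423 := d21_4 F349546 (iv1 F201878) D125678 D205271 (iv6 D205423) D205422 F436342 (iv5 D205322) (iv6 D125774) (iv1 F349550)
theorem F436348 : act 1 n205277 = n205423 := d15_0 (iv0 F436347) (iv7 F436248) F436246
def n205424 : Q := act 5 n125933
theorem D205424 : act 5 n125933 = n205424 := rfl
theorem F436349 : act 2 n205424 = n205408 := d2_1 D205424 (iv5 D205408) (iv2 F395510)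
theorem F436350 : act 6 n205424 = n196067 := d12_2 F399179 D205424 F399283 F206978 D196046
theorem F436351 : act 7 n205424 = n205406 := d13_2 F395511 D205424 (iv5 D205406)
theorem F436352 : act 1 n205424 = n205322 := d17_6 (iv1 F418122) F418124 F391968 F395502 (iv4 F395504) D205424 (iv5 D205322) (iv0 F435980) (iv4 D200847)
theorem F436353 : act 1 n195760 = n205424 := d15_1 (iv0 F436343) F436351 (iv2 F436339)
def n205425 : Q := act 0 n125934
theorem D205425 : act 0 n125934 = n205425 := rfl
theorem F436354 : act 6 n205425 = n131822 := d21_5 F343570 F161320 D58962 (iv6 F202417) D205425 (iv5 F358291) (iv1 D106846) (iv5 D49367) (iv6 F78025) D106811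
theorem F436355 : act 1 n131897 = n205425 := d15_0 (iv0 D205425) (iv7 F436331) F436328
theorem F436356 : act 2 n205409 = n205425 := d3_3 F436354 (iv2 F217725) (iv6 F436284)
theorem F436357 : act 7 n205410 = n205425 := d15_2 (iv0 D205409) D205410 (iv2 F436356)
def n205426 : Q := act 1 n125934
theorem D205426 : act 1 n125934 = n205426 := rfl
theorem F436358 : act 1 n205426 = n131897 := d15_1 D205426 (iv7 F343580) (iv2 F202416)
theorem F436359 : act 7 n205426 = n205409 := d15_2 (iv0 D205425) D205426 F436356
theorem F436360 : act 2 n205410 = n205426 := d4_3 F436359 F436356 (iv7 F436357)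
def n205427 : Q := act 6 n125940
theorem D205427 : act 6 n125940 = n205427 := rfl
theorem F436361 : act 3 n205427 = n125942 := d7_1 D205427 (iv6 D125942) D125940
theorem F436362 : act 4 n205427 = n198344 := d10_1 D205427 (iv6 D198344) (iv4 F202430)
theorem F436363 : act 5 n195013 = n205427 := d21_2 F435510 F418137 (iv6 D205427) F348764 (iv6 D113419) D113418 (iv1 F204607) (iv5 D127358) D127359 (iv1 F435513)
def n205428 : Q := act 5 n125946
theorem D205428 : act 5 n125946 = n205428 := rfl
theorem F436364 : act 2 n205428 = n201142 := d2_1 D205428 (iv5 F435923) (iv2 F435925)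
theorem F436365 : act 3 n205428 = n125947 := d6_1 D205428 (iv5 D125947) D125946
theorem F436366 : act 7 n205428 = n200613 := d13_2 (iv7 F202443) D205428 F417215
theorem F436367 : act 4 n205428 = n188716 := d17_4 (iv1 F402690) F402693 F377948 D205428 F374535 (iv0 F335164) F355236 F176940 (iv4 F228500)
theorem F436368 : act 1 n205428 = n201143 := d17_8 F333234 (iv5 F342954) F418774 (iv5 D201022) (iv4 F402684) (iv5 F435216) (iv0 F435219) D205428 F419248
theorem F436369 : act 6 n205428 = n188715 := d21_3 F402693 F377948 D205428 (iv1 F376528) F376526 (iv5 D169913) D169910 (iv5 F402718) F402719 (iv1 F402690)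
theorem F436370 : act 1 n195184 = n205428 := d15_0 F436368 (iv7 D201143) (iv2 F396144)
theorem F436371 : act 0 n201124 = n135686 := d20_4 F436367 F374537 F177856 (iv3 F419171) (iv3 D135686) D135687 F333483 F217970 (iv3 F419247) (iv1 F436368)
def n205429 : Q := act 6 n125947
theorem D205429 : act 6 n125947 = n205429 := rfl
theorem F436372 : act 2 n205429 = n200852 := d3_1 D205429 (iv6 D200852) (iv2 F202444)
theorem F436373 : act 3 n205429 = n188715 := d7_1 D205429 (iv6 F436369) F436365
theorem F436374 : act 4 n205429 = n135495 := d10_1 D205429 (iv6 D135495) (iv4 F358337)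
theorem F436375 : act 5 n205429 = n190599 := d12_1 D205429 F417037 (iv5 F417035) (iv6 D125948) D125947
theorem F436376 : act 0 n205429 = n193364 := d21_10 (iv5 F393465) (iv1 F393466) (iv5 F419213) (iv6 D201134) (iv1 D113958) (iv6 F161226) (iv5 D105268) (iv1 F161343) D125947 D205429
theorem F436377 : act 0 n200675 = n205429 := d17_2 F380275 D200675 F436375 (iv4 D190599) (iv5 D96231) (iv0 D44931) D44933 D96238 D190606
def n205430 : Q := act 4 n125954
theorem D205430 : act 4 n125954 = n205430 := rfl
theorem F436378 : act 2 n205430 = n125978 := d1_1 D205430 (iv4 D125978) (iv2 F202459)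
theorem F436379 : act 3 n205430 = n196381 := d5_1 D205430 (iv4 F423082) F423081 (iv4 F409516) F409515
theorem F436380 : act 5 n205430 = n145654 := d9_2 D125954 D205430 (iv4 D145654) (iv5 D68275) (iv4 D31770) (iv5 F45303) F325123 D35742 D78438 D163187 (iv4 F396925) (iv5 D195410) (iv4 D105569) (iv5 F76879) (iv4 F93178)
theorem F436381 : act 6 n205430 = n140469 := d10_2 F408976 D205430 (iv4 F408977)
theorem F436382 : act 7 n205430 = n163172 := d11_2 (iv7 F325663) D205430 (iv4 D163172)
theorem F436383 : act 0 n205430 = n163185 := d17_0 F409569 F389193 F389192 F351690 (iv5 D145703) (iv0 F161387) F327228 F326494 D205430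
theorem F436384 : act 1 n205430 = n163184 := d18_6 F338337 (iv4 D125959) (iv1 D58976) (iv4 F93178) D125954 D205430 (iv4 F409572) F415379 F415375
def n205431 : Q := act 5 n125957
theorem D205431 : act 5 n125957 = n205431 := rfl
theorem F436385 : act 2 n205431 = n125983 := d2_1 D205431 (iv5 D125983) (iv2 F202615)
theorem F436386 : act 3 n205431 = n196822 := d6_1 D205431 F401901 F345545
theorem F436387 : act 7 n205431 = n125988 := d13_2 (iv7 F202617) D205431 (iv5 D125988)
theorem F436388 : act 4 n205431 = n140332 := d16_2 D125957 D205431 (iv5 F404835) F404834 (iv5 F404337) F404336 F167256 F202484 F202480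
theorem F436389 : act 0 n205431 = n198849 := d17_2 F202618 D205431 (iv5 D198849) F170728 (iv5 F168798) D196723 (iv5 F401605) (iv0 D111291) (iv4 F166905)
theorem F436390 : act 1 n205431 = n198848 := d17_6 D50898 D110380 F202624 (iv5 D125958) D125957 D205431 (iv5 D198848) (iv0 D110375) F80298
theorem F436391 : act 6 n126823 = n205431 := d10_0 F436388 (iv6 D140332) (iv4 F204070)
def n205432 : Q := act 4 n125958
theorem D205432 : act 4 n125958 = n205432 := rfl
theorem F436392 : act 2 n205432 = n125984 := d1_1 D205432 (iv4 D125984) (iv2 F202621)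
theorem F436393 : act 7 n205432 = n125990 := d11_2 (iv7 F202622) D205432 (iv4 D125990)
theorem F436394 : act 0 n205432 = n195450 := d18_2 F202624 D205432 F397019 F168798 (iv4 F170728) F175502 F175500 F82240 D110380
def n205433 : Q := act 3 n125961
theorem D205433 : act 3 n125961 = n205433 := rfl
theorem F436395 : act 2 n205433 = n200730 := d0_1 D205433 (iv3 F417680) (iv2 F254484) (iv3 F330677) (iv2 F351026)
theorem F436396 : act 4 n205433 = n205171 := d5_2 F202629 D205433 (iv3 D205171) (iv4 D125554) D125553
theorem F436397 : act 5 n205433 = n147548 := d6_2 (iv5 F351027) D205433 (iv3 D147548)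
theorem F436398 : act 7 n205433 = n200464 := d8_2 (iv7 F351028) D205433 (iv3 D200464)
theorem F436399 : act 0 n205433 = n126191 := d20_4 (iv4 F413270) F413272 F202629 D205433 F358634 F358828 (iv1 F358833) F280915 F321442 F319463
theorem F436400 : act 1 n205433 = n126196 := d15_1 (iv0 F436399) (iv7 F352267) (iv2 F359770)
def n205434 : Q := act 6 n125965
theorem D205434 : act 6 n125965 = n205434 := rfl
theorem F436401 : act 2 n205434 = n147175 := d3_1 D205434 (iv6 D147175) F202643
theorem F436402 : act 4 n205434 = n162982 := d10_1 D205434 (iv6 F353257) F318901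
theorem F436403 : act 7 n205434 = n163145 := d14_2 F202644 D205434 F353264 (iv7 F344728) (iv6 D147173)
theorem F436404 : act 0 n125974 = n205434 := d21_4 (iv5 F348704) F286026 (iv5 F333969) (iv6 F359599) (iv6 D205434) F202641 (iv1 D69068) D69070 (iv6 F320991) (iv1 F146994)
theorem F436405 : act 1 n163147 = n205434 := d15_0 (iv0 F436404) F327220 D163147
def n205435 : Q := act 4 n125967
theorem D205435 : act 4 n125967 = n205435 := rfl
theorem F436406 : act 2 n205435 = n147799 := d1_1 D205435 F231539 (iv2 F342263)
theorem F436407 : act 3 n205435 = n190355 := d5_1 D205435 F379536 F347626 F275311 (iv3 F342264)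
theorem F436408 : act 6 n205435 = n189984 := d10_2 (iv6 F342265) D205435 F378441
theorem F436409 : act 0 n126183 = n205435 := d20_10 (iv4 D205435) (iv1 F408986) F408983 F368521 (iv1 D186923) (iv3 F368511) F368512 (iv1 F283553) (iv4 F382246) F382249
def n205436 : Q := act 6 n125968
theorem D205436 : act 6 n125968 = n205436 := rfl
theorem F436410 : act 2 n205436 = n203452 := d3_1 D205436 F428377 (iv2 F408972)
theorem F436411 : act 3 n205436 = n147415 := d7_1 D205436 (iv6 D147415) (iv3 F342266)
theorem F436412 : act 4 n205436 = n190341 := d10_1 D205436 F379465 (iv4 F342267)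
theorem F436413 : act 5 n205436 = n145272 := d12_1 D205436 (iv6 F357001) F357000 F434608 F434606
theorem F436414 : act 7 n205436 = n190336 := d14_2 (iv7 F342268) D205436 (iv6 D190336) F342249 (iv6 D147813)
theorem F436415 : act 0 n205436 = n156836 := d21_10 F321813 D167351 (iv5 F392668) F392671 (iv1 F192208) (iv6 F359975) F359974 (iv1 F434604) F434606 D205436
theorem F436416 : act 0 n203939 = n205436 := d21_4 (iv5 F425514) (iv1 F425517) (iv5 F382018) (iv6 F430494) (iv6 D205436) (iv5 F434606) (iv1 D205014) (iv5 F229436) (iv6 D146166) D146163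
def n205437 : Q := act 1 n125969
theorem D205437 : act 1 n125969 = n205437 := rfl
theorem F436417 : act 1 n205437 = n200154 := d15_1 D205437 F415277 F408975
theorem F436418 : act 7 n205437 = n154612 := d15_2 (iv0 F428650) D205437 (iv2 F428646)
theorem F436419 : act 3 n153904 = n205437 := d20_3 (iv4 F231531) F337914 (iv4 F352423) (iv1 D205437) F325669 F311379 (iv1 D69649) D69650 (iv3 F335063) (iv1 F231117)
theorem F436420 : act 5 n153903 = n205437 := d21_6 (iv5 D51009) (iv1 F39657) (iv5 F79920) D109567 (iv1 F348892) (iv6 F348929) (iv1 D205437) (iv5 D125969) (iv6 D58981) (iv1 F80464)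
def n205438 : Q := act 4 n125969
theorem D205438 : act 4 n125969 = n205438 := rfl
theorem F436421 : act 2 n205438 = n140469 := d1_1 D205438 (iv4 F408977) F408975
theorem F436422 : act 3 n205438 = n140777 := d5_1 D205438 (iv4 F360590) F243045 (iv4 F311379) (iv3 F325669)
theorem F436423 : act 6 n205438 = n125978 := d10_2 (iv6 F202649) D205438 (iv4 D125978)
theorem F436424 : act 0 n205438 = n140472 := d18_2 (iv1 D205437) D205438 (iv4 F428674) (iv5 F429910) F429909 (iv0 F364028) F347831 (iv0 F347843) F436420
theorem F436425 : act 7 n140470 = n205438 := d8_0 F436422 (iv7 F424235) F424238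
theorem F436426 : act 5 n204684 = n205438 := d2_0 F436421 F406099 D204684
theorem F436427 : act 0 n140464 = n205438 := d21_10 (iv5 F436426) F433253 F413074 (iv6 D141996) (iv1 F366181) (iv6 D140329) D140328 (iv1 F350892) (iv5 D140463) D140464
def n205439 : Q := act 7 n125969
theorem D205439 : act 7 n125969 = n205439 := rfl
theorem F436428 : act 2 n205439 = n200154 := d4_1 D205439 F415277 F408975
theorem F436429 : act 3 n205439 = n146724 := d8_1 D205439 F313801 (iv3 F325669)
theorem F436430 : act 4 n205439 = n140470 := d11_1 D205439 F436425 (iv4 D205438)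
theorem F436431 : act 5 n205439 = n125970 := d13_1 D205439 (iv7 D125970) D125969
theorem F436432 : act 6 n205439 = n163192 := d14_1 D205439 (iv7 D163192) (iv6 D78439) F325670 (iv6 F202649)
theorem F436433 : act 0 n154612 = n205439 := d21_4 (iv5 D39298) D39296 D84946 (iv6 F359979) F436432 F257479 (iv1 F325671) (iv5 F342290) (iv6 D178520) (iv1 D84954)
def n205440 : Q := act 2 n125971
theorem D205440 : act 2 n125971 = n205440 := rfl
theorem F436434 : act 3 n205440 = n163147 := d0_2 D125971 D205440 (iv2 D163147) (iv3 D78429) (iv2 F326488)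
theorem F436435 : act 4 n205440 = n177444 := d1_2 (iv4 F325664) D205440 F276865
theorem F436436 : act 5 n205440 = n137299 := d2_2 (iv5 F352336) D205440 F220448
theorem F436437 : act 6 n205440 = n200497 := d3_2 F429920 D205440 (iv2 F429924)
theorem F436438 : act 7 n205440 = n163124 := d4_2 (iv7 F327212) D205440 (iv2 D163124)
theorem F436439 : act 1 n205440 = n163091 := d15_0 F351046 (iv7 F327212) D205440
theorem F436440 : act 1 n163123 = n205440 := d15_0 F436439 F363876 (iv2 F357778)
def n205441 : Q := act 4 n125972
theorem D205441 : act 4 n125972 = n205441 := rfl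
theorem F436441 : act 2 n205441 = n163154 := d1_1 D205441 (iv4 D163154) (iv2 F327214)
theorem F436442 : act 3 n205441 = n137659 := d5_1 D205441 F220831 (iv3 F220823) F220824 (iv3 F352335)
theorem F436443 : act 6 n205441 = n137657 := d10_2 (iv6 F352293) D205441 F220828
theorem F436444 : act 7 n205441 = n163137 := d11_2 (iv7 F327215) D205441 (iv4 D163137)
theorem F436445 : act 5 n205441 = n204964 := d16_1 D205441 F434376 F404004 F397220 F245604 F172665 (iv5 F350818) F350819 (iv2 F327214)
def n205442 : Q := act 3 n125977
theorem D205442 : act 3 n125977 = n205442 := rfl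
theorem F436446 : act 5 n205442 = n200179 := d6_2 (iv5 F202656) D205442 F415417
theorem F436447 : act 7 n205442 = n163180 := d8_2 (iv7 F327230) D205442 (iv3 D163180)
theorem F436448 : act 4 n205442 = n184687 := d20_6 (iv4 D202168) (iv1 D115413) (iv4 F170624) F323130 (iv1 F325667) D205442 (iv1 F388857) F388861 (iv3 F416592) (iv1 F423108)
theorem F436449 : act 6 n153920 = n205442 := d10_0 F436448 (iv6 F375598) F375596
theorem F436450 : act 0 n205063 = n205442 := d18_0 F436448 (iv1 F388857) F388861 (iv5 D147385) (iv4 F205192) (iv0 F359596) F359595 (iv0 F368205) D205063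
def n205443 : Q := act 4 n125977
theorem D205443 : act 4 n125977 = n205443 := rfl
theorem F436451 : act 2 n205443 = n163176 := d1_1 D205443 (iv4 D163176) (iv2 F327229)
theorem F436452 : act 7 n205443 = n163181 := d11_2 (iv7 F327230) D205443 (iv4 D163181)
theorem F436453 : act 5 n205443 = n196608 := d16_1 D205443 (iv4 D196608) (iv5 D107131) F78244 D49495 (iv4 F80320) D110400 F327227 (iv2 F327229)
def n205444 : Q := act 6 n125977
theorem D205444 : act 6 n125977 = n205444 := rfl
theorem F436454 : act 2 n205444 = n163178 := d3_1 D205444 (iv6 D163178) (iv2 F327229)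
theorem F436455 : act 3 n205444 = n153920 := d7_1 D205444 F436449 (iv3 D205442)
theorem F436456 : act 5 n205444 = n172497 := d12_1 D205444 (iv6 D172497) (iv5 F326951) (iv6 F175543) (iv5 F202656)
theorem F436457 : act 7 n205444 = n203574 := d14_2 (iv7 F327230) D205444 (iv6 F428955) (iv7 F357014) F347901
theorem F436458 : act 0 n205444 = n191348 := d21_4 F359729 (iv1 F175545) (iv5 F202656) D205444 F383149 (iv5 F250316) F415468 F415466 F352301 D163135
theorem F436459 : act 0 n191347 = n205444 := d21_4 D178519 F278194 (iv5 F428637) (iv6 F428642) (iv6 D205444) F202656 (iv1 F175544) F317713 F342294 (iv1 F187940)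
def n205445 : Q := act 1 n125978
theorem D205445 : act 1 n125978 = n205445 := rfl
theorem F436460 : act 1 n205445 = n163172 := d15_1 D205445 (iv7 F436382) F436378
theorem F436461 : act 7 n205445 = n163185 := d15_2 F409566 D205445 (iv2 F409562)
theorem F436462 : act 4 n205445 = n200173 := d18_7 (iv1 F202661) (iv4 D58993) (iv1 D28032) (iv4 F45301) D58984 D125978 D205445 F415384 F409560
theorem F436463 : act 2 n163184 = n205445 := d1_3 F436462 F415380 F409572
def n205446 : Q := act 5 n125978
theorem D205446 : act 5 n125978 = n205446 := rfl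
theorem F436464 : act 2 n205446 = n145654 := d2_1 D205446 (iv5 F436380) F436378
theorem F436465 : act 4 n205446 = n145643 := d9_1 D205446 (iv5 D145643) (iv4 D68271) (iv5 F93181) (iv4 F325127) D78435 D163172 (iv5 F351858) (iv4 F351857) (iv5 D117098) (iv4 D53962) F41276 (iv4 F45301) D58984 D125978
theorem F436466 : act 7 n205446 = n163187 := d13_2 (iv7 F325668) D205446 (iv5 D163187)
theorem F436467 : act 0 n205446 = n140335 := d17_2 (iv1 D205445) D205446 (iv5 D140335) (iv4 F351688) (iv5 D125983) F202619 D195059 F415383 (iv4 F436462)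
theorem F436468 : act 1 n205446 = n196302 := d17_6 (iv1 F350816) F350818 (iv1 D58983) D58984 D125978 D205446 (iv5 F405266) (iv0 F405269) F404288
def n205447 : Q := act 0 n125984
theorem D205447 : act 0 n125984 = n205447 := rfl
theorem F436469 : act 5 n205447 = n195406 := d17_1 D205447 (iv1 D195406) (iv5 D105567) F76877 (iv5 F39853) D52036 D112738 (iv0 F175514) D125984
theorem F436470 : act 4 n205447 = n196609 := d18_3 F166178 D125984 D205447 (iv5 D196609) (iv4 F175495) F175493 F170730 (iv0 F166176) D68299
theorem F436471 : act 2 n195450 = n205447 := d15_3 (iv0 D205447) F403987 F403984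
theorem F436472 : act 1 n125990 = n205447 := d15_0 (iv0 D205447) (iv7 F404338) F404335
theorem F436473 : act 6 n195304 = n205447 := d21_3 D108068 F396645 F396644 (iv1 F436472) F202669 F351840 (iv1 F245707) (iv5 F403824) (iv6 D197282) (iv1 D108067)
theorem F436474 : act 6 n195406 = n144410 := d12_2 F436473 F436469 (iv5 D144410) D144411 F396644
theorem F436475 : act 3 n144412 = n195406 := d7_3 F436474 F227192 D144412
def n205448 : Q := act 3 n125984
theorem D205448 : act 3 n125984 = n205448 := rfl
theorem F436476 : act 4 n205448 = n193933 := d5_2 D125984 D205448 (iv3 F391440) (iv4 F220779) F202659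
def n205449 : Q := act 5 n125984
theorem D205449 : act 5 n125984 = n205449 := rfl
theorem F436477 : act 7 n205449 = n179918 := d13_2 F404338 D205449 (iv5 F404337)
theorem F436478 : act 4 n205449 = n196302 := d16_2 D125984 D205449 (iv5 F405266) F405265 (iv5 D125988) (iv4 D58993) D58994 (iv7 F202622) F202621
theorem F436479 : act 1 n205449 = n197264 := d17_6 (iv1 F76886) F41276 D28031 D58989 D125984 D205449 (iv5 D197264) F167068 F162146
theorem F436480 : act 6 n196300 = n205449 := d10_0 F436478 (iv6 D196302) D196300
def n205450 : Q := act 5 n125990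
theorem D205450 : act 5 n125990 = n205450 := rfl
theorem F436481 : act 2 n205450 = n179918 := d2_1 D205450 (iv5 F404337) F404335
theorem F436482 : act 3 n205450 = n197255 := d6_1 D205450 (iv5 F425969) F425968
theorem F436483 : act 4 n205450 = n140335 := d9_1 D205450 (iv5 D140335) (iv4 F351688) (iv5 D125983) (iv4 D58988) D58989 D125984 D205449 F436478 (iv5 F405266) F405265 (iv5 D125988) (iv4 D58993) D58994 D125990
theorem F436484 : act 6 n205450 = n156348 := d12_2 (iv6 F202669) D205450 (iv5 D156348) F111595 (iv5 F351840)
theorem F436485 : act 0 n205450 = n197264 := d17_2 (iv1 F436472) D205450 (iv5 D197264) F167066 F95716 F327217 (iv5 F327225) (iv0 F401220) (iv4 F436470)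
def n205451 : Q := act 4 n125998
theorem D205451 : act 4 n125998 = n205451 := rfl
theorem F436486 : act 2 n205451 = n126014 := d1_1 D205451 (iv4 D126014) (iv2 F202679)
theorem F436487 : act 3 n205451 = n126571 := d5_1 D205451 F345894 F208190 D129854 F345865
theorem F436488 : act 5 n205451 = n126567 := d9_2 D125998 D205451 (iv4 F208157) F361164 F96688 F47062 F322459 (iv5 F320259) (iv4 F95325) D129153 (iv4 F361168) (iv5 D132184) F96611 F47035 (iv4 F93213)
theorem F436489 : act 7 n205451 = n129146 := d11_2 (iv7 F324942) D205451 F207387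
theorem F436490 : act 0 n205451 = n129152 := d18_2 (iv1 F324939) D205451 (iv4 F351674) (iv5 D112614) (iv4 D51963) F81984 F326767 F326512 F325143
theorem F436491 : act 1 n205451 = n129151 := d18_6 (iv1 F363224) (iv4 F168980) F93694 (iv4 F93213) D125998 D205451 (iv4 F365995) D200085 F414958
def n205452 : Q := act 3 n126000
theorem D205452 : act 3 n126000 = n205452 := rfl
theorem F436492 : act 2 n205452 = n137306 := d0_1 D205452 F220457 F100485 (iv3 F355461) F355460
theorem F436493 : act 4 n205452 = n133970 := d5_2 F414601 D205452 F430986 F430981 (iv3 F414606)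
theorem F436494 : act 5 n205452 = n137302 := d6_2 F354122 D205452 F220454
theorem F436495 : act 7 n205452 = n193588 := d8_2 (iv7 F355465) D205452 F390371
theorem F436496 : act 0 n205452 = n199757 := d20_10 (iv4 D199757) (iv1 D111679) D111681 F325225 F323944 D110000 (iv4 F174580) D200009 F414601 D205452
theorem F436497 : act 0 n192663 = n205452 := d20_4 F82587 D58912 D125796 (iv3 F387408) (iv3 D205452) (iv4 F414601) (iv1 F414603) F408651 F358201 (iv1 D113154)
def n205453 : Q := act 6 n126000
theorem D205453 : act 6 n126000 = n205453 := rfl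
theorem F436498 : act 2 n205453 = n200462 := d3_1 D205453 (iv6 D200462) F355460
theorem F436499 : act 4 n205453 = n158041 := d10_1 D205453 F414605 F414601
theorem F436500 : act 0 n205453 = n190406 := d21_4 D110405 (iv1 F344623) F354122 D205453 F379688 F361222 (iv1 F286027) F348704 F344645 (iv1 D110403)
theorem F436501 : act 1 n205453 = n126011 := d15_1 (iv0 F436500) (iv7 F394688) F394685
theorem F436502 : act 0 n204071 = n158053 := d20_4 F394699 (iv1 F436501) F436499 (iv3 F430978) (iv3 D158053) (iv4 F358096) F394839 F394837 (iv3 F362542) (iv1 F394703)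
def n205454 : Q := act 6 n126001
theorem D205454 : act 6 n126001 = n205454 := rfl
theorem F436503 : act 2 n205454 = n200461 := d3_1 D205454 (iv6 D200461) (iv2 F355464)
theorem F436504 : act 3 n205454 = n160542 := d7_1 D205454 (iv6 F341234) F354125
theorem F436505 : act 4 n205454 = n160832 := d10_1 D205454 (iv6 F414570) F414573
theorem F436506 : act 7 n205454 = n160538 := d14_2 F355463 D205454 (iv6 F429962) F429963 (iv6 D200462)
theorem F436507 : act 0 n205454 = n163682 := d21_4 F376066 (iv1 F376067) F354126 D205454 (iv6 D163682) F254383 (iv1 F254290) D180621 (iv6 F344641) (iv1 F175532)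
theorem F436508 : act 0 n172517 = n205454 := d21_4 F344685 (iv1 D162724) F303459 D172517 (iv6 D205454) (iv5 F354126) F344622 (iv5 D110405) D110406 (iv1 F344684)
def n205455 : Q := act 0 n126003
theorem D205455 : act 0 n126003 = n205455 := rfl
theorem F436509 : act 5 n205455 = n132956 := d17_1 D205455 (iv1 D132956) D132958 (iv4 F370272) (iv5 D187423) F370138 (iv5 F380660) F380663 F352021
theorem F436510 : act 4 n205455 = n189877 := d18_1 D205455 (iv1 F378066) F204925 (iv5 F325580) (iv4 F186601) F312342 (iv4 F127676) (iv0 F319327) (iv5 F333683)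
theorem F436511 : act 3 n205455 = n192638 := d20_5 (iv4 F170607) F161246 (iv4 F93223) (iv3 F202695) D205455 (iv4 F400784) (iv1 F400787) F358678 F171153 (iv1 F170606)
theorem F436512 : act 6 n205455 = n150666 := d21_5 (iv5 F344730) (iv1 D115690) (iv5 F93220) D126003 D205455 (iv5 D150666) (iv1 D71037) D71038 (iv6 F328793) (iv1 F175533)
theorem F436513 : act 2 n147177 = n205455 := d15_3 (iv0 D205455) (iv0 F380604) F380603
theorem F436514 : act 1 n131671 = n205455 := d15_0 (iv0 D205455) F202697 (iv2 F333680)
theorem F436515 : act 7 n205455 = n147176 := d15_2 (iv0 F380605) F436514 (iv2 F380599)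
def n205456 : Q := act 2 n126009
theorem D205456 : act 2 n126009 = n205456 := rfl
theorem F436516 : act 3 n205456 = n190406 := d0_2 D126009 D205456 (iv2 F394685) F394686 F174613
theorem F436517 : act 4 n205456 = n166583 := d1_2 (iv4 F202702) D205456 (iv2 F358050)
theorem F436518 : act 5 n205456 = n185900 := d2_2 (iv5 F363988) D205456 F363983
theorem F436519 : act 7 n205456 = n200497 := d4_2 F429921 D205456 (iv2 F429924)
theorem F436520 : act 1 n205456 = n200489 := d15_0 (iv0 F429922) F429921 D205456
theorem F436521 : act 1 n200499 = n205456 := d15_0 F436520 (iv7 F429949) (iv2 F429951)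
theorem F436522 : act 6 n172170 = n205456 := d14_5 F436519 (iv6 F436437) F436438 F394731 F394728
def n205457 : Q := act 6 n126009
theorem D205457 : act 6 n126009 = n205457 := rfl
theorem F436523 : act 2 n205457 = n172170 := d3_1 D205457 F436522 (iv2 D205456)
theorem F436524 : act 3 n205457 = n126010 := d7_1 D205457 (iv6 D126010) D126009
theorem F436525 : act 4 n205457 = n191554 := d10_1 D205457 (iv6 F383791) (iv4 F202702)
theorem F436526 : act 5 n205457 = n191533 := d12_1 D205457 (iv6 F433962) F433959 F364574 (iv5 F363988)
theorem F436527 : act 7 n205457 = n163127 := d14_2 F429921 D205457 (iv6 D163127) (iv7 F327212) (iv6 F429920)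
theorem F436528 : act 0 n205457 = n172173 := d21_4 F414886 (iv1 F334341) (iv5 F363988) D205457 F303453 F127193 F155167 D98965 D191814 F414889
theorem F436529 : act 0 n158342 = n205457 := d21_4 (iv5 D37906) (iv1 F54801) (iv5 F113313) D158342 (iv6 D205457) F363988 (iv1 D134593) D134594 F321673 (iv1 D82578)
def n205458 : Q := act 2 n126011
theorem D205458 : act 2 n126011 = n205458 := rfl
theorem F436530 : act 3 n205458 = n200497 := d0_2 D126011 D205458 (iv2 F429924) (iv3 D203811) F322460
theorem F436531 : act 4 n205458 = n176851 := d1_2 F394699 D205458 (iv2 F394697)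
theorem F436532 : act 5 n205458 = n200827 := d2_2 F414932 D205458 F418078
theorem F436533 : act 6 n205458 = n163147 := d3_2 (iv6 F327219) D205458 (iv2 D163147)
theorem F436534 : act 7 n205458 = n190406 := d4_2 F394688 D205458 (iv2 F394685)
theorem F436535 : act 1 n200462 = n205458 := d15_1 (iv0 F416538) F436534 (iv2 F394685)
def n205459 : Q := act 3 n126012
theorem D205459 : act 3 n126012 = n205459 := rfl
theorem F436536 : act 5 n205459 = n164977 := d6_2 (iv5 F327266) D205459 (iv3 D164977)
theorem F436537 : act 6 n205459 = n172448 := d7_2 F350907 D205459 F350912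
theorem F436538 : act 7 n205459 = n129345 := d8_2 (iv7 F325145) D205459 (iv3 D129345)
theorem F436539 : act 4 n205459 = n133212 := d20_6 (iv4 D29401) (iv1 F23305) (iv4 F46480) F324945 D126012 D205459 (iv1 D133212) F97479 F47421 (iv1 F79856)
theorem F436540 : act 0 n200498 = n205459 := d18_0 F436539 (iv1 D133212) F97479 D62543 (iv4 F320967) (iv0 F361882) (iv4 F202702) (iv0 F363989) D200498
def n205460 : Q := act 4 n126012
theorem D205460 : act 4 n126012 = n205460 := rfl
theorem F436541 : act 2 n205460 = n129351 := d1_1 D205460 (iv4 D129351) (iv2 F325144)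
theorem F436542 : act 7 n205460 = n129346 := d11_2 (iv7 F325145) D205460 (iv4 D129346)
theorem F436543 : act 1 n205460 = n198165 := d18_6 D112607 F175202 (iv1 F172588) F327265 (iv5 F327266) D205460 (iv4 D198165) (iv0 F175207) (iv5 D112609)
def n205461 : Q := act 0 n126014
theorem D205461 : act 0 n126014 = n205461 := rfl
theorem F436544 : act 4 n205461 = n200059 := d18_3 F327233 D126014 D205461 (iv5 D200059) (iv4 D112548) F81978 F325952 F327262 D121789
theorem F436545 : act 1 n129146 = n205461 := d15_0 (iv0 D205461) F324948 (iv2 F207386)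
theorem F436546 : act 2 n129152 = n205461 := d1_3 F436544 F414834 F351674
theorem F436547 : act 7 n129151 = n205461 := d11_0 F436544 F414835 F365995
def n205462 : Q := act 1 n126014
theorem D205462 : act 1 n126014 = n205462 := rfl
theorem F436548 : act 1 n205462 = n129146 := d15_1 D205462 (iv7 F436489) F436486
theorem F436549 : act 7 n205462 = n129152 := d15_2 (iv0 D205461) D205462 F436546
theorem F436550 : act 4 n205462 = n130813 := d18_7 F172746 (iv4 D59029) (iv1 D28049) (iv4 F45320) D59020 D126014 D205462 (iv0 F351652) (iv5 F351661)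
theorem F436551 : act 2 n129151 = n205462 := d1_3 F436550 (iv2 F359613) F365995
theorem F436552 : act 6 n129160 = n205462 := d10_0 F436550 F351662 (iv4 F334302)
def n205463 : Q := act 5 n126014
theorem D205463 : act 5 n126014 = n205463 := rfl
theorem F436553 : act 2 n205463 = n126567 := d2_1 D205463 (iv5 F436488) F436486
theorem F436554 : act 3 n205463 = n129167 := d6_1 D205463 F207400 (iv3 F324946)
theorem F436555 : act 7 n205463 = n129153 := d13_2 (iv7 F324948) D205463 (iv5 D129153)
theorem F436556 : act 6 n126565 = n205463 := d7_0 F436554 F326007 (iv3 F203547)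
def n205464 : Q := act 2 n126017
theorem D205464 : act 2 n126017 = n205464 := rfl
theorem F436557 : act 3 n205464 = n130167 := d0_2 D126017 D205464 F342181 (iv3 F325138) (iv2 F202596)
theorem F436558 : act 6 n205464 = n194848 := d3_2 F395184 D205464 (iv2 F403037)
theorem F436559 : act 7 n205464 = n204849 := d4_2 F407061 D205464 F433834
theorem F436560 : act 1 n205464 = n164841 := d15_0 (iv0 F407062) F407061 D205464
theorem F436561 : act 5 n205464 = n130165 := d21_0 F351697 D138182 (iv6 F393476) F393479 (iv6 D112721) D112720 (iv1 F227278) (iv5 F170586) F359282 (iv1 F436560)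
def n205465 : Q := act 5 n126017
theorem D205465 : act 5 n126017 = n205465 := rfl
theorem F436562 : act 2 n205465 = n130165 := d2_1 D205465 (iv5 F436561) (iv2 D205464)
theorem F436563 : act 3 n205465 = n126018 := d6_1 D205465 (iv5 D126018) D126017
theorem F436564 : act 7 n205465 = n126746 := d13_2 F407061 D205465 (iv5 F407059)
theorem F436565 : act 4 n205465 = n198940 := d18_5 D138142 (iv4 F414336) F414340 F408923 D205465 F409998 F216580 (iv0 F340130) D64900
theorem F436566 : act 0 n205465 = n130225 := d18_0 F208747 F359623 (iv4 F94030) F322422 D120973 D203817 (iv4 F429954) (iv0 F394704) D205465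
theorem F436567 : act 0 n136231 = n205465 := d21_7 (iv5 F352028) F352030 F346412 (iv6 D147654) (iv1 F175078) F357775 (iv5 F359627) (iv5 D205465) (iv6 F395184) (iv1 D194958)
def n205466 : Q := act 6 n126018
theorem D205466 : act 6 n126018 = n205466 := rfl
theorem F436568 : act 2 n205466 = n130043 := d3_1 D205466 F351692 F351680
theorem F436569 : act 0 n130195 = n205466 := d21_4 F315303 (iv1 F298723) (iv5 F312966) D130195 (iv6 D205466) (iv5 D126018) F168983 F351661 (iv6 D158491) (iv1 F315302)
theorem F436570 : act 4 n205466 = n129657 := d20_0 (iv1 F362145) F362143 (iv3 F212838) (iv1 F212841) D132604 (iv4 F354299) (iv1 F354304) F208718 (iv3 F208705) F436569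
theorem F436571 : act 6 n129657 = n200081 := d10_2 D205466 F436570 F414941
def n205467 : Q := act 6 n126021
theorem D205467 : act 6 n126021 = n205467 := rfl
theorem F436572 : act 2 n205467 = n126745 := d3_1 D205467 F351686 (iv2 F351683)
theorem F436573 : act 3 n205467 = n130163 := d7_1 D205467 (iv6 D130163) (iv3 F345540)
theorem F436574 : act 5 n205467 = n126823 := d12_1 D205467 F436391 (iv5 D205431) F202616 D126021
theorem F436575 : act 0 n126740 = n205467 := d21_4 (iv5 D126733) (iv1 D59463) D59465 D126740 (iv6 D205467) (iv5 D126021) (iv1 F172748) D197065 F402890 (iv1 F220095)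
def n205468 : Q := act 4 n126023
theorem D205468 : act 4 n126023 = n205468 := rfl
theorem F436576 : act 2 n205468 = n126046 := d1_1 D205468 (iv4 D126046) (iv2 F202718)
theorem F436577 : act 5 n205468 = n126270 := d9_2 D126023 D205468 (iv4 F380733) (iv5 D190709) F148457 F323115 (iv4 F93246) (iv5 F202754) (iv4 F435961) F435963 (iv4 F395372) F395373 F160854 F320743 D59045
theorem F436578 : act 6 n205468 = n200542 := d10_2 F436114 D205468 (iv4 F436111)
theorem F436579 : act 7 n205468 = n126087 := d11_2 (iv7 F202720) D205468 (iv4 D126087)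
theorem F436580 : act 0 n205468 = n198517 := d18_2 (iv1 F357904) D205468 (iv4 D198517) (iv5 D109402) (iv4 D50476) F323898 (iv4 F131975) (iv0 F299412) D162916
theorem F436581 : act 3 n205468 = n200544 := d19_3 F170141 D126023 D205468 F416945 (iv5 D196040) (iv4 F245960) F245959 F111646 (iv5 F326702) (iv4 F164983) (iv3 D107043) F78181 (iv5 F84003) (iv4 F165993) D197071 F402913 (iv5 F323946) (iv4 F409055) (iv3 D198747)
def n205469 : Q := act 5 n126040
theorem D205469 : act 5 n126040 = n205469 := rfl
theorem F436582 : act 2 n205469 = n198099 := d2_1 D205469 (iv5 D198099) F204641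
theorem F436583 : act 3 n205469 = n205423 := d6_1 D205469 F436346 F417777
theorem F436584 : act 4 n205469 = n205150 := d9_1 D205469 (iv5 D205150) (iv4 F410324) F410325 F354400 (iv5 F354401) (iv4 F202203) F202205 (iv4 D125625) (iv5 D58818) (iv4 F92943) (iv5 F172797) F405545 F405541 F202740
theorem F436585 : act 6 n205469 = n205421 := d12_2 F348807 D205469 (iv5 F436336) (iv6 F417979) (iv5 D200804)
theorem F436586 : act 7 n205469 = n198097 := d13_2 F204634 D205469 (iv5 D198097)
theorem F436587 : act 1 n205469 = n200552 := d17_6 (iv1 D108617) D108619 D197728 F405541 F202740 D205469 F416959 F366141 F202065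
theorem F436588 : act 0 n205469 = n205234 := d21_1 D205469 F435546 (iv6 D185560) D185557 (iv6 F380696) (iv5 F395377) (iv1 F395378) (iv5 F380475) F380476 (iv1 F202744)
def n205470 : Q := act 6 n126041
theorem D205470 : act 6 n126041 = n205470 := rfl
theorem F436589 : act 2 n205470 = n126043 := d3_1 D205470 (iv6 D126043) D126041
theorem F436590 : act 3 n205470 = n177438 := d7_1 D205470 (iv6 F357906) (iv3 F202741)
theorem F436591 : act 5 n205470 = n200519 := d12_1 D205470 (iv6 D200519) F358966 (iv6 F435819) F435816
theorem F436592 : act 7 n205470 = n177015 := d14_2 (iv7 F202742) D205470 F276420 (iv7 F380477) F380476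
theorem F436593 : act 0 n205470 = n177014 := d21_4 F202218 D205293 F435816 D205470 F382534 F382533 F382590 F294067 D185560 F366140
theorem F436594 : act 1 n205470 = n177013 := d15_1 (iv0 F436593) (iv7 F435824) F435821
def n205471 : Q := act 3 n126044
theorem D205471 : act 3 n126044 = n205471 := rfl
theorem F436595 : act 2 n205471 = n205268 := d0_1 D205471 F435681 (iv2 F349553) (iv3 F433995) F433994
theorem F436596 : act 5 n205471 = n180475 := d6_2 (iv5 F202748) D205471 (iv3 F323184)
theorem F436597 : act 4 n205338 = n205471 := d19_2 F360194 (iv5 F435972) (iv3 D205471) (iv1 F202749) (iv5 D59077) (iv4 D28066) F319470 D27918 D58721 (iv4 F321462) F169003 F325254 (iv5 D59580) (iv4 F48810) (iv3 F82536) F101881 D66272 D141285 (iv3 F360186)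
theorem F436598 : act 6 n205471 = n205369 := d10_2 (iv6 F435974) F436597 F436106
def n205472 : Q := act 6 n126044
theorem D205472 : act 6 n126044 = n205472 := rfl
theorem F436599 : act 3 n205472 = n205369 := d7_1 D205472 (iv6 F436598) (iv3 D205471)
theorem F436600 : act 7 n205472 = n205368 := d14_2 (iv7 F360842) D205472 F436104 F416905 F360841
def n205473 : Q := act 6 n126055
theorem D205473 : act 6 n126055 = n205473 := rfl
theorem F436601 : act 3 n205473 = n183459 := d7_1 D205473 (iv6 F418027) F418024
theorem F436602 : act 4 n205473 = n200648 := d10_1 D205473 F417351 F398081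
theorem F436603 : act 0 n205473 = n196220 := d21_4 (iv5 F324453) F324450 D126055 D205473 (iv6 D196220) (iv5 F382207) F382209 (iv5 F352535) (iv6 D126419) (iv1 F203219)
theorem F436604 : act 0 n129042 = n205473 := d21_4 F377705 (iv1 F380698) (iv5 F395382) (iv6 F395385) (iv6 D205473) (iv5 D126055) F323912 (iv5 F323913) F358302 (iv1 F377707)
def n205474 : Q := act 4 n126085
theorem D205474 : act 4 n126085 = n205474 := rfl
theorem F436605 : act 2 n205474 = n200543 := d1_1 D205474 (iv4 D200543) (iv2 F202787)
theorem F436606 : act 7 n205474 = n200540 := d11_2 (iv7 F202789) D205474 (iv4 D200540)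
def n205475 : Q := act 6 n126085
theorem D205475 : act 6 n126085 = n205475 := rfl
theorem F436607 : act 2 n205475 = n200544 := d3_1 D205475 (iv6 D200544) (iv2 F202787)
theorem F436608 : act 3 n205475 = n126088 := d7_1 D205475 (iv6 D126088) (iv3 F202788)
theorem F436609 : act 5 n205475 = n200811 := d12_1 D205475 F418007 (iv5 D125378) F321454 D126085
theorem F436610 : act 7 n200820 = n205475 := d13_0 F436609 (iv7 F418010) D200820
def n205476 : Q := act 3 n126087
theorem D205476 : act 3 n126087 = n205476 := rfl
theorem F436611 : act 5 n205476 = n200812 := d6_2 (iv5 F398085) D205476 F418016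
theorem F436612 : act 7 n205476 = n200544 := d8_2 F436579 D205476 (iv3 F436581)
theorem F436613 : act 2 n200820 = n205476 := d4_3 F436612 (iv2 F436607) (iv7 F436610)
def n205477 : Q := act 0 n126088
theorem D205477 : act 0 n126088 = n205477 := rfl
def n205478 : Q := act 1 n126088
theorem D205478 : act 1 n126088 = n205478 := rfl
def n205479 : Q := act 6 n126114
theorem D205479 : act 6 n126114 = n205479 := rfl
theorem F436614 : act 2 n205479 = n126419 := d3_1 D205479 (iv6 D126419) (iv2 F202804)
theorem F436615 : act 4 n205479 = n128715 := d10_1 D205479 F436169 F436166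
theorem F436616 : act 5 n205479 = n163473 := d12_1 D205479 (iv6 D163473) F119746 F325590 D126114
def n205480 : Q := act 3 n126128
theorem D205480 : act 3 n126128 = n205480 := rfl
theorem F436617 : act 4 n205480 = n198529 := d5_2 (iv4 F330430) D205480 F414518 F414515 (iv3 F297445)
theorem F436618 : act 6 n205480 = n166079 := d7_2 (iv6 F330431) D205480 (iv3 D166079)
theorem F436619 : act 7 n205480 = n205389 := d8_2 (iv7 F330432) D205480 (iv3 D205389)
theorem F436620 : act 0 n205480 = n205346 := d20_4 F323931 F257902 (iv4 F330430) D205480 F436012 (iv4 F355974) (iv1 F404469) F404467 (iv3 F333451) (iv1 F333474)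
def n205481 : Q := act 0 n126130
theorem D205481 : act 0 n126130 = n205481 := rfl
theorem F436621 : act 5 n205481 = n135692 := d17_1 D205481 (iv1 D135692) (iv5 D63806) F48373 D30129 F48432 D63865 F209514 (iv4 F330456)
theorem F436622 : act 2 n128693 = n205481 := d15_3 (iv0 D205481) (iv0 F418653) F418651
theorem F436623 : act 1 n128584 = n205481 := d15_0 (iv0 D205481) F202834 F360026
theorem F436624 : act 7 n205481 = n128694 := d15_2 F418654 F436623 (iv2 F418650)
theorem F436625 : act 6 n205481 = n200781 := d3_2 F401529 F436622 F417885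
theorem F436626 : act 3 n200783 = n205481 := d7_3 F436625 (iv3 D200781) D200783
def n205482 : Q := act 0 n126154
theorem D205482 : act 0 n126154 = n205482 := rfl
theorem F436627 : act 4 n205482 = n140672 := d18_3 D59116 D126154 D205482 F386486 D196782 (iv0 F401782) (iv4 D195906) (iv0 D106423) F77664
theorem F436628 : act 1 n126157 = n205482 := d15_0 (iv0 D205482) F202848 (iv2 F202854)
theorem F436629 : act 2 n196611 = n205482 := d1_3 F436627 (iv2 F402420) F402421
theorem F436630 : act 6 n140671 = n205482 := d10_0 F436627 (iv6 D140672) D140671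
theorem F436631 : act 7 n196610 = n205482 := d11_0 F436627 F386487 (iv4 F401222)
def n205483 : Q := act 1 n126154
theorem D205483 : act 1 n126154 = n205483 := rfl
theorem F436632 : act 1 n205483 = n126157 := d15_1 D205483 F202855 (iv2 F202846)
theorem F436633 : act 7 n205483 = n196611 := d15_2 (iv0 D205482) D205483 F436629
theorem F436634 : act 4 n205483 = n196805 := d18_7 (iv1 F402266) (iv4 F402269) (iv1 D196562) (iv4 D107079) (iv5 F166899) D126154 D205483 F401859 F401189
theorem F436635 : act 2 n196610 = n205483 := d1_3 F436634 F401856 (iv4 F401222)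
theorem F436636 : act 3 n195344 = n205483 := d5_5 F436634 F401857 (iv4 D139461) D139460 F396771
theorem F436637 : act 6 n205483 = n153577 := d7_2 (iv6 F396773) F436636 (iv3 F386675)
def n205484 : Q := act 5 n126154
theorem D205484 : act 5 n126154 = n205484 := rfl
theorem F436638 : act 2 n205484 = n196617 := d2_1 D205484 (iv5 D196617) (iv2 F202846)
theorem F436639 : act 3 n205484 = n145505 := d6_1 D205484 (iv5 D145505) (iv3 F202847)
theorem F436640 : act 7 n205484 = n196612 := d13_2 (iv7 F202848) D205484 (iv5 D196612)
def n205485 : Q := act 6 n126154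
theorem D205485 : act 6 n126154 = n205485 := rfl
theorem F436641 : act 2 n205485 = n196618 := d3_1 D205485 (iv6 D196618) (iv2 F202846)
theorem F436642 : act 3 n205485 = n145506 := d7_1 D205485 (iv6 D145506) (iv3 F202847)
theorem F436643 : act 4 n205485 = n126155 := d10_1 D205485 (iv6 D126155) D126154
def n205486 : Q := act 5 n126155
theorem D205486 : act 5 n126155 = n205486 := rfl
theorem F436644 : act 2 n205486 = n196620 := d2_1 D205486 (iv5 D196620) (iv2 F202849)
theorem F436645 : act 3 n205486 = n145516 := d6_1 D205486 (iv5 D145516) (iv3 F202850)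
theorem F436646 : act 6 n205486 = n196567 := d12_2 D126155 D205486 (iv5 D196567) (iv6 D107081) (iv5 F166899)
theorem F436647 : act 0 n198784 = n205486 := d21_10 (iv5 D205486) F365132 F223788 (iv6 D66022) F49347 D51483 F343735 (iv1 F80197) D110246 D198784
theorem F436648 : act 1 n179795 = n205486 := d15_0 (iv0 F436647) F409222 (iv2 F366922)
theorem F436649 : act 4 n204213 = n205486 := d10_3 F436646 F401099 F431506
theorem F436650 : act 7 n205486 = n204542 := d11_2 (iv7 F431505) F436649 (iv4 D204542)
theorem E103900 : n204542 = n198804 := ((c15_2 (iv0 F401232) D198804 (iv7 F436650) F436644)).symm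
theorem F436651 : act 4 n198804 = n123978 := (sb E103900 (iv4 D204542))
theorem F436652 : act 7 n198804 = n205486 := (sb E103900 (iv7 F436650))
theorem F436653 : act 4 n198313 = n204645 := d20_8 (iv4 F198614) (iv1 F409323) F436651 (iv3 F394058) (iv1 F432423) (iv3 F388612) F388613 D198313 (iv3 D204645) (iv1 D124157)
def n205487 : Q := act 7 n126155
theorem D205487 : act 7 n126155 = n205487 := rfl
theorem F436654 : act 2 n205487 = n196621 := d4_1 D205487 (iv7 D196621) (iv2 F202849)
theorem F436655 : act 3 n205487 = n145517 := d8_1 D205487 (iv7 D145517) (iv3 F202850)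
theorem F436656 : act 5 n205487 = n198804 := d13_1 D205487 F436652 (iv5 D205486)
theorem F436657 : act 6 n205487 = n196418 := d14_1 D205487 F425495 (iv6 D107139) (iv7 F182500) D126155
theorem F436658 : act 1 n196619 = n205487 := d15_1 D196619 (iv7 D205487) F202849
theorem F436659 : act 1 n205487 = n145318 := d15_1 F436658 (iv7 F402199) (iv2 F402202)
def n205488 : Q := act 6 n126156
theorem D205488 : act 6 n126156 = n205488 := rfl
theorem F436660 : act 2 n205488 = n145475 := d3_1 D205488 (iv6 D145475) (iv2 F202851)
theorem F436661 : act 3 n205488 = n126158 := d7_1 D205488 (iv6 D126158) D126156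
def n205489 : Q := act 5 n126157
theorem D205489 : act 5 n126157 = n205489 := rfl
theorem F436662 : act 2 n205489 = n196612 := d2_1 D205489 (iv5 D196612) (iv2 F202854)
theorem F436663 : act 3 n205489 = n195387 := d6_1 D205489 (iv5 D195387) F202856
theorem F436664 : act 7 n205489 = n196617 := d13_2 (iv7 F202855) D205489 (iv5 D196617)
theorem F436665 : act 4 n205489 = n198148 := d16_2 D126157 D205489 F406983 (iv4 F423028) (iv5 D196564) (iv4 D107079) (iv5 F166899) F182500 (iv2 F182522)
theorem F436666 : act 6 n198147 = n205489 := d10_0 F436665 (iv6 D198148) D198147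
theorem F436667 : act 6 n196612 = n198237 := d3_2 F436666 F436662 (iv2 F407309)
def n205490 : Q := act 6 n126157
theorem D205490 : act 6 n126157 = n205490 := rfl
theorem F436668 : act 2 n205490 = n196613 := d3_1 D205490 (iv6 D196613) (iv2 F202854)
theorem F436669 : act 3 n205490 = n195388 := d7_1 D205490 (iv6 D195388) F202856
theorem F436670 : act 4 n205490 = n126158 := d10_1 D205490 (iv6 D126158) D126157
theorem F436671 : act 5 n196711 = n205490 := d6_0 F436669 (iv5 F396905) (iv3 F401568)
def n205491 : Q := act 1 n126158
theorem D205491 : act 1 n126158 = n205491 := rfl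
theorem F436672 : act 1 n205491 = n196418 := d15_1 D205491 F425495 (iv2 F202857)
theorem F436673 : act 7 n205491 = n196417 := d15_2 (iv0 F364147) D205491 F400634
theorem F436674 : act 6 n140620 = n205491 := d21_3 (iv5 D65985) D65983 D140620 (iv1 D205491) (iv6 D126158) F182523 (iv1 D49465) (iv5 F37899) D49553 F342500
theorem F436675 : act 2 n145304 = n205491 := d4_3 F436673 F400634 (iv7 F228335)
theorem F436676 : act 3 n196572 = n205491 := d8_3 F436673 (iv3 F415031) (iv7 F415033)
def n205492 : Q := act 5 n126158
theorem D205492 : act 5 n126158 = n205492 := rfl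
theorem F436677 : act 2 n205492 = n196614 := d2_1 D205492 (iv5 D196614) (iv2 F202857)
theorem F436678 : act 6 n205492 = n196573 := d12_2 D126158 D205492 (iv5 D196573) (iv6 D107086) (iv5 F182523)
theorem F436679 : act 1 n205492 = n198745 := d17_8 (iv1 F407591) F407589 (iv1 F363337) (iv5 F433284) F433283 (iv5 D196419) (iv0 F364147) D205492 (iv4 F409047)
theorem F436680 : act 7 n197933 = n205492 := d15_2 (iv0 F413115) (iv0 F413116) F436677
theorem F436681 : act 4 n205492 = n197934 := d11_1 F436680 (iv7 D197934) D197933
theorem E103901 : n204769 = n196573 := (c10_4 (iv6 F436678) F436681 (iv6 F406236) D204769)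
theorem F436682 : act 4 n196573 = n124311 := (sb E103901 (iv4 D204769))
theorem F436683 : act 4 n204079 = n200107 := d1_2 F436682 F431005 F415037
theorem F436684 : act 4 n204768 = n162667 := d5_2 F436682 D204768 F256906 D162671 (iv3 F401112)
theorem F436685 : act 4 n204770 = n152747 := d18_5 F406288 (iv4 F429384) F433757 F436682 D204770 (iv0 F366406) (iv4 F389400) (iv0 D193286) D193289
theorem F436686 : act 0 n204768 = n187328 := d20_4 (iv4 F429384) F433757 F436682 D204768 (iv3 D187328) (iv4 D89904) F290677 (iv4 F156254) (iv3 F389404) F406288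
theorem F436687 : act 5 n128013 = n204768 := d17_1 F264248 F436686 (iv5 F369849) (iv4 D142067) (iv5 F319307) F201234 (iv5 F190679) F188362 D167809
theorem F436688 : act 3 n204770 = n128013 := d6_3 F436687 (iv3 D204768) D204770
theorem F436689 : act 7 n200107 = n204771 := d11_2 (iv7 F431006) F436683 (iv4 D204771)
theorem F436690 : act 5 n204771 = n200108 := d13_1 F436689 (iv7 D200108) D200107
theorem F436691 : act 1 n203678 = n204771 := d15_1 (iv0 F433757) (iv7 F436689) F415037
def n205493 : Q := act 7 n126158
theorem D205493 : act 7 n126158 = n205493 := rfl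
theorem F436692 : act 2 n205493 = n196418 := d4_1 D205493 F425495 (iv2 F202857)
theorem F436693 : act 5 n205493 = n197933 := d13_1 D205493 F436680 (iv5 D205492)
theorem F436694 : act 6 n205493 = n196621 := d14_1 D205493 (iv7 D196621) (iv6 D107144) (iv7 F182524) D126158
theorem F436695 : act 1 n145304 = n205493 := d15_1 (iv0 F340815) (iv7 D205493) F202857
theorem F436696 : act 1 n205493 = n196417 := d15_1 F436695 (iv7 F436673) (iv2 F436675)
def n205494 : Q := act 3 n126161
theorem D205494 : act 3 n126161 = n205494 := rfl
theorem F436697 : act 2 n205494 = n151154 := d0_1 D205494 (iv3 D151154) F107718 (iv3 F109227) (iv2 F326609)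
theorem F436698 : act 5 n205494 = n187522 := d6_2 F407570 D205494 F407574
theorem F436699 : act 6 n205494 = n198230 := d7_2 F331105 D205494 F407281
theorem F436700 : act 7 n205494 = n153520 := d8_2 (iv7 F326610) D205494 F241277
theorem F436701 : act 4 n154687 = n205494 := d20_2 F371621 (iv1 F242845) (iv3 D205494) (iv1 D126161) F93292 F45370 D28086 (iv4 F111182) D110982 F371601
theorem F436702 : act 0 n205494 = n153519 := d17_0 (iv5 F373395) F373397 (iv5 F241266) F237849 D154712 (iv0 F371591) F371590 F242847 F436701
theorem F436703 : act 1 n205494 = n153518 := d18_6 (iv1 F371565) (iv4 D187806) (iv1 D90586) D90587 (iv5 F242843) F436701 F359361 D191984 F385094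
def n205495 : Q := act 4 n126161
theorem D205495 : act 4 n126161 = n205495 := rfl
theorem F436704 : act 2 n205495 = n153580 := d1_1 D205495 F241393 (iv2 F326609)
theorem F436705 : act 6 n205495 = n198238 := d10_2 F331105 D205495 F407312
theorem F436706 : act 7 n205495 = n153578 := d11_2 (iv7 F326610) D205495 F241390
theorem F436707 : act 0 n153576 = n205495 := d20_10 (iv4 D205495) (iv1 D126161) (iv4 F169284) F169283 (iv1 F162092) D195377 F396859 (iv1 F189702) D155913 (iv3 F244901)
theorem F436708 : act 1 n153577 = n205495 := d15_1 D153577 F436706 (iv2 D153578)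
def n205496 : Q := act 0 n126162
theorem D205496 : act 0 n126162 = n205496 := rfl
theorem F436709 : act 3 n205496 = n128384 := d20_5 F340040 F178556 F335535 (iv3 F202860) D205496 F206501 (iv1 F339899) F339901 (iv3 F339940) F339937
theorem F436710 : act 5 n205496 = n128383 := d21_0 (iv1 F400711) (iv5 D179798) (iv6 D85874) D85870 D179786 (iv5 F413598) (iv1 D195911) D195912 F398701 D205496
theorem F436711 : act 1 n138455 = n205496 := d15_0 (iv0 D205496) (iv7 F364951) F221905
def n205497 : Q := act 4 n126162
theorem D205497 : act 4 n126162 = n205497 := rfl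
theorem F436712 : act 7 n205497 = n134876 := d11_2 F364951 D205497 (iv4 F221906)
def n205498 : Q := act 3 n126164
theorem D205498 : act 3 n126164 = n205498 := rfl
theorem F436713 : act 5 n205498 = n144298 := d6_2 (iv5 F202863) D205498 (iv3 D144298)
theorem F436714 : act 7 n205498 = n196581 := d8_2 F202865 D205498 (iv3 D196581)
theorem F436715 : act 0 n205498 = n191972 := d19_4 (iv1 F350551) (iv5 F374385) F374386 D205498 (iv5 D191972) (iv4 D99435) F73440 F292935 F68451 F32683 F15237 (iv1 F6357) F293703 (iv4 D4435) (iv3 F6341) D9760 D20596 D43539 D93054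
theorem F436716 : act 0 n188378 = n205498 := d20_4 (iv4 D104189) (iv1 F293565) (iv4 F294498) D188378 (iv3 D205498) (iv4 F374386) (iv1 F374388) (iv4 F339936) (iv3 F345141) (iv1 F159721)
def n205499 : Q := act 3 n126165
theorem D205499 : act 3 n126165 = n205499 := rfl
theorem F436717 : act 5 n205499 = n144300 := d6_2 (iv5 F202869) D205499 (iv3 D144300)
theorem F436718 : act 7 n205499 = n196579 := d8_2 (iv7 F202868) D205499 (iv3 D196579)
theorem F436719 : act 0 n153744 = n205499 := d20_4 F206492 (iv1 F235498) F235496 (iv3 F241608) (iv3 D205499) (iv4 F339934) F205421 F339907 (iv3 F165770) F322062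
def n205500 : Q := act 4 n126169
theorem D205500 : act 4 n126169 = n205500 := rfl
theorem F436720 : act 2 n205500 = n141990 := d1_1 D205500 (iv4 F407287) F407283
theorem F436721 : act 6 n205500 = n170812 := d10_2 F207085 D205500 F344448
theorem F436722 : act 7 n205500 = n140340 := d11_2 (iv7 F202884) D205500 F223447
theorem F436723 : act 5 n205500 = n198158 := d16_7 (iv4 F402468) (iv5 F406960) (iv4 D198135) (iv5 D108951) F168014 D126169 D205500 F407029 (iv2 F402469)
theorem F436724 : act 0 n205500 = n140685 := d17_0 F406448 (iv1 D197996) (iv5 D108846) F79642 D50263 D108850 (iv5 F225000) (iv0 F225002) D205500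
theorem F436725 : act 1 n205500 = n140682 := d18_6 (iv1 D24536) (iv4 F38516) D50300 F168014 D126169 D205500 (iv4 D140682) F163952 F163934
def n205501 : Q := act 3 n126175
theorem D205501 : act 3 n126175 = n205501 := rfl
theorem F436726 : act 4 n205501 = n205315 := d5_2 D126175 D205501 (iv3 D205315) (iv4 D125746) (iv3 F168131)
theorem F436727 : act 6 n205501 = n188392 := d7_2 F207116 D205501 (iv3 F415739)
theorem F436728 : act 0 n205501 = n147707 := d19_4 D28093 D59141 D126175 D205501 (iv5 D147707) F105504 (iv3 F105500) (iv1 F353248) F336030 F100070 F48667 D49184 D106445 D195934 F405726 (iv1 D197774) (iv5 D108656) F79508 F45396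
def n205502 : Q := act 5 n126175
theorem D205502 : act 5 n126175 = n205502 := rfl
theorem F436729 : act 2 n205502 = n199911 := d2_1 D205502 F414109 (iv2 F202901)
theorem F436730 : act 4 n205502 = n205284 := d9_1 D205502 F435766 F417631 (iv5 D126176) (iv4 D59144) D59145 D126178 F346857 (iv4 F175369) F329196 (iv4 F95268) F327965 (iv4 D59140) D59141 D126175
theorem F436731 : act 7 n205502 = n199910 := d13_2 F397847 D205502 F414105
theorem F436732 : act 0 n205502 = n196944 := d17_2 (iv1 F415597) D205502 (iv5 D196944) F165823 F82712 F76531 D105214 F176222 (iv4 F415593)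
theorem F436733 : act 1 n205502 = n130547 := d17_6 (iv1 F45400) (iv5 D28095) D28093 D59141 D126175 D205502 (iv5 D130547) F95725 F85067
theorem F436734 : act 6 n205502 = n186299 := d21_3 (iv5 F415595) (iv1 F415597) D205502 (iv1 D186299) F136140 D88757 (iv1 F350532) (iv5 F346866) F346867 D117026
def n205503 : Q := act 5 n126183
theorem D205503 : act 5 n126183 = n205503 := rfl
theorem F436735 : act 2 n205503 = n190226 := d2_1 D205503 (iv5 F379121) F244992
theorem F436736 : act 3 n205503 = n190271 := d6_1 D205503 (iv5 F382250) F382249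
theorem F436737 : act 6 n205503 = n126184 := d12_2 D126183 D205503 (iv5 D126184) (iv6 D59150) D59149
theorem F436738 : act 0 n205503 = n190215 := d17_2 F390765 D205503 (iv5 D190215) (iv4 F347846) (iv5 F428648) (iv0 F428650) (iv5 D125969) D125968 F342267
theorem F436739 : act 0 n190228 = n205503 := d21_7 (iv5 D30376) D30373 D64517 D137273 F361972 F149851 (iv5 F379132) (iv5 D205503) (iv6 D126183) F93335
theorem F436740 : act 7 n190225 = n205503 := d15_2 F379120 F379133 F436735
def n205504 : Q := act 7 n126183
theorem D205504 : act 7 n126183 = n205504 := rfl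
theorem F436741 : act 3 n205504 = n189290 := d8_1 D205504 (iv7 F382245) F382249
theorem F436742 : act 5 n205504 = n190225 := d13_1 D205504 F436740 (iv5 D205503)
theorem F436743 : act 6 n205504 = n202714 := d14_1 D205504 F425245 (iv6 D155953) F110924 D126183
theorem F436744 : act 0 n147799 = n205504 := d21_4 (iv5 F381795) F378452 (iv5 D189985) (iv6 F342245) F436743 (iv5 D202714) (iv1 D116495) (iv5 F346742) F346721 (iv1 F381797)
def n205505 : Q := act 4 n126184
theorem D205505 : act 4 n126184 = n205505 := rfl
theorem F436745 : act 0 n205505 = n198731 := d18_2 (iv1 F202925) D205505 (iv4 D198731) F170702 (iv4 F169225) F175196 F175194 (iv0 D109365) D109367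
theorem F436746 : act 1 n205505 = n198734 := d18_6 (iv1 F169864) (iv4 F170706) (iv1 D59152) (iv4 F93337) D126184 D205505 (iv4 D198734) F408930 F408929
theorem F436747 : act 3 n163288 = n205505 := d20_5 (iv4 F160695) (iv1 F363601) (iv4 F381667) F257596 D163288 (iv4 D205505) F202924 D198513 F408182 (iv1 D190256)
def n205506 : Q := act 5 n126191
theorem D205506 : act 5 n126191 = n205506 := rfl
theorem F436748 : act 2 n205506 = n176494 := d2_1 D205506 (iv5 F359773) (iv2 F359770)
theorem F436749 : act 3 n205506 = n147152 := d6_1 D205506 F353662 (iv3 F358634)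
theorem F436750 : act 6 n205506 = n128198 := d12_2 F358829 D205506 F356984 (iv6 D174035) D174034
theorem F436751 : act 7 n205506 = n176493 := d13_2 (iv7 F359769) D205506 F353638
theorem F436752 : act 1 n205506 = n147269 := d17_6 (iv1 D105186) (iv5 F93396) (iv1 F358831) (iv5 D126192) D126191 D205506 (iv5 F414878) F414881 (iv4 D195040)
theorem F436753 : act 4 n205506 = n154324 := d18_5 (iv1 D126202) (iv4 D59164) D59161 D126191 D205506 F432290 (iv4 F242445) (iv0 F361985) F227723
theorem F436754 : act 1 n176476 = n205506 := d15_0 F436752 F330309 (iv2 F275778)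
def n205507 : Q := act 4 n126192
theorem D205507 : act 4 n126192 = n205507 := rfl
theorem F436755 : act 2 n205507 = n200642 := d1_1 D205507 (iv4 D200642) F359802
theorem F436756 : act 6 n205507 = n135846 := d10_2 (iv6 F358874) D205507 F335844
theorem F436757 : act 7 n205507 = n200639 := d11_2 (iv7 F359801) D205507 (iv4 D200639)
theorem F436758 : act 3 n205507 = n185794 := d19_3 D59161 D126192 D205507 (iv1 D185794) (iv5 F138933) F336041 F78111 D49397 F78114 (iv4 D24482) (iv3 F37066) F37068 (iv5 D11998) (iv4 F10130) (iv3 F10131) D11984 F19795 (iv4 F22306) D28103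
def n205508 : Q := act 5 n126196
theorem D205508 : act 5 n126196 = n205508 := rfl
theorem F436759 : act 2 n205508 = n176493 := d2_1 D205508 F353638 F359768
theorem F436760 : act 3 n205508 = n159059 := d6_1 D205508 (iv5 F348486) F203162
theorem F436761 : act 7 n205508 = n176494 := d13_2 F352267 D205508 (iv5 F359773)
theorem F436762 : act 0 n205508 = n147269 := d18_0 (iv4 F392167) (iv1 F392169) F233612 F204835 D147691 (iv0 F435283) (iv4 F436396) F436400 D205508
theorem F436763 : act 4 n205508 = n154377 := d19_2 (iv1 F353602) D205508 F358450 F341461 D146924 (iv4 F405416) F405415 F405339 F164789 (iv4 F161950) (iv3 D105496) (iv1 F79796) (iv5 F162183) F162184 (iv3 F169339) D198452 F408066 F330670 (iv3 F250779)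
theorem F436764 : act 6 n159056 = n205508 := d10_0 F436763 (iv6 F354227) F354234
theorem F436765 : act 0 n176476 = n205508 := d20_10 F436763 (iv1 D154377) (iv4 F242445) (iv3 F361968) F161100 (iv3 F174998) (iv4 F180006) (iv1 F181549) D141468 (iv3 F359705)
def n205509 : Q := act 6 n126200
theorem D205509 : act 6 n126200 = n205509 := rfl
theorem F436766 : act 2 n205509 = n126207 := d3_1 D205509 (iv6 D126207) (iv2 F202949)
theorem F436767 : act 3 n205509 = n200684 := d7_1 D205509 (iv6 D200684) (iv3 F202950)
def n205510 : Q := act 1 n126201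
theorem D205510 : act 1 n126201 = n205510 := rfl
theorem F436768 : act 1 n205510 = n126211 := d15_1 D205510 (iv7 D126211) (iv2 F202954)
theorem F436769 : act 7 n205510 = n126208 := d15_2 (iv0 F430128) D205510 (iv2 F430129)
theorem F436770 : act 5 n205510 = n177331 := d18_9 F418218 F418216 F402101 (iv4 F401297) F401298 F257377 F129743 (iv4 F338326) D205510
theorem F436771 : act 3 n177332 = n205510 := d6_3 F436770 (iv3 D177331) D177332
theorem F436772 : act 2 n205510 = n126209 := d0_1 F436771 (iv3 F345739) (iv2 F355911) (iv3 F355908) F299622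
def n205511 : Q := act 6 n126203
theorem D205511 : act 6 n126203 = n205511 := rfl
theorem F436773 : act 2 n205511 = n147594 := d3_1 D205511 (iv6 D147594) (iv2 F231072)
theorem F436774 : act 3 n205511 = n195058 := d7_1 D205511 (iv6 D195058) (iv3 F202961)
theorem F436775 : act 4 n205511 = n188429 := d10_1 D205511 F373435 (iv4 F353597)
theorem F436776 : act 7 n205511 = n147733 := d14_2 (iv7 F202962) D205511 F361710 F292466 F350801
theorem F436777 : act 0 n205511 = n147735 := d21_4 F227723 (iv1 D126202) D126203 D205511 F361775 (iv5 F347353) (iv1 F313349) D173512 (iv6 F417240) F417242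
theorem F436778 : act 1 n205511 = n147392 := d15_1 (iv0 F436777) F233782 D147735
def n205512 : Q := act 1 n126207
theorem D205512 : act 1 n126207 = n205512 := rfl
theorem F436779 : act 3 n193356 = n205512 := d20_3 (iv4 D101522) (iv1 F156316) D193356 (iv1 D205512) F202969 F93363 D105317 (iv4 F204760) (iv3 F383692) F383693
theorem F436780 : act 6 n201684 = n205512 := d21_3 F419234 (iv1 F389052) (iv5 F421363) (iv1 D205512) (iv6 D126207) (iv5 D59165) D59161 D126192 F358874 (iv1 F419237)
def n205513 : Q := act 5 n126207
theorem D205513 : act 5 n126207 = n205513 := rfl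
theorem F436781 : act 3 n205513 = n126212 := d6_1 D205513 (iv5 D126212) (iv3 F202969)
theorem F436782 : act 6 n205513 = n126210 := d12_2 D126207 D205513 (iv5 D126210) (iv6 D59166) D59165
theorem F436783 : act 0 n205513 = n163625 := d21_1 D205513 (iv5 F359330) (iv6 D128986) (iv1 F355004) (iv6 F419235) F419234 (iv1 F389052) (iv5 F421363) F436780 (iv1 D205512)
theorem F436784 : act 0 n129013 = n205513 := d21_10 (iv5 D205513) F433881 (iv5 D204859) F199182 D169907 F362853 (iv5 D128974) (iv1 F95254) D60660 D129013
def n205514 : Q := act 7 n126207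
theorem D205514 : act 7 n126207 = n205514 := rfl
theorem F436785 : act 3 n205514 = n126213 := d8_1 D205514 (iv7 D126213) (iv3 F202969)
theorem F436786 : act 6 n205514 = n200738 := d14_1 D205514 (iv7 D200738) (iv6 D113394) (iv7 F93360) D126207
def n205515 : Q := act 6 n126208
theorem D205515 : act 6 n126208 = n205515 := rfl
theorem F436787 : act 2 n205515 = n157825 := d3_1 D205515 (iv6 F430125) F430129
theorem F436788 : act 3 n205515 = n169917 := d7_1 D205515 F377826 F406813
theorem F436789 : act 0 n205515 = n165724 := d21_4 (iv5 F412569) F412570 (iv5 F406812) D205515 F360222 D200532 F416906 (iv5 F358966) D200519 F416835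
theorem F436790 : act 0 n165729 = n205515 := d21_4 F358953 (iv1 F299820) (iv5 F330158) F363212 (iv6 D205515) F406812 F430528 F430526 F430027 (iv1 F358950)
theorem F436791 : act 7 n205515 = n200536 := d15_2 F429990 (iv0 F436789) (iv2 F429986)
def n205516 : Q := act 5 n126209
theorem D205516 : act 5 n126209 = n205516 := rfl
theorem F436792 : act 2 n205516 = n177331 := d2_1 D205516 (iv5 F436770) F436772
theorem F436793 : act 3 n205516 = n196642 := d6_1 D205516 (iv5 F401305) F345739
theorem F436794 : act 0 n205516 = n199536 := d17_2 (iv1 F338328) D205516 F412569 F409775 F348414 F277002 (iv5 D177557) F129746 D163035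
theorem F436795 : act 1 n205516 = n203946 := d17_8 F412408 F412409 (iv1 F402036) (iv5 F406810) (iv4 F406807) (iv5 D126210) D126209 D205516 F430525
def n205517 : Q := act 6 n126209
theorem D205517 : act 6 n126209 = n205517 := rfl
theorem F436796 : act 3 n205517 = n158339 := d7_1 D205517 (iv6 F333790) F345739
theorem F436797 : act 7 n205517 = n172538 := d14_2 F430126 D205517 (iv6 F429988) F429989 (iv6 F430125)
theorem F436798 : act 0 n205517 = n166172 := d21_4 (iv5 F430526) (iv1 F436795) (iv5 D205516) D205517 F341660 F399347 (iv1 F417354) F395398 F365984 (iv1 F430029)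
theorem F436799 : act 1 n205517 = n166167 := d15_1 (iv0 F436798) (iv7 F430530) F430529
def n205518 : Q := act 0 n126212
theorem D205518 : act 0 n126212 = n205518 := rfl
theorem F436800 : act 5 n205518 = n188715 := d17_3 F177001 D126212 D205518 (iv4 D188715) (iv5 D92696) (iv0 D43361) (iv5 F40314) D52520 D113750
theorem F436801 : act 2 n128969 = n205518 := d15_3 (iv0 D205518) F363268 D128969
theorem F436802 : act 7 n205518 = n128622 := d4_2 D128969 F436801 F206905
theorem F436803 : act 3 n190599 = n205518 := d8_3 F436802 (iv3 F394495) F394496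
theorem F436804 : act 6 n128941 = n205518 := d14_5 F436802 (iv6 D128622) F95088 D60636 D128941
theorem F436805 : act 1 n128967 = n205518 := d15_1 D128967 F436802 F206905
def n205519 : Q := act 7 n126212
theorem D205519 : act 7 n126212 = n205519 := rfl
theorem F436806 : act 2 n205519 = n128967 := d4_1 D205519 F341622 (iv2 F202973)
theorem F436807 : act 4 n205519 = n189841 := d11_1 D205519 F377944 (iv4 F362292)
theorem F436808 : act 5 n205519 = n126213 := d13_1 D205519 (iv7 D126213) D126212
theorem F436809 : act 1 n128622 = n205519 := d15_1 (iv0 F365653) (iv7 D205519) F202973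
theorem F436810 : act 1 n205519 = n128969 := d15_1 F436809 (iv7 D128969) (iv2 F206905)
def n205520 : Q := act 1 n126215
theorem D205520 : act 1 n126215 = n205520 := rfl
theorem F436811 : act 1 n205520 = n200713 := d15_1 D205520 (iv7 D200713) (iv2 F202984)
theorem F436812 : act 7 n205520 = n195079 := d15_2 (iv0 F435294) D205520 (iv2 F435291)
theorem F436813 : act 4 n205520 = n177408 := d17_9 (iv1 F361394) (iv5 D105232) (iv1 F161170) F332761 (iv4 F95270) D129059 (iv0 F362186) (iv5 F362295) D205520
theorem F436814 : act 6 n132144 = n205520 := d21_3 (iv5 F47015) D61992 D132144 (iv1 D205520) (iv6 F362294) F362281 (iv1 F395111) (iv5 F395112) (iv6 D129078) (iv1 D60678)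
theorem F436815 : act 2 n205520 = n200710 := d3_1 F436814 (iv6 F417595) F341805
theorem F436816 : act 3 n195087 = n205520 := d20_5 F40191 D25411 D52324 D113362 (iv1 F435758) F436813 (iv1 F361394) F332907 (iv3 D113356) (iv1 D52319)
def n205521 : Q := act 7 n126215
theorem D205521 : act 7 n126215 = n205521 := rfl
theorem F436817 : act 2 n205521 = n200713 := d4_1 D205521 (iv7 D200713) (iv2 F202984)
theorem F436818 : act 3 n205521 = n177395 := d8_1 D205521 (iv7 F331151) F362296
theorem F436819 : act 4 n205521 = n126216 := d11_1 D205521 (iv7 D126216) D126215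
theorem F436820 : act 5 n205521 = n200726 := d13_1 D205521 F417657 (iv5 F362295)
theorem F436821 : act 1 n200710 = n205521 := d15_1 D200710 (iv7 D205521) F202984
theorem F436822 : act 1 n205521 = n195079 := d15_1 F436821 (iv7 F436812) F436815
def n205522 : Q := act 6 n126216
theorem D205522 : act 6 n126216 = n205522 := rfl
theorem F436823 : act 2 n205522 = n200714 := d3_1 D205522 (iv6 D200714) (iv2 F202985)
theorem F436824 : act 3 n205522 = n163595 := d7_1 D205522 (iv6 F382534) F365979
theorem F436825 : act 5 n205522 = n200750 := d12_1 D205522 (iv6 D200750) F176598 (iv6 F93368) (iv5 F202986)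
theorem F436826 : act 0 n205522 = n196105 := d21_4 (iv5 D113355) (iv1 F93371) (iv5 F202986) D205522 F399429 F342899 F417807 F417805 (iv6 F417571) (iv1 D200705)
theorem F436827 : act 0 n163599 = n205522 := d21_4 (iv5 F365658) F394723 F417596 (iv6 F417595) (iv6 D205522) F202986 (iv1 F93370) D113357 D200707 (iv1 F417582)
def n205523 : Q := act 5 n126218
theorem D205523 : act 5 n126218 = n205523 := rfl
theorem F436828 : act 2 n205523 = n196692 := d2_1 D205523 F401499 (iv2 F397881)
theorem F436829 : act 3 n205523 = n126219 := d6_1 D205523 (iv5 D126219) D126218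
theorem F436830 : act 7 n205523 = n200601 := d13_2 (iv7 F355951) D205523 F417145
def n205524 : Q := act 4 n126219
theorem D205524 : act 4 n126219 = n205524 := rfl
theorem F436831 : act 2 n205524 = n182526 := d1_1 D205524 F360190 F355962
theorem F436832 : act 7 n205524 = n200602 := d11_2 (iv7 F355963) D205524 (iv4 D200602)
theorem F436833 : act 1 n205524 = n184747 := d18_6 F173419 (iv4 D111698) D111695 F173416 D126219 D205524 (iv4 F418025) F418029 F221304
theorem F436834 : act 3 n205524 = n198936 := d19_3 D59172 D126219 D205524 (iv1 D198936) (iv5 D110738) F80499 (iv3 D24834) (iv1 F37509) F37507 (iv4 D11982) (iv3 F10132) (iv1 F20312) F20314 (iv4 F37875) F37874 (iv1 F18536) F18383 (iv4 F22310) D28106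
theorem F436835 : act 6 n182326 = n205524 := d7_0 F436834 (iv6 F423853) F423850
def n205525 : Q := act 6 n126219
theorem D205525 : act 6 n126219 = n205525 := rfl
theorem F436836 : act 2 n205525 = n182524 := d3_1 D205525 (iv6 F360193) F355962
theorem F436837 : act 4 n205525 = n182326 := d10_1 D205525 F436835 (iv4 D205524)
theorem F436838 : act 5 n205525 = n205344 := d12_1 D205525 (iv6 D205344) (iv5 D125825) F355940 D126219
theorem F436839 : act 0 n205525 = n169921 := d21_4 (iv5 D59175) D59172 D126219 D205525 (iv6 D169921) (iv5 D81507) (iv1 D37217) D37219 D81515 F349668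
theorem F436840 : act 1 n205525 = n126299 := d15_1 (iv0 F436839) F377851 (iv2 F367079)
theorem F436841 : act 7 n205525 = n182519 := d15_2 F436228 (iv0 F436839) (iv2 F436225)
def n205526 : Q := act 6 n126222
theorem D205526 : act 6 n126222 = n205526 := rfl
theorem F436842 : act 3 n205526 = n126224 := d7_1 D205526 (iv6 D126224) D126222
theorem F436843 : act 7 n205526 = n205346 := d14_2 F355958 D205526 (iv6 D205346) (iv7 F406706) F406705
theorem F436844 : act 0 n205389 = n205526 := d20_4 F202738 F324475 (iv4 F330421) D205389 F436842 (iv4 F413141) F413144 (iv4 D128996) (iv3 F330408) F333475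
def n205527 : Q := act 4 n126223
theorem D205527 : act 4 n126223 = n205527 := rfl
theorem F436845 : act 2 n205527 = n200602 := d1_1 D205527 (iv4 D200602) (iv2 F355961)
theorem F436846 : act 3 n205527 = n135213 := d5_1 D205527 F217393 F102054 D107222 F355992
theorem F436847 : act 6 n205527 = n135211 := d10_2 (iv6 F355995) D205527 F217388
theorem F436848 : act 7 n205527 = n182526 := d11_2 F355960 D205527 F360190
theorem F436849 : act 5 n205527 = n193333 := d17_5 F219099 (iv5 D113342) (iv1 F93376) D126223 D205527 F389487 (iv5 F225943) (iv0 F349683) (iv4 F349679)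
theorem F436850 : act 0 n205527 = n184747 := d17_0 (iv5 F345439) F345442 F293822 (iv4 F149000) F345925 (iv0 D105200) (iv5 F93400) (iv0 F219113) D205527
def n205528 : Q := act 5 n126226
theorem D205528 : act 5 n126226 = n205528 := rfl
theorem F436851 : act 2 n205528 = n126233 := d2_1 D205528 (iv5 D126233) (iv2 F202996)
theorem F436852 : act 3 n205528 = n166634 := d6_1 D205528 (iv5 D166634) (iv3 F328511)
theorem F436853 : act 6 n205528 = n132048 := d12_2 D126226 D205528 F349650 F349652 (iv5 D126225)
theorem F436854 : act 0 n205528 = n158062 := d18_0 (iv4 D158062) D158060 (iv4 F348786) F294903 F122732 D120271 D203687 (iv0 F429422) D205528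
def n205529 : Q := act 3 n126231
theorem D205529 : act 3 n126231 = n205529 := rfl
theorem F436855 : act 5 n205529 = n131819 := d6_2 F382791 D205529 (iv3 F382789)
theorem F436856 : act 0 n205529 = n205309 := d20_10 (iv4 F435887) (iv1 D160676) (iv4 F122676) (iv3 D79937) F57162 D78604 F119776 D160415 (iv4 F358047) D205529
theorem F436857 : act 6 n128859 = n205529 := d12_0 F436855 (iv6 D131819) (iv5 D61854) D61855 (iv5 F207113)
def n205530 : Q := act 6 n126231
theorem D205530 : act 6 n126231 = n205530 := rfl
theorem F436858 : act 3 n205530 = n128859 := d7_1 D205530 F436857 (iv3 D205529)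
theorem F436859 : act 5 n205530 = n131818 := d12_1 D205530 (iv6 D131818) D131817 F382793 F382791
def n205531 : Q := act 6 n126232
theorem D205531 : act 6 n126232 = n205531 := rfl
theorem F436860 : act 2 n205531 = n198084 := d3_1 D205531 (iv6 F429411) F429398
theorem F436861 : act 3 n205531 = n137100 := d7_1 D205531 (iv6 F360301) (iv3 F365640)
theorem F436862 : act 4 n205531 = n198219 := d10_1 D205531 (iv6 F412240) (iv4 F365641)
theorem F436863 : act 5 n205531 = n163018 := d12_1 D205531 F357783 (iv5 F262194) F341810 (iv5 F365639)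
theorem F436864 : act 0 n205531 = n196635 := d21_4 F282296 F341812 (iv5 F365639) D205531 F401275 F360394 (iv1 F417144) (iv5 F399469) (iv6 F431247) (iv1 F405965)
theorem F436865 : act 0 n162909 = n205531 := d21_4 (iv5 F360431) (iv1 F406713) (iv5 D198080) (iv6 F365213) (iv6 D205531) F365639 F382530 F382529 (iv6 D108698) D108694
theorem E103902 : n204778 = n198219 := ((c20_1 F436862 (iv1 D204778) F198849 (iv3 D84369) (iv1 F296388) (iv3 F319349) F319350 (iv1 F319346) (iv4 D162913) (iv3 F257225) F436865)).symm
theorem F436866 : act 0 n198219 = n124333 := (sb E103902 (iv1 D204778))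
theorem F436867 : act 7 n198085 = n205531 := d13_0 F436863 (iv7 F357784) (iv5 F406731)
def n205532 : Q := act 0 n126233
theorem D205532 : act 0 n126233 = n205532 := rfl
theorem F436868 : act 5 n205532 = n204700 := d17_3 (iv1 D126232) D126233 D205532 (iv4 D204700) D204701 F433306 (iv5 D160418) D160416 (iv4 F365641)
theorem F436869 : act 4 n205532 = n158059 := d18_1 D205532 (iv1 F348785) (iv4 F382591) F382592 F262172 F253399 (iv4 F358047) (iv0 D126231) D126233
theorem F436870 : act 6 n205532 = n132936 := d21_5 F96581 D106473 (iv5 F373568) (iv6 F373570) D205532 (iv5 D132936) (iv1 D62383) D62385 (iv6 F347517) F359036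
theorem F436871 : act 2 n158062 = n205532 := d15_3 (iv0 D205532) (iv0 F377464) F377463
def n205533 : Q := act 7 n126233
theorem D205533 : act 7 n126233 = n205533 := rfl
theorem F436872 : act 3 n205533 = n126240 := d8_1 D205533 (iv7 D126240) (iv3 F203005)
theorem F436873 : act 5 n205533 = n126234 := d13_1 D205533 (iv7 D126234) D126233
theorem F436874 : act 6 n205242 = n205533 := d12_0 F436873 F203007 (iv5 F417543) F418239 F435576
theorem F436875 : act 0 n158062 = n205533 := d17_0 F436873 F429402 F429400 F382518 (iv5 D176733) F250127 (iv5 F348783) (iv0 D158060) D158062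
def n205534 : Q := act 7 n126237
theorem D205534 : act 7 n126237 = n205534 := rfl
theorem F436876 : act 2 n205534 = n200747 := d4_1 D205534 (iv7 D200747) (iv2 F203009)
theorem F436877 : act 3 n205534 = n132047 := d8_1 D205534 (iv7 F373563) (iv3 F373569)
theorem F436878 : act 5 n205534 = n126238 := d13_1 D205534 (iv7 D126238) D126237
theorem F436879 : act 1 n200746 = n205534 := d15_1 D200746 (iv7 D205534) F203009
theorem F436880 : act 1 n205534 = n200745 := d15_1 F436879 (iv7 F429311) F429308
def n205535 : Q := act 6 n126240
theorem D205535 : act 6 n126240 = n205535 := rfl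
theorem F436881 : act 2 n205535 = n200750 := d3_1 D205535 (iv6 D200750) (iv2 F203018)
theorem F436882 : act 3 n205535 = n205242 := d7_1 D205535 F436874 F436872
theorem F436883 : act 4 n205535 = n195992 := d10_1 D205535 (iv6 D195992) (iv4 F349627)
theorem F436884 : act 5 n205535 = n200714 := d12_1 D205535 (iv6 D200714) F176554 (iv6 F93387) (iv5 F203019)
def n205536 : Q := act 0 n126245
theorem D205536 : act 0 n126245 = n205536 := rfl
theorem F436885 : act 3 n205536 = n200685 := d20_5 (iv4 D55863) (iv1 F118521) (iv4 F325583) (iv3 F203024) D205536 F417477 (iv1 D123336) (iv4 F197479) (iv3 D123195) F121021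
theorem F436886 : act 6 n205536 = n169910 := d21_5 (iv5 D196244) (iv1 F172217) F342893 D126245 D205536 (iv5 F402718) (iv1 F415240) (iv5 F415241) (iv6 F407952) F407954
theorem F436887 : act 1 n181141 = n205536 := d15_0 (iv0 D205536) F326406 D181141
theorem F436888 : act 2 n181140 = n205536 := d3_3 F436886 (iv2 F383833) (iv6 F417076)
theorem F436889 : act 7 n181139 = n205536 := d14_0 F436886 F383832 (iv6 F383830) (iv7 F175706) F411039
def n205537 : Q := act 1 n126245
theorem D205537 : act 1 n126245 = n205537 := rfl
theorem F436890 : act 1 n205537 = n181141 := d15_1 D205537 (iv7 F358230) (iv2 F358231)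
theorem F436891 : act 7 n205537 = n181140 := d15_2 (iv0 D205536) D205537 F436888
theorem F436892 : act 4 n174250 = n205537 := d20_0 (iv1 D205537) F326405 (iv3 D160819) F298323 (iv3 F119616) (iv4 D78417) F338773 (iv4 F132252) (iv3 F281169) F358247
theorem F436893 : act 3 n145440 = n205537 := d20_3 (iv4 F394803) (iv1 D194866) (iv4 F376047) (iv1 D205537) F203024 F325583 F118520 (iv4 F296336) (iv3 F332889) F228477
theorem F436894 : act 6 n194863 = n205537 := d21_3 (iv5 D113205) F175700 F394791 (iv1 D205537) (iv6 D126245) (iv5 F342893) (iv1 F172216) F360823 F360822 (iv1 F356058)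
theorem F436895 : act 2 n205537 = n181139 := d3_1 F436894 (iv6 F411039) (iv2 F394787)
theorem F436896 : act 5 n205537 = n145439 := d12_1 F436894 (iv6 F402666) F402663 (iv6 F175697) F394791
theorem F436897 : act 0 n174250 = n195083 := d20_7 F436819 (iv1 F202987) (iv4 F343937) (iv3 F346881) (iv1 F228472) F436893 (iv4 F436892) F395704 (iv3 F395686) (iv1 F436822)
def n205538 : Q := act 4 n126246
theorem D205538 : act 4 n126246 = n205538 := rfl
theorem F436898 : act 2 n205538 = n197015 := d1_1 D205538 F402700 F203026
theorem F436899 : act 5 n205538 = n198890 := d9_2 F324559 D205538 (iv4 D198890) (iv5 D110464) F80351 F38774 (iv4 F50048) D68198 D145458 (iv5 F436086) (iv4 D205364) F202355 (iv4 D109398) F324412 D104978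
theorem F436900 : act 6 n205538 = n190538 := d10_2 F417183 D205538 (iv4 F417181)
theorem F436901 : act 0 n205538 = n126418 := d17_0 (iv5 F436134) (iv1 D205374) F202373 (iv4 D59194) (iv5 D28112) D28110 D59189 F203027 D205538
theorem F436902 : act 1 n205538 = n126386 := d18_6 F324450 (iv4 D59062) (iv1 F323119) D104978 F324559 D205538 (iv4 D126386) D126385 (iv5 F324453)
def n205539 : Q := act 0 n126247
theorem D205539 : act 0 n126247 = n205539 := rfl
theorem F436903 : act 5 n205539 = n205367 := d17_1 D205539 (iv1 D205367) (iv5 F398172) (iv4 D195787) F170286 (iv0 F324555) F324559 (iv0 D126246) D126247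
theorem F436904 : act 4 n205539 = n200784 := d18_1 D205539 (iv1 F417893) (iv4 F436166) (iv5 D205382) (iv4 F360443) (iv0 F333476) (iv4 F436139) F436142 (iv5 F360447)
theorem F436905 : act 0 n205394 = n205387 := d21_4 F366009 (iv1 F436228) (iv5 D205393) D205394 (iv6 D205387) (iv5 F360447) D205539 F436903 (iv6 F436102) F435954
theorem F436906 : act 1 n126257 = n205539 := d15_0 (iv0 D205539) (iv7 F349565) (iv2 F349600)
def n205540 : Q := act 1 n126247
theorem D205540 : act 1 n126247 = n205540 := rfl
theorem F436907 : act 1 n205540 = n126257 := d15_1 D205540 (iv7 F409101) F409099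
theorem F436908 : act 5 n205540 = n205366 := d17_7 D125854 F202355 (iv1 F325569) (iv5 F326398) (iv4 F360445) (iv5 F360447) D205540 (iv0 D205366) (iv4 D125855)
theorem F436909 : act 4 n205540 = n198928 := d18_7 (iv1 F174755) (iv4 D112339) (iv1 F170118) F170120 D59185 D126247 D205540 F409948 (iv5 D126114)
theorem F436910 : act 3 n200744 = n205540 := d20_3 (iv4 F418317) F418318 (iv4 F417743) (iv1 D205540) F349564 (iv4 D106577) (iv1 F77804) (iv4 F96476) (iv3 F211322) F391984
theorem F436911 : act 6 n205540 = n196031 := d7_2 D200744 F436910 (iv3 F399129)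
def n205541 : Q := act 6 n126247
theorem D205541 : act 6 n126247 = n205541 := rfl
theorem F436912 : act 3 n205541 = n128681 := d7_1 D205541 F206978 (iv3 F349564)
theorem F436913 : act 4 n205541 = n126248 := d10_1 D205541 (iv6 D126248) D126247
theorem F436914 : act 7 n205541 = n128676 := d14_2 F349565 D205541 (iv6 D128676) (iv7 F206817) (iv6 F211351)
theorem F436915 : act 5 n205541 = n133091 := d21_6 F164248 (iv1 F164261) (iv5 F399128) (iv6 F436911) (iv1 D205540) D205541 F359266 F396114 (iv6 D106633) D106628
theorem F436916 : act 1 n201132 = n205541 := d18_6 F418490 F418489 F341880 (iv4 F348163) (iv5 F417358) F419205 F436913 (iv0 F418759) (iv5 F418761)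
def n205542 : Q := act 0 n126248
theorem D205542 : act 0 n126248 = n205542 := rfl
theorem F436917 : act 2 n200698 = n205542 := d15_3 (iv0 D205542) (iv0 F418759) F418758
theorem F436918 : act 1 n163612 = n205542 := d15_0 (iv0 D205542) F349571 F348751
theorem F436919 : act 3 n205542 = n201134 := d0_2 D200698 F436917 F419211 (iv3 D201012) F178280
theorem F436920 : act 6 n201132 = n205542 := d7_0 F436919 (iv6 D201134) D201132
def n205543 : Q := act 5 n126248
theorem D205543 : act 5 n126248 = n205543 := rfl
theorem F436921 : act 2 n205543 = n163613 := d2_1 D205543 (iv5 F409104) F409102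
theorem F436922 : act 6 n205543 = n126251 := d12_2 D126248 D205543 (iv5 D126251) (iv6 D59186) D59185
theorem F436923 : act 7 n205543 = n163605 := d13_2 (iv7 F349571) D205543 F348750
theorem F436924 : act 4 n205543 = n163665 := d16_4 D133091 (iv5 F436915) F436913 D205543 F341918 F341920 (iv5 D133087) F346994 F346985
theorem F436925 : act 0 n205543 = n163611 := d21_7 (iv5 F207299) (iv1 F207303) (iv5 F358256) (iv6 D145459) (iv1 F170958) D126248 D205543 F358321 (iv6 D128630) D128625
theorem F436926 : act 0 n128961 = n205543 := d18_2 F344719 (iv4 F341628) F436924 F341918 F341920 F347001 F129157 D84157 (iv5 F344720)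
def n205544 : Q := act 0 n126255
theorem D205544 : act 0 n126255 = n205544 := rfl
theorem F436927 : act 5 n205544 = n200861 := d17_3 F358834 D126255 D205544 (iv4 D200861) (iv5 F358906) (iv0 D109085) (iv5 D50362) D50360 D109080
theorem F436928 : act 4 n205544 = n141791 := d18_1 D205544 F417804 (iv4 D200757) (iv5 D113425) (iv4 F168569) F168571 D109075 (iv0 F176632) D126255
theorem F436929 : act 6 n205544 = n128687 := d21_5 D61973 D132079 F212104 (iv6 F360839) D205544 F211935 (iv1 D60666) (iv5 D28794) (iv6 F23243) D29351
theorem F436930 : act 2 n200733 = n205544 := d15_3 (iv0 D205544) (iv0 F417253) (iv7 F417697)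
theorem F436931 : act 1 n128797 = n205544 := d15_0 (iv0 D205544) (iv7 F409097) F409094
def n205545 : Q := act 3 n126257
theorem D205545 : act 3 n126257 = n205545 := rfl
theorem F436932 : act 2 n205545 = n128690 := d0_1 D205545 F206984 (iv2 F96486) D131909 (iv2 F349600)
theorem F436933 : act 4 n205545 = n129233 := d5_2 D126257 D205545 (iv3 F325896) F204041 F203028
theorem F436934 : act 5 n205545 = n205235 := d6_2 (iv5 F360436) D205545 F435548
theorem F436935 : act 6 n205545 = n128688 := d7_2 F435805 D205545 (iv3 F435803)
def n205546 : Q := act 7 n126263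
theorem D205546 : act 7 n126263 = n205546 := rfl
theorem F436936 : act 2 n205546 = n126275 := d4_1 D205546 (iv7 D126275) (iv2 F203030)
theorem F436937 : act 3 n205546 = n205419 := d8_1 D205546 F436325 F397897
theorem F436938 : act 4 n205546 = n195003 := d11_1 D205546 F395367 F360456
theorem F436939 : act 5 n205546 = n205375 := d13_1 D205546 (iv7 D205375) (iv5 F203031)
theorem F436940 : act 1 n126268 = n205546 := d15_1 (iv0 F360450) (iv7 D205546) F203030
theorem F436941 : act 1 n205546 = n126265 := d15_1 F436940 (iv7 F398161) F398160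
def n205547 : Q := act 0 n126266
theorem D205547 : act 0 n126266 = n205547 := rfl
theorem F436942 : act 5 n205547 = n128957 := d17_3 F377813 F377812 D205547 F394035 (iv5 D194672) (iv0 D103986) F75625 (iv0 F332721) (iv4 F164300)
theorem F436943 : act 4 n205547 = n195006 := d18_1 D205547 (iv1 D195006) (iv4 F367832) (iv5 F367848) F367847 F332722 D182776 (iv0 F398789) F377812
theorem F436944 : act 2 n128964 = n205547 := d15_3 (iv0 D205547) (iv0 F360392) (iv7 F342948)
def n205548 : Q := act 2 n126267
theorem D205548 : act 2 n126267 = n205548 := rfl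
theorem F436945 : act 3 n205548 = n131973 := d0_2 D126267 D205548 F398157 (iv3 D195783) F170986
theorem F436946 : act 4 n205548 = n132652 := d1_2 F204049 D205548 F336589
theorem F436947 : act 5 n205548 = n200621 := d2_2 F409794 D205548 F417250
theorem F436948 : act 1 n200638 = n205548 := d17_6 (iv1 F176726) (iv5 F169163) (iv1 F405701) (iv5 D197768) (iv4 F176585) (iv5 F417316) F436947 (iv0 F418195) (iv4 D200861)
theorem F436949 : act 6 n205548 = n131971 := d21_3 F436927 F418195 (iv5 F436947) F354356 (iv6 D61974) D61973 D132079 F212104 (iv6 F360839) D205544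
def n205549 : Q := act 6 n126267
theorem D205549 : act 6 n126267 = n205549 := rfl
theorem F436950 : act 2 n205549 = n131971 := d3_1 D205549 (iv6 F436949) (iv2 D205548)
theorem F436951 : act 3 n205549 = n126269 := d7_1 D205549 (iv6 D126269) D126267
theorem F436952 : act 4 n205549 = n132650 := d10_1 D205549 (iv6 F336588) F204049
theorem F436953 : act 7 n205549 = n132084 := d14_2 F398170 D205549 (iv6 F361230) (iv7 F368087) (iv6 F398180)
theorem F436954 : act 0 n205549 = n132067 := d21_4 F417695 (iv1 F409798) F409794 D205549 (iv6 D132067) D132066 (iv1 F211621) (iv5 D131812) (iv6 F204338) F417698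
theorem F436955 : act 5 n189778 = n205549 := d21_8 (iv5 D198240) (iv1 F358845) F341763 F341759 F276856 (iv6 F377713) (iv5 D189780) D189778 (iv6 D205549) F407320
theorem F436956 : act 1 n205549 = n132087 := d15_1 (iv0 F436954) (iv7 D132087) (iv2 F211554)
def n205550 : Q := act 3 n126268
theorem D205550 : act 3 n126268 = n205550 := rfl
theorem F436957 : act 2 n205550 = n204879 := d0_1 D205550 F433992 (iv2 F436063) F436064 F398160
theorem F436958 : act 5 n205550 = n205472 := d6_2 F436107 D205550 F436599
theorem F436959 : act 0 n205550 = n127026 := d20_4 F398086 (iv1 F163300) D126268 D205550 F204266 (iv4 D64480) D64478 (iv4 F383818) F383817 (iv1 F398088)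
theorem F436960 : act 6 n165605 = n205550 := d21_3 (iv5 D124520) F122173 D165605 F436959 F407319 (iv5 D198240) (iv1 F358845) F341763 F341759 F276856
def n205551 : Q := act 6 n126268
theorem D205551 : act 6 n126268 = n205551 := rfl
theorem F436961 : act 3 n205551 = n165605 := d7_1 D205551 F436960 (iv3 D205550)
theorem F436962 : act 4 n205551 = n126269 := d10_1 D205551 (iv6 D126269) D126268
theorem F436963 : act 5 n205551 = n165604 := d12_1 D205551 F366192 (iv5 F436596) F436598 F436107
theorem F436964 : act 7 n205551 = n204883 := d14_2 F398173 D205551 (iv6 F434010) (iv7 F436032) F436028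
def n205552 : Q := act 5 n126269
theorem D205552 : act 5 n126269 = n205552 := rfl
theorem F436965 : act 3 n205552 = n189778 := d6_1 D205552 F436955 F436951
theorem F436966 : act 0 n195677 = n205552 := d19_0 (iv5 D205552) (iv4 F436962) F436961 F341740 (iv5 F337897) (iv4 D124584) F116998 (iv1 D27734) (iv5 D13237) (iv4 F42637) D26619 F190378 (iv5 F52904) (iv4 F77596) F77595 (iv1 F37466) D49069 D106186 D195677
def n205553 : Q := act 6 n126271
theorem D205553 : act 6 n126271 = n205553 := rfl
theorem F436967 : act 2 n205553 = n200648 := d3_1 D205553 F417351 (iv2 F398082)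
theorem F436968 : act 3 n205553 = n195011 := d7_1 D205553 F395418 F380738
theorem F436969 : act 5 n205553 = n200517 := d12_1 D205553 (iv6 D200517) (iv5 F416829) D205335 F435963
theorem F436970 : act 7 n205553 = n195008 := d14_2 (iv7 F380737) D205553 (iv6 D195008) F160972 D182512
def n205554 : Q := act 6 n126278
theorem D205554 : act 6 n126278 = n205554 := rfl
theorem F436971 : act 2 n205554 = n126280 := d3_1 D205554 (iv6 D126280) D126278
theorem F436972 : act 3 n205554 = n200597 := d7_1 D205554 (iv6 D200597) (iv3 F203037)
theorem F436973 : act 0 n205554 = n129016 := d21_4 (iv5 D113298) (iv1 F161111) (iv5 F203038) D205554 F361244 (iv5 F361242) F436784 (iv5 D205513) (iv6 D126207) (iv1 F231077)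
theorem F436974 : act 5 n193645 = n205554 := d2_0 F436971 (iv5 F364570) (iv2 F390548)
theorem F436975 : act 1 n205554 = n135832 := d17_6 D129950 (iv5 F334278) F302189 (iv5 F323646) F390547 F436974 F368095 F368093 F207138
def n205555 : Q := act 5 n126279
theorem D205555 : act 5 n126279 = n205555 := rfl
theorem F436976 : act 3 n205555 = n147936 := d6_1 D205555 F231743 (iv3 F203043)
theorem F436977 : act 7 n205555 = n200645 := d13_2 (iv7 F203044) D205555 (iv5 D200645)
def n205556 : Q := act 6 n126279
theorem D205556 : act 6 n126279 = n205556 := rfl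
theorem F436978 : act 3 n205556 = n195167 := d7_1 D205556 (iv6 D195167) (iv3 F203043)
theorem F436979 : act 4 n205556 = n126280 := d10_1 D205556 (iv6 D126280) D126279
theorem F436980 : act 5 n205556 = n200287 := d21_6 (iv5 D49093) D49090 D106230 D195720 (iv1 F417299) D205556 (iv1 D200287) F175887 (iv6 D107539) (iv1 F83136)
def n205557 : Q := act 0 n126280
theorem D205557 : act 0 n126280 = n205557 := rfl
theorem F436981 : act 4 n205557 = n135838 := d20_8 (iv4 F323385) F331839 (iv4 F208636) (iv3 F218285) F396066 (iv3 F436978) F436979 D205557 F362721 (iv1 D185888)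
theorem F436982 : act 5 n205557 = n129003 := d21_2 F364570 D205557 (iv6 D129003) F207220 (iv6 F47005) D61982 (iv1 F164547) F211217 (iv6 F380022) F380018
theorem F436983 : act 2 n129016 = n205557 := d15_3 (iv0 D205557) (iv0 F368100) F368099
theorem F436984 : act 3 n205557 = n186812 := d0_2 (iv3 F361243) F436983 (iv2 D186812) (iv3 D89194) (iv2 F127125)
theorem F436985 : act 6 n205557 = n193369 := d3_2 (iv6 F361244) F436983 (iv2 D193369)
theorem F436986 : act 7 n205557 = n135832 := d4_2 F368099 F436983 (iv2 F368096)
def n205558 : Q := act 7 n126280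
theorem D205558 : act 7 n126280 = n205558 := rfl
theorem F436987 : act 3 n205558 = n126284 := d8_1 D205558 (iv7 D126284) (iv3 F203045)
theorem F436988 : act 5 n205558 = n131860 := d13_1 D205558 F211271 F364570
theorem F436989 : act 6 n205558 = n200647 := d14_1 D205558 (iv7 D200647) (iv6 D113310) (iv7 F93397) D126280
theorem F436990 : act 1 n135832 = n205558 := d15_1 F436975 (iv7 D205558) (iv2 F436971)
theorem F436991 : act 1 n205558 = n129016 := d15_1 F436990 (iv7 F368099) F368096
def n205559 : Q := act 5 n126288
theorem D205559 : act 5 n126288 = n205559 := rfl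
theorem F436992 : act 3 n205559 = n126291 := d6_1 D205559 (iv5 D126291) (iv3 F203062)
theorem F436993 : act 6 n205559 = n195052 := d12_2 D126288 D205559 (iv5 D195052) (iv6 D105203) (iv5 F93400)
theorem F436994 : act 4 n205559 = n195824 := d16_2 F220832 D205559 F398345 (iv4 F366154) (iv5 F190833) (iv4 F308501) F283313 F310660 (iv2 F345930)
def n205560 : Q := act 0 n126291
theorem D205560 : act 0 n126291 = n205560 := rfl
theorem F436995 : act 2 n195671 = n205560 := d15_3 (iv0 D205560) (iv0 F418742) F398527
theorem F436996 : act 7 n205560 = n200657 := d4_2 F398527 F436995 F418740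
theorem F436997 : act 1 n200659 = n205560 := d15_1 (iv0 F418741) F436996 F418740
def n205561 : Q := act 4 n126291
theorem D205561 : act 4 n126291 = n205561 := rfl
theorem F436998 : act 2 n205561 = n200658 := d1_1 D205561 (iv4 D200658) (iv2 F203064)
theorem F436999 : act 6 n205561 = n195056 := d10_2 (iv6 F203065) D205561 (iv4 D195056)
def n205562 : Q := act 7 n126291
theorem D205562 : act 7 n126291 = n205562 := rfl
theorem F437000 : act 2 n205562 = n200659 := d4_1 D205562 (iv7 D200659) (iv2 F203064)
theorem F437001 : act 5 n205562 = n126292 := d13_1 D205562 (iv7 D126292) D126291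
theorem F437002 : act 1 n200657 = n205562 := d15_1 D200657 (iv7 D205562) F203064
theorem F437003 : act 1 n205562 = n195671 := d15_1 F437002 (iv7 F398527) (iv2 F418740)
def n205563 : Q := act 0 n126296
theorem D205563 : act 0 n126296 = n205563 := rfl
theorem F437004 : act 5 n205563 = n200997 := d17_3 D59200 D126296 D205563 F418673 D200999 (iv0 F418679) (iv5 D195800) (iv0 D106277) F77535
theorem F437005 : act 1 n126301 = n205563 := d15_0 (iv0 D205563) (iv7 F397928) F397927
theorem F437006 : act 7 n205563 = n205357 := d15_2 (iv0 F435931) F437005 F436059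
def n205564 : Q := act 4 n126296
theorem D205564 : act 4 n126296 = n205564 := rfl
theorem F437007 : act 3 n205564 = n205563 := d19_3 D59200 D126296 D205564 (iv1 F437005) (iv5 D126301) (iv4 F377845) (iv3 F251770) F371420 (iv5 F413213) (iv4 D199710) F412063 (iv1 F394328) (iv5 D111699) D111698 F173417 (iv1 F174755) F360440 F203033 F93394
def n205565 : Q := act 6 n126296
theorem D205565 : act 6 n126296 = n205565 := rfl
theorem F437008 : act 2 n205565 = n205362 := d3_1 D205565 F436080 F397922
theorem F437009 : act 3 n205565 = n205353 := d7_1 D205565 F436043 F398052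
theorem F437010 : act 5 n205565 = n198527 := d12_1 D205565 F408236 (iv5 F377837) (iv6 D126297) D126296
theorem F437011 : act 7 n205565 = n205359 := d14_2 F397928 D205565 F436071 F435433 F409770
theorem F437012 : act 0 n205565 = n205160 := d21_4 (iv5 F45431) D59200 D126296 D205565 (iv6 D205160) (iv5 D125541) D125538 F349577 (iv6 D125930) (iv1 D58957)
theorem F437013 : act 0 n205352 = n205565 := d17_2 F405933 (iv5 F436040) F437010 (iv4 D198527) F347760 (iv0 F316658) F316661 D111811 F356049
def n205566 : Q := act 7 n126297
theorem D205566 : act 7 n126297 = n205566 := rfl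
theorem F437014 : act 2 n205566 = n169913 := d4_1 D205566 (iv7 F364709) F377838
theorem F437015 : act 4 n205566 = n130633 := d11_1 D205566 F209203 (iv4 F377839)
theorem F437016 : act 5 n205566 = n169912 := d13_1 D205566 (iv7 F377833) (iv5 F377837)
theorem F437017 : act 0 n200655 = n205566 := d17_0 F437016 (iv1 F377835) (iv5 F417072) F417071 F176947 F176095 (iv5 F391727) F417379 (iv4 F417375)
def n205567 : Q := act 4 n126301
theorem D205567 : act 4 n126301 = n205567 := rfl
theorem F437018 : act 6 n205567 = n205215 := d10_2 F435427 D205567 F435469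
theorem F437019 : act 3 n205367 = n205567 := d20_5 D196044 (iv1 F435238) (iv4 F202340) F360402 (iv1 F436098) (iv4 D205567) F435931 F435929 F202288 (iv1 F342878)
def n205568 : Q := act 0 n126302
theorem D205568 : act 0 n126302 = n205568 := rfl
theorem F437020 : act 5 n205568 = n128969 := d17_1 D205568 (iv1 F436810) F436808 F202976 F161500 F143150 D92801 (iv0 F364725) (iv4 F377844)
theorem F437021 : act 4 n205568 = n185742 := d18_1 D205568 F288021 D194003 F391724 (iv4 F299401) (iv0 F361382) (iv4 F418764) (iv0 F435492) F435491
theorem F437022 : act 6 n205568 = n201142 := d21_5 (iv5 F437004) (iv1 F437005) (iv5 D126301) D126302 D205568 (iv5 F435923) (iv1 D205318) (iv5 F349556) (iv6 F435351) F435354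
theorem F437023 : act 2 n188715 = n205568 := d15_3 (iv0 D205568) F418561 (iv7 F418562)
theorem F437024 : act 7 n205568 = n128968 := d4_2 (iv7 F418562) F437023 (iv2 F418558)
def n205569 : Q := act 6 n126304
theorem D205569 : act 6 n126304 = n205569 := rfl
theorem F437025 : act 2 n205569 = n196246 := d3_1 D205569 (iv6 D196246) F343569
theorem F437026 : act 3 n205569 = n195010 := d7_1 D205569 (iv6 F395414) F349814
theorem F437027 : act 0 n205569 = n194805 := d21_4 (iv5 D59205) D59203 D126304 D205569 (iv6 F394541) F359007 (iv1 F248679) (iv5 F380848) F380849 (iv1 D126310)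
def n205570 : Q := act 4 n126309
theorem D205570 : act 4 n126309 = n205570 := rfl
theorem F437028 : act 2 n205570 = n200856 := d1_1 D205570 F418172 (iv2 F359797)
theorem F437029 : act 3 n205570 = n130290 := d5_1 D205570 F360631 F360629 (iv4 F380860) F380859
theorem F437030 : act 7 n205570 = n200857 := d11_2 (iv7 F359795) D205570 F418175
theorem F437031 : act 5 n205570 = n130289 := d16_1 D205570 F208824 F343556 F161237 D105277 D195110 F395813 (iv7 F359796) (iv2 F359797)
theorem F437032 : act 0 n205570 = n200574 := d18_2 D126309 D205570 (iv4 D200574) (iv5 D113237) F82643 F76559 (iv4 F161241) (iv0 D59203) D59205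
theorem F437033 : act 1 n205570 = n195107 := d18_6 F395559 F395557 F161229 D195109 F395807 D205570 (iv4 D195107) D195106 F395792
def n205571 : Q := act 6 n126309
theorem D205571 : act 6 n126309 = n205571 := rfl
theorem F437034 : act 2 n205571 = n200758 := d3_1 D205571 F417806 (iv2 F359797)
theorem F437035 : act 3 n205571 = n137679 := d7_1 D205571 (iv6 F380862) F380859
theorem F437036 : act 5 n205571 = n199535 := d12_1 D205571 F412572 (iv5 F365655) (iv6 F395805) F395807
theorem F437037 : act 7 n205571 = n189821 := d14_2 (iv7 F359795) D205571 (iv6 D189821) (iv7 F148589) (iv6 F347329)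
theorem F437038 : act 1 n128790 = n205571 := d15_1 F418265 F437037 (iv2 F418262)
def n205572 : Q := act 4 n126310
theorem D205572 : act 4 n126310 = n205572 := rfl
theorem F437039 : act 2 n205572 = n200857 := d1_1 D205572 F418175 F359783
theorem F437040 : act 3 n205572 = n126595 := d5_1 D205572 F211991 (iv3 D132280) D132281 (iv3 F343574)
theorem F437041 : act 5 n205572 = n126593 := d9_2 F395813 D205572 (iv4 F343606) (iv5 D126304) F161241 D105272 D195109 F395807 D205570 F437031 F208824 F343556 F161237 D105277 D195110
theorem F437042 : act 7 n205572 = n200856 := d11_2 F359796 D205572 F418172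
theorem F437043 : act 0 n205572 = n195107 := d18_2 (iv1 F343573) D205572 (iv4 D195107) (iv5 D105268) F76558 D48670 (iv4 F161237) F93406 (iv5 F343558)
theorem F437044 : act 1 n205572 = n200574 := d18_6 F203118 F202081 F168646 D195110 F395813 D205572 (iv4 D200574) F395785 F395783
def n205573 : Q := act 3 n126317
theorem D205573 : act 3 n126317 = n205573 := rfl
theorem F437045 : act 5 n205573 = n197014 := d6_2 (iv5 F203116) D205573 F402696
theorem F437046 : act 6 n205573 = n196998 := d7_2 (iv6 F203114) D205573 (iv3 D196998)
theorem F437047 : act 7 n205573 = n197005 := d8_2 (iv7 F203115) D205573 F402657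
theorem F437048 : act 0 n163425 = n205573 := d20_4 F330380 F119516 (iv4 F119715) (iv3 F257708) (iv3 D205573) (iv4 D126317) (iv1 F164081) (iv4 F171132) F327077 F330391
def n205574 : Q := act 3 n126330
theorem D205574 : act 3 n126330 = n205574 := rfl
theorem F437049 : act 4 n205574 = n192334 := d5_2 (iv4 F313819) D205574 F386461 (iv4 F274025) F274022
theorem F437050 : act 5 n205574 = n194271 := d6_2 (iv5 F203136) D205574 F392596
theorem F437051 : act 6 n205574 = n157069 := d7_2 (iv6 F313820) D205574 (iv3 D157069)
theorem F437052 : act 7 n205574 = n158790 := d8_2 (iv7 F203135) D205574 (iv3 F313054)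
theorem F437053 : act 0 n205574 = n158792 := d19_4 (iv1 F189985) D155118 (iv4 F313819) D205574 (iv5 F416531) F416530 (iv3 F362539) (iv1 D174236) (iv5 D83285) F298329 F55966 (iv1 F28585) (iv5 F298472) (iv4 F301125) (iv3 F25883) D33901 F308049 F77335 (iv3 F77328)
theorem F437054 : act 2 n158789 = n205574 := d4_3 F437052 F307474 (iv7 F353940)
theorem F437055 : act 1 n205574 = n134638 := d15_0 F354481 (iv7 F353940) F437054
def n205575 : Q := act 3 n126334
theorem D205575 : act 3 n126334 = n205575 := rfl
theorem F437056 : act 2 n205575 = n166653 := d0_1 D205575 (iv3 D166653) F330146 F341208 F203141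
theorem F437057 : act 4 n205575 = n160392 := d5_2 (iv4 F203140) D205575 F365973 F168518 (iv3 F100399)
theorem F437058 : act 5 n205575 = n134672 := d6_2 (iv5 F326675) D205575 F334173
theorem F437059 : act 6 n205575 = n198162 := d7_2 F203144 D205575 F407047
theorem F437060 : act 7 n205575 = n197062 := d8_2 (iv7 F203143) D205575 F402876
theorem F437061 : act 0 n205575 = n203854 := d19_4 D30351 D64460 (iv4 F203140) D205575 F430116 (iv4 F319376) F226488 (iv1 F312566) (iv5 D63292) (iv4 F208005) D61833 F248032 (iv5 F107615) (iv4 F237315) F360984 (iv1 D136020) (iv5 D63955) F48507 (iv3 F24057)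
theorem F437062 : act 0 n174807 = n205575 := d20_4 (iv4 F416670) (iv1 F416674) (iv4 D174817) (iv3 F273651) (iv3 D205575) F203140 (iv1 F100402) F328014 (iv3 F334384) F355865
def n205576 : Q := act 4 n126344
theorem D205576 : act 4 n126344 = n205576 := rfl
theorem F437063 : act 2 n205576 = n194866 := d1_1 D205576 F394803 (iv2 F203156)
theorem F437064 : act 7 n205576 = n194865 := d11_2 (iv7 F203157) D205576 F394796
theorem F437065 : act 0 n205576 = n194862 := d17_0 F402531 (iv1 F402529) (iv5 F402652) (iv4 D197004) (iv5 D107526) (iv0 F165148) (iv5 F332893) F332906 D205576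
theorem F437066 : act 1 n205576 = n194867 := d18_6 F174355 F92914 F100259 D59237 D126344 D205576 (iv4 F402625) (iv0 F414483) (iv5 D199986)
def n205577 : Q := act 3 n126345
theorem D205577 : act 3 n126345 = n205577 := rfl
theorem F437067 : act 4 n205577 = n126346 := d5_2 D126345 D205577 (iv3 D126346) (iv4 D59239) (iv3 F93443)
theorem F437068 : act 5 n205577 = n142140 := d6_2 (iv5 F228433) D205577 (iv3 F388151)
theorem F437069 : act 7 n205577 = n143829 := d8_2 (iv7 F203159) D205577 F226471
theorem F437070 : act 1 n142812 = n205577 := d17_6 F342469 F320592 (iv1 D68243) D68244 D145549 (iv5 F353388) F437068 F351576 (iv4 F342466)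
def n205578 : Q := act 4 n126347
theorem D205578 : act 4 n126347 = n205578 := rfl
theorem F437071 : act 2 n205578 = n180600 := d1_1 D205578 (iv4 D180600) (iv2 F352270)
theorem F437072 : act 3 n205578 = n200796 := d5_1 D205578 F417936 (iv3 D126195) D126196 (iv3 F203162)
theorem F437073 : act 6 n205578 = n147374 := d10_2 F348487 D205578 (iv4 F231093)
theorem F437074 : act 7 n205578 = n131522 := d11_2 (iv7 F352271) D205578 F348466
theorem F437075 : act 1 n205578 = n197066 := d18_6 (iv1 D147137) (iv4 F120260) (iv1 F341465) (iv4 F348483) (iv5 F348486) D205578 F402892 (iv0 F416612) F416611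
def n205579 : Q := act 4 n126348
theorem D205579 : act 4 n126348 = n205579 := rfl
theorem F437076 : act 2 n205579 = n131522 := d1_1 D205579 F348466 (iv2 F352274)
theorem F437077 : act 6 n205579 = n131433 := d10_2 F352276 D205579 F210669
theorem F437078 : act 7 n205579 = n180600 := d11_2 (iv7 F352275) D205579 (iv4 D180600)
theorem F437079 : act 0 n205579 = n197066 := d18_2 (iv1 F321900) D205579 F402892 F205186 (iv4 F183877) D202958 F426381 F281117 F281116
theorem F437080 : act 3 n205579 = n197059 := d19_3 (iv1 F348477) (iv5 F352278) D205579 (iv1 F402856) F330499 F93780 F45656 D51119 D110860 (iv4 F342846) (iv3 F342847) F229805 F340840 (iv4 F321273) F87410 D55240 (iv5 F113842) F320522 (iv3 F258287)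
def n205580 : Q := act 6 n126377
theorem D205580 : act 6 n126377 = n205580 := rfl
theorem F437081 : act 2 n205580 = n128958 := d3_1 D205580 (iv6 F349820) F231446
theorem F437082 : act 3 n205580 = n126379 := d7_1 D205580 (iv6 D126379) D126377
theorem F437083 : act 4 n205580 = n161314 := d10_1 D205580 F323068 (iv4 F320735)
theorem F437084 : act 5 n205580 = n128762 := d12_1 D205580 F347320 (iv5 F398124) (iv6 F419150) F419146
theorem F437085 : act 7 n205580 = n128959 := d14_2 F395723 D205580 (iv6 F360218) (iv7 F409057) F409056
theorem F437086 : act 0 n128956 = n205580 := d17_0 F437084 (iv1 D128762) (iv5 F95269) D129055 (iv5 F210731) (iv0 D131464) D131467 F355017 (iv4 F355013)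
theorem F437087 : act 1 n128612 = n205580 := d17_6 (iv1 F329132) (iv5 D123673) F329651 (iv5 D63057) (iv4 F95078) D128612 F437084 F216094 F216090
def n205581 : Q := act 6 n126378
theorem D205581 : act 6 n126378 = n205581 := rfl
theorem F437088 : act 3 n205581 = n195775 := d7_1 D205581 (iv6 F419150) F419148
theorem F437089 : act 4 n205581 = n195792 := d10_1 D205581 F398196 (iv4 F360455)
theorem F437090 : act 7 n205581 = n195769 := d14_2 F360452 D205581 (iv6 D195769) (iv7 F163284) D126272
theorem F437091 : act 5 n205581 = n204926 := d21_6 F380717 (iv1 D182771) D182772 (iv6 F380729) F380731 D205581 F434209 F380137 (iv6 D190557) D190554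
def n205582 : Q := act 5 n126379
theorem D205582 : act 5 n126379 = n205582 := rfl
theorem F437092 : act 3 n205582 = n128762 := d6_1 D205582 (iv5 F437084) F437082
theorem F437093 : act 6 n205582 = n204926 := d12_2 D126379 D205582 (iv5 F437091) (iv6 D205581) (iv5 D126378)
theorem F437094 : act 7 n205582 = n195727 := d13_2 (iv7 F333472) D205582 (iv5 F397961)
theorem F437095 : act 4 n205582 = n195729 := d16_6 (iv4 F397960) (iv5 F397961) F202738 F324478 (iv4 F323931) D205582 F397970 (iv7 F349104) (iv2 F361068)
theorem F437096 : act 0 n205582 = n164178 := d17_2 (iv1 F333474) D205582 (iv5 D164178) (iv4 D78869) F325646 F93278 (iv5 F93269) F93279 D126143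
def n205583 : Q := act 6 n126382
theorem D205583 : act 6 n126382 = n205583 := rfl
theorem F437097 : act 2 n205583 = n193357 := d3_1 D205583 F389563 (iv2 F220912)
theorem F437098 : act 3 n205583 = n126387 := d7_1 D205583 (iv6 D126387) (iv3 F203215)
def n205584 : Q := act 5 n126383
theorem D205584 : act 5 n126383 = n205584 := rfl
theorem F437099 : act 3 n205584 = n126390 := d6_1 D205584 (iv5 D126390) (iv3 F203216)
theorem F437100 : act 7 n205584 = n204233 := d13_2 (iv7 F326139) D205584 (iv5 D204233)
theorem F437101 : act 0 n205584 = n166627 := d17_2 F417600 D205584 (iv5 F435482) F435481 F433416 F433411 (iv5 D199621) D199620 (iv4 F417598)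
theorem F437102 : act 4 n205584 = n199433 := d18_5 (iv1 F417499) D200694 F417526 (iv4 F326138) D205584 (iv0 F431836) (iv4 F431838) F417529 (iv5 F417501)
def n205585 : Q := act 3 n126384
theorem D205585 : act 3 n126384 = n205585 := rfl
theorem F437103 : act 2 n205585 = n196701 := d0_1 D205585 F401532 F357990 D200784 (iv2 F417892)
theorem F437104 : act 5 n205585 = n166322 := d6_2 (iv5 F323913) D205585 F261914
theorem F437105 : act 7 n205585 = n196700 := d8_2 F409946 D205585 (iv3 F409945)
theorem F437106 : act 4 n205585 = n202945 := d20_6 F345918 (iv1 F349665) F220911 F203215 D126384 D205585 (iv1 F426312) F229792 (iv3 F202992) (iv1 F202994)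
theorem F437107 : act 1 n196702 = n205585 := d17_8 (iv1 F426312) F420059 (iv1 D201335) (iv5 F397941) (iv4 F417855) (iv5 D200769) (iv0 F416550) (iv5 F401533) F437106
theorem F437108 : act 0 n196703 = n205585 := d18_0 F437106 (iv1 F426312) F229792 (iv5 D113390) F328514 (iv0 F328754) (iv4 F320735) F416552 (iv5 F401537)
def n205586 : Q := act 4 n126384
theorem D205586 : act 4 n126384 = n205586 := rfl
theorem F437109 : act 2 n205586 = n205539 := d1_1 D205586 F436904 (iv2 F417892)
theorem F437110 : act 7 n205586 = n205540 := d11_2 F409946 D205586 F436909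
theorem F437111 : act 5 n205586 = n205339 := d16_1 D205586 F435978 F349542 F325534 (iv5 F296828) (iv4 F201650) F324453 (iv7 F417891) (iv2 F417892)
theorem F437112 : act 0 n205586 = n131909 := d17_0 (iv5 F349573) F349597 (iv5 F203031) (iv4 F360456) (iv5 D126380) F93517 D59309 F203218 D205586
theorem F437113 : act 1 n205586 = n198755 := d18_6 (iv1 F170923) (iv4 F170925) F322490 (iv4 F122616) (iv5 F323913) D205586 (iv4 D198755) (iv0 F228492) (iv5 D145457)
def n205587 : Q := act 4 n126385
theorem D205587 : act 4 n126385 = n205587 := rfl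
theorem F437114 : act 2 n205587 = n205540 := d1_1 D205587 F436909 F409944
theorem F437115 : act 5 n205587 = n205354 := d9_2 F324453 D205587 F436046 F202748 (iv4 D110535) F321504 (iv4 F122616) (iv5 F323913) D205586 F437111 F435978 F349542 F325534 (iv5 F296828) (iv4 F201650)
theorem F437116 : act 7 n205587 = n205539 := d11_2 F417891 D205587 F436904
theorem F437117 : act 0 n205587 = n198755 := d17_0 F409100 (iv1 F360484) (iv5 F203035) (iv4 F360455) (iv5 D126378) (iv0 D59287) D59290 D126385 D205587
theorem F437118 : act 1 n205587 = n131909 := d18_6 (iv1 F323907) F146899 D95273 (iv4 F201650) F324453 D205587 F211350 F349567 F165919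
theorem F437119 : act 6 n205587 = n131796 := d21_5 (iv5 F417771) (iv1 F417774) F207157 (iv6 F211351) (iv1 F437118) (iv5 F349606) (iv1 F164259) (iv5 D106641) (iv6 F95093) (iv1 F358350)
def n205588 : Q := act 6 n126385
theorem D205588 : act 6 n126385 = n205588 := rfl
theorem F437120 : act 3 n205588 = n200950 := d7_1 D205588 (iv6 D200950) F203221
theorem F437121 : act 4 n205588 = n131796 := d10_1 D205588 (iv6 F437119) (iv4 D205587)
theorem F437122 : act 0 n200950 = n128767 := d20_4 (iv4 F96402) D131796 (iv4 F437121) F437120 (iv3 D128767) (iv4 F343528) (iv1 F176941) (iv4 F228500) F343529 (iv1 D128673)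
def n205589 : Q := act 6 n126386
theorem D205589 : act 6 n126386 = n205589 := rfl
theorem F437123 : act 4 n205589 = n126387 := d10_1 D205589 (iv6 D126387) D126386
theorem F437124 : act 5 n132122 = n205589 := d18_4 (iv1 F396098) F396093 F344414 F217754 F437123 F417946 D200650 (iv0 F417406) F348753
def n205590 : Q := act 0 n126387
theorem D205590 : act 0 n126387 = n205590 := rfl
theorem F437125 : act 5 n205590 = n200637 := d21_0 (iv1 F417313) D200648 F417351 (iv1 F398083) (iv6 F360439) (iv5 D126380) (iv1 D59288) D59290 D126387 D205590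
theorem F437126 : act 2 n200651 = n205590 := d15_3 (iv0 D205590) F417946 D200651
theorem F437127 : act 7 n205590 = n200636 := d4_2 D200651 F437126 F417310
theorem F437128 : act 1 n193359 = n205590 := d15_1 (iv0 F389568) F437127 F417310
def n205591 : Q := act 5 n126387
theorem D205591 : act 5 n126387 = n205591 := rfl
theorem F437129 : act 2 n205591 = n205340 := d2_1 D205591 F435983 F417943
theorem F437130 : act 6 n205591 = n126390 := d12_2 D126387 D205591 (iv5 D126390) (iv6 D59291) D59290
theorem F437131 : act 4 n205591 = n158327 := d16_6 (iv4 F243933) F347126 F217754 F437124 F437123 D205591 F347496 F275788 F271519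
theorem F437132 : act 7 n205591 = n200739 := d16_8 F430232 F344720 (iv4 F243933) F347126 F217754 F437124 F437123 D205591 (iv2 F430230)
theorem F437133 : act 1 n205591 = n200860 := d17_8 (iv1 F258000) (iv5 F205328) F334237 (iv5 F341644) (iv4 F417312) (iv5 F437125) (iv0 D205590) D205591 F418190
def n205592 : Q := act 7 n126387
theorem D205592 : act 7 n126387 = n205592 := rfl
theorem F437134 : act 2 n205592 = n193359 := d4_1 D205592 (iv7 F417945) F417943
theorem F437135 : act 5 n205592 = n200739 := d13_1 D205592 (iv7 F437132) (iv5 D205591)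
theorem F437136 : act 1 n200636 = n205592 := d15_1 (iv0 F435986) (iv7 D205592) (iv2 F417943)
theorem F437137 : act 1 n205592 = n200651 := d15_1 F437136 (iv7 D200651) (iv2 F417310)
def n205593 : Q := act 5 n126392
theorem D205593 : act 5 n126392 = n205593 := rfl
theorem F437138 : act 2 n205593 = n200552 := d2_1 D205593 F416959 (iv2 F362997)
theorem F437139 : act 3 n205593 = n126393 := d6_1 D205593 (iv5 D126393) D126392
theorem F437140 : act 6 n205593 = n126393 := d12_2 F362998 D205593 (iv5 D126393) (iv6 F325724) (iv5 F341736)
theorem F437141 : act 7 n205593 = n205234 := d13_2 (iv7 F362999) D205593 F435546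
theorem F437142 : act 4 n205593 = n199729 := d16_4 F173205 (iv5 F406052) F406051 D205593 (iv5 D199729) (iv4 D111646) D111647 (iv7 F412156) F412155
theorem F437143 : act 0 n205593 = n198099 := d17_2 (iv1 F405517) D205593 (iv5 D198099) (iv4 D108928) (iv5 F354403) F405533 (iv5 D197726) F168482 D108758
theorem F437144 : act 1 n205593 = n198097 := d17_6 (iv1 D198198) (iv5 F355977) F345114 (iv5 F406052) F406051 D205593 (iv5 D198097) F202745 (iv4 F407200)
def n205594 : Q := act 3 n126418
theorem D205594 : act 3 n126418 = n205594 := rfl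
theorem F437145 : act 5 n205594 = n205327 := d6_2 F436134 D205594 F436135
theorem F437146 : act 6 n189903 = n205594 := d12_0 F437145 F436177 (iv5 D125797) D125798 F378171
def n205595 : Q := act 6 n126418
theorem D205595 : act 6 n126418 = n205595 := rfl
theorem F437147 : act 2 n205595 = n128715 := d3_1 D205595 F436169 F436164
theorem F437148 : act 3 n205595 = n189903 := d7_1 D205595 F437146 (iv3 D205594)
theorem F437149 : act 4 n205595 = n126419 := d10_1 D205595 (iv6 D126419) D126418
theorem F437150 : act 5 n205595 = n199730 := d12_1 D205595 (iv6 D199730) D199729 F436176 F436134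
theorem F437151 : act 0 n205588 = n205595 := d21_4 (iv5 D104973) D104971 F324453 D205588 (iv6 D205595) (iv5 F436134) (iv1 D205374) F202373 D126272 F360453
def n205596 : Q := act 0 n126419
theorem D205596 : act 0 n126419 = n205596 := rfl
theorem F437152 : act 6 n205596 = n190554 := d21_5 (iv5 D126378) (iv1 F93521) D59309 D126419 D205596 F380717 (iv1 D182771) D182772 (iv6 F380729) F380731
def n205597 : Q := act 1 n126419
theorem D205597 : act 1 n126419 = n205597 := rfl
theorem F437153 : act 4 n205597 = n145459 := d18_7 D200751 F417772 (iv1 D199733) (iv4 F413282) (iv5 F437150) F437149 D205597 (iv0 F358260) (iv5 F348757)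
theorem F437154 : act 6 n145458 = n205597 := d21_3 (iv5 F359711) (iv1 F436088) F436086 (iv1 D205597) (iv6 D126419) (iv5 D59309) (iv1 F93517) D126380 F360439 F359712
theorem F437155 : act 5 n198969 = n205597 := d21_6 (iv5 F294092) (iv1 F63590) F294069 D97437 (iv1 F382465) F410101 (iv1 D205597) F352535 (iv6 D97394) (iv1 D45479)
theorem F437156 : act 3 n205597 = n131814 := d6_1 F437155 F335829 D198969
def n205598 : Q := act 6 n126424
theorem D205598 : act 6 n126424 = n205598 := rfl
theorem F437157 : act 2 n205598 = n191241 := d3_1 D205598 F382719 (iv2 F325538)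
theorem F437158 : act 3 n205598 = n200551 := d7_1 D205598 (iv6 D200551) F356087
theorem F437159 : act 5 n205598 = n163444 := d12_1 D205598 (iv6 D163444) (iv5 D78546) F325539 D126424
theorem F437160 : act 0 n205392 = n205598 := d21_4 F416829 (iv1 F202009) (iv5 F202387) D205392 (iv6 D205598) (iv5 D126424) F202161 (iv5 F349542) (iv6 D125809) D125806
theorem F437161 : act 7 n205395 = n205598 := d15_2 (iv0 F382720) D205395 F437157
def n205599 : Q := act 5 n126453
theorem D205599 : act 5 n126453 = n205599 := rfl
theorem F437162 : act 2 n205599 = n129676 := d2_1 D205599 (iv5 D129676) F203492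
theorem F437163 : act 3 n205599 = n198979 := d6_1 D205599 (iv5 D198979) F203493
theorem F437164 : act 6 n205599 = n195681 := d12_2 (iv6 F203491) D205599 (iv5 D195681) (iv6 F202248) (iv5 F203487)
theorem F437165 : act 7 n205599 = n200148 := d13_2 F211406 D205599 F415245
theorem F437166 : act 4 n205599 = n202236 := d16_6 F287430 F157904 F136754 F325803 F203494 D205599 F423349 (iv7 F423910) F423909
theorem F437167 : act 1 n205599 = n195540 := d17_6 (iv1 F326622) F142932 F142392 F325803 F203494 D205599 F397287 F211694 F96457
def n205600 : Q := act 4 n126458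
theorem D205600 : act 4 n126458 = n205600 := rfl
theorem F437168 : act 2 n205600 = n135492 := d1_1 D205600 (iv4 F332598) (iv2 F332577)
theorem F437169 : act 3 n205600 = n196020 := d5_1 D205600 (iv4 D196020) (iv3 F358360) D196218 F399950
theorem F437170 : act 0 n205600 = n159643 := d17_0 (iv5 F399315) F399317 F362915 (iv4 D76334) (iv5 D34870) D34869 D76330 F332595 D205600
theorem F437171 : act 1 n205600 = n129649 := d18_6 (iv1 D114895) F177816 (iv1 F177676) (iv4 F161702) (iv5 F332578) D205600 F327301 D159635 (iv5 F251474)
def n205601 : Q := act 4 n126459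
theorem D205601 : act 4 n126459 = n205601 := rfl
theorem F437172 : act 3 n205601 = n129639 := d5_1 D205601 F349612 (iv3 F417213) F417214 (iv3 F332579)
theorem F437173 : act 7 n205601 = n135492 := d11_2 (iv7 F332582) D205601 (iv4 F332598)
theorem F437174 : act 0 n205601 = n129649 := d17_0 (iv5 F399305) F399306 (iv5 F419329) F419328 F177520 F83145 (iv5 F332573) D126459 D205601
theorem F437175 : act 1 n205601 = n159643 := d18_6 D76466 F177835 (iv1 F177673) (iv4 F177669) (iv5 F332580) D205601 (iv4 D159643) (iv0 F139382) (iv5 D76468)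
def n205602 : Q := act 6 n126464
theorem D205602 : act 6 n126464 = n205602 := rfl
theorem F437176 : act 2 n205602 = n194049 := d3_1 D205602 (iv6 F391871) (iv2 F363644)
theorem F437177 : act 3 n205602 = n126465 := d7_1 D205602 (iv6 D126465) D126464
theorem F437178 : act 4 n205602 = n183465 := d10_1 D205602 (iv6 F364222) (iv4 F203310)
theorem F437179 : act 0 n195227 = n205602 := d21_4 F76635 D48756 D105442 D195227 (iv6 D205602) F203311 D135631 F218111 (iv6 F339447) (iv1 D105335)
theorem E103903 : n195227 = n194045 := (c15_1 (iv0 F437179) (iv0 D194045) D194049 (iv2 F437176))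
theorem F437180 : act 0 n194045 = n205602 := (sb E103903 F437179)
theorem F437181 : act 6 n194045 = n105442 := (sb E103903 (iv6 D195227))
theorem F437182 : act 7 n194014 = n205602 := d11_0 F437178 F285216 D194014
theorem F437183 : act 1 n194046 = n205602 := d18_6 (iv1 D89027) (iv4 F136654) F144820 (iv4 F144819) D186796 F391859 F437178 F285215 F157818
def n205603 : Q := act 6 n126466
theorem D205603 : act 6 n126466 = n205603 := rfl
theorem F437184 : act 2 n205603 = n196029 := d3_1 D205603 (iv6 D196029) (iv2 F203320)
theorem F437185 : act 3 n205603 = n128665 := d7_1 D205603 (iv6 D128665) F203318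
theorem F437186 : act 4 n205603 = n135526 := d10_1 D205603 (iv6 D135526) (iv4 F203321)
theorem F437187 : act 5 n205603 = n197082 := d12_1 D205603 (iv6 D197082) (iv5 F166222) (iv6 F170675) F203319
theorem F437188 : act 7 n205603 = n197082 := d14_2 (iv7 F203317) D205603 (iv6 D197082) (iv7 F202266) F202264
theorem F437189 : act 0 n205603 = n201057 := d21_4 (iv5 F92875) (iv1 F170674) F203319 D205603 (iv6 F432209) F432206 (iv1 F390639) (iv5 D132565) F173180 (iv1 D60609)
theorem F437190 : act 0 n132164 = n205603 := d21_4 (iv5 F204304) F397288 F397287 F211695 (iv6 D205603) (iv5 F203319) (iv1 F170698) (iv5 F203301) (iv6 F404664) (iv1 F404665)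
def n205604 : Q := act 4 n126470
theorem D205604 : act 4 n126470 = n205604 := rfl
theorem F437191 : act 2 n205604 = n133209 := d1_1 D205604 (iv4 D133209) (iv2 F208652)
theorem F437192 : act 7 n205604 = n134790 := d11_2 F209550 D205604 F216907
theorem F437193 : act 0 n205604 = n135063 := d18_2 (iv1 F208650) D205604 (iv4 F217587) (iv5 D130116) (iv4 D61089) F47278 D62315 F97167 D130133
theorem F437194 : act 1 n205604 = n201145 := d18_6 (iv1 D130976) (iv4 D61448) (iv1 F47418) (iv4 F97470) F208651 D205604 F419259 F326351 F212512
theorem F437195 : act 3 n205604 = n134794 := d20_3 F405057 (iv1 F208650) D205604 F410160 F98618 F48183 F207210 D63596 F207211 D197622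
theorem F437196 : act 6 n190717 = n205604 := d7_0 F437195 (iv6 F411676) F380774
def n205605 : Q := act 6 n126470
theorem D205605 : act 6 n126470 = n205605 := rfl
theorem F437197 : act 2 n205605 = n133210 := d3_1 D205605 (iv6 D133210) (iv2 F208652)
theorem F437198 : act 4 n205605 = n190717 := d10_1 D205605 F437196 (iv4 D205604)
theorem F437199 : act 0 n205605 = n134498 := d21_4 F209528 (iv1 F97472) F208651 D205605 (iv6 F413480) (iv5 D199781) D199779 (iv5 F413466) (iv6 D132786) (iv1 F209530)
theorem F437200 : act 0 n188738 = n205605 := d21_4 (iv5 F65313) (iv1 F69122) (iv5 F142989) D188738 (iv6 D205605) (iv5 F208651) (iv1 F97473) (iv5 F97448) (iv6 F324313) (iv1 F68183)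
theorem F437201 : act 7 n189567 = n205605 := d11_0 F437198 F380773 (iv4 F376908)
def n205606 : Q := act 4 n126473
theorem D205606 : act 4 n126473 = n205606 := rfl
def n205607 : Q := act 6 n126473
theorem D205607 : act 6 n126473 = n205607 := rfl
theorem F437202 : act 3 n205607 = n200666 := d7_1 D205607 (iv6 F417401) F399510
def n205608 : Q := act 4 n126474
theorem D205608 : act 4 n126474 = n205608 := rfl
theorem F437203 : act 3 n205608 = n134155 := d20_9 F421957 (iv1 F215988) (iv4 F211853) (iv3 D132226) (iv1 F96668) (iv3 F207596) F207597 (iv1 F203527) D205608 (iv1 F421960)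
def n205609 : Q := act 6 n126474
theorem D205609 : act 6 n126474 = n205609 := rfl
def n205610 : Q := act 5 n126475
theorem D205610 : act 5 n126475 = n205610 := rfl
theorem F437204 : act 2 n205610 = n126476 := d2_1 D205610 (iv5 D126476) D126475
theorem F437205 : act 3 n205610 = n129145 := d6_1 D205610 (iv5 D129145) (iv3 F203342)
theorem F437206 : act 0 n135027 = n205610 := d19_0 (iv5 D205610) (iv4 F211736) F211735 (iv1 F96674) D129466 (iv4 F384482) (iv3 F384483) F307404 (iv5 D87401) F305065 D179660 (iv1 F306460) F301922 F106039 F51369 D32350 D69696 D148713 (iv3 F363272)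
theorem F437207 : act 0 n205610 = n129644 := d20_4 (iv4 F80559) D110793 (iv4 F207385) (iv3 F437205) (iv3 D129644) F315471 (iv1 F315469) (iv4 F208382) (iv3 D126598) (iv1 D59393)
def n205611 : Q := act 6 n126475
theorem D205611 : act 6 n126475 = n205611 := rfl
theorem F437208 : act 2 n205611 = n126477 := d3_1 D205611 (iv6 D126477) D126475
theorem F437209 : act 3 n205611 = n129146 := d7_1 D205611 (iv6 D129146) (iv3 F203342)
theorem F437210 : act 4 n205611 = n200083 := d10_1 D205611 (iv6 F414952) F211736
theorem F437211 : act 0 n205611 = n132676 := d21_10 F212995 F209273 (iv5 F361164) (iv6 D129813) D129809 (iv6 F396541) F336995 F437206 (iv5 D205610) D205611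
theorem F437212 : act 5 n126572 = n205611 := d17_1 (iv1 F203571) F437211 F212995 (iv4 D130710) F172580 F172578 F161105 F99046 (iv4 F168170)
theorem F437213 : act 1 n205611 = n132675 := d15_1 (iv0 F437211) (iv7 F212993) F212996
theorem F437214 : act 7 n205611 = n126571 := d15_2 D132676 (iv0 F437211) F203566
def n205612 : Q := act 0 n126476
theorem D205612 : act 0 n126476 = n205612 := rfl
theorem F437215 : act 3 n205612 = n159643 := d20_5 D59363 F93639 (iv4 F93607) (iv3 F203343) D205612 (iv4 D159643) (iv1 F251472) (iv4 F341607) F203427 (iv1 D59362)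
theorem F437216 : act 4 n205612 = n134770 := d20_0 (iv1 F216845) (iv4 F203612) F203611 F203591 F93632 D59363 F93639 (iv4 F93607) (iv3 F203343) D205612
theorem F437217 : act 2 n129644 = n205612 := d15_3 (iv0 D205612) (iv0 F212954) F212953
theorem F437218 : act 5 n205612 = n126483 := d2_2 F336990 F437217 (iv2 F336993)
theorem F437219 : act 7 n205612 = n135027 := d4_2 F212953 F437217 F217259
def n205613 : Q := act 4 n126476
theorem D205613 : act 4 n126476 = n205613 := rfl
theorem F437220 : act 3 n205613 = n130936 := d5_1 D205613 (iv4 D130936) F95931 (iv4 F93607) (iv3 F203343)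
theorem F437221 : act 5 n205613 = n204556 := d18_4 F216849 (iv4 F216847) F212954 D205613 F432854 D204558 (iv4 F434128) F365168 (iv5 D135033)
def n205614 : Q := act 0 n126478
theorem D205614 : act 0 n126478 = n205614 := rfl
theorem F437222 : act 4 n205614 = n135234 := d20_2 (iv4 F203346) D205614 (iv3 D135234) F100303 F327706 (iv4 F391702) (iv1 D113542) F82760 (iv3 F82820) F366026
theorem F437223 : act 1 n129158 = n205614 := d15_0 (iv0 D205614) (iv7 F345878) (iv2 F345879)
theorem F437224 : act 0 n200916 = n144853 := d20_4 (iv4 F437222) (iv1 F437223) (iv4 F366029) D200916 (iv3 F252050) F335959 F363810 (iv4 F349122) F363812 (iv1 F363816)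
theorem F437225 : act 3 n126489 = n205614 := d20_9 (iv4 F366029) (iv1 D113623) (iv4 F176806) (iv3 F418101) F418103 F203600 F93712 (iv1 F163865) (iv4 F203365) (iv1 F437223)
theorem F437226 : act 2 n205614 = n129155 := d0_1 F437225 (iv3 F371483) F374829 (iv3 D129666) (iv2 F203369)
theorem F437227 : act 6 n205614 = n129851 := d7_2 F203366 F437225 (iv3 D129851)
theorem F437228 : act 7 n205614 = n129156 := d8_2 F203367 F437225 F363935
def n205615 : Q := act 1 n126478
theorem D205615 : act 1 n126478 = n205615 := rfl
theorem F437229 : act 1 n205615 = n129158 := d15_1 D205615 (iv7 D129158) (iv2 F203345)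
theorem F437230 : act 7 n205615 = n129155 := d15_2 (iv0 D205614) D205615 (iv2 F437226)
theorem F437231 : act 4 n135649 = n205615 := d20_6 (iv4 D193347) (iv1 D101482) D101483 F361248 (iv1 F418930) F418927 (iv1 D205615) F203346 (iv3 F209555) (iv1 F389540)
theorem F437232 : act 2 n205615 = n129156 := d1_1 F437231 F363936 (iv2 F363817)
theorem F437233 : act 6 n205615 = n146767 := d10_2 (iv6 F363818) F437231 (iv4 D146767)
theorem F437234 : act 5 n129467 = n205615 := d2_0 F437232 (iv5 F345876) F211860
def n205616 : Q := act 3 n126479
theorem D205616 : act 3 n126479 = n205616 := rfl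
theorem F437235 : act 4 n205616 = n133229 := d5_2 (iv4 F203347) D205616 (iv3 D133229) (iv4 D62518) D62517
theorem F437236 : act 7 n205616 = n129161 := d8_2 F203349 D205616 (iv3 D129161)
theorem F437237 : act 2 n205616 = n129662 := d15_3 (iv0 D129662) (iv0 F378885) (iv7 F437236)
theorem F437238 : act 4 n129662 = n135805 := d1_2 (iv4 F437235) F437237 (iv2 F344977)
theorem F437239 : act 1 n129665 = n205616 := d18_6 F363793 (iv4 F376163) (iv1 F376166) (iv4 F420637) F420639 F218298 F437235 F370290 D135619
theorem F437240 : act 0 n126488 = n205616 := d20_1 (iv4 F203364) F437235 (iv3 D133229) D133228 (iv3 F391866) (iv4 F391978) (iv1 F391983) F342922 (iv3 F359183) (iv1 D134495)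
def n205617 : Q := act 3 n126480
theorem D205617 : act 3 n126480 = n205617 := rfl
theorem F437241 : act 4 n205617 = n128737 := d5_2 (iv4 F203353) D205617 (iv3 D128737) (iv4 F173156) (iv3 F167951)
theorem F437242 : act 7 n205617 = n129159 := d8_2 (iv7 F203352) D205617 (iv3 D129159)
def n205618 : Q := act 6 n126480
theorem D205618 : act 6 n126480 = n205618 := rfl
theorem F437243 : act 2 n205618 = n129163 := d3_1 D205618 (iv6 D129163) F203354
theorem F437244 : act 4 n205618 = n135488 := d10_1 D205618 (iv6 D135488) (iv4 F203353)
theorem F437245 : act 0 n133172 = n205618 := d20_1 D133172 F437244 F217884 F216104 F164596 D134456 F413128 F413125 F211905 F101903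
def n205619 : Q := act 0 n126481
theorem D205619 : act 0 n126481 = n205619 := rfl
theorem F437246 : act 5 n205619 = n129815 := d17_1 D205619 (iv1 F208162) (iv5 F208206) F345870 F322720 F132214 (iv5 F348898) F348896 (iv4 F345885)
theorem F437247 : act 4 n205619 = n163725 := d18_3 (iv1 F213040) (iv4 F345885) D205619 (iv5 D163725) (iv4 D78662) (iv0 F248739) D39919 D86261 (iv5 F324967)
theorem F437248 : act 1 n129167 = n205619 := d15_0 (iv0 D205619) F345887 (iv2 F326005)
theorem F437249 : act 2 n129164 = n205619 := d1_3 F437247 F258083 (iv4 F334315)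
theorem F437250 : act 7 n129165 = n205619 := d11_0 F437247 F258084 (iv4 F334317)
theorem F437251 : act 6 n132549 = n205619 := d21_5 D129466 (iv1 F208672) (iv5 D62186) D62187 D132549 F437246 (iv1 F208162) (iv5 F208206) F345871 (iv1 F96674)
def n205620 : Q := act 1 n126481
theorem D205620 : act 1 n126481 = n205620 := rfl
theorem F437252 : act 1 n205620 = n129167 := d15_1 D205620 (iv7 D129167) (iv2 F203355)
theorem F437253 : act 7 n205620 = n129164 := d15_2 (iv0 D205619) D205620 F437249
theorem F437254 : act 5 n205620 = n129668 := d17_7 F95456 F326085 F325966 (iv5 F45590) (iv4 F93611) D126481 D205620 (iv0 F207844) F95539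
theorem F437255 : act 4 n205620 = n132880 := d17_9 (iv1 F359610) (iv5 F334310) F302182 D163807 F345861 F208204 (iv0 D126479) D126481 D205620
theorem F437256 : act 2 n129165 = n205620 := d1_3 F437255 F334328 (iv4 F334317)
theorem F437257 : act 3 n148743 = n205620 := d5_5 F437255 (iv3 D132880) (iv4 F324721) F143117 (iv4 F233518)
theorem F437258 : act 6 n148742 = n205620 := d10_0 F437255 F359608 (iv4 F233517)
def n205621 : Q := act 4 n126483
theorem D205621 : act 4 n126483 = n205621 := rfl
theorem F437259 : act 3 n205621 = n196254 := d5_1 D205621 F400074 F399216 D196073 F399318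
def n205622 : Q := act 6 n126483
theorem D205622 : act 6 n126483 = n205622 := rfl
def n205623 : Q := act 4 n126484
theorem D205623 : act 4 n126484 = n205623 := rfl
theorem F437260 : act 3 n205623 = n134260 := d5_1 D205623 F352311 F250300 (iv4 F336985) (iv3 F216362)
def n205624 : Q := act 6 n126484
theorem D205624 : act 6 n126484 = n205624 := rfl
theorem F437261 : act 2 n205624 = n129809 := d3_1 D205624 (iv6 F396541) (iv2 F336992)
theorem F437262 : act 7 n129810 = n205624 := d15_2 (iv0 D129809) D129810 F437261
def n205625 : Q := act 5 n126485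
theorem D205625 : act 5 n126485 = n205625 := rfl
theorem F437263 : act 2 n205625 = n126486 := d2_1 D205625 (iv5 D126486) D126485
theorem F437264 : act 3 n205625 = n129651 := d6_1 D205625 (iv5 D129651) (iv3 F203360)
theorem F437265 : act 0 n134937 = n205625 := d19_0 (iv5 D205625) (iv4 F212701) F212700 (iv1 F96954) F207694 F355253 F283407 D182030 F364045 (iv4 D120553) (iv3 F233078) (iv1 F114778) (iv5 F227912) F355272 F114607 D76466 F114609 D148725 (iv3 F362912)
theorem F437266 : act 0 n205625 = n129137 := d20_4 (iv4 F207342) (iv1 F361793) (iv4 F361792) (iv3 F437264) (iv3 D129137) D129138 F214707 F214705 (iv3 F208393) (iv1 D129115)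
def n205626 : Q := act 6 n126485
theorem D205626 : act 6 n126485 = n205626 := rfl
theorem F437267 : act 2 n205626 = n126487 := d3_1 D205626 (iv6 D126487) D126485
theorem F437268 : act 3 n205626 = n129652 := d7_1 D205626 (iv6 D129652) (iv3 F203360)
def n205627 : Q := act 0 n126486
theorem D205627 : act 0 n126486 = n205627 := rfl
theorem F437269 : act 3 n205627 = n159554 := d20_5 F326331 F325458 (iv4 F93618) (iv3 F203361) D205627 F251294 (iv1 D76381) D76382 F333190 (iv1 F95284)
theorem F437270 : act 4 n205627 = n134757 := d20_0 (iv1 F216809) (iv4 F217128) F217127 (iv1 F212550) F207331 F326331 F325458 (iv4 F93618) (iv3 F203361) D205627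
theorem F437271 : act 2 n129137 = n205627 := d15_3 (iv0 D205627) (iv0 F212447) F214756
theorem F437272 : act 5 n205627 = n126553 := d2_2 (iv5 F380832) F437271 F380830
theorem F437273 : act 7 n205627 = n134937 := d4_2 F214756 F437271 F217153
def n205628 : Q := act 4 n126486
theorem D205628 : act 4 n126486 = n205628 := rfl
theorem F437274 : act 3 n205628 = n130137 := d5_1 D205628 (iv4 D130137) F95612 (iv4 F93618) (iv3 F203361)
def n205629 : Q := act 6 n126486
theorem D205629 : act 6 n126486 = n205629 := rfl
theorem F437275 : act 3 n205629 = n126488 := d7_1 D205629 (iv6 D126488) (iv3 F203361)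
def n205630 : Q := act 0 n126487
theorem D205630 : act 0 n126487 = n205630 := rfl
theorem F437276 : act 6 n205630 = n132254 := d21_5 F380826 F212447 (iv5 D126486) D126487 D205630 F211895 (iv1 F203571) F437212 (iv6 D205611) (iv1 F203526)
def n205631 : Q := act 1 n126487
theorem D205631 : act 1 n126487 = n205631 := rfl
def n205632 : Q := act 5 n126487
theorem D205632 : act 5 n126487 = n205632 := rfl
theorem F437277 : act 3 n205632 = n126491 := d6_1 D205632 (iv5 D126491) (iv3 F203362)
def n205633 : Q := act 7 n126487
theorem D205633 : act 7 n126487 = n205633 := rfl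
theorem F437278 : act 3 n205633 = n126492 := d8_1 D205633 (iv7 D126492) (iv3 F203362)
theorem F437279 : act 4 n205633 = n132247 := d11_1 D205633 F361167 F212709
theorem F437280 : act 6 n205633 = n132256 := d14_1 D205633 F361166 (iv6 D126567) F93684 D126487
def n205634 : Q := act 1 n126488
theorem D205634 : act 1 n126488 = n205634 := rfl
theorem F437281 : act 1 n205634 = n129665 := d15_1 D205634 (iv7 D129665) (iv2 F203363)
theorem F437282 : act 7 n205634 = n129662 := d15_2 (iv0 F437240) D205634 (iv2 F437237)
theorem F437283 : act 2 n129161 = n205634 := d4_3 F437282 (iv2 F437237) F437236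
theorem F437284 : act 4 n135618 = n205634 := d11_3 F437282 F437238 (iv7 F370291)
def n205635 : Q := act 5 n126488
theorem D205635 : act 5 n126488 = n205635 := rfl
theorem F437285 : act 2 n205635 = n129664 := d2_1 D205635 (iv5 D129664) (iv2 F203363)
theorem F437286 : act 6 n205635 = n126491 := d12_2 D126488 D205635 (iv5 D126491) (iv6 D59346) D59345
theorem F437287 : act 4 n205635 = n186602 := d16_2 (iv4 F203364) D205635 (iv5 D186602) (iv4 F145274) (iv5 F178682) (iv4 F420637) F420639 (iv7 D135761) F99231
theorem F437288 : act 7 n191576 = n205635 := d11_0 F437287 F367414 D191576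
def n205636 : Q := act 7 n126488
theorem D205636 : act 7 n126488 = n205636 := rfl
theorem F437289 : act 2 n205636 = n129665 := d4_1 D205636 (iv7 D129665) (iv2 F203363)
theorem F437290 : act 4 n205636 = n134497 := d11_1 D205636 (iv7 D134497) (iv4 F203364)
theorem F437291 : act 5 n205636 = n191576 := d13_1 D205636 F437288 (iv5 D205635)
theorem F437292 : act 1 n129161 = n205636 := d15_1 (iv0 F378885) (iv7 D205636) F203363
theorem F437293 : act 1 n205636 = n129662 := d15_1 F437292 (iv7 F437282) (iv2 F437283)
def n205637 : Q := act 5 n126489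
theorem D205637 : act 5 n126489 = n205637 := rfl
theorem F437294 : act 2 n205637 = n129667 := d2_1 D205637 (iv5 D129667) (iv2 F203369)
theorem F437295 : act 7 n205637 = n129670 := d13_2 F203367 D205637 (iv5 D129670)
theorem F437296 : act 4 n205637 = n193167 := d16_2 (iv4 F203365) D205637 (iv5 D193167) F184638 (iv5 F332352) F217890 (iv5 D135489) F164006 (iv2 F164004)
def n205638 : Q := act 3 n126490
theorem D205638 : act 3 n126490 = n205638 := rfl
theorem F437297 : act 4 n205638 = n128856 := d5_2 F203374 D205638 (iv3 D128856) F99163 F168194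
theorem F437298 : act 7 n205638 = n129666 := d8_2 (iv7 F203372) D205638 (iv3 D129666)
theorem F437299 : act 0 n205638 = n135495 := d20_4 F203406 (iv1 F99063) F203374 D205638 F371081 (iv4 D187638) D187637 (iv4 F371078) (iv3 D129677) (iv1 F203408)
def n205639 : Q := act 5 n126490
theorem D205639 : act 5 n126490 = n205639 := rfl
theorem F437300 : act 2 n205639 = n129670 := d2_1 D205639 (iv5 D129670) F203373
theorem F437301 : act 4 n205639 = n193169 := d9_1 D205639 (iv5 D193169) F306325 F332363 (iv4 F332364) (iv5 D135233) (iv4 F203365) D205637 F437296 (iv5 D193167) F184638 (iv5 F332352) F217890 (iv5 D135489) F203374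
theorem F437302 : act 7 n205639 = n129667 := d13_2 (iv7 F203372) D205639 (iv5 D129667)
def n205640 : Q := act 6 n126490
theorem D205640 : act 6 n126490 = n205640 := rfl
theorem F437303 : act 2 n205640 = n129671 := d3_1 D205640 (iv6 D129671) F203373
theorem F437304 : act 4 n205640 = n135490 := d10_1 D205640 (iv6 D135490) F203374
theorem F437305 : act 7 n205640 = n129850 := d14_2 (iv7 F203372) D205640 (iv6 D129850) F207843 (iv6 D129668)
theorem F437306 : act 5 n129484 = n205640 := d21_2 D60845 D129484 (iv6 D205640) (iv1 D126490) (iv6 D59346) D59345 (iv1 F95319) (iv5 D60709) D60710 F95321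
theorem F437307 : act 0 n205640 = n126866 := d17_2 D129484 F437306 (iv5 F407116) (iv4 D198177) (iv5 F352236) F167985 D108864 F373173 (iv4 D129486)
theorem F437308 : act 1 n205640 = n126869 := d15_1 (iv0 F437307) (iv7 F397298) F397296
def n205641 : Q := act 1 n126491
theorem D205641 : act 1 n126491 = n205641 := rfl
theorem F437309 : act 1 n205641 = n129675 := d15_1 D205641 (iv7 D129675) (iv2 F203375)
theorem F437310 : act 7 n205641 = n129672 := d15_2 F207625 D205641 (iv2 F207847)
theorem F437311 : act 5 n205641 = n132220 := d17_7 F101873 (iv5 F112237) (iv1 F112239) (iv5 F78607) (iv4 F93620) D126491 D205641 F211842 (iv4 D129217)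
theorem F437312 : act 4 n205641 = n193170 := d17_9 (iv1 D193170) (iv5 D101261) D101259 D193167 (iv4 F437296) (iv5 D205637) (iv0 D126489) D126491 D205641
theorem F437313 : act 2 n129673 = n205641 := d1_3 F437312 F389028 F346166
def n205642 : Q := act 4 n126491
theorem D205642 : act 4 n126491 = n205642 := rfl
theorem F437314 : act 2 n205642 = n129674 := d1_1 D205642 (iv4 D129674) (iv2 F203375)
theorem F437315 : act 6 n205642 = n186602 := d10_2 F437286 D205642 (iv4 F437287)
theorem F437316 : act 5 n205642 = n173419 := d16_1 D205642 F332347 F332341 (iv4 D74793) F53933 (iv4 F95453) (iv5 F207850) (iv7 D129675) (iv2 F203375)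
theorem F437317 : act 0 n205642 = n191556 := d18_2 (iv1 D205641) D205642 F383796 (iv5 D129440) F95391 D60830 D129442 F211841 (iv5 F437311)
theorem F437318 : act 3 n205642 = n177717 := d19_3 (iv1 D126490) D126491 D205642 F356282 F356283 F268169 F263960 (iv1 F299403) F148171 D180009 (iv3 F389409) (iv1 F389411) D193305 (iv4 F389427) F380279 (iv1 D190608) (iv5 F362290) (iv4 F437297) (iv3 D205638)
theorem F437319 : act 0 n186696 = n205642 := d20_10 (iv4 D205642) (iv1 F207625) F346164 F220120 (iv1 F338557) F332697 (iv4 F368077) (iv1 F368080) (iv4 F184768) D186696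
theorem F437320 : act 7 n191524 = n205642 := d8_0 F437318 (iv7 F363154) (iv3 F383662)
def n205643 : Q := act 7 n126491
theorem D205643 : act 7 n126491 = n205643 := rfl
theorem F437321 : act 2 n205643 = n129675 := d4_1 D205643 (iv7 D129675) (iv2 F203375)
theorem F437322 : act 4 n205643 = n191524 := d11_1 D205643 F437320 (iv4 D205642)
theorem F437323 : act 5 n205643 = n126492 := d13_1 D205643 (iv7 D126492) D126491
theorem F437324 : act 1 n129673 = n205643 := d15_1 D129673 (iv7 D205643) F203375
theorem F437325 : act 1 n205643 = n129672 := d15_1 F437324 (iv7 F437310) (iv2 F437313)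
theorem F437326 : act 6 n205610 = n205643 := d12_0 F437323 (iv6 F203569) F437212 (iv6 D205611) D205610
def n205644 : Q := act 3 n126493
theorem D205644 : act 3 n126493 = n205644 := rfl
theorem F437327 : act 4 n205644 = n134246 := d5_2 D126493 D205644 (iv3 D134246) F168468 (iv3 F168467)
theorem F437328 : act 6 n205644 = n129861 := d7_2 (iv6 F203381) D205644 (iv3 D129861)
theorem F437329 : act 7 n205644 = n129683 := d8_2 (iv7 F203382) D205644 (iv3 D129683)
def n205645 : Q := act 5 n126493
theorem D205645 : act 5 n126493 = n205645 := rfl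
theorem F437330 : act 2 n205645 = n129678 := d2_1 D205645 (iv5 D129678) (iv2 F203380)
theorem F437331 : act 7 n205645 = n129684 := d13_2 (iv7 F203382) D205645 (iv5 D129684)
theorem F437332 : act 4 n205645 = n191525 := d16_2 D126493 D205645 (iv5 D191525) (iv4 F268253) (iv5 F332377) F204305 F94033 F171915 (iv2 F171912)
def n205646 : Q := act 3 n126496
theorem D205646 : act 3 n126496 = n205646 := rfl
theorem F437333 : act 4 n205646 = n134472 := d5_2 D126496 D205646 (iv3 D134472) (iv4 F203496) F203495
theorem F437334 : act 7 n205646 = n129677 := d8_2 (iv7 F203396) D205646 (iv3 D129677)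
theorem F437335 : act 0 n205646 = n126517 := d20_4 F95453 (iv1 F93623) D126496 D205646 (iv3 F203651) F203652 (iv1 F363816) (iv4 F437222) (iv3 F437225) (iv1 F203368)
def n205647 : Q := act 5 n126496
theorem D205647 : act 5 n126496 = n205647 := rfl
theorem F437336 : act 2 n205647 = n129684 := d2_1 D205647 (iv5 D129684) (iv2 F203395)
theorem F437337 : act 4 n205647 = n173421 := d9_1 D205647 (iv5 D173421) F127910 D82990 (iv4 F332372) (iv5 D126494) D126493 D205645 F437332 (iv5 D191525) (iv4 F268253) (iv5 F332377) F204305 F94033 D126496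
theorem F437338 : act 7 n205647 = n129678 := d13_2 (iv7 F203396) D205647 (iv5 D129678)
theorem F437339 : act 6 n134156 = n205647 := d3_0 F437336 F421954 F421964
def n205648 : Q := act 6 n126496
theorem D205648 : act 6 n126496 = n205648 := rfl
theorem F437340 : act 2 n205648 = n129685 := d3_1 D205648 (iv6 D129685) (iv2 F203395)
theorem F437341 : act 4 n205648 = n126497 := d10_1 D205648 (iv6 D126497) D126496
theorem F437342 : act 5 n205648 = n198013 := d12_1 D205648 F406512 (iv5 F421965) F437339 (iv5 D205647)
theorem F437343 : act 7 n205648 = n129860 := d14_2 (iv7 F203396) D205648 (iv6 D129860) F207857 (iv6 D129679)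
theorem F437344 : act 0 n137320 = n205648 := d17_2 D198178 F407119 F437342 (iv4 D198013) (iv5 D108864) F167981 (iv5 F359825) (iv0 D108997) D108999
theorem F437345 : act 1 n137319 = n205648 := d15_0 (iv0 F437344) (iv7 F401489) F401488
def n205649 : Q := act 2 n126498
theorem D205649 : act 2 n126498 = n205649 := rfl
theorem F437346 : act 7 n126499 = n205649 := d15_2 (iv0 D126498) D126499 (iv2 D205649)
def n205650 : Q := act 3 n126498
theorem D205650 : act 3 n126498 = n205650 := rfl
theorem F437347 : act 4 n205650 = n129810 := d20_6 (iv4 D14268) D14266 (iv4 F45594) D59350 D126498 D205650 (iv1 D129810) F95513 (iv3 D59380) F45625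
theorem F437348 : act 0 n126527 = n205650 := d20_10 F437347 (iv1 D129810) F95513 (iv3 D59380) F45625 D30063 F48300 D30091 (iv4 F93635) D126527
theorem F437349 : act 1 n126519 = n205650 := d15_0 (iv0 F437348) (iv7 F203655) F203653
def n205651 : Q := act 4 n126498
theorem D205651 : act 4 n126498 = n205651 := rfl
def n205652 : Q := act 5 n126498
theorem D205652 : act 5 n126498 = n205652 := rfl
def n205653 : Q := act 6 n126498
theorem D205653 : act 6 n126498 = n205653 := rfl
def n205654 : Q := act 7 n126498
theorem D205654 : act 7 n126498 = n205654 := rfl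
theorem F437350 : act 2 n205654 = n126499 := d4_1 D205654 F437346 (iv2 D205649)
theorem F437351 : act 6 n134260 = n205654 := d3_0 F437350 (iv6 F396471) F396470
def n205655 : Q := act 3 n126499
theorem D205655 : act 3 n126499 = n205655 := rfl
theorem F437352 : act 4 n205655 = n200851 := d5_2 F217311 D205655 (iv3 F418152) F207255 D135087
theorem F437353 : act 6 n205655 = n196255 := d7_2 F396471 D205655 F400079
theorem F437354 : act 1 n196245 = n205655 := d17_8 (iv1 D200851) (iv5 D113556) (iv1 F93085) D125707 (iv4 F418181) (iv5 D200858) D200857 (iv5 F418177) F437352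
theorem F437355 : act 0 n196248 = n205655 := d18_0 F437352 (iv1 D200851) F358341 (iv5 F212430) F358342 F202200 (iv4 F418181) F418183 (iv5 F418174)
def n205656 : Q := act 5 n126499
theorem D205656 : act 5 n126499 = n205656 := rfl
theorem F437356 : act 0 n126519 = n205656 := d19_0 (iv5 D205656) (iv4 F217311) (iv3 D135087) (iv1 F207066) (iv5 F332676) (iv4 F295270) (iv3 F367950) (iv1 F367952) (iv5 D120488) D120487 F298356 F296751 (iv5 F296756) D83914 (iv3 F335160) (iv1 F178976) (iv5 F327786) (iv4 D126520) D126519
theorem F437357 : act 4 n205656 = n129809 := d20_0 (iv1 F212703) F212701 F203360 (iv1 F97065) D132658 F327790 (iv1 F327784) (iv4 D126520) D126519 F437356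
def n205657 : Q := act 5 n126500
theorem D205657 : act 5 n126500 = n205657 := rfl
theorem F437358 : act 2 n205657 = n126501 := d2_1 D205657 (iv5 D126501) D126500
theorem F437359 : act 3 n205657 = n129101 := d6_1 D205657 (iv5 F212400) F203592
theorem F437360 : act 7 n205657 = n148732 := d13_2 F203613 D205657 F364736
def n205658 : Q := act 6 n126500
theorem D205658 : act 6 n126500 = n205658 := rfl
theorem F437361 : act 2 n205658 = n126502 := d3_1 D205658 (iv6 D126502) D126500
theorem F437362 : act 3 n205658 = n196238 := d7_1 D205658 F400014 F203592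
theorem F437363 : act 4 n205658 = n193171 := d10_1 D205658 F389032 F216854
theorem F437364 : act 7 n205658 = n126581 := d14_2 F203613 D205658 (iv6 F344983) F294309 (iv6 F344980)
theorem F437365 : act 5 n126582 = n205658 := d13_3 F437364 (iv5 D126581) D126582
theorem F437366 : act 1 n205658 = n129440 := d17_6 (iv1 F214089) (iv5 D62580) D62579 F100096 (iv4 F203606) F437365 (iv5 D129440) D129439 F214084
def n205659 : Q := act 0 n126501
theorem D205659 : act 0 n126501 = n205659 := rfl
theorem F437367 : act 4 n205659 = n129418 := d20_0 (iv1 D129418) F95385 (iv3 D59375) (iv1 F46447) D60708 (iv4 F95903) F95904 (iv4 F93627) (iv3 F203403) D205659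
theorem F437368 : act 1 n148732 = n205659 := d15_0 (iv0 D205659) (iv7 F203618) F364737
theorem F437369 : act 5 n205659 = n134928 := d17_7 D63419 D134938 F365158 (iv5 D135033) (iv4 F203612) (iv5 F364736) F437368 (iv0 D134928) F98734
theorem F437370 : act 3 n135473 = n205659 := d20_5 (iv4 F46710) (iv1 F46712) D30056 D63685 D135473 F437367 (iv1 D129418) F95385 (iv3 D59375) (iv1 F46447)
def n205660 : Q := act 1 n126501
theorem D205660 : act 1 n126501 = n205660 := rfl
theorem F437371 : act 1 n205660 = n148732 := d15_1 D205660 (iv7 F437360) F437358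
theorem F437372 : act 5 n205660 = n134929 := d17_7 (iv1 F216819) D134941 (iv1 F365166) (iv5 D134773) F98595 D126501 D205660 F217843 F217839
theorem F437373 : act 3 n200858 = n205660 := d20_3 (iv4 F349611) (iv1 F202201) (iv4 F418181) (iv1 D205660) F203403 F93627 (iv1 F95918) F95916 (iv3 F343599) F343596
theorem F437374 : act 4 n205660 = n129417 := d20_6 (iv4 F96836) F315301 (iv4 F315450) F418173 (iv1 F418183) F437373 (iv1 F211738) F211736 F203342 (iv1 F96840)
def n205661 : Q := act 4 n126501
theorem D205661 : act 4 n126501 = n205661 := rfl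
theorem F437375 : act 3 n205661 = n132196 := d5_1 D205661 (iv4 F211779) F99317 (iv4 F93627) (iv3 F203403)
theorem F437376 : act 0 n205661 = n205606 := d18_2 (iv1 D205660) D205661 (iv4 D205606) F365160 (iv4 D134937) (iv0 D63419) (iv4 F98734) D134929 (iv5 F437372)
theorem F437377 : act 0 n205608 = n205661 := d20_1 D205608 (iv4 D205661) F203403 (iv1 F95292) (iv3 F95907) (iv4 D60772) (iv1 F47140) (iv4 F96837) (iv3 F203523) (iv1 F203527)
def n205662 : Q := act 6 n126501
theorem D205662 : act 6 n126501 = n205662 := rfl
theorem F437378 : act 3 n205662 = n126503 := d7_1 D205662 (iv6 D126503) (iv3 F203403)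
theorem F437379 : act 5 n205662 = n126590 := d12_1 D205662 F203626 F344987 (iv6 D126502) D126501
theorem F437380 : act 7 n126589 = n205662 := d13_0 F437379 (iv7 D126590) D126589
theorem F437381 : act 0 n200087 = n205662 := d17_2 (iv1 F219396) D200087 F437379 F203625 (iv5 F172586) F172589 F168988 F168986 (iv4 F219394)
theorem F437382 : act 1 n200091 = n205662 := d17_6 F93703 F93699 (iv1 F81984) D51964 D112616 D200091 F437379 F203628 (iv4 D62263)
def n205663 : Q := act 0 n126502
theorem D205663 : act 0 n126502 = n205663 := rfl
theorem F437383 : act 5 n205663 = n129441 := d17_3 (iv1 F203408) F344987 D205663 F207612 F95393 F112248 F112244 F93626 D60913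
theorem F437384 : act 1 n126581 = n205663 := d15_0 (iv0 D205663) F344988 (iv2 F203604)
theorem F437385 : act 7 n205663 = n129440 := d15_2 F211798 F437384 (iv2 F211797)
def n205664 : Q := act 0 n126503
theorem D205664 : act 0 n126503 = n205664 := rfl
theorem F437386 : act 5 n205664 = n191578 := d17_1 D205664 F383893 F422130 F422128 (iv5 F338627) (iv0 F379735) (iv5 F379736) (iv0 D135805) (iv4 F203405)
theorem F437387 : act 2 n191585 = n205664 := d2_3 F437386 F383892 D191585
theorem F437388 : act 4 n134494 = n205664 := d16_0 F437386 (iv4 D191578) (iv5 D98570) F294193 D186327 (iv4 F399890) F399891 (iv7 F364870) (iv2 F364871)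
def n205665 : Q := act 1 n126503
theorem D205665 : act 1 n126503 = n205665 := rfl
theorem F437389 : act 7 n205665 = n191585 := d15_2 (iv0 D205664) D205665 F437387
theorem F437390 : act 4 n205665 = n134495 := d18_7 (iv1 F420641) F398980 F339539 (iv4 F344973) (iv5 D135807) (iv4 F203405) D205665 F218301 (iv5 F420639)
theorem F437391 : act 5 n186712 = n205665 := d9_0 F437390 (iv5 F399891) F399890 (iv5 D186327) (iv4 F294193) D98570 D191578 (iv5 F437386) (iv4 F437388) F361696 (iv4 D94045) (iv5 D43961) (iv4 F65933) D89064 D186712
theorem F437392 : act 6 n195668 = n205665 := d10_0 F437390 (iv6 F359182) D195668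
def n205666 : Q := act 5 n126503
theorem D205666 : act 5 n126503 = n205666 := rfl
theorem F437393 : act 2 n205666 = n182060 := d2_1 D205666 (iv5 F344978) F203602
theorem F437394 : act 3 n205666 = n126590 := d6_1 D205666 (iv5 F437379) F437378
theorem F437395 : act 6 n205666 = n126504 := d12_2 D126503 D205666 (iv5 D126504) (iv6 D59352) D59351
theorem F437396 : act 4 n205666 = n135042 := d16_2 (iv4 F203405) D205666 F327072 F125891 D92487 D188565 (iv5 F373992) (iv7 D135620) (iv2 F99321)
theorem F437397 : act 7 n205666 = n126587 := d16_8 (iv4 D182702) (iv5 D87216) (iv4 F63888) (iv5 F136056) (iv4 F344973) (iv5 D135807) (iv4 F203405) D205666 (iv2 F344979)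
theorem F437398 : act 1 n205666 = n186730 := d17_8 F367416 (iv5 D186602) F157572 D98570 D191578 (iv5 F437386) (iv0 D205664) D205666 (iv4 D186730)
theorem F437399 : act 1 n191632 = n205666 := d15_0 F437398 F367816 (iv2 F383985)
def n205667 : Q := act 7 n126503
theorem D205667 : act 7 n126503 = n205667 := rfl
theorem F437400 : act 3 n205667 = n126589 := d8_1 D205667 F437380 F437378
theorem F437401 : act 4 n205667 = n135808 := d11_1 D205667 (iv7 D135808) (iv4 F203405)
theorem F437402 : act 5 n205667 = n126587 := d13_1 D205667 (iv7 F437397) (iv5 D205666)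
theorem F437403 : act 0 n191585 = n205667 := d17_2 F377702 D191585 F437402 F203620 (iv5 F328109) F294195 (iv5 F338483) (iv0 F338479) D189773
def n205668 : Q := act 1 n126504
theorem D205668 : act 1 n126504 = n205668 := rfl
theorem F437404 : act 1 n205668 = n205658 := d15_1 D205668 F437364 F203604
theorem F437405 : act 7 n205668 = n132203 := d15_2 F207611 D205668 F211797
theorem F437406 : act 5 n205668 = n132204 := d17_7 (iv1 F214358) F209214 (iv1 D64286) F48701 (iv4 F93628) D126504 D205668 F211804 (iv4 F214354)
theorem F437407 : act 4 n205668 = n186696 := d17_9 F437319 F437316 (iv1 F345814) D191525 (iv4 F437332) (iv5 D205645) (iv0 F203383) D126504 D205668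
theorem F437408 : act 2 n205663 = n205668 := d16_9 F437407 (iv5 F384934) F384933 (iv5 D107662) F78605 (iv5 F46495) (iv4 F95391) D129440 (iv7 F437385)
def n205669 : Q := act 6 n126507
theorem D205669 : act 6 n126507 = n205669 := rfl
theorem F437409 : act 3 n205669 = n126535 := d7_1 D205669 (iv6 D126535) F203413
theorem F437410 : act 4 n205669 = n195176 := d10_1 D205669 (iv6 F399190) F399188
theorem F437411 : act 7 n205669 = n201123 := d14_2 (iv7 F203412) D205669 (iv6 F419169) F396492 (iv6 D126525)
def n205670 : Q := act 6 n126508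
theorem D205670 : act 6 n126508 = n205670 := rfl
theorem F437412 : act 2 n205670 = n126510 := d3_1 D205670 (iv6 D126510) D126508
theorem F437413 : act 3 n205670 = n182702 := d7_1 D205670 (iv6 F344980) F203611
theorem F437414 : act 4 n205670 = n180331 := d10_1 D205670 (iv6 F362857) (iv4 F203415)
theorem F437415 : act 5 n205670 = n148767 := d12_1 D205670 (iv6 D148767) (iv5 D69721) (iv6 F106069) (iv5 F333202)
def n205671 : Q := act 0 n126510
theorem D205671 : act 0 n126510 = n205671 := rfl
def n205672 : Q := act 1 n126510
theorem D205672 : act 1 n126510 = n205672 := rfl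
theorem F437416 : act 4 n205672 = n200663 := d18_7 D129080 (iv4 F354466) (iv1 F362864) F202092 F343667 (iv4 F203419) D205672 (iv0 F417592) (iv5 D129082)
theorem F437417 : act 6 n200662 = n205672 := d10_0 F437416 (iv6 D200663) D200662
def n205673 : Q := act 7 n126510
theorem D205673 : act 7 n126510 = n205673 := rfl
theorem F437418 : act 3 n205673 = n126513 := d8_1 D205673 (iv7 D126513) (iv3 F203418)
theorem F437419 : act 4 n205673 = n196074 := d11_1 D205673 (iv7 D196074) (iv4 F203419)
def n205674 : Q := act 4 n126512
theorem D205674 : act 4 n126512 = n205674 := rfl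
theorem F437420 : act 3 n205674 = n146874 := d5_1 D205674 (iv4 F233473) F233472 (iv4 F233570) F362855
theorem F437421 : act 6 n205674 = n146872 := d10_2 (iv6 F362859) D205674 (iv4 F233566)
def n205675 : Q := act 7 n126512
theorem D205675 : act 7 n126512 = n205675 := rfl
theorem F437422 : act 2 n205675 = n205662 := d4_1 D205675 (iv7 F437380) F203623
theorem F437423 : act 5 n205675 = n126513 := d13_1 D205675 (iv7 D126513) D126512
theorem F437424 : act 6 n205675 = n205657 := d14_1 D205675 F437360 F233505 D148766 (iv6 F362859)
theorem F437425 : act 1 n132260 = n205675 := d15_1 (iv0 F211903) (iv7 D205675) (iv2 F203623)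
theorem F437426 : act 1 n205675 = n132263 := d15_1 F437425 (iv7 F414977) F414976
def n205676 : Q := act 6 n126514
theorem D205676 : act 6 n126514 = n205676 := rfl
theorem F437427 : act 2 n205676 = n126526 := d3_1 D205676 (iv6 D126526) F203422
theorem F437428 : act 4 n205676 = n159547 := d10_1 D205676 (iv6 D159547) (iv4 F332607)
theorem F437429 : act 7 n205676 = n195629 := d14_2 (iv7 F203423) D205676 F397667 F211723 F161927
theorem F437430 : act 0 n203926 = n205676 := d21_4 (iv5 F106101) (iv1 F176972) (iv5 F229765) (iv6 F430434) (iv6 D205676) (iv5 F203589) (iv1 F203588) F333202 F106069 D69718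
def n205677 : Q := act 3 n126515
theorem D205677 : act 3 n126515 = n205677 := rfl
theorem F437431 : act 2 n205677 = n126527 := d0_1 D205677 (iv3 D126527) F93726 (iv3 F93729) D126515
theorem F437432 : act 4 n205677 = n201859 := d5_2 (iv4 F327782) D205677 (iv3 D201859) (iv4 D115140) F327781
theorem F437433 : act 5 n205677 = n135475 := d6_2 F217868 D205677 (iv3 F217866)
theorem F437434 : act 7 n205677 = n126519 := d8_2 F203425 D205677 (iv3 D126519)
theorem F437435 : act 1 n126527 = n205656 := d15_0 (iv0 F437356) (iv7 F437434) F437431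
def n205678 : Q := act 0 n126517
theorem D205678 : act 0 n126517 = n205678 := rfl
theorem F437436 : act 4 n205678 = n188737 := d18_3 (iv1 F288324) (iv4 F363814) D205678 F374645 F144649 D96005 (iv4 F350448) F377346 F377344
theorem F437437 : act 2 n129677 = n205678 := d15_3 (iv0 D205678) (iv0 F437335) F437334
def n205679 : Q := act 5 n126517
theorem D205679 : act 5 n126517 = n205679 := rfl
def n205680 : Q := act 6 n126518
theorem D205680 : act 6 n126518 = n205680 := rfl
theorem F437438 : act 2 n205680 = n126522 := d3_1 D205680 (iv6 D126522) (iv2 F203426)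
theorem F437439 : act 3 n205680 = n126529 := d7_1 D205680 (iv6 D126529) (iv3 F203427)
theorem F437440 : act 4 n205680 = n148745 := d10_1 D205680 (iv6 F251476) (iv4 F341607)
theorem F437441 : act 0 n205680 = n148778 := d21_4 D132380 (iv1 F212404) (iv5 F203428) D205680 (iv6 D148778) F106101 (iv1 F106093) (iv5 D69721) (iv6 F106069) (iv1 F333198)
theorem F437442 : act 5 n189820 = n205680 := d16_1 D189820 F437440 (iv5 F233519) (iv4 F415852) F415854 F288742 (iv5 F380848) F380850 F377872
def n205681 : Q := act 4 n126519
theorem D205681 : act 4 n126519 = n205681 := rfl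
theorem F437443 : act 2 n205681 = n195265 := d1_1 D205681 F396518 F203653
theorem F437444 : act 3 n205681 = n126613 := d5_1 D205681 F355363 F203439 (iv4 D126520) D126519
theorem F437445 : act 7 n205681 = n201859 := d11_2 F437434 D205681 (iv4 F437432)
theorem F437446 : act 1 n205681 = n205621 := d18_6 D205627 F437270 (iv1 F216809) (iv4 F217128) F217129 D205681 (iv4 D205621) (iv0 D126483) D126486
theorem F437447 : act 0 n205681 = n205623 := d20_7 F207385 (iv1 F216256) F216254 F203630 (iv1 F203424) D126519 D205681 (iv4 D205623) F216362 (iv1 F212469)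
theorem E103904 : n205652 = n205650 := ((c18_9 (iv1 F203614) F203612 F216849 (iv4 F216847) F216363 D205623 (iv0 F437447) (iv4 D205681) F437349 (iv5 D205652))).symm
theorem F437448 : act 5 n205650 = n126498 := (sb E103904 (iv5 D205652))
def n205682 : Q := act 6 n126519
theorem D205682 : act 6 n126519 = n205682 := rfl
theorem F437449 : act 3 n205682 = n126522 := d7_1 D205682 (iv6 D126522) D126519
def n205683 : Q := act 6 n126521
theorem D205683 : act 6 n126521 = n205683 := rfl
theorem F437450 : act 2 n205683 = n135479 := d3_1 D205683 (iv6 D135479) (iv2 F203442)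
theorem F437451 : act 4 n205683 = n196122 := d10_1 D205683 (iv6 D196122) F203443
def n205684 : Q := act 1 n126522
theorem D205684 : act 1 n126522 = n205684 := rfl
theorem F437452 : act 7 n205684 = n148778 := d15_2 F365589 D205684 (iv2 F365590)
theorem F437453 : act 4 n148781 = n205684 := d11_3 F437452 F233581 D148781
def n205685 : Q := act 5 n126522
theorem D205685 : act 5 n126522 = n205685 := rfl
theorem F437454 : act 2 n205685 = n189820 := d2_1 D205685 F437442 F437438
theorem F437455 : act 4 n205685 = n189818 := d16_2 F364740 D205685 (iv5 D189818) (iv4 F151334) (iv5 F376507) (iv4 F376508) F376509 F251478 F251477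
def n205686 : Q := act 7 n126522
theorem D205686 : act 7 n126522 = n205686 := rfl
theorem F437456 : act 4 n205686 = n148744 := d11_1 D205686 F251479 F364740
theorem F437457 : act 0 n148778 = n205686 := d18_2 (iv1 D148780) (iv4 F233581) F437456 F383190 (iv4 D191359) D191358 (iv4 F399047) (iv0 F399045) F233582
def n205687 : Q := act 0 n126526
theorem D205687 : act 0 n126526 = n205687 := rfl
theorem F437458 : act 4 n205687 = n193733 := d18_3 D106102 F332604 D205687 (iv5 D193733) (iv4 D102269) D102268 F314183 (iv0 D49058) (iv5 F77428)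
theorem F437459 : act 3 n205687 = n135855 := d20_5 (iv4 D62483) (iv1 F101896) (iv4 F93642) (iv3 F203446) D205687 (iv4 D135855) (iv1 F99352) (iv4 F208180) F208179 F102061
theorem F437460 : act 1 n195629 = n205687 := d15_0 (iv0 D205687) (iv7 F211729) (iv2 F397666)
theorem F437461 : act 7 n205687 = n203926 := d15_2 (iv0 F418722) F437460 F430432
theorem F437462 : act 6 n200912 = n205687 := d14_5 F437461 F430434 F229766 (iv6 F335967) (iv7 F418375)
def n205688 : Q := act 5 n126526
theorem D205688 : act 5 n126526 = n205688 := rfl
theorem F437463 : act 3 n205688 = n126538 := d6_1 D205688 (iv5 D126538) (iv3 F203446)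
theorem F437464 : act 4 n205688 = n193718 := d16_2 F332604 D205688 (iv5 D193718) (iv4 D102256) D102257 D193720 F390781 F251280 F251278
def n205689 : Q := act 4 n126527
theorem D205689 : act 4 n126527 = n205689 := rfl
theorem F437465 : act 2 n205689 = n201859 := d1_1 D205689 (iv4 F437432) F437431
theorem F437466 : act 3 n205689 = n132171 := d5_1 D205689 (iv4 F211713) (iv3 D63773) (iv4 F93635) D126527
theorem F437467 : act 7 n205689 = n195265 := d11_2 F203655 D205689 F396518
theorem F437468 : act 0 n205689 = n205621 := d18_2 (iv1 F437435) D205689 (iv4 D205621) (iv5 F437218) F437216 (iv0 D134770) F98595 D126499 D205656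
theorem F437469 : act 0 n205623 = n205689 := d20_1 D205623 (iv4 D205689) (iv3 D126527) (iv1 F93745) (iv3 F95466) (iv4 D60923) (iv1 F47242) (iv4 F97062) (iv3 F203547) (iv1 F203551)
def n205690 : Q := act 6 n126527
theorem D205690 : act 6 n126527 = n205690 := rfl
theorem F437470 : act 3 n205690 = n126528 := d7_1 D205690 (iv6 D126528) D126527
def n205691 : Q := act 0 n126528
theorem D205691 : act 0 n126528 = n205691 := rfl
theorem F437471 : act 4 n205691 = n130942 := d18_3 F339344 (iv4 F203448) D205691 (iv5 F431382) (iv4 D204183) D204182 (iv4 F431378) (iv0 D201561) (iv5 F339340)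
theorem F437472 : act 2 n200915 = n205691 := d15_3 (iv0 D205691) (iv0 F365935) D200915
theorem F437473 : act 7 n205691 = n200898 := d4_2 D200915 F437472 F418325
theorem F437474 : act 1 n200914 = n205691 := d15_1 D200914 F437473 F418325
theorem F437475 : act 3 n129725 = n205691 := d20_3 F95448 D60935 D129725 (iv1 F437474) (iv3 F418383) (iv4 D187778) F288363 D185789 F362149 (iv1 D129658)
def n205692 : Q := act 5 n126528
theorem D205692 : act 5 n126528 = n205692 := rfl
theorem F437476 : act 6 n205692 = n135477 := d12_2 D126528 D205692 (iv5 D135477) (iv6 D63686) (iv5 F93634)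
def n205693 : Q := act 7 n126528
theorem D205693 : act 7 n126528 = n205693 := rfl
theorem F437477 : act 2 n205693 = n200914 := d4_1 D205693 F418382 F203650
theorem F437478 : act 4 n205693 = n135630 := d11_1 D205693 (iv7 D135630) (iv4 F203448)
theorem F437479 : act 1 n200898 = n205693 := d15_1 (iv0 F418328) (iv7 D205693) (iv2 F203650)
theorem F437480 : act 1 n205693 = n200915 := d15_1 F437479 (iv7 D200915) (iv2 F418325)
def n205694 : Q := act 0 n126529
theorem D205694 : act 0 n126529 = n205694 := rfl
theorem F437481 : act 5 n205694 = n183409 := d17_1 D205694 (iv1 F383952) F383950 (iv4 F233473) F233474 (iv0 F378528) (iv5 F378530) F378532 (iv4 F203449)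
def n205695 : Q := act 1 n126529
theorem D205695 : act 1 n126529 = n205695 := rfl
theorem F437482 : act 5 n205695 = n183410 := d17_7 (iv1 F151977) F294473 (iv1 D87176) D87178 D182599 (iv5 F365382) D205695 F383951 (iv4 D191602)
theorem F437483 : act 4 n135521 = n205695 := d16_0 F437482 (iv4 F412711) F412708 F283981 F367090 (iv4 F415794) (iv5 F415796) F371148 F371147
theorem F437484 : act 6 n205695 = n189769 := d10_2 (iv6 F359566) F437483 (iv4 D189769)
def n205696 : Q := act 5 n126535
theorem D205696 : act 5 n126535 = n205696 := rfl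
theorem F437485 : act 6 n205696 = n126538 := d12_2 D126535 D205696 (iv5 D126538) (iv6 D59366) (iv5 F93641)
theorem F437486 : act 4 n205696 = n198570 := d19_2 F364215 D205696 (iv3 D198570) (iv1 D109575) (iv5 D50551) F38626 F18999 D11667 (iv5 F24152) F316162 (iv3 F86085) D118333 F348034 (iv4 F235253) F278217 (iv1 D121351) D121352 D203926 F430433
def n205697 : Q := act 3 n126536
theorem D205697 : act 3 n126536 = n205697 := rfl
theorem F437487 : act 4 n205697 = n134458 := d5_2 (iv4 F203453) D205697 (iv3 D134458) (iv4 D63157) D63156
def n205698 : Q := act 5 n126536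
theorem D205698 : act 5 n126536 = n205698 := rfl
def n205699 : Q := act 3 n126537
theorem D205699 : act 3 n126537 = n205699 := rfl
theorem F437488 : act 4 n205699 = n129083 := d5_2 F203456 D205699 (iv3 D129083) (iv4 F102064) F102065
theorem F437489 : act 0 n201123 = n205699 := d20_4 (iv4 F359185) (iv1 F361695) D195640 (iv3 F419168) (iv3 D205699) (iv4 F203456) (iv1 D63700) (iv4 F97057) (iv3 F99140) D135652
def n205700 : Q := act 5 n126537
theorem D205700 : act 5 n126537 = n205700 := rfl
def n205701 : Q := act 0 n126538
theorem D205701 : act 0 n126538 = n205701 := rfl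
theorem F437490 : act 1 n129416 = n205701 := d15_0 (iv0 D205701) (iv7 F211733) F211732
def n205702 : Q := act 1 n126538
theorem D205702 : act 1 n126538 = n205702 := rfl
theorem F437491 : act 1 n205702 = n129416 := d15_1 D205702 F207595 F203675
def n205703 : Q := act 4 n126538
theorem D205703 : act 4 n126538 = n205703 := rfl
theorem F437492 : act 6 n205703 = n198570 := d10_2 F437485 D205703 (iv4 F437486)
theorem F437493 : act 3 n198573 = n205703 := d7_3 F437492 (iv3 D198570) D198573
def n205704 : Q := act 3 n126539
theorem D205704 : act 3 n126539 = n205704 := rfl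
def n205705 : Q := act 5 n126539
theorem D205705 : act 5 n126539 = n205705 := rfl
theorem F437494 : act 2 n205705 = n130503 := d2_1 D205705 (iv5 D130503) (iv2 F203457)
def n205706 : Q := act 6 n126539
theorem D205706 : act 6 n126539 = n205706 := rfl
theorem F437495 : act 2 n205706 = n126869 := d3_1 D205706 F204109 (iv2 F203457)
theorem F437496 : act 4 n205706 = n126541 := d10_1 D205706 (iv6 D126541) D126539
theorem F437497 : act 5 n205706 = n198009 := d21_6 D28812 F48436 F48434 D60899 F203459 D205706 F406498 (iv5 D129134) (iv6 D60710) (iv1 D28810)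
theorem F437498 : act 7 n126866 = n205706 := d13_0 F437497 (iv7 F407117) F407116
theorem F437499 : act 0 n129850 = n205706 := d17_0 F437497 F406498 (iv5 D129134) F95320 (iv5 D30383) D30382 D64549 (iv0 F216296) F216294
theorem F437500 : act 1 n129671 = n205706 := d15_0 (iv0 F437499) (iv7 F437305) F437303
def n205707 : Q := act 4 n126540
theorem D205707 : act 4 n126540 = n205707 := rfl
theorem F437501 : act 2 n205707 = n130504 := d1_1 D205707 (iv4 D130504) (iv2 F203460)
theorem F437502 : act 6 n205707 = n132205 := d10_2 (iv6 F203462) D205707 (iv4 D132205)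
theorem F437503 : act 1 n205707 = n205618 := d18_6 F102161 (iv4 F95444) F203459 (iv4 D126539) D126540 D205707 F437244 (iv0 F217885) (iv5 D135215)
theorem F437504 : act 0 n205707 = n132253 := d20_1 D205707 (iv4 F407067) F407066 F173723 (iv3 F102029) D135677 (iv1 F362424) (iv4 F409747) F409746 F203463
def n205708 : Q := act 6 n126542
theorem D205708 : act 6 n126542 = n205708 := rfl
theorem F437505 : act 3 n205708 = n126543 := d7_1 D205708 (iv6 D126543) D126542
theorem F437506 : act 4 n205708 = n136150 := d10_1 D205708 (iv6 F363034) (iv4 F203469)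
theorem F437507 : act 5 n205708 = n187935 := d12_1 D205708 (iv6 F419060) (iv5 D201090) F363813 (iv5 F203470)
theorem F437508 : act 7 n205708 = n202238 := d14_2 (iv7 F203471) D205708 F423360 F437182 (iv6 D205602)
theorem F437509 : act 1 n136881 = n205708 := d15_1 F391848 F437508 (iv2 F423362)
def n205709 : Q := act 5 n126543
theorem D205709 : act 5 n126543 = n205709 := rfl
theorem F437510 : act 2 n205709 = n131869 := d2_1 D205709 (iv5 D131869) (iv2 F203472)
theorem F437511 : act 3 n205709 = n187935 := d6_1 D205709 (iv5 F437507) F437505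
theorem F437512 : act 6 n205709 = n135650 := d12_2 D126543 D205709 (iv5 D135650) (iv6 D63780) (iv5 F93647)
theorem F437513 : act 7 n205709 = n202239 := d13_2 F203476 D205709 (iv5 D202239)
theorem F437514 : act 4 n205709 = n141416 := d16_2 (iv4 F203473) D205709 (iv5 D141416) (iv4 F224446) F330542 F245179 F211298 (iv7 D61882) (iv2 F93650)
theorem F437515 : act 0 n205709 = n201082 := d17_2 F203474 D205709 (iv5 D201082) (iv4 F363764) F179282 (iv0 D61440) (iv5 D29083) (iv0 F46669) (iv4 F95791)
theorem F437516 : act 1 n205709 = n201080 := d17_6 F328377 (iv5 F403732) (iv1 D197251) F167005 (iv4 F203473) D205709 (iv5 D201080) (iv0 D113886) (iv4 F177172)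
def n205710 : Q := act 3 n126547
theorem D205710 : act 3 n126547 = n205710 := rfl
theorem F437517 : act 2 n205710 = n135682 := d0_1 D205710 (iv3 F342935) F395837 (iv3 F395838) F364675
theorem F437518 : act 5 n205710 = n195128 := d6_2 (iv5 F364674) D205710 (iv3 D195128)
theorem F437519 : act 6 n205710 = n195751 := d7_2 F364677 D205710 F406148
theorem F437520 : act 7 n205710 = n135687 := d8_2 F364676 D205710 (iv3 F349620)
theorem F437521 : act 0 n205710 = n135745 := d20_4 F325504 (iv1 F421667) F421666 D205710 (iv3 D135745) (iv4 F333507) F333504 (iv4 F218116) (iv3 F326364) F177492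
theorem F437522 : act 4 n205710 = n128823 := d20_6 F45609 (iv1 D28197) D28198 D59372 D126547 D205710 (iv1 D128823) F95203 F48430 (iv1 F23887)
theorem F437523 : act 1 n205710 = n163484 := d17_6 (iv1 D128823) F330394 (iv1 F296433) (iv5 F341951) (iv4 F395886) (iv5 F437518) F333485 (iv0 F437521) F437522
def n205711 : Q := act 4 n126548
theorem D205711 : act 4 n126548 = n205711 := rfl
theorem F437524 : act 2 n205711 = n200992 := d1_1 D205711 (iv4 D200992) F364682
theorem F437525 : act 7 n205711 = n136330 := d11_2 (iv7 F364684) D205711 (iv4 F333539)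
theorem F437526 : act 0 n205711 = n132543 := d18_2 (iv1 F216445) D205711 (iv4 F325504) (iv5 D114000) (iv4 F177489) F417363 F417361 (iv0 F395839) (iv5 F216441)
theorem F437527 : act 3 n205711 = n132535 := d19_3 D105309 (iv5 F364683) D205711 (iv1 F212741) D136339 (iv4 F366023) (iv3 D124013) (iv1 D57773) D57775 (iv4 F191596) (iv3 F429465) (iv1 F430701) (iv5 D203982) F319770 (iv3 F217486) F354627 F357922 (iv4 D130931) (iv3 F324650)
def n205712 : Q := act 6 n126548
theorem D205712 : act 6 n126548 = n205712 := rfl
theorem F437528 : act 2 n205712 = n200993 := d3_1 D205712 (iv6 D200993) F364682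
theorem F437529 : act 3 n205712 = n200934 := d7_1 D205712 F418429 (iv3 F397712)
theorem F437530 : act 5 n205712 = n195992 := d12_1 D205712 (iv6 D195992) (iv5 F395880) (iv6 D195127) (iv5 F364683)
theorem F437531 : act 7 n205712 = n200930 := d14_2 (iv7 F364684) D205712 (iv6 D200930) F395854 F252007
theorem F437532 : act 0 n205712 = n135762 := d21_10 F365950 (iv1 D106765) D106766 F164577 F78011 D76338 F114435 D105309 (iv5 F364683) D205712
theorem F437533 : act 0 n196214 = n205712 := d21_4 D187646 F371101 (iv5 F374645) (iv6 F399925) (iv6 D205712) F364683 (iv1 F161483) (iv5 F325757) D130926 F326588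
def n205713 : Q := act 5 n126552
theorem D205713 : act 5 n126552 = n205713 := rfl
theorem F437534 : act 2 n205713 = n132164 := d2_1 D205713 (iv5 D132164) (iv2 F203520)
theorem F437535 : act 3 n205713 = n197531 := d6_1 D205713 (iv5 D197531) F203519
theorem F437536 : act 4 n205713 = n145985 := d9_1 D205713 F338664 (iv4 D114750) (iv5 D52956) F40626 (iv5 F40350) (iv4 F83087) D113872 (iv4 F338631) (iv5 F338630) F338637 (iv5 F317646) F178778 F328251 (iv4 F203521)
theorem F437537 : act 6 n205713 = n196027 := d12_2 F204067 D205713 F399108 (iv6 D126820) D126819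
theorem F437538 : act 7 n205713 = n201057 := d13_2 F327842 D205713 (iv5 D201057)
theorem F437539 : act 0 n205713 = n196029 := d17_2 (iv1 F203517) D205713 (iv5 F409748) F409747 (iv5 F362420) F316450 (iv5 F329138) F102044 (iv4 F171543)
theorem F437540 : act 1 n205713 = n197082 := d17_6 (iv1 D114766) (iv5 D52962) (iv1 F83640) F328251 (iv4 F203521) D205713 (iv5 F437187) (iv0 F437190) F338657
def n205714 : Q := act 4 n126553
theorem D205714 : act 4 n126553 = n205714 := rfl
theorem F437541 : act 2 n205714 = n205608 := d1_1 D205714 (iv4 D205608) (iv2 F380830)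
theorem F437542 : act 7 n205714 = n205606 := d11_2 (iv7 F380828) D205714 (iv4 D205606)
def n205715 : Q := act 6 n126553
theorem D205715 : act 6 n126553 = n205715 := rfl
theorem F437543 : act 2 n205715 = n205609 := d3_1 D205715 (iv6 D205609) (iv2 F380830)
def n205716 : Q := act 4 n126554
theorem D205716 : act 4 n126554 = n205716 := rfl
theorem F437544 : act 2 n205716 = n205606 := d1_1 D205716 (iv4 D205606) F380827
theorem F437545 : act 7 n205716 = n205608 := d11_2 F380829 D205716 (iv4 D205608)
theorem F437546 : act 3 n205716 = n201829 := d20_9 F216187 (iv1 F215984) (iv4 F215979) (iv3 D129460) (iv1 F96672) (iv3 F211735) F211736 (iv1 F203526) D205716 (iv1 F421952)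
def n205717 : Q := act 6 n126554
theorem D205717 : act 6 n126554 = n205717 := rfl
theorem F437547 : act 2 n205717 = n205607 := d3_1 D205717 (iv6 D205607) F380827
theorem F437548 : act 5 n205717 = n132246 := d21_6 F211895 (iv1 F203571) F437212 (iv6 D205611) (iv1 F203526) D205717 (iv1 D132246) D132247 F211889 D132254
def n205718 : Q := act 5 n126555
theorem D205718 : act 5 n126555 = n205718 := rfl
theorem F437549 : act 2 n205718 = n126556 := d2_1 D205718 (iv5 D126556) D126555
theorem F437550 : act 3 n205718 = n132404 := d6_1 D205718 (iv5 D132404) (iv3 F203523)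
theorem F437551 : act 7 n205718 = n205610 := d13_2 (iv7 F203524) D205718 (iv5 D205610)
theorem F437552 : act 1 n205718 = n205612 := d17_8 (iv1 F216845) D135033 (iv1 F365168) (iv5 D134941) (iv4 F207381) F380832 F203527 D205718 F437216
theorem F437553 : act 0 n205718 = n132656 := d18_0 F216847 (iv1 D134771) F98595 D126501 D205661 (iv0 F437377) (iv4 D205608) F203527 D205718
theorem F437554 : act 4 n134795 = n205718 := d20_6 (iv4 D30030) D30027 (iv4 F98820) (iv3 F216902) (iv1 F216905) D134795 F437553 F216847 (iv3 F216846) (iv1 D63606)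
theorem F437555 : act 6 n205718 = n191576 := d10_2 (iv6 F411675) F437554 (iv4 D191576)
def n205719 : Q := act 6 n126555
theorem D205719 : act 6 n126555 = n205719 := rfl
theorem F437556 : act 2 n205719 = n126557 := d3_1 D205719 (iv6 D126557) D126555
theorem F437557 : act 3 n205719 = n132405 := d7_1 D205719 (iv6 D132405) (iv3 F203523)
def n205720 : Q := act 4 n126556
theorem D205720 : act 4 n126556 = n205720 := rfl
theorem F437558 : act 2 n205720 = n134795 := d1_1 D205720 F437554 F437549
theorem F437559 : act 3 n205720 = n133209 := d5_1 D205720 (iv4 D133209) F97476 (iv4 F93668) (iv3 F203528)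
theorem F437560 : act 7 n205720 = n205613 := d11_2 (iv7 F203529) D205720 (iv4 D205613)
theorem F437561 : act 0 n205720 = n135087 := d18_2 F208386 D205720 F217311 D205656 F437357 (iv0 D129809) F95513 D126564 F336990
theorem F437562 : act 1 n205720 = n205651 := d18_6 D205659 F437367 (iv1 D129418) F95385 D126556 D205720 (iv4 D205651) (iv0 D126498) D126501
theorem F437563 : act 5 n191849 = n205720 := d13_3 F437560 F437221 F432856
theorem F437564 : act 6 n205720 = n186707 := d12_2 D191849 F437563 (iv5 D186707) F157614 D99008
def n205721 : Q := act 6 n126556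
theorem D205721 : act 6 n126556 = n205721 := rfl
theorem F437565 : act 2 n205721 = n191576 := d3_1 D205721 (iv6 F437555) F437549
theorem F437566 : act 3 n205721 = n126558 := d7_1 D205721 (iv6 D126558) (iv3 F203528)
theorem F437567 : act 4 n205721 = n186707 := d10_1 D205721 (iv6 F437564) (iv4 D205720)
theorem F437568 : act 5 n205721 = n129665 := d12_1 D205721 (iv6 F212989) (iv5 F345899) (iv6 D126557) D126556
theorem F437569 : act 7 n205721 = n129664 := d14_2 (iv7 F203529) D205721 F207840 D129675 F362142
def n205722 : Q := act 0 n126557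
theorem D205722 : act 0 n126557 = n205722 := rfl
def n205723 : Q := act 1 n126557
theorem D205723 : act 1 n126557 = n205723 := rfl
def n205724 : Q := act 0 n126558
theorem D205724 : act 0 n126558 = n205724 := rfl
theorem F437570 : act 5 n205724 = n183407 := d17_1 D205724 (iv1 F384065) F418599 F418598 (iv5 F381708) F381707 F377676 (iv0 D133215) (iv4 F203532)
theorem F437571 : act 4 n205724 = n134506 := d18_3 (iv1 D133216) (iv4 F203532) D205724 F378530 (iv4 D190003) (iv0 F378479) (iv4 F378481) (iv0 F377652) F377651
theorem F437572 : act 3 n205724 = n126569 := d20_5 (iv4 D191632) F367752 (iv4 F437567) F437566 D205724 F203557 F168420 (iv4 F203625) (iv3 F437394) (iv1 F437399)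
theorem F437573 : act 2 n132413 = n205724 := d15_3 (iv0 D205724) F384070 (iv7 F384123)
theorem F437574 : act 7 n205724 = n132414 := d4_2 (iv7 F384123) F437573 F384118
theorem F437575 : act 1 n132416 = n205724 := d15_1 (iv0 F384069) F437574 F384118
def n205725 : Q := act 5 n126558
theorem D205725 : act 5 n126558 = n205725 := rfl
theorem F437576 : act 2 n205725 = n132415 := d2_1 D205725 (iv5 D132415) (iv2 F203531)
theorem F437577 : act 3 n205725 = n129665 := d6_1 D205725 (iv5 F437568) F437566
theorem F437578 : act 6 n205725 = n126560 := d12_2 D126558 D205725 (iv5 D126560) (iv6 D59377) D59376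
theorem F437579 : act 0 n205725 = n191603 := d17_2 (iv1 F384070) D205725 F383955 F379624 (iv5 D190383) (iv0 F379674) (iv5 D135637) D135636 (iv4 F384068)
theorem F437580 : act 1 n205725 = n186700 := d17_8 F295122 (iv5 D87178) D87175 (iv5 F294475) D183407 (iv5 F437570) (iv0 D205724) D205725 (iv4 D186700)
theorem F437581 : act 7 n129656 = n205725 := d14_0 F437578 F345901 (iv6 D132663) F97068 D129656
theorem E103905 : n191605 = n129656 := (c15_2 F384115 F383958 F437581 F437576)
theorem F437582 : act 0 n129656 = n183404 := (sb E103905 (iv1 F383958))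
theorem F437583 : act 1 n129656 = n98591 := (sb E103905 (iv0 D191605))
def n205726 : Q := act 7 n126558
theorem D205726 : act 7 n126558 = n205726 := rfl
theorem F437584 : act 2 n205726 = n132416 := d4_1 D205726 (iv7 D132416) (iv2 F203531)
theorem F437585 : act 3 n205726 = n129664 := d8_1 D205726 (iv7 F437569) F437566
theorem F437586 : act 4 n205726 = n133218 := d11_1 D205726 (iv7 D133218) (iv4 F203532)
theorem F437587 : act 5 n205726 = n129656 := d13_1 D205726 F437581 (iv5 D205725)
theorem F437588 : act 6 n205726 = n129659 := d14_1 D205726 F345878 (iv6 D126478) (iv7 F93669) D126558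
theorem F437589 : act 1 n132414 = n205726 := d15_1 D132414 (iv7 D205726) F203531
theorem F437590 : act 1 n205726 = n132413 := d15_1 F437589 F384123 (iv2 F384118)
def n205727 : Q := act 3 n126559
theorem D205727 : act 3 n126559 = n205727 := rfl
theorem F437591 : act 2 n205727 = n132668 := d0_1 D205727 (iv3 F347278) (iv2 F365648) (iv3 D132417) F203534
theorem F437592 : act 4 n205727 = n130952 := d5_2 (iv4 F203533) D205727 (iv3 D130952) (iv4 D61439) D61438
theorem F437593 : act 7 n205727 = n132224 := d8_2 (iv7 F203535) D205727 F211849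
theorem F437594 : act 0 n126568 = n205727 := d20_1 (iv4 F203556) F437592 (iv3 D130952) (iv1 F209228) (iv3 F418806) F418807 F391984 (iv4 F418317) F418316 (iv1 D135222)
def n205728 : Q := act 5 n126559
theorem D205728 : act 5 n126559 = n205728 := rfl
theorem F437595 : act 2 n205728 = n132418 := d2_1 D205728 (iv5 D132418) F203534
theorem F437596 : act 4 n205728 = n136097 := d9_1 D205728 (iv5 D136097) (iv4 F347207) (iv5 D105615) (iv4 F77648) (iv5 F98330) F98329 D129450 F360517 (iv5 D136093) D136092 F347219 F179743 (iv5 F95936) (iv4 F203533)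
theorem F437597 : act 7 n205728 = n132225 := d13_2 (iv7 F203535) D205728 (iv5 D132225)
def n205729 : Q := act 0 n126560
theorem D205729 : act 0 n126560 = n205729 := rfl
theorem F437598 : act 5 n205729 = n132561 := d17_3 F95396 D126560 D205729 (iv4 F421980) F421981 (iv0 F209564) F97591 (iv0 F98331) F98329
theorem F437599 : act 4 n205729 = n136102 := d18_1 D205729 (iv1 D136102) D136103 (iv5 F361829) F211828 F98745 (iv4 F203533) (iv0 D126559) D126560
theorem F437600 : act 1 n132422 = n205729 := d15_0 (iv0 D205729) F345901 F345902
theorem F437601 : act 2 n132419 = n205729 := d1_3 F437599 F386026 (iv4 F347280)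
theorem F437602 : act 7 n132420 = n205729 := d11_0 F437599 F386027 (iv4 F345905)
def n205730 : Q := act 1 n126560
theorem D205730 : act 1 n126560 = n205730 := rfl
theorem F437603 : act 1 n205730 = n132422 := d15_1 D205730 (iv7 D132422) (iv2 F203537)
theorem F437604 : act 7 n205730 = n132419 := d15_2 (iv0 D205729) D205730 F437601
theorem F437605 : act 5 n205730 = n132673 := d17_7 F162047 (iv5 F104431) (iv1 F104432) F78940 (iv4 F93673) D126560 D205730 (iv0 F217257) (iv4 D127092)
theorem F437606 : act 4 n205730 = n136101 := d17_9 (iv1 F219058) (iv5 D64761) (iv1 F99584) D136097 (iv4 F437596) (iv5 D205728) (iv0 D126559) D126560 D205730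
theorem F437607 : act 2 n132420 = n205730 := d1_3 F437606 F386023 (iv4 F345905)
def n205731 : Q := act 4 n126560
theorem D205731 : act 4 n126560 = n205731 := rfl
theorem F437608 : act 2 n205731 = n132421 := d1_1 D205731 (iv4 D132421) (iv2 F203537)
theorem F437609 : act 5 n205731 = n137340 := d9_2 D126560 D205731 F347243 (iv5 D145658) F104429 F50059 (iv4 F96846) (iv5 F212490) F347241 (iv5 D67053) (iv4 F103024) (iv5 F347240) F167043 F78940 (iv4 F93673)
theorem F437610 : act 7 n205731 = n143082 := d11_2 (iv7 F345901) D205731 F347242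
theorem F437611 : act 3 n205731 = n137342 := d19_3 F95396 D126560 D205731 F225847 F100522 F99432 (iv3 D30685) (iv1 F39219) (iv5 F80664) (iv4 F80666) (iv3 F81103) D111402 F354462 D111503 F343537 F362952 F342899 F211241 F207622
theorem F437612 : act 1 n134195 = n205731 := d15_1 (iv0 F347249) F437610 F225933
theorem F437613 : act 1 n205731 = n137368 := d15_1 F437612 F220571 (iv2 F347250)
theorem F437614 : act 0 n205727 = n132671 := d20_4 F99033 (iv1 F98739) (iv4 F203533) D205727 F345900 D205731 (iv1 F437612) F216230 F211824 F161914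
def n205732 : Q := act 3 n126562
theorem D205732 : act 3 n126562 = n205732 := rfl
theorem F437615 : act 2 n205732 = n137823 := d0_1 D205732 (iv3 F221049) (iv2 F114499) F328247 (iv2 F203543)
theorem F437616 : act 7 n205732 = n132212 := d8_2 (iv7 F203544) D205732 F211824
theorem F437617 : act 0 n205732 = n135480 := d19_4 (iv1 F161981) F161977 D126562 D205732 (iv5 D135480) F99033 F48292 D49290 D106680 (iv4 F206795) (iv3 F390494) (iv1 F390498) F361852 (iv4 F344696) F344695 (iv1 F338756) (iv5 D126864) (iv4 D59531) (iv3 F101892)
theorem F437618 : act 3 n205729 = n205723 := d20_3 F329380 (iv1 F219059) (iv4 F437599) (iv1 D205723) F203530 F93673 D59378 D126562 D205732 F437617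
theorem F437619 : act 0 n136103 = n205732 := d20_4 F347269 (iv1 F220099) D202315 F423606 (iv3 D205732) (iv4 D126562) (iv1 F93676) (iv4 F96846) (iv3 F212482) F350878
def n205733 : Q := act 4 n126563
theorem D205733 : act 4 n126563 = n205733 := rfl
theorem F437620 : act 2 n205733 = n205623 := d1_1 D205733 (iv4 D205623) F336992
theorem F437621 : act 6 n205733 = n205656 := d10_2 (iv6 F396541) D205733 F437357
theorem F437622 : act 7 n205733 = n205621 := d11_2 F336994 D205733 (iv4 D205621)
theorem F437623 : act 0 n205733 = n201859 := d18_2 D126563 D205733 (iv4 F437432) F437433 F217839 F216818 D134937 F217154 (iv5 D126566)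
theorem F437624 : act 0 n195265 = n205733 := d20_10 (iv4 D205733) (iv1 F203546) (iv4 F212701) F212700 (iv1 F96954) D129829 (iv4 F213197) F213199 F161926 D195265
def n205734 : Q := act 4 n126564
theorem D205734 : act 4 n126564 = n205734 := rfl
theorem F437625 : act 2 n205734 = n205621 := d1_1 D205734 (iv4 D205621) (iv2 F336993)
theorem F437626 : act 3 n205734 = n195250 := d5_1 D205734 (iv4 F434596) F434595 F336981 F336989
theorem F437627 : act 7 n205734 = n205623 := d11_2 (iv7 F336991) D205734 (iv4 D205623)
theorem F437628 : act 0 n205734 = n195265 := d18_2 (iv1 F203550) D205734 F396518 F203654 F98734 D63420 (iv4 F207381) (iv0 F437266) (iv5 D205625)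
theorem F437629 : act 0 n201859 = n205734 := d20_10 (iv4 D205734) (iv1 D126564) (iv4 F95513) (iv3 D60974) F46555 D53109 F83827 D53128 D115140 D201859
def n205735 : Q := act 6 n126564
theorem D205735 : act 6 n126564 = n205735 := rfl
theorem F437630 : act 2 n205735 = n205622 := d3_1 D205735 (iv6 D205622) (iv2 F336993)
def n205736 : Q := act 5 n126565
theorem D205736 : act 5 n126565 = n205736 := rfl
theorem F437631 : act 2 n205736 = n126566 := d2_1 D205736 (iv5 D126566) D126565
theorem F437632 : act 3 n205736 = n132660 := d6_1 D205736 (iv5 D132660) (iv3 F203547)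
theorem F437633 : act 6 n205736 = n201035 := d12_2 (iv6 F436556) D205736 F418826 (iv6 F324947) D205463
theorem F437634 : act 7 n205736 = n205625 := d13_2 (iv7 F203548) D205736 (iv5 D205625)
theorem F437635 : act 0 n205736 = n132397 := d18_0 F216810 (iv1 D134758) (iv4 F99023) (iv5 F203447) D205689 (iv0 F437469) (iv4 D205623) F203551 D205736
theorem F437636 : act 0 n205627 = n205736 := d19_0 (iv5 D205736) (iv4 F208154) F208153 (iv1 F96953) F212264 (iv4 F384475) F384474 (iv1 F283432) F307383 (iv4 D55526) D55525 F232394 (iv5 F104051) (iv4 F183354) F323348 F161792 F114490 (iv4 F251294) (iv3 F437269)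
def n205737 : Q := act 4 n126566
theorem D205737 : act 4 n126566 = n205737 := rfl
theorem F437637 : act 3 n205737 = n132785 := d5_1 D205737 (iv4 D132785) F97183 (iv4 F93686) (iv3 F203552)
theorem F437638 : act 7 n205737 = n205628 := d11_2 (iv7 F203553) D205737 (iv4 D205628)
theorem F437639 : act 5 n205737 = n204528 := d16_5 F406528 (iv5 D129812) F95513 D126566 D205737 F432806 (iv5 F429750) (iv7 F432798) (iv2 F432800)
def n205738 : Q := act 6 n126566
theorem D205738 : act 6 n126566 = n205738 := rfl
theorem F437640 : act 2 n205738 = n201035 := d3_1 D205738 (iv6 F437633) F437631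
theorem F437641 : act 3 n205738 = n126568 := d7_1 D205738 (iv6 D126568) (iv3 F203552)
theorem F437642 : act 0 n205738 = n148747 := d21_4 (iv5 F336990) (iv1 D126564) D126566 D205738 (iv6 F374827) (iv5 D129667) (iv1 F203379) (iv5 F437323) (iv6 F437326) F437207
theorem F437643 : act 0 n201037 = n205738 := d21_4 (iv5 D197680) D197677 (iv5 F405385) (iv6 F418832) (iv6 D205738) (iv5 D126566) D126563 F336995 F347106 (iv1 F405386)
theorem F437644 : act 7 n205738 = n201036 := d15_2 (iv0 F362141) (iv0 F437642) F423589
def n205739 : Q := act 0 n126567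
theorem D205739 : act 0 n126567 = n205739 := rfl
theorem F437645 : act 5 n205739 = n129838 := d17_3 (iv1 F436491) F436488 D205739 (iv4 F351693) (iv5 F351677) (iv0 D108977) D108979 (iv0 F175207) F365995
theorem F437646 : act 1 n129153 = n205739 := d15_0 (iv0 D205739) (iv7 F361166) (iv2 F361169)
def n205740 : Q := act 1 n126567
theorem D205740 : act 1 n126567 = n205740 := rfl
theorem F437647 : act 1 n205740 = n129153 := d15_1 D205740 (iv7 F436555) F436553
theorem F437648 : act 5 n205740 = n129837 := d17_7 D61016 (iv5 F359736) (iv1 F323878) D125998 D205451 F436488 D205740 (iv0 D129837) F95532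
def n205741 : Q := act 1 n126568
theorem D205741 : act 1 n126568 = n205741 := rfl
theorem F437649 : act 1 n205741 = n132671 := d15_1 D205741 (iv7 D132671) (iv2 F203555)
theorem F437650 : act 7 n205741 = n132668 := d15_2 (iv0 F437594) D205741 (iv2 F437591)
theorem F437651 : act 6 n132223 = n205741 := d21_3 (iv5 F355366) (iv1 F355370) (iv5 F355287) (iv1 D205741) (iv6 D126568) (iv5 D59381) F45625 F48302 (iv6 F83828) D115093
theorem F437652 : act 2 n205741 = n132224 := d3_1 F437651 (iv6 D132224) D132223
theorem F437653 : act 4 n205741 = n135787 := d10_1 F437651 (iv6 F355277) F214559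
def n205742 : Q := act 5 n126568
theorem D205742 : act 5 n126568 = n205742 := rfl
theorem F437654 : act 2 n205742 = n132670 := d2_1 D205742 (iv5 D132670) (iv2 F203555)
theorem F437655 : act 6 n205742 = n126571 := d12_2 D126568 D205742 (iv5 D126571) (iv6 D59382) D59381
theorem F437656 : act 7 n205719 = n205742 := d14_0 F437655 (iv7 F437214) (iv6 D205611) (iv7 F203524) D205719
theorem F437657 : act 1 n205723 = n205742 := d15_1 D205723 (iv7 F437656) F437556
theorem F437658 : act 1 n205742 = n205722 := d15_0 (iv0 D205722) (iv7 F345893) (iv2 F437654)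
def n205743 : Q := act 7 n126568
theorem D205743 : act 7 n126568 = n205743 := rfl
theorem F437659 : act 2 n205743 = n132671 := d4_1 D205743 (iv7 D132671) (iv2 F203555)
theorem F437660 : act 3 n205743 = n201036 := d8_1 D205743 (iv7 F437644) F437641
theorem F437661 : act 4 n205743 = n135224 := d11_1 D205743 (iv7 D135224) (iv4 F203556)
theorem F437662 : act 5 n205743 = n205719 := d13_1 D205743 F437656 (iv5 D205742)
theorem F437663 : act 6 n205743 = n205636 := d14_1 D205743 (iv7 D205636) (iv6 D126488) (iv7 F93687) D126568
theorem F437664 : act 1 n132224 = n205743 := d15_1 (iv0 F347625) (iv7 D205743) F203555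
theorem F437665 : act 1 n205743 = n132668 := d15_1 F437664 (iv7 F437650) F437652
theorem F437666 : act 4 n159654 = n135557 := d20_0 (iv1 F217985) (iv4 F437661) F437660 (iv1 D201036) (iv3 D113770) (iv4 D52528) F40329 D34900 D76385 D159654
def n205744 : Q := act 5 n126569
theorem D205744 : act 5 n126569 = n205744 := rfl
theorem F437667 : act 2 n205744 = n132254 := d2_1 D205744 F211895 F203558
theorem F437668 : act 3 n205744 = n183407 := d6_1 D205744 (iv5 F437570) F437572
theorem F437669 : act 7 n205744 = n132255 := d13_2 F203559 D205744 F211896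
theorem F437670 : act 0 n205744 = n129813 := d17_2 D126569 D205744 F361164 F96688 F47062 F93216 (iv5 F93690) (iv0 D59383) (iv4 F93689)
theorem F437671 : act 1 n205744 = n132184 := d17_6 (iv1 D64089) (iv5 F79700) (iv1 F168428) (iv5 F98451) (iv4 F203557) D205744 (iv5 D132184) D132183 F211749
def n205745 : Q := act 6 n126569
theorem D205745 : act 6 n126569 = n205745 := rfl
theorem F437672 : act 2 n205745 = n132673 := d3_1 D205745 (iv6 D132673) F203558
theorem F437673 : act 4 n205745 = n134505 := d10_1 D205745 (iv6 D134505) (iv4 F203557)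
theorem F437674 : act 7 n205745 = n132561 := d14_2 F203559 D205745 (iv6 D132561) F212715 F212713
theorem F437675 : act 5 n205745 = n132420 := d21_6 (iv5 F95449) (iv1 F95451) (iv5 D59381) D59382 D126569 D205745 (iv1 D132420) (iv5 D62128) (iv6 D29413) D29409
theorem F437676 : act 0 n195428 = n205745 := d21_4 D132393 (iv1 F407118) F407116 (iv6 F396985) (iv6 D205745) D205744 F437670 F361164 F96689 (iv1 F96833)
theorem F437677 : act 1 n133171 = n205745 := d18_8 (iv1 D132420) D132421 F345907 (iv4 F233555) (iv5 F233571) (iv4 F336169) (iv0 F212497) (iv4 F213944) F437675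
def n205746 : Q := act 3 n126570
theorem D205746 : act 3 n126570 = n205746 := rfl
theorem F437678 : act 4 n205746 = n205254 := d5_2 (iv4 F203563) D205746 (iv3 D205254) F202114 F168424
theorem F437679 : act 6 n205746 = n132557 := d7_2 F203565 D205746 (iv3 D132557)
theorem F437680 : act 7 n205746 = n132672 := d8_2 (iv7 F203562) D205746 (iv3 D132672)
def n205747 : Q := act 5 n126570
theorem D205747 : act 5 n126570 = n205747 := rfl
theorem F437681 : act 2 n205747 = n132255 := d2_1 D205747 F211896 F203564
theorem F437682 : act 7 n205747 = n132254 := d13_2 (iv7 F203562) D205747 F211895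
theorem F437683 : act 0 n205747 = n132184 := d17_2 (iv1 F203561) D205747 (iv5 D132184) F96611 F47035 (iv0 F93694) F93696 F93692 (iv4 F97071)
theorem F437684 : act 1 n205747 = n129813 := d17_6 (iv1 F169000) F168997 F168426 F168425 (iv4 F203563) D205747 F361164 (iv0 F209273) (iv4 D130710)
def n205748 : Q := act 3 n126573
theorem D205748 : act 3 n126573 = n205748 := rfl
theorem F437685 : act 4 n205748 = n197964 := d5_2 D126573 D205748 (iv3 D197964) F168748 F168749
theorem F437686 : act 7 n205748 = n132683 := d8_2 (iv7 F203573) D205748 (iv3 D132683)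
theorem F437687 : act 0 n198982 = n197964 := d20_7 F203421 (iv1 F99045) F168155 (iv3 F384119) (iv1 D132414) (iv3 F212480) (iv4 F410162) (iv4 F437685) (iv3 D205748) F203575
theorem F437688 : act 6 n138095 = n205748 := d10_0 F437685 F406305 (iv4 F344612)
theorem F437689 : act 0 n126601 = n205748 := d20_7 F98393 F163899 D63591 F326052 (iv1 F99637) D64908 (iv4 F364602) F437685 (iv3 D197964) (iv1 F168746)
def n205749 : Q := act 5 n126573
theorem D205749 : act 5 n126573 = n205749 := rfl
theorem F437690 : act 2 n205749 = n132681 := d2_1 D205749 (iv5 D132681) (iv2 F203572)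
theorem F437691 : act 7 n205749 = n132684 := d13_2 (iv7 F203573) D205749 (iv5 D132684)
theorem F437692 : act 4 n205749 = n205740 := d16_2 D126573 D205749 F437648 F351694 F351650 (iv4 F168980) F93696 F202486 (iv2 F202474)
theorem F437693 : act 1 n205749 = n198168 := d17_6 F82061 F47035 D59012 (iv5 F93690) D126573 D205749 (iv5 D198168) (iv0 F175210) (iv4 D112610)
def n205750 : Q := act 6 n126573
theorem D205750 : act 6 n126573 = n205750 := rfl
theorem F437694 : act 2 n205750 = n132682 := d3_1 D205750 (iv6 D132682) (iv2 F203572)
theorem F437695 : act 3 n205750 = n138095 := d7_1 D205750 F437688 (iv3 D205748)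
theorem F437696 : act 4 n205750 = n126574 := d10_1 D205750 (iv6 D126574) D126573
theorem F437697 : act 7 n205750 = n132575 := d14_2 (iv7 F203573) D205750 (iv6 D132575) (iv7 F212730) F212729
theorem F437698 : act 5 n205750 = n205732 := d21_6 D62111 F96812 (iv5 D59390) D59391 (iv1 F203574) D205750 F437617 (iv5 D135480) (iv6 D63691) (iv1 F48290)
theorem F437699 : act 0 n138097 = n205750 := d17_0 F437698 F437617 (iv5 D135480) F99033 (iv5 F97591) D133344 (iv5 F217253) (iv0 F217255) (iv4 F360486)
theorem F437700 : act 1 n202191 = n205750 := d18_8 F437617 F329380 (iv1 F219059) (iv4 F437599) F437598 (iv4 F421980) (iv0 F421984) D202191 F437698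
def n205751 : Q := act 3 n126575
theorem D205751 : act 3 n126575 = n205751 := rfl
theorem F437701 : act 4 n205751 = n135260 := d5_2 D126575 D205751 (iv3 D135260) (iv4 F173181) F173179
theorem F437702 : act 6 n205751 = n132567 := d7_2 (iv6 F203582) D205751 (iv3 D132567)
theorem F437703 : act 7 n205751 = n132680 := d8_2 (iv7 F203583) D205751 (iv3 D132680)
theorem F437704 : act 0 n205751 = n205680 := d19_4 (iv1 F93695) F93696 D126575 D205751 (iv5 F437442) (iv4 D189820) F146937 F294452 (iv5 F294456) (iv4 D37215) F29067 (iv1 F30108) (iv5 F30110) (iv4 F28127) (iv3 D17171) (iv1 D8053) D8054 (iv4 F323877) (iv3 F45321)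
theorem F437705 : act 1 n205751 = n205686 := d15_1 (iv0 F437704) (iv7 D205686) (iv2 F437438)
theorem F437706 : act 2 n205684 = n205751 := d15_3 F437705 (iv0 F437457) (iv7 F437452)
def n205752 : Q := act 5 n126575
theorem D205752 : act 5 n126575 = n205752 := rfl
theorem F437707 : act 2 n205752 = n132684 := d2_1 D205752 (iv5 D132684) (iv2 F203581)
theorem F437708 : act 4 n205752 = n205739 := d9_1 D205752 F437645 (iv4 F351693) (iv5 F351677) F202597 (iv5 F93690) D126573 D205749 F437692 F437648 F351694 F351650 (iv4 F168980) F93696 D126575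
theorem F437709 : act 7 n205752 = n132681 := d13_2 (iv7 F203583) D205752 (iv5 D132681)
theorem F437710 : act 0 n205752 = n198168 := d17_2 F203585 D205752 (iv5 D198168) (iv4 D108983) (iv5 D50321) D50320 (iv5 F100099) F99045 (iv4 F203421)
def n205753 : Q := act 6 n126576
theorem D205753 : act 6 n126576 = n205753 := rfl
theorem F437711 : act 2 n205753 = n205669 := d3_1 D205753 (iv6 D205669) F203587
theorem F437712 : act 3 n205753 = n132691 := d7_1 D205753 (iv6 D132691) (iv3 F203586)
theorem F437713 : act 4 n205753 = n200923 := d10_1 D205753 F418406 F213555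
theorem F437714 : act 0 n205699 = n205753 := d18_2 (iv1 F421211) (iv4 F437488) F437713 (iv5 D200923) (iv4 D113629) (iv0 D52460) (iv4 F82760) D113542 D200835
def n205754 : Q := act 6 n126578
theorem D205754 : act 6 n126578 = n205754 := rfl
theorem F437715 : act 3 n205754 = n126580 := d7_1 D205754 (iv6 D126580) (iv3 F203597)
theorem F437716 : act 4 n205754 = n159653 := d10_1 D205754 (iv6 D159653) (iv4 F333194)
theorem F437717 : act 7 n205754 = n148767 := d14_2 (iv7 F333195) D205754 (iv6 D148767) F106091 (iv6 F114492)
theorem F437718 : act 0 n198886 = n205754 := d18_2 (iv1 F362425) (iv4 F409751) F437716 F251518 F165963 F164653 (iv4 F354467) (iv0 D106545) (iv5 F114449)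
def n205755 : Q := act 0 n126579
theorem D205755 : act 0 n126579 = n205755 := rfl
theorem F437719 : act 4 n205755 = n129089 := d18_3 (iv1 D132023) (iv4 F203601) D205755 (iv5 F400124) (iv4 D196268) (iv0 F164658) (iv4 F211257) F211710 F366018
def n205756 : Q := act 5 n126579
theorem D205756 : act 5 n126579 = n205756 := rfl
theorem F437720 : act 3 n205756 = n126581 := d6_1 D205756 (iv5 D126581) (iv3 F203600)
theorem F437721 : act 4 n205756 = n128825 := d16_2 (iv4 F203601) D205756 (iv5 D128825) F95205 F48376 (iv4 F95205) D128825 F207093 F325490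
theorem F437722 : act 7 n205756 = n196238 := d16_8 F203601 (iv5 F325499) F78058 F37736 (iv4 F78058) F325499 (iv4 F203601) D205756 F400013
theorem F437723 : act 0 n205756 = n200834 := d18_0 F418102 F399090 D196106 F399434 (iv4 D129090) D129089 (iv4 F437719) (iv0 D205755) D205756
theorem F437724 : act 0 n205755 = n205756 := d18_2 (iv1 F207321) (iv4 F437719) F437721 (iv5 D128825) F95205 F78059 F102053 F95277 D106654
def n205757 : Q := act 7 n126579
theorem D205757 : act 7 n126579 = n205757 := rfl
theorem F437725 : act 2 n205757 = n205756 := d4_1 D205757 F437722 F400013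
theorem F437726 : act 3 n205757 = n126582 := d8_1 D205757 (iv7 D126582) (iv3 F203600)
theorem F437727 : act 4 n205757 = n132025 := d11_1 D205757 (iv7 D132025) (iv4 F203601)
theorem F437728 : act 5 n205757 = n196238 := d13_1 D205757 (iv7 F437722) (iv5 D205756)
theorem F437729 : act 6 n205757 = n205673 := d14_1 D205757 (iv7 D205673) (iv6 D126510) (iv7 F93706) D126579
def n205758 : Q := act 1 n126580
theorem D205758 : act 1 n126580 = n205758 := rfl
theorem F437730 : act 1 n205758 = n205667 := d15_1 D205758 (iv7 D205667) (iv2 F203602)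
theorem F437731 : act 7 n205758 = n205664 := d15_2 (iv0 F399492) D205758 (iv2 F437387)
theorem F437732 : act 4 n205758 = n135759 := d17_9 (iv1 D135759) D135760 F364867 F163752 (iv4 F204708) (iv5 F344984) (iv0 F283465) (iv5 F344978) D205758
theorem F437733 : act 3 n205460 = n205758 := d19_19 (iv1 D205758) F344978 (iv4 D182060) F133457 F294299 (iv5 D45032) (iv4 D21507) F16238 (iv1 D10271) (iv5 D4658) (iv4 F6725) (iv3 F9603) F16793 D8210 D17457 D36083 D79268 (iv5 F327266) D205460
theorem F437734 : act 3 n205664 = n129346 := d8_3 (iv7 F436542) F437733 F437731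
theorem F437735 : act 2 n205665 = n205758 := d1_3 F437732 F364866 (iv4 F437390)
def n205759 : Q := act 7 n126580
theorem D205759 : act 7 n126580 = n205759 := rfl
theorem F437736 : act 2 n205759 = n205667 := d4_1 D205759 (iv7 D205667) (iv2 F203602)
theorem F437737 : act 3 n205759 = n148767 := d8_1 D205759 (iv7 F437717) F437715
theorem F437738 : act 4 n205759 = n135620 := d11_1 D205759 (iv7 D135620) (iv4 F203603)
theorem F437739 : act 5 n205759 = n182702 := d13_1 D205759 (iv7 F294309) (iv5 F344978)
theorem F437740 : act 6 n205759 = n148765 := d14_1 D205759 (iv7 F233564) (iv6 F333189) (iv7 F93709) D126580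
theorem F437741 : act 1 n205665 = n205759 := d15_1 D205665 (iv7 D205759) F203602
theorem F437742 : act 1 n205759 = n205664 := d15_1 F437741 (iv7 F437731) (iv2 F437735)
def n205760 : Q := act 2 n126583
theorem D205760 : act 2 n126583 = n205760 := rfl
theorem F437743 : act 7 n126584 = n205760 := d15_2 (iv0 D126583) D126584 (iv2 D205760)
def n205761 : Q := act 3 n126583
theorem D205761 : act 3 n126583 = n205761 := rfl
theorem F437744 : act 4 n205761 = n132523 := d20_6 (iv4 F47230) (iv1 F36906) (iv4 F45634) D59389 D126583 D205761 (iv1 D132523) F96926 (iv3 D59344) (iv1 F47228)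
theorem F437745 : act 0 n126609 = n205761 := d20_10 F437744 (iv1 D132523) F96926 (iv3 D59344) (iv1 F47228) (iv3 F48359) (iv4 D30096) D30094 (iv4 F93733) D126609
theorem F437746 : act 0 n205761 = n205677 := d20_1 (iv4 F437744) F437432 (iv3 D201859) F326946 F326070 (iv4 D62204) (iv1 F47188) (iv4 F95529) (iv3 F208153) (iv1 F212704)
theorem F437747 : act 5 n126583 = n205761 := d18_9 F437746 F437432 F437629 (iv4 D205734) F336990 F207826 F216857 F216854 F203610
def n205762 : Q := act 4 n126583
theorem D205762 : act 4 n126583 = n205762 := rfl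
theorem F437748 : act 1 n205762 = n134795 := d18_6 (iv1 F203549) (iv4 F208154) (iv1 F212704) (iv4 F437744) (iv5 F437747) D205762 F437554 F437552 F437218
theorem F437749 : act 0 n205762 = n205613 := d20_1 D205762 (iv4 D205613) F203343 F93608 F48359 (iv4 F47230) (iv1 F36906) (iv4 F45634) D59389 D126583
theorem F437750 : act 3 n205762 = n135113 := d20_3 (iv4 F93713) D126583 D205762 (iv1 D135113) (iv3 D63502) (iv4 F213147) (iv1 F213376) (iv4 F217261) (iv3 D135030) (iv1 D63463)
theorem F437751 : act 6 n158966 = n205762 := d7_0 F437750 F363953 (iv3 F250300)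
theorem F437752 : act 2 n205762 = n135087 := d3_1 F437751 (iv6 F354753) F354752
theorem E103906 : n205654 = n126583 := ((c10_2 F437751 (iv4 D205762) (iv6 F437351) F352311)).symm
theorem E103907 : n205760 = n126499 := ((D205760).symm.trans (sb E103906 F437350))
theorem F437753 : act 6 n126583 = n134260 := (sb E103906 (iv6 F437351))
theorem F437754 : act 7 n126583 = n126498 := (sb E103906 (iv7 D205654))
theorem F437755 : act 2 n126499 = n126583 := (sb E103907 (iv2 D205760))
theorem E103908 : n205649 = n126584 := ((F437346).symm.trans (sb E103907 (iv7 F437743)))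
theorem F437756 : act 2 n126584 = n126498 := (sb E103908 (iv2 D205649))
theorem F437757 : act 7 n126584 = n126499 := (sb E103908 (iv7 F437346))
theorem F437758 : act 2 n205761 = n205656 := d2_3 (iv5 D205656) F437755 F437747
theorem E103909 : n205624 = n132523 := (c1_4 (iv4 F437744) F437758 F437357 (iv2 F437261))
theorem F437759 : act 2 n132523 = n129809 := (sb E103909 F437261)
theorem F437760 : act 6 n132523 = n126484 := (sb E103909 (iv6 D205624))
theorem F437761 : act 7 n132523 = n129810 := (sb E103909 (iv7 F437262))
theorem F437762 : act 6 n205623 = n205761 := d3_0 F437758 (iv6 F437621) F437620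
theorem F437763 : act 7 n205650 = n205761 := d15_2 (iv0 F437356) F437349 F437758
theorem F437764 : act 2 n129810 = n132522 := d15_3 (iv0 D132522) D132523 F437761
theorem F437765 : act 7 n129809 = n132522 := d4_2 (iv7 F437761) F437759 (iv2 F437764)
theorem F437766 : act 7 n205651 = n205762 := d11_2 F437754 D205651 (iv4 D205762)
def n205763 : Q := act 3 n126584
theorem D205763 : act 3 n126584 = n205763 := rfl
theorem F437767 : act 7 n205763 = n205655 := d8_2 (iv7 F437757) D205763 (iv3 D205655)
theorem F437768 : act 4 n205763 = n200618 := d20_6 (iv4 D196071) (iv1 F164229) (iv4 F203593) F203592 (iv1 F203615) D205763 F417236 F358333 D135497 (iv1 F399307)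
theorem F437769 : act 1 n130289 = n205763 := d17_8 F417236 (iv5 D125941) F161314 D105268 D195107 (iv5 F417012) (iv0 F437032) F437031 F437768
theorem F437770 : act 0 n126593 = n205763 := d18_0 F437768 F417236 F358333 (iv5 F217904) (iv4 F395784) (iv0 D195105) D195107 (iv0 F437043) F437041
def n205764 : Q := act 4 n126584
theorem D205764 : act 4 n126584 = n205764 := rfl
theorem F437771 : act 2 n205764 = n205651 := d1_1 D205764 (iv4 D205651) (iv2 F437756)
theorem F437772 : act 7 n205764 = n135087 := d11_2 (iv7 F437757) D205764 F217311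
theorem F437773 : act 0 n205764 = n134795 := d20_1 D205764 F437554 F437550 (iv1 F212466) (iv3 F399303) (iv4 D196071) (iv1 F164229) (iv4 F203593) F203592 (iv1 F203615)
theorem F437774 : act 3 n205764 = n128810 := d20_3 F216854 (iv1 F203615) D205764 (iv1 F207062) (iv3 F216882) F216883 (iv1 F179375) (iv4 F217258) (iv3 D135026) (iv1 F216856)
theorem F437775 : act 0 n205613 = n205764 := d20_10 (iv4 D205764) (iv1 D126584) F93713 (iv3 D29978) (iv1 F38331) D50109 (iv4 F93601) F95932 D130936 (iv3 F437220)
theorem F437776 : act 5 n191816 = n205764 := d6_0 F437774 (iv5 F354759) D191816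
def n205765 : Q := act 5 n126584
theorem D205765 : act 5 n126584 = n205765 := rfl
theorem F437777 : act 2 n205765 = n205650 := d2_1 D205765 F437448 (iv2 F437756)
theorem F437778 : act 7 n205765 = n205656 := d13_2 (iv7 F437757) D205765 (iv5 D205656)
theorem F437779 : act 0 n205765 = n126609 := d17_2 (iv1 F203615) D205765 F203654 F98734 D63422 D134946 F389036 F216857 F216854
theorem F437780 : act 4 n205765 = n132522 := d18_5 F212954 D205613 F437775 (iv4 D205764) D205765 (iv0 D132522) F96926 D126484 (iv5 F216363)
theorem F437781 : act 0 n205677 = n205765 := d19_0 (iv5 D205765) D205764 F437774 (iv1 F207062) F324641 F295269 (iv3 F136824) D186765 F367931 F191572 (iv3 D80440) (iv1 F113555) (iv5 F298377) (iv4 F325734) F178965 F178023 D76468 (iv4 F327782) D205677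
def n205766 : Q := act 6 n126584
theorem D205766 : act 6 n126584 = n205766 := rfl
theorem F437782 : act 2 n205766 = n205653 := d3_1 D205766 (iv6 D205653) (iv2 F437756)
def n205767 : Q := act 0 n126586
theorem D205767 : act 0 n126586 = n205767 := rfl
theorem F437783 : act 4 n205767 = n132178 := d18_1 D205767 (iv1 D132178) F96603 D126476 D205613 (iv0 F437749) (iv4 D205762) (iv0 D126583) D126586
theorem F437784 : act 1 n205657 = n205767 := d15_0 (iv0 D205767) F203618 (iv2 F437358)
theorem F437785 : act 3 n134928 = n205767 := d20_5 (iv4 F47366) (iv1 F47369) D29959 D63414 D134928 F437783 (iv1 D132178) F96603 (iv3 D59340) (iv1 F47127)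
theorem F437786 : act 2 n205767 = n205660 := d0_1 F437785 (iv3 F437373) F418179 F417013 F417016
theorem F437787 : act 5 n205767 = n135473 := d6_2 F437369 F437785 F437370
theorem F437788 : act 7 n205767 = n205659 := d8_2 (iv7 F417017) F437785 (iv3 F437370)
theorem F437789 : act 7 n129418 = n132178 := d11_2 F437788 F437367 (iv4 F437783)
theorem F437790 : act 2 n132178 = n129417 := d15_3 (iv0 D129417) D129418 F437789
theorem F437791 : act 2 n129418 = n132177 := d15_3 (iv0 D132177) D132178 (iv7 F437789)
theorem F437792 : act 7 n132177 = n129417 := d4_2 (iv7 F437789) F437791 (iv2 F437790)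
def n205768 : Q := act 1 n126586
theorem D205768 : act 1 n126586 = n205768 := rfl
theorem F437793 : act 1 n205768 = n205657 := d15_1 D205768 F437360 (iv2 F364737)
theorem F437794 : act 7 n205768 = n205660 := d15_2 (iv0 D205767) D205768 (iv2 F437786)
theorem F437795 : act 5 n205768 = n135474 := d17_7 (iv1 F216815) F365142 (iv1 D135036) (iv5 D63465) (iv4 F93713) D126586 D205768 F217842 F217128
theorem F437796 : act 3 n195107 = n205768 := d20_3 (iv4 F395793) (iv1 D195106) D195107 (iv1 D205768) F203617 F93716 (iv1 F97437) F97434 (iv3 F343593) F343590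
theorem F437797 : act 2 n205768 = n205659 := d0_1 F437796 (iv3 F437370) (iv2 F417015) (iv3 F358343) (iv2 F395795)
theorem F437798 : act 6 n205768 = n201137 := d7_2 (iv6 F395796) F437796 (iv3 D201137)
theorem F437799 : act 4 n205768 = n132177 := d20_6 (iv4 F97759) (iv1 F214708) (iv4 F211991) (iv3 F437040) F437043 F437796 (iv1 F211734) F207597 F203523 (iv1 F96841)
def n205769 : Q := act 4 n126586
theorem D205769 : act 4 n126586 = n205769 := rfl
theorem F437800 : act 3 n205769 = n129425 := d5_1 D205769 (iv4 F207603) F99130 (iv4 F93716) (iv3 F203617)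
theorem F437801 : act 7 n205769 = n205661 := d11_2 (iv7 F203618) D205769 (iv4 D205661)
theorem F437802 : act 0 n205769 = n205714 := d18_2 (iv1 D205768) D205769 (iv4 D205714) (iv5 F437272) F437270 (iv0 D134757) (iv4 F99023) D135474 (iv5 F437795)
theorem F437803 : act 1 n205769 = n205716 := d18_6 F437207 F207826 (iv1 D63463) (iv4 F93713) D126586 D205769 (iv4 D205716) F203526 D205610
def n205770 : Q := act 0 n126587
theorem D205770 : act 0 n126587 = n205770 := rfl
theorem F437804 : act 4 n205770 = n186729 := d18_1 D205770 (iv1 F367815) F345002 (iv5 D129664) (iv4 F99232) D135759 (iv4 F437732) F437730 F437402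
theorem F437805 : act 2 n186730 = n205770 := d15_3 (iv0 D205770) F344981 (iv7 F367816)
theorem F437806 : act 1 n182060 = n205770 := d15_0 (iv0 D205770) (iv7 F437397) F437393
theorem F437807 : act 7 n205770 = n191632 := d15_2 (iv0 F283465) F437806 F383985
def n205771 : Q := act 0 n126588
theorem D205771 : act 0 n126588 = n205771 := rfl
def n205772 : Q := act 1 n126588
theorem D205772 : act 1 n126588 = n205772 := rfl
theorem F437808 : act 1 n205772 = n148765 := d15_1 D205772 (iv7 F233564) (iv2 F333187)
theorem F437809 : act 4 n205772 = n135222 := d20_8 (iv4 F417743) F417744 (iv4 F418800) F418801 (iv1 F229776) (iv3 F333185) F333186 (iv1 F437808) (iv3 F418316) F418318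
theorem F437810 : act 2 n159655 = n205772 := d1_3 F437809 F371309 (iv4 F367914)
theorem F437811 : act 7 n159654 = n205772 := d11_0 F437809 (iv7 F371310) (iv4 F437666)
theorem F437812 : act 2 n159654 = n205771 := d15_3 (iv0 D205771) D205772 (iv7 F437811)
theorem F437813 : act 4 n205771 = n135221 := d1_2 (iv4 F437666) F437812 (iv2 F371312)
theorem F437814 : act 7 n205771 = n159655 := d4_2 (iv7 F437811) F437812 F437810
theorem F437815 : act 3 n132480 = n205771 := d8_3 F437814 (iv3 F350871) F359752
theorem F437816 : act 1 n148765 = n205771 := d15_1 F437808 F437814 F437810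
def n205773 : Q := act 5 n126588
theorem D205773 : act 5 n126588 = n205773 := rfl
theorem F437817 : act 2 n205773 = n148766 := d2_1 D205773 F233567 (iv2 F333187)
theorem F437818 : act 6 n205773 = n126589 := d12_2 D126588 D205773 (iv5 D126589) (iv6 D59391) D59390
theorem F437819 : act 7 n148764 = n205773 := d14_0 F437818 F437380 (iv6 D205662) (iv7 F203618) (iv6 F364738)
theorem F437820 : act 1 n148763 = n205773 := d15_1 D148763 (iv7 F437819) (iv2 D148764)
theorem F437821 : act 1 n205773 = n148762 := d15_0 (iv0 D148762) D148766 (iv2 F437817)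
def n205774 : Q := act 7 n126588
theorem D205774 : act 7 n126588 = n205774 := rfl
theorem F437822 : act 2 n205774 = n148765 := d4_1 D205774 (iv7 F233564) (iv2 F333187)
theorem F437823 : act 3 n205774 = n205773 := d8_1 D205774 (iv7 F437819) (iv3 F333188)
theorem F437824 : act 4 n205774 = n135596 := d11_1 D205774 (iv7 D135596) (iv4 F203622)
theorem F437825 : act 5 n205774 = n148764 := d13_1 D205774 F437819 (iv5 D205773)
theorem F437826 : act 6 n205774 = n205667 := d14_1 D205774 (iv7 D205667) (iv6 D126503) (iv7 F93717) D126588
theorem F437827 : act 1 n159655 = n205774 := d15_1 D159655 (iv7 D205774) F333187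
theorem F437828 : act 1 n205774 = n159654 := d15_1 F437827 F437811 (iv2 F437810)
def n205775 : Q := act 4 n126589
theorem D205775 : act 4 n126589 = n205775 := rfl
theorem F437829 : act 2 n205775 = n205674 := d1_1 D205775 (iv4 D205674) (iv2 F203623)
theorem F437830 : act 5 n205775 = n132988 := d16_1 D205775 F213634 D132993 F351651 F161105 (iv4 F203421) (iv5 F437423) (iv7 D205675) (iv2 F203623)
def n205776 : Q := act 6 n126591
theorem D205776 : act 6 n126591 = n205776 := rfl
theorem F437831 : act 2 n205776 = n126607 := d3_1 D205776 (iv6 D126607) F203629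
theorem F437832 : act 3 n205776 = n205676 := d7_1 D205776 (iv6 D205676) (iv3 F203630)
def n205777 : Q := act 6 n126592
theorem D205777 : act 6 n126592 = n205777 := rfl
theorem F437833 : act 2 n205777 = n126596 := d3_1 D205777 (iv6 D126596) D126592
theorem F437834 : act 4 n205777 = n134360 := d10_1 D205777 (iv6 D134360) (iv4 F208371)
theorem F437835 : act 0 n205777 = n205644 := d20_7 F216037 (iv1 F98254) D63072 (iv3 F212882) F363247 (iv3 F216365) (iv4 F437834) F437327 (iv3 D134246) (iv1 F216040)
def n205778 : Q := act 1 n126593
theorem D205778 : act 1 n126593 = n205778 := rfl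
theorem F437836 : act 1 n205778 = n130289 := d15_1 D205778 (iv7 F400036) F400034
theorem F437837 : act 5 n205778 = n205655 := d17_7 (iv1 D106812) D106814 (iv1 F395815) F395813 D205572 F437041 D205778 (iv0 F437355) (iv4 D196248)
theorem F437838 : act 4 n205778 = n128915 := d17_9 F413897 (iv5 D125947) F161342 D113237 D200574 F417012 (iv0 F437043) F437041 D205778
theorem F437839 : act 3 n205656 = n205778 := d20_3 (iv4 F95513) D129809 (iv4 F437357) (iv1 D205778) (iv3 D126593) D126594 F336987 F336981 F336989 (iv1 D126564)
theorem F437840 : act 2 n205778 = n205655 := d0_1 F437839 (iv3 D205655) F437755 D205761 F437758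
def n205779 : Q := act 6 n126593
theorem D205779 : act 6 n126593 = n205779 := rfl
theorem F437841 : act 3 n205779 = n126596 := d7_1 D205779 (iv6 D126596) D126593
theorem F437842 : act 4 n205779 = n205569 := d10_1 D205779 (iv6 D205569) F343606
theorem F437843 : act 0 n129683 = n126596 := d20_4 F203377 (iv1 F93625) D60918 D129683 (iv3 F437841) F437842 F437027 F394540 (iv3 D129666) (iv1 F203379)
def n205780 : Q := act 6 n126594
theorem D205780 : act 6 n126594 = n205780 := rfl
theorem F437844 : act 2 n205780 = n134360 := d3_1 D205780 (iv6 D134360) F208380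
theorem F437845 : act 3 n205780 = n183500 := d7_1 D205780 (iv6 F345946) F349810
theorem F437846 : act 4 n205780 = n126596 := d10_1 D205780 (iv6 D126596) D126594
theorem F437847 : act 0 n205780 = n183408 := d21_4 F383771 (iv1 F360772) (iv5 F360769) D205780 (iv6 D183408) F294475 (iv1 F133781) D96478 F347308 F383773
def n205781 : Q := act 6 n126595
theorem D205781 : act 6 n126595 = n205781 := rfl
theorem F437848 : act 4 n205781 = n200085 := d10_1 D205781 (iv6 F414960) (iv4 F211991)
theorem F437849 : act 0 n205460 = n205781 := d18_2 D126012 D205460 F437848 F414958 F363222 F168974 F168163 (iv0 D59018) D59020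
theorem F437850 : act 1 n203965 = n205781 := d18_6 F168005 F161102 (iv1 F163883) F327231 D121789 D203965 F437848 F414956 (iv5 D112614)
def n205782 : Q := act 0 n126596
theorem D205782 : act 0 n126596 = n205782 := rfl
theorem F437851 : act 4 n205782 = n194776 := d20_8 (iv4 D92758) (iv1 F75906) D104360 (iv3 F380793) (iv1 F380795) (iv3 F437845) F437846 D205782 (iv3 D194776) (iv1 F159989)
theorem F437852 : act 2 n205644 = n205782 := d15_3 (iv0 D205782) (iv0 F437843) (iv7 F437329)
theorem F437853 : act 3 n205782 = n205678 := d0_2 D205644 F437852 (iv2 F437437) (iv3 D129677) (iv2 F203380)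
theorem F437854 : act 6 n205782 = n183409 := d3_2 (iv6 F437328) F437852 (iv2 F412714)
def n205783 : Q := act 5 n126596
theorem D205783 : act 5 n126596 = n205783 := rfl
def n205784 : Q := act 7 n126596
theorem D205784 : act 7 n126596 = n205784 := rfl
def n205785 : Q := act 6 n126597
theorem D205785 : act 6 n126597 = n205785 := rfl
theorem F437855 : act 2 n205785 = n126601 := d3_1 D205785 (iv6 D126601) (iv2 F203637)
theorem F437856 : act 4 n205785 = n138177 := d10_1 D205785 (iv6 F364182) (iv4 F337003)
def n205786 : Q := act 6 n126598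
theorem D205786 : act 6 n126598 = n205786 := rfl
theorem F437857 : act 2 n205786 = n130291 := d3_1 D205786 (iv6 D130291) (iv2 F208383)
theorem F437858 : act 3 n205786 = n126601 := d7_1 D205786 (iv6 D126601) D126598
theorem F437859 : act 4 n205786 = n130288 := d10_1 D205786 (iv6 D130288) (iv4 F208382)
theorem F437860 : act 5 n205786 = n129168 := d12_1 D205786 F211830 F361829 (iv6 F361795) (iv5 F208392)
theorem F437861 : act 7 n135477 = n205786 := d13_0 F437860 F207403 D135477
theorem F437862 : act 0 n129859 = n205786 := d17_0 F437860 (iv1 F207402) D129173 F362151 (iv5 D79682) (iv0 D36283) (iv5 F323785) D62279 (iv4 F334312)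
theorem F437863 : act 1 n129862 = n205786 := d17_6 (iv1 F93616) (iv5 F325132) F325129 F93475 D60999 D129862 F437860 (iv0 D129168) (iv4 D60723)
def n205787 : Q := act 5 n126599
theorem D205787 : act 5 n126599 = n205787 := rfl
theorem F437864 : act 2 n205787 = n204924 := d2_1 D205787 F434199 (iv2 F337002)
theorem F437865 : act 3 n205787 = n134365 := d6_1 D205787 F216368 F208366
theorem F437866 : act 6 n205787 = n146790 := d12_2 (iv6 F333874) D205787 (iv5 F421458) F421460 (iv5 D138179)
theorem F437867 : act 7 n205787 = n134359 := d13_2 (iv7 F208367) D205787 (iv5 D134359)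
theorem F437868 : act 0 n205787 = n148167 := d17_2 (iv1 F336988) D205787 (iv5 F383771) F383774 (iv5 D129143) F96841 D132404 (iv0 F212464) (iv4 F336981)
theorem F437869 : act 1 n205787 = n179663 := d17_8 F131599 (iv5 D75828) (iv1 D34672) (iv5 F50664) (iv4 F105059) D146919 F336997 D205787 (iv4 D179663)
theorem F437870 : act 6 n191564 = n138176 := d21_3 F358464 F387284 F387282 (iv1 D138176) (iv6 F333874) D205787 F437868 (iv5 F383771) (iv6 D191551) F358465
theorem F437871 : act 2 n138176 = n191566 := d3_1 F437870 (iv6 D191566) D191564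
def n205788 : Q := act 1 n126601
theorem D205788 : act 1 n126601 = n205788 := rfl
def n205789 : Q := act 5 n126601
theorem D205789 : act 5 n126601 = n205789 := rfl
theorem F437872 : act 3 n205789 = n129168 := d6_1 D205789 (iv5 F437860) F437858
theorem F437873 : act 4 n199690 = n205789 := d5_0 F437872 F207401 F99028 (iv4 F173152) (iv3 F413135)
theorem F437874 : act 7 n135476 = n205789 := d8_0 F437872 F207403 (iv3 F217844)
theorem F437875 : act 0 n191586 = n205789 := d20_7 (iv4 F173144) (iv1 D60512) (iv4 F95130) (iv3 F354670) (iv1 D98584) (iv3 F151970) (iv4 F383901) (iv4 F437873) F413135 (iv1 F173154)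
def n205790 : Q := act 7 n126601
theorem D205790 : act 7 n126601 = n205790 := rfl
theorem F437876 : act 3 n205790 = n135477 := d8_1 D205790 F437861 F437858
theorem F437877 : act 4 n205790 = n136230 := d11_1 D205790 F359618 (iv4 F364602)
theorem F437878 : act 5 n205790 = n135476 := d13_1 D205790 F437874 (iv5 D205789)
theorem F437879 : act 0 n205790 = n132683 := d20_7 F48001 D29839 D63093 F325098 D64046 D136230 (iv4 F437877) (iv4 F216313) (iv3 D134292) (iv1 D63088)
theorem F437880 : act 1 n205785 = n132683 := d15_0 (iv0 F437879) (iv7 D205790) (iv2 F437855)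
def n205791 : Q := act 6 n126604
theorem D205791 : act 6 n126604 = n205791 := rfl
theorem F437881 : act 4 n205791 = n130195 := d10_1 D205791 (iv6 D130195) F208362
theorem F437882 : act 5 n205791 = n200914 := d12_1 D205791 (iv6 F418385) (iv5 D190727) (iv6 F347317) F207344
def n205792 : Q := act 0 n126607
theorem D205792 : act 0 n126607 = n205792 := rfl
def n205793 : Q := act 1 n126607
theorem D205793 : act 1 n126607 = n205793 := rfl
theorem F437883 : act 4 n136217 = n205793 := d20_6 (iv4 D63538) (iv1 D30002) (iv4 F48190) (iv3 F98831) (iv1 F347017) (iv3 F219241) (iv1 D205793) (iv4 F216259) F216258 (iv1 F102150)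
theorem F437884 : act 6 n205793 = n136216 := d10_2 D136217 F437883 (iv4 D136216)
def n205794 : Q := act 5 n126607
theorem D205794 : act 5 n126607 = n205794 := rfl
theorem F437885 : act 3 n205794 = n126618 := d6_1 D205794 (iv5 D126618) (iv3 F203649)
def n205795 : Q := act 5 n126608
theorem D205795 : act 5 n126608 = n205795 := rfl
theorem F437886 : act 2 n205795 = n205692 := d2_1 D205795 (iv5 D205692) (iv2 F203650)
theorem F437887 : act 3 n205795 = n205679 := d6_1 D205795 (iv5 D205679) (iv3 F203651)
theorem F437888 : act 6 n205795 = n135486 := d12_2 D126608 D205795 (iv5 D135486) (iv6 D63702) (iv5 F93723)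
theorem F437889 : act 7 n205795 = n205791 := d13_2 F418382 D205795 F437882
theorem F437890 : act 0 n205795 = n129730 := d18_0 (iv4 D129730) (iv1 D60936) (iv4 F95448) D129659 (iv4 F345881) (iv0 F363938) (iv4 F418386) (iv0 F418387) D205795
def n205796 : Q := act 6 n126609
theorem D205796 : act 6 n126609 = n205796 := rfl
theorem F437891 : act 2 n205796 = n205682 := d3_1 D205796 (iv6 D205682) (iv2 F203653)
theorem F437892 : act 3 n205796 = n126610 := d7_1 D205796 (iv6 D126610) D126609
theorem F437893 : act 5 n205796 = n198165 := d12_1 D205796 F407064 F360207 (iv6 D134931) (iv5 F203654)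
def n205797 : Q := act 0 n126610
theorem D205797 : act 0 n126610 = n205797 := rfl
theorem F437894 : act 4 n205797 = n133215 := d18_3 (iv1 D135642) (iv4 F203657) D205797 (iv5 F377676) (iv4 F380430) (iv0 F380431) (iv4 F379698) (iv0 D190409) (iv5 F365387)
theorem F437895 : act 5 n205797 = n129861 := d21_0 F365732 F418616 (iv6 D200982) (iv1 D113701) F327153 (iv5 D60694) (iv1 F48161) (iv5 F93732) D126610 D205797
theorem F437896 : act 2 n205694 = n205797 := d2_3 F437895 F412714 (iv5 F437481)
theorem F437897 : act 3 n129862 = n205797 := d6_3 F437895 (iv3 D129861) D129862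
theorem F437898 : act 7 n205695 = n205797 := d13_0 F437895 (iv7 F412713) (iv5 F437482)
theorem F437899 : act 1 n190727 = n205797 := d17_6 F151752 F295064 (iv1 D45044) D45046 D96481 D190727 F437895 (iv0 F363998) (iv4 D183390)
theorem F437900 : act 4 n205694 = n135520 := d16_0 F415796 F415794 (iv5 F367090) (iv4 F283981) (iv5 F412708) F412711 (iv5 F437482) F437898 (iv2 F437896)
def n205798 : Q := act 1 n126610
theorem D205798 : act 1 n126610 = n205798 := rfl
theorem F437901 : act 1 n205798 = n190727 := d15_1 D205798 F380819 (iv2 F203656)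
theorem F437902 : act 7 n205798 = n205694 := d15_2 (iv0 D205797) D205798 F437896
theorem F437903 : act 2 n205695 = n205798 := d4_3 F437902 F437896 (iv7 F437898)
theorem F437904 : act 4 n133216 = n205798 := d11_3 F437902 F437900 F371148
theorem F437905 : act 3 n205798 = n205672 := d20_3 (iv4 F217926) (iv1 F217928) F437904 (iv1 D205672) F203418 F93631 (iv1 F168421) (iv4 F203557) (iv3 F437572) (iv1 F437575)
def n205799 : Q := act 7 n126610
theorem D205799 : act 7 n126610 = n205799 := rfl
theorem F437906 : act 2 n205799 = n190727 := d4_1 D205799 F380819 (iv2 F203656)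
theorem F437907 : act 4 n205799 = n135644 := d11_1 D205799 (iv7 D135644) (iv4 F203657)
theorem F437908 : act 5 n205799 = n190724 := d13_1 D205799 F380814 F365383
theorem F437909 : act 6 n205799 = n205693 := d14_1 D205799 (iv7 D205693) (iv6 D126528) (iv7 F93731) D126610
theorem F437910 : act 1 n205695 = n205799 := d15_1 D205695 (iv7 D205799) F203656
theorem F437911 : act 1 n205799 = n205694 := d15_1 F437910 (iv7 F437902) (iv2 F437903)
def n205800 : Q := act 6 n126612
theorem D205800 : act 6 n126612 = n205800 := rfl
theorem F437912 : act 2 n205800 = n201860 := d3_1 D205800 (iv6 D201860) F355359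
theorem F437913 : act 3 n205800 = n195264 := d7_1 D205800 (iv6 D195264) F355361
theorem F437914 : act 4 n205800 = n201858 := d10_1 D205800 (iv6 D201858) (iv4 F355358)
theorem F437915 : act 5 n205800 = n201799 := d12_1 D205800 (iv6 D201799) (iv5 F179184) D201815 (iv5 F421884)
theorem F437916 : act 0 n187725 = n201799 := d21_7 (iv5 F396556) (iv1 F396581) (iv5 F396584) F233454 F106056 (iv6 F139264) D187725 (iv5 F437915) (iv6 D205800) (iv1 F203662)
theorem F437917 : act 0 n194001 = n205800 := d18_2 F159976 D194001 F437914 F422096 F370572 (iv0 D90486) F65393 (iv0 F66848) D90438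
def n205801 : Q := act 5 n126613
theorem D205801 : act 5 n126613 = n205801 := rfl
theorem F437918 : act 2 n205801 = n201865 := d2_1 D205801 (iv5 D201865) F355362
theorem F437919 : act 4 n205801 = n150131 := d9_1 D205801 F236300 (iv4 F114776) (iv5 F252138) F252137 (iv5 F335155) (iv4 F355358) F421884 F421883 (iv5 D118189) F85995 (iv5 F104051) (iv4 F183354) F338625 (iv4 F355363)
theorem F437920 : act 7 n205801 = n150130 := d13_2 (iv7 F355364) D205801 (iv5 F338629)
theorem F437921 : act 6 n199065 = n205801 := d21_5 (iv5 D64086) F48588 D62021 D132200 (iv1 F410521) (iv5 D205801) (iv1 D126613) (iv5 F161949) (iv6 D105495) (iv1 F99699)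
def n205802 : Q := act 6 n126613
theorem D205802 : act 6 n126613 = n205802 := rfl
theorem F437922 : act 2 n205802 = n201866 := d3_1 D205802 (iv6 D201866) F355362
theorem F437923 : act 4 n205802 = n201863 := d10_1 D205802 (iv6 D201863) (iv4 F355363)
theorem F437924 : act 5 n191583 = n205802 := d21_2 (iv5 D191585) D191583 (iv6 D205802) (iv1 D126613) (iv6 D59400) (iv5 D28207) D28204 D59387 D126580 F399492
def n205803 : Q := act 6 n126614
theorem D205803 : act 6 n126614 = n205803 := rfl
theorem F437925 : act 2 n205803 = n195640 := d3_1 D205803 (iv6 F397701) (iv2 F203661)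
theorem F437926 : act 3 n205803 = n132581 := d7_1 D205803 (iv6 D132581) (iv3 F326070)
theorem F437927 : act 4 n205803 = n146848 := d10_1 D205803 F361691 (iv4 F326071)
theorem F437928 : act 7 n205803 = n126615 := d14_2 D126614 D205803 (iv6 D126615) (iv7 D59401) D59400
theorem F437929 : act 0 n135657 = n205803 := d21_4 D68855 (iv1 F230135) (iv5 D146770) (iv6 F329784) (iv6 D205803) (iv5 F388444) (iv1 F396551) F396552 (iv6 D146877) (iv1 D68853)
theorem F437930 : act 1 n135662 = n205803 := d15_0 (iv0 F437929) F364257 (iv2 F364260)
def n205804 : Q := act 5 n126615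
theorem D205804 : act 5 n126615 = n205804 := rfl
theorem F437931 : act 2 n205804 = n205696 := d2_1 D205804 (iv5 D205696) (iv2 F203665)
theorem F437932 : act 6 n205804 = n126618 := d12_2 D126615 D205804 (iv5 D126618) (iv6 D59402) (iv5 F93743)
def n205805 : Q := act 3 n126616
theorem D205805 : act 3 n126616 = n205805 := rfl
theorem F437933 : act 4 n205805 = n132151 := d5_2 (iv4 F203667) D205805 (iv3 D132151) (iv4 F102050) F102063
theorem F437934 : act 7 n205805 = n205699 := d8_2 F203670 D205805 (iv3 D205699)
theorem F437935 : act 0 n205669 = n205805 := d20_4 F398220 (iv1 D195796) F332591 (iv3 F437409) (iv3 D205805) F203667 (iv1 F99074) (iv4 F95528) (iv3 F208179) (iv1 F218508)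
def n205806 : Q := act 5 n126616
theorem D205806 : act 5 n126616 = n205806 := rfl
theorem F437936 : act 2 n205806 = n205698 := d2_1 D205806 (iv5 D205698) F203669
theorem F437937 : act 7 n205806 = n205700 := d13_2 F203670 D205806 (iv5 D205700)
def n205807 : Q := act 3 n126617
theorem D205807 : act 3 n126617 = n205807 := rfl
theorem F437938 : act 4 n205807 = n135216 := d5_2 F203673 D205807 (iv3 D135216) (iv4 D63538) D63537
theorem F437939 : act 7 n205807 = n205697 := d8_2 (iv7 F203672) D205807 (iv3 D205697)
def n205808 : Q := act 5 n126617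
theorem D205808 : act 5 n126617 = n205808 := rfl
theorem F437940 : act 2 n205808 = n205700 := d2_1 D205808 (iv5 D205700) (iv2 F203674)
theorem F437941 : act 7 n205808 = n205698 := d13_2 (iv7 F203672) D205808 (iv5 D205698)
def n205809 : Q := act 0 n126618
theorem D205809 : act 0 n126618 = n205809 := rfl
theorem F437942 : act 1 n132176 = n205809 := d15_0 (iv0 D205809) (iv7 F207595) (iv2 F211732)
def n205810 : Q := act 1 n126618
theorem D205810 : act 1 n126618 = n205810 := rfl
theorem F437943 : act 1 n205810 = n132176 := d15_1 D205810 F211733 (iv2 F203675)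
def n205811 : Q := act 4 n126618
theorem D205811 : act 4 n126618 = n205811 := rfl
theorem F437944 : act 2 n205811 = n205703 := d1_1 D205811 (iv4 D205703) (iv2 F203675)
def n205812 : Q := act 3 n126619
theorem D205812 : act 3 n126619 = n205812 := rfl
theorem F437945 : act 4 n205812 = n205704 := d5_2 D126619 D205812 (iv3 D205704) (iv4 D126539) F101899
theorem F437946 : act 7 n205812 = n205704 := d8_2 (iv7 F203677) D205812 (iv3 D205704)
def n205813 : Q := act 5 n126619
theorem D205813 : act 5 n126619 = n205813 := rfl
theorem F437947 : act 2 n205813 = n133170 := d2_1 D205813 (iv5 D133170) (iv2 F203676)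
theorem F437948 : act 7 n205813 = n205705 := d13_2 (iv7 F203677) D205813 (iv5 D205705)
def n205814 : Q := act 6 n126619
theorem D205814 : act 6 n126619 = n205814 := rfl
theorem F437949 : act 2 n205814 = n133171 := d3_1 D205814 (iv6 D133171) (iv2 F203676)
theorem F437950 : act 4 n205814 = n126621 := d10_1 D205814 (iv6 D126621) D126619
theorem F437951 : act 7 n205814 = n195428 := d14_2 (iv7 F203677) D205814 F396985 F437498 (iv6 D205706)
theorem F437952 : act 1 n132561 = n205814 := d15_1 (iv0 F421985) F437951 F396984
theorem F437953 : act 0 n132673 = n205814 := d18_0 F437950 F203689 (iv4 F212802) (iv5 F347254) (iv4 F216230) F437612 (iv4 D205731) D205730 F437605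
def n205815 : Q := act 4 n126620
theorem D205815 : act 4 n126620 = n205815 := rfl
theorem F437954 : act 2 n205815 = n133172 := d1_1 D205815 (iv4 D133172) (iv2 F203680)
theorem F437955 : act 6 n205815 = n129110 := d10_2 (iv6 F203684) D205815 (iv4 D129110)
theorem F437956 : act 7 n205815 = n205707 := d11_2 (iv7 F203682) D205815 (iv4 D205707)
theorem F437957 : act 0 n205815 = n129163 := d18_2 F203685 D205815 (iv4 F217847) (iv5 F407068) F407067 (iv0 F437504) (iv4 D205707) (iv0 F203463) (iv5 F175212)
def n205816 : Q := act 3 n126622
theorem D205816 : act 3 n126622 = n205816 := rfl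
theorem F437958 : act 2 n205816 = n132508 := d0_1 D205816 F212651 F96908 (iv3 F323539) F203695
theorem F437959 : act 4 n205816 = n137071 := d5_2 F222671 D205816 (iv3 F227343) (iv4 F424440) F424439
theorem F437960 : act 5 n205816 = n132507 := d6_2 (iv5 F204657) D205816 (iv3 F325319)
theorem F437961 : act 7 n205816 = n126786 := d8_2 F203697 D205816 (iv3 D126786)
theorem F437962 : act 0 n205816 = n194384 := d20_4 F375913 (iv1 F362379) F222671 D205816 F393005 (iv4 F223666) F400161 F400159 F348507 F375915
theorem F437963 : act 0 n133093 = n129806 := d17_2 F437962 (iv5 F393008) F323655 F321152 D142405 F331295 F331279 D137071 (iv4 F437959)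
theorem F437964 : act 0 n191173 = n205816 := d20_1 D191173 F437959 (iv3 F227343) (iv1 F357564) F410795 F410791 F228324 (iv4 F166902) F219956 (iv1 F367008)
def n205817 : Q := act 0 n126625
theorem D205817 : act 0 n126625 = n205817 := rfl
theorem F437965 : act 5 n205817 = n126636 := d17_1 D205817 (iv1 F203725) D126887 (iv4 F204141) (iv5 F203754) F94218 (iv5 F176696) F204610 F204614
theorem F437966 : act 4 n205817 = n195786 := d18_3 D127360 F204614 D205817 F398169 (iv4 F406104) F406102 (iv4 D127354) (iv0 D59820) D59823
theorem F437967 : act 2 n126796 = n205817 := d15_3 (iv0 D205817) (iv0 F336302) (iv7 F336593)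
theorem F437968 : act 1 n126793 = n205817 := d15_0 (iv0 D205817) F203705 (iv2 F204047)
theorem F437969 : act 7 n205817 = n126795 := d15_2 (iv0 F350808) F437968 (iv2 F336589)
theorem F437970 : act 6 n129952 = n205817 := d21_3 F336581 (iv1 F122324) (iv5 F323645) (iv1 F437968) F346968 D130398 F346973 F346981 (iv6 D132377) (iv1 F336580)
def n205818 : Q := act 6 n126625
theorem D205818 : act 6 n126625 = n205818 := rfl
theorem F437971 : act 2 n205818 = n194383 := d3_1 D205818 F417795 F417790
theorem F437972 : act 3 n205818 = n126627 := d7_1 D205818 (iv6 D126627) (iv3 F203704)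
theorem F437973 : act 5 n205818 = n191173 := d12_1 D205818 F382471 F329041 (iv6 F325776) D126625
theorem F437974 : act 7 n205818 = n130394 := d14_2 (iv7 F203705) D205818 (iv6 D130394) (iv7 F346994) (iv6 F347003)
theorem F437975 : act 0 n129806 = n205818 := d21_4 (iv5 F433938) (iv1 F433942) F341960 D129806 (iv6 D205818) (iv5 D126625) D126622 F204657 (iv6 F433920) F433923
def n205819 : Q := act 5 n126627
theorem D205819 : act 5 n126627 = n205819 := rfl
theorem F437976 : act 2 n205819 = n126749 := d2_1 D205819 (iv5 D126749) (iv2 F203708)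
theorem F437977 : act 3 n205819 = n191173 := d6_1 D205819 (iv5 F437973) F437972
theorem F437978 : act 6 n205819 = n126628 := d12_2 D126627 D205819 (iv5 D126628) (iv6 D59407) D59406
theorem F437979 : act 0 n205819 = n136901 := d17_2 (iv1 F362712) D205819 (iv5 F374852) (iv4 F395904) F395905 (iv0 D137200) (iv5 D64488) D64487 D137197
theorem F437980 : act 4 n205819 = n144407 := d18_5 (iv1 D126672) D126673 F360530 (iv4 F203709) D205819 (iv0 D144407) F103685 D136702 F338729
theorem F437981 : act 0 n126731 = n205819 := d19_0 (iv5 D205819) F203709 (iv3 F219257) F365377 (iv5 F159643) (iv4 F394146) F394145 F392753 F392752 (iv4 D136272) (iv3 F180029) (iv1 F349851) (iv5 F349836) (iv4 D116583) (iv3 F326821) F423237 F423235 (iv4 D126732) D126731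
theorem F437982 : act 1 n126731 = n193410 := d15_1 (iv0 F437981) F389757 (iv2 F437976)
def n205820 : Q := act 7 n126627
theorem D205820 : act 7 n126627 = n205820 := rfl
theorem F437983 : act 2 n205820 = n126750 := d4_1 D205820 (iv7 D126750) (iv2 F203708)
theorem F437984 : act 3 n205820 = n130394 := d8_1 D205820 (iv7 F437974) F437972
theorem F437985 : act 4 n205820 = n136228 := d11_1 D205820 (iv7 D136228) (iv4 F203709)
theorem F437986 : act 6 n205820 = n126805 := d14_1 D205820 (iv7 D126805) (iv6 D59505) (iv7 F93753) D126627
theorem F437987 : act 1 n126748 = n205820 := d15_1 D126748 (iv7 D205820) F203708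
theorem F437988 : act 1 n205820 = n126747 := d15_1 F437987 (iv7 F362710) (iv2 F362711)
def n205821 : Q := act 4 n126629
theorem D205821 : act 4 n126629 = n205821 := rfl
theorem F437989 : act 2 n205821 = n126732 := d1_1 D205821 (iv4 D126732) (iv2 F203951)
theorem F437990 : act 3 n205821 = n136911 := d5_1 D205821 (iv4 D136911) (iv3 D64357) D64358 (iv3 F203711)
theorem F437991 : act 7 n205821 = n126728 := d11_2 F203950 D205821 (iv4 D126728)
theorem F437992 : act 0 n205821 = n202029 := d20_1 D205821 F422747 (iv3 D141805) F320397 (iv3 D31411) (iv4 D14808) F22603 D28212 D59411 D126629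
theorem F437993 : act 0 n202020 = n205821 := d20_1 F423875 (iv4 D205821) F203711 (iv1 F220078) F223082 (iv4 F400438) (iv1 F400441) D200109 F415044 F423874
def n205822 : Q := act 6 n126629
theorem D205822 : act 6 n126629 = n205822 := rfl
theorem F437994 : act 2 n205822 = n126734 := d3_1 D205822 (iv6 D126734) (iv2 F203951)
theorem F437995 : act 3 n205822 = n136915 := d7_1 D205822 (iv6 D136915) (iv3 F203711)
theorem F437996 : act 5 n205822 = n173359 := d12_1 D205822 (iv6 F362982) (iv5 D130973) (iv6 F324340) (iv5 F220092)
theorem F437997 : act 7 n205822 = n203556 := d14_2 F203950 D205822 (iv6 F428864) F422843 (iv6 D126730)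
theorem F437998 : act 0 n205822 = n203558 := d21_10 F428875 F337065 (iv5 F351642) (iv6 D112722) F82218 (iv6 F330507) D59520 D126838 (iv5 F220092) D205822
theorem F437999 : act 0 n203502 = n205822 := d21_4 (iv5 D54898) D54896 D119290 D203502 (iv6 D205822) F220092 (iv1 F347026) (iv5 F347030) (iv6 F336276) (iv1 D119297)
def n205823 : Q := act 3 n126630
theorem D205823 : act 3 n126630 = n205823 := rfl
theorem F438000 : act 2 n205823 = n136901 := d0_1 D205823 (iv3 D136901) F203947 (iv3 D126727) (iv2 F203952)
theorem F438001 : act 4 n205823 = n202032 := d5_2 F203713 D205823 (iv3 D202032) (iv4 D115338) D115337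
theorem F438002 : act 7 n205823 = n126731 := d8_2 (iv7 F203953) D205823 (iv3 D126731)
theorem F438003 : act 0 n126749 = n205823 := d20_1 (iv4 F396735) F438001 (iv3 D202032) F396954 (iv3 D139801) (iv4 D65626) (iv1 F49738) (iv4 F103708) (iv3 F323666) (iv1 F396734)
def n205824 : Q := act 5 n126631
theorem D205824 : act 5 n126631 = n205824 := rfl
theorem F438004 : act 2 n205824 = n126632 := d2_1 D205824 (iv5 D126632) D126631
theorem F438005 : act 3 n205824 = n126793 := d6_1 D205824 (iv5 D126793) (iv3 F203714)
theorem F438006 : act 6 n205824 = n130396 := d12_2 F357036 D205824 F347044 (iv6 D119483) (iv5 F357035)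
theorem F438007 : act 7 n205824 = n126735 := d13_2 (iv7 F203715) D205824 (iv5 D126735)
theorem F438008 : act 1 n205824 = n126737 := d17_6 D115250 D201912 F422338 F357060 (iv4 F357037) D205824 F233516 (iv0 D59517) (iv4 F83986)
theorem F438009 : act 0 n205824 = n126738 := d21_7 D107672 D197118 F403129 (iv6 F415270) (iv1 F415271) F357036 D205824 F347037 (iv6 F351557) (iv1 D107670)
def n205825 : Q := act 4 n126632
theorem D205825 : act 4 n126632 = n205825 := rfl
theorem F438010 : act 3 n205825 = n136216 := d5_1 D205825 (iv4 D136216) (iv3 D64042) (iv4 F93770) (iv3 F203719)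
theorem F438011 : act 7 n205825 = n126739 := d11_2 (iv7 F203720) D205825 (iv4 D126739)
def n205826 : Q := act 3 n126636
theorem D205826 : act 3 n126636 = n205826 := rfl
theorem F438012 : act 2 n205826 = n127151 := d0_1 D205826 (iv3 D127151) F320604 (iv3 F320657) F203729
theorem F438013 : act 4 n205826 = n128531 := d5_2 F224196 D205826 (iv3 F225282) (iv4 F424911) F424910
theorem F438014 : act 6 n205826 = n163043 := d7_2 F336322 D205826 (iv3 F336328)
theorem F438015 : act 7 n205826 = n126881 := d8_2 F203731 D205826 (iv3 D126881)
theorem F438016 : act 0 n205826 = n179129 := d20_10 F382333 F382334 (iv4 D126926) D126925 F382335 D195922 (iv4 F410442) F410445 F224196 D205826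
theorem F438017 : act 0 n179128 = n205826 := d20_4 (iv4 F76823) D105513 D195309 F396666 (iv3 D205826) (iv4 F224196) (iv1 F410484) F410482 (iv3 D126664) (iv1 D59429)
def n205827 : Q := act 3 n126646
theorem D205827 : act 3 n126646 = n205827 := rfl
theorem F438018 : act 4 n205827 = n141841 := d5_2 (iv4 F203791) D205827 (iv3 D141841) (iv4 D66501) (iv3 F163540)
theorem F438019 : act 5 n205827 = n203534 := d6_2 (iv5 F331900) D205827 F428763
theorem F438020 : act 6 n205827 = n203528 := d7_2 F397583 D205827 (iv3 F428733)
theorem F438021 : act 7 n205827 = n126903 := d8_2 (iv7 F203793) D205827 (iv3 D126903)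
def n205828 : Q := act 1 n126647
theorem D205828 : act 1 n126647 = n205828 := rfl
theorem F438022 : act 1 n205828 = n126908 := d15_1 D205828 (iv7 D126908) (iv2 F203795)
theorem F438023 : act 7 n205828 = n126905 := d15_2 (iv0 F348189) D205828 (iv2 F345594)
theorem F438024 : act 5 n205828 = n130524 := d17_7 F111398 (iv5 F111401) (iv1 D49912) (iv5 F45660) (iv4 F93792) D126647 D205828 F209096 (iv4 D105608)
theorem F438025 : act 2 n126906 = n205828 := d2_3 F438024 F209093 (iv5 F204153)
theorem F438026 : act 3 n130440 = n205828 := d6_3 F438024 (iv3 F432148) F432150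
def n205829 : Q := act 7 n126647
theorem D205829 : act 7 n126647 = n205829 := rfl
theorem F438027 : act 2 n205829 = n126908 := d4_1 D205829 (iv7 D126908) (iv2 F203795)
theorem F438028 : act 3 n205829 = n203484 := d8_1 D205829 F428500 F348188
theorem F438029 : act 5 n205829 = n126648 := d13_1 D205829 (iv7 D126648) D126647
theorem F438030 : act 6 n205829 = n203281 := d14_1 D205829 F427646 F334174 (iv7 F315443) (iv6 F348187)
theorem F438031 : act 1 n126906 = n205829 := d15_1 D126906 (iv7 D205829) F203795
theorem F438032 : act 1 n205829 = n126905 := d15_1 F438031 (iv7 F438023) (iv2 F438025)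
def n205830 : Q := act 3 n126649
theorem D205830 : act 3 n126649 = n205830 := rfl
theorem F438033 : act 2 n205830 = n161353 := d0_1 D205830 F255173 F116288 F323259 (iv2 F203801)
theorem F438034 : act 4 n205830 = n196719 := d5_2 D126649 D205830 (iv3 D196719) (iv4 F166066) (iv3 F166069)
theorem F438035 : act 5 n205830 = n128168 := d6_2 (iv5 F324256) D205830 F319368
theorem F438036 : act 6 n205830 = n155057 := d7_2 (iv6 F324257) D205830 F243836
theorem F438037 : act 7 n205830 = n126911 := d8_2 (iv7 F203802) D205830 (iv3 D126911)
theorem F438038 : act 0 n196719 = n141357 := d20_7 (iv4 D193624) F360231 F206745 F203813 (iv1 F203803) D205830 F438034 F428544 F428541 F392472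
theorem F438039 : act 0 n126667 = n205830 := d21_4 (iv5 D66484) D66481 (iv5 F359095) D126667 F438036 (iv5 D155057) (iv1 F305109) D203640 F429199 F323662
def n205831 : Q := act 5 n126650
theorem D205831 : act 5 n126650 = n205831 := rfl
theorem F438040 : act 2 n205831 = n126927 := d2_1 D205831 (iv5 D126927) (iv2 F359993)
theorem F438041 : act 3 n205831 = n132607 := d6_1 D205831 (iv5 F350852) (iv3 F359994)
theorem F438042 : act 6 n205831 = n132604 := d12_2 (iv6 F359995) D205831 (iv5 F354300) D204871 (iv5 F433956)
theorem F438043 : act 7 n205831 = n126922 := d13_2 (iv7 F359996) D205831 (iv5 D126922)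
theorem F438044 : act 0 n205831 = n127025 := d17_2 D126650 D205831 F204265 F331266 F134944 (iv0 F331294) (iv5 D142405) (iv0 F102641) F95004
theorem F438045 : act 1 n205831 = n126676 := d17_6 (iv1 F382478) F382475 (iv1 F370257) (iv5 F392729) F392728 D205831 F203843 D135993 (iv4 F367013)
theorem F438046 : act 4 n205831 = n204877 := d18_5 (iv1 F392726) F392723 D194298 F392728 D205831 F433985 (iv4 F436147) F393010 (iv5 F322389)
def n205832 : Q := act 6 n126651
theorem D205832 : act 6 n126651 = n205832 := rfl
theorem F438047 : act 2 n205832 = n126923 := d3_1 D205832 (iv6 D126923) (iv2 F359997)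
theorem F438048 : act 0 n205832 = n127059 := d21_4 (iv5 F204265) (iv1 F418120) (iv5 F418116) D205832 F357890 (iv5 D60281) (iv1 F94743) (iv5 F206081) F347132 (iv1 F218786)
theorem F438049 : act 5 n205832 = n180626 := d21_6 (iv5 F93220) D126000 (iv5 F354122) (iv6 D126931) (iv1 F203809) D205832 (iv1 D180626) D180627 F344733 (iv1 D115690)
def n205833 : Q := act 5 n126652
theorem D205833 : act 5 n126652 = n205833 := rfl
theorem F438050 : act 2 n205833 = n126653 := d2_1 D205833 (iv5 D126653) D126652
theorem F438051 : act 3 n205833 = n126957 := d6_1 D205833 (iv5 D126957) (iv3 F203806)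
theorem F438052 : act 6 n205833 = n132447 := d12_2 (iv6 F365698) D205833 F317031 D158209 (iv5 F365699)
theorem F438053 : act 7 n205833 = n126930 := d13_2 (iv7 F203807) D205833 (iv5 D126930)
theorem F438054 : act 0 n205833 = n126936 := d17_2 (iv1 F203808) D205833 (iv5 F333070) (iv4 F367013) (iv5 F382479) (iv0 D191126) D191128 (iv0 F382337) (iv4 D126921)
theorem F438055 : act 0 n126935 = n205833 := d21_10 (iv5 D205833) (iv1 F203810) D126927 (iv6 F355501) (iv1 D135288) (iv6 D63603) F315358 F201158 F312121 (iv6 F347130)
def n205834 : Q := act 4 n126653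
theorem D205834 : act 4 n126653 = n205834 := rfl
theorem F438056 : act 3 n205834 = n136040 := d5_1 D205834 (iv4 D136040) F99534 (iv4 F93802) (iv3 F203811)
theorem F438057 : act 6 n205834 = n131810 := d10_2 F347135 D205834 (iv4 F211209)
theorem F438058 : act 7 n205834 = n126937 := d11_2 (iv7 F203812) D205834 (iv4 D126937)
theorem F438059 : act 0 n205834 = n131906 := d18_2 (iv1 F333080) D205834 F211339 D132508 (iv4 F366244) (iv0 F183079) F100073 D64289 D136760
theorem F438060 : act 1 n205834 = n205545 := d18_6 F438017 F438013 (iv1 D128531) F95004 D126653 D205834 F436933 F212645 (iv5 F364107)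
def n205835 : Q := act 3 n126659
theorem D205835 : act 3 n126659 = n205835 := rfl
theorem F438061 : act 2 n205835 = n195922 := d0_1 D205835 (iv3 D195922) F359124 (iv3 F165426) D126659
theorem F438062 : act 5 n205835 = n200759 := d6_2 (iv5 F359086) D205835 (iv3 F417816)
theorem F438063 : act 7 n205835 = n126664 := d8_2 F203827 D205835 (iv3 D126664)
theorem F438064 : act 4 n205835 = n141175 := d20_6 F319926 F102767 (iv4 F45785) (iv3 F93807) (iv1 F359085) D205835 (iv1 D141175) F101822 F320657 (iv1 D62678)
theorem F438065 : act 6 n189180 = n205835 := d10_0 F438064 (iv6 F415402) F416723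
theorem F438066 : act 1 n199018 = n205835 := d18_6 (iv1 D188395) (iv4 F352254) F204656 D109194 (iv5 F171710) D199018 F438064 F224198 F373282
theorem F438067 : act 0 n126953 = n205835 := d20_10 F438064 (iv1 D141175) F101822 F320657 (iv1 D62678) (iv3 F97763) (iv4 F323477) D64826 F100667 D126953
def n205836 : Q := act 4 n126659
theorem D205836 : act 4 n126659 = n205836 := rfl
theorem F438068 : act 2 n205836 = n126660 := d1_1 D205836 (iv4 D126660) D126659
theorem F438069 : act 3 n205836 = n133991 := d5_1 D205836 F410457 F410456 (iv4 F438064) (iv3 D205835)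
theorem F438070 : act 7 n205836 = n126665 := d11_2 F203827 D205836 (iv4 D126665)
theorem F438071 : act 0 n205836 = n137801 := d18_2 (iv1 F359085) D205836 F221043 F362158 (iv4 D137192) (iv0 D64486) (iv4 F94022) F336110 (iv5 D126670)
theorem F438072 : act 1 n195418 = n126665 := d15_1 (iv0 F396950) (iv7 F438070) F438068
theorem F438073 : act 6 n143019 = n205836 := d3_0 F438068 F425126 F425119
theorem F438074 : act 5 n205836 = n197295 := d12_1 F438073 (iv6 D197295) F167384 F325038 D143019
def n205837 : Q := act 6 n126659
theorem D205837 : act 6 n126659 = n205837 := rfl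
theorem F438075 : act 2 n205837 = n126662 := d3_1 D205837 (iv6 D126662) D126659
theorem F438076 : act 3 n205837 = n189180 := d7_1 D205837 F438065 (iv3 D205835)
theorem F438077 : act 4 n205837 = n143019 := d10_1 D205837 F438073 (iv4 D205836)
theorem F438078 : act 5 n205837 = n198706 := d12_1 D205837 F408946 F345360 (iv6 F359081) (iv5 F359086)
theorem F438079 : act 0 n205837 = n126863 := d21_4 F321998 D129591 (iv5 F359086) D205837 F346330 F325004 (iv1 D64259) D64260 (iv6 F338738) (iv1 F219842)
theorem F438080 : act 0 n198874 = n205837 := d21_4 (iv5 F327818) F364588 (iv5 F318952) (iv6 F409694) (iv6 D205837) F359086 (iv1 F207767) F324993 D136704 F359090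
theorem F438081 : act 7 n205837 = n203653 := d15_2 F416650 (iv0 F438079) (iv2 F429252)
def n205838 : Q := act 5 n126660
theorem D205838 : act 5 n126660 = n205838 := rfl
theorem F438082 : act 2 n205838 = n197295 := d2_1 D205838 (iv5 F438074) F438068
theorem F438083 : act 6 n205838 = n197217 := d12_2 (iv6 F425126) D205838 F403587 (iv6 F366082) D202691
theorem F438084 : act 4 n205838 = n199215 := d16_2 D126660 D205838 F411189 F386874 (iv5 F386875) (iv4 D141792) (iv5 F359095) F203827 (iv2 D126659)
theorem F438085 : act 7 n199214 = n205838 := d11_0 F438084 (iv7 D199215) D199214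
def n205839 : Q := act 7 n126660
theorem D205839 : act 7 n126660 = n205839 := rfl
theorem F438086 : act 2 n205839 = n126665 := d4_1 D205839 (iv7 F438070) F438068
theorem F438087 : act 3 n205839 = n195929 := d8_1 D205839 F401612 F401610
theorem F438088 : act 4 n205839 = n126663 := d11_1 D205839 (iv7 D126663) D126660
theorem F438089 : act 5 n205839 = n199214 := d13_1 D205839 F438085 (iv5 D205838)
theorem F438090 : act 0 n137801 = n205839 := d20_10 F438088 F359106 (iv4 F162000) F161999 F76906 D67033 F103024 F100626 F100625 D137801
def n205840 : Q := act 0 n126664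
theorem D205840 : act 0 n126664 = n205840 := rfl
theorem F438091 : act 4 n205840 = n126873 := d18_1 D205840 (iv1 F204113) (iv4 F203734) F345628 F345627 F203748 D200757 (iv0 F417804) F359167
theorem F438092 : act 6 n205840 = n199359 := d21_5 F241912 (iv1 F353865) (iv5 F353863) (iv6 F359168) D205840 F411844 (iv1 D153913) D153914 F241895 D153919
theorem F438093 : act 2 n126953 = n205840 := d15_3 (iv0 D205840) F401935 F220438
theorem F438094 : act 1 n195922 = n205840 := d15_0 (iv0 D205840) (iv7 F438063) F438061
theorem F438095 : act 7 n205840 = n199018 := d15_2 (iv0 F398741) F438094 F410342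
theorem F438096 : act 3 n126975 = n205840 := d20_3 (iv4 F224899) F400197 F400196 (iv1 F438094) (iv3 D195922) (iv4 D106434) (iv1 F78341) D107370 (iv3 F204069) (iv1 F216735)
def n205841 : Q := act 5 n126665
theorem D205841 : act 5 n126665 = n205841 := rfl
theorem F438097 : act 2 n205841 = n199214 := d2_1 D205841 (iv5 F438089) F438086
theorem F438098 : act 4 n205841 = n199192 := d9_1 D205841 (iv5 D199192) (iv4 F411103) (iv5 F411104) (iv4 D141797) (iv5 F359100) D126660 D205838 F438084 F411189 F386874 (iv5 F386875) (iv4 D141792) (iv5 F359095) D126665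
theorem F438099 : act 7 n205841 = n197295 := d13_2 F438070 D205841 (iv5 F438074)
def n205842 : Q := act 6 n126665
theorem D205842 : act 6 n126665 = n205842 := rfl
theorem F438100 : act 4 n205842 = n126667 := d10_1 D205842 (iv6 D126667) D126665
theorem F438101 : act 3 n144443 = n205842 := d20_5 (iv4 F165269) (iv1 F165272) (iv4 F166500) D195451 (iv1 F397024) F438100 F438039 F438034 (iv3 D196719) (iv1 F165291)
theorem F438102 : act 0 n205842 = n172030 := d20_7 (iv4 F325120) F325117 (iv4 D79814) (iv3 F122538) D166216 (iv3 F359092) (iv4 F438100) (iv4 D172030) F126901 D82400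
theorem F438103 : act 6 n195411 = n144443 := d7_0 F438101 (iv6 D205842) (iv3 F396928)
def n205843 : Q := act 1 n126667
theorem D205843 : act 1 n126667 = n205843 := rfl
theorem F438104 : act 7 n205843 = n161353 := d15_2 (iv0 F438039) D205843 (iv2 F438033)
theorem F438105 : act 5 n205843 = n128169 := d17_7 (iv1 F196230) (iv5 F241672) (iv1 F430907) (iv5 F430909) F239223 (iv5 F359093) D205843 (iv0 F430896) (iv4 D204049)
theorem F438106 : act 3 n126997 = n205843 := d20_9 (iv4 F438100) F438102 (iv4 D172030) F126901 D82400 (iv3 F316633) F323254 F320646 (iv4 F321583) (iv1 D205843)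
theorem F438107 : act 2 n205843 = n126911 := d0_1 F438106 (iv3 D126911) F166141 (iv3 F324665) F324664
theorem F438108 : act 6 n205843 = n155884 := d7_2 (iv6 F321549) F438106 (iv3 D155884)
def n205844 : Q := act 7 n126667
theorem D205844 : act 7 n126667 = n205844 := rfl
theorem F438109 : act 3 n205844 = n149279 := d8_1 D205844 (iv7 F264134) (iv3 F359092)
theorem F438110 : act 5 n205844 = n152163 := d13_1 D205844 (iv7 D152163) (iv5 F359093)
theorem F438111 : act 6 n205844 = n203653 := d14_1 D205844 (iv7 F438081) (iv6 D205837) (iv7 F203827) D126667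
theorem F438112 : act 1 n126911 = n205844 := d15_1 F383588 (iv7 D205844) F359091
theorem F438113 : act 1 n205844 = n161353 := d15_1 F438112 (iv7 F438104) F438107
def n205845 : Q := act 6 n126673
theorem D205845 : act 6 n126673 = n205845 := rfl
theorem F438114 : act 2 n205845 = n132626 := d3_1 D205845 F362702 F362697
theorem F438115 : act 3 n205845 = n138032 := d7_1 D205845 (iv6 D138032) (iv3 F203839)
theorem F438116 : act 4 n205845 = n126674 := d10_1 D205845 (iv6 D126674) D126673
theorem F438117 : act 7 n205845 = n134366 := d14_2 (iv7 F203840) D205845 F363252 (iv7 F341229) (iv6 D138023)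
theorem F438118 : act 0 n205845 = n130215 := d21_4 (iv5 F410477) (iv1 F410475) F357364 D205845 (iv6 D130215) D130214 F342776 F328725 (iv6 F102209) D141324
theorem F438119 : act 1 n205845 = n134369 := d15_1 (iv0 F438118) (iv7 D134369) (iv2 F208739)
def n205846 : Q := act 4 n126676
theorem D205846 : act 4 n126676 = n205846 := rfl
theorem F438120 : act 3 n205846 = n135968 := d5_1 D205846 (iv4 D135968) F99446 (iv4 F93815) D126676
theorem F438121 : act 6 n205846 = n132122 := d10_2 F347128 D205846 (iv4 F217754)
theorem F438122 : act 7 n205846 = n127026 := d11_2 (iv7 F203844) D205846 (iv4 D127026)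
theorem F438123 : act 0 n205846 = n204879 := d18_2 F418119 D205846 F433993 F323655 F321152 (iv0 F102641) F95004 D126651 F418116
def n205847 : Q := act 3 n126685
theorem D205847 : act 3 n126685 = n205847 := rfl
theorem F438124 : act 2 n205847 = n200103 := d0_1 D205847 (iv3 D200103) F182534 D196569 (iv2 F401107)
theorem F438125 : act 4 n205847 = n194386 := d5_2 F350868 D205847 (iv3 D194386) (iv4 F367017) (iv3 F350866)
theorem F438126 : act 5 n205847 = n202299 := d6_2 F359763 D205847 (iv3 D202299)
theorem F438127 : act 0 n205847 = n144078 := d20_10 (iv4 D144078) (iv1 F182867) F182865 (iv3 F400905) (iv1 F400915) D202020 (iv4 F423875) F423873 F350868 D205847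
theorem F438128 : act 0 n139633 = n205847 := d20_4 (iv4 D116012) D116010 F180631 D139633 (iv3 D205847) (iv4 F350868) (iv1 F359757) (iv4 F422747) (iv3 F422748) F180748
theorem E103910 : n202328 = n202299 := (c17_1 D202328 (iv5 F438126) F438127 F404253 F416361 F416360 F226827 (iv5 F423241) F423242 (iv4 F219380))
theorem F438129 : act 1 n202299 = n115619 := (sb E103910 (iv0 D202328))
def n205848 : Q := act 6 n126685
theorem D205848 : act 6 n126685 = n205848 := rfl
theorem F438130 : act 7 n205848 = n202382 := d14_2 F406355 D205848 (iv6 D202382) (iv7 F422505) F422502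
theorem F438131 : act 0 n205848 = n197291 := d21_4 F330520 D115559 F359763 D205848 (iv6 D197291) F167100 (iv1 F355488) (iv5 D156186) F351322 (iv1 F179499)
theorem F438132 : act 0 n203555 = n205848 := d21_4 D202319 (iv1 F426863) F426861 D203555 (iv6 D205848) (iv5 F359763) F359762 (iv5 D53318) D53319 D115595
def n205849 : Q := act 6 n126686
theorem D205849 : act 6 n126686 = n205849 := rfl
theorem F438133 : act 2 n205849 = n126687 := d3_1 D205849 (iv6 D126687) D126686
theorem F438134 : act 3 n205849 = n189175 := d7_1 D205849 F375955 F330605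
theorem F438135 : act 4 n205849 = n126736 := d10_1 D205849 (iv6 D126736) (iv4 F203869)
theorem F438136 : act 7 n205849 = n193127 := d14_2 F357040 D205849 F388833 F357071 D115706
theorem F438137 : act 0 n205849 = n194241 := d21_4 D115577 (iv1 F422494) F422492 D205849 (iv6 F428902) F428904 (iv1 D202324) (iv5 D115597) (iv6 D53319) D53314
theorem F438138 : act 0 n202397 = n205849 := d21_4 (iv5 F429016) (iv1 D203589) (iv5 F409513) D202397 (iv6 D205849) (iv5 F422492) (iv1 F422495) (iv5 D115582) D115583 F354528
def n205850 : Q := act 5 n126687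
theorem D205850 : act 5 n126687 = n205850 := rfl
theorem F438139 : act 3 n205850 = n126688 := d6_1 D205850 (iv5 D126688) (iv3 F203870)
theorem F438140 : act 7 n205850 = n202405 := d13_2 (iv7 F357056) D205850 (iv5 D202405)
theorem F438141 : act 0 n205850 = n203655 := d17_2 F365113 D205850 (iv5 D203655) (iv4 D120069) D120070 F354182 (iv5 F107547) F349911 D155858
theorem F438142 : act 1 n205850 = n202001 := d17_6 F376003 F349887 F349889 (iv5 D126743) (iv4 F203871) D205850 (iv5 D202001) D202000 (iv4 F422681)
def n205851 : Q := act 4 n126688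
theorem D205851 : act 4 n126688 = n205851 := rfl
theorem F438143 : act 0 n205851 = n202096 := d18_2 F245435 D205851 (iv4 D202096) F201768 (iv4 F172049) (iv0 F172051) F82419 (iv0 F162013) D156165
theorem F438144 : act 1 n205851 = n202099 := d18_6 (iv1 F165015) F165010 (iv1 D59440) (iv4 F93825) D126688 D205851 (iv4 D202099) F400998 F400997
def n205852 : Q := act 4 n126692
theorem D205852 : act 4 n126692 = n205852 := rfl
theorem F438145 : act 2 n205852 = n196274 := d1_1 D205852 F400154 F220876
theorem F438146 : act 5 n205852 = n199618 := d9_2 (iv5 F203887) D205852 (iv4 D199618) (iv5 D111511) (iv4 F82693) D113342 (iv4 F219143) F220880 (iv4 F223470) (iv5 F412061) (iv4 D199412) (iv5 D111310) F81021 D59175 D126229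
theorem F438147 : act 1 n205852 = n202449 := d18_6 F345760 F138496 F349668 D126229 (iv5 F203887) D205852 F424052 F389487 (iv5 F225943)
def n205853 : Q := act 6 n126692
theorem D205853 : act 6 n126692 = n205853 := rfl
theorem F438148 : act 0 n136812 = n205853 := d21_4 F355540 (iv1 F314963) D202991 (iv6 F426544) (iv6 D205853) F203887 (iv1 F203003) (iv5 D64720) D64721 (iv1 F329314)
def n205854 : Q := act 3 n126693
theorem D205854 : act 3 n126693 = n205854 := rfl
theorem F438149 : act 5 n205854 = n194040 := d6_2 F220880 D205854 (iv3 F391844)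
theorem F438150 : act 0 n136786 = n205854 := d20_4 (iv4 F422268) F422270 (iv4 D136787) D136786 (iv3 D205854) (iv4 F223470) F424054 F424052 (iv3 F400887) (iv1 F365675)
theorem F438151 : act 1 n202528 = n205854 := d15_0 (iv0 F438150) F350337 (iv2 F424387)
def n205855 : Q := act 6 n126693
theorem D205855 : act 6 n126693 = n205855 := rfl
theorem F438152 : act 0 n205855 = n136836 := d21_4 D64720 (iv1 F219141) F220880 D205855 F220035 (iv5 F218649) (iv1 F393996) (iv5 F393998) F338932 (iv1 F99597)
theorem F438153 : act 0 n189601 = n205855 := d21_4 F291805 F137963 D94124 D189601 (iv6 D205855) (iv5 F220880) (iv1 D136124) (iv5 D64015) F328557 D97036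
def n205856 : Q := act 6 n126694
theorem D205856 : act 6 n126694 = n205856 := rfl
theorem F438154 : act 2 n205856 = n126695 := d3_1 D205856 (iv6 D126695) D126694
theorem F438155 : act 4 n205856 = n193325 := d10_1 D205856 (iv6 F405439) F405438
theorem F438156 : act 0 n205856 = n190912 := d21_4 F176456 (iv1 F176464) (iv5 F203888) D205856 (iv6 D190912) (iv5 D97029) (iv1 D45358) D45360 (iv6 F328557) D64012
theorem F438157 : act 0 n154590 = n205856 := d21_4 (iv5 F351598) (iv1 D73277) D73278 (iv6 F242659) (iv6 D205856) F203888 (iv1 F219117) (iv5 D136120) F338926 (iv1 F351596)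
theorem F438158 : act 7 n205856 = n194725 := d15_2 (iv0 F424277) (iv0 F438156) (iv2 F424285)
def n205857 : Q := act 5 n126695
theorem D205857 : act 5 n126695 = n205857 := rfl
theorem F438159 : act 3 n205857 = n126696 := d6_1 D205857 (iv5 D126696) (iv3 F203889)
theorem F438160 : act 6 n205857 = n138067 := d12_2 D126695 D205857 (iv5 D138067) (iv6 D64880) (iv5 F93833)
theorem F438161 : act 0 n205857 = n193840 := d18_0 F391157 F310887 (iv4 F242556) (iv5 F357264) (iv4 F375248) F394264 F394261 (iv0 F365464) D205857
def n205858 : Q := act 4 n126696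
theorem D205858 : act 4 n126696 = n205858 := rfl
theorem F438162 : act 6 n205858 = n138081 := d10_2 (iv6 F203890) D205858 (iv4 D138081)
def n205859 : Q := act 6 n126697
theorem D205859 : act 6 n126697 = n205859 := rfl
theorem F438163 : act 2 n205859 = n199148 := d3_1 D205859 (iv6 D199148) F203893
theorem F438164 : act 3 n205859 = n197345 := d7_1 D205859 (iv6 D197345) (iv3 F203892)
theorem F438165 : act 4 n205859 = n156156 := d10_1 D205859 (iv6 D156156) (iv4 F203891)
theorem F438166 : act 7 n205859 = n126820 := d14_2 (iv7 F203894) D205859 (iv6 D126820) (iv7 F179869) F179868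
theorem F438167 : act 0 n205859 = n127069 := d21_4 (iv5 F98679) D134843 F217022 D205859 (iv6 D127069) D127068 F226983 (iv5 D144286) (iv6 D67597) (iv1 F111378)
theorem F438168 : act 5 n205859 = n131863 := d21_6 (iv5 D49649) F37936 D28232 (iv6 F93838) D126697 D205859 (iv1 D131863) F96458 (iv6 D49918) (iv1 F78416)
theorem F438169 : act 0 n205599 = n205859 := d21_4 F85071 D106193 D195681 (iv6 F437164) (iv6 D205859) (iv5 F217022) (iv1 F217025) F201776 (iv6 F168795) (iv1 F168796)
def n205860 : Q := act 4 n126699
theorem D205860 : act 4 n126699 = n205860 := rfl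
theorem F438170 : act 3 n205860 = n205482 := d5_1 D205860 F436627 F386485 D145333 F228380
def n205861 : Q := act 4 n126700
theorem D205861 : act 4 n126700 = n205861 := rfl
theorem F438171 : act 3 n205861 = n139394 := d5_1 D205861 F364961 F286187 (iv4 F286290) F331750
theorem F438172 : act 6 n205861 = n136769 := d10_2 (iv6 F331749) D205861 (iv4 D136769)
def n205862 : Q := act 6 n126701
theorem D205862 : act 6 n126701 = n205862 := rfl
theorem F438173 : act 2 n205862 = n126703 := d3_1 D205862 (iv6 D126703) D126701
theorem F438174 : act 3 n205862 = n127762 := d7_1 D205862 F319958 (iv3 F321997)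
theorem F438175 : act 5 n205862 = n201188 := d12_1 D205862 (iv6 F419372) F208127 F207477 (iv5 F321998)
def n205863 : Q := act 4 n126702
theorem D205863 : act 4 n126702 = n205863 := rfl
theorem F438176 : act 2 n205863 = n129594 := d1_1 D205863 (iv4 D129594) (iv2 F325878)
theorem F438177 : act 3 n205863 = n136827 := d5_1 D205863 (iv4 D136827) F100286 (iv4 F93841) (iv3 F203903)
theorem F438178 : act 7 n205863 = n141326 := d11_2 (iv7 F325879) D205863 F224340
theorem F438179 : act 5 n205863 = n138113 := d17_5 (iv1 F336110) (iv5 F331748) (iv1 D126700) D126702 D205863 (iv0 D138113) (iv5 D64892) D64891 (iv4 F362700)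
theorem F438180 : act 0 n205863 = n141325 := d17_0 (iv5 F410452) F410453 (iv5 F360527) F360526 (iv5 F203824) (iv0 D126658) F359100 (iv0 F325876) D205863
theorem F438181 : act 1 n205863 = n141324 := d18_8 (iv1 F410475) (iv4 F401455) (iv1 F401458) (iv4 F411103) (iv5 F411104) (iv4 D141797) (iv0 F325876) D205863 (iv5 F410477)
theorem F438182 : act 6 n205863 = n195612 := d21_5 (iv5 F98830) (iv1 F217348) F217349 (iv6 F342777) (iv1 F438181) (iv5 D195612) (iv1 F304382) F338403 (iv6 F338404) F97269
def n205864 : Q := act 6 n126702
theorem D205864 : act 6 n126702 = n205864 := rfl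
theorem F438183 : act 2 n205864 = n129268 := d3_1 D205864 F207477 (iv2 F325878)
theorem F438184 : act 3 n205864 = n126704 := d7_1 D205864 (iv6 D126704) (iv3 F203903)
theorem F438185 : act 4 n205864 = n195612 := d10_1 D205864 (iv6 F438182) (iv4 D205863)
theorem F438186 : act 7 n205864 = n129256 := d14_2 (iv7 F325879) D205864 (iv6 D129256) (iv7 F95855) (iv6 F102368)
theorem F438187 : act 0 n205864 = n129266 := d21_4 (iv5 F331748) (iv1 D126700) D126702 D205864 F352076 (iv5 F370560) F370562 F320874 (iv6 F323652) (iv1 F336110)
theorem F438188 : act 0 n129265 = n205864 := d21_4 F304776 (iv1 F108313) D152306 (iv6 F338705) (iv6 D205864) (iv5 D126702) D126699 F336106 (iv6 F336107) (iv1 D63664)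
def n205865 : Q := act 0 n126703
theorem D205865 : act 0 n126703 = n205865 := rfl
theorem F438189 : act 5 n205865 = n152493 := d17_3 (iv1 F403206) F403210 D205865 F239674 F108436 D92456 (iv5 F142250) F142383 D188567
theorem F438190 : act 6 n205865 = n155918 := d21_5 F359095 (iv1 F325877) (iv5 D126702) D126703 D205865 (iv5 F337698) (iv1 D121079) D121082 F353957 (iv1 F203826)
def n205866 : Q := act 1 n126703
theorem D205866 : act 1 n126703 = n205866 := rfl
theorem F438191 : act 5 n205866 = n188566 := d17_7 F382256 (iv5 D189288) F373957 (iv5 F373958) (iv4 F403208) F403210 D205866 F429195 F429192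
def n205867 : Q := act 7 n126703
theorem D205867 : act 7 n126703 = n205867 := rfl
theorem F438192 : act 3 n205867 = n126708 := d8_1 D205867 (iv7 D126708) (iv3 F203904)
theorem F438193 : act 5 n205867 = n152183 := d13_1 D205867 (iv7 F403207) F403210
def n205868 : Q := act 3 n126705
theorem D205868 : act 3 n126705 = n205868 := rfl
theorem F438194 : act 2 n205868 = n193505 := d0_1 D205868 (iv3 F422848) (iv2 F347142) (iv3 D144346) F203908
theorem F438195 : act 4 n205868 = n193501 := d5_2 (iv4 F203907) D205868 F390093 (iv4 D109582) (iv3 F169533)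
theorem F438196 : act 5 n205868 = n176272 := d6_2 F350981 D205868 (iv3 F361686)
theorem F438197 : act 6 n205868 = n193499 := d7_2 (iv6 F338805) D205868 F390084
theorem F438198 : act 7 n205868 = n144349 := d8_2 F203909 D205868 (iv3 D144349)
theorem F438199 : act 0 n137107 = n205868 := d21_4 D126957 (iv1 F204210) (iv5 F139279) D137107 F438197 F390085 (iv1 F436439) F436436 (iv6 D137299) (iv1 F100471)
def n205869 : Q := act 4 n126711
theorem D205869 : act 4 n126711 = n205869 := rfl
theorem F438200 : act 2 n205869 = n140515 := d1_1 D205869 F223666 F367024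
theorem F438201 : act 3 n205869 = n140542 := d20_3 (iv4 F93854) D126711 D205869 (iv1 D140542) (iv3 D65961) D65962 (iv1 F322068) (iv4 F322668) F182464 (iv1 D65927)
theorem F438202 : act 0 n140360 = n205869 := d20_10 (iv4 D205869) (iv1 F219938) F219936 F180084 (iv1 F180057) (iv3 F375059) F375060 (iv1 F357568) (iv4 D140361) D140360
def n205870 : Q := act 5 n126711
theorem D205870 : act 5 n126711 = n205870 := rfl
theorem F438203 : act 3 n205870 = n126750 := d6_1 D205870 F389759 (iv3 F389758)
theorem F438204 : act 7 n205870 = n126740 := d13_2 (iv7 F367023) D205870 (iv5 F347031)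
theorem F438205 : act 0 n126745 = n205870 := d21_10 (iv5 D205870) (iv1 F219938) (iv5 F361154) (iv6 D133516) (iv1 F214708) F414960 F414958 (iv1 F363224) (iv5 F351650) (iv6 F351686)
def n205871 : Q := act 5 n126712
theorem D205871 : act 5 n126712 = n205871 := rfl
theorem F438206 : act 2 n205871 = n126740 := d2_1 D205871 (iv5 F347031) (iv2 F367021)
theorem F438207 : act 3 n205871 = n194383 := d6_1 D205871 (iv5 D194383) (iv3 F367015)
theorem F438208 : act 6 n205871 = n126735 := d12_2 F367016 D205871 (iv5 D126735) D126736 (iv5 F364581)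
theorem F438209 : act 0 n205871 = n126745 := d17_2 (iv1 F219940) D205871 F203970 F93939 (iv5 F79761) D109201 F354184 F180088 (iv4 F219936)
def n205872 : Q := act 6 n126713
theorem D205872 : act 6 n126713 = n205872 := rfl
theorem F438210 : act 2 n205872 = n126715 := d3_1 D205872 (iv6 D126715) D126713
theorem F438211 : act 3 n205872 = n174603 := d7_1 D205872 F346549 F346546
theorem F438212 : act 4 n205872 = n140464 := d10_1 D205872 (iv6 D140464) (iv4 F203929)
theorem F438213 : act 7 n205872 = n154972 := d14_2 F219937 D205872 (iv6 D154972) (iv7 F187994) F330965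
def n205873 : Q := act 0 n126714
theorem D205873 : act 0 n126714 = n205873 := rfl
theorem F438214 : act 1 n133516 = n205873 := d15_0 (iv0 D205873) (iv7 F204089) F330967
theorem F438215 : act 5 n205873 = n134718 := d17_7 D63317 D134734 (iv1 F424021) (iv5 D202443) (iv4 F219936) (iv5 F361154) F438214 (iv0 D134718) F98526
theorem F438216 : act 6 n203880 = n205873 := d21_3 (iv5 D121196) D121193 D203880 (iv1 F438214) (iv6 D133516) (iv5 F315305) F315304 (iv5 D61149) D61150 (iv1 F334295)
def n205874 : Q := act 1 n126714
theorem D205874 : act 1 n126714 = n205874 := rfl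
theorem F438217 : act 1 n205874 = n133516 := d15_1 D205874 (iv7 F362002) F362001
theorem F438218 : act 5 n205874 = n134719 := d17_7 (iv1 F101520) D134736 F354216 (iv5 D65929) (iv4 F93854) D126714 D205874 F216735 F204070
theorem F438219 : act 3 n132299 = n205874 := d6_3 F438218 F366372 (iv5 F337779)
theorem F438220 : act 6 n205874 = n132297 := d21_3 F436574 (iv1 F216735) (iv5 F438218) (iv1 F213500) (iv6 F347270) (iv5 D126733) (iv1 D59463) D59465 D126740 F436575
def n205875 : Q := act 6 n126714
theorem D205875 : act 6 n126714 = n205875 := rfl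
theorem F438221 : act 3 n205875 = n126716 := d7_1 D205875 (iv6 D126716) (iv3 F203930)
def n205876 : Q := act 0 n126715
theorem D205876 : act 0 n126715 = n205876 := rfl
theorem F438222 : act 6 n205876 = n197210 := d21_5 (iv5 F438218) (iv1 D205874) (iv5 D126714) D126715 D205876 (iv5 D197210) F202618 D205431 (iv6 F436391) (iv1 F216735)
theorem F438223 : act 1 n154972 = n205876 := d15_0 (iv0 D205876) (iv7 F428675) F428672
theorem F438224 : act 5 n205876 = n197209 := d17_7 (iv1 D109899) D109900 D198722 F408989 (iv4 F429927) F429928 F438223 (iv0 F408916) (iv4 F358574)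
def n205877 : Q := act 1 n126715
theorem D205877 : act 1 n126715 = n205877 := rfl
theorem F438225 : act 1 n205877 = n154972 := d15_1 D205877 (iv7 F438213) F438210
def n205878 : Q := act 5 n126715
theorem D205878 : act 5 n126715 = n205878 := rfl
theorem F438226 : act 3 n205878 = n126717 := d6_1 D205878 (iv5 D126717) (iv3 F203931)
theorem F438227 : act 7 n205878 = n203809 := d13_2 F428675 D205878 F429910
theorem F438228 : act 1 n205878 = n204389 := d17_8 (iv1 F379100) (iv5 F379132) F436739 (iv5 D205503) (iv4 F403548) (iv5 F438224) (iv0 D205876) D205878 F432353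
theorem F438229 : act 4 n205878 = n190842 := d18_5 F436433 F436430 (iv1 D140470) (iv4 F203932) D205878 (iv0 D190842) (iv4 F347828) F347826 D154612
theorem E103911 : n204473 = n204390 := (c19_16 (iv1 F438228) (iv5 D205878) F203932 F101628 D65932 D140478 F336735 (iv3 F246273) F246276 F161157 (iv4 F104292) D145320 F400248 D196567 F401099 D204473 (iv1 D204390) (iv5 D123718) D123717 D204389)
theorem F438230 : act 3 n204390 = n123856 := (sb E103911 (iv3 D204473))
def n205879 : Q := act 0 n126716
theorem D205879 : act 0 n126716 = n205879 := rfl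
theorem F438231 : act 4 n205879 = n136832 := d20_2 (iv4 F203933) D205879 F364103 F399446 F374946 F143164 (iv1 F68277) (iv4 F139212) F352098 (iv1 D137394)
theorem F438232 : act 6 n205879 = n164290 := d21_5 (iv5 D28239) D28236 D59457 D126716 D205879 (iv5 F416518) (iv1 D200459) F176266 (iv6 D106400) F77624
theorem F438233 : act 5 n202710 = n205879 := d12_5 F438232 (iv5 F416518) (iv6 F416520) (iv5 F346402) D202710
theorem F438234 : act 0 n205879 = n133533 := d21_7 (iv5 F134977) (iv1 D87976) D87977 (iv6 F321609) F205312 D202710 F438233 (iv5 F347096) (iv6 D120680) (iv1 F87997)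
def n205880 : Q := act 5 n126716
theorem D205880 : act 5 n126716 = n205880 := rfl
theorem F438235 : act 2 n205880 = n203808 := d2_1 D205880 F429905 F204094
theorem F438236 : act 6 n205880 = n126717 := d12_2 D126716 D205880 (iv5 D126717) (iv6 D59458) D59457
theorem F438237 : act 1 n205880 = n202721 := d17_8 F361076 F302807 (iv1 F309777) (iv5 F315549) (iv4 F425228) F438233 (iv0 D205879) D205880 F425279
theorem F438238 : act 4 n205880 = n149262 := d18_5 (iv1 F352080) F352099 (iv1 D137394) (iv4 F203933) D205880 F361084 F340128 (iv0 F338598) F216546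
theorem F438239 : act 0 n205880 = n130223 := d18_0 F340114 (iv1 D120674) (iv4 F192373) F314429 (iv4 F209291) F326705 (iv4 F438231) (iv0 D205879) D205880
theorem F438240 : act 7 n205880 = n149259 := d15_2 (iv0 F334172) (iv0 F438239) F234648
def n205881 : Q := act 7 n126716
theorem D205881 : act 7 n126716 = n205881 := rfl
theorem F438241 : act 2 n205881 = n133533 := d4_1 D205881 F347092 F204094
theorem F438242 : act 4 n205881 = n137396 := d11_1 D205881 (iv7 D137396) (iv4 F203933)
theorem F438243 : act 5 n205881 = n149259 := d13_1 D205881 (iv7 F438240) (iv5 D205880)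
theorem F438244 : act 6 n205881 = n133531 := d14_1 D205881 (iv7 F330929) (iv6 D126847) (iv7 F93947) D126716
def n205882 : Q := act 4 n126717
theorem D205882 : act 4 n126717 = n205882 := rfl
theorem F438245 : act 2 n205882 = n170463 := d1_1 D205882 F344131 F219921
theorem F438246 : act 6 n205882 = n149262 := d10_2 F438236 D205882 (iv4 F438238)
theorem F438247 : act 7 n205882 = n131362 := d11_2 F362040 D205882 (iv4 F210573)
theorem F438248 : act 5 n205882 = n131363 := d16_1 D205882 (iv4 F213643) F351646 (iv4 F175455) (iv5 F100091) (iv4 F219923) (iv5 F346273) (iv7 F346275) F219921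
theorem F438249 : act 0 n205882 = n149582 := d18_2 (iv1 F203934) D205882 (iv4 F337161) F227086 (iv4 F167734) F167737 (iv4 F166311) (iv0 D107677) D107679
theorem F438250 : act 1 n205882 = n140719 := d18_6 (iv1 F203919) F103654 (iv1 D64247) (iv4 F93858) D126717 D205882 F337167 F331701 (iv5 F331702)
theorem F438251 : act 3 n205882 = n131397 := d20_3 (iv4 F331696) (iv1 F203934) D205882 (iv1 F210610) (iv3 F324170) F313560 (iv1 F50172) (iv4 F311231) (iv3 F55671) F322307
def n205883 : Q := act 6 n126727
theorem D205883 : act 6 n126727 = n205883 := rfl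
theorem F438252 : act 2 n205883 = n136902 := d3_1 D205883 (iv6 D136902) F203947
theorem F438253 : act 3 n205883 = n126730 := d7_1 D205883 (iv6 D126730) D126727
theorem F438254 : act 4 n205883 = n136001 := d10_1 D205883 (iv6 D136001) (iv4 F203946)
theorem F438255 : act 5 n205883 = n175842 := d12_1 D205883 (iv6 D175842) (iv5 F319800) F325870 (iv5 F325869)
theorem F438256 : act 7 n205883 = n201571 := d14_2 F203948 D205883 F420966 (iv7 F337533) (iv6 D136915)
theorem F438257 : act 0 n205883 = n201575 := d21_4 (iv5 D62675) D62673 (iv5 F325869) D205883 (iv6 F420984) (iv5 D177597) (iv1 F129771) D84602 (iv6 F345846) F323472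
theorem F438258 : act 0 n201574 = n205883 := d21_4 F349930 F324545 (iv5 F277110) (iv6 F420978) (iv6 D205883) F325869 F324789 (iv5 F204415) F360708 (iv1 F360710)
def n205884 : Q := act 1 n126728
theorem D205884 : act 1 n126728 = n205884 := rfl
theorem F438259 : act 1 n205884 = n126732 := d15_1 D205884 F203958 (iv2 F203954)
theorem F438260 : act 7 n205884 = n202020 := d15_2 (iv0 F223106) D205884 F422724
theorem F438261 : act 3 n196511 = n205884 := d19_19 (iv1 D205884) F423277 (iv4 F423547) (iv3 F423549) F386817 D199205 F411161 F417816 (iv1 F417808) (iv5 F348508) (iv4 F354174) (iv3 F357509) (iv1 D100993) (iv5 F294249) (iv4 F371957) (iv3 F404976) (iv1 F404979) (iv5 F424001) F424003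
theorem F438262 : act 2 n205884 = n202029 := d0_1 F438261 (iv3 F422748) F180182 (iv3 F179621) F400911
def n205885 : Q := act 3 n126728
theorem D205885 : act 3 n126728 = n205885 := rfl
theorem F438263 : act 2 n205885 = n201895 := d0_1 D205885 (iv3 D201895) F203962 D115337 (iv2 F203954)
theorem F438264 : act 4 n205885 = n134895 := d5_2 D126728 D205885 F327701 (iv4 F203946) (iv3 D126727)
theorem F438265 : act 7 n205885 = n136911 := d8_2 F437991 D205885 (iv3 F437990)
theorem F438266 : act 0 n205885 = n202003 := d20_4 F93824 D59462 D126728 D205885 (iv3 D202003) D202004 (iv1 F422691) (iv4 F438125) (iv3 D205847) (iv1 D126685)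
theorem F438267 : act 0 n202040 = n205885 := d20_4 (iv4 F412751) F423294 (iv4 F423291) F423292 (iv3 D205885) (iv4 D126728) (iv1 F203716) F357037 F357039 (iv1 F330593)
def n205886 : Q := act 5 n126730
theorem D205886 : act 5 n126730 = n205886 := rfl
theorem F438268 : act 3 n205886 = n175842 := d6_1 D205886 (iv5 F438255) F438253
theorem F438269 : act 6 n205886 = n175322 := d12_2 D126730 D205886 (iv5 F362053) F203956 (iv5 D126729)
theorem F438270 : act 7 n205886 = n201569 := d13_2 F422843 D205886 (iv5 F422846)
theorem F438271 : act 0 n205886 = n204446 := d18_0 (iv4 D204446) (iv1 D123819) (iv4 F198195) (iv5 F360259) F415295 F422517 F422515 F365199 D205886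
theorem F438272 : act 0 n197122 = n205886 := d21_10 (iv5 D205886) (iv1 F365199) (iv5 D147379) (iv6 D69091) D69087 D147365 (iv5 F427722) (iv1 F427724) (iv5 F403139) (iv6 F403143)
def n205887 : Q := act 2 n126731
theorem D205887 : act 2 n126731 = n205887 := rfl
theorem F438273 : act 3 n205887 = n133264 := d0_2 D126731 D205887 F325513 (iv3 F203711) F203951
theorem F438274 : act 7 n205887 = n136901 := d4_2 F438002 D205887 (iv2 F438000)
theorem F438275 : act 5 n133258 = n205887 := d13_3 F438274 (iv5 F374852) F374854
theorem F438276 : act 6 n175101 = n205887 := d14_5 F438274 F419366 (iv7 D201187) (iv6 F419355) F419356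
theorem F438277 : act 1 n126749 = n205887 := d15_1 (iv0 F438003) F438274 (iv2 F438000)
theorem F438278 : act 4 n205887 = n195359 := d10_1 F438276 F404356 F397048
def n205888 : Q := act 4 n126731
theorem D205888 : act 4 n126731 = n205888 := rfl
theorem F438279 : act 2 n205888 = n195359 := d1_1 D205888 (iv4 F438278) (iv2 D205887)
theorem F438280 : act 3 n205888 = n201894 := d5_1 D205888 (iv4 D201894) F203959 (iv4 D126732) D126731
theorem F438281 : act 7 n205888 = n202032 := d11_2 F438002 D205888 (iv4 F438001)
theorem F438282 : act 0 n205888 = n205861 := d18_2 (iv1 F437982) D205888 (iv4 D205861) F331748 F94022 D64487 D137197 F362713 F389759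
theorem F438283 : act 0 n205860 = n205888 := d20_10 (iv4 D205888) F437981 F437980 F227186 F404250 (iv3 D196594) (iv4 F172016) (iv1 F386484) (iv4 F436627) (iv3 F438170)
theorem F438284 : act 6 n196720 = n205888 := d3_0 F438279 F404356 (iv2 F401592)
def n205889 : Q := act 5 n126731
theorem D205889 : act 5 n126731 = n205889 := rfl
theorem F438285 : act 2 n205889 = n133258 := d2_1 D205889 F438275 (iv2 D205887)
theorem F438286 : act 3 n205889 = n126733 := d6_1 D205889 (iv5 D126733) D126731
theorem F438287 : act 4 n205889 = n137410 := d18_5 D126699 D205860 F438283 (iv4 D205888) D205889 F364963 (iv4 D141797) (iv0 F325876) (iv5 D126702)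
theorem F438288 : act 6 n205889 = n133256 := d21_9 F327912 (iv1 F321373) F321374 (iv6 F347087) (iv1 F389774) F389771 F389759 (iv1 F437982) D205889 (iv1 F327909)
theorem F438289 : act 0 n137410 = n141792 := d20_7 (iv4 D200757) (iv1 F203748) (iv4 F345627) F345633 (iv1 F220095) (iv3 F438286) F438287 (iv4 D141792) D141791 F417804
def n205890 : Q := act 6 n126731
theorem D205890 : act 6 n126731 = n205890 := rfl
theorem F438290 : act 2 n205890 = n175101 := d3_1 D205890 F438276 (iv2 D205887)
theorem F438291 : act 3 n205890 = n126734 := d7_1 D205890 (iv6 D126734) D126731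
theorem F438292 : act 4 n205890 = n196720 := d10_1 D205890 F438284 (iv4 D205888)
theorem F438293 : act 5 n205890 = n152601 := d12_1 D205890 F315792 (iv5 F344164) (iv6 F438288) (iv5 D205889)
theorem F438294 : act 7 n155096 = n205890 := d13_0 F438293 F314835 D155096
theorem F438295 : act 0 n197284 = n205890 := d17_0 F438293 (iv1 D152601) D152602 (iv4 F397042) F397043 F396646 (iv5 F396644) (iv0 F396645) D197284
def n205891 : Q := act 6 n126732
theorem D205891 : act 6 n126732 = n205891 := rfl
theorem F438296 : act 3 n205891 = n156091 := d7_1 D205891 (iv6 F349436) F203959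
theorem F438297 : act 4 n205891 = n126734 := d10_1 D205891 (iv6 D126734) D126732
theorem F438298 : act 1 n198043 = n205891 := d18_6 (iv1 F428872) (iv4 D133322) (iv1 F237472) (iv4 F186458) (iv5 F416812) F416811 F438297 (iv0 F336280) D203557
theorem F438299 : act 0 n203565 = n205891 := d20_10 F438297 F409608 (iv4 F403862) F403861 F167104 D156102 F245273 (iv1 F316059) (iv4 F239943) (iv3 F428907)
def n205892 : Q := act 5 n126734
theorem D205892 : act 5 n126734 = n205892 := rfl
theorem F438300 : act 2 n205892 = n173359 := d2_1 D205892 (iv5 F437996) F437994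
theorem F438301 : act 3 n205892 = n152601 := d6_1 D205892 (iv5 F438293) F438291
theorem F438302 : act 6 n205892 = n133684 := d12_2 D126734 D205892 F215122 (iv6 F347270) (iv5 D126733)
theorem F438303 : act 4 n205892 = n133686 := d17_4 F428870 (iv5 D203557) F336280 D205892 F215129 F183476 (iv5 F237478) (iv0 F237473) (iv4 F409607)
theorem F438304 : act 1 n205892 = n204863 := d17_8 (iv1 F380167) F380173 F340874 F227869 F210715 (iv5 F402926) (iv0 F409608) D205892 (iv4 D204863)
theorem F438305 : act 0 n205892 = n172006 := d18_0 F270055 F319572 F118459 D83404 D174510 (iv0 F403864) F403862 (iv0 F409608) D205892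
theorem F438306 : act 7 n205892 = n155093 := d15_2 (iv0 F432142) (iv0 F438305) (iv2 F432137)
def n205893 : Q := act 7 n126734
theorem D205893 : act 7 n126734 = n205893 := rfl
theorem F438307 : act 2 n205893 = n203556 := d4_1 D205893 (iv7 F437997) F437994
theorem F438308 : act 3 n205893 = n155096 := d8_1 D205893 F438294 F438291
theorem F438309 : act 5 n205893 = n155093 := d13_1 D205893 (iv7 F438306) (iv5 D205892)
theorem F438310 : act 6 n205893 = n197984 := d14_1 D205893 (iv7 F422836) F422835 F203953 D126734
theorem F438311 : act 1 n203502 = n205893 := d15_1 (iv0 F437999) (iv7 D205893) (iv2 F437994)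
theorem F438312 : act 1 n205893 = n203558 := d15_1 F438311 (iv7 D203558) (iv2 F428587)
def n205894 : Q := act 4 n126735
theorem D205894 : act 4 n126735 = n205894 := rfl
theorem F438313 : act 2 n205894 = n126739 := d1_1 D205894 (iv4 D126739) (iv2 F203964)
def n205895 : Q := act 0 n126736
theorem D205895 : act 0 n126736 = n205895 := rfl
theorem F438314 : act 5 n205895 = n154763 := d19_1 D205895 (iv4 D154763) (iv3 F322268) (iv1 F167863) F345068 F172638 (iv3 F329788) F293165 (iv5 F35083) (iv4 F66299) F66300 F291079 (iv5 D10882) D10881 F17663 D20658 D43661 D93340 (iv3 F364580)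
theorem F438315 : act 4 n205895 = n202058 := d20_0 (iv1 F422819) (iv4 F360754) F360753 (iv1 F354180) F354185 F134920 (iv1 F68620) D93340 (iv3 F364580) D205895
theorem F438316 : act 6 n205895 = n203500 := d21_5 D202311 F423585 (iv5 D126735) D126736 D205895 (iv5 F428580) F426938 (iv5 D119533) (iv6 F336274) D115587
theorem F438317 : act 1 n126744 = n205895 := d15_0 (iv0 D205895) (iv7 F364582) F329042
theorem F438318 : act 2 n126741 = n205895 := d3_3 F438316 F428581 F347036
theorem F438319 : act 7 n126742 = n205895 := d14_0 F438316 F428579 (iv6 F416588) (iv7 F423106) (iv6 F423109)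
theorem F438320 : act 3 n205895 = n126756 := d8_1 F438319 (iv7 F403188) F403187
theorem F438321 : act 7 n202058 = n152792 := d11_2 F438319 F438315 F366267
theorem E103912 : n202062 = n202048 := ((c8_2 F438321 (iv3 F422797) (iv7 D202062) D202058)).symm
theorem F438322 : act 2 n202048 = n115353 := (sb E103912 F422820)
theorem F438323 : act 7 n202048 = n115352 := (sb E103912 (iv7 D202062))
theorem E103913 : n202057 = n202047 := (c15_4 (iv0 D202047) D202048 F438323 D202057)
theorem F438324 : act 2 n202047 = n115352 := (sb E103913 (iv2 D202057))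
theorem F438325 : act 7 n202047 = n115353 := (sb E103913 (iv7 F422816))
theorem F438326 : act 2 n202066 = n202167 := d3_3 (iv6 F423111) F438322 D202066
theorem F438327 : act 3 n204096 = n202066 := d0_0 F438326 (iv3 D202167) (iv2 F409717) (iv3 F409713) F431073
theorem F438328 : act 6 n202063 = n204096 := d7_0 F438327 (iv6 D202066) D202063
theorem F438329 : act 0 n202066 = n202429 := d20_4 F304597 F198427 (iv4 F431072) F438327 (iv3 D202429) (iv4 D115725) F100585 (iv4 F357244) (iv3 D124386) D124384
theorem F438330 : act 4 n204603 = n202063 := d10_3 F438328 F431072 (iv6 F432988)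
theorem F438331 : act 2 n202058 = n152793 := d1_3 (iv4 F347038) F438318 F438315
def n205896 : Q := act 1 n126736
theorem D205896 : act 1 n126736 = n205896 := rfl
theorem F438332 : act 1 n205896 = n126744 := d15_1 D205896 (iv7 D126744) (iv2 F203965)
theorem F438333 : act 7 n205896 = n126741 := d15_2 (iv0 D205895) D205896 F438318
theorem F438334 : act 5 n205896 = n154768 := d18_9 (iv1 F372111) F386918 (iv1 D192514) F353038 (iv5 F353039) (iv4 F392463) (iv0 F438137) F438135 D205896
theorem F438335 : act 3 n136940 = n205896 := d20_3 F385587 F346665 D136940 (iv1 D205896) F364580 (iv4 D93340) F68619 (iv4 F134923) (iv3 F343448) F385590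
theorem F438336 : act 2 n205896 = n126742 := d0_1 F438335 (iv3 F403187) F403186 F346515 (iv2 F362165)
theorem F438337 : act 6 n205896 = n200471 := d7_2 (iv6 F362167) F438335 (iv3 F416591)
def n205897 : Q := act 4 n126738
theorem D205897 : act 4 n126738 = n205897 := rfl
theorem F438338 : act 2 n205897 = n159576 := d1_1 D205897 (iv4 F423586) F423582
theorem F438339 : act 5 n205897 = n201037 := d17_5 (iv1 F347026) (iv5 F347030) (iv1 F179891) (iv5 F347037) D205897 F418833 (iv5 D132411) (iv0 F347268) F325509
def n205898 : Q := act 6 n126738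
theorem D205898 : act 6 n126738 = n205898 := rfl
theorem F438340 : act 3 n205898 = n130222 := d7_1 D205898 (iv6 F394435) F364306
def n205899 : Q := act 0 n126739
theorem D205899 : act 0 n126739 = n205899 := rfl
theorem F438341 : act 4 n205899 = n132714 := d18_3 (iv1 D126738) D126739 D205899 F351373 (iv4 F351376) (iv0 D115250) F83986 D59518 (iv5 F347037)
theorem F438342 : act 6 n129862 = n205899 := d10_0 F438341 (iv6 D132714) (iv4 F334311)
def n205900 : Q := act 1 n126739
theorem D205900 : act 1 n126739 = n205900 := rfl
theorem F438343 : act 4 n132607 = n205900 := d20_6 F93867 F80503 (iv4 F93815) D126676 (iv1 F438045) F438041 (iv1 D205900) (iv4 D126739) F93864 D59467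
theorem F438344 : act 6 n205900 = n132605 := d10_2 D132607 F438343 (iv4 D132605)
def n205901 : Q := act 5 n126739
theorem D205901 : act 5 n126739 = n205901 := rfl
theorem F438345 : act 3 n205901 = n138097 := d6_1 D205901 (iv5 D138097) (iv3 F203966)
def n205902 : Q := act 6 n126739
theorem D205902 : act 6 n126739 = n205902 := rfl
theorem F438346 : act 3 n205902 = n138098 := d7_1 D205902 (iv6 D138098) (iv3 F203966)
theorem F438347 : act 4 n205902 = n126740 := d10_1 D205902 (iv6 D126740) D126739
def n205903 : Q := act 0 n126743
theorem D205903 : act 0 n126743 = n205903 := rfl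
theorem F438348 : act 3 n205903 = n150589 := d20_5 (iv4 F110862) (iv1 F366121) (iv4 D126758) (iv3 F203968) D205903 (iv4 F388699) (iv1 F401898) F401895 (iv3 D155912) (iv1 D74148)
theorem F438349 : act 5 n205903 = n159433 := d21_8 (iv5 F433904) (iv1 F438304) (iv5 D205892) (iv6 D126734) (iv1 D59463) D59466 D126743 D205903 (iv6 F409615) (iv1 F415328)
theorem F438350 : act 2 n126751 = n205903 := d15_3 (iv0 D205903) (iv0 F349889) F219978
theorem F438351 : act 7 n205903 = n194382 := d4_2 F219978 F438350 F393000
theorem F438352 : act 1 n193135 = n205903 := d15_1 (iv0 F388869) F438351 F393000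
def n205904 : Q := act 4 n126743
theorem D205904 : act 4 n126743 = n205904 := rfl
theorem F438353 : act 2 n205904 = n189056 := d1_1 D205904 (iv4 F375615) (iv2 F364584)
theorem F438354 : act 0 n205904 = n189057 := d18_2 F349889 D205904 F375616 (iv5 D120070) D120069 F350660 (iv4 F245472) (iv0 F354572) F349887
theorem F438355 : act 1 n205904 = n188659 := d18_6 (iv1 F244837) D155858 F365113 F203871 D126743 D205904 (iv4 F374328) F354180 (iv5 F360755)
theorem F438356 : act 3 n205904 = n154700 := d20_3 (iv4 F219977) F349889 D205904 (iv1 D154700) (iv3 D73363) (iv4 D33747) (iv1 F52984) (iv4 F94708) D128030 (iv1 F357017)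
def n205905 : Q := act 7 n126743
theorem D205905 : act 7 n126743 = n205905 := rfl
theorem F438357 : act 2 n205905 = n193135 := d4_1 D205905 F388868 (iv2 F364584)
theorem F438358 : act 3 n205905 = n126759 := d8_1 D205905 (iv7 D126759) (iv3 F203968)
theorem F438359 : act 5 n205905 = n126744 := d13_1 D205905 (iv7 D126744) D126743
theorem F438360 : act 6 n205905 = n203540 := d14_1 D205905 F428797 F389763 F367023 (iv6 F347033)
theorem F438361 : act 1 n194382 = n205905 := d15_1 D194382 (iv7 D205905) F364584
theorem F438362 : act 1 n205905 = n126751 := d15_1 F438361 (iv7 F219978) (iv2 F393000)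
theorem F438363 : act 4 n189055 = n205905 := d20_0 (iv1 F438361) (iv4 F424158) F424157 F387013 F374976 F143232 (iv1 D43560) D43561 D93105 D189055
theorem F438364 : act 7 n205904 = n189055 := d11_0 F438363 (iv7 D205905) D205904
def n205906 : Q := act 4 n126745
theorem D205906 : act 4 n126745 = n205906 := rfl
theorem F438365 : act 3 n205906 = n198937 := d5_1 D205906 (iv4 D198937) F171413 (iv4 F93867) D126745
theorem F438366 : act 6 n205906 = n129837 := d10_2 (iv6 F351686) D205906 F351694
def n205907 : Q := act 5 n126748
theorem D205907 : act 5 n126748 = n205907 := rfl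
theorem F438367 : act 2 n205907 = n126832 := d2_1 D205907 F364307 (iv2 F362711)
theorem F438368 : act 3 n205907 = n127156 := d6_1 D205907 (iv5 F342167) F362703
theorem F438369 : act 7 n205907 = n137346 := d13_2 (iv7 F362707) D205907 F362158
theorem F438370 : act 4 n205907 = n195418 := d18_5 (iv1 F203838) F338720 (iv1 F218838) (iv4 F362705) D205907 F438072 (iv4 D126665) F203826 F203824
theorem F438371 : act 1 n126832 = n195312 := d15_0 F396677 (iv7 F438369) F438367
theorem F438372 : act 5 n195316 = n144407 := d17_3 (iv1 D105514) D105516 D195316 (iv4 F437980) (iv5 D205819) F362712 (iv5 F364307) F438371 (iv4 D195312)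
theorem F438373 : act 3 n202187 = n195316 := d6_3 F438372 F227186 (iv5 F423165)
def n205908 : Q := act 4 n126752
theorem D205908 : act 4 n126752 = n205908 := rfl
theorem F438374 : act 6 n205908 = n195494 := d10_2 F358429 D205908 F397141
theorem F438375 : act 0 n205908 = n155779 := d18_2 (iv1 F392856) D205908 (iv4 D155779) (iv5 F324691) (iv4 F323325) (iv0 F111139) (iv4 F167749) F396885 F396883
theorem F438376 : act 1 n205908 = n155784 := d18_6 (iv1 D64259) F48658 D30270 (iv4 F111289) D126752 D205908 (iv4 D155784) F189648 F325004
def n205909 : Q := act 4 n126754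
theorem D205909 : act 4 n126754 = n205909 := rfl
theorem F438377 : act 6 n205909 = n144453 := d10_2 F397169 D205909 (iv4 F397166)
theorem F438378 : act 0 n205909 = n155784 := d18_2 (iv1 F203976) D205909 (iv4 D155784) (iv5 F324692) F321636 F169298 F175797 (iv0 D107694) D107696
theorem F438379 : act 1 n205909 = n155779 := d18_6 (iv1 F111236) F100123 (iv1 F48711) (iv4 F111352) D126754 D205909 (iv4 D155779) (iv0 D74107) F323252
def n205910 : Q := act 4 n126756
theorem D205910 : act 4 n126756 = n205910 := rfl
theorem F438380 : act 3 n205910 = n202059 := d5_1 D205910 (iv4 D202059) D202058 (iv4 F438315) F438320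
theorem F438381 : act 0 n205910 = n184256 := d18_2 D126756 D205910 F286185 F331291 F100123 F48712 (iv4 F111289) (iv0 D59469) D59471
theorem F438382 : act 1 n205910 = n136728 := d18_6 F321637 (iv4 F79313) D108503 (iv4 F396869) F396868 D205910 (iv4 D136728) (iv0 F323328) F110867
def n205911 : Q := act 6 n126756
theorem D205911 : act 6 n126756 = n205911 := rfl
theorem F438383 : act 3 n205911 = n203500 := d7_1 D205911 (iv6 F438316) F438320
theorem F438384 : act 7 n203550 = n205911 := d8_0 F438383 F428579 D203550
theorem F438385 : act 1 n194307 = n205911 := d15_1 (iv0 F392767) (iv7 F438384) F428840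
theorem F438386 : act 1 n205911 = n203492 := d15_1 F438385 F428539 F392768
def n205912 : Q := act 4 n126757
theorem D205912 : act 4 n126757 = n205912 := rfl
theorem F438387 : act 3 n205912 = n195363 := d5_1 D205912 (iv4 F428131) F428130 (iv4 F346519) (iv3 F346515)
theorem F438388 : act 0 n205912 = n136728 := d18_2 (iv1 F346517) D205912 (iv4 D136728) (iv5 D64260) F48658 D30271 (iv4 F111352) F329606 (iv5 F294115)
theorem F438389 : act 1 n205912 = n184256 := d18_6 D120052 F336643 (iv1 F169303) F346505 F346514 D205912 F286185 (iv0 F331309) F87446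
def n205913 : Q := act 3 n126758
theorem D205913 : act 3 n126758 = n205913 := rfl
theorem F438390 : act 4 n205913 = n154700 := d5_2 D126758 D205913 (iv3 F438356) (iv4 D205904) F203968
theorem F438391 : act 0 n205913 = n192473 := d20_4 (iv4 D205912) (iv1 D126757) D126758 D205913 (iv3 D192473) (iv4 D100200) F134921 D87888 D184256 (iv1 F438389)
def n205914 : Q := act 5 n126758
theorem D205914 : act 5 n126758 = n205914 := rfl
theorem F438392 : act 7 n205914 = n197360 := d13_2 (iv7 F427357) D205914 (iv5 F427353)
theorem F438393 : act 4 n205914 = n197361 := d16_2 D126758 D205914 F404046 F167198 (iv5 F101932) F329499 (iv5 F294115) F346518 F203710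
theorem F438394 : act 0 n205914 = n202768 := d17_2 (iv1 F366121) D205914 F425499 (iv4 D155787) F324658 F111274 D64294 F323330 (iv4 F110862)
theorem F438395 : act 1 n205914 = n203652 := d17_6 (iv1 F203976) (iv5 D126754) (iv1 D59470) D59471 D126758 D205914 (iv5 D203652) (iv0 F403195) (iv4 D197133)
def n205915 : Q := act 6 n126762
theorem D205915 : act 6 n126762 = n205915 := rfl
theorem F438396 : act 2 n205915 = n144755 := d3_1 D205915 (iv6 D144755) (iv2 F203981)
theorem F438397 : act 3 n205915 = n195454 := d7_1 D205915 (iv6 F397040) F366456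
theorem F438398 : act 4 n205915 = n126763 := d10_1 D205915 (iv6 D126763) D126762
theorem F438399 : act 7 n205915 = n202190 := d14_2 (iv7 F203982) D205915 (iv6 D202190) F179738 (iv6 F167200)
theorem F438400 : act 0 n205915 = n197440 := d21_4 D109278 D198397 F407875 D205915 (iv6 D197440) D197439 F404320 F351847 (iv6 D67821) (iv1 F111447)
theorem F438401 : act 5 n205915 = n197280 := d21_6 D108052 F167046 (iv5 D64309) (iv6 F100131) F203984 D205915 F403821 (iv5 D156075) (iv6 D74243) (iv1 F78943)
def n205916 : Q := act 3 n126764
theorem D205916 : act 3 n126764 = n205916 := rfl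
theorem F438402 : act 2 n205916 = n192863 := d0_1 D205916 F388057 (iv2 F392822) F392823 F203990
theorem F438403 : act 4 n205916 = n151378 := d5_2 (iv4 F203989) D205916 F349224 (iv4 D111223) (iv3 F164929)
theorem F438404 : act 7 n205916 = n197358 := d8_2 F203991 D205916 (iv3 D197358)
theorem F438405 : act 0 n205916 = n192420 := d20_4 F78982 D64269 (iv4 F203989) D205916 F386695 (iv4 D155779) (iv1 F189646) (iv4 F404049) (iv3 D197362) F167201
theorem F438406 : act 3 n184249 = n197382 := d20_3 (iv4 D192420) (iv1 F154122) D184249 (iv1 D197382) F167212 F78982 D64269 (iv4 F203989) D205916 F438405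
theorem F438407 : act 4 n197382 = n156179 := d5_2 D184249 F438406 (iv3 F429071) (iv4 D192392) F154076
theorem F438408 : act 0 n192422 = n205916 := d18_2 (iv1 F154124) D192422 F438403 F349225 F157789 F154096 (iv4 D100164) F73865 D87884
def n205917 : Q := act 6 n126764
theorem D205917 : act 6 n126764 = n205917 := rfl
theorem F438409 : act 2 n205917 = n197357 := d3_1 D205917 (iv6 D197357) F203990
theorem F438410 : act 4 n205917 = n136730 := d10_1 D205917 (iv6 D136730) (iv4 F203989)
theorem F438411 : act 7 n205917 = n141304 := d14_2 F203991 D205917 (iv6 D141304) F162187 F167197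
theorem F438412 : act 0 n205917 = n132576 := d21_4 D105549 D195373 F396848 D205917 F212803 F351842 (iv1 F320844) (iv5 F396845) (iv6 D195372) (iv1 D105548)
theorem F438413 : act 5 n205917 = n197308 := d21_6 D108057 F167062 (iv5 D59487) (iv6 F93879) D126764 D205917 (iv1 D197308) (iv5 D108083) (iv6 D49921) (iv1 F78946)
theorem F438414 : act 0 n132569 = n205917 := d21_4 D197264 (iv1 F436479) (iv5 D205449) (iv6 F212791) (iv6 D205917) (iv5 F396848) (iv1 F396849) (iv5 D144709) (iv6 F162147) (iv1 F167068)
theorem F438415 : act 2 n197308 = n192475 := d2_1 F438413 (iv5 F404028) (iv2 F438409)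
theorem F438416 : act 4 n192471 = n197308 := d1_0 F438415 F386771 (iv2 F386762)
theorem F438417 : act 6 n192470 = n197308 := d3_0 F438415 (iv6 D192475) (iv2 F386759)
def n205918 : Q := act 0 n126766
theorem D205918 : act 0 n126766 = n205918 := rfl
theorem F438418 : act 5 n205918 = n203188 := d19_1 D205918 (iv4 F427506) F427504 (iv1 F236061) (iv5 D150040) F107740 (iv3 D71242) (iv1 D32973) (iv5 D15877) (iv4 F20934) (iv3 D12569) (iv1 F9285) (iv5 F11716) (iv4 F318177) D26043 (iv1 F101929) D28243 D59484 D126766
theorem F438419 : act 2 n203230 = n205918 := d2_3 F438418 F427367 (iv5 F427480)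
theorem F438420 : act 6 n203181 = n205918 := d12_0 F438418 (iv6 D203188) (iv5 D118186) (iv6 F185710) D203181
def n205919 : Q := act 1 n126766
theorem D205919 : act 1 n126766 = n205919 := rfl
theorem F438421 : act 7 n205919 = n203230 := d15_2 (iv0 D205918) D205919 F438419
theorem F438422 : act 3 n205909 = n205919 := d20_3 (iv4 D197133) (iv1 F203976) D205909 (iv1 D205919) (iv3 D126766) (iv4 D59484) D59482 D126762 (iv3 F366456) (iv1 F403196)
theorem F438423 : act 5 n203256 = n205919 := d13_3 F438421 F427480 D203256
def n205920 : Q := act 2 n126766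
theorem D205920 : act 2 n126766 = n205920 := rfl
theorem F438424 : act 3 n205920 = n197348 := d0_2 D126766 D205920 F404010 F167194 (iv2 F93878)
theorem F438425 : act 4 n205920 = n136582 := d1_2 (iv4 F203997) D205920 F219666
theorem F438426 : act 6 n205920 = n126771 := d3_2 (iv6 F203998) D205920 (iv2 D126771)
theorem F438427 : act 0 n205920 = n203230 := d21_4 F403609 (iv1 F176190) (iv5 F204010) (iv6 F438426) (iv6 D203230) (iv5 D118247) D118244 (iv5 F404357) F227243 D197221
theorem F438428 : act 4 n203230 = n203381 := d20_2 (iv4 F438425) F438427 F428110 F422955 (iv3 D194413) (iv4 D103354) D103352 (iv4 F363549) (iv3 F391549) (iv1 F391551)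
theorem F438429 : act 6 n203381 = n203229 := d10_2 D203230 F438428 (iv4 D203229)
theorem F438430 : act 3 n203229 = n193451 := d7_1 F438429 F422953 (iv3 F428110)
def n205921 : Q := act 5 n126766
theorem D205921 : act 5 n126766 = n205921 := rfl
theorem F438431 : act 3 n205921 = n126767 := d6_1 D205921 (iv5 D126767) D126766
def n205922 : Q := act 7 n126766
theorem D205922 : act 7 n126766 = n205922 := rfl
theorem F438432 : act 3 n205922 = n126768 := d8_1 D205922 (iv7 D126768) D126766
theorem F438433 : act 4 n205922 = n136590 := d11_1 D205922 (iv7 D136590) (iv4 F203997)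
theorem F438434 : act 6 n205922 = n197327 := d14_1 D205922 (iv7 D197327) (iv6 D108093) (iv7 F93891) (iv6 F203998)
theorem F438435 : act 0 n203230 = n205922 := d20_1 (iv4 F438428) F438433 F219669 (iv1 F167838) F319660 (iv4 D59817) F50535 D54708 D118862 D203381
def n205923 : Q := act 4 n126767
theorem D205923 : act 4 n126767 = n205923 := rfl
theorem F438436 : act 2 n205923 = n197360 := d1_1 D205923 (iv4 D197360) (iv2 F203999)
theorem F438437 : act 5 n205923 = n155888 := d9_2 D126767 D205923 (iv4 F329938) F294115 (iv4 F329499) F101932 (iv4 F167198) (iv5 F404046) (iv4 F438393) (iv5 D205914) (iv4 D126758) (iv5 D59471) F45727 D28243 D59484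
theorem F438438 : act 0 n205923 = n203652 := d18_2 F407888 D205923 F429248 (iv5 D144711) (iv4 D67815) (iv0 F101937) (iv4 F162086) (iv0 F169292) D198400
theorem F438439 : act 1 n205923 = n202768 := d18_6 F323287 F104150 (iv1 F321598) D59484 D126767 D205923 (iv4 D202768) F404097 F404096
theorem F438440 : act 3 n205923 = n194370 := d19_3 (iv1 D126765) D126767 D205923 (iv1 F397183) (iv5 D195506) (iv4 F173995) (iv3 F358495) (iv1 F294085) (iv5 D47994) (iv4 D23156) (iv3 F62808) (iv1 F291895) (iv5 F133580) (iv4 F133579) D89922 D187360 F369957 F202139 F360493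
def n205924 : Q := act 6 n126767
theorem D205924 : act 6 n126767 = n205924 := rfl
theorem F438441 : act 2 n205924 = n197354 := d3_1 D205924 F404019 (iv2 F203999)
theorem F438442 : act 5 n205924 = n126772 := d12_1 D205924 (iv6 D126772) (iv5 D59487) (iv6 F93879) D126767
def n205925 : Q := act 7 n126767
theorem D205925 : act 7 n126767 = n205925 := rfl
theorem F438443 : act 2 n205925 = n197361 := d4_1 D205925 (iv7 D197361) (iv2 F203999)
theorem F438444 : act 5 n205925 = n126768 := d13_1 D205925 (iv7 D126768) D126767
theorem F438445 : act 1 n195370 = n205925 := d15_1 (iv0 F396839) (iv7 D205925) F203999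
theorem F438446 : act 1 n205925 = n195371 := d15_1 F438445 (iv7 F407887) F407885
theorem F438447 : act 6 n197359 = n203255 := d21_3 F438444 (iv1 F204003) D197359 (iv1 D203255) (iv6 D118283) (iv5 D54476) D54473 D118272 F396842 (iv1 F438446)
theorem F438448 : act 2 n203255 = n195364 := d3_1 F438447 F396853 (iv2 F404040)
theorem F438449 : act 5 n203255 = n195361 := d12_1 F438447 (iv6 D195361) (iv5 F360491) F167197 D197359
def n205926 : Q := act 3 n126770
theorem D205926 : act 3 n126770 = n205926 := rfl
theorem F438450 : act 2 n205926 = n197328 := d0_1 D205926 (iv3 D197328) (iv2 F167162) (iv3 F167127) F204014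
theorem F438451 : act 4 n205926 = n181796 := d5_2 F219587 D205926 (iv3 D181796) (iv4 F319243) D136467
theorem F438452 : act 7 n205926 = n197320 := d8_2 F204015 D205926 (iv3 D197320)
theorem F438453 : act 0 n205926 = n199336 := d20_10 F411757 (iv1 D125064) F316893 F166968 F101022 D139079 F222265 F219588 F219587 D205926
theorem F438454 : act 1 n205926 = n199332 := d15_1 (iv0 F438453) F411742 (iv2 F411754)
def n205927 : Q := act 6 n126770
theorem D205927 : act 6 n126770 = n205927 := rfl
theorem F438455 : act 2 n205927 = n197319 := d3_1 D205927 (iv6 D197319) F204014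
theorem F438456 : act 4 n205927 = n133592 := d10_1 D205927 (iv6 F358052) F219587
theorem F438457 : act 7 n205927 = n137803 := d14_2 F204015 D205927 (iv6 D137803) (iv7 F218964) F336214
theorem F438458 : act 1 n138221 = n205927 := d15_1 (iv0 F396947) F438457 (iv2 F396945)
def n205928 : Q := act 0 n126772
theorem D205928 : act 0 n126772 = n205928 := rfl
theorem F438459 : act 3 n205928 = n205908 := d20_5 (iv4 F173995) (iv1 F358511) (iv4 F358512) F366546 D205928 (iv4 D205908) F203974 D197133 F403193 F386693
theorem F438460 : act 4 n137038 = n205928 := d5_0 F438459 (iv4 D205908) (iv3 F409542) F409543 (iv3 F415365)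
theorem F438461 : act 0 n205928 = n197355 := d20_4 F403690 (iv1 F392856) D205908 (iv3 F438459) F404020 (iv4 D117180) F85193 D60434 (iv3 F189649) F403692
theorem F438462 : act 7 n205928 = n197353 := d11_2 (iv7 F423249) F438460 (iv4 F423246)
theorem F438463 : act 2 n205928 = n197352 := d15_3 (iv0 D197352) D197353 (iv7 F438462)
def n205929 : Q := act 1 n126772
theorem D205929 : act 1 n126772 = n205929 := rfl
theorem F438464 : act 1 n205929 = n197355 := d15_1 D205929 (iv7 D197355) (iv2 F204018)
theorem F438465 : act 7 n205929 = n197352 := d15_2 (iv0 D205928) D205929 (iv2 F438463)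
theorem F438466 : act 2 n197353 = n205929 := d4_3 F438465 (iv2 F438463) F438462
theorem F438467 : act 4 n205929 = n137039 := d1_2 F423246 F438466 (iv2 F423244)
def n205930 : Q := act 7 n126772
theorem D205930 : act 7 n126772 = n205930 := rfl
theorem F438468 : act 2 n205930 = n197355 := d4_1 D205930 (iv7 D197355) (iv2 F204018)
theorem F438469 : act 3 n205930 = n195368 := d8_1 D205930 F396834 F366546
theorem F438470 : act 6 n205930 = n197333 := d14_1 D205930 (iv7 D197333) (iv6 D108096) (iv7 F93893) D126772
theorem F438471 : act 1 n197353 = n205930 := d15_1 D197353 (iv7 D205930) F204018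
theorem F438472 : act 1 n205930 = n197352 := d15_1 F438471 (iv7 F438465) (iv2 F438466)
def n205931 : Q := act 3 n126774
theorem D205931 : act 3 n126774 = n205931 := rfl
theorem F438473 : act 2 n205931 = n192949 := d0_1 D205931 (iv3 D192949) (iv2 F357502) F223473 (iv2 F220266)
theorem F438474 : act 7 n205931 = n199009 := d8_2 F220265 D205931 (iv3 D199009)
theorem F438475 : act 0 n205931 = n139929 := d20_4 (iv4 F375913) F375914 F219851 D205931 (iv3 D139929) F101420 F180707 (iv4 D115946) D115945 F362377
theorem F438476 : act 1 n205931 = n139403 := d15_1 (iv0 F438475) F222621 (iv2 F223155)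
def n205932 : Q := act 3 n126781
theorem D205932 : act 3 n126781 = n205932 := rfl
theorem F438477 : act 5 n205932 = n192212 := d6_2 (iv5 F386031) D205932 (iv3 F386024)
theorem F438478 : act 7 n205932 = n137079 := d8_2 (iv7 F386032) D205932 (iv3 F361812)
theorem F438479 : act 4 n205932 = n135939 := d20_6 F48478 (iv1 F45700) D28252 D59495 D126781 D205932 (iv1 D135939) F99425 (iv3 D30151) D30149
theorem F438480 : act 2 n137075 = n205932 := d1_3 F438479 (iv2 F218671) D137075
theorem F438481 : act 6 n187129 = n205932 := d10_0 F438479 (iv6 F385760) (iv4 F390656)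
theorem F438482 : act 1 n136791 = n205932 := d17_8 (iv1 D135939) (iv5 F206772) F391950 (iv5 D194067) (iv4 D102627) (iv5 F151936) D191562 (iv5 F383812) F438479
theorem F438483 : act 0 n200817 = n205932 := d18_0 F438479 (iv1 D135939) F99425 D63929 D135968 (iv0 F391917) (iv4 D194061) F383837 D200817
def n205933 : Q := act 4 n126781
theorem D205933 : act 4 n126781 = n205933 := rfl
theorem F438484 : act 2 n205933 = n196591 := d1_1 D205933 F401183 F386030
theorem F438485 : act 5 n205933 = n145657 := d9_2 (iv5 F386031) D205933 F228683 (iv5 F421981) F421980 (iv5 F437598) F437599 (iv5 F233573) (iv4 F407850) F407847 F228677 (iv5 F217253) F217252 (iv5 F437605) F437606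
theorem F438486 : act 0 n205933 = n127091 := d17_0 (iv5 D127091) F163623 F344619 (iv4 D64757) D64758 (iv0 F347223) (iv5 F396709) F396711 D205933
theorem F438487 : act 1 n205933 = n144423 := d18_6 F347249 (iv4 F347241) (iv1 F437603) F437606 (iv5 F386031) D205933 (iv4 F408479) (iv0 F408482) (iv5 F347251)
def n205934 : Q := act 6 n126781
theorem D205934 : act 6 n126781 = n205934 := rfl
theorem F438488 : act 3 n205934 = n187129 := d7_1 D205934 F438481 (iv3 D205932)
theorem F438489 : act 0 n136838 = n205934 := d21_4 D193924 (iv1 F391410) F367529 F365611 (iv6 D205934) F386031 (iv1 F219058) (iv5 D64761) F329329 (iv1 F157425)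
def n205935 : Q := act 6 n126782
theorem D205935 : act 6 n126782 = n205935 := rfl
theorem F438490 : act 0 n205935 = n136809 := d21_4 D64761 (iv1 F219059) (iv5 F233573) D205935 (iv6 F427283) F427282 (iv1 F312487) (iv5 F362510) (iv6 D136094) (iv1 F99580)
def n205936 : Q := act 6 n126783
theorem D205936 : act 6 n126783 = n205936 := rfl
theorem F438491 : act 2 n205936 = n126784 := d3_1 D205936 (iv6 D126784) D126783
def n205937 : Q := act 0 n126784
theorem D205937 : act 0 n126784 = n205937 := rfl
theorem F438492 : act 3 n205937 = n198642 := d20_5 F99502 (iv1 D59498) (iv4 F93922) (iv3 F204038) D205937 F408671 F352907 F220256 F100423 (iv1 F99489)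
theorem F438493 : act 4 n205937 = n195485 := d20_8 F392962 (iv1 F392968) (iv4 F403778) F403777 F167067 (iv3 F396608) F396609 D205937 F397125 F392963
theorem F438494 : act 6 n205937 = n195484 := d21_5 D64758 (iv1 F347222) (iv5 F93921) D126784 D205937 F397122 F360624 F360622 (iv6 D136100) (iv1 F99585)
def n205938 : Q := act 1 n126784
theorem D205938 : act 1 n126784 = n205938 := rfl
def n205939 : Q := act 5 n126784
theorem D205939 : act 5 n126784 = n205939 := rfl
theorem F438495 : act 3 n205939 = n126785 := d6_1 D205939 (iv5 D126785) (iv3 F204038)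
theorem F438496 : act 6 n205939 = n138101 := d12_2 D126784 D205939 (iv5 D138101) (iv6 D64889) (iv5 F93921)
theorem F438497 : act 0 n184253 = n205939 := d21_7 F386031 (iv1 F219058) (iv5 D64761) F329329 (iv1 F157425) D193925 F391412 (iv5 D205939) (iv6 D126784) D126781
def n205940 : Q := act 0 n126785
theorem D205940 : act 0 n126785 = n205940 := rfl
theorem F438498 : act 5 n205940 = n136507 := d17_3 (iv1 F99507) D126785 D205940 F219618 F99890 (iv0 D30369) (iv5 D14415) D14414 D30368
theorem F438499 : act 1 n137234 = n205940 := d15_0 (iv0 D205940) (iv7 F408867) F408866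
theorem F438500 : act 7 n205940 = n137627 := d15_2 (iv0 F364413) F438499 F364412
theorem F438501 : act 4 n137227 = n205940 := d18_3 (iv1 D64497) D64498 D137227 F438498 F219618 F100576 (iv4 F100733) F219299 F219000
def n205941 : Q := act 1 n126786
theorem D205941 : act 1 n126786 = n205941 := rfl
theorem F438502 : act 1 n205941 = n132508 := d15_1 D205941 F212652 F322566
theorem F438503 : act 7 n205941 = n191173 := d15_2 (iv0 F355178) D205941 F382470
theorem F438504 : act 4 n205941 = n191174 := d17_9 (iv1 F382477) (iv5 F392781) (iv1 D191127) D191128 (iv4 F382333) (iv5 F337779) (iv0 F212111) (iv5 F354110) D205941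
theorem F438505 : act 5 n130394 = n205941 := d21_0 (iv1 D205941) F354110 (iv6 D129233) (iv1 F96710) D132282 F337766 (iv1 D79597) (iv5 F322724) D132743 (iv1 F393010)
theorem F438506 : act 6 n194375 = n205941 := d21_3 F324975 D173200 (iv5 F392977) (iv1 D205941) (iv6 F354109) (iv5 D128282) (iv1 F94855) D60329 D128326 F364919
theorem F438507 : act 2 n205941 = n194384 := d2_1 F438505 (iv5 F393008) F361873
def n205942 : Q := act 5 n126787
theorem D205942 : act 5 n126787 = n205942 := rfl
theorem F438508 : act 2 n205942 = n141196 := d2_1 D205942 F224218 (iv2 F204040)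
theorem F438509 : act 4 n205942 = n198760 := d9_1 D205942 (iv5 D198760) (iv4 F358843) F341763 F207044 F324039 (iv4 F101163) D139486 (iv4 F409126) F409127 F170312 D126255 (iv4 F204041) (iv5 D126788) D126787
theorem F438510 : act 0 n205942 = n198252 := d17_2 (iv1 F222658) D205942 F410486 F410482 (iv5 F359167) (iv0 F395654) F395652 (iv0 F401844) F401841
theorem F438511 : act 1 n205942 = n198249 := d17_6 F321554 D126639 F204042 (iv5 D126788) D126787 D205942 (iv5 F410443) (iv0 F410446) (iv4 F321557)
theorem F438512 : act 6 n194657 = n205942 := d21_5 (iv5 F62008) (iv1 F293313) D48116 D103931 D194657 (iv5 D205942) F331753 (iv5 F140436) (iv6 D91345) (iv1 F66963)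
def n205943 : Q := act 6 n126787
theorem D205943 : act 6 n126787 = n205943 := rfl
theorem F438513 : act 2 n205943 = n202543 := d3_1 D205943 (iv6 D202543) (iv2 F204040)
theorem F438514 : act 4 n205943 = n126789 := d10_1 D205943 (iv6 D126789) D126787
theorem F438515 : act 5 n205943 = n204380 := d12_1 D205943 F432306 (iv5 F432309) F438512 (iv5 D205942)
theorem F438516 : act 3 n191431 = n185287 := d19_19 (iv1 F432311) (iv5 F438515) F438514 F354108 F434501 F434499 (iv4 D127673) (iv3 F205272) (iv1 F364490) (iv5 F335024) (iv4 D155323) (iv3 F349316) (iv1 F142383) F142250 (iv4 F367438) F367437 (iv1 F151757) D98347 D191431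
def n205944 : Q := act 3 n126795
theorem D205944 : act 3 n126795 = n205944 := rfl
theorem F438517 : act 2 n205944 = n129806 := d0_1 D205944 F208151 (iv2 F97050) (iv3 F212944) F336589
theorem F438518 : act 4 n205944 = n205550 := d5_2 (iv4 F204049) D205944 (iv3 D205550) (iv4 D126268) D126267
theorem F438519 : act 5 n205944 = n126881 := d6_2 F204050 D205944 (iv3 D126881)
theorem F438520 : act 6 n205944 = n129804 := d7_2 (iv6 F336588) D205944 (iv3 F212937)
theorem F438521 : act 0 n205944 = n194383 := d19_4 (iv1 F409798) F409794 (iv4 F204049) D205944 (iv5 D194383) F158505 (iv3 F158503) D194381 F392994 (iv4 D115006) (iv3 F179069) D201692 F421435 F343316 F347993 (iv1 D150244) D150245 (iv4 F353643) (iv3 F223564)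
theorem F438522 : act 0 n130394 = n205944 := d20_4 (iv4 F100695) (iv1 F362695) (iv4 F437985) F437984 (iv3 D205944) F204049 F407320 F407318 F204267 F336109
def n205945 : Q := act 4 n126796
theorem D205945 : act 4 n126796 = n205945 := rfl
theorem F438523 : act 2 n205945 = n195786 := d1_1 D205945 (iv4 F437966) (iv2 F437967)
theorem F438524 : act 3 n205945 = n128906 := d5_1 D205945 F207140 F100189 (iv4 F95569) (iv3 F336590)
theorem F438525 : act 6 n205945 = n128904 := d10_2 (iv6 F336592) D205945 F207138
theorem F438526 : act 7 n205945 = n205548 := d11_2 (iv7 F336593) D205945 F436946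
theorem F438527 : act 0 n205945 = n198242 := d17_0 (iv5 D198242) F358834 D126255 (iv4 F204041) (iv5 D126788) (iv0 D59500) D59503 D126796 D205945
theorem F438528 : act 1 n205945 = n198240 := d18_6 F438067 F438064 (iv1 D141175) F101822 (iv5 F336591) D205945 F407318 (iv0 F345852) (iv5 F204667)
def n205946 : Q := act 3 n126798
theorem D205946 : act 3 n126798 = n205946 := rfl
theorem F438529 : act 2 n205946 = n161987 := d0_1 D205946 (iv3 D161987) F323775 D141028 (iv2 F329827)
theorem F438530 : act 5 n205946 = n131535 := d6_2 F334209 D205946 (iv3 F334207)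
theorem F438531 : act 7 n205946 = n194374 := d8_2 (iv7 F329829) D205946 F392971
theorem F438532 : act 0 n205946 = n193136 := d19_4 (iv1 F92132) F307393 (iv4 F329828) D205946 F388872 (iv4 F314131) F254167 F311675 (iv5 F314099) (iv4 D35156) (iv3 F55873) D76942 (iv5 F116828) (iv4 F125699) (iv3 F301848) D161842 (iv5 F340777) F190975 (iv3 D72971)
theorem F438533 : act 1 n205946 = n194375 := d15_1 (iv0 F438532) (iv7 D194375) (iv2 F388870)
def n205947 : Q := act 6 n126798
theorem D205947 : act 6 n126798 = n205947 := rfl
theorem F438534 : act 2 n205947 = n200037 := d3_1 D205947 F414719 (iv2 F329827)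
theorem F438535 : act 4 n205947 = n184297 := d10_1 D205947 (iv6 D184297) (iv4 F329828)
theorem F438536 : act 7 n205947 = n200468 := d14_2 (iv7 F329829) D205947 (iv6 F416577) F200695 (iv6 F325323)
theorem F438537 : act 0 n205947 = n197071 := d21_4 F346971 (iv1 F334205) F334209 D205947 F402915 F231116 (iv1 F105399) D69230 (iv6 F334595) F343501
theorem F438538 : act 5 n205947 = n197063 := d21_6 (iv5 F336591) (iv1 D126796) (iv5 D59503) D59504 D126798 D205947 (iv1 D197063) D197064 F402884 (iv1 F203737)
theorem F438539 : act 0 n163508 = n205947 := d21_4 (iv5 D84589) (iv1 F333960) (iv5 F231458) F334026 (iv6 D205947) (iv5 F334209) (iv1 D133073) D133074 F334213 F336594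
def n205948 : Q := act 6 n126806
theorem D205948 : act 6 n126806 = n205948 := rfl
theorem F438540 : act 2 n205948 = n174982 := d3_1 D205948 (iv6 D174982) (iv2 F331961)
theorem F438541 : act 3 n205948 = n126808 := d7_1 D205948 (iv6 D126808) D126806
theorem F438542 : act 4 n205948 = n145395 := d10_1 D205948 (iv6 D145395) (iv4 F204056)
theorem F438543 : act 5 n205948 = n198161 := d12_1 D205948 F407041 F303271 (iv6 F303272) (iv5 F331962)
theorem F438544 : act 7 n205948 = n200799 := d14_2 (iv7 F331963) D205948 F417949 F209074 F331958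
theorem F438545 : act 0 n205948 = n179640 := d21_10 F366645 (iv1 F339191) (iv5 F271859) (iv6 D173378) (iv1 D82969) (iv6 F127869) (iv5 D82966) D82964 (iv5 F331962) D205948
theorem F438546 : act 0 n204852 = n205948 := d21_4 F401901 F345543 D124493 D204852 (iv6 D205948) F331962 (iv1 F127873) (iv5 F128657) (iv6 F322732) F401904
def n205949 : Q := act 1 n126809
theorem D205949 : act 1 n126809 = n205949 := rfl
theorem F438547 : act 1 n205949 = n131525 := d15_1 D205949 (iv7 F428722) F428720
theorem F438548 : act 5 n205949 = n150096 := d17_7 F312347 (iv5 F310272) (iv1 F185495) (iv5 F234292) F311821 (iv5 F357113) D205949 (iv0 F343506) F359259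
theorem F438549 : act 3 n193136 = n205949 := d19_19 (iv1 D205949) F357113 (iv4 F311821) F234291 F232396 (iv5 D73772) F305965 F87163 (iv1 F53178) D33847 D73658 (iv3 F300633) F155902 F364245 F394824 (iv3 D194872) (iv1 D104663) (iv5 F158292) (iv4 F388871)
theorem F438550 : act 4 n196626 = n205949 := d20_6 F79642 D50261 F101679 F331787 D107150 D196626 (iv1 D205949) F204058 (iv3 D66001) F100431
theorem F438551 : act 6 n193135 = n205949 := d21_9 F357113 (iv1 D83630) D83631 F128695 (iv1 F243744) (iv6 F339205) (iv5 F347034) (iv1 F365525) D193135 (iv1 D205949)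
theorem F438552 : act 2 n205949 = n203540 := d3_1 F438551 (iv6 F438360) F438357
def n205950 : Q := act 6 n126810
theorem D205950 : act 6 n126810 = n205950 := rfl
theorem F438553 : act 2 n205950 = n152734 := d3_1 D205950 F309534 (iv2 F331965)
theorem F438554 : act 3 n205950 = n131515 := d7_1 D205950 F337070 (iv3 F331966)
theorem F438555 : act 5 n205950 = n152217 := d12_1 D205950 (iv6 F339217) F166301 (iv6 F100397) D126810
theorem F438556 : act 7 n205950 = n131509 := d14_2 F220290 D205950 (iv6 D131509) F312362 (iv6 F331942)
theorem F438557 : act 0 n205950 = n148539 := d21_10 (iv5 F419678) (iv1 F419680) F271940 F127933 (iv1 F156532) F344061 (iv5 F331938) F183121 D126810 D205950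
theorem F438558 : act 1 n205950 = n148538 := d15_1 (iv0 F438557) (iv7 F244497) F244495
def n205951 : Q := act 4 n126821
theorem D205951 : act 4 n126821 = n205951 := rfl
theorem F438559 : act 2 n205951 = n141855 := d1_1 D205951 F224899 F424707
theorem F438560 : act 3 n205951 = n141871 := d5_1 D205951 (iv4 F396676) (iv3 D195311) D195312 F396678
theorem F438561 : act 0 n205951 = n205002 := d20_1 D205951 F434549 F352299 (iv1 D64532) (iv3 D30378) (iv4 D14427) (iv1 F24077) (iv4 F45768) D59515 D126821
theorem F438562 : act 0 n141815 = n205951 := d20_10 (iv4 D205951) (iv1 F216734) F216731 F98549 (iv1 F181251) D196334 F400364 F224831 (iv4 D141816) D141815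
def n205952 : Q := act 5 n126821
theorem D205952 : act 5 n126821 = n205952 := rfl
theorem F438563 : act 2 n205952 = n205874 := d2_1 D205952 F438218 F424707
theorem F438564 : act 7 n205952 = n205873 := d13_2 F424709 D205952 F438215
theorem F438565 : act 0 n205952 = n131006 := d17_2 D126821 D205952 (iv5 F362000) F203929 D140463 F350892 (iv5 D140328) (iv0 D65861) (iv4 F93939)
theorem F438566 : act 6 n205952 = n130971 := d21_3 F203970 D126821 D205952 (iv1 D130971) (iv6 F324340) (iv5 F220092) (iv1 F203712) D126735 (iv6 F438208) F438209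
theorem F438567 : act 0 n126846 = n205952 := d21_4 F312966 (iv1 F188456) (iv5 F315449) F330966 F438566 (iv5 F217681) (iv1 F217679) (iv5 D130096) (iv6 F324324) (iv1 F208440)
def n205953 : Q := act 6 n126821
theorem D205953 : act 6 n126821 = n205953 := rfl
def n205954 : Q := act 3 n126822
theorem D205954 : act 3 n126822 = n205954 := rfl
theorem F438568 : act 7 n205954 = n179129 := d8_2 (iv7 F424706) D205954 (iv3 F366372)
theorem F438569 : act 0 n205954 = n127151 := d20_4 (iv4 F434549) (iv1 F434551) F424705 D205954 (iv3 D127151) F319584 (iv1 F92332) F318583 (iv3 F95417) (iv1 F352297)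
theorem F438570 : act 0 n126881 = n205954 := d20_4 F401932 (iv1 F220523) (iv4 D126882) D126881 (iv3 D205954) (iv4 F424705) F424704 (iv4 F352291) (iv3 F410343) F410344
theorem F438571 : act 5 n205954 = n129238 := d17_1 F438570 (iv1 D129238) D129239 F322567 D144546 (iv0 F227413) (iv5 D126933) D126932 (iv4 F204188)
theorem F438572 : act 6 n205954 = n155757 := d21_5 D178931 (iv1 F355414) F250340 (iv6 F322874) F438570 (iv5 F345785) (iv1 D147698) (iv5 F322506) (iv6 D85317) D85314
theorem F438573 : act 2 n179128 = n205954 := d15_3 (iv0 F438570) (iv0 F392725) (iv7 F392727)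
def n205955 : Q := act 5 n126822
theorem D205955 : act 5 n126822 = n205955 := rfl
theorem F438574 : act 2 n205955 = n205873 := d2_1 D205955 F438215 (iv2 F424708)
theorem F438575 : act 3 n205955 = n129238 := d6_1 D205955 (iv5 F438571) (iv3 D205954)
theorem F438576 : act 7 n205955 = n205874 := d13_2 (iv7 F424706) D205955 F438218
theorem F438577 : act 0 n205955 = n126846 := d17_2 (iv1 F216736) D205955 F204088 F100102 D115743 F350891 (iv5 D140330) F101519 (iv4 F216731)
theorem F438578 : act 0 n131006 = n205955 := d19_0 (iv5 D205955) (iv4 F424705) (iv3 D202603) (iv1 F180860) (iv5 F223724) F331525 (iv3 F186811) (iv1 F427825) (iv5 F427828) F425057 (iv3 F425059) F432289 F432288 F420454 F420451 F346552 F346550 (iv4 D131007) D131006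
theorem F438579 : act 6 n166754 = n205955 := d21_5 (iv5 D198907) F175051 (iv5 F330890) F351662 (iv1 F262496) (iv5 D205955) (iv1 D126822) (iv5 F203970) F351686 (iv1 F409838)
def n205956 : Q := act 6 n126822
theorem D205956 : act 6 n126822 = n205956 := rfl
theorem F438580 : act 3 n205956 = n155757 := d7_1 D205956 (iv6 F438572) (iv3 D205954)
theorem F438581 : act 4 n205956 = n196673 := d10_1 D205956 (iv6 F424702) F424705
theorem F438582 : act 0 n205956 = n126854 := d21_4 F362000 F438578 (iv5 D205955) D205956 F392902 (iv5 F392903) (iv1 D126742) D126743 F347033 (iv1 F219934)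
theorem F438583 : act 0 n203532 = n205956 := d21_4 (iv5 F428245) (iv1 D203424) F188394 D203532 (iv6 D205956) D205955 F438577 F204088 F330963 (iv1 F243679)
def n205957 : Q := act 0 n126830
theorem D205957 : act 0 n126830 = n205957 := rfl
theorem F438584 : act 5 n205957 = n203843 := d17_1 D205957 (iv1 F430076) (iv5 F423105) (iv4 D202168) (iv5 F359508) (iv0 F359510) (iv5 F425398) (iv0 F425401) F351458
theorem F438585 : act 6 n205957 = n200164 := d21_5 D59465 D126737 F233516 D126830 D205957 (iv5 F433904) (iv1 F438304) (iv5 D205892) (iv6 D126734) (iv1 D59463)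
theorem F438586 : act 2 n127070 = n205957 := d15_3 (iv0 D205957) (iv0 F403252) F403251
theorem F438587 : act 3 n205957 = n163004 := d0_2 D127070 F438586 (iv2 F345786) F345790 F171930
theorem F438588 : act 4 n205957 = n202378 := d1_2 F245590 F438586 (iv2 F423830)
theorem F438589 : act 7 n205957 = n203542 := d4_2 F403251 F438586 F428805
def n205958 : Q := act 4 n126832
theorem D205958 : act 4 n126832 = n205958 := rfl
theorem F438590 : act 2 n205958 = n195418 := d1_1 D205958 (iv4 F438370) F438367
theorem F438591 : act 3 n205958 = n195548 := d5_1 D205958 F397309 (iv3 F204078) (iv4 D126833) D126832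
theorem F438592 : act 6 n205958 = n197259 := d10_2 F403114 D205958 (iv4 F403754)
theorem F438593 : act 7 n205958 = n202199 := d11_2 F423594 D205958 (iv4 F423593)
theorem F438594 : act 1 n205958 = n205839 := d18_6 D64894 (iv4 F336105) (iv1 F218844) D137197 (iv5 F364307) D205958 F438088 F359107 F93811
theorem F438595 : act 0 n205958 = n205836 := d20_1 D205958 (iv4 D205836) D205835 (iv1 F438066) F410343 F352291 F438562 (iv4 D205951) (iv3 F396678) (iv1 F438371)
def n205959 : Q := act 5 n126833
theorem D205959 : act 5 n126833 = n205959 := rfl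
theorem F438596 : act 2 n205959 = n202216 := d2_1 D205959 (iv5 D202216) F326814
theorem F438597 : act 3 n205959 = n198876 := d6_1 D205959 F409700 (iv3 F204078)
theorem F438598 : act 6 n205959 = n202174 := d12_2 (iv6 F336215) D205959 (iv5 D202174) (iv6 F209141) F320576
theorem F438599 : act 7 n205959 = n202051 := d13_2 (iv7 F218819) D205959 F422803
def n205960 : Q := act 4 n126836
theorem D205960 : act 4 n126836 = n205960 := rfl
theorem F438600 : act 2 n205960 = n126840 := d1_1 D205960 (iv4 D126840) (iv2 F204081)
theorem F438601 : act 0 n205960 = n132319 := d18_2 (iv1 F204082) D205960 F212227 D132322 F350868 (iv0 F357041) (iv4 F357037) F203716 D126729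
theorem F438602 : act 1 n205960 = n132480 := d18_6 F351323 F351321 (iv1 F179499) F179497 D126836 D205960 (iv4 D132480) (iv0 D62153) F324737
def n205961 : Q := act 3 n126839
theorem D205961 : act 3 n126839 = n205961 := rfl
theorem F438603 : act 2 n205961 = n188780 := d0_1 D205961 (iv3 D188780) F325517 (iv3 F325867) F220097
theorem F438604 : act 5 n205961 = n205823 := d6_2 F220098 D205961 (iv3 D205823)
theorem F438605 : act 6 n205961 = n188789 := d7_2 F371530 D205961 F374890
theorem F438606 : act 7 n205961 = n205889 := d8_2 (iv7 F220096) D205961 F438286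
def n205962 : Q := act 1 n126840
theorem D205962 : act 1 n126840 = n205962 := rfl
theorem F438607 : act 7 n205962 = n132319 := d15_2 (iv0 F367915) D205962 F212226
theorem F438608 : act 4 n205962 = n132323 := d18_7 (iv1 F350850) F350851 (iv1 D115251) F83986 D59520 D126840 D205962 F350853 (iv5 F324736)
theorem F438609 : act 2 n132480 = n205962 := d1_3 F438608 (iv2 F359748) D132480
def n205963 : Q := act 4 n126848
theorem D205963 : act 4 n126848 = n205963 := rfl
theorem F438610 : act 2 n205963 = n131007 := d1_1 D205963 (iv4 D131007) (iv2 F325984)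
theorem F438611 : act 3 n205963 = n136881 := d5_1 D205963 (iv4 D136881) F100294 (iv4 F93951) D126848
theorem F438612 : act 6 n205963 = n188783 := d10_2 (iv6 F330910) D205963 (iv4 F374863)
theorem F438613 : act 7 n205963 = n130801 := d11_2 F330913 D205963 F209362
theorem F438614 : act 0 n205963 = n187945 := d17_0 (iv5 D187945) (iv1 F370745) F370741 F336094 (iv5 F336074) F165419 F320299 F336047 D205963
theorem F438615 : act 1 n205963 = n187950 := d18_6 F343452 (iv4 D107354) F180532 (iv4 F100084) (iv5 F204092) D205963 (iv4 F398759) F398762 F317510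
def n205964 : Q := act 0 n126849
theorem D205964 : act 0 n126849 = n205964 := rfl
theorem F438616 : act 5 n205964 = n142377 := d17_3 F429907 F429905 D205964 F225299 (iv5 F319503) F187495 F317240 F316404 (iv4 F225471)
theorem F438617 : act 6 n205964 = n188788 := d21_5 (iv5 D59406) (iv1 F48691) (iv5 F93950) D126849 D205964 (iv5 F405042) (iv1 D197618) (iv5 F338565) F338566 F98532
theorem F438618 : act 1 n205881 = n205964 := d15_0 (iv0 D205964) (iv7 F347092) (iv2 F438241)
theorem F438619 : act 2 n205879 = n205964 := d3_3 F438617 (iv2 F374887) (iv6 F438232)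
theorem F438620 : act 4 n137729 = n205964 := d10_3 F438617 (iv4 F397617) (iv6 F397622)
theorem F438621 : act 7 n152708 = n205964 := d14_0 F438617 F374889 F347110 F239470 D152708
def n205965 : Q := act 1 n126849
theorem D205965 : act 1 n126849 = n205965 := rfl
theorem F438622 : act 1 n205965 = n205881 := d15_1 D205965 (iv7 D205881) (iv2 F204094)
theorem F438623 : act 7 n205965 = n205879 := d15_2 (iv0 D205964) D205965 F438619
theorem F438624 : act 6 n152313 = n205965 := d21_3 F347049 F191322 D152313 (iv1 D205965) (iv6 D126849) F93950 F48690 D59412 D126634 (iv1 F347047)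
theorem F438625 : act 5 n148379 = n205965 := d21_6 F403174 (iv1 F344149) (iv5 D147685) D147686 F346281 (iv6 F363211) (iv1 D205965) (iv5 F429905) F429906 (iv1 F403176)
theorem F438626 : act 2 n205965 = n152708 := d2_1 F438625 (iv5 F427165) F427162
theorem F438627 : act 3 n205965 = n129204 := d6_1 F438625 F341970 F363210
theorem F438628 : act 4 n205965 = n137730 := d18_5 F402946 F402942 (iv1 F184504) D148379 F438625 F220953 F334127 F352093 F352094
def n205966 : Q := act 6 n126850
theorem D205966 : act 6 n126850 = n205966 := rfl
theorem F438629 : act 2 n205966 = n152706 := d3_1 D205966 (iv6 F347056) (iv2 F344356)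
theorem F438630 : act 3 n205966 = n166756 := d7_1 D205966 (iv6 D166756) (iv3 F344353)
theorem F438631 : act 4 n205966 = n186799 := d10_1 D205966 (iv6 D186799) F344355
theorem F438632 : act 5 n205966 = n193401 := d12_1 D205966 (iv6 D193401) (iv5 F342045) F330854 (iv5 F344354)
theorem F438633 : act 0 n152319 = n205966 := d21_4 (iv5 F176266) D200458 F416511 F347110 (iv6 D205966) F344354 F261279 (iv5 F295103) (iv6 F338591) (iv1 F346155)
theorem F438634 : act 0 n186799 = n152669 := d18_2 F438633 F438631 (iv4 D152669) (iv5 D72019) D72018 F191319 (iv4 F120193) F191323 D152319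
theorem F438635 : act 1 n152313 = n205966 := d15_0 (iv0 F438633) F239470 (iv2 F239449)
theorem F438636 : act 7 n152705 = n205966 := d13_0 F438632 F389722 (iv5 F239912)
def n205967 : Q := act 6 n126851
theorem D205967 : act 6 n126851 = n205967 := rfl
theorem F438637 : act 2 n205967 = n200084 := d3_1 D205967 F414954 F362654
theorem F438638 : act 3 n205967 = n130808 := d7_1 D205967 (iv6 F334651) F362655
theorem F438639 : act 4 n205967 = n186798 := d10_1 D205967 (iv6 D186798) F362656
theorem F438640 : act 5 n205967 = n157973 := d12_1 D205967 (iv6 D157973) (iv5 F256339) D180374 F362657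
theorem F438641 : act 7 n130818 = n205967 := d8_0 F438638 F334623 D130818
def n205968 : Q := act 0 n126854
theorem D205968 : act 0 n126854 = n205968 := rfl
theorem F438642 : act 5 n205968 = n147375 := d17_3 (iv1 F409827) F409826 D205968 (iv4 D147375) (iv5 D69090) D69088 D147369 F354856 F262477
theorem F438643 : act 3 n205968 = n198827 := d20_5 F48817 D30381 (iv4 F102189) D126854 D205968 F409437 F224392 (iv4 F364300) (iv3 D137313) (iv1 D64538)
theorem F438644 : act 1 n203532 = n205968 := d15_0 (iv0 D205968) F344432 (iv2 F428754)
def n205969 : Q := act 2 n126854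
theorem D205969 : act 2 n126854 = n205969 := rfl
theorem F438645 : act 3 n205969 = n205058 := d0_2 D126854 D205969 F434815 F346499 F165225
theorem F438646 : act 4 n205969 = n154770 := d1_2 F400258 D205969 F400261
theorem F438647 : act 5 n205969 = n200057 := d2_2 F409826 D205969 F414824
theorem F438648 : act 6 n205969 = n154768 := d3_2 (iv6 F392902) D205969 F392900
theorem F438649 : act 7 n205969 = n203532 := d4_2 (iv7 F344432) D205969 F428754
def n205970 : Q := act 4 n126855
theorem D205970 : act 4 n126855 = n205970 := rfl
theorem F438650 : act 2 n205970 = n197979 := d1_1 D205970 (iv4 D197979) (iv2 F344745)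
theorem F438651 : act 3 n205970 = n174140 := d5_1 D205970 F272939 (iv3 F348462) D198905 F409828
theorem F438652 : act 7 n205970 = n197978 := d11_2 F344741 D205970 (iv4 D197978)
theorem F438653 : act 1 n205970 = n164012 := d18_6 (iv1 D64538) F48817 D30381 (iv4 F102189) D126855 D205970 F258475 (iv0 F345344) F325294
theorem F438654 : act 6 n174138 = n205970 := d7_0 F438651 (iv6 D174140) D174138
def n205971 : Q := act 6 n126855
theorem D205971 : act 6 n126855 = n205971 := rfl
theorem F438655 : act 2 n205971 = n197980 := d3_1 D205971 (iv6 D197980) (iv2 F344745)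
theorem F438656 : act 3 n205971 = n174136 := d7_1 D205971 (iv6 F409824) F409828
theorem F438657 : act 4 n205971 = n174138 := d10_1 D205971 F438654 (iv4 D205970)
theorem F438658 : act 0 n205971 = n162948 := d21_4 (iv5 F330502) D59525 D126855 D205971 (iv6 F363107) F259400 (iv1 F120225) D152585 F362662 (iv1 D108972)
theorem F438659 : act 1 n205971 = n200171 := d15_1 (iv0 F438658) F415374 F409546
def n205972 : Q := act 4 n126865
theorem D205972 : act 4 n126865 = n205972 := rfl
theorem F438660 : act 2 n205972 = n129860 := d1_1 D205972 F208213 F204105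
theorem F438661 : act 5 n205972 = n197712 := d9_2 (iv5 F204103) D205972 (iv4 D197712) (iv5 D108607) (iv4 F167935) (iv5 F359829) (iv4 D129491) (iv5 F203399) (iv4 F437341) F437342 (iv4 D198013) (iv5 D108864) (iv4 F168808) F352223 (iv4 D129493)
theorem F438662 : act 6 n205972 = n129818 := d10_2 (iv6 F204104) D205972 (iv4 D129818)
theorem F438663 : act 7 n205972 = n129685 := d11_2 (iv7 F204107) D205972 F207866
theorem F438664 : act 0 n205972 = n137320 := d17_0 (iv5 F407119) (iv1 F407120) (iv5 D126872) (iv4 D59538) (iv5 D28267) D28266 D59536 F204106 D205972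
theorem F438665 : act 1 n205972 = n137319 := d18_6 (iv1 F209082) (iv4 F220292) (iv1 F220294) (iv4 D129493) (iv5 F204103) D205972 (iv4 D137319) F217860 F217858
def n205973 : Q := act 3 n126866
theorem D205973 : act 3 n126866 = n205973 := rfl
def n205974 : Q := act 5 n126868
theorem D205974 : act 5 n126868 = n205974 := rfl
theorem F438666 : act 3 n205974 = n135458 := d6_1 D205974 F319829 F312223
theorem F438667 : act 6 n205974 = n180218 := d12_2 D126868 D205974 F280552 F201494 F320720
theorem F438668 : act 7 n205974 = n203650 := d13_2 F362317 D205974 (iv5 D203650)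
theorem F438669 : act 0 n205974 = n135430 := d17_2 (iv1 F221427) D205974 (iv5 F332336) F332335 (iv5 F214368) F214371 F209210 F217855 (iv4 F221426)
theorem F438670 : act 1 n205974 = n197606 := d17_6 (iv1 D49739) (iv5 F46495) (iv1 F101874) F101875 (iv4 F204108) D205974 (iv5 D197606) (iv0 F167730) F100050
def n205975 : Q := act 3 n126869
theorem D205975 : act 3 n126869 = n205975 := rfl
theorem F438671 : act 4 n205975 = n127094 := d5_2 D126869 D205975 (iv3 D127094) (iv4 D59654) (iv3 F101868)
theorem F438672 : act 6 n205975 = n130502 := d7_2 (iv6 F204109) D205975 (iv3 D130502)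
def n205976 : Q := act 1 n126871
theorem D205976 : act 1 n126871 = n205976 := rfl
def n205977 : Q := act 2 n126871
theorem D205977 : act 2 n126871 = n205977 := rfl
theorem F438673 : act 4 n205977 = n201171 := d1_2 F209241 D205977 F419321
theorem F438674 : act 6 n205977 = n132379 := d3_2 (iv6 F204112) D205977 (iv2 D132379)
theorem F438675 : act 1 n205977 = n200981 := d15_0 (iv0 F418613) F207638 D205977
def n205978 : Q := act 5 n126871
theorem D205978 : act 5 n126871 = n205978 := rfl
theorem F438676 : act 3 n205978 = n126872 := d6_1 D205978 (iv5 D126872) D126871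
theorem F438677 : act 0 n205978 = n199460 := d21_7 F106101 (iv1 F106093) (iv5 D69721) (iv6 F106069) (iv1 F333198) (iv6 F204112) D205978 F412288 F335967 F176966
def n205979 : Q := act 6 n126872
theorem D205979 : act 6 n126872 = n205979 := rfl
theorem F438678 : act 5 n205979 = n132381 := d12_1 D205979 (iv6 D132381) (iv5 D62111) (iv6 F93958) D126872
theorem F438679 : act 7 n146886 = n205979 := d13_0 F438678 F326334 D146886
theorem F438680 : act 0 n201799 = n205979 := d17_2 F437917 F437915 F438678 F326333 F135535 F135532 D90490 F159977 D194001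
def n205980 : Q := act 6 n126874
theorem D205980 : act 6 n126874 = n205980 := rfl
theorem F438681 : act 2 n205980 = n199019 := d3_1 D205980 (iv6 D199019) (iv2 F220442)
theorem F438682 : act 7 n205980 = n199364 := d14_2 (iv7 F220440) D205980 (iv6 D199364) F373327 F373324
theorem F438683 : act 0 n205980 = n139300 := d21_10 (iv5 F389155) (iv1 F389156) F156189 (iv6 D88065) (iv1 F68620) D93341 F143965 D184594 F345621 D205980
theorem F438684 : act 0 n154149 = n205980 := d21_4 F306427 F190551 D73019 D154149 (iv6 D205980) (iv5 F345621) (iv1 F345622) (iv5 D126776) F329623 (iv1 F306425)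
def n205981 : Q := act 5 n126875
theorem D205981 : act 5 n126875 = n205981 := rfl
theorem F438685 : act 2 n205981 = n126876 := d2_1 D205981 (iv5 D126876) D126875
theorem F438686 : act 3 n205981 = n199023 := d6_1 D205981 (iv5 D199023) (iv3 F204114)
theorem F438687 : act 4 n205981 = n202489 := d9_1 D205981 (iv5 F424228) (iv4 D127354) F203742 F203740 (iv5 D126639) F93774 D110856 (iv4 F406111) (iv5 D197883) F168701 F203754 F204141 (iv5 D126887) (iv4 F204115)
theorem F438688 : act 6 n205981 = n141896 := d12_2 F375802 D205981 (iv5 F375806) (iv6 D189116) D189115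
theorem F438689 : act 7 n205981 = n198253 := d13_2 (iv7 F204116) D205981 F407358
theorem F438690 : act 0 n205981 = n198245 := d17_2 (iv1 F204117) D205981 F407332 (iv4 F219851) F219850 D200760 F417811 (iv0 F410344) (iv4 D199018)
theorem F438691 : act 1 n205981 = n197770 := d17_6 D59500 D126788 (iv1 F204142) (iv5 D126887) (iv4 F204115) D205981 F405710 (iv0 D126773) F93902
def n205982 : Q := act 4 n126893
theorem D205982 : act 4 n126893 = n205982 := rfl
theorem F438692 : act 3 n205982 = n167923 := d5_1 D205982 (iv4 F348329) (iv3 F348326) (iv4 F321973) F333396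
theorem F438693 : act 7 n205982 = n184272 := d11_2 (iv7 F333395) D205982 (iv4 F364533)
theorem F438694 : act 0 n205982 = n199055 := d18_2 F360170 D205982 F410494 F264139 (iv4 F309117) F313937 (iv4 F237552) F333392 F360171
def n205983 : Q := act 0 n126903
theorem D205983 : act 0 n126903 = n205983 := rfl
def n205984 : Q := act 2 n126903
theorem D205984 : act 2 n126903 = n205984 := rfl
theorem F438695 : act 3 n205984 = n204348 := d0_2 D126903 D205984 F432143 (iv3 F331854) (iv2 F166476)
theorem F438696 : act 4 n205984 = n141994 := d1_2 (iv4 F204151) D205984 (iv2 D141994)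
theorem F438697 : act 5 n205984 = n203669 := d2_2 F364930 D205984 F429332
def n205985 : Q := act 3 n126906
theorem D205985 : act 3 n126906 = n205985 := rfl
theorem F438698 : act 4 n205985 = n133323 := d5_2 F359064 D205985 F214306 F320675 (iv3 F244799)
theorem F438699 : act 5 n205985 = n197099 := d6_2 (iv5 F204153) D205985 (iv3 D197099)
theorem F438700 : act 7 n205985 = n144573 := d8_2 (iv7 F359065) D205985 F364970
theorem F438701 : act 6 n133322 = n205985 := d14_5 F438700 (iv6 F364969) (iv7 F175459) (iv6 F351641) (iv7 F214305)
def n205986 : Q := act 6 n126906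
theorem D205986 : act 6 n126906 = n205986 := rfl
theorem F438702 : act 3 n205986 = n133322 := d7_1 D205986 F438701 (iv3 D205985)
theorem F438703 : act 4 n205986 = n129584 := d10_1 D205986 F318539 F359064
theorem F438704 : act 5 n205986 = n175103 := d12_1 D205986 F358429 (iv5 D126752) F166256 (iv5 F204153)
theorem F438705 : act 0 n205986 = n203288 := d21_4 (iv5 F345597) D107646 (iv5 F204153) D205986 (iv6 D203288) (iv5 F426532) (iv1 F426534) F344163 (iv6 F331858) (iv1 D119512)
theorem F438706 : act 0 n203676 = n205986 := d21_4 (iv5 F320200) (iv1 F335269) F335265 D203676 (iv6 D205986) F204153 F247409 (iv5 F345596) (iv6 F257000) F257002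
def n205987 : Q := act 0 n126907
theorem D205987 : act 0 n126907 = n205987 := rfl
theorem F438707 : act 5 n205987 = n200162 := d17_1 D205987 F415319 (iv5 D152602) F304143 (iv5 F345597) D107647 (iv5 F204152) (iv0 D126905) D126907
theorem F438708 : act 4 n205987 = n126969 := d18_3 (iv1 D126906) D126907 D205987 F204225 (iv4 D74753) D74751 D157219 (iv0 F247409) (iv5 F204153)
theorem F438709 : act 6 n205987 = n158441 := d21_5 (iv5 F426509) F426513 (iv5 D134665) (iv6 F328681) D205987 F344922 (iv1 F393433) F393432 (iv6 D175334) (iv1 F319365)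
theorem F438710 : act 2 n172372 = n205987 := d3_3 F438709 F309960 D172372
theorem F438711 : act 3 n130890 = n205987 := d7_3 F438709 (iv3 F340960) (iv6 F351641)
theorem F438712 : act 7 n205986 = n205987 := d14_0 F438709 F309961 D172354 (iv7 F359065) D205986
def n205988 : Q := act 1 n126907
theorem D205988 : act 1 n126907 = n205988 := rfl
theorem F438713 : act 7 n205988 = n172372 := d15_2 (iv0 D205987) D205988 F438710
theorem F438714 : act 4 n205988 = n126970 := d18_7 (iv1 F203820) (iv4 D59563) (iv1 D28275) (iv4 F45780) D59554 D126907 D205988 F427743 F427741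
theorem F438715 : act 6 n205828 = n205988 := d21_3 (iv5 F329467) (iv1 F209096) (iv5 F438024) (iv1 D205988) F328681 D134665 (iv1 F426515) F426517 (iv6 F331897) F331893
theorem F438716 : act 2 n205988 = n205986 := d3_1 F438715 (iv6 D205986) F438025
theorem F438717 : act 3 n205988 = n191385 := d7_1 F438715 F383291 F438026
def n205989 : Q := act 5 n126907
theorem D205989 : act 5 n126907 = n205989 := rfl
theorem F438718 : act 3 n205989 = n154970 := d6_1 D205989 (iv5 F428245) (iv3 F428246)
theorem F438719 : act 7 n205989 = n197284 := d13_2 F429374 D205989 (iv5 F429373)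
theorem F438720 : act 4 n205989 = n197285 := d16_2 D126907 D205989 F403831 F167087 (iv5 F93795) (iv4 F203797) (iv5 F438029) (iv7 D205829) F203795
theorem F438721 : act 0 n205989 = n155096 := d17_2 (iv1 D205988) D205989 (iv5 D155096) F110323 F324258 F166116 D59590 D126970 (iv4 F438714)
theorem F438722 : act 1 n205989 = n175101 := d17_6 (iv1 F331894) (iv5 D126904) (iv1 D59553) D59554 D126907 D205989 (iv5 D175101) F307715 (iv4 F187762)
def n205990 : Q := act 3 n126913
theorem D205990 : act 3 n126913 = n205990 := rfl
theorem F438723 : act 7 n205990 = n197286 := d8_2 (iv7 F204157) D205990 (iv3 D197286)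
def n205991 : Q := act 6 n126913
theorem D205991 : act 6 n126913 = n205991 := rfl
theorem F438724 : act 2 n205991 = n144726 := d3_1 D205991 F227567 (iv2 F204156)
theorem F438725 : act 4 n205991 = n126914 := d10_1 D205991 (iv6 D126914) D126913
theorem F438726 : act 5 n205991 = n144461 := d12_1 D205991 (iv6 D144461) D144460 (iv6 F401602) F401598
theorem F438727 : act 7 n205991 = n144712 := d14_2 (iv7 F204157) D205991 (iv6 D144712) (iv7 F162091) (iv6 F167089)
theorem F438728 : act 0 n205991 = n144724 := d21_10 (iv5 F397223) (iv1 D195527) (iv5 D105650) (iv6 D48842) F37897 D49546 D107239 D196722 F401598 D205991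
theorem F438729 : act 0 n144723 = n205991 := d21_4 D195429 F401186 (iv5 F401184) F227563 (iv6 D205991) (iv5 F401598) (iv1 F401600) F397145 (iv6 F179744) (iv1 F179745)
def n205992 : Q := act 3 n126915
theorem D205992 : act 3 n126915 = n205992 := rfl
theorem F438730 : act 4 n205992 = n144245 := d5_2 (iv4 F204164) D205992 F226933 F111188 F111323
theorem F438731 : act 5 n205992 = n155940 := d6_2 (iv5 F359066) D205992 F244940
theorem F438732 : act 6 n205992 = n144243 := d7_2 F204166 D205992 F226931
theorem F438733 : act 7 n205992 = n197281 := d8_2 F204167 D205992 (iv3 D197281)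
def n205993 : Q := act 3 n126916
theorem D205993 : act 3 n126916 = n205993 := rfl
theorem F438734 : act 4 n205993 = n138334 := d5_2 (iv4 F204171) D205993 (iv3 D138334) (iv4 D64980) D64979
theorem F438735 : act 5 n205993 = n202190 := d6_2 (iv5 F397161) D205993 F423175
theorem F438736 : act 7 n205993 = n197280 := d8_2 (iv7 F204170) D205993 (iv3 D197280)
theorem F438737 : act 0 n205993 = n144440 := d19_4 D64103 (iv5 F111319) (iv4 F204171) D205993 (iv5 D144440) (iv4 F110995) (iv3 F110990) (iv1 F110993) (iv5 F53467) (iv4 F83850) (iv3 F179255) (iv1 F361066) F361067 (iv4 F384223) F384222 F357596 (iv5 D64128) F48613 (iv3 F48603)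
theorem F438738 : act 0 n144438 = n205993 := d17_2 D67682 D144438 F438735 F423176 (iv5 D129111) (iv0 D60696) (iv5 F49730) (iv0 D31435) (iv4 F49728)
def n205994 : Q := act 6 n126916
theorem D205994 : act 6 n126916 = n205994 := rfl
theorem F438739 : act 2 n205994 = n197282 := d3_1 D205994 (iv6 D197282) F204172
theorem F438740 : act 4 n205994 = n138333 := d10_1 D205994 (iv6 D138333) (iv4 F204171)
theorem F438741 : act 5 n205994 = n144424 := d12_1 D205994 (iv6 D144424) F162345 D195501 (iv5 F397161)
theorem F438742 : act 7 n205994 = n139598 := d14_2 (iv7 F204170) D205994 (iv6 D139598) F162079 F167085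
theorem F438743 : act 0 n144728 = n205994 := d21_4 F336181 D195293 F396603 (iv6 F227573) (iv6 D205994) F397161 (iv1 F397164) F397043 F347229 F347221
theorem F438744 : act 1 n144729 = n205994 := d15_0 (iv0 F438743) (iv7 F404344) F404342
def n205995 : Q := act 0 n126917
theorem D205995 : act 0 n126917 = n205995 := rfl
def n205996 : Q := act 2 n126917
theorem D205996 : act 2 n126917 = n205996 := rfl
theorem F438745 : act 3 n205996 = n192267 := d0_2 D126917 D205996 F386249 F167077 (iv2 F93988)
theorem F438746 : act 4 n205996 = n193162 := d1_2 F216977 D205996 F388992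
theorem F438747 : act 6 n205996 = n197219 := d3_2 (iv6 F204173) D205996 (iv2 D197219)
theorem F438748 : act 0 n196604 = n205996 := d21_4 (iv5 D117098) F85113 D107131 (iv6 F401208) F438747 F403601 F201209 (iv5 F343143) D197347 (iv1 F404009)
theorem F438749 : act 7 n193300 = n205996 := d11_0 F438746 F388993 D193300
theorem F438750 : act 1 n195511 = n193300 := d15_1 (iv0 F403634) F438749 (iv2 D205996)
def n205997 : Q := act 5 n126917
theorem D205997 : act 5 n126917 = n205997 := rfl
theorem F438751 : act 3 n205997 = n126918 := d6_1 D205997 (iv5 D126918) D126917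
theorem F438752 : act 6 n205997 = n194304 := d12_2 (iv6 F204173) D205997 F392756 F317337 (iv5 F317336)
theorem F438753 : act 4 n194305 = n205997 := d10_3 F438752 (iv4 D194304) D194305
def n205998 : Q := act 7 n126917
theorem D205998 : act 7 n126917 = n205998 := rfl
theorem F438754 : act 2 n205998 = n193300 := d4_1 D205998 F438749 (iv2 D205996)
theorem F438755 : act 3 n205998 = n126919 := d8_1 D205998 (iv7 D126919) D126917
theorem F438756 : act 4 n205998 = n193299 := d11_1 D205998 F389418 F216977
theorem F438757 : act 6 n205998 = n144448 := d14_1 D205998 F227245 (iv6 D108080) (iv7 F166941) (iv6 F204173)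
theorem F438758 : act 1 n193300 = n205995 := d15_0 (iv0 D205995) D205998 F438754
theorem F438759 : act 1 n196604 = n205998 := d15_1 (iv0 F438748) (iv7 D205998) D205996
theorem F438760 : act 7 n205995 = n196604 := d15_2 F438750 F438758 F401207
theorem F438761 : act 5 n196605 = n205995 := d13_3 F438760 (iv5 D196604) D196605
theorem F438762 : act 5 n195510 = n194741 := d21_2 (iv5 F438761) (iv1 F401213) F394320 F224915 (iv6 F403640) F403636 (iv1 F280175) (iv5 F317336) (iv6 F204173) D205995
theorem F438763 : act 2 n195442 = n195510 := d2_3 F438762 F394318 D195442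
theorem F438764 : act 3 n194742 = n195510 := d6_3 F438762 (iv3 D194741) D194742
theorem F438765 : act 7 n195509 = n195442 := d15_2 F401213 F401214 F438763
theorem F438766 : act 7 n196602 = n195510 := d15_2 F414460 F401212 (iv2 F438763)
theorem F438767 : act 2 n195509 = n196602 := d4_3 F438766 (iv2 F438763) (iv7 F438765)
theorem F438768 : act 3 n195455 = n195509 := d8_3 F438765 F397000 D195455
theorem F438769 : act 5 n195443 = n195509 := d13_3 F438765 (iv5 D195442) D195443
def n205999 : Q := act 4 n126918
theorem D205999 : act 4 n126918 = n205999 := rfl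
theorem F438770 : act 2 n205999 = n197284 := d1_1 D205999 (iv4 D197284) (iv2 F204174)
theorem F438771 : act 3 n205999 = n194308 := d5_1 D205999 F392769 (iv3 F392758) F438753 F438751
theorem F438772 : act 0 n205999 = n175101 := d17_0 (iv5 D175101) (iv1 D83626) D83627 D175105 (iv5 F396660) F396663 D195449 F397017 D205999
theorem F438773 : act 1 n205999 = n155096 := d18_8 (iv1 F328951) (iv4 F187762) (iv1 F331894) F331896 (iv5 F224814) (iv4 F397016) F397017 D205999 (iv5 D155096)
theorem F438774 : act 6 n194307 = n205999 := d21_9 (iv5 D175101) (iv1 D83626) D83627 F128692 (iv1 F339373) (iv6 F187744) (iv5 D119283) D119281 (iv5 F392765) F438772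
def n206000 : Q := act 6 n126918
theorem D206000 : act 6 n126918 = n206000 := rfl
theorem F438775 : act 2 n206000 = n197278 := d3_1 D206000 F403817 (iv2 F204174)
theorem F438776 : act 3 n206000 = n194304 := d7_1 D206000 (iv6 F438752) F438751
theorem F438777 : act 4 n206000 = n194307 := d10_1 D206000 F438774 (iv4 D205999)
theorem F438778 : act 5 n206000 = n197220 := d12_1 D206000 (iv6 D197220) (iv5 D108022) (iv6 F93989) D126918
theorem F438779 : act 0 n197286 = n206000 := d18_2 F403047 (iv4 F403834) F438777 F392765 F310881 F340208 F321380 (iv0 D128168) D128170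
def n206001 : Q := act 7 n126918
theorem D206001 : act 7 n126918 = n206001 := rfl
theorem F438780 : act 2 n206001 = n197285 := d4_1 D206001 (iv7 D197285) (iv2 F204174)
theorem F438781 : act 5 n206001 = n126919 := d13_1 D206001 (iv7 D126919) D126918
theorem F438782 : act 1 n197283 = n206001 := d15_1 D197283 (iv7 D206001) F204174
theorem F438783 : act 1 n206001 = n144411 := d15_1 F438782 (iv7 F397029) F403828
theorem F438784 : act 6 n206001 = n179911 := d21_5 (iv5 F404141) (iv1 F404143) (iv5 D144410) D144411 (iv1 F438783) F356558 (iv1 F403697) (iv5 D197240) F166970 (iv1 F396675)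
def n206002 : Q := act 6 n126921
theorem D206002 : act 6 n126921 = n206002 := rfl
theorem F438785 : act 3 n206002 = n156298 := d7_1 D206002 (iv6 F423570) F423569
theorem F438786 : act 4 n206002 = n126923 := d10_1 D206002 (iv6 D126923) D126921
theorem F438787 : act 5 n206002 = n199151 := d12_1 D206002 (iv6 D199151) (iv5 F382210) (iv6 F382211) F382338
theorem F438788 : act 7 n206002 = n202418 := d14_2 (iv7 F392731) D206002 F423926 F355179 F392732
theorem F438789 : act 0 n206002 = n194605 := d21_4 (iv5 D97341) D97339 F382338 D206002 F393793 F392838 (iv1 F381613) (iv5 F378794) (iv6 F362964) (iv1 F367008)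
theorem F438790 : act 0 n194600 = n206002 := d17_0 F438787 F410905 F402085 (iv4 F390199) (iv5 D166646) (iv0 F338322) D163043 (iv0 F345640) (iv4 F393787)
def n206003 : Q := act 6 n126922
theorem D206003 : act 6 n126922 = n206003 := rfl
theorem F438791 : act 3 n206003 = n132698 := d7_1 D206003 (iv6 F423575) F423574
theorem F438792 : act 5 n206003 = n180590 := d12_1 D206003 (iv6 F364607) F355482 (iv6 D126923) D126922
theorem F438793 : act 7 n206003 = n132716 := d14_2 F438043 D206003 F354292 (iv7 F354297) (iv6 F438042)
theorem F438794 : act 0 n132096 = n206003 := d21_4 F319326 (iv1 F317956) (iv5 D132095) D132096 (iv6 D206003) (iv5 D126922) (iv1 F203808) D205833 F438052 (iv1 F212526)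
def n206004 : Q := act 5 n126929
theorem D206004 : act 5 n126929 = n206004 := rfl
theorem F438795 : act 2 n206004 = n126933 := d2_1 D206004 (iv5 D126933) (iv2 F204183)
theorem F438796 : act 6 n206004 = n132111 := d12_2 F390507 D206004 F380612 (iv6 F380610) (iv5 F390506)
theorem F438797 : act 1 n206004 = n202862 := d17_6 D64288 D136755 (iv1 F333078) (iv5 D126930) D126929 D206004 (iv5 D202862) (iv0 F183079) F100073
theorem F438798 : act 4 n132113 = n206004 := d10_3 F438796 (iv4 D132111) D132113
def n206005 : Q := act 4 n126930
theorem D206005 : act 4 n126930 = n206005 := rfl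
theorem F438799 : act 2 n206005 = n126937 := d1_1 D206005 (iv4 D126937) (iv2 F204185)
theorem F438800 : act 3 n206005 = n195724 := d5_1 D206005 F397955 (iv3 F177053) (iv4 F176994) (iv3 F204186)
theorem F438801 : act 0 n206005 = n205545 := d18_2 (iv1 F333078) D206005 F436933 (iv5 F354110) F219894 F220246 F220239 F218789 D136755
theorem F438802 : act 1 n206005 = n131906 := d18_6 (iv1 D179129) F321152 (iv1 F204184) (iv4 D126929) D126930 D206005 F211339 (iv0 F212649) F337779
theorem F438803 : act 6 n193646 = n206005 := d3_0 F438799 (iv6 F365317) D193646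
def n206006 : Q := act 6 n126930
theorem D206006 : act 6 n126930 = n206006 := rfl
theorem F438804 : act 2 n206006 = n126938 := d3_1 D206006 (iv6 D126938) (iv2 F204185)
theorem F438805 : act 3 n206006 = n158798 := d7_1 D206006 F365896 (iv3 F204186)
theorem F438806 : act 4 n206006 = n193646 := d10_1 D206006 F438803 (iv4 D206005)
theorem F438807 : act 5 n206006 = n205453 := d12_1 D206006 (iv6 D205453) (iv5 F354122) (iv6 D126931) D126930
theorem F438808 : act 7 n206006 = n158788 := d14_2 F438053 D206006 (iv6 D158788) (iv7 F317032) (iv6 F438052)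
theorem F438809 : act 0 n203964 = n206006 := d21_1 D203964 F438807 (iv6 D205453) (iv1 F202687) (iv6 D69042) (iv5 D32118) (iv1 F51035) D68995 D147163 F344731
def n206007 : Q := act 1 n126933
theorem D206007 : act 1 n126933 = n206007 := rfl
theorem F438810 : act 5 n206007 = n137071 := d17_7 (iv1 F218790) F333070 (iv1 D126936) (iv5 D59574) D59573 D126933 D206007 F331270 (iv4 F331266)
theorem F438811 : act 2 n202862 = n206007 := d2_3 F438810 (iv2 F220243) D202862
def n206008 : Q := act 4 n126935
theorem D206008 : act 4 n126935 = n206008 := rfl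
theorem F438812 : act 6 n206008 = n132315 := d10_2 (iv6 F347130) D206008 (iv4 D132315)
theorem F438813 : act 5 n206008 = n205348 := d17_5 F418119 F203843 D135992 (iv5 F333077) D206008 (iv0 F436242) F436146 (iv0 D200839) D200841
def n206009 : Q := act 3 n126936
theorem D206009 : act 3 n126936 = n206009 := rfl
theorem F438814 : act 2 n206009 = n132479 := d0_1 D206009 (iv3 D132479) F359748 (iv3 F350863) (iv2 F333071)
theorem F438815 : act 5 n206009 = n174552 := d6_2 F333070 D206009 F362965
theorem F438816 : act 7 n206009 = n158744 := d8_2 (iv7 F333072) D206009 (iv3 F361872)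
theorem F438817 : act 4 n206009 = n130938 := d20_6 (iv4 F319943) (iv1 F143124) (iv4 F204209) (iv3 F438051) F438054 D206009 (iv1 F365179) F365175 F330905 F322895
theorem F438818 : act 6 n180749 = n206009 := d10_0 F438817 F374598 (iv4 F374597)
theorem F438819 : act 0 n195931 = n206009 := d18_0 F438817 (iv1 F365179) F365175 F336037 (iv4 F171416) F401428 F401424 F382336 D195931
theorem F438820 : act 1 n195923 = n206009 := d18_6 (iv1 F371994) F371064 (iv1 F371990) (iv4 D187944) D187945 (iv4 F398743) F438817 (iv0 D130938) D130940
theorem F438821 : act 0 n129724 = n127051 := d21_10 (iv5 F355085) (iv1 F256818) (iv5 F281338) F438818 (iv1 F438820) (iv6 F416747) (iv5 D200498) F363989 F363988 (iv6 F364574)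
def n206010 : Q := act 4 n126936
theorem D206010 : act 4 n126936 = n206010 := rfl
theorem F438822 : act 5 n206010 = n200569 := d17_5 F438044 F204265 (iv1 F218790) F333070 D206010 (iv0 F435545) F435544 (iv0 F433983) (iv4 F438046)
theorem F438823 : act 3 n200570 = n206010 := d20_5 F391955 (iv1 F386015) (iv4 F391973) F391972 F417004 (iv4 D206010) (iv1 D126936) D126937 F204192 D137554
def n206011 : Q := act 6 n126936
theorem D206011 : act 6 n126936 = n206011 := rfl
theorem F438824 : act 2 n206011 = n154351 := d3_1 D206011 F347133 (iv2 F333071)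
theorem F438825 : act 3 n206011 = n180749 := d7_1 D206011 F438818 (iv3 D206009)
theorem F438826 : act 5 n206011 = n128220 := d12_1 D206011 (iv6 D128220) (iv5 F206346) (iv6 F347140) F333070
theorem F438827 : act 7 n206011 = n128223 := d14_2 (iv7 F333072) D206011 F206357 (iv7 F201170) F347131
theorem F438828 : act 0 n206011 = n154349 := d21_4 F204265 (iv1 F218790) F333070 D206011 (iv6 F348866) F348857 (iv1 F348860) F354300 (iv6 F438042) F438044
theorem F438829 : act 1 n206011 = n154348 := d15_1 (iv0 F438828) (iv7 F374612) F374610
def n206012 : Q := act 1 n126937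
theorem D206012 : act 1 n126937 = n206012 := rfl
theorem F438830 : act 7 n206012 = n205545 := d15_2 (iv0 F333069) D206012 F436932
theorem F438831 : act 4 n206012 = n132507 := d18_7 F392725 F204188 (iv1 D126932) (iv4 D59573) D59574 D126937 D206012 F212648 (iv5 F392724)
theorem F438832 : act 2 n131906 = n206012 := d1_3 F438831 (iv2 D132507) (iv4 F211339)
theorem F438833 : act 3 n198755 = n206012 := d5_5 F438831 (iv3 F325319) (iv4 F409098) F409095 D198755
theorem F438834 : act 5 n206012 = n205376 := d6_2 (iv5 F409100) F438833 (iv3 D205376)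
def n206013 : Q := act 5 n126937
theorem D206013 : act 5 n126937 = n206013 := rfl
theorem F438835 : act 3 n206013 = n137556 := d6_1 D206013 (iv5 D137556) (iv3 F204192)
theorem F438836 : act 0 n205472 = n206013 := d19_0 (iv5 D206013) (iv4 D126937) F93997 D59576 F93999 F48650 F41139 (iv1 F37075) (iv5 D23787) (iv4 F22160) (iv3 D13326) (iv1 F9858) (iv5 F9866) (iv4 F22238) (iv3 F45277) (iv1 F170419) (iv5 F202359) (iv4 F436106) (iv3 F436599)
theorem F438837 : act 1 n200535 = n206013 := d15_0 (iv0 F438836) F436600 F436103
def n206014 : Q := act 1 n126938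
theorem D206014 : act 1 n126938 = n206014 := rfl
theorem F438838 : act 1 n206014 = n158788 := d15_1 D206014 (iv7 F438808) F438804
theorem F438839 : act 5 n206014 = n203962 := d18_9 F430607 F304018 (iv1 D176711) F129315 (iv5 F322727) (iv4 F211270) (iv0 F365319) (iv4 F365318) D206014
theorem F438840 : act 2 n203964 = n206014 := d2_3 F438839 F430603 D203964
theorem F438841 : act 1 n158788 = n129350 := d15_1 F438838 (iv7 F430617) F438840
def n206015 : Q := act 7 n126938
theorem D206015 : act 7 n126938 = n206015 := rfl
theorem F438842 : act 2 n206015 = n158788 := d4_1 D206015 (iv7 F438808) F438804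
theorem F438843 : act 3 n206015 = n126948 := d8_1 D206015 (iv7 D126948) (iv3 F204193)
theorem F438844 : act 4 n206015 = n190534 := d11_1 D206015 F380017 (iv4 F365318)
theorem F438845 : act 5 n206015 = n203819 := d13_1 D206015 F429963 F416537
theorem F438846 : act 6 n206015 = n130756 := d14_1 D206015 (iv7 F216661) F347135 F203812 D126938
theorem F438847 : act 1 n203964 = n206015 := d15_1 (iv0 F438809) (iv7 D206015) (iv2 F438804)
def n206016 : Q := act 6 n126945
theorem D206016 : act 6 n126945 = n206016 := rfl
theorem F438848 : act 2 n206016 = n130843 := d3_1 D206016 (iv6 D130843) (iv2 F336493)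
theorem F438849 : act 3 n206016 = n152667 := d7_1 D206016 F346126 (iv3 F336494)
theorem F438850 : act 4 n206016 = n137849 := d10_1 D206016 (iv6 D137849) (iv4 F336495)
theorem F438851 : act 5 n206016 = n202739 := d12_1 D206016 F425357 F303121 F348623 (iv5 F336496)
theorem F438852 : act 7 n206016 = n152667 := d14_2 (iv7 F336497) D206016 F346126 (iv7 F209393) F209392
theorem F438853 : act 0 n206016 = n152303 := d21_4 (iv5 F339506) (iv1 F302619) (iv5 F336496) D206016 (iv6 F352083) F352081 (iv1 D148386) (iv5 F323492) (iv6 F97115) (iv1 F348616)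
theorem F438854 : act 0 n152306 = n206016 := d21_4 (iv5 F78628) D107743 (iv5 F338703) F338705 (iv6 D206016) F336496 F302618 (iv5 F339512) F337834 (iv1 D59617)
def n206017 : Q := act 4 n126947
theorem D206017 : act 4 n126947 = n206017 := rfl
theorem F438855 : act 2 n206017 = n197801 := d1_1 D206017 F405837 F338714
theorem F438856 : act 6 n206017 = n126951 := d10_2 (iv6 F204200) D206017 (iv4 D126951)
theorem F438857 : act 7 n206017 = n203820 := d11_2 F341233 D206017 (iv4 D203820)
theorem F438858 : act 0 n206017 = n198255 := d17_0 (iv5 F407366) (iv1 D183046) (iv5 F339515) (iv4 D135382) (iv5 D63633) D63632 (iv5 F339527) (iv0 F353954) D206017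
theorem F438859 : act 1 n206017 = n180485 := d18_6 (iv1 F338480) (iv4 D137583) (iv1 D64665) (iv4 F94004) D126947 D206017 F280909 F407050 F407049
def n206018 : Q := act 1 n126951
theorem D206018 : act 1 n126951 = n206018 := rfl
theorem F438860 : act 1 n206018 = n197787 := d15_1 D206018 F405791 F330494
theorem F438861 : act 7 n206018 = n197799 := d15_2 (iv0 F402864) D206018 (iv2 F405831)
theorem F438862 : act 4 n206018 = n197059 := d18_7 F180909 (iv4 D116119) F102184 F48810 D59580 D126951 D206018 (iv0 D197059) F330504
theorem F438863 : act 3 n180492 = n206018 := d20_3 F359844 (iv1 F387321) F387319 (iv1 D206018) (iv3 F408582) (iv4 D198622) (iv1 F174562) F174559 (iv3 F216944) (iv1 F216950)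
theorem F438864 : act 2 n206018 = n197765 := d0_1 F438863 (iv3 D197765) F352256 D109079 F366137
theorem F438865 : act 6 n206018 = n199119 := d7_2 (iv6 F387316) F438863 F410754
def n206019 : Q := act 5 n126951
theorem D206019 : act 5 n126951 = n206019 := rfl
theorem F438866 : act 2 n206019 = n197800 := d2_1 D206019 (iv5 D197800) F330494
theorem F438867 : act 0 n206019 = n198248 := d17_2 (iv1 D206018) D206019 F407341 (iv4 D197979) F344746 (iv0 F165227) (iv5 F330499) F402856 (iv4 F438862)
theorem F438868 : act 6 n188053 = n206019 := d3_0 F438866 (iv6 F405835) F372228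
def n206020 : Q := act 7 n126951
theorem D206020 : act 7 n126951 = n206020 := rfl
theorem F438869 : act 2 n206020 = n197787 := d4_1 D206020 F405791 F330494
theorem F438870 : act 3 n206020 = n197791 := d8_1 D206020 (iv7 F408583) F408582
theorem F438871 : act 4 n206020 = n126952 := d11_1 D206020 (iv7 D126952) D126951
theorem F438872 : act 1 n197765 = n206020 := d15_1 F405686 (iv7 D206020) (iv2 F330494)
theorem F438873 : act 1 n206020 = n197799 := d15_1 F438872 (iv7 F438861) F438864
def n206021 : Q := act 6 n126970
theorem D206021 : act 6 n126970 = n206021 := rfl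
theorem F438874 : act 2 n206021 = n155795 := d3_1 D206021 (iv6 F318539) F320673
theorem F438875 : act 4 n206021 = n205828 := d10_1 D206021 F438715 F438714
theorem F438876 : act 5 n206021 = n155788 := d12_1 D206021 (iv6 D155788) F324658 (iv6 F166260) (iv5 F204226)
theorem F438877 : act 7 n206021 = n172155 := d14_2 (iv7 F358558) D206021 (iv6 D172155) F312198 D82543
theorem F438878 : act 0 n206021 = n126971 := d21_4 (iv5 D130522) (iv1 F166261) (iv5 F204226) D206021 F327819 D134655 F334098 (iv5 D84072) F315793 (iv1 F328134)
theorem F438879 : act 0 n134679 = n206021 := d21_4 (iv5 D143870) (iv1 F330206) (iv5 D134678) D134679 (iv6 D206021) F204226 F328143 (iv5 D84186) (iv6 F301368) (iv1 F319375)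
def n206022 : Q := act 2 n127004
theorem D206022 : act 2 n127004 = n206022 := rfl
theorem F438880 : act 5 n206022 = n202441 := d2_2 F223102 D206022 F424007
theorem F438881 : act 1 n206022 = n205006 := d15_0 (iv0 F434574) (iv7 F359759) D206022
theorem F438882 : act 1 n200080 = n206022 := d15_0 F438881 F434572 (iv2 F414937)
def n206023 : Q := act 4 n127004
theorem D206023 : act 4 n127004 = n206023 := rfl
theorem F438883 : act 3 n206023 = n195544 := d5_1 D206023 (iv4 D195544) F162268 F323864 D127004
theorem F438884 : act 7 n206023 = n205975 := d11_2 (iv7 F359759) D206023 F438671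
theorem F438885 : act 0 n206023 = n205906 := d18_2 F354183 D206023 (iv4 D205906) F203970 F93939 D65862 (iv4 F101516) D126975 F350890
def n206024 : Q := act 2 n127007
theorem D206024 : act 2 n127007 = n206024 := rfl
theorem F438886 : act 5 n206024 = n202401 := d2_2 F223105 D206024 F423871
theorem F438887 : act 6 n206024 = n132582 := d3_2 (iv6 F324375) D206024 F337574
theorem F438888 : act 1 n206024 = n132714 := d15_0 (iv0 F359760) (iv7 F324376) D206024
theorem F438889 : act 1 n132607 = n206024 := d15_0 F438888 (iv7 F351374) F359999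
def n206025 : Q := act 4 n127007
theorem D206025 : act 4 n127007 = n206025 := rfl
theorem F438890 : act 3 n206025 = n133171 := d5_1 D206025 F213944 F97377 F324377 D127007
theorem F438891 : act 6 n206025 = n133169 := d10_2 (iv6 F324375) D206025 F213941
theorem F438892 : act 0 n206025 = n205897 := d18_2 F423577 D206025 (iv4 D205897) F347037 D126833 (iv0 F326822) F326825 (iv0 F224449) D202307
theorem F438893 : act 1 n206025 = n148742 := d18_6 D59462 D126728 F223106 (iv4 F223104) F223105 D206025 F233517 (iv0 D126737) (iv5 D59465)
def n206026 : Q := act 4 n127025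
theorem D206026 : act 4 n127025 = n206026 := rfl
theorem F438894 : act 2 n206026 = n127026 := d1_1 D206026 (iv4 D127026) D127025
theorem F438895 : act 3 n206026 = n200640 := d5_1 D206026 F417322 F371494 (iv4 F219854) F219853
theorem F438896 : act 6 n206026 = n200638 := d10_2 (iv6 F418076) D206026 F418075
theorem F438897 : act 1 n206026 = n204879 := d18_6 (iv1 F393007) F322567 F331271 (iv4 F331266) (iv5 F204265) D206026 F433993 (iv0 F437963) F393008
def n206027 : Q := act 0 n127026
theorem D206027 : act 0 n127026 = n206027 := rfl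
theorem F438898 : act 4 n206027 = n132743 := d18_3 F355419 D127026 D206027 (iv5 F322389) F204410 (iv0 F181751) (iv4 D59573) D59571 D126927
theorem F438899 : act 3 n206027 = n132003 := d20_5 F395994 (iv1 D64479) D64480 (iv3 F204266) D206027 F211501 F96540 (iv4 F207326) (iv3 F418019) (iv1 F418022)
theorem F438900 : act 5 n200535 = n206027 := d6_0 F438899 (iv5 F360479) (iv3 F416920)
theorem F438901 : act 6 n132001 = n206027 := d7_0 F438899 (iv6 D132003) D132001
theorem F438902 : act 7 n204879 = n206027 := d8_0 F438899 F211502 (iv3 F433992)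
def n206028 : Q := act 5 n127026
theorem D206028 : act 5 n127026 = n206028 := rfl
theorem F438903 : act 3 n206028 = n137170 := d6_1 D206028 (iv5 D137170) (iv3 F204266)
theorem F438904 : act 6 n206028 = n199727 := d12_2 (iv6 F407319) D206028 (iv5 D199727) (iv6 F363309) D198240
theorem F438905 : act 1 n206028 = n205235 := d17_6 F226676 (iv5 D136760) (iv1 D64289) (iv5 F94021) D127026 D206028 (iv5 F436934) (iv0 F438801) (iv4 D206005)
theorem F438906 : act 4 n206028 = n205395 := d20_0 (iv1 D205395) (iv4 F436234) F436233 (iv1 D205187) (iv3 F202381) F202382 (iv1 F202368) (iv4 F360433) (iv3 F435548) (iv1 F438905)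
def n206029 : Q := act 3 n127037
theorem D206029 : act 3 n127037 = n206029 := rfl
theorem F438907 : act 2 n206029 = n195153 := d0_1 D206029 F395991 F350313 (iv3 D136199) (iv2 F350331)
theorem F438908 : act 4 n206029 = n146482 := d5_2 F410357 D206029 F229808 (iv4 F418878) F418877
theorem F438909 : act 5 n206029 = n136786 := d6_2 (iv5 F350332) D206029 (iv3 D136786)
theorem F438910 : act 6 n206029 = n146481 := d7_2 (iv6 F350333) D206029 F342847
theorem F438911 : act 7 n206029 = n136194 := d8_2 (iv7 F350334) D206029 (iv3 D136194)
theorem F438912 : act 0 n206029 = n137668 := d20_4 F430629 F410361 F410357 D206029 F220835 (iv4 F176460) (iv1 F219114) D205527 F436846 F430633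
def n206030 : Q := act 4 n127051
theorem D206030 : act 4 n127051 = n206030 := rfl
theorem F438913 : act 3 n206030 = n193336 := d5_1 D206030 (iv4 D193336) F156279 (iv4 F337831) D127051
theorem F438914 : act 6 n206030 = n185784 := d10_2 (iv6 F355105) D206030 (iv4 F351700)
theorem F438915 : act 0 n206030 = n132806 := d20_7 F208734 D134366 F363251 (iv3 F341744) F337832 D127051 D206030 (iv4 D132806) D132805 (iv1 F394443)
theorem F438916 : act 0 n132801 = n206030 := d20_1 D132801 (iv4 D206030) (iv3 D127051) (iv1 D59617) F321542 F48979 (iv1 D14247) (iv4 F23381) (iv3 F47283) D62326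
def n206031 : Q := act 3 n127056
theorem D206031 : act 3 n127056 = n206031 := rfl
theorem F438917 : act 4 n206031 = n132102 := d5_2 F409988 D206031 F358977 F389585 (iv3 F409990)
theorem F438918 : act 5 n206031 = n165868 := d6_2 (iv5 F338712) D206031 (iv3 D165868)
theorem F438919 : act 6 n206031 = n134533 := d7_2 (iv6 F333828) D206031 F216515
theorem F438920 : act 7 n206031 = n132096 := d8_2 (iv7 F333829) D206031 F211636
theorem F438921 : act 0 n206031 = n132716 := d20_4 F203971 D198939 F409988 D206031 (iv3 D132716) (iv4 F334312) F437862 F437859 F359607 (iv1 F351696)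
def n206032 : Q := act 5 n127070
theorem D206032 : act 5 n127070 = n206032 := rfl
theorem F438922 : act 2 n206032 = n203843 := d2_1 D206032 (iv5 F438584) (iv2 F438586)
theorem F438923 : act 3 n206032 = n127071 := d6_1 D206032 (iv5 D127071) D127070
theorem F438924 : act 4 n206032 = n131555 := d9_1 D206032 F342338 (iv4 D177188) D177189 (iv4 F429009) F429008 (iv4 F428807) F428808 F210805 F354797 (iv4 F129502) D177034 (iv4 F429017) F429016 F245590
theorem F438925 : act 7 n206032 = n131551 := d13_2 F403251 D206032 F403256
theorem F438926 : act 1 n206032 = n203483 := d17_6 D115685 F359989 (iv1 F429014) F429016 F245590 D206032 F428492 (iv0 D200470) F176294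
def n206033 : Q := act 1 n127071
theorem D206033 : act 1 n127071 = n206033 := rfl
theorem F438927 : act 1 n206033 = n127077 := d15_1 D206033 (iv7 F349868) F349867
theorem F438928 : act 7 n206033 = n198844 := d15_2 F349879 D206033 F409530
theorem F438929 : act 5 n206033 = n197100 := d17_7 F166392 F112193 F101935 (iv5 D59626) D59625 D127071 D206033 (iv0 F403272) (iv4 D197148)
theorem F438930 : act 4 n206033 = n198672 := d17_9 (iv1 F408818) F345354 (iv1 F408794) (iv5 D198667) (iv4 F353275) (iv5 F346277) (iv0 F166298) D127071 D206033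
theorem F438931 : act 3 n159201 = n206033 := d20_9 (iv4 F433770) (iv1 F433773) F272999 (iv3 F199101) (iv1 F199105) (iv3 F339269) (iv4 F362029) D196486 F400855 (iv1 D206033)
theorem F438932 : act 6 n180111 = n206033 := d21_3 F335311 (iv1 F307597) (iv5 F342100) (iv1 D206033) (iv6 F353247) F271878 F321092 F414436 F414432 (iv1 F335309)
theorem F438933 : act 2 n206033 = n198845 := d3_1 F438932 F409538 (iv2 F344921)
def n206034 : Q := act 0 n127074
theorem D206034 : act 0 n127074 = n206034 := rfl
theorem F438934 : act 5 n206034 = n198845 := d17_1 D206034 (iv1 F409539) (iv5 F349866) (iv4 D107755) D107756 (iv0 F182647) (iv5 F204306) (iv0 D127073) D127074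
theorem F438935 : act 4 n206034 = n130526 := d18_1 D206034 (iv1 F219837) (iv4 F227084) F336482 (iv4 F281176) F353284 (iv4 F353275) (iv0 F353273) F349871
theorem F438936 : act 3 n206034 = n198852 := d20_5 F351510 (iv1 F351506) (iv4 F402907) F402906 D206034 F409572 (iv1 F436384) (iv4 D205430) (iv3 F409515) (iv1 F409518)
theorem F438937 : act 6 n206034 = n130525 := d21_5 D126857 (iv1 F352235) (iv5 F359829) F207642 D206034 (iv5 F331929) F348184 F204154 (iv6 F203782) (iv1 F203783)
theorem F438938 : act 2 n197100 = n206034 := d15_3 (iv0 D206034) F219838 (iv7 F403042)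
theorem F438939 : act 1 n127078 = n206034 := d15_0 (iv0 D206034) F227097 F227095
theorem F438940 : act 7 n206034 = n136775 := d15_2 (iv0 F396887) F438939 F219981
def n206035 : Q := act 6 n127077
theorem D206035 : act 6 n127077 = n206035 := rfl
theorem F438941 : act 2 n206035 = n131550 := d3_1 D206035 F403261 F403257
theorem F438942 : act 3 n206035 = n133025 := d7_1 D206035 F333978 (iv3 F349869)
theorem F438943 : act 4 n206035 = n164099 := d10_1 D206035 (iv6 F353276) (iv4 F349870)
theorem F438944 : act 5 n206035 = n133024 := d12_1 D206035 F309292 (iv5 F343949) F203155 D127077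
theorem F438945 : act 0 n206035 = n152247 := d21_4 (iv5 F346277) (iv1 F166986) D127077 D206035 F330880 (iv5 F201643) (iv1 F258468) F257781 D176877 F353273
theorem F438946 : act 1 n206035 = n152250 := d15_1 (iv0 F438945) (iv7 F427628) F427625
theorem F438947 : act 7 n206035 = n186852 := d15_2 (iv0 F358667) (iv0 F438945) F368269
def n206036 : Q := act 5 n127085
theorem D206036 : act 5 n127085 = n206036 := rfl
theorem F438948 : act 3 n206036 = n127086 := d6_1 D206036 (iv5 D127086) D127085
theorem F438949 : act 7 n206036 = n196673 := d13_2 (iv7 F204329) D206036 (iv5 D196673)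
def n206037 : Q := act 6 n127085
theorem D206037 : act 6 n127085 = n206037 := rfl
theorem F438950 : act 3 n206037 = n127087 := d7_1 D206037 (iv6 D127087) D127085
theorem F438951 : act 0 n206037 = n173379 := d20_4 F165438 F96449 (iv4 F204333) (iv3 F438950) (iv3 D173379) (iv4 D82970) D82968 (iv4 F271715) (iv3 F332381) (iv1 F227010)
def n206038 : Q := act 5 n127087
theorem D206038 : act 5 n127087 = n206038 := rfl
theorem F438952 : act 2 n206038 = n196422 := d2_1 D206038 F400645 (iv2 F204332)
theorem F438953 : act 7 n206038 = n196423 := d13_2 F411348 D206038 (iv5 F411352)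
theorem F438954 : act 0 n206038 = n145305 := d17_2 F211334 D206038 (iv5 D145305) (iv4 F104283) (iv5 F164378) F209495 F209493 (iv0 F164850) (iv4 F165674)
theorem F438955 : act 1 n206038 = n145303 := d17_6 F45118 (iv5 F46375) D60520 F95137 (iv4 F204333) D206038 (iv5 D145303) (iv0 D68122) F50024
def n206039 : Q := act 1 n127089
theorem D206039 : act 1 n127089 = n206039 := rfl
theorem F438956 : act 1 n206039 = n198754 := d15_1 D206039 F409097 F349599
theorem F438957 : act 7 n206039 = n205544 := d15_2 (iv0 F417698) D206039 (iv2 F436930)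
theorem F438958 : act 4 n206039 = n200759 := d17_9 (iv1 F417808) (iv5 F348508) F375915 (iv5 F418074) (iv4 F418075) F417316 F358841 F358839 D206039
theorem F438959 : act 5 n140404 = n206039 := d16_5 F401932 D199054 F410490 (iv5 D140405) D140404 F438958 (iv5 F438062) F438063 (iv2 F401931)
theorem F438960 : act 2 n206039 = n200622 := d2_1 F438959 (iv5 D200622) (iv2 F358912)
def n206040 : Q := act 4 n127091
theorem D206040 : act 4 n127091 = n206040 := rfl
theorem F438961 : act 2 n206040 = n136894 := d1_1 D206040 (iv4 F223026) (iv2 F349986)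
theorem F438962 : act 3 n206040 = n135947 := d5_1 D206040 (iv4 F222622) (iv3 D139403) D139404 F349984
theorem F438963 : act 7 n206040 = n136873 := d11_2 F396987 D206040 F406657
theorem F438964 : act 0 n206040 = n136895 := d17_0 (iv5 F347251) F347249 (iv5 D67053) (iv4 F103024) (iv5 F347240) F228678 (iv5 F407847) (iv0 F407851) D206040
theorem F438965 : act 1 n206040 = n135997 := d18_6 (iv1 F162190) F161974 F162019 D59645 D127091 D206040 F218795 F360519 (iv5 D141303)
def n206041 : Q := act 3 n127092
theorem D206041 : act 3 n127092 = n206041 := rfl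
theorem F438966 : act 4 n206041 = n127093 := d5_2 D127092 D206041 (iv3 D127093) (iv4 D59647) (iv3 F94041)
theorem F438967 : act 6 n206041 = n206023 := d7_2 F397297 D206041 F438883
theorem F438968 : act 7 n206041 = n206025 := d8_2 (iv7 F213945) D206041 F438890
theorem F438969 : act 0 n159576 = n206041 := d20_4 (iv4 D146429) F104867 D76345 D159576 (iv3 D206041) (iv4 D127092) F162047 (iv4 F213008) F328661 (iv1 F229768)
def n206042 : Q := act 5 n127092
theorem D206042 : act 5 n127092 = n206042 := rfl
theorem F438970 : act 0 n206042 = n132418 := d17_2 F421985 D206042 (iv5 D132418) (iv4 F163624) (iv5 F163619) F163622 D115438 (iv0 F421983) F421980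
theorem F438971 : act 1 n206042 = n132225 := d17_6 (iv1 F93677) (iv5 F76815) F162019 D59646 D127092 D206042 (iv5 D132225) F203541 F203539
def n206043 : Q := act 2 n127093
theorem D206043 : act 2 n127093 = n206043 := rfl
theorem F438972 : act 3 n206043 = n206022 := d0_2 D127093 D206043 (iv2 D206022) (iv3 D127004) F322426
theorem F438973 : act 6 n206043 = n206022 := d3_2 (iv6 F359758) D206043 (iv2 D206022)
theorem F438974 : act 7 n206043 = n206024 := d4_2 F324376 D206043 (iv2 D206024)
theorem F438975 : act 1 n206043 = n179271 := d15_0 (iv0 F351329) F324376 D206043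
theorem F438976 : act 1 n202307 = n206043 := d15_0 F438975 F351374 (iv2 F423573)
def n206044 : Q := act 2 n127094
theorem D206044 : act 2 n127094 = n206044 := rfl
theorem F438977 : act 3 n206044 = n206024 := d0_2 D127094 D206044 (iv2 D206024) (iv3 D127007) F322916
theorem F438978 : act 5 n206044 = n140458 := d2_2 F224816 D206044 (iv2 F322100)
theorem F438979 : act 6 n206044 = n129691 := d3_2 (iv6 F204340) D206044 F350874
theorem F438980 : act 7 n206044 = n206022 := d4_2 F359759 D206044 (iv2 D206022)
theorem F438981 : act 1 n206044 = n129909 := d15_0 (iv0 F354178) F359759 D206044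
theorem F438982 : act 1 n129732 = n206044 := d15_0 F438981 (iv7 F434572) F434569
def n206045 : Q := act 3 n127104
theorem D206045 : act 3 n127104 = n206045 := rfl
theorem F438983 : act 2 n206045 = n192208 := d0_1 D206045 F386001 F153747 (iv3 F157825) F345461
theorem F438984 : act 4 n206045 = n128561 := d5_2 F424905 D206045 F330558 (iv4 F423314) (iv3 F424904)
theorem F438985 : act 6 n206045 = n149231 := d7_2 (iv6 F345462) D206045 F353165
theorem F438986 : act 7 n206045 = n200381 := d8_2 (iv7 F345463) D206045 (iv3 D200381)
theorem F438987 : act 0 n206045 = n199153 := d20_4 (iv4 F181200) D202644 F424905 D206045 (iv3 D199153) (iv4 F172091) (iv1 F180291) (iv4 F401722) (iv3 F401726) F215904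
theorem F438988 : act 0 n202306 = n206045 := d20_4 (iv4 D59573) D59570 D126921 (iv3 F423569) (iv3 D206045) (iv4 F424905) (iv1 F424907) (iv4 F425177) F425176 (iv1 D126932)
def n206046 : Q := act 4 n127108
theorem D206046 : act 4 n127108 = n206046 := rfl
theorem F438989 : act 3 n206046 = n157596 := d5_1 D206046 (iv4 D157596) (iv3 F307571) D192098 (iv3 F385534)
theorem F438990 : act 6 n206046 = n197566 := d10_2 F425832 D206046 (iv4 F425831)
theorem F438991 : act 7 n206046 = n200418 := d11_2 (iv7 F204363) D206046 (iv4 D200418)
theorem F438992 : act 5 n206046 = n200454 := d16_1 D206046 (iv4 D200454) (iv5 D113126) F82554 F40086 (iv4 F82554) D113126 (iv7 F226624) F226623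
theorem F438993 : act 0 n206046 = n196634 := d17_0 (iv5 F401272) (iv1 D193216) F389202 F389200 (iv5 F357172) (iv0 F226949) (iv5 F416481) F416479 D206046
def n206047 : Q := act 4 n127109
theorem D206047 : act 4 n127109 = n206047 := rfl
theorem F438994 : act 3 n206047 = n180641 := d5_1 D206047 (iv4 F362311) F355492 (iv4 F379089) F379087
theorem F438995 : act 6 n206047 = n180636 := d10_2 (iv6 F355233) D206047 (iv4 F366983)
theorem F438996 : act 1 n206047 = n128528 := d18_6 (iv1 F336926) (iv4 D150009) (iv1 D70568) (iv4 F107033) (iv5 F355232) D206047 F206728 D137501 (iv5 F365074)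
def n206048 : Q := act 3 n127110
theorem D206048 : act 3 n127110 = n206048 := rfl
theorem F438997 : act 2 n206048 = n189656 := d0_1 D206048 F416030 F416025 F382154 F379529
theorem F438998 : act 6 n133396 = n206048 := d3_0 F438997 (iv6 D189656) (iv2 F214473)
theorem F438999 : act 4 n206048 = n133397 := d10_1 F438998 (iv6 D133397) D133396
def n206049 : Q := act 4 n127110
theorem D206049 : act 4 n127110 = n206049 := rfl
theorem F439000 : act 3 n206049 = n131136 := d5_1 D206049 F210042 (iv3 F214477) (iv4 F438999) (iv3 D206048)
theorem F439001 : act 5 n206049 = n128780 := d16_1 D206049 (iv4 D128780) (iv5 D60565) F328466 F82800 (iv4 F107033) (iv5 F355232) (iv7 F379530) F379529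
theorem F439002 : act 0 n206049 = n128528 := d20_1 D206049 F206728 (iv3 F220687) (iv1 F377974) F377972 D189850 (iv1 F378462) (iv4 D189987) D189986 (iv1 F378455)
theorem F439003 : act 6 n131135 = n206049 := d21_3 (iv5 F364954) (iv1 D133353) (iv5 F210039) F439002 (iv6 D128528) (iv5 D60454) (iv1 F46309) D53906 (iv6 F331496) (iv1 F176110)
def n206050 : Q := act 6 n127110
theorem D206050 : act 6 n127110 = n206050 := rfl
theorem F439004 : act 3 n206050 = n133396 := d7_1 D206050 F438998 (iv3 D206048)
theorem F439005 : act 4 n206050 = n131135 := d10_1 D206050 F439003 (iv4 D206049)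
theorem F439006 : act 7 n206050 = n189651 := d14_2 (iv7 F355234) D206050 (iv6 F377269) F376683 (iv6 F259567)
theorem F439007 : act 0 n206050 = n190435 := d21_4 (iv5 D189976) F342956 F355235 D206050 (iv6 D190435) F360327 (iv1 F158078) (iv5 F350530) D202845 F425840
theorem F439008 : act 1 n206050 = n200414 := d15_1 (iv0 F439007) F416336 (iv2 F392219)
def n206051 : Q := act 1 n127111
theorem D206051 : act 1 n127111 = n206051 := rfl
theorem F439009 : act 1 n206051 = n203791 := d15_1 D206051 F429833 F379591
theorem F439010 : act 4 n206051 = n201113 := d17_9 F419140 (iv5 D200892) (iv1 D113606) F82800 (iv4 F107033) (iv5 F355232) (iv0 D127109) D127111 D206051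
theorem F439011 : act 6 n137287 = n206051 := d21_3 D97211 F318862 D137287 (iv1 D206051) F204364 (iv5 D59667) D59665 D127114 (iv6 F350494) (iv1 D97210)
theorem F439012 : act 5 n176924 = n206051 := d21_6 (iv5 D31374) (iv1 F37950) (iv5 F49654) D67559 (iv1 F350480) D176924 (iv1 D206051) (iv5 D127111) (iv6 D59664) (iv1 F49640)
theorem F439013 : act 2 n206051 = n201879 := d2_1 F439012 (iv5 F425837) F425836
theorem F439014 : act 3 n206051 = n176927 := d6_1 F439012 (iv5 D176927) (iv3 F276277)
theorem F439015 : act 1 n144230 = n190358 := d17_8 (iv1 F381340) F439012 (iv1 D206051) (iv5 D127111) (iv4 F172129) (iv5 F395066) (iv0 F395064) F392614 (iv4 D190358)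
def n206052 : Q := act 7 n127111
theorem D206052 : act 7 n127111 = n206052 := rfl
theorem F439016 : act 2 n206052 = n203791 := d4_1 D206052 F429833 F379591
theorem F439017 : act 4 n206052 = n175822 := d11_1 D206052 (iv7 F275657) (iv4 F346743)
theorem F439018 : act 5 n206052 = n127112 := d13_1 D206052 (iv7 D127112) D127111
theorem F439019 : act 6 n206052 = n200778 := d14_1 D206052 F417880 (iv6 D194535) F350567 (iv6 F204364)
theorem F439020 : act 1 n201879 = n206052 := d15_1 (iv0 F422188) (iv7 D206052) (iv2 F379591)
def n206053 : Q := act 6 n127113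
theorem D206053 : act 6 n127113 = n206053 := rfl
theorem F439021 : act 3 n206053 = n127115 := d7_1 D206053 (iv6 D127115) D127113
theorem F439022 : act 5 n206053 = n194966 := d12_1 D206053 F395207 (iv5 F382005) (iv6 F381997) (iv5 F382001)
def n206054 : Q := act 0 n127123
theorem D206054 : act 0 n127123 = n206054 := rfl
theorem F439023 : act 5 n206054 = n164463 := d19_1 D206054 F346747 (iv3 F396371) (iv1 F396375) (iv5 F371488) F371487 F204270 (iv1 F326671) F305863 F25590 F11750 D7511 F316164 (iv4 F18122) (iv3 F19210) D24914 (iv5 F82339) D59671 D127123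
theorem F439024 : act 2 n195652 = n206054 := d15_3 (iv0 D206054) (iv0 F392747) (iv7 F397734)
theorem F439025 : act 4 n206054 = n199169 := d1_2 F401523 F439024 F410986
theorem F439026 : act 6 n206054 = n199168 := d3_2 (iv6 F401521) F439024 F410983
theorem F439027 : act 7 n206054 = n143974 := d4_2 (iv7 F397734) F439024 F226627
theorem F439028 : act 3 n206054 = n192841 := d20_3 (iv4 F389265) F410987 (iv4 F439025) F391811 (iv3 D193623) D193624 F390477 F343373 (iv3 F390434) (iv1 D193605)
def n206055 : Q := act 2 n127123
theorem D206055 : act 2 n127123 = n206055 := rfl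
theorem F439029 : act 1 n206055 = n143974 := d15_0 F397736 F220702 D206055
theorem F439030 : act 1 n195652 = n206055 := d15_0 F439029 (iv7 F439027) (iv2 F439024)
theorem F439031 : act 5 n189829 = n206055 := d17_5 D49058 D106142 D195658 F397763 F397728 F439029 (iv5 F340465) (iv0 D106135) F77438
def n206056 : Q := act 5 n127123
theorem D206056 : act 5 n127123 = n206056 := rfl
theorem F439032 : act 2 n206056 = n189829 := d2_1 D206056 F439031 (iv2 D206055)
theorem F439033 : act 3 n206056 = n127124 := d6_1 D206056 (iv5 D127124) D127123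
theorem F439034 : act 4 n206056 = n127782 := d17_4 D164462 F355727 F392747 D206056 (iv5 F398469) (iv0 F398472) (iv5 D164469) (iv0 D78987) (iv4 F120161)
theorem F439035 : act 6 n206056 = n127780 := d21_3 F355727 F392747 D206056 (iv1 F259561) (iv6 D95307) (iv5 D44521) (iv1 F33690) (iv5 F56631) D78986 D164462
def n206057 : Q := act 6 n127123
theorem D206057 : act 6 n127123 = n206057 := rfl
theorem F439036 : act 3 n206057 = n127125 := d7_1 D206057 (iv6 D127125) D127123
theorem F439037 : act 4 n206057 = n145427 := d10_1 D206057 (iv6 F342475) F224861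
theorem F439038 : act 1 n196633 = n206057 := d17_8 (iv1 D145427) (iv5 D68178) F82146 (iv5 F175351) (iv4 F415158) F415159 F401310 (iv5 F401265) F439037
theorem F439039 : act 0 n196639 = n206057 := d18_2 (iv1 F401248) D196639 F439037 (iv5 F342472) (iv4 F342468) (iv0 F175367) (iv4 F228437) F228438 (iv5 F401247)
def n206058 : Q := act 2 n127126
theorem D206058 : act 2 n127126 = n206058 := rfl
theorem F439040 : act 4 n206058 = n193887 := d1_2 (iv4 F204377) D206058 (iv2 F391301)
theorem F439041 : act 1 n206058 = n198468 := d15_0 (iv0 F408121) F220692 D206058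
theorem F439042 : act 1 n128572 = n206058 := d15_0 F439041 (iv7 F408120) F408123
theorem F439043 : act 5 n206058 = n149177 := d21_0 (iv1 F234548) D149199 (iv6 F414404) (iv1 D131917) (iv6 F211362) F359068 F351023 (iv5 F169358) D198468 (iv1 F439041)
theorem F439044 : act 6 n200326 = n206058 := d21_5 (iv5 F210034) F210036 (iv5 D112983) D112984 D200326 F439043 (iv1 F234548) D149199 (iv6 F414404) (iv1 D131917)
theorem F439045 : act 2 n200225 = n200326 := d3_3 F439044 (iv2 D206058) (iv6 F415604)
theorem F439046 : act 3 n200326 = n200245 := d0_2 D200225 F439045 (iv2 F415691) (iv3 D197481) (iv2 F175760)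
theorem E103914 : n200327 = n197485 := (c15_2 (iv0 D200326) D200327 (iv7 F415605) F439045)
theorem F439047 : act 0 n197485 = n112984 := (sb E103914 (iv1 D200327))
def n206059 : Q := act 5 n127126
theorem D206059 : act 5 n127126 = n206059 := rfl
theorem F439048 : act 2 n206059 = n149177 := d2_1 D206059 (iv5 F439043) (iv2 D206058)
theorem F439049 : act 3 n206059 = n127127 := d6_1 D206059 (iv5 D127127) D127126
theorem F439050 : act 7 n206059 = n149178 := d13_2 F220692 D206059 (iv5 F353147)
theorem F439051 : act 4 n206059 = n143504 := d16_4 F423440 (iv5 D202273) (iv4 F204377) D206059 F346238 (iv4 F236185) (iv5 F390275) (iv7 F390278) (iv2 F390279)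
theorem F439052 : act 1 n206059 = n149057 := d17_8 F155490 (iv5 F155487) F107164 (iv5 D70036) D70035 D149214 (iv0 F397575) D206059 (iv4 D149057)
theorem F439053 : act 0 n200225 = n200329 := d21_4 F428502 (iv1 F439052) (iv5 D206059) (iv6 F415604) F416008 (iv5 D194441) (iv1 F176037) D190582 (iv6 F434195) F434196
theorem F439054 : act 1 n149061 = n206059 := d15_0 F439052 F234409 (iv2 F234416)
theorem F439055 : act 6 n164380 = n206059 := d10_0 F439051 F346239 F346186
def n206060 : Q := act 1 n127128
theorem D206060 : act 1 n127128 = n206060 := rfl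
theorem F439056 : act 1 n206060 = n196720 := d15_1 D206060 F401593 F397054
theorem F439057 : act 7 n206060 = n156037 := d15_2 F245169 D206060 (iv2 F245168)
theorem F439058 : act 5 n206060 = n144441 := d17_7 (iv1 F93995) F93991 (iv1 F166074) F76976 D59684 D127128 D206060 F227241 (iv4 D108070)
theorem F439059 : act 4 n206060 = n205035 := d18_7 F307985 (iv4 F328136) F328133 (iv4 F177582) D201182 F419357 D206060 (iv0 F434717) F224814
theorem F439060 : act 6 n199337 = n206060 := d10_0 F439059 (iv6 D205035) (iv4 F411759)
def n206061 : Q := act 3 n127148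
theorem D206061 : act 3 n127148 = n206061 := rfl
theorem F439061 : act 2 n206061 = n142501 := d0_1 D206061 F319221 (iv2 F321662) D116175 (iv2 F333289)
theorem F439062 : act 4 n206061 = n142439 := d5_2 (iv4 F334855) D206061 (iv3 F344510) (iv4 D102035) (iv3 F349492)
theorem F439063 : act 5 n206061 = n170357 := d6_2 F334851 D206061 F267845
theorem F439064 : act 6 n206061 = n177038 := d7_2 (iv6 F334852) D206061 F344486
theorem F439065 : act 7 n206061 = n142496 := d8_2 (iv7 F321575) D206061 F344492
theorem F439066 : act 0 n206061 = n202332 := d19_4 F341183 F334856 (iv4 F334855) D206061 F423659 F216385 F98416 D63143 D134433 (iv4 F425295) F425294 F181993 (iv5 D66058) (iv4 D30897) D30896 D66051 (iv5 F320916) F320915 D117605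
theorem F439067 : act 0 n199929 = n206061 := d20_4 D143050 (iv1 F396830) F396826 (iv3 F414188) (iv3 D206061) F334855 (iv1 D67062) F49544 (iv3 F49540) D67041
def n206062 : Q := act 6 n127204
theorem D206062 : act 6 n127204 = n206062 := rfl
theorem F439068 : act 2 n206062 = n199239 := d3_1 D206062 (iv6 D199239) (iv2 F204477)
theorem F439069 : act 3 n206062 = n127206 := d7_1 D206062 (iv6 D127206) D127204
theorem F439070 : act 4 n206062 = n127215 := d10_1 D206062 (iv6 D127215) (iv4 F204478)
theorem F439071 : act 1 n193342 = n206062 := d18_6 (iv1 F331855) (iv4 D101478) (iv1 D47219) (iv4 F74491) D101469 D193342 F439070 F331853 F273570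
def n206063 : Q := act 5 n127342
theorem D206063 : act 5 n127342 = n206063 := rfl
theorem F439072 : act 4 n206063 = n203379 := d16_2 D127342 D206063 (iv5 D203379) (iv4 D118860) F86517 (iv4 F82996) D90589 F139472 F114183
def n206064 : Q := act 0 n127344
theorem D206064 : act 0 n127344 = n206064 := rfl
theorem F439073 : act 6 n206064 = n151406 := d21_5 F104820 (iv1 D59811) D59812 D127344 D206064 (iv5 D151406) (iv1 D71366) (iv5 F104831) (iv6 D68633) (iv1 F104819)
theorem F439074 : act 1 n201842 = n206064 := d15_0 (iv0 D206064) F365705 (iv2 F422016)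
theorem F439075 : act 2 n201662 = n206064 := d3_3 F439073 F357314 D201662
theorem F439076 : act 4 n201652 = n206064 := d10_3 F439073 F349043 D201652
theorem F439077 : act 7 n201843 = n206064 := d15_2 (iv0 F421290) F422020 (iv2 F439075)
def n206065 : Q := act 1 n127344
theorem D206065 : act 1 n127344 = n206065 := rfl
theorem F439078 : act 1 n206065 = n201842 := d15_1 D206065 F422019 F397372
theorem F439079 : act 7 n206065 = n201662 := d15_2 (iv0 D206064) D206065 F439075
theorem F439080 : act 4 n206065 = n201664 := d17_9 (iv1 F421299) F398985 (iv1 F349263) (iv5 F394472) F394471 F391682 (iv0 F428329) F428327 D206065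
theorem F439081 : act 2 n201843 = n206065 := d4_3 F439079 F439075 (iv7 F439077)
theorem F439082 : act 3 n197019 = n206065 := d8_3 F439079 F421288 (iv7 F402707)
def n206066 : Q := act 4 n127347
theorem D206066 : act 4 n127347 = n206066 := rfl
theorem F439083 : act 5 n206066 = n187810 := d9_2 D127347 D206066 (iv4 D187810) (iv5 D90589) F82996 (iv5 F86517) D118860 D203379 (iv4 F439072) (iv5 D206063) (iv4 D127342) (iv5 D59807) F45857 D28376 D59817
theorem F439084 : act 6 n206066 = n197201 := d10_2 F403508 D206066 F403506
theorem F439085 : act 3 n206066 = n193643 := d19_3 (iv1 F114306) D127347 D206066 (iv1 D193643) (iv5 F373574) (iv4 F402336) F402333 (iv1 F371920) F371918 F164910 (iv3 F100133) (iv1 F100136) F164920 F346505 (iv3 D128506) (iv1 D60440) D60442 D128513 F206675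
def n206067 : Q := act 4 n127351
theorem D206067 : act 4 n127351 = n206067 := rfl
theorem F439086 : act 2 n206067 = n198445 := d1_1 D206067 F408032 (iv2 F362277)
theorem F439087 : act 3 n206067 = n198462 := d5_1 D206067 (iv4 F435403) (iv3 D205200) D205201 F435411
theorem F439088 : act 5 n206067 = n199159 := d9_2 (iv5 F336184) D206067 F410938 (iv5 F353085) F227028 F165683 (iv4 F342853) (iv5 F342864) (iv4 F394528) F394529 (iv4 F401440) F401436 F227035 F175335 (iv4 F329140)
theorem F439089 : act 7 n206067 = n190604 := d11_2 F362280 D206067 (iv4 F380270)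
theorem F439090 : act 1 n206067 = n190325 := d18_6 (iv1 F211456) (iv4 D107217) D107215 (iv4 F329140) (iv5 F336184) D206067 (iv4 F411036) (iv0 F414101) F414098
def n206068 : Q := act 6 n127351
theorem D206068 : act 6 n127351 = n206068 := rfl
theorem F439091 : act 2 n206068 = n200140 := d3_1 D206068 (iv6 D200140) (iv2 F362277)
theorem F439092 : act 3 n206068 = n129080 := d7_1 D206068 (iv6 F435406) F435411
theorem F439093 : act 5 n206068 = n197023 := d12_1 D206068 F402722 (iv5 D128896) (iv6 F329141) (iv5 F336184)
theorem F439094 : act 7 n206068 = n200615 := d14_2 F362280 D206068 F418165 F393459 F380271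
theorem F439095 : act 0 n206068 = n195002 := d21_4 D48665 D105258 (iv5 F336184) D206068 F395363 (iv5 F372210) F372209 (iv5 F342869) (iv6 D105254) (iv1 D48663)
theorem F439096 : act 1 n206068 = n195043 := d15_1 (iv0 F439095) F395555 (iv2 F395360)
def n206069 : Q := act 3 n127352
theorem D206069 : act 3 n127352 = n206069 := rfl
theorem F439097 : act 2 n206069 = n200946 := d0_1 D206069 (iv3 F435397) F435396 (iv3 D200138) (iv2 F362279)
theorem F439098 : act 5 n206069 = n195093 := d6_2 (iv5 F342864) D206069 (iv3 D195093)
theorem F439099 : act 6 n206069 = n204882 := d7_2 F393457 D206069 (iv3 F434005)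
theorem F439100 : act 7 n206069 = n200139 := d8_2 (iv7 F362278) D206069 (iv3 D200139)
theorem F439101 : act 0 n195113 = n206069 := d20_4 F417077 F408281 F377912 D195113 (iv3 D206069) (iv4 F394528) F409918 (iv4 F411036) F411033 F417081
theorem F439102 : act 1 n166322 = n206069 := d15_0 (iv0 F439101) F395826 (iv2 F356014)
def n206070 : Q := act 7 n127357
theorem D206070 : act 7 n127357 = n206070 := rfl
theorem F439103 : act 2 n206070 = n200874 := d4_1 D206070 (iv7 D200874) (iv2 F204602)
theorem F439104 : act 3 n206070 = n129048 := d8_1 D206070 (iv7 F417568) (iv3 F417570)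
theorem F439105 : act 5 n206070 = n198896 := d13_1 D206070 (iv7 F435444) F435442
theorem F439106 : act 6 n206070 = n200882 := d14_1 D206070 (iv7 D200882) (iv6 D113588) (iv7 F203755) D127357
theorem F439107 : act 1 n197001 = n206070 := d15_1 (iv0 F402635) (iv7 D206070) F204602
theorem F439108 : act 1 n206070 = n200872 := d15_1 F439107 F418238 F402634
def n206071 : Q := act 4 n127358
theorem D206071 : act 4 n127358 = n206071 := rfl
theorem F439109 : act 2 n206071 = n127362 := d1_1 D206071 (iv4 D127362) (iv2 F204603)
theorem F439110 : act 5 n206071 = n205840 := d9_2 D127358 D206071 F438091 F345612 F345614 F168615 F82769 (iv5 F82757) D113530 (iv5 F220437) F220439 (iv5 F345621) F345620 F169163 F101594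
theorem F439111 : act 7 n206071 = n200823 := d11_2 (iv7 F204605) D206071 (iv4 D200823)
theorem F439112 : act 0 n206071 = n200826 := d17_0 F418074 F375914 F219850 (iv4 D113429) (iv5 D52363) D52361 D113423 F204623 D206071
theorem F439113 : act 3 n206071 = n129732 := d20_3 (iv4 F176609) (iv1 F204607) D206071 F354183 (iv3 D127004) (iv4 F323864) F76927 (iv4 F95569) (iv3 F336590) (iv1 D126796)
theorem F439114 : act 0 n200825 = n206071 := d20_10 (iv4 D206071) (iv1 F204623) D200755 (iv3 F417796) F423601 F423597 F362709 (iv1 F218843) (iv4 F338720) (iv3 F418071)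
theorem F439115 : act 6 n129729 = n206071 := d7_0 F439113 (iv6 D129732) D129729
theorem F439116 : act 0 n129729 = n132077 := d21_4 F359167 D205840 (iv5 F439110) (iv6 F439115) (iv6 D132077) F319330 D84169 (iv5 F319326) F395653 F395654
theorem F439117 : act 1 n129729 = n134533 := d15_1 (iv0 F439116) (iv7 D134533) (iv2 F211609)
def n206072 : Q := act 6 n127358
theorem D206072 : act 6 n127358 = n206072 := rfl
theorem F439118 : act 2 n206072 = n127363 := d3_1 D206072 (iv6 D127363) (iv2 F204603)
theorem F439119 : act 3 n206072 = n132158 := d7_1 D206072 (iv6 F358249) (iv3 F204604)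
theorem F439120 : act 4 n206072 = n129729 := d10_1 D206072 F439115 (iv4 D206071)
theorem F439121 : act 7 n206072 = n132948 := d14_2 (iv7 F204605) D206072 (iv6 F394694) F418069 (iv6 D200824)
theorem F439122 : act 0 n132951 = n206072 := d21_4 F378165 (iv1 D165784) (iv5 F248694) F338342 (iv6 D206072) (iv5 D127358) (iv1 F94219) D113587 (iv6 F380491) (iv1 F380495)
theorem F439123 : act 1 n132909 = n206072 := d15_0 (iv0 F439122) (iv7 D132951) (iv2 F213506)
def n206073 : Q := act 6 n127360
theorem D206073 : act 6 n127360 = n206073 := rfl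
theorem F439124 : act 2 n206073 = n200756 := d3_1 D206073 (iv6 D200756) F204619
theorem F439125 : act 3 n206073 = n205061 := d7_1 D206073 (iv6 F434834) F219253
theorem F439126 : act 4 n206073 = n205818 := d10_1 D206073 (iv6 D205818) (iv4 F204614)
theorem F439127 : act 7 n206073 = n200839 := d14_2 F204615 D206073 F436148 F346996 F347120
theorem F439128 : act 0 n195102 = n206073 := d21_4 (iv5 D190572) F199176 (iv5 F354348) F395757 (iv6 D206073) (iv5 F204616) (iv1 F161174) D113425 (iv6 F331159) (iv1 F380161)
theorem F439129 : act 1 n200840 = n206073 := d15_0 (iv0 F439128) F395776 D200840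
def n206074 : Q := act 3 n127361
theorem D206074 : act 3 n127361 = n206074 := rfl
theorem F439130 : act 2 n206074 = n201114 := d0_1 D206074 (iv3 F419143) F221303 (iv3 F176608) (iv2 F204621)
theorem F439131 : act 5 n206074 = n128677 := d6_2 F204629 D206074 F343536
theorem F439132 : act 6 n206074 = n128680 := d7_2 (iv6 F347123) D206074 (iv3 F348754)
theorem F439133 : act 7 n206074 = n200753 := d8_2 (iv7 F204620) D206074 F417782
theorem F439134 : act 0 n206074 = n201115 := d20_10 F419145 (iv1 F397895) (iv4 D195702) F163221 (iv1 F163299) D195786 (iv4 F437966) (iv1 F437968) F204624 D206074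
theorem F439135 : act 0 n195092 = n206074 := d20_4 (iv4 D107217) D107215 (iv4 F329140) D195092 (iv3 D206074) (iv4 F204624) F350808 (iv4 F436946) F436945 (iv1 F211456)
def n206075 : Q := act 1 n127362
theorem D206075 : act 1 n127362 = n206075 := rfl
theorem F439136 : act 1 n206075 = n200823 := d15_1 D206075 (iv7 F439111) F439109
theorem F439137 : act 7 n206075 = n200826 := d15_2 (iv0 F345852) D206075 F418077
theorem F439138 : act 5 n206075 = n196800 := d17_7 (iv1 F204023) (iv5 F355067) (iv1 F373320) F373322 (iv4 F204205) F204667 D206075 (iv0 F410302) (iv4 D199008)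
theorem F439139 : act 4 n206075 = n198242 := d17_9 F409799 (iv5 F409794) F409797 F438959 F438958 (iv5 F438062) (iv0 F438067) F204667 D206075
theorem F439140 : act 3 n196801 = n206075 := d20_3 F336033 (iv1 F288355) (iv4 F401847) (iv1 D206075) F204612 (iv4 D105300) F139275 D187726 F371330 (iv1 F361998)
theorem F439141 : act 2 n206075 = n200825 := d0_1 F439140 F418071 F338719 D138118 (iv2 F401845)
def n206076 : Q := act 1 n127363
theorem D206076 : act 1 n127363 = n206076 := rfl
theorem F439142 : act 1 n206076 = n132948 := d15_1 D206076 (iv7 F439121) F439118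
theorem F439143 : act 7 n206076 = n132909 := d15_2 (iv0 F362097) D206076 F213506
theorem F439144 : act 5 n206076 = n195182 := d17_7 (iv1 F358578) (iv5 F353721) (iv1 D185233) (iv5 F337939) D189783 F377732 D206076 (iv0 F396138) (iv4 F217388)
theorem F439145 : act 6 n133002 = n206076 := d21_3 F380496 (iv1 F280651) F358997 (iv1 D206076) (iv6 D127363) (iv5 D59823) D59820 F203742 F338381 D190667
theorem F439146 : act 2 n206076 = n132951 := d3_1 F439145 (iv6 F338342) F338338
theorem F439147 : act 3 n206076 = n195183 := d7_1 F439145 (iv6 F396143) (iv3 F359009)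
theorem F439148 : act 4 n206076 = n132649 := d10_1 F439145 F338386 (iv4 F213652)
def n206077 : Q := act 7 n127363
theorem D206077 : act 7 n127363 = n206077 := rfl
theorem F439149 : act 2 n206077 = n132948 := d4_1 D206077 (iv7 F439121) F439118
theorem F439150 : act 3 n206077 = n127371 := d8_1 D206077 (iv7 D127371) (iv3 F204668)
theorem F439151 : act 6 n206077 = n200829 := d14_1 D206077 (iv7 D200829) (iv6 D113531) (iv7 F94221) D127363
theorem F439152 : act 1 n132951 = n206077 := d15_1 (iv0 F439122) (iv7 D206077) (iv2 F439118)
theorem F439153 : act 1 n206077 = n132909 := d15_1 F439152 (iv7 F439143) F439146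
def n206078 : Q := act 3 n127364
theorem D206078 : act 3 n127364 = n206078 := rfl
theorem F439154 : act 5 n206078 = n193368 := d6_2 F331161 D206078 F395406
theorem F439155 : act 7 n206078 = n197901 := d8_2 F435162 D206078 (iv3 F435161)
theorem F439156 : act 4 n206078 = n197905 := d20_6 F82077 F39720 (iv4 F45881) (iv3 F94222) D127364 D206078 (iv1 F406166) (iv4 F405220) F395581 (iv1 F161136)
theorem F439157 : act 2 n204857 = n206078 := d1_3 F439156 F412001 F433874
theorem F439158 : act 0 n204657 = n206078 := d20_10 F439156 (iv1 F406166) (iv4 F405220) F395581 (iv1 F161136) F326670 (iv4 D58179) (iv1 F296371) D124173 D204657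
theorem F439159 : act 1 n204858 = n206078 := d15_0 (iv0 F439158) F433159 D204858
def n206079 : Q := act 4 n127364
theorem D206079 : act 4 n127364 = n206079 := rfl
theorem F439160 : act 6 n206079 = n196870 := d10_2 (iv6 F331160) D206079 (iv4 F402097)
theorem F439161 : act 0 n206079 = n163952 := d20_1 D206079 (iv4 F366964) (iv3 D181689) (iv1 F296421) (iv3 F326670) F82077 F39720 (iv4 F45881) (iv3 F94222) D127364
theorem F439162 : act 3 n196871 = n206079 := d7_3 F439160 (iv3 D196870) D196871
def n206080 : Q := act 6 n127369
theorem D206080 : act 6 n127369 = n206080 := rfl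
theorem F439163 : act 2 n206080 = n131989 := d3_1 D206080 (iv6 F391703) F391700
theorem F439164 : act 3 n206080 = n180351 := d7_1 D206080 (iv6 F384050) (iv3 F384054)
theorem F439165 : act 4 n206080 = n195164 := d10_1 D206080 (iv6 D195164) F362906
theorem F439166 : act 5 n206080 = n180350 := d12_1 D206080 F362190 (iv5 D128912) D128913 F396543
theorem F439167 : act 7 n206080 = n131981 := d14_2 F391699 D206080 (iv6 D131981) (iv7 F164142) (iv6 F391698)
theorem F439168 : act 1 n131987 = n206080 := d15_1 D131987 F439167 F211469
theorem F439169 : act 0 n131986 = n206080 := d21_10 F439166 F415209 F415207 (iv6 F332870) (iv1 F391982) F391980 (iv5 F435935) F435939 (iv5 D195099) (iv6 F395780)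
def n206081 : Q := act 0 n127370
theorem D206081 : act 0 n127370 = n206081 := rfl
def n206082 : Q := act 1 n127370
theorem D206082 : act 1 n127370 = n206082 := rfl
theorem F439170 : act 1 n206082 = n200838 := d15_1 D206082 (iv7 D200838) (iv2 F204673)
theorem F439171 : act 3 n191621 = n206082 := d20_3 F384009 (iv1 F367782) (iv4 F383978) (iv1 D206082) F377733 (iv4 D189783) (iv1 F285262) F366990 (iv3 F367855) (iv1 F384018)
theorem F439172 : act 7 n206082 = n191617 := d8_2 D191621 F439171 F383977
theorem F439173 : act 2 n191617 = n206081 := d15_3 (iv0 D206081) D206082 F439172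
theorem F439174 : act 6 n206081 = n191616 := d3_2 D191617 F439173 (iv2 D191616)
theorem F439175 : act 7 n200836 = n206081 := d15_2 (iv0 F417234) D200836 (iv2 F439173)
theorem F439176 : act 2 n206082 = n200836 := d4_3 F439175 (iv2 F439173) (iv7 F439172)
theorem F439177 : act 1 n200838 = n206081 := d15_1 F439170 (iv7 F439175) (iv2 F439176)
def n206083 : Q := act 4 n127370
theorem D206083 : act 4 n127370 = n206083 := rfl
theorem F439178 : act 2 n206083 = n200837 := d1_1 D206083 (iv4 D200837) (iv2 F204673)
theorem F439179 : act 6 n206083 = n127376 := d10_2 (iv6 F204674) D206083 (iv4 D127376)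
def n206084 : Q := act 7 n127370
theorem D206084 : act 7 n127370 = n206084 := rfl
theorem F439180 : act 2 n206084 = n200838 := d4_1 D206084 (iv7 D200838) (iv2 F204673)
theorem F439181 : act 5 n206084 = n127371 := d13_1 D206084 (iv7 D127371) D127370
theorem F439182 : act 1 n200836 = n206084 := d15_1 D200836 (iv7 D206084) F204673
theorem F439183 : act 1 n206084 = n191617 := d15_1 F439182 (iv7 F439172) F439176
def n206085 : Q := act 5 n127372
theorem D206085 : act 5 n127372 = n206085 := rfl
theorem F439184 : act 2 n206085 = n193364 := d2_1 D206085 (iv5 F393465) F393462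
theorem F439185 : act 3 n206085 = n127373 := d6_1 D206085 (iv5 D127373) D127372
theorem F439186 : act 7 n206085 = n200675 := d13_2 (iv7 F204681) D206085 (iv5 D200675)
theorem F439187 : act 4 n206085 = n187651 := d16_2 F393445 D206085 (iv5 D187651) (iv4 D90424) (iv5 D42280) (iv4 F36276) D48018 D103680 (iv2 F393443)
theorem F439188 : act 1 n206085 = n200852 := d17_6 F360317 F331196 (iv1 F159107) (iv5 F393446) F393445 D206085 (iv5 F418156) (iv0 F394712) (iv4 D194843)
def n206086 : Q := act 4 n127373
theorem D206086 : act 4 n127373 = n206086 := rfl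
theorem F439189 : act 2 n206086 = n200672 := d1_1 D206086 (iv4 D200672) (iv2 F204682)
theorem F439190 : act 7 n206086 = n200676 := d11_2 (iv7 F204683) D206086 (iv4 D200676)
theorem F439191 : act 5 n206086 = n205108 := d16_1 D206086 (iv4 D205108) (iv5 D125489) F92841 F77634 (iv4 F92989) D125610 F202063 (iv2 F204682)
def n206087 : Q := act 3 n127374
theorem D206087 : act 3 n127374 = n206087 := rfl
theorem F439192 : act 2 n206087 = n191541 := d0_1 D206087 (iv3 D191541) (iv2 F367692) F383700 F204687
theorem F439193 : act 7 n206087 = n200958 := d8_2 F204688 D206087 (iv3 D200958)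
theorem F439194 : act 6 n195685 = n206087 := d14_5 F439193 F418502 F399506 (iv6 D195701) (iv7 F397852)
theorem F439195 : act 1 n200701 = n200958 := d15_1 (iv0 F417552) (iv7 F439193) F439192
theorem F439196 : act 0 n206087 = n201012 := d21_4 (iv5 D106219) (iv1 F381059) D195685 F439194 (iv6 F418730) (iv5 F396122) (iv1 F396425) F397684 (iv6 D195635) (iv1 F163224)
def n206088 : Q := act 4 n127374
theorem D206088 : act 4 n127374 = n206088 := rfl
theorem F439197 : act 2 n206088 = n200665 := d1_1 D206088 F417399 F204687
theorem F439198 : act 7 n206088 = n200666 := d11_2 F204688 D206088 F417400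
theorem F439199 : act 0 n206088 = n200669 := d18_2 D127374 D206088 F417411 F176526 F82685 F76518 (iv4 F94225) (iv0 D59826) D59827
theorem F439200 : act 1 n206088 = n195056 := d18_6 F203087 F203086 F174362 (iv4 F414487) F414489 D206088 (iv4 D195056) D195055 (iv5 F395594)
def n206089 : Q := act 6 n127374
theorem D206089 : act 6 n127374 = n206089 := rfl
theorem F439201 : act 2 n206089 = n200957 := d3_1 D206089 (iv6 D200957) F204687
theorem F439202 : act 3 n206089 = n195685 := d7_1 D206089 F439194 (iv3 D206087)
theorem F439203 : act 5 n206089 = n195684 := d12_1 D206089 F414485 (iv5 D199986) D199987 F414489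
theorem F439204 : act 7 n206089 = n195696 := d14_2 F204688 D206089 F397887 (iv7 F341612) (iv6 F363270)
theorem F439205 : act 0 n206089 = n199177 := d21_4 F417416 (iv1 F414491) F414489 D206089 F411029 (iv5 D190792) (iv1 F281471) (iv5 F417427) (iv6 D200673) D200671
theorem F439206 : act 1 n206089 = n200589 := d15_1 (iv0 F439205) F417090 (iv2 F411027)
theorem F439207 : act 0 n205312 = n200590 := d21_4 (iv5 D196999) F165887 (iv5 F202237) D205312 (iv6 D200590) D200589 (iv1 F439206) F439203 F414485 F414483
def n206090 : Q := act 4 n127375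
theorem D206090 : act 4 n127375 = n206090 := rfl
theorem F439208 : act 2 n206090 = n200666 := d1_1 D206090 F417400 (iv2 F204689)
theorem F439209 : act 3 n206090 = n191550 := d5_1 D206090 (iv4 D191550) F151929 D98543 (iv3 F383698)
theorem F439210 : act 6 n206090 = n195937 := d10_2 F363269 D206090 (iv4 D195937)
theorem F439211 : act 7 n206090 = n200665 := d11_2 (iv7 F204686) D206090 F417399
theorem F439212 : act 0 n206090 = n195056 := d18_2 (iv1 F204684) D206090 (iv4 D195056) (iv5 D105204) F76512 D48647 (iv4 F92989) F92991 (iv5 F176855)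
theorem F439213 : act 1 n206090 = n200669 := d18_6 (iv1 F400680) (iv4 D196440) (iv1 F164901) (iv4 F176600) F204685 D206090 F417411 F395587 F395583
def n206091 : Q := act 3 n127376
theorem D206091 : act 3 n127376 = n206091 := rfl
theorem F439214 : act 0 n206091 = n201649 := d20_4 (iv4 D206090) (iv1 D127375) D127376 D206091 F421231 (iv4 F396132) (iv1 F396134) D201133 F419206 (iv1 F439213)
def n206092 : Q := act 5 n127376
theorem D206092 : act 5 n127376 = n206092 := rfl
theorem F439215 : act 2 n206092 = n200961 := d2_1 D206092 (iv5 D200961) (iv2 F204691)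
theorem F439216 : act 4 n206092 = n145324 := d9_1 D206092 F228361 F104293 F50031 (iv4 F82852) (iv5 F176855) (iv4 F418516) F418517 (iv4 D196898) (iv5 D107432) F78368 F37917 (iv4 F45881) D59827 D127376
theorem F439217 : act 7 n206092 = n145323 := d16_8 (iv4 D196898) (iv5 D107432) F78368 F37917 (iv4 F45881) D59827 D127376 D206092 (iv2 F402208)
theorem F439218 : act 0 n206092 = n196458 := d17_2 F417398 D206092 (iv5 F417393) (iv4 D200662) (iv5 D113320) (iv0 D52305) D52306 D113323 D200664
def n206093 : Q := act 7 n127376
theorem D206093 : act 7 n127376 = n206093 := rfl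
theorem F439219 : act 2 n206093 = n200962 := d4_1 D206093 (iv7 D200962) (iv2 F204691)
theorem F439220 : act 4 n206093 = n127377 := d11_1 D206093 (iv7 D127377) D127376
theorem F439221 : act 5 n206093 = n145323 := d13_1 D206093 (iv7 F439217) (iv5 D206092)
theorem F439222 : act 1 n200960 = n206093 := d15_1 D200960 (iv7 D206093) F204691
theorem F439223 : act 1 n206093 = n200959 := d15_1 F439222 (iv7 F418506) F418509
def n206094 : Q := act 3 n127378
theorem D206094 : act 3 n127378 = n206094 := rfl
theorem F439224 : act 4 n206094 = n129909 := d5_2 D127378 D206094 (iv3 F334335) (iv4 D113674) (iv3 F94240)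
theorem F439225 : act 5 n206094 = n203121 := d6_2 (iv5 F204697) D206094 (iv3 D203121)
theorem F439226 : act 7 n206094 = n200897 := d8_2 (iv7 F204698) D206094 (iv3 D200897)
theorem F439227 : act 6 n129907 = n206094 := d10_0 F439224 (iv6 D129909) D129907
theorem F439228 : act 0 n205902 = n206094 := d20_1 (iv4 F438347) F439224 (iv3 F334335) F176865 (iv3 D59612) (iv4 F45794) D30315 (iv4 F98531) (iv3 F216737) F362704
def n206095 : Q := act 6 n127378
theorem D206095 : act 6 n127378 = n206095 := rfl
theorem F439229 : act 2 n206095 = n127382 := d3_1 D206095 (iv6 D127382) (iv2 F204696)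
theorem F439230 : act 3 n206095 = n129907 := d7_1 D206095 F439227 (iv3 D206094)
theorem F439231 : act 4 n206095 = n127379 := d10_1 D206095 (iv6 D127379) D127378
theorem F439232 : act 5 n191632 = n206095 := d21_8 D200913 F418379 (iv5 D113702) F327153 F95283 D126503 D205666 (iv1 F437399) (iv6 D206095) F204699
theorem F439233 : act 1 n206095 = n205802 := d17_6 D98572 (iv5 F251755) F367097 F367089 D191632 F439232 (iv5 F437924) (iv0 D191583) (iv4 D98574)
def n206096 : Q := act 0 n127379
theorem D206096 : act 0 n127379 = n206096 := rfl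
theorem F439234 : act 6 n206096 = n185839 := d21_5 F82883 (iv1 F45896) D59829 D127379 D206096 (iv5 D185839) (iv1 F135526) F65398 (iv6 D32027) D32024
theorem F439235 : act 1 n127385 = n206096 := d15_0 (iv0 D206096) (iv7 F391731) F391730
theorem F439236 : act 2 n127383 = n206096 := d3_3 F439234 F288235 (iv6 F204709)
theorem F439237 : act 7 n127384 = n206096 := d14_0 F439234 F288236 D187719 (iv7 F371314) F347379
def n206097 : Q := act 1 n127379
theorem D206097 : act 1 n127379 = n206097 := rfl
theorem F439238 : act 1 n206097 = n127385 := d15_1 D206097 (iv7 D127385) (iv2 F204701)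
theorem F439239 : act 7 n206097 = n127383 := d15_2 (iv0 D206096) D206097 F439236
theorem F439240 : act 5 n206097 = n145924 := d17_7 F344368 (iv5 D88689) (iv1 F290709) D94060 (iv4 F345020) F214879 D206097 (iv0 F376870) (iv4 D189554)
theorem F439241 : act 3 n187671 = n206097 := d19_19 (iv1 D206097) (iv5 F214879) F345020 F144907 F69125 (iv5 D43225) F32385 F31334 D21883 D45768 F72229 F292355 (iv1 D42651) D42653 D91062 (iv3 F140148) D188224 (iv5 F419118) (iv4 F419119)
theorem F439242 : act 6 n145927 = n206097 := d21_3 F355405 (iv1 D145926) D145927 (iv1 D206097) (iv6 D127379) (iv5 D59829) (iv1 F45897) (iv5 F50400) D68851 D146869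
theorem F439243 : act 2 n206097 = n127384 := d3_1 F439242 (iv6 F347379) (iv2 F229129)
theorem F439244 : act 4 n206097 = n201837 := d10_1 F439242 (iv6 D201837) F355275
theorem F439245 : act 5 n201837 = n191580 := d16_5 (iv4 F382999) F383003 F229202 (iv5 F439240) F439244 (iv4 D191580) (iv5 F251755) (iv7 F380798) F380802
def n206098 : Q := act 0 n127380
theorem D206098 : act 0 n127380 = n206098 := rfl
theorem F439246 : act 3 n206098 = n137320 := d20_5 (iv4 D68845) F50399 D59830 D127380 D206098 (iv4 D137320) (iv1 F217861) F217857 (iv3 F339348) (iv1 F230230)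
theorem F439247 : act 1 n200830 = n206098 := d15_0 (iv0 D206098) F204704 (iv2 F418094)
theorem F439248 : act 6 n205805 = n206098 := d7_0 F439246 F220485 D205805
theorem F439249 : act 7 n200831 = n206098 := d8_0 F439246 (iv7 F401489) F418096
def n206099 : Q := act 1 n127380
theorem D206099 : act 1 n127380 = n206099 := rfl
theorem F439250 : act 4 n205523 = n206099 := d20_6 (iv4 D23752) D23750 (iv4 F45429) D59198 (iv1 F219116) (iv3 F436829) (iv1 D206099) F204703 (iv3 D59832) F45903
theorem F439251 : act 2 n206099 = n200831 := d1_1 F439250 F418095 (iv2 F436828)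
theorem F439252 : act 7 n206099 = n200832 := d11_2 (iv7 F436830) F439250 F418097
theorem F439253 : act 1 n195636 = n205523 := d17_8 (iv1 D206099) (iv5 F421734) F421737 (iv5 F417898) F417897 F417086 F417085 F402673 F439250
theorem F439254 : act 1 n206099 = n200830 := d18_6 (iv1 F161159) D113450 F244964 (iv4 F244963) D205523 F439250 (iv4 D200830) F204713 F204917
theorem F439255 : act 2 n200832 = n206098 := d4_1 F439252 (iv7 F439249) (iv2 F439251)
def n206100 : Q := act 2 n127380
theorem D206100 : act 2 n127380 = n206100 := rfl
theorem F439256 : act 4 n206100 = n127388 := d1_2 (iv4 F204703) D206100 (iv2 D127388)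
theorem F439257 : act 7 n206100 = n200830 := d4_2 (iv7 F204704) D206100 F418094
theorem F439258 : act 1 n206100 = n200831 := d15_0 (iv0 D200831) (iv7 F204704) D206100
theorem F439259 : act 1 n200832 = n206100 := d15_0 F439258 F439249 (iv2 F439255)
def n206101 : Q := act 6 n127380
theorem D206101 : act 6 n127380 = n206101 := rfl
theorem F439260 : act 3 n206101 = n127382 := d7_1 D206101 (iv6 D127382) D127380
theorem F439261 : act 4 n206101 = n127389 := d10_1 D206101 (iv6 D127389) (iv4 F204703)
theorem F439262 : act 5 n191634 = n206101 := d6_0 F439260 (iv5 F344984) D191634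
def n206102 : Q := act 6 n127381
theorem D206102 : act 6 n127381 = n206102 := rfl
theorem F439263 : act 2 n206102 = n203122 := d3_1 D206102 (iv6 D203122) (iv2 F204705)
theorem F439264 : act 3 n206102 = n201619 := d7_1 D206102 (iv6 F421735) F421738
theorem F439265 : act 4 n206102 = n203115 := d10_1 D206102 (iv6 D203115) (iv4 F204706)
theorem F439266 : act 5 n206102 = n191635 := d12_1 D206102 (iv6 D191635) F344984 (iv6 D127382) D127381
def n206103 : Q := act 0 n127382
theorem D206103 : act 0 n127382 = n206103 := rfl
theorem F439267 : act 5 n206103 = n198167 := d17_1 D206103 (iv1 F407077) (iv5 F437386) (iv4 F437388) F361696 F366053 (iv5 F364868) (iv0 D127383) (iv4 F204708)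
theorem F439268 : act 4 n206103 = n201070 := d18_3 (iv1 D127384) (iv4 F204708) D206103 F418976 (iv4 D186406) (iv0 F345027) (iv4 F399890) (iv0 F399893) (iv5 F347380)
theorem F439269 : act 7 n205802 = n206103 := d11_0 F439268 (iv7 F422115) (iv4 F437923)
theorem F439270 : act 3 n206103 = n198168 := d20_9 F437692 (iv1 D205740) (iv4 F208157) F208156 D129815 (iv3 F418973) F418974 D201070 (iv4 F439268) (iv1 F437693)
def n206104 : Q := act 7 n127382
theorem D206104 : act 7 n127382 = n206104 := rfl
theorem F439271 : act 4 n206104 = n127385 := d11_1 D206104 (iv7 D127385) (iv4 F204708)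
theorem F439272 : act 5 n206104 = n186730 := d13_1 D206104 F367816 F344984
theorem F439273 : act 6 n206104 = n200915 := d14_1 D206104 (iv7 D200915) (iv6 D113621) (iv7 F94245) D127382
theorem F439274 : act 1 n205802 = n206104 := d15_1 F439233 (iv7 D206104) (iv2 F439229)
def n206105 : Q := act 4 n127383
theorem D206105 : act 4 n127383 = n206105 := rfl
theorem F439275 : act 6 n206105 = n187667 := d10_2 (iv6 F204709) D206105 (iv4 D187667)
theorem F439276 : act 7 n206105 = n201837 := d11_2 F439239 D206105 (iv4 F439244)
theorem F439277 : act 0 n206105 = n129851 := d20_1 D206105 (iv4 F418979) F418978 F327980 (iv3 F332851) (iv4 F332853) (iv1 F332854) F94250 (iv3 F94246) D127383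
def n206106 : Q := act 3 n127384
theorem D206106 : act 3 n127384 = n206106 := rfl
theorem F439278 : act 4 n206106 = n189661 := d20_6 (iv4 F288289) (iv1 F334341) F363987 D194005 (iv1 F391734) D206106 (iv1 F395954) F395949 (iv3 F288295) (iv1 D185863)
theorem F439279 : act 0 n183494 = n206106 := d18_2 F157559 D183494 F439278 (iv5 D189661) (iv4 D94280) (iv0 D44076) F62855 (iv0 F135032) D89028
theorem F439280 : act 1 n197165 = n206106 := d15_0 (iv0 F439279) F363455 (iv2 F403349)
def n206107 : Q := act 4 n127384
theorem D206107 : act 4 n127384 = n206107 := rfl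
theorem F439281 : act 2 n206107 = n201837 := d1_1 D206107 (iv4 F439244) F439243
theorem F439282 : act 6 n206107 = n129819 := d10_2 F347379 D206107 (iv4 F347618)
theorem F439283 : act 0 n129851 = n206107 := d20_7 F403352 (iv1 D186674) D186675 F367630 (iv1 F327981) (iv3 F418978) F418979 (iv4 D206107) D206106 (iv1 F439280)
def n206108 : Q := act 3 n127386
theorem D206108 : act 3 n127386 = n206108 := rfl
theorem F439284 : act 2 n206108 = n201116 := d0_1 D206108 F419148 F395366 (iv3 F395368) F204918
theorem F439285 : act 5 n206108 = n147691 := d6_2 (iv5 F204917) D206108 F231447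
theorem F439286 : act 7 n206108 = n200769 := d8_2 F204919 D206108 F417854
theorem F439287 : act 4 n206108 = n200644 := d20_6 F37374 (iv1 F37355) D28388 D59832 D127386 D206108 (iv1 D200644) (iv4 D113309) F82680 F40183
theorem F439288 : act 6 n154024 = n206108 := d10_0 F439287 (iv6 F417343) F398024
theorem F439289 : act 1 n195093 = n206108 := d15_1 (iv0 F398130) F439286 F417853
theorem F439290 : act 1 n206108 = n201117 := d15_0 F419151 F419149 (iv2 F439284)
def n206109 : Q := act 4 n127386
theorem D206109 : act 4 n127386 = n206109 := rfl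
theorem F439291 : act 2 n206109 = n200773 := d1_1 D206109 (iv4 D200773) F204918
theorem F439292 : act 7 n206109 = n200770 := d11_2 F204919 D206109 (iv4 D200770)
def n206110 : Q := act 6 n127386
theorem D206110 : act 6 n127386 = n206110 := rfl
theorem F439293 : act 2 n206110 = n200774 := d3_1 D206110 (iv6 D200774) F204918
theorem F439294 : act 3 n206110 = n154024 := d7_1 D206110 F439288 (iv3 D206108)
theorem F439295 : act 5 n206110 = n154023 := d12_1 D206110 F339646 (iv5 F395629) (iv6 D195065) (iv5 F204917)
theorem F439296 : act 7 n206110 = n201122 := d14_2 F204919 D206110 (iv6 F419167) F417861 (iv6 D200771)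
theorem F439297 : act 0 n206110 = n200654 := d21_10 (iv5 D200654) (iv1 D113316) D113317 F176518 D113322 F395591 F94258 D105227 (iv5 F204917) D206110
theorem F439298 : act 1 n206110 = n195176 := d15_1 (iv0 F439297) F396102 (iv2 F417371)
def n206111 : Q := act 4 n127387
theorem D206111 : act 4 n127387 = n206111 := rfl
theorem F439299 : act 2 n206111 = n200770 := d1_1 D206111 (iv4 D200770) F204920
theorem F439300 : act 7 n206111 = n200773 := d11_2 (iv7 F204922) D206111 (iv4 D200773)
def n206112 : Q := act 6 n127388
theorem D206112 : act 6 n127388 = n206112 := rfl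
theorem F439301 : act 2 n206112 = n127389 := d3_1 D206112 (iv6 D127389) D127388
theorem F439302 : act 3 n206112 = n200824 := d7_1 D206112 (iv6 D200824) (iv3 F204714)
def n206113 : Q := act 0 n127389
theorem D206113 : act 0 n127389 = n206113 := rfl
theorem F439303 : act 6 n206113 = n200097 := d21_5 F357989 (iv1 D105285) (iv5 F94247) D127389 D206113 F414994 (iv1 F203088) (iv5 F395583) (iv6 F395585) (iv1 F204752)
theorem F439304 : act 5 n206113 = n130302 := d21_8 F343605 (iv1 F176717) (iv5 F202418) F347329 D190730 (iv6 F398796) F398795 D206113 (iv6 D130302) F164615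
theorem F439305 : act 3 n130307 = n206113 := d6_3 F439304 F208837 D130307
def n206114 : Q := act 1 n127389
theorem D206114 : act 1 n127389 = n206114 := rfl
def n206115 : Q := act 7 n127389
theorem D206115 : act 7 n127389 = n206115 := rfl
theorem F439306 : act 3 n206115 = n127393 := d8_1 D206115 (iv7 D127393) (iv3 F204720)
theorem F439307 : act 5 n206115 = n131853 := d13_1 D206115 (iv7 F398797) F398795
theorem F439308 : act 6 n206115 = n132157 := d14_1 D206115 F358251 (iv6 D113540) (iv7 F94248) D127389
def n206116 : Q := act 0 n127394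
theorem D206116 : act 0 n127394 = n206116 := rfl
theorem F439309 : act 3 n206116 = n183494 := d20_5 (iv4 F82660) (iv1 F329123) (iv4 F329736) D127394 D206116 (iv4 D183494) F143986 (iv4 F347561) (iv3 D113928) (iv1 D52596)
theorem F439310 : act 2 n195759 = n206116 := d15_3 (iv0 D206116) (iv0 F374542) D195759
theorem F439311 : act 1 n195757 = n206116 := d15_0 (iv0 D206116) F204730 F398064
theorem F439312 : act 7 n206116 = n195737 := d15_2 D195757 F439311 F397994
theorem F439313 : act 4 n183496 = n206116 := d11_3 F439312 F397996 F367078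
theorem F439314 : act 5 n196162 = n206116 := d13_3 F439312 F397997 D196162
theorem F439315 : act 6 n195754 = n206116 := d14_5 F439312 (iv6 D195737) F163270 D106245 D195754
theorem F439316 : act 0 n195989 = n196162 := d19_0 F439314 (iv4 F439313) (iv3 D183496) F328522 F328125 (iv4 D34422) F325942 (iv1 F325067) (iv5 D16728) (iv4 F27452) F27451 F28495 D36242 D79580 F327062 (iv1 D52347) D52348 (iv4 F349633) D195989
def n206117 : Q := act 2 n127394
theorem D206117 : act 2 n127394 = n206117 := rfl
theorem F439317 : act 3 n206117 = n159860 := d0_2 D127394 D206117 (iv2 F331440) (iv3 D113686) (iv2 F176893)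
theorem F439318 : act 6 n206117 = n187639 := d3_2 (iv6 F374541) D206117 (iv2 F374539)
theorem F439319 : act 7 n206117 = n195757 := d4_2 (iv7 F204730) D206117 (iv2 F398064)
theorem F439320 : act 1 n206117 = n195737 := d15_0 (iv0 F397998) (iv7 F204730) D206117
theorem F439321 : act 1 n195759 = n206117 := d15_0 F439320 (iv7 F439312) (iv2 F439310)
theorem F439322 : act 4 n196231 = n206117 := d18_5 (iv1 D189799) F146887 D163949 (iv4 F341836) (iv5 F399989) F439320 F397996 (iv0 F422228) F422227
def n206118 : Q := act 4 n127394
theorem D206118 : act 4 n127394 = n206118 := rfl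
theorem F439323 : act 2 n206118 = n196231 := d1_1 D206118 F439322 (iv2 D206117)
theorem F439324 : act 3 n206118 = n182509 := d5_1 D206118 F364792 F207177 (iv4 F329736) D127394
theorem F439325 : act 5 n206118 = n200884 := d9_2 F399899 D206118 F418278 F434981 F434983 (iv5 D190426) D190425 F398060 (iv4 F398063) D196230 (iv4 F406198) (iv5 F433443) F433445 (iv5 D190430) D190429
theorem F439326 : act 6 n206118 = n196224 := d10_2 (iv6 F374541) D206118 F399969
theorem F439327 : act 7 n206118 = n196225 := d11_2 (iv7 F204730) D206118 F399973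
theorem F439328 : act 1 n206118 = n195765 := d18_8 D199741 F413331 (iv1 D124275) (iv4 F146907) (iv5 F367077) F439313 (iv0 D206116) D206118 F398079
theorem F439329 : act 0 n206118 = n196229 := d20_7 (iv4 F422128) F422129 F204708 F94246 D59834 D127394 D206118 F422231 F422234 (iv1 D201867)
def n206119 : Q := act 4 n127397
theorem D206119 : act 4 n127397 = n206119 := rfl
theorem F439330 : act 6 n206119 = n205601 := d10_2 F332581 D206119 (iv4 D205601)
theorem F439331 : act 7 n206119 = n200970 := d11_2 (iv7 F204735) D206119 (iv4 D200970)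
theorem F439332 : act 0 n206119 = n148743 := d20_1 D206119 F233518 (iv3 F143117) (iv1 D88542) (iv3 F75936) (iv4 F160071) F389542 F389541 F374719 (iv1 F331444)
def n206120 : Q := act 1 n127401
theorem D206120 : act 1 n127401 = n206120 := rfl
theorem F439333 : act 5 n206120 = n190398 := d17_7 F382611 (iv5 D191215) (iv1 F150142) D183224 (iv4 F363169) F238569 D206120 F379676 F379617
theorem F439334 : act 6 n135805 = n206120 := d21_3 F418976 (iv1 F379737) (iv5 F379736) (iv1 D206120) (iv6 D127401) (iv5 D59837) (iv1 F51370) (iv5 F83083) D113845 D201070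
theorem F439335 : act 2 n206120 = n130712 := d3_1 F439334 (iv6 F214071) F344977
theorem F439336 : act 3 n206120 = n190401 := d7_1 F439334 (iv6 F379744) F379743
def n206121 : Q := act 7 n127401
theorem D206121 : act 7 n127401 = n206121 := rfl
theorem F439337 : act 3 n206121 = n202944 := d8_1 D206121 (iv7 D202944) (iv3 F204746)
theorem F439338 : act 4 n206121 = n183412 := d11_1 D206121 (iv7 F418617) F418615
theorem F439339 : act 6 n206121 = n130641 := d14_1 D206121 F355271 F338616 F104872 D127401
theorem F439340 : act 1 n130712 = n206121 := d15_1 (iv0 F363172) (iv7 D206121) (iv2 F233471)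
def n206122 : Q := act 6 n127405
theorem D206122 : act 6 n127405 = n206122 := rfl
theorem F439341 : act 2 n206122 = n200766 := d3_1 D206122 (iv6 D200766) F204762
theorem F439342 : act 4 n206122 = n195133 := d10_1 D206122 (iv6 D195133) (iv4 F204760)
theorem F439343 : act 7 n206122 = n201680 := d14_2 (iv7 F204761) D206122 (iv6 D201680) (iv7 F396423) F396422
theorem F439344 : act 0 n206122 = n128775 := d21_4 (iv5 D200661) D200660 (iv5 F417383) D206122 (iv6 D128775) D128774 (iv1 F362254) (iv5 D128600) D128601 (iv1 F417390)
theorem F439345 : act 5 n206122 = n206082 := d21_6 (iv5 D23726) D23723 (iv5 F45914) D59839 D127405 D206122 (iv1 D206082) (iv5 D127370) (iv6 D59825) F45878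
def n206123 : Q := act 0 n127409
theorem D206123 : act 0 n127409 = n206123 := rfl
theorem F439346 : act 3 n206123 = n187657 := d20_5 (iv4 F82697) D113351 F178281 D127409 D206123 (iv4 F371127) (iv1 F418870) (iv4 D201046) (iv3 D113784) (iv1 D52539)
theorem F439347 : act 4 n206123 = n204926 := d20_0 F434209 (iv4 D188795) (iv3 D92807) (iv1 D43420) (iv3 F40334) (iv4 F82697) D113351 F178281 D127409 D206123
theorem F439348 : act 2 n195734 = n206123 := d15_3 (iv0 D206123) (iv0 F386960) D195734
theorem F439349 : act 1 n187644 = n206123 := d15_0 (iv0 D206123) F204775 (iv2 F371093)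
theorem F439350 : act 7 n206123 = n188615 := d15_2 (iv0 F386958) F439349 F374194
theorem F439351 : act 5 n185748 = n206123 := d13_3 F439350 (iv5 D188615) F290232
theorem F439352 : act 6 n195729 = n206123 := d14_5 F439350 F374196 F162423 D106234 D195729
def n206124 : Q := act 2 n127409
theorem D206124 : act 2 n127409 = n206124 := rfl
theorem F439353 : act 3 n206124 = n159559 := d0_2 D127409 D206124 (iv2 F251303) F176998 (iv2 F178277)
theorem F439354 : act 7 n206124 = n187644 := d4_2 (iv7 F204775) D206124 F371093
theorem F439355 : act 1 n206124 = n188615 := d15_0 (iv0 F374843) (iv7 F204775) D206124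
theorem F439356 : act 1 n195734 = n206124 := d15_0 F439355 (iv7 F439350) (iv2 F439348)
def n206125 : Q := act 4 n127409
theorem D206125 : act 4 n127409 = n206125 := rfl
theorem F439357 : act 7 n206125 = n201017 := d11_2 (iv7 F204775) D206125 (iv4 D201017)
theorem F439358 : act 0 n206125 = n195791 := d18_2 F386960 D206125 (iv4 F398192) (iv5 D185852) D185851 (iv0 F371068) F371066 (iv0 F290206) (iv5 F163263)
theorem F439359 : act 0 n188616 = n206125 := d20_10 (iv4 D206125) D206123 F439347 (iv3 D204926) (iv1 F432192) F432188 F211348 (iv1 F164881) (iv4 F206990) (iv3 F374198)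
def n206126 : Q := act 5 n127409
theorem D206126 : act 5 n127409 = n206126 := rfl
theorem F439360 : act 3 n206126 = n127410 := d6_1 D206126 (iv5 D127410) D127409
theorem F439361 : act 7 n206126 = n201018 := d13_2 (iv7 F204775) D206126 (iv5 D201018)
theorem F439362 : act 1 n206126 = n189611 := d17_8 F335793 (iv5 F143127) (iv1 F335792) F335788 D185748 F439351 (iv0 D206123) D206126 F377112
theorem F439363 : act 6 n189518 = n206126 := d14_5 F439361 F418756 (iv7 F178292) D187429 (iv7 F376784)
def n206127 : Q := act 6 n127409
theorem D206127 : act 6 n127409 = n206127 := rfl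
theorem F439364 : act 3 n206127 = n127411 := d7_1 D206127 (iv6 D127411) D127409
def n206128 : Q := act 1 n127411
theorem D206128 : act 1 n127411 = n206128 := rfl
theorem F439365 : act 1 n206128 = n195855 := d15_1 D206128 F398477 (iv2 F204784)
theorem F439366 : act 7 n206128 = n200989 := d15_2 (iv0 F418322) D206128 F418647
theorem F439367 : act 5 n200925 = n206128 := d21_0 (iv1 D206128) (iv5 F375317) (iv6 D188981) (iv1 D92964) D92966 F292041 D186227 F367231 F178383 (iv1 F418413)
theorem F439368 : act 6 n200998 = n206128 := d21_3 (iv5 F114347) D159498 (iv5 F418674) (iv1 D206128) (iv6 D127411) D127410 (iv1 F283796) (iv5 F374531) (iv6 F374533) (iv1 D106126)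
theorem F439369 : act 2 n206128 = n201016 := d2_1 F439367 (iv5 F420103) F420106
def n206129 : Q := act 4 n127417
theorem D206129 : act 4 n127417 = n206129 := rfl
theorem F439370 : act 2 n206129 = n127690 := d1_1 D206129 (iv4 D127690) (iv2 F204794)
theorem F439371 : act 6 n206129 = n127419 := d10_2 (iv6 F204795) D206129 (iv4 D127419)
theorem F439372 : act 0 n206129 = n203276 := d17_0 F427624 F401757 (iv5 D177184) (iv4 D84425) (iv5 D38926) D38925 D84421 (iv0 F319123) D206129
theorem F439373 : act 1 n206129 = n142906 := d18_6 (iv1 D145536) (iv4 F334494) (iv1 F341046) F317119 D127417 D206129 F225783 (iv0 F322382) (iv5 F323819)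
def n206130 : Q := act 0 n127420
theorem D206130 : act 0 n127420 = n206130 := rfl
theorem F439374 : act 5 n206130 = n189830 := d17_1 D206130 (iv1 F377914) (iv5 F377887) F377886 F235981 F250855 (iv5 F430405) F430408 F397414
theorem F439375 : act 4 n206130 = n201230 := d18_1 D206130 (iv1 F419550) (iv4 F393640) F393641 (iv4 F417441) F417444 F414349 F414346 (iv5 F204811)
theorem F439376 : act 2 n127486 = n206130 := d15_3 (iv0 D206130) F377909 F366046
theorem F439377 : act 1 n127487 = n206130 := d15_0 (iv0 D206130) F204806 D127487
theorem F439378 : act 7 n206130 = n127485 := d15_2 F390530 F439377 (iv2 F366047)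
def n206131 : Q := act 5 n127430
theorem D206131 : act 5 n127430 = n206131 := rfl
theorem F439379 : act 2 n206131 = n204148 := d2_1 D206131 (iv5 D204148) (iv2 F337242)
theorem F439380 : act 3 n206131 = n127745 := d6_1 D206131 (iv5 F205363) (iv3 F337243)
theorem F439381 : act 6 n206131 = n177028 := d12_2 (iv6 F337245) D206131 (iv5 D177028) (iv6 D84375) D84374
theorem F439382 : act 7 n206131 = n145057 := d13_2 (iv7 F337246) D206131 (iv5 F228003)
theorem F439383 : act 1 n206131 = n186946 := d17_6 (iv1 F369012) (iv5 D182995) (iv1 D87360) D87361 (iv4 F337244) D206131 (iv5 D186946) D186945 (iv4 F369008)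
def n206132 : Q := act 5 n127431
theorem D206132 : act 5 n127431 = n206132 := rfl
theorem F439384 : act 2 n206132 = n145057 := d2_1 D206132 (iv5 F228003) (iv2 F356976)
theorem F439385 : act 7 n206132 = n204148 := d13_2 (iv7 F356978) D206132 (iv5 D204148)
theorem F439386 : act 4 n206132 = n203127 := d16_2 (iv4 F356977) D206132 F427066 (iv4 D182981) (iv5 D87356) (iv4 F61723) D87361 (iv7 F319322) F319320
theorem F439387 : act 0 n206132 = n186946 := d17_2 (iv1 F418899) D206132 (iv5 D186946) (iv4 D89408) (iv5 D41749) D41746 D89397 F337251 (iv4 F418897)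
theorem F439388 : act 6 n206132 = n145054 := d21_3 (iv5 F418898) (iv1 F418899) D206132 (iv1 F397467) F397465 (iv5 D123506) D123504 F197920 F311527 D145994
def n206133 : Q := act 1 n127435
theorem D206133 : act 1 n127435 = n206133 := rfl
theorem F439389 : act 1 n206133 = n178955 := d15_1 D206133 F350804 F356781
theorem F439390 : act 7 n206133 = n200619 := d15_2 (iv0 F204836) D206133 F417238
theorem F439391 : act 4 n206133 = n153823 := d17_9 F432289 F432288 (iv1 D188310) F356633 F356630 F105457 (iv0 F202948) (iv5 F204835) D206133
theorem F439392 : act 5 n165802 = n206133 := d21_0 (iv1 D206133) F204835 D147692 F348430 F345642 (iv5 F345645) (iv1 D146736) F319815 D79875 (iv1 F338355)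
theorem F439393 : act 6 n132977 = n206133 := d21_9 F204835 F202948 (iv5 F105457) (iv6 F350801) F340631 (iv6 F320514) (iv5 D129798) (iv1 F336584) (iv5 F213607) (iv1 D206133)
theorem F439394 : act 2 n206133 = n154369 := d3_1 F439393 (iv6 D154369) (iv2 F339662)
def n206134 : Q := act 0 n127445
theorem D206134 : act 0 n127445 = n206134 := rfl
theorem F439395 : act 5 n206134 = n197781 := d17_1 D206134 F405769 (iv5 D189919) D189918 F378245 F367557 F366644 (iv0 D146911) (iv4 F204855)
theorem F439396 : act 4 n206134 = n188328 := d18_1 D206134 F373087 F361977 (iv5 D137271) (iv4 F101531) D140349 (iv4 F378266) (iv0 F380549) F380547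
theorem F439397 : act 3 n206134 = n190929 := d20_5 (iv4 D32079) (iv1 F50749) (iv4 F94311) D127445 D206134 F381578 F341068 (iv4 F335110) F340696 F103940
theorem F439398 : act 2 n198201 = n206134 := d15_3 (iv0 D206134) (iv0 F387992) (iv7 F407210)
theorem F439399 : act 1 n190919 = n206134 := d15_0 (iv0 D206134) (iv7 F230657) (iv2 F381548)
theorem F439400 : act 7 n206134 = n198206 := d15_2 F408259 F439399 F407226
theorem F439401 : act 6 n199849 = n206134 := d14_5 F439400 F407230 F378670 D192840 (iv7 F413811)
def n206135 : Q := act 2 n127445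
theorem D206135 : act 2 n127445 = n206135 := rfl
theorem F439402 : act 3 n206135 = n157642 := d0_2 D127445 D206135 (iv2 D157642) (iv3 D75068) F94312
theorem F439403 : act 4 n206135 = n146913 := d1_2 (iv4 F204855) D206135 (iv2 D146913)
theorem F439404 : act 5 n206135 = n189921 := d2_2 F380547 D206135 (iv2 F380551)
theorem F439405 : act 6 n206135 = n186970 := d3_2 F391652 D206135 (iv2 F391650)
theorem F439406 : act 7 n206135 = n190919 := d4_2 F230657 D206135 F381548
theorem F439407 : act 1 n206135 = n198206 := d15_0 F407229 F230657 D206135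
theorem F439408 : act 1 n198201 = n206135 := d15_0 F439407 (iv7 F439400) (iv2 F439398)
def n206136 : Q := act 7 n127471
theorem D206136 : act 7 n127471 = n206136 := rfl
theorem F439409 : act 2 n206136 = n127480 := d4_1 D206136 (iv7 D127480) (iv2 F204894)
theorem F439410 : act 4 n206136 = n201595 := d11_1 D206136 (iv7 F426345) F426343
theorem F439411 : act 5 n206136 = n160203 := d13_1 D206136 (iv7 D160203) (iv5 F204895)
theorem F439412 : act 6 n206136 = n146097 := d14_1 D206136 (iv7 F243247) (iv6 D76539) (iv7 F94330) D127471
theorem F439413 : act 1 n127479 = n206136 := d15_1 D127479 (iv7 D206136) F204894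
theorem F439414 : act 1 n206136 = n127478 := d15_1 F439413 (iv7 F422049) F422046
def n206137 : Q := act 3 n127472
theorem D206137 : act 3 n127472 = n206137 := rfl
theorem F439415 : act 0 n206137 = n188905 := d20_4 F327351 F120082 D127472 D206137 F417709 (iv4 D200735) (iv1 D113393) (iv4 F104875) (iv3 D68664) F327872
theorem F439416 : act 0 n188909 = n206137 := d20_4 F209254 (iv1 F398762) F398759 (iv3 F375172) (iv3 D206137) (iv4 D127472) (iv1 F162387) (iv4 F162388) D146454 F365176
def n206138 : Q := act 5 n127472
theorem D206138 : act 5 n127472 = n206138 := rfl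
theorem F439417 : act 2 n206138 = n201154 := d2_1 D206138 F419285 (iv2 F229777)
theorem F439418 : act 7 n206138 = n201372 := d13_2 F229780 D206138 F420226
theorem F439419 : act 4 n206138 = n146339 := d16_2 D127472 D206138 F229678 F104886 (iv5 F77037) F77039 D68614 (iv7 F163256) F163253
theorem F439420 : act 0 n206138 = n201373 := d17_2 (iv1 F204897) D206138 F420230 (iv4 D117328) (iv5 D54075) (iv0 D26161) D26163 (iv0 F55203) D76370
theorem F439421 : act 1 n206138 = n146426 := d17_6 (iv1 D68616) (iv5 D31926) F45968 D59871 D127472 D206138 (iv5 D146426) (iv0 F335943) (iv4 D146321)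
def n206139 : Q := act 6 n127472
theorem D206139 : act 6 n127472 = n206139 := rfl
theorem F439422 : act 2 n206139 = n192528 := d3_1 D206139 F386955 (iv2 F229777)
theorem F439423 : act 4 n206139 = n127473 := d10_1 D206139 (iv6 D127473) D127472
theorem F439424 : act 7 n206139 = n193990 := d14_2 F229780 D206139 F391656 F359584 F355834
theorem F439425 : act 0 n206139 = n187746 := d21_4 D146426 (iv1 F439421) (iv5 D206138) D206139 (iv6 D187746) D187745 F391790 (iv5 F394457) F394458 F335943
theorem F439426 : act 0 n201659 = n206139 := d21_4 F233477 (iv1 F421274) (iv5 D201658) D201659 (iv6 D206139) D206138 F439420 F420230 F335970 (iv1 F349032)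
theorem F439427 : act 3 n187763 = n206139 := d8_3 F439424 (iv3 F391659) (iv7 F374925)
theorem F439428 : act 6 n206137 = n187763 := d7_0 F439427 (iv6 D206139) D206137
def n206140 : Q := act 5 n127475
theorem D206140 : act 5 n127475 = n206140 := rfl
theorem F439429 : act 2 n206140 = n201159 := d2_1 D206140 F421066 F421067
theorem F439430 : act 3 n206140 = n127476 := d6_1 D206140 (iv5 D127476) D127475
theorem F439431 : act 6 n206140 = n159368 := d12_2 F418293 D206140 (iv5 F418298) (iv6 D200890) D200889
theorem F439432 : act 0 n206140 = n188877 := d17_2 (iv1 F421071) D206140 F375115 (iv4 F259549) F354591 F244962 (iv5 F393641) F393643 (iv4 F421069)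
theorem F439433 : act 1 n206140 = n201793 := d17_6 (iv1 F377888) D189828 F377905 (iv5 D127488) (iv4 F204904) D206140 F421811 F259550 (iv4 F377886)
def n206141 : Q := act 4 n127476
theorem D206141 : act 4 n127476 = n206141 := rfl
theorem F439434 : act 2 n206141 = n201372 := d1_1 D206141 (iv4 F426251) (iv2 F426254)
theorem F439435 : act 5 n206141 = n146317 := d9_2 D127476 D206141 (iv4 D146317) (iv5 D68614) (iv4 F77039) F77037 (iv4 F104886) (iv5 F229678) (iv4 F439419) (iv5 D206138) (iv4 D127472) (iv5 D59871) (iv4 D28426) D28427 D59874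
theorem F439436 : act 7 n206141 = n201154 := d11_2 F397418 D206141 (iv4 F419286)
theorem F439437 : act 0 n206141 = n146426 := d17_0 (iv5 D146426) (iv1 F335942) (iv5 F375159) F375158 (iv5 D146332) F104824 D68635 (iv0 F204905) D206141
theorem F439438 : act 1 n206141 = n201373 := d18_6 (iv1 F55383) (iv4 D34975) F54351 D59874 D127476 D206141 F420229 F183795 (iv5 D68644)
theorem F439439 : act 3 n206141 = n159368 := d20_3 (iv4 D146340) (iv1 F204906) D206141 (iv1 D159368) (iv3 F186815) (iv4 F428017) F428020 F371019 (iv3 D146562) (iv1 F229681)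
theorem F439440 : act 6 n127476 = n206141 := d7_0 F439439 (iv6 F439431) F439430
def n206142 : Q := act 6 n127486
theorem D206142 : act 6 n127486 = n206142 := rfl
theorem F439441 : act 4 n206142 = n201236 := d10_1 D206142 F419578 F225134
theorem F439442 : act 7 n206142 = n190823 := d14_2 F366046 D206142 (iv6 D190823) F178259 D164426
theorem F439443 : act 5 n206142 = n130581 := d21_6 (iv5 D127124) F161382 (iv5 F329744) (iv6 F390527) F390529 D206142 (iv1 D130581) D130582 F209154 (iv1 F204375)
def n206143 : Q := act 6 n127487
theorem D206143 : act 6 n127487 = n206143 := rfl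
theorem F439444 : act 2 n206143 = n127489 := d3_1 D206143 (iv6 D127489) D127487
theorem F439445 : act 3 n206143 = n186971 := d7_1 D206143 F368716 (iv3 F204911)
theorem F439446 : act 4 n206143 = n201022 := d10_1 D206143 F421065 F421064
theorem F439447 : act 7 n206143 = n137502 := d14_2 F390528 D206143 F220691 F329769 (iv6 F390527)
theorem F439448 : act 5 n137503 = n206143 := d13_3 F439447 (iv5 D137502) D137503
theorem F439449 : act 0 n159522 = n137503 := d17_2 (iv1 D159521) D159522 F439448 F439446 (iv5 D201022) (iv0 D113753) F82946 D79102 (iv4 F336918)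
theorem F439450 : act 0 n201190 = n206143 := d18_2 F335164 (iv4 F419378) F439446 (iv5 D201022) (iv4 F402684) (iv0 D197012) F165905 D113609 (iv5 F355236)
def n206144 : Q := act 6 n127488
theorem D206144 : act 6 n127488 = n206144 := rfl
theorem F439451 : act 2 n206144 = n199959 := d3_1 D206144 (iv6 D199959) (iv2 F204913)
theorem F439452 : act 3 n206144 = n127490 := d7_1 D206144 (iv6 D127490) (iv3 F204914)
theorem F439453 : act 4 n206144 = n195065 := d10_1 D206144 (iv6 D195065) F204916
def n206145 : Q := act 0 n127489
theorem D206145 : act 0 n127489 = n206145 := rfl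
theorem F439454 : act 4 n206145 = n201191 := d18_3 F418295 F418292 D206145 F419381 (iv4 F417214) (iv0 F417217) F177315 (iv0 F333503) D115123
theorem F439455 : act 7 n201190 = n206145 := d11_0 F439454 (iv7 D201191) (iv4 F419378)
theorem F439456 : act 1 n137502 = n206145 := d17_8 (iv1 F419383) F251089 (iv1 D113712) (iv5 F83279) (iv4 F148004) (iv5 F365070) (iv0 D137500) D137502 F439454
def n206146 : Q := act 5 n127489
theorem D206146 : act 5 n127489 = n206146 := rfl
theorem F439457 : act 2 n206146 = n137503 := d2_1 D206146 F439448 F439444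
theorem F439458 : act 3 n206146 = n127493 := d6_1 D206146 (iv5 D127493) (iv3 F204924)
theorem F439459 : act 7 n206146 = n128535 := d16_8 (iv4 F206728) (iv5 F408645) F408644 (iv5 F349556) F402689 D200889 F418292 D206146 F206746
theorem F439460 : act 0 n206146 = n137501 := d17_2 F418294 D206146 (iv5 F365074) F251261 (iv5 F176781) F176939 F355241 (iv0 F373896) (iv4 F378623)
theorem F439461 : act 1 n206146 = n137500 := d17_6 (iv1 D70568) (iv5 F82800) D113605 D200889 F418292 D206146 F365070 F336925 (iv4 D150009)
def n206147 : Q := act 7 n127489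
theorem D206147 : act 7 n127489 = n206147 := rfl
theorem F439462 : act 2 n206147 = n137502 := d4_1 D206147 (iv7 F439447) F439444
theorem F439463 : act 3 n206147 = n127494 := d8_1 D206147 (iv7 D127494) (iv3 F204924)
theorem F439464 : act 4 n206147 = n201024 := d11_1 D206147 F418785 F418292
theorem F439465 : act 5 n206147 = n128535 := d13_1 D206147 (iv7 F439459) (iv5 D206146)
theorem F439466 : act 6 n206147 = n128536 := d14_1 D206147 (iv7 F339727) F358197 F204806 D127489
theorem F439467 : act 1 n201190 = n206147 := d15_1 (iv0 F439450) (iv7 D206147) (iv2 F439444)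
def n206148 : Q := act 4 n127503
theorem D206148 : act 4 n127503 = n206148 := rfl
theorem F439468 : act 2 n206148 = n146275 := d1_1 D206148 (iv4 D146275) (iv2 F204930)
theorem F439469 : act 6 n206148 = n128125 := d10_2 F204929 D206148 (iv4 D128125)
theorem F439470 : act 7 n206148 = n202634 := d11_2 (iv7 F350185) D206148 F424857
theorem F439471 : act 5 n206148 = n201167 := d16_7 F229795 D200737 F417717 (iv5 D190245) F317110 D127503 D206148 F419306 (iv2 F418627)
theorem F439472 : act 0 n206148 = n195192 := d17_0 (iv5 F399948) F399949 (iv5 D170448) (iv4 D81714) (iv5 D37345) D37344 D81710 (iv0 F319121) D206148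
theorem F439473 : act 1 n206148 = n145520 := d18_6 F230692 F340410 (iv1 F340411) F317110 D127503 D206148 F228577 D145522 F335130
theorem F439474 : act 3 n203302 = n206148 := d6_3 F439471 F419309 (iv5 F427766)
def n206149 : Q := act 3 n127530
theorem D206149 : act 3 n127530 = n206149 := rfl
theorem F439475 : act 4 n206149 = n164497 := d5_2 D127530 D206149 (iv3 F392145) F392148 (iv3 D127529)
theorem F439476 : act 6 n206149 = n164496 := d7_2 F352649 D206149 (iv3 F334522)
theorem F439477 : act 7 n206149 = n127670 := d8_2 (iv7 F233725) D206149 (iv3 D127670)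
theorem F439478 : act 0 n206149 = n188538 := d20_4 F94370 D59893 D127530 D206149 F373863 (iv4 D114154) D114152 (iv4 F379545) F379544 F317847
theorem F439479 : act 0 n188543 = n206149 := d18_2 (iv1 F373859) D188543 F439475 (iv5 F371813) F371812 (iv0 F370167) F370165 F288215 (iv5 F373857)
def n206150 : Q := act 4 n127531
theorem D206150 : act 4 n127531 = n206150 := rfl
theorem F439480 : act 2 n206150 = n127656 := d1_1 D206150 (iv4 D127656) (iv2 F233720)
theorem F439481 : act 6 n206150 = n130329 := d10_2 (iv6 F204990) D206150 F305684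
theorem F439482 : act 7 n206150 = n127673 := d11_2 (iv7 F233721) D206150 (iv4 D127673)
theorem F439483 : act 0 n206150 = n203648 := d17_0 (iv5 D203648) F355176 (iv5 D60309) (iv4 D28649) D28650 D60313 F188354 (iv0 F204989) D206150
theorem F439484 : act 1 n206150 = n128001 := d18_6 (iv1 F192079) (iv4 F320031) F320029 (iv4 D127530) D127531 D206150 F205990 (iv0 F240292) F192125
theorem F439485 : act 3 n206150 = n203423 := d19_3 D59893 D127531 D206150 (iv1 F428239) F359309 F359308 F344438 (iv1 F341284) F341286 F126227 (iv3 D78621) (iv1 D35813) F28282 (iv4 F30302) (iv3 F37321) D49007 (iv5 F316388) F162452 F77116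
def n206151 : Q := act 5 n127537
theorem D206151 : act 5 n127537 = n206151 := rfl
theorem F439486 : act 2 n206151 = n145075 := d2_1 D206151 (iv5 D145075) (iv2 F348014)
theorem F439487 : act 3 n206151 = n202361 := d6_1 D206151 F423754 F397458
theorem F439488 : act 4 n206151 = n178880 := d9_1 D206151 F347159 (iv4 F223541) (iv5 F406917) (iv4 F426676) (iv5 D203022) (iv4 F348010) (iv5 F408690) (iv4 D198645) F169714 F81550 D108751 D197878 (iv5 F406088) (iv4 F348015)
theorem F439489 : act 0 n206151 = n140880 := d18_0 (iv4 F411022) F411026 (iv4 D148053) (iv5 D69350) D69349 (iv0 F243184) F184072 D127537 D206151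
def n206152 : Q := act 6 n127537
theorem D206152 : act 6 n127537 = n206152 := rfl
theorem F439490 : act 2 n206152 = n145076 := d3_1 D206152 (iv6 D145076) (iv2 F348014)
theorem F439491 : act 4 n206152 = n203023 := d10_1 D206152 (iv6 D203023) (iv4 F348015)
theorem F439492 : act 5 n206152 = n183398 := d21_6 (iv5 F125583) (iv1 F70560) (iv5 F125620) D170357 (iv1 F337288) D206152 (iv1 F359378) (iv5 D170271) (iv6 D81661) D81659
theorem F439493 : act 0 n206152 = n191076 := d21_1 (iv5 F439492) (iv5 F382122) (iv6 F383457) (iv1 D191423) (iv6 D98341) D98340 (iv1 F186623) F186620 D191508 (iv1 F383612)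
def n206153 : Q := act 6 n127611
theorem D206153 : act 6 n127611 = n206153 := rfl
theorem F439494 : act 2 n206153 = n127614 := d3_1 D206153 (iv6 D127614) (iv2 F205176)
theorem F439495 : act 3 n206153 = n191066 := d7_1 D206153 (iv6 D191066) (iv3 F359864)
theorem F439496 : act 4 n206153 = n164841 := d10_1 D206153 (iv6 F359282) (iv4 F205177)
theorem F439497 : act 7 n206153 = n203817 := d14_2 F379380 D206153 F429957 F394823 (iv6 F379384)
theorem F439498 : act 0 n138144 = n206153 := d21_4 F353243 (iv1 F353269) (iv5 F353268) F366245 (iv6 D206153) (iv5 D127611) (iv1 F162364) F205110 F325303 D174209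
theorem F439499 : act 1 n158019 = n206153 := d15_0 (iv0 F439498) (iv7 F395274) F395271
def n206154 : Q := act 1 n127612
theorem D206154 : act 1 n127612 = n206154 := rfl
theorem F439500 : act 1 n206154 = n127618 := d15_1 D206154 (iv7 D127618) (iv2 F205179)
theorem F439501 : act 7 n206154 = n127615 := d15_2 (iv0 F378358) D206154 (iv2 F378356)
theorem F439502 : act 4 n206154 = n143509 := d17_9 F427109 F427107 (iv1 D151938) (iv5 F230855) F230854 D149277 (iv0 F379309) F379308 D206154
theorem F439503 : act 6 n143507 = n206154 := d21_3 D70045 D149236 (iv5 F346268) (iv1 D206154) (iv6 D127612) D127611 F205178 (iv5 F223040) F353155 (iv1 D70044)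
theorem F439504 : act 2 n206154 = n127616 := d3_1 F439503 (iv6 F353154) F353151
def n206155 : Q := act 7 n127612
theorem D206155 : act 7 n127612 = n206155 := rfl
theorem F439505 : act 2 n206155 = n127618 := d4_1 D206155 (iv7 D127618) (iv2 F205179)
theorem F439506 : act 3 n206155 = n190773 := d8_1 D206155 F381000 (iv3 F363404)
theorem F439507 : act 4 n206155 = n127717 := d11_1 D206155 (iv7 D127717) (iv4 F205180)
theorem F439508 : act 5 n206155 = n191011 := d13_1 D206155 F381869 F379308
theorem F439509 : act 6 n206155 = n166129 := d14_1 D206155 F261596 (iv6 F290461) (iv7 F318770) D127612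
theorem F439510 : act 1 n127616 = n206155 := d15_1 D127616 (iv7 D206155) F205179
theorem F439511 : act 1 n206155 = n127615 := d15_1 F439510 (iv7 F439501) F439504
def n206156 : Q := act 5 n127614
theorem D206156 : act 5 n127614 = n206156 := rfl
theorem F439512 : act 3 n206156 = n127623 := d6_1 D206156 (iv5 D127623) (iv3 F205182)
theorem F439513 : act 6 n206156 = n127617 := d12_2 D127614 D206156 (iv5 D127617) (iv6 D59923) D59922
theorem F439514 : act 0 n188484 = n206156 := d21_7 (iv5 F224601) (iv1 F224599) F373626 (iv6 D188478) (iv1 D92175) D92178 D188484 (iv5 D206156) (iv6 D127614) D127613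
def n206157 : Q := act 3 n127615
theorem D206157 : act 3 n127615 = n206157 := rfl
theorem F439515 : act 6 n206157 = n190742 := d7_2 (iv6 F378357) D206157 (iv3 D190742)
theorem F439516 : act 4 n206157 = n193982 := d20_6 (iv4 D59940) (iv1 D28466) (iv4 F45986) (iv3 F94398) D127615 D206157 (iv1 D193982) (iv4 F368503) F368502 (iv1 F205218)
theorem F439517 : act 1 n193597 = n206157 := d18_6 (iv1 F384988) F411222 (iv1 D194687) F159477 (iv5 F157470) (iv4 F390406) F439516 F391608 F369045
def n206158 : Q := act 5 n127615
theorem D206158 : act 5 n127615 = n206158 := rfl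
theorem F439518 : act 0 n206158 = n190289 := d17_2 D127615 D206158 (iv5 D190289) F362079 (iv5 F210746) F350899 (iv5 D127721) (iv0 D59962) (iv4 F94399)
theorem F439519 : act 1 n206158 = n190243 := d17_6 F334995 (iv5 D167345) (iv1 F300242) D190797 F381104 D206158 (iv5 D190243) F362070 (iv4 F230854)
def n206159 : Q := act 5 n127616
theorem D206159 : act 5 n127616 = n206159 := rfl
theorem F439520 : act 0 n206159 = n190243 := d17_2 (iv1 F439510) D206159 (iv5 D190243) F362071 (iv5 F210841) (iv0 D131593) F320015 F205322 (iv4 F439507)
theorem F439521 : act 1 n206159 = n190289 := d17_6 (iv1 F335000) (iv5 D170568) (iv1 F300253) (iv5 F346214) (iv4 F359292) D206159 (iv5 D190289) F378324 F378322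
def n206160 : Q := act 1 n127617
theorem D206160 : act 1 n127617 = n206160 := rfl
theorem F439522 : act 1 n206160 = n191011 := d15_1 D206160 F381869 F379307
theorem F439523 : act 7 n206160 = n149277 := d15_2 F378320 D206160 (iv2 F378318)
theorem F439524 : act 5 n206160 = n149278 := d17_7 (iv1 F318754) (iv5 F318854) (iv1 D127729) (iv5 D59964) (iv4 F94399) D127617 D206160 (iv0 F362067) F317682
def n206161 : Q := act 4 n127617
theorem D206161 : act 4 n127617 = n206161 := rfl
def n206162 : Q := act 0 n127623
theorem D206162 : act 0 n127623 = n206162 := rfl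
theorem F439525 : act 5 n206162 = n194506 := d17_1 D206162 (iv1 F393484) F358132 (iv4 F369657) (iv5 F417735) F417737 (iv5 F430178) F430180 F382556
theorem F439526 : act 6 n206162 = n203868 := d21_5 (iv5 D127629) (iv1 D59929) D59930 (iv6 F205190) D206162 F430178 (iv1 F417737) F417735 F369658 (iv1 F363491)
theorem F439527 : act 1 n166719 = n206162 := d15_0 (iv0 D206162) F334008 (iv2 F262429)
theorem F439528 : act 4 n203869 = n206162 := d10_3 F439526 (iv4 D203868) D203869
def n206163 : Q := act 1 n127628
theorem D206163 : act 1 n127628 = n206163 := rfl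
theorem F439529 : act 7 n206163 = n155959 := d15_2 (iv0 F390765) D206163 F244992
theorem F439530 : act 6 n191088 = n206163 := d21_3 F352748 (iv1 F356237) (iv5 F382173) (iv1 D206163) (iv6 F379465) F379464 F340218 F335529 F357200 (iv1 F352744)
theorem F439531 : act 2 n206163 = n205504 := d3_1 F439530 F436743 F425244
theorem F439532 : act 3 n206163 = n193597 := d7_1 F439530 (iv6 D193597) F382174
theorem F439533 : act 0 n205435 = n206163 := d21_4 F393606 F210561 F378445 (iv6 F436408) (iv6 F439530) F382173 F356236 (iv5 D103722) D103723 D194530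
def n206164 : Q := act 2 n127628
theorem D206164 : act 2 n127628 = n206164 := rfl
theorem F439534 : act 3 n206164 = n164374 := d0_2 D127628 D206164 (iv2 F379543) F379544 F317849
theorem F439535 : act 4 n206164 = n198715 := d1_2 F342267 D206164 (iv2 F408972)
theorem F439536 : act 7 n206164 = n205435 := d4_2 F231540 D206164 F436406
theorem F439537 : act 1 n206164 = n205504 := d15_0 (iv0 F436744) F231540 D206164
theorem F439538 : act 1 n155959 = n206164 := d15_0 F439537 (iv7 D205504) (iv2 F244992)
def n206165 : Q := act 5 n127628
theorem D206165 : act 5 n127628 = n206165 := rfl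
theorem F439539 : act 3 n206165 = n127629 := d6_1 D206165 (iv5 D127629) D127628
theorem F439540 : act 1 n206165 = n190223 := d17_6 (iv1 F414917) F359974 (iv1 F434604) F434606 F342267 D206165 (iv5 D190223) F379109 (iv4 F414915)
def n206166 : Q := act 3 n127633
theorem D206166 : act 3 n127633 = n206166 := rfl
def n206167 : Q := act 6 n127647
theorem D206167 : act 6 n127647 = n206167 := rfl
theorem F439541 : act 2 n206167 = n160009 := d3_1 D206167 (iv6 F426846) F426843
theorem F439542 : act 3 n206167 = n127657 := d7_1 D206167 (iv6 D127657) (iv3 F205210)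
theorem F439543 : act 4 n206167 = n152079 := d10_1 D206167 (iv6 F428497) F428496
theorem F439544 : act 5 n206167 = n148986 := d12_1 D206167 (iv6 D148986) (iv5 F308809) F308810 D127647
theorem F439545 : act 7 n206167 = n150106 := d14_2 (iv7 F233874) D206167 (iv6 D150106) F233758 D148855
theorem F439546 : act 0 n206167 = n127845 := d21_4 (iv5 F204822) (iv1 F204825) D127647 D206167 (iv6 D127845) (iv5 F303687) D98483 (iv5 F186620) (iv6 F364465) F187772
theorem F439547 : act 0 n155118 = n206167 := d21_4 F315000 D138370 (iv5 F247162) (iv6 F366675) (iv6 D206167) (iv5 D127647) D127645 (iv5 F205207) F184577 F131875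
def n206168 : Q := act 5 n127651
theorem D206168 : act 5 n127651 = n206168 := rfl
theorem F439548 : act 3 n206168 = n127652 := d6_1 D206168 (iv5 D127652) D127651
theorem F439549 : act 1 n206168 = n190139 := d17_6 F361980 (iv5 F368540) F368543 (iv5 F289487) F362115 D206168 (iv5 D190139) (iv0 F366341) F149703
def n206169 : Q := act 6 n127652
theorem D206169 : act 6 n127652 = n206169 := rfl
theorem F439550 : act 5 n206169 = n189234 := d12_1 D206169 F377979 (iv5 D189847) F308811 D127652
theorem F439551 : act 0 n191320 = n206169 := d17_2 (iv1 D191319) D191320 F439550 (iv4 F383017) (iv5 D191315) (iv0 F151160) D186199 (iv0 F377109) F383032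
def n206170 : Q := act 4 n127655
theorem D206170 : act 4 n127655 = n206170 := rfl
theorem F439552 : act 2 n206170 = n150672 := d1_1 D206170 F237218 F205220
theorem F439553 : act 5 n206170 = n154539 := d9_2 (iv5 F316754) D206170 (iv4 F340387) F158465 F358005 (iv5 D95763) (iv4 F317108) (iv5 D71045) (iv4 F107582) (iv5 F303650) D174569 F358006 F358007 (iv5 D95768) (iv4 F319120)
theorem F439554 : act 7 n206170 = n128008 := d11_2 (iv7 F205221) D206170 F205995
theorem F439555 : act 0 n206170 = n128256 := d17_0 (iv5 D128256) (iv1 D60288) (iv5 D28644) F22811 (iv5 F22732) D28466 D59941 F205222 D206170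
theorem F439556 : act 1 n206170 = n128251 := d18_6 (iv1 F314791) F149014 (iv1 F71654) (iv4 F319120) (iv5 F316754) D206170 (iv4 F231538) F240291 (iv5 F190355)
def n206171 : Q := act 0 n127656
theorem D206171 : act 0 n127656 = n206171 := rfl
theorem F439557 : act 5 n206171 = n194331 := d17_1 D206171 F392852 (iv5 D128073) (iv4 D60185) (iv5 F312034) D81683 (iv5 F316754) (iv0 D127655) D127656
theorem F439558 : act 4 n206171 = n147802 := d18_1 D206171 (iv1 F240753) F240749 F233863 F354114 D133371 F379192 (iv0 F392772) F392770
theorem F439559 : act 6 n206171 = n130366 := d21_5 (iv5 F334227) (iv1 F334229) (iv5 D130383) (iv6 F309699) D206171 (iv5 F336306) (iv1 F306336) (iv5 D119497) (iv6 F306340) F190003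
theorem F439560 : act 2 n203648 = n206171 := d15_3 (iv0 D206171) F241463 (iv7 F429230)
theorem F439561 : act 1 n127673 = n206171 := d15_0 (iv0 D206171) F233883 F233881
theorem F439562 : act 7 n206171 = n128001 := d15_2 (iv0 F334067) F439561 (iv2 F241461)
def n206172 : Q := act 3 n127656
theorem D206172 : act 3 n127656 = n206172 := rfl
theorem F439563 : act 2 n206172 = n203676 := d0_1 D206172 F429371 (iv2 F428241) (iv3 F439485) F439480
theorem F439564 : act 4 n206172 = n205829 := d5_2 D127656 D206172 F438028 F428496 F205210
theorem F439565 : act 5 n206172 = n205999 := d6_2 F392770 D206172 F438771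
theorem F439566 : act 6 n206172 = n130381 := d7_2 (iv6 F309699) D206172 (iv3 D130381)
theorem F439567 : act 7 n206172 = n203288 := d8_2 (iv7 F233883) D206172 F427689
theorem F439568 : act 0 n206172 = n205988 := d20_10 F438714 (iv1 D126970) D126971 F327817 (iv1 F298882) (iv3 F301515) F107582 (iv1 F188385) D127656 D206172
theorem F439569 : act 1 n206172 = n205987 := d15_1 (iv0 F439568) (iv7 F438712) (iv2 F438716)
def n206173 : Q := act 5 n127666
theorem D206173 : act 5 n127666 = n206173 := rfl
theorem F439570 : act 2 n206173 = n127668 := d2_1 D206173 (iv5 D127668) D127666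
theorem F439571 : act 3 n206173 = n150104 := d6_1 D206173 (iv5 F426607) F426605
theorem F439572 : act 4 n206173 = n151749 := d9_1 D206173 (iv5 F317435) (iv4 F337122) (iv5 F293392) F293391 D194133 F392148 (iv5 F235779) F307658 (iv5 F360913) F360912 F286030 (iv4 F138925) (iv5 F369488) F369491
theorem F439573 : act 6 n206173 = n127958 := d12_2 (iv6 F426015) D206173 F337012 D190329 F426013
theorem F439574 : act 7 n206173 = n160011 := d13_2 F236555 D206173 (iv5 F308950)
theorem F439575 : act 0 n206173 = n127967 := d17_2 (iv1 F233830) D206173 (iv5 F244279) (iv4 F333297) (iv5 F153655) F349287 F349286 F184831 D148447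
theorem F439576 : act 1 n206173 = n154938 := d17_6 (iv1 F320313) D155319 F333319 (iv5 F369488) F369491 D206173 F335028 (iv0 D128313) (iv4 F318144)
def n206174 : Q := act 1 n127670
theorem D206174 : act 1 n127670 = n206174 := rfl
theorem F439577 : act 7 n206174 = n188543 := d15_2 (iv0 F346185) D206174 F373884
theorem F439578 : act 4 n206174 = n188534 := d18_7 (iv1 F288134) F288034 F371803 F371800 D187907 F371808 D206174 F373848 (iv5 F288171)
theorem F439579 : act 2 n188538 = n206174 := d1_3 F439578 F373844 D188538
def n206175 : Q := act 5 n127670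
theorem D206175 : act 5 n127670 = n206175 := rfl
theorem F439580 : act 3 n206175 = n127671 := d6_1 D206175 (iv5 D127671) D127670
theorem F439581 : act 6 n206175 = n133383 := d12_2 F359659 D206175 F214439 F97614 (iv5 F209161)
theorem F439582 : act 0 n206175 = n190030 := d17_2 (iv1 D206174) D206175 (iv5 D190030) F147237 (iv5 F288167) (iv0 D185832) D185834 (iv0 F373847) (iv4 F439578)
theorem F439583 : act 1 n206175 = n190033 := d17_6 (iv1 F193579) (iv5 F193580) (iv1 F235288) D187907 F371808 D206175 (iv5 D190033) F251964 F251962
def n206176 : Q := act 6 n127679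
theorem D206176 : act 6 n127679 = n206176 := rfl
theorem F439584 : act 3 n206176 = n127682 := d7_1 D206176 (iv6 D127682) D127679
theorem F439585 : act 7 n206176 = n191076 := d14_2 F364213 D206176 (iv6 D191076) F336835 D170405
theorem F439586 : act 0 n206176 = n145076 := d21_10 F367682 F431268 F431266 (iv6 D170265) F129501 D177031 (iv5 F424569) F424571 (iv5 F341009) D206176
def n206177 : Q := act 3 n127680
theorem D206177 : act 3 n127680 = n206177 := rfl
theorem F439587 : act 5 n206177 = n192843 := d6_2 (iv5 F361888) D206177 F393295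
theorem F439588 : act 7 n206177 = n199962 := d8_2 F364214 D206177 (iv3 F414361)
theorem F439589 : act 0 n206177 = n199964 := d20_4 F94414 D59944 D127680 D206177 F414368 (iv4 F363695) (iv1 F262013) (iv4 F346949) F150018 (iv1 F334488)
theorem F439590 : act 0 n190629 = n206177 := d20_4 (iv4 F147570) F312755 (iv4 F360232) (iv3 F380377) (iv3 D206177) (iv4 D127680) (iv1 F204800) F330078 F353134 (iv1 D95923)
theorem F439591 : act 2 n206177 = n199961 := d15_3 (iv0 D199961) D199962 (iv7 F439588)
def n206178 : Q := act 3 n127685
theorem D206178 : act 3 n127685 = n206178 := rfl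
theorem F439592 : act 4 n206178 = n150007 := d5_2 D127685 D206178 F334970 (iv4 D139967) F330074
theorem F439593 : act 5 n206178 = n195655 := d6_2 (iv5 F350623) D206178 (iv3 F397747)
theorem F439594 : act 6 n206178 = n150006 := d7_2 (iv6 F350621) D206178 (iv3 F350618)
theorem F439595 : act 0 n206178 = n206056 := d20_4 (iv4 F330078) (iv1 F204799) D127685 D206178 F439033 (iv4 F353120) (iv1 F353124) (iv4 F415552) F415551 (iv1 F334496)
def n206179 : Q := act 3 n127690
theorem D206179 : act 3 n127690 = n206179 := rfl
theorem F439596 : act 4 n206179 = n127765 := d5_2 D127690 D206179 (iv3 D127765) (iv4 D59997) (iv3 F94419)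
theorem F439597 : act 6 n206179 = n127694 := d7_2 (iv6 F205280) D206179 (iv3 D127694)
def n206180 : Q := act 5 n127690
theorem D206180 : act 5 n127690 = n206180 := rfl
theorem F439598 : act 1 n206180 = n202759 := d17_6 F330068 F330075 (iv1 D59945) D59946 D127690 D206180 (iv5 D202759) F393592 F393591
def n206181 : Q := act 0 n127692
theorem D206181 : act 0 n127692 = n206181 := rfl
theorem F439599 : act 3 n206181 = n137905 := d20_5 (iv4 F327618) (iv1 F360642) D202044 F422788 D206181 F221158 (iv1 F341541) F220669 (iv3 F181153) F320930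
theorem F439600 : act 5 n206181 = n146643 := d21_2 (iv5 F205285) D206181 (iv6 F330052) (iv1 F242481) (iv6 F307914) (iv5 D40168) (iv1 F296487) (iv5 F91938) (iv6 F313263) F243344
theorem F439601 : act 6 n206181 = n127976 := d21_5 F87429 (iv1 F79147) (iv5 F94428) D127692 D206181 (iv5 D127976) (iv1 D60127) D60128 F94685 F87431
theorem F439602 : act 2 n128380 = n206181 := d15_3 (iv0 D206181) (iv0 F320647) F320650
theorem F439603 : act 7 n206181 = n128381 := d4_2 F320650 F439602 F363000
theorem F439604 : act 1 n128382 = n206181 := d15_1 F320648 F439603 F363000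
def n206182 : Q := act 7 n127692
theorem D206182 : act 7 n127692 = n206182 := rfl
theorem F439605 : act 2 n206182 = n128382 := d4_1 D206182 (iv7 D128382) (iv2 F205284)
theorem F439606 : act 3 n206182 = n141534 := d8_1 D206182 (iv7 F422790) F422788
theorem F439607 : act 4 n206182 = n194734 := d11_1 D206182 F394289 (iv4 F350032)
theorem F439608 : act 5 n206182 = n147607 := d13_1 D206182 (iv7 D147607) (iv5 F205285)
theorem F439609 : act 6 n206182 = n128376 := d14_1 D206182 (iv7 D128376) (iv6 D60355) F94431 D127692
theorem F439610 : act 1 n128381 = n206182 := d15_1 D128381 (iv7 D206182) F205284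
theorem F439611 : act 1 n206182 = n128380 := d15_1 F439610 (iv7 F320650) (iv2 F363000)
def n206183 : Q := act 1 n127693
theorem D206183 : act 1 n127693 = n206183 := rfl
theorem F439612 : act 1 n206183 = n128376 := d15_1 D206183 (iv7 D128376) (iv2 F205286)
theorem F439613 : act 7 n206183 = n128374 := d15_2 (iv0 F244954) D206183 (iv2 F244951)
theorem F439614 : act 5 n206183 = n157462 := d17_7 (iv1 F205884) (iv5 F103948) F315256 D81667 (iv4 F315629) (iv5 F205288) D206183 F429868 F429865
theorem F439615 : act 4 n206183 = n175029 := d17_9 (iv1 F381883) (iv5 F379318) (iv1 F379319) F378998 F341147 F304901 (iv0 F304900) (iv5 F205288) D206183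
theorem F439616 : act 6 n140888 = n206183 := d21_3 (iv5 F223892) (iv1 F350120) (iv5 F225068) (iv1 D206183) (iv6 D127693) F94434 F79149 (iv5 F87429) F320412 (iv1 F223891)
theorem F439617 : act 2 n206183 = n128375 := d3_1 F439616 (iv6 F324261) F350116
theorem F439618 : act 3 n206183 = n166052 := d7_1 F439616 (iv6 F424676) F424679
def n206184 : Q := act 7 n127693
theorem D206184 : act 7 n127693 = n206184 := rfl
theorem F439619 : act 2 n206184 = n128376 := d4_1 D206184 (iv7 D128376) (iv2 F205286)
theorem F439620 : act 3 n206184 = n141452 := d8_1 D206184 F321258 (iv3 F205287)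
theorem F439621 : act 4 n206184 = n190860 := d11_1 D206184 (iv7 F427605) F427604
theorem F439622 : act 5 n206184 = n131252 := d13_1 D206184 (iv7 D131252) (iv5 F205288)
theorem F439623 : act 6 n206184 = n128382 := d14_1 D206184 (iv7 D128382) (iv6 D60357) (iv7 F94433) D127693
theorem F439624 : act 1 n128375 = n206184 := d15_1 D128375 (iv7 D206184) F205286
theorem F439625 : act 1 n206184 = n128374 := d15_1 F439624 (iv7 F439613) F439617
def n206185 : Q := act 2 n127694
theorem D206185 : act 2 n127694 = n206185 := rfl
theorem F439626 : act 4 n206185 = n127768 := d1_2 (iv4 F205289) D206185 (iv2 D127768)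
theorem F439627 : act 5 n206185 = n192734 := d2_2 F241639 D206185 F387614
theorem F439628 : act 7 n206185 = n128390 := d4_2 (iv7 F205290) D206185 (iv2 D128390)
theorem F439629 : act 1 n206185 = n128388 := d15_0 (iv0 D128388) (iv7 F205290) D206185
theorem F439630 : act 1 n128389 = n206185 := d15_0 F439629 (iv7 F373452) (iv2 F373455)
theorem E103915 : n192733 = n192615 := (c19_4 (iv1 F439629) F439627 (iv4 D192734) D192733 (iv1 D192615) D192616 (iv4 F392106) F392105 (iv1 D183909) (iv5 F295234) (iv4 F373578) F373577 (iv1 F178326) (iv5 D94017) F299846 (iv3 F299843) (iv1 D42730) D42732 D91302 (iv3 F352780))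
theorem F439631 : act 3 n192615 = n100569 := (sb E103915 (iv3 D192733))
def n206186 : Q := act 6 n127698
theorem D206186 : act 6 n127698 = n206186 := rfl
theorem F439632 : act 2 n206186 = n201234 := d3_1 D206186 F419568 F225644
theorem F439633 : act 3 n206186 = n188543 := d7_1 D206186 (iv6 F377880) (iv3 F377882)
theorem F439634 : act 4 n206186 = n203136 := d10_1 D206186 (iv6 D203136) F205301
theorem F439635 : act 0 n127725 = n206186 := d21_4 D204923 F434196 F428502 (iv6 F366432) (iv6 D206186) (iv5 F205302) (iv1 D112106) (iv5 F173668) (iv6 F361276) F234431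
theorem F439636 : act 1 n127720 = n206186 := d18_6 (iv1 F300254) (iv4 F303002) (iv1 F340787) (iv4 F333596) (iv5 D127721) D127720 F439634 (iv0 F427109) F346234
def n206187 : Q := act 6 n127704
theorem D206187 : act 6 n127704 = n206187 := rfl
theorem F439637 : act 2 n206187 = n202497 := d3_1 D206187 (iv6 D202497) F205307
theorem F439638 : act 3 n206187 = n202594 := d7_1 D206187 (iv6 D202594) F320911
theorem F439639 : act 4 n206187 = n143599 := d10_1 D206187 (iv6 D143599) (iv4 F205306)
theorem F439640 : act 0 n127724 = n206187 := d21_4 (iv5 D60194) D60192 D128083 (iv6 F366431) (iv6 D206187) F205305 (iv1 F102659) D142001 F346399 (iv1 D128089)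
def n206188 : Q := act 3 n127714
theorem D206188 : act 3 n127714 = n206188 := rfl
theorem F439641 : act 5 n206188 = n191424 := d6_2 (iv5 F333726) D206188 F383459
theorem F439642 : act 7 n206188 = n127724 := d8_2 (iv7 F363633) D206188 (iv3 D127724)
theorem F439643 : act 0 n202497 = n206188 := d17_0 F439641 (iv1 F383462) (iv5 F334132) (iv4 D134576) (iv5 D63235) (iv0 F341747) (iv5 F320874) (iv0 F370562) (iv4 F424266)
def n206189 : Q := act 4 n127714
theorem D206189 : act 4 n127714 = n206189 := rfl
theorem F439644 : act 2 n206189 = n127720 := d1_1 D206189 (iv4 D127720) (iv2 F363632)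
theorem F439645 : act 7 n206189 = n127725 := d11_2 (iv7 F363633) D206189 (iv4 D127725)
theorem F439646 : act 1 n206189 = n201234 := d18_6 F301226 (iv4 D80312) F312087 (iv4 F309311) (iv5 F333726) D206189 F419567 (iv0 F346223) F346214
def n206190 : Q := act 5 n127720
theorem D206190 : act 5 n127720 = n206190 := rfl
def n206191 : Q := act 2 n127724
theorem D206191 : act 2 n127724 = n206191 := rfl
theorem F439647 : act 5 n206191 = n184237 := d2_2 F366435 D206191 F286164
theorem F439648 : act 6 n206191 = n178498 := d3_2 (iv6 F366431) D206191 F278135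
theorem F439649 : act 4 n202745 = n206191 := d10_3 F439648 F362045 D202745
theorem F439650 : act 0 n206191 = n202497 := d21_4 (iv5 D119416) (iv1 F188403) D178498 (iv6 F439648) (iv6 D202497) (iv5 F180376) (iv1 F162314) D105706 F317368 (iv1 F206165)
def n206192 : Q := act 4 n127724
theorem D206192 : act 4 n127724 = n206192 := rfl
theorem F439651 : act 2 n206192 = n202745 := d1_1 D206192 F439649 (iv2 D206191)
theorem F439652 : act 6 n206192 = n202740 := d10_2 (iv6 F366431) D206192 F425361
theorem F439653 : act 1 n206192 = n203147 := d18_6 F315553 F344401 (iv1 D98343) (iv4 F151771) F366435 D206192 (iv4 D203147) (iv0 D117818) D117822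
theorem F439654 : act 0 n206192 = n202710 := d20_1 D206192 F425228 F315548 F182314 (iv3 F381132) F381135 (iv1 D188561) F317796 D148484 (iv1 F383449)
def n206193 : Q := act 3 n127725
theorem D206193 : act 3 n127725 = n206193 := rfl
theorem F439655 : act 2 n206193 = n199968 := d0_1 D206193 F414394 (iv2 F408919) (iv3 F358573) F366433
theorem F439656 : act 6 n206193 = n166525 := d7_2 (iv6 F366432) D206193 (iv3 F363702)
theorem F439657 : act 5 n198556 = n206193 := d21_8 (iv5 F363694) (iv1 F319633) (iv5 F413821) (iv6 D199851) (iv1 F381590) (iv6 D190931) D190930 (iv1 F408340) F439656 (iv1 F363700)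
def n206194 : Q := act 5 n127725
theorem D206194 : act 5 n127725 = n206194 := rfl
theorem F439658 : act 3 n206194 = n198556 := d6_1 D206194 F439657 (iv3 D206193)
def n206195 : Q := act 3 n127729
theorem D206195 : act 3 n127729 = n206195 := rfl
theorem F439659 : act 4 n206195 = n186634 := d5_2 F346977 D206195 F367509 (iv4 F155440) (iv3 F346976)
theorem F439660 : act 5 n206195 = n149262 := d6_2 (iv5 F318854) D206195 F234650
theorem F439661 : act 6 n206195 = n131405 := d7_2 (iv6 F318855) D206195 F210629
theorem F439662 : act 7 n206195 = n127853 := d8_2 (iv7 F318856) D206195 F205723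
theorem F439663 : act 0 n131258 = n206195 := d20_4 F314370 (iv1 F314586) (iv4 F208295) D131258 (iv3 D206195) (iv4 F346977) F346974 F337663 (iv3 F238916) (iv1 D131107)
def n206196 : Q := act 3 n127734
theorem D206196 : act 3 n127734 = n206196 := rfl
theorem F439664 : act 5 n206196 = n130744 := d6_2 (iv5 F319979) D206196 (iv3 D130744)
theorem F439665 : act 6 n206196 = n156836 := d7_2 (iv6 F312202) D206196 (iv3 D156836)
theorem F439666 : act 7 n206196 = n145779 := d8_2 F205336 D206196 F228910
theorem F439667 : act 0 n206196 = n132601 := d20_4 F320191 (iv1 F113826) (iv4 F205335) D206196 F354319 F283777 F135510 D89557 F321003 F321651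
theorem F439668 : act 0 n132606 = n206196 := d20_4 F231290 F231278 F310633 (iv3 F354317) (iv3 D206196) F205335 (iv1 F113832) (iv4 F320207) (iv3 F212928) F354305
def n206197 : Q := act 0 n127765
theorem D206197 : act 0 n127765 = n206197 := rfl
theorem F439669 : act 5 n206197 = n175450 := d17_3 F346562 F282979 D206197 (iv4 F364316) (iv5 D132802) (iv0 D62326) D62328 D132810 (iv4 F336059)
theorem F439670 : act 6 n206197 = n173373 := d21_5 F346526 (iv1 D76266) (iv5 F94468) (iv6 F205389) D206197 (iv5 F271843) F311764 D101656 F337554 (iv1 F346525)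
theorem F439671 : act 2 n175000 = n206197 := d3_3 F439670 F271844 D175000
def n206198 : Q := act 1 n127765
theorem D206198 : act 1 n127765 = n206198 := rfl
theorem F439672 : act 7 n206198 = n175000 := d15_2 (iv0 D206197) D206198 F439671
theorem F439673 : act 3 n147680 = n206198 := d19_19 (iv1 D206198) (iv5 F282979) F342202 F342201 F346567 (iv5 F288039) (iv4 F381028) F381027 (iv1 F204754) (iv5 F417062) F417061 F202166 D125696 F202175 F176560 (iv3 F176322) (iv1 F363263) (iv5 F363265) F344155
theorem F439674 : act 4 n196438 = n206198 := d20_6 (iv4 D153719) F315361 (iv4 F111981) F111980 (iv1 F171954) D196438 (iv1 D206198) (iv4 F439596) (iv3 D206179) F350189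
theorem F439675 : act 6 n174738 = n206198 := d21_3 (iv5 D84010) F331856 (iv5 F273570) (iv1 D206198) F205389 F94468 D76265 (iv5 F346535) F346538 (iv1 D176111)
theorem F439676 : act 5 n147678 = n206198 := d21_6 F346479 (iv1 F327863) (iv5 D175969) (iv6 D83969) (iv1 F278411) (iv6 F356064) (iv1 D206198) (iv5 F282979) (iv6 D181804) D181801
def n206199 : Q := act 2 n127765
theorem D206199 : act 2 n127765 = n206199 := rfl
theorem F439677 : act 3 n206199 = n176094 := d0_2 D127765 D206199 F347645 F206677 F94958
theorem F439678 : act 5 n206199 = n170733 := d2_2 F282979 D206199 F355101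
theorem F439679 : act 6 n206199 = n127768 := d3_2 (iv6 F205389) D206199 (iv2 D127768)
theorem F439680 : act 0 n206199 = n175000 := d21_4 (iv5 F349919) (iv1 F206673) (iv5 F205391) (iv6 F439679) (iv6 D175000) F308413 (iv1 D77843) D77845 (iv6 F325121) D155617
def n206200 : Q := act 4 n127766
theorem D206200 : act 4 n127766 = n206200 := rfl
theorem F439681 : act 2 n206200 = n128507 := d1_1 D206200 (iv4 D128507) (iv2 F346489)
theorem F439682 : act 3 n206200 = n196481 := d5_1 D206200 F400794 (iv3 D154767) D154768 (iv3 F243422)
theorem F439683 : act 6 n206200 = n195924 := d10_2 F434816 D206200 (iv4 F434818)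
theorem F439684 : act 7 n206200 = n128502 := d11_2 (iv7 F346491) D206200 (iv4 D128502)
theorem F439685 : act 0 n206200 = n195891 := d17_0 (iv5 F398617) F388648 F387612 (iv4 F203975) F346526 F206671 (iv5 D128510) F205390 D206200
def n206201 : Q := act 4 n127773
theorem D206201 : act 4 n127773 = n206201 := rfl
theorem F439686 : act 2 n206201 = n183152 := d1_1 D206201 F373022 (iv2 F373021)
theorem F439687 : act 7 n206201 = n183151 := d11_2 (iv7 F205405) D206201 F358479
theorem F439688 : act 5 n206201 = n140573 := d16_1 D206201 (iv4 D140573) F180140 (iv4 F84763) F320462 (iv4 F319138) D140842 (iv7 F373019) (iv2 F373021)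
theorem F439689 : act 0 n206201 = n182040 := d18_2 (iv1 F373026) D206201 (iv4 F425312) (iv5 D202729) (iv4 D116627) (iv0 F181995) F166903 (iv0 F180950) (iv5 F373025)
theorem F439690 : act 1 n206201 = n183153 := d18_8 (iv1 F394220) (iv4 D141891) F180882 F331051 (iv5 F295238) F356695 (iv0 F321180) D206201 (iv5 F394218)
def n206202 : Q := act 6 n127773
theorem D206202 : act 6 n127773 = n206202 := rfl
theorem F439691 : act 3 n206202 = n127778 := d7_1 D206202 (iv6 D127778) (iv3 F205404)
theorem F439692 : act 5 n206202 = n187429 := d12_1 D206202 (iv6 D187429) F205407 (iv6 D127774) D127773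
theorem F439693 : act 0 n206202 = n187506 := d21_10 (iv5 D187506) (iv1 F205435) D159844 F251979 F114677 (iv6 F163375) (iv5 D106299) F290365 D127773 D206202
theorem F439694 : act 1 n206202 = n187503 := d15_1 (iv0 F439693) (iv7 F374220) F374219
theorem F439695 : act 7 n206202 = n188980 := d15_2 (iv0 F372186) (iv0 F439693) F375313
def n206203 : Q := act 3 n127775
theorem D206203 : act 3 n127775 = n206203 := rfl
theorem F439696 : act 2 n206203 = n188989 := d0_1 D206203 F419457 (iv2 F419993) (iv3 D201316) F205410
theorem F439697 : act 5 n206203 = n159473 := d6_2 (iv5 F205408) D206203 F251126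
theorem F439698 : act 7 n206203 = n188990 := d8_2 F205411 D206203 (iv3 F413183)
theorem F439699 : act 1 n188991 = n206203 := d15_1 (iv0 F413230) F439698 (iv2 F413227)
theorem F439700 : act 1 n206203 = n187442 := d15_1 F439699 F370334 (iv2 F375344)
def n206204 : Q := act 4 n127775
theorem D206204 : act 4 n127775 = n206204 := rfl
theorem F439701 : act 2 n206204 = n140731 := d1_1 D206204 (iv4 F339977) F205410
theorem F439702 : act 5 n206204 = n140730 := d9_2 (iv5 F205408) D206204 F223828 (iv5 F419750) F419751 F179079 F161863 (iv5 F205414) (iv4 F424218) (iv5 D202487) (iv4 F182940) (iv5 F225392) F340493 (iv5 D105476) (iv4 F177800)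
theorem F439703 : act 7 n206204 = n201317 := d11_2 F205411 D206204 (iv4 D201317)
theorem F439704 : act 0 n206204 = n157728 := d17_0 F331516 (iv1 D142013) (iv5 F340006) (iv4 D60011) (iv5 D28491) D28490 D60007 F205409 D206204
theorem F439705 : act 1 n206204 = n157720 := d18_6 (iv1 F178992) F322800 (iv1 F323341) (iv4 F177800) (iv5 F205408) D206204 (iv4 D157720) D157719 F248562
theorem F439706 : act 3 n206204 = n196324 := d19_3 (iv1 F177798) (iv5 F205408) D206204 (iv1 D196324) (iv5 D106896) F78107 (iv3 D30182) (iv1 D14327) D14329 (iv4 F45801) (iv3 F94017) (iv1 F322104) (iv5 F102373) F320410 (iv3 F103183) (iv1 F321954) D68209 F166903 (iv3 F324160)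
def n206205 : Q := act 6 n127775
theorem D206205 : act 6 n127775 = n206205 := rfl
theorem F439707 : act 2 n206205 = n183159 := d3_1 D206205 (iv6 F365000) F205410
theorem F439708 : act 5 n206205 = n159475 := d12_1 D206205 (iv6 D159475) (iv5 D76283) D76284 (iv5 F205408)
theorem F439709 : act 7 n206205 = n183158 := d14_2 F205411 D206205 F420090 F205619 (iv6 F205611)
theorem F439710 : act 0 n206205 = n183160 := d21_4 (iv5 F83353) (iv1 F177798) (iv5 F205408) D206205 F416210 (iv5 D200379) (iv1 F176143) (iv5 F205569) (iv6 D127795) (iv1 F94480)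
theorem F439711 : act 0 n183162 = n206205 := d21_4 F420023 F399822 F399820 F399619 (iv6 D206205) F205408 (iv1 F177901) F177898 D114324 D201325
def n206206 : Q := act 3 n127777
theorem D206206 : act 3 n127777 = n206206 := rfl
theorem F439712 : act 5 n206206 = n202603 := d6_2 F331556 D206206 (iv3 D202603)
theorem F439713 : act 6 n206206 = n205499 := d7_2 F339931 D206206 (iv3 D205499)
theorem F439714 : act 7 n206206 = n201320 := d8_2 (iv7 F205418) D206206 (iv3 D201320)
def n206207 : Q := act 0 n127781
theorem D206207 : act 0 n127781 = n206207 := rfl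
theorem F439715 : act 5 n206207 = n164428 := d17_3 (iv1 F178289) D127781 D206207 (iv4 F393640) F393641 (iv0 D155948) (iv5 F354588) F354586 F357975
theorem F439716 : act 1 n201312 = n206207 := d15_0 (iv0 D206207) F205530 (iv2 F419977)
theorem F439717 : act 6 n195806 = n206207 := d21_3 F421915 (iv1 F418681) F418319 (iv1 F439716) F419979 F370831 F360296 F251995 (iv6 F397716) F421917
theorem F439718 : act 2 n206207 = n201314 := d3_1 F439717 (iv6 F419986) F418643
theorem F439719 : act 7 n201313 = n206207 := d15_2 F419983 F419982 F439718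
def n206208 : Q := act 1 n127781
theorem D206208 : act 1 n127781 = n206208 := rfl
theorem F439720 : act 1 n206208 = n201312 := d15_1 D206208 F419980 F397724
theorem F439721 : act 7 n206208 = n201314 := d15_2 (iv0 D206207) D206208 (iv2 F439718)
theorem F439722 : act 5 n206208 = n159457 := d17_7 (iv1 F377909) F204811 (iv1 F414346) F414348 (iv4 D127780) D127781 D206208 F353127 (iv4 F259074)
theorem F439723 : act 3 n192785 = n206208 := d20_3 (iv4 F387652) (iv1 F407437) F407439 (iv1 D206208) F205529 D127783 F331562 (iv4 F326282) (iv3 F387735) (iv1 D192779)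
theorem F439724 : act 2 n201313 = n206208 := d2_3 F439722 (iv2 F393631) (iv5 F419981)
def n206209 : Q := act 4 n127781
theorem D206209 : act 4 n127781 = n206209 := rfl
theorem F439725 : act 7 n206209 = n201315 := d11_2 (iv7 F205530) D206209 (iv4 D201315)
def n206210 : Q := act 3 n127783
theorem D206210 : act 3 n127783 = n206210 := rfl
theorem F439726 : act 5 n206210 = n202604 := d6_2 F331553 D206210 (iv3 D202604)
theorem F439727 : act 7 n206210 = n201318 := d8_2 (iv7 F205533) D206210 (iv3 D201318)
theorem F439728 : act 0 n140545 = n206210 := d20_4 F358476 F358483 (iv4 D140549) (iv3 F223686) (iv3 D206210) (iv4 D127783) (iv1 F205412) (iv4 F424218) F424216 (iv1 F225041)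
def n206211 : Q := act 4 n127786
theorem D206211 : act 4 n127786 = n206211 := rfl
theorem F439729 : act 3 n206211 = n198309 := d5_1 D206211 (iv4 F420520) (iv3 D201439) F178571 D127786
theorem F439730 : act 7 n206211 = n201327 := d11_2 (iv7 F205543) D206211 (iv4 D201327)
theorem F439731 : act 5 n206211 = n140549 := d16_1 D206211 (iv4 D140549) (iv5 D65963) D65962 D140547 F223691 (iv5 F223917) (iv7 F225136) (iv2 F325369)
theorem F439732 : act 0 n206211 = n183090 := d18_2 (iv1 F360950) D206211 (iv4 F425374) (iv5 D202742) (iv4 D116678) (iv0 F318230) (iv4 F290352) (iv0 F290365) D106299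
def n206212 : Q := act 6 n127786
theorem D206212 : act 6 n127786 = n206212 := rfl
theorem F439733 : act 3 n206212 = n127787 := d7_1 D206212 (iv6 D127787) D127786
theorem F439734 : act 5 n196002 = n206212 := d6_0 F439733 F205545 D196002
def n206213 : Q := act 1 n127787
theorem D206213 : act 1 n127787 = n206213 := rfl
theorem F439735 : act 1 n206213 = n196001 := d15_1 D206213 F399025 (iv2 F205544)
theorem F439736 : act 7 n206213 = n201325 := d15_2 (iv0 F376780) D206213 (iv2 F420026)
theorem F439737 : act 5 n206213 = n196215 := d17_7 (iv1 F370129) F343682 (iv1 F214459) F358297 (iv4 F364642) (iv5 F205545) D206213 (iv0 F399933) (iv4 F399076)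
theorem F439738 : act 2 n201326 = n206213 := d2_3 F439737 F399927 (iv5 F420030)
def n206214 : Q := act 6 n127790
theorem D206214 : act 6 n127790 = n206214 := rfl
theorem F439739 : act 2 n206214 = n201330 := d3_1 D206214 (iv6 D201330) F205555
theorem F439740 : act 3 n206214 = n196355 := d7_1 D206214 (iv6 D196355) (iv3 F363663)
theorem F439741 : act 4 n206214 = n157731 := d10_1 D206214 (iv6 D157731) (iv4 F205554)
theorem F439742 : act 7 n206214 = n196755 := d14_2 F205556 D206214 (iv6 D196755) (iv7 F172220) F339967
def n206215 : Q := act 4 n127797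
theorem D206215 : act 4 n127797 = n206215 := rfl
theorem F439743 : act 2 n206215 = n195834 := d1_1 D206215 (iv4 D195834) F205580
theorem F439744 : act 7 n206215 = n195836 := d11_2 F205582 D206215 (iv4 D195836)
theorem F439745 : act 5 n206215 = n193849 := d17_5 (iv1 F163377) F83365 F164484 (iv5 F205578) D206215 F391200 F371544 F371543 (iv4 F356687)
theorem F439746 : act 0 n206215 = n201421 := d18_2 D127797 D206215 (iv4 D201421) (iv5 D114478) F163364 F163361 (iv4 F94483) (iv0 D60013) D60014
theorem F439747 : act 1 n206215 = n201402 := d18_6 (iv1 D90582) F65490 D90276 (iv4 F164482) (iv5 F205578) D206215 (iv4 D201402) (iv0 F371540) (iv5 D187801)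
theorem F439748 : act 6 n134997 = n206215 := d21_3 (iv5 D134906) (iv1 F216831) F352493 F439746 F420455 (iv5 F432288) (iv1 F432291) (iv5 F429621) F429622 F412719
theorem F439749 : act 2 n193849 = n182199 := d2_1 F439745 (iv5 F398385) (iv2 F439743)
theorem F439750 : act 7 n193849 = n182198 := d13_2 (iv7 F439744) F439745 (iv5 F398394)
theorem F439751 : act 2 n182198 = n193848 := d15_3 (iv0 D193848) D193849 F439750
theorem F439752 : act 7 n182199 = n193848 := d4_2 (iv7 F439750) F439749 (iv2 F439751)
theorem F439753 : act 3 n193848 = n188276 := d8_1 F439752 (iv7 F372929) (iv3 F398386)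
def n206216 : Q := act 6 n127797
theorem D206216 : act 6 n127797 = n206216 := rfl
theorem F439754 : act 2 n206216 = n195835 := d3_1 D206216 (iv6 D195835) F205580
theorem F439755 : act 3 n206216 = n197176 := d7_1 D206216 F403403 F205581
theorem F439756 : act 4 n206216 = n134997 := d10_1 D206216 F439748 (iv4 D206215)
theorem F439757 : act 5 n206216 = n196163 := d12_1 D206216 (iv6 D196163) F164477 D106715 (iv5 F205578)
theorem F439758 : act 0 n206216 = n190374 := d21_4 F83365 F164484 (iv5 F205578) D206216 (iv6 D190374) (iv5 D95955) D95952 F356682 F356685 (iv1 F163377)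
theorem F439759 : act 0 n183164 = n206216 := d21_4 (iv5 F140224) F295235 (iv5 F134186) D183164 (iv6 D206216) F205578 (iv1 F164485) (iv5 F205622) F356656 F141535
theorem F439760 : act 5 n191219 = n200358 := d16_7 F416066 (iv5 F439757) F439756 (iv5 F352493) (iv4 F216826) (iv5 F373502) (iv4 F382628) F416133 (iv2 F416065)
theorem F439761 : act 3 n200359 = n191219 := d6_3 F439760 (iv3 D200358) D200359
def n206217 : Q := act 4 n127798
theorem D206217 : act 4 n127798 = n206217 := rfl
theorem F439762 : act 2 n206217 = n195836 := d1_1 D206217 (iv4 D195836) (iv2 F205586)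
theorem F439763 : act 7 n206217 = n195834 := d11_2 (iv7 F205584) D206217 (iv4 D195834)
theorem F439764 : act 5 n206217 = n193848 := d17_5 (iv1 F205624) F205622 (iv1 F164496) F205585 D206217 (iv0 D193848) (iv5 F295287) D188290 F372973
theorem F439765 : act 0 n206217 = n201402 := d18_2 (iv1 F205583) D206217 (iv4 D201402) (iv5 D114432) (iv4 F163345) (iv0 F163347) F77579 F77523 D106258
theorem F439766 : act 1 n206217 = n201421 := d18_6 (iv1 F139445) (iv4 F139443) (iv1 F139446) (iv4 F164493) F205585 D206217 (iv4 D201421) (iv0 F371535) (iv5 D187800)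
def n206218 : Q := act 6 n127798
theorem D206218 : act 6 n127798 = n206218 := rfl
theorem F439767 : act 2 n206218 = n195753 := d3_1 D206218 F398049 (iv2 F205586)
theorem F439768 : act 3 n206218 = n203374 := d7_1 D206218 (iv6 D203374) (iv3 F205587)
theorem F439769 : act 5 n206218 = n195735 := d12_1 D206218 (iv6 D195735) (iv5 F163265) (iv6 F164494) F205585
theorem F439770 : act 0 n206218 = n200935 := d21_4 F205622 (iv1 F164496) F205585 D206218 F418432 (iv5 D114318) F316766 D115868 F316771 (iv1 F205624)
def n206219 : Q := act 1 n127799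
theorem D206219 : act 1 n127799 = n206219 := rfl
theorem F439771 : act 1 n206219 = n195782 := d15_1 D206219 F398153 (iv2 F205588)
theorem F439772 : act 7 n206219 = n195837 := d15_2 F420927 D206219 (iv2 F420924)
theorem F439773 : act 4 n206219 = n151222 := d18_7 (iv1 D106294) F77579 F55091 F46021 D60014 D127799 D206219 F374966 F374963
theorem F439774 : act 2 n195838 = n206219 := d1_3 F439773 (iv2 F371536) (iv4 F398401)
def n206220 : Q := act 3 n127799
theorem D206220 : act 3 n127799 = n206220 := rfl
theorem F439775 : act 4 n206220 = n127801 := d5_2 D127799 D206220 (iv3 D127801) (iv4 D60015) (iv3 F94490)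
theorem F439776 : act 7 n206220 = n201333 := d8_2 (iv7 F205589) D206220 (iv3 D201333)
def n206221 : Q := act 5 n127799
theorem D206221 : act 5 n127799 = n206221 := rfl
theorem F439777 : act 2 n206221 = n195840 := d2_1 D206221 (iv5 D195840) (iv2 F205588)
theorem F439778 : act 7 n206221 = n201334 := d13_2 (iv7 F205589) D206221 (iv5 D201334)
def n206222 : Q := act 6 n127799
theorem D206222 : act 6 n127799 = n206222 := rfl
theorem F439779 : act 2 n206222 = n195833 := d3_1 D206222 F398382 (iv2 F205588)
theorem F439780 : act 4 n206222 = n127800 := d10_1 D206222 (iv6 D127800) D127799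
theorem F439781 : act 5 n194707 = n206222 := d16_1 (iv4 F394169) F439780 F205592 F163342 F106783 F52876 D60258 D128179 (iv2 F241920)
theorem F439782 : act 0 n183110 = n206222 := d21_10 (iv5 F439781) (iv1 F394172) F286283 (iv6 F379979) (iv1 F379981) (iv6 F429820) (iv5 D203788) (iv1 F192127) (iv5 F307383) D183110
def n206223 : Q := act 0 n127800
theorem D206223 : act 0 n127800 = n206223 := rfl
theorem F439783 : act 5 n206223 = n128123 := d17_3 (iv1 F320182) (iv5 F205592) D206223 (iv4 D128123) (iv5 D60212) (iv0 D28618) D28620 F317998 (iv4 F102568)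
theorem F439784 : act 3 n206223 = n203304 := d20_5 (iv4 F352666) (iv1 F339917) F205596 (iv3 F205591) D206223 (iv4 F427794) F427796 F426359 F237335 (iv1 F205659)
theorem F439785 : act 6 n206223 = n187506 := d21_5 (iv5 D49130) F55091 D60014 D127800 D206223 (iv5 D187506) (iv1 F205435) D159844 F251979 F114677
theorem F439786 : act 2 n149294 = n206223 := d15_3 (iv0 D206223) (iv0 F261822) F261821
theorem F439787 : act 7 n206223 = n195832 := d4_2 F261821 F439786 (iv2 F398378)
theorem F439788 : act 1 n195831 = n206223 := d15_1 (iv0 F398376) F439787 (iv2 F398378)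
def n206224 : Q := act 7 n127800
theorem D206224 : act 7 n127800 = n206224 := rfl
theorem F439789 : act 2 n206224 = n195831 := d4_1 D206224 F398375 (iv2 F205590)
theorem F439790 : act 3 n206224 = n127805 := d8_1 D206224 (iv7 D127805) (iv3 F205591)
theorem F439791 : act 5 n206224 = n149365 := d13_1 D206224 F234846 (iv5 F205592)
theorem F439792 : act 6 n206224 = n201336 := d14_1 D206224 (iv7 D201336) (iv6 D114340) (iv7 F94491) D127800
theorem F439793 : act 1 n195832 = n206224 := d15_1 D195832 (iv7 D206224) F205590
theorem F439794 : act 1 n206224 = n149294 := d15_1 F439793 (iv7 F261821) F398378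
def n206225 : Q := act 1 n127801
theorem D206225 : act 1 n127801 = n206225 := rfl
def n206226 : Q := act 2 n127801
theorem D206226 : act 2 n127801 = n206226 := rfl
theorem F439795 : act 3 n206226 = n192752 := d0_2 D127801 D206226 F387664 (iv3 D114334) (iv2 F94492)
theorem F439796 : act 5 n206226 = n192751 := d2_2 (iv5 F205593) D206226 F387659
theorem F439797 : act 7 n206226 = n201338 := d4_2 (iv7 F205594) D206226 (iv2 D201338)
theorem F439798 : act 1 n206226 = n194684 := d15_0 (iv0 F394084) (iv7 F205594) D206226
theorem F439799 : act 1 n206225 = n201338 := d15_1 D206225 (iv7 F439797) (iv2 D206226)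
theorem F439800 : act 2 n194684 = n206225 := d15_3 F439799 F420068 (iv7 F394083)
theorem F439801 : act 5 n206225 = n201332 := d2_2 (iv5 F394082) F439800 (iv2 F420052)
theorem F439802 : act 7 n201337 = n206225 := d15_2 (iv0 F394084) D201337 (iv2 F439800)
theorem F439803 : act 2 n187988 = n201337 := d4_3 F439802 (iv2 F439800) F394083
theorem F439804 : act 5 n188054 = n201337 := d13_3 F439802 F439801 F420051
theorem F439805 : act 1 n201337 = n206226 := d15_0 F439798 F394083 F439803
theorem F439806 : act 6 n206226 = n199233 := d21_3 (iv5 F370790) F387660 (iv5 F439796) (iv1 D199233) (iv6 F411254) (iv5 D199230) F366147 D196575 (iv6 F401115) F365246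
def n206227 : Q := act 6 n127801
theorem D206227 : act 6 n127801 = n206227 := rfl
theorem F439807 : act 2 n206227 = n199233 := d3_1 D206227 (iv6 F439806) (iv2 D206226)
theorem F439808 : act 3 n206227 = n127802 := d7_1 D206227 (iv6 D127802) D127801
theorem F439809 : act 5 n206227 = n157173 := d12_1 D206227 F247347 F362355 (iv6 F362356) (iv5 F205593)
theorem F439810 : act 7 n206227 = n196743 := d14_2 (iv7 F205594) D206227 F405814 F420071 (iv6 D201339)
theorem F439811 : act 0 n199235 = n206227 := d17_2 (iv1 F401632) (iv5 F411258) F439809 (iv4 F411395) F411396 (iv0 F411400) (iv5 F410505) F410504 F401633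
theorem F439812 : act 0 n206227 = n199216 := d21_1 (iv5 F439809) (iv5 D199216) (iv6 D111078) F181245 (iv6 F80707) D110957 F400844 F400841 F406876 F406875
def n206228 : Q := act 6 n127804
theorem D206228 : act 6 n127804 = n206228 := rfl
theorem F439813 : act 2 n206228 = n188984 := d3_1 D206228 F375329 (iv2 F360288)
theorem F439814 : act 4 n206228 = n199187 := d10_1 D206228 (iv6 D199187) F360289
theorem F439815 : act 7 n206228 = n188979 := d14_2 (iv7 F339915) D206228 (iv6 D188979) F339943 (iv6 F172243)
theorem F439816 : act 0 n206228 = n183113 := d21_10 (iv5 F364983) (iv1 F176142) (iv5 F178306) (iv6 D114333) (iv1 F94473) D127789 F205553 (iv1 F415548) F415545 D206228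
theorem F439817 : act 1 n206228 = n188983 := d15_1 (iv0 F439816) (iv7 F416206) F416204
def n206229 : Q := act 6 n127808
theorem D206229 : act 6 n127808 = n206229 := rfl
theorem F439818 : act 2 n206229 = n183158 := d3_1 D206229 F420090 (iv2 F205618)
theorem F439819 : act 7 n206229 = n183159 := d14_2 (iv7 F205617) D206229 (iv6 F365000) (iv7 F205413) F205416
theorem F439820 : act 5 n206229 = n201701 := d21_6 F40517 (iv1 F22747) D28495 D60018 D127808 D206229 (iv1 F421470) (iv5 D127816) (iv6 D60020) (iv1 F46033)
theorem F439821 : act 0 n183160 = n206229 := d21_10 F439820 (iv1 F421470) (iv5 D127816) (iv6 D60020) (iv1 F46033) D52781 F83378 D113056 D200379 (iv6 F416210)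
theorem F439822 : act 0 n206229 = n183162 := d21_1 (iv5 F439820) F284758 (iv6 F372193) (iv1 D188041) (iv6 D90752) (iv5 D42495) D42492 D90740 D188027 (iv1 F421471)
def n206230 : Q := act 5 n127814
theorem D206230 : act 5 n127814 = n206230 := rfl
theorem F439823 : act 2 n206230 = n201348 := d2_1 D206230 (iv5 D201348) (iv2 F350583)
theorem F439824 : act 6 n206230 = n206208 := d12_2 (iv6 F251091) D206230 F439722 (iv6 D159457) D159456
theorem F439825 : act 7 n206230 = n201351 := d13_2 F350584 D206230 (iv5 D201351)
theorem F439826 : act 0 n183161 = n206230 := d21_1 D183161 (iv5 D206230) F251091 (iv1 F353126) (iv6 D127789) (iv5 F94474) (iv1 F177895) (iv5 F178176) F365000 (iv1 D183159)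
def n206231 : Q := act 3 n127815
theorem D206231 : act 3 n127815 = n206231 := rfl
theorem F439827 : act 7 n206231 = n201347 := d8_2 (iv7 F350585) D206231 (iv3 D201347)
def n206232 : Q := act 4 n127815
theorem D206232 : act 4 n127815 = n206232 := rfl
theorem F439828 : act 2 n206232 = n201350 := d1_1 D206232 (iv4 D201350) F350586
theorem F439829 : act 7 n206232 = n157166 := d11_2 (iv7 F350585) D206232 (iv4 F350587)
theorem F439830 : act 5 n206232 = n157167 := d18_4 F401128 F401125 (iv1 F205628) D206232 (iv4 F400827) F404430 F404423 (iv0 F337385) D196406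
theorem F439831 : act 3 n206232 = n194671 := d20_3 F401125 (iv1 F205628) D206232 F405658 F405653 F336762 (iv1 F294626) D186621 (iv3 F400605) F401128
theorem E103916 : n206231 = n152554 := (c5_2 (iv4 D206232) D206231 (iv4 F394030) (iv3 D194670) D194671 (iv3 F439831))
theorem F439832 : act 3 n152554 = n127815 := (sb E103916 (iv3 D206231))
theorem F439833 : act 7 n152554 = n201347 := (sb E103916 F439827)
theorem F439834 : act 0 n199144 = n206232 := d20_10 (iv4 D206232) (iv1 D127815) (iv4 F178588) (iv3 F387675) (iv1 F387679) F372885 (iv4 F354687) (iv1 F385022) (iv4 F388708) (iv3 F410869)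
theorem F439835 : act 1 n127820 = n206232 := d15_0 (iv0 F439834) F410871 (iv2 F205641)
theorem F439836 : act 2 n201347 = n152553 := d15_3 (iv0 D152553) D152554 F439833
def n206233 : Q := act 5 n127815
theorem D206233 : act 5 n127815 = n206233 := rfl
theorem F439837 : act 2 n206233 = n201351 := d2_1 D206233 (iv5 D201351) F350586
theorem F439838 : act 6 n206233 = n159498 := d12_2 F420107 D206233 (iv5 F418674) F439368 (iv5 F439367)
theorem F439839 : act 7 n206233 = n201348 := d13_2 (iv7 F350585) D206233 (iv5 D201348)
theorem F439840 : act 0 n206233 = n183161 := d17_2 (iv1 F205628) D206233 (iv5 D183161) (iv4 F284679) F363803 (iv0 D180390) D180393 F401129 F401125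
def n206234 : Q := act 6 n127818
theorem D206234 : act 6 n127818 = n206234 := rfl
theorem F439841 : act 2 n206234 = n201356 := d3_1 D206234 (iv6 D201356) F205636
theorem F439842 : act 3 n206234 = n135723 := d7_1 D206234 F354421 F239755
theorem F439843 : act 4 n206234 = n196466 := d10_1 D206234 F400763 F339946
theorem F439844 : act 5 n206234 = n201005 := d12_1 D206234 (iv6 F418694) F369240 F369239 F345177
theorem F439845 : act 0 n206234 = n201366 := d21_4 F205464 F345179 F345177 D206234 (iv6 D201366) F367248 (iv1 D186228) (iv5 F292041) (iv6 D92966) D92963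
def n206235 : Q := act 5 n127820
theorem D206235 : act 5 n127820 = n206235 := rfl
theorem F439846 : act 2 n206235 = n199466 := d2_1 D206235 F412312 (iv2 F205641)
theorem F439847 : act 3 n206235 = n157854 := d6_1 D206235 (iv5 F372140) F372138
theorem F439848 : act 6 n206235 = n144327 := d12_2 D127820 D206235 F363666 (iv6 D71283) F94508
theorem F439849 : act 7 n206235 = n170865 := d13_2 F401160 D206235 F401163
theorem F439850 : act 4 n206235 = n199463 := d18_5 F407390 F407391 (iv1 D157739) (iv4 F205642) D206235 F412299 F173136 F327468 (iv5 F402344)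
def n206236 : Q := act 3 n127824
theorem D206236 : act 3 n127824 = n206236 := rfl
theorem F439851 : act 2 n206236 = n187938 := d0_1 D206236 (iv3 F371882) F351302 F370509 (iv2 F358489)
theorem F439852 : act 6 n206236 = n184093 := d7_2 (iv6 F358491) D206236 (iv3 D184093)
theorem F439853 : act 7 n206236 = n187937 := d8_2 F420180 D206236 F420181
theorem F439854 : act 0 n206236 = n134742 := d20_4 F372014 (iv1 D184097) (iv4 F358490) D206236 F216772 F98564 F345411 (iv4 F351121) (iv3 F387631) (iv1 F387635)
theorem F439855 : act 4 n206236 = n192622 := d20_6 (iv4 F143291) (iv1 F375239) (iv4 F420136) (iv3 F420173) F420177 D206236 (iv1 F387264) (iv4 F387656) F387655 (iv1 F241645)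
theorem F439856 : act 0 n187547 = n206236 := d20_4 F65578 (iv1 F65174) D90317 D187547 (iv3 D206236) F358490 D184096 F394226 (iv3 D187552) (iv1 F138948)
def n206237 : Q := act 5 n127824
theorem D206237 : act 5 n127824 = n206237 := rfl
theorem F439857 : act 6 n206237 = n196776 := d12_2 (iv6 F358491) D206237 F401753 F378738 F294999
theorem F439858 : act 0 n206237 = n151241 := d17_2 F420177 D206237 (iv5 F399633) (iv4 F432275) F432276 F310357 (iv5 F153807) D192226 (iv4 F420174)
def n206238 : Q := act 3 n127826
theorem D206238 : act 3 n127826 = n206238 := rfl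
theorem F439859 : act 2 n206238 = n201817 := d0_1 D206238 (iv3 D201817) (iv2 F399596) (iv3 F364998) (iv2 F395865)
theorem F439860 : act 4 n206238 = n153320 := d5_2 F420564 D206238 F308832 D205019 F434639
theorem F439861 : act 7 n206238 = n153319 := d8_2 F395866 D206238 (iv3 F366743)
theorem F439862 : act 0 n206238 = n140850 := d20_4 (iv4 F178598) D201454 F420564 D206238 F223919 (iv4 F231801) F364332 (iv4 F421588) F421587 (iv1 D114537)
theorem F439863 : act 1 n206238 = n184721 := d15_1 (iv0 F439862) (iv7 F383101) F383100
def n206239 : Q := act 5 n127826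
theorem D206239 : act 5 n127826 = n206239 := rfl
theorem F439864 : act 2 n206239 = n186227 := d2_1 D206239 F367231 (iv2 F395865)
theorem F439865 : act 7 n206239 = n186228 := d13_2 F395866 D206239 (iv5 F367248)
theorem F439866 : act 0 n206239 = n186229 := d17_2 D127826 D206239 (iv5 F375328) (iv4 F401772) F401773 (iv0 F397744) (iv5 F420184) (iv0 D201363) F178380
theorem F439867 : act 1 n206239 = n186212 := d17_6 F401144 F401142 (iv1 F245640) (iv5 F420563) F420564 D206239 (iv5 F375312) (iv0 F416208) F416207
def n206240 : Q := act 5 n127827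
theorem D206240 : act 5 n127827 = n206240 := rfl
theorem F439868 : act 2 n206240 = n186228 := d2_1 D206240 (iv5 F367248) F395868
theorem F439869 : act 3 n206240 = n196142 := d6_1 D206240 F399591 F399597
theorem F439870 : act 7 n206240 = n186227 := d13_2 (iv7 F395867) D206240 F367231
theorem F439871 : act 4 n206240 = n188460 := d16_2 F405853 D206240 F410021 (iv4 F379761) F379763 F379510 (iv5 F420563) F420567 F405854
theorem F439872 : act 1 n206240 = n186229 := d17_6 F343134 (iv5 D138460) D138457 (iv5 F405851) F405853 D206240 (iv5 F375328) (iv0 F416216) F416215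
theorem F439873 : act 0 n206240 = n186212 := d21_1 D206240 (iv5 F375312) (iv6 D188979) F205422 (iv6 D127778) (iv5 D60002) (iv1 F46017) (iv5 F83355) D114333 (iv1 F205648)
theorem F439874 : act 6 n206240 = n130599 := d21_3 (iv5 F178306) (iv1 F205648) D206240 (iv1 F214466) F214463 (iv5 F251162) (iv1 F398548) (iv5 F415879) (iv6 D200296) (iv1 F176142)
def n206241 : Q := act 6 n127830
theorem D206241 : act 6 n127830 = n206241 := rfl
theorem F439875 : act 2 n206241 = n201371 := d3_1 D206241 (iv6 D201371) F205655
theorem F439876 : act 4 n206241 = n138460 := d10_1 D206241 (iv6 F398726) F398724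
theorem F439877 : act 0 n206241 = n201397 := d21_10 (iv5 D201397) (iv1 F214526) F214522 (iv6 D114514) (iv1 F112693) D157733 F248600 F335537 (iv5 F335531) D206241
theorem F439878 : act 0 n201398 = n206241 := d18_0 F439876 F398729 (iv4 F416207) (iv5 D200379) F364995 (iv0 D113123) (iv4 F83402) D114425 D201398
def n206242 : Q := act 0 n127839
theorem D206242 : act 0 n127839 = n206242 := rfl
theorem F439879 : act 5 n206242 = n131687 := d17_3 F341984 (iv5 F312113) D206242 (iv4 D131687) F211038 F212289 D130973 (iv0 F341989) (iv4 F279326)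
theorem F439880 : act 4 n206242 = n191822 := d18_1 D206242 (iv1 F429357) F429354 F189822 D131236 F210247 D132989 (iv0 F309905) (iv5 F312113)
theorem F439881 : act 3 n206242 = n150013 := d20_5 (iv4 D62859) (iv1 F50847) D60039 D127839 D206242 (iv4 F274049) (iv1 F188048) F312731 (iv3 D74887) (iv1 F98081)
theorem F439882 : act 2 n157440 = n206242 := d15_3 (iv0 D206242) F351943 F359869
theorem F439883 : act 1 n157441 = n206242 := d15_0 (iv0 D206242) F205674 D157441
theorem F439884 : act 7 n206242 = n157439 := d15_2 (iv0 F351942) F439883 (iv2 F359872)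
def n206243 : Q := act 5 n127841
theorem D206243 : act 5 n127841 = n206243 := rfl
theorem F439885 : act 2 n206243 = n150105 := d2_1 D206243 (iv5 D150105) F233755
theorem F439886 : act 3 n206243 = n150407 := d6_1 D206243 (iv5 D150407) (iv3 F205681)
theorem F439887 : act 4 n206243 = n205787 := d9_1 D206243 (iv5 D205787) (iv4 D126599) D126600 (iv4 F214705) F315445 (iv4 F113452) D148854 F349789 (iv5 F360769) (iv4 D126594) D126595 F211991 F211990 (iv4 F310803)
theorem F439888 : act 7 n206243 = n150103 := d13_2 F233752 D206243 (iv5 D150103)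
theorem F439889 : act 0 n206243 = n204160 := d17_2 (iv1 F205679) D206243 F431260 (iv4 D129713) F97414 F47141 F313827 (iv0 F313825) F313826
theorem F439890 : act 1 n206243 = n149190 := d17_6 F206460 F315305 (iv1 F214708) F211990 (iv4 F310803) D206243 (iv5 D149190) (iv0 F274098) F206459
theorem F439891 : act 6 n206243 = n195581 := d21_9 (iv5 D184777) (iv1 D88109) D88110 (iv6 F297820) F332052 (iv6 F229100) F229099 (iv1 F205679) D206243 (iv1 F397438)
theorem F439892 : act 0 n195272 = n197668 := d19_16 (iv1 F336988) D205787 (iv4 F439887) F439886 (iv1 F307000) F301287 F86394 F308013 (iv1 F308002) (iv5 F310012) (iv4 F97754) (iv3 D62660) D62659 (iv5 F99411) (iv4 F161930) D195272 F405310 (iv4 F434596) F434595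
def n206244 : Q := act 7 n127842
theorem D206244 : act 7 n127842 = n206244 := rfl
theorem F439893 : act 2 n206244 = n145914 := d4_1 D206244 (iv7 D145914) (iv2 F205682)
theorem F439894 : act 3 n206244 = n199002 := d8_1 D206244 F410269 F227905
theorem F439895 : act 4 n206244 = n134138 := d11_1 D206244 F216176 F336968
theorem F439896 : act 5 n206244 = n127843 := d13_1 D206244 (iv7 D127843) D127842
theorem F439897 : act 6 n206244 = n204453 := d14_1 D206244 F432586 (iv6 D144902) (iv7 F104597) (iv6 F205683)
theorem F439898 : act 1 n145913 = n206244 := d15_1 D145913 (iv7 D206244) F205682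
theorem F439899 : act 1 n206244 = n145912 := d15_1 F439898 F230319 (iv2 F229088)
def n206245 : Q := act 0 n127853
theorem D206245 : act 0 n127853 = n206245 := rfl
theorem F439900 : act 4 n206245 = n131162 := d18_1 D206245 (iv1 F364586) F302804 (iv5 F302807) (iv4 F340118) F346118 F346119 F362054 (iv5 F205724)
theorem F439901 : act 3 n206245 = n148967 := d20_5 (iv4 F307467) F344113 F210551 (iv3 F205723) D206245 F361929 (iv1 F361932) F238967 (iv3 F238920) F316656
theorem F439902 : act 6 n206245 = n148961 := d21_5 (iv5 D28519) D28517 D60046 D127853 D206245 (iv5 D148961) (iv1 F232735) (iv5 F205736) (iv6 D127857) (iv1 D60050)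
theorem F439903 : act 2 n131258 = n206245 := d15_3 (iv0 D206245) (iv0 F432085) F432084
def n206246 : Q := act 0 n127856
theorem D206246 : act 0 n127856 = n206246 := rfl
theorem F439904 : act 4 n206246 = n130873 := d18_1 D206246 (iv1 F358466) (iv4 F358461) (iv5 F227685) (iv4 F431364) (iv0 F431367) F359381 (iv0 D145933) (iv5 F205733)
theorem F439905 : act 6 n206246 = n170021 := d21_5 F96131 F79131 (iv5 F94568) D127856 D206246 (iv5 F334132) F334636 (iv5 F403375) (iv6 D197169) (iv1 F166752)
theorem F439906 : act 2 n131612 = n206246 := d3_3 F439905 (iv2 F383456) F383457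
theorem F439907 : act 3 n170024 = n206246 := d7_3 F439905 (iv3 D170021) D170024
theorem F439908 : act 7 n206246 = n197202 := d8_2 (iv7 F340982) F439907 (iv3 D197202)
def n206247 : Q := act 1 n127856
theorem D206247 : act 1 n127856 = n206247 := rfl
theorem F439909 : act 7 n206247 = n131612 := d15_2 (iv0 D206246) D206247 F439906
theorem F439910 : act 4 n130874 = n206247 := d20_0 (iv1 D206247) (iv4 F311798) F154526 (iv1 F249713) F306708 F299283 (iv1 F299040) F299041 D170664 (iv1 F358462)
theorem F439911 : act 3 n127937 = n206247 := d20_9 (iv4 F311798) D192634 F387287 F237556 (iv1 F87530) (iv3 F112440) (iv4 F248089) F342569 F340992 (iv1 D206247)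
theorem F439912 : act 5 n206176 = n206247 := d21_6 (iv5 D52547) D52546 D113794 D201050 F418894 D206176 (iv1 D206247) F205733 (iv6 D68428) (iv1 F84933)
theorem F439913 : act 2 n206247 = n197202 := d0_1 F439911 (iv3 D197202) F340983 (iv3 D131617) (iv2 F340990)
theorem F439914 : act 5 n204163 = n130874 := d19_1 D204163 F439910 (iv3 F439911) (iv1 D127937) (iv5 F103942) F322039 F320368 (iv1 F71653) (iv5 F147458) (iv4 F379201) F425584 (iv1 D202787) (iv5 D116974) F85016 (iv3 F79553) F79555 (iv5 F96389) F329063 (iv3 F197245)
def n206248 : Q := act 7 n127856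
theorem D206248 : act 7 n127856 = n206248 := rfl
theorem F439915 : act 3 n206248 = n131428 := d8_1 D206248 (iv7 D131428) (iv3 F205731)
theorem F439916 : act 4 n206248 = n192636 := d11_1 D206248 (iv7 D192636) F311798
theorem F439917 : act 5 n206248 = n145935 := d13_1 D206248 (iv7 D145935) (iv5 F205733)
theorem F439918 : act 6 n206248 = n131491 := d14_1 D206248 (iv7 D131491) (iv6 D61708) (iv7 F94571) D127856
theorem F439919 : act 1 n197202 = n206248 := d15_1 (iv0 F420622) (iv7 D206248) (iv2 F420617)
theorem F439920 : act 1 n206248 = n131612 := d15_1 F439919 (iv7 F439909) F439913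
def n206249 : Q := act 5 n127869
theorem D206249 : act 5 n127869 = n206249 := rfl
theorem F439921 : act 2 n206249 = n150251 := d2_1 D206249 (iv5 D150251) (iv2 F205781)
theorem F439922 : act 3 n206249 = n159205 := d6_1 D206249 F345829 (iv3 F351957)
theorem F439923 : act 4 n206249 = n166607 := d9_1 D206249 F322995 (iv4 D84492) (iv5 D38973) D38972 (iv5 F309753) D75041 D157619 (iv4 F330162) (iv5 F330164) (iv4 D160487) (iv5 F116828) (iv4 F125699) (iv5 F309750) F205780
theorem F439924 : act 7 n206249 = n150248 := d13_2 (iv7 F205779) D206249 (iv5 D150248)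
theorem F439925 : act 0 n206249 = n163755 := d17_2 (iv1 F205778) D206249 F344882 F312366 (iv5 D78291) (iv0 F118820) (iv5 F309388) F94601 (iv4 F107191)
theorem F439926 : act 1 n206249 = n149944 := d17_6 (iv1 F131035) F306112 (iv1 F299061) (iv5 F309750) F205780 D206249 (iv5 D149944) (iv0 F191056) F109707
def n206250 : Q := act 5 n127902
theorem D206250 : act 5 n127902 = n206250 := rfl
theorem F439927 : act 2 n206250 = n167116 := d2_1 D206250 (iv5 F348671) F348669
theorem F439928 : act 6 n206250 = n167114 := d12_2 (iv6 F339311) D206250 (iv5 F331984) F325323 (iv5 F250351)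
theorem F439929 : act 0 n152731 = n206250 := d21_10 (iv5 D206250) F342713 (iv5 D174311) (iv6 F311014) F311013 (iv6 F303149) F346981 (iv1 F354041) (iv5 D152730) D152731
def n206251 : Q := act 5 n127948
theorem D206251 : act 5 n127948 = n206251 := rfl
theorem F439930 : act 2 n206251 = n188921 := d2_1 D206251 F379914 (iv2 F365235)
theorem F439931 : act 3 n206251 = n127949 := d6_1 D206251 (iv5 D127949) D127948
theorem F439932 : act 7 n206251 = n154776 := d13_2 (iv7 F365239) D206251 (iv5 F365241)
theorem F439933 : act 0 n206251 = n188829 := d17_2 F365475 D206251 (iv5 F375022) (iv4 D103867) (iv5 D48085) F176029 D96219 (iv0 F379906) F379905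
theorem F439934 : act 1 n206251 = n188645 := d17_6 (iv1 F372087) (iv5 D103233) F177358 D103668 F365236 D206251 (iv5 F386822) F386826 (iv4 F372089)
def n206252 : Q := act 6 n127949
theorem D206252 : act 6 n127949 = n206252 := rfl
theorem F439935 : act 2 n206252 = n128043 := d3_1 D206252 (iv6 D128043) (iv2 F205900)
def n206253 : Q := act 4 n127955
theorem D206253 : act 4 n127955 = n206253 := rfl
theorem F439936 : act 3 n206253 = n203740 := d5_1 D206253 (iv4 F429626) F417344 (iv4 F184380) F314116
theorem F439937 : act 6 n206253 = n127957 := d10_2 (iv6 F205913) D206253 (iv4 D127957)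
theorem F439938 : act 5 n206253 = n146822 := d16_5 F427818 (iv5 D148104) (iv4 F314115) D127955 D206253 (iv4 F425057) F427828 F427826 (iv2 F427824)
theorem F439939 : act 0 n206253 = n203348 := d18_2 F428427 D206253 (iv4 D203348) F421311 F426123 (iv0 D202902) F183443 D146400 (iv5 F428429)
theorem F439940 : act 1 n206253 = n203114 := d18_6 (iv1 F186709) D118756 F361653 (iv4 F314115) D127955 D206253 F427030 F427833 F427832
def n206254 : Q := act 5 n127957
theorem D206254 : act 5 n127957 = n206254 := rfl
theorem F439941 : act 6 n206254 = n203912 := d12_2 F439937 D206254 (iv5 D203912) (iv6 F425058) (iv5 F439938)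
theorem F439942 : act 0 n206254 = n203353 := d17_2 (iv1 F205915) D206254 (iv5 D203353) (iv4 D118763) (iv5 D54677) (iv0 D26445) D26447 D54680 D118769
theorem F439943 : act 1 n206254 = n203354 := d17_6 F386969 (iv5 D118727) F86457 D60116 D127957 D206254 (iv5 D203354) F386978 F386976
def n206255 : Q := act 4 n127973
theorem D206255 : act 4 n127973 = n206255 := rfl
theorem F439944 : act 6 n206255 = n183785 := d10_2 (iv6 F352727) D206255 F285563
theorem F439945 : act 5 n206255 = n188235 := d16_3 D60125 D127973 D206255 F372775 (iv5 D159389) (iv4 D76243) (iv5 F106666) F106665 F55092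
theorem F439946 : act 0 n206255 = n203354 := d18_2 F427878 D206255 F428014 F186949 (iv4 D76246) D76245 (iv4 F314668) F314665 D203323
theorem F439947 : act 1 n206255 = n203353 := d18_6 (iv1 F186777) (iv4 F86526) F56750 D60125 D127973 D206255 F428012 F427918 F427916
theorem F439948 : act 3 n188236 = n206255 := d6_3 F439945 (iv3 D188235) D188236
def n206256 : Q := act 3 n127980
theorem D206256 : act 3 n127980 = n206256 := rfl
theorem F439949 : act 6 n206256 = n127983 := d7_2 (iv6 F205956) D206256 (iv3 D127983)
def n206257 : Q := act 6 n127999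
theorem D206257 : act 6 n127999 = n206257 := rfl
theorem F439950 : act 3 n206257 = n128001 := d7_1 D206257 (iv6 D128001) D127999
theorem F439951 : act 4 n206257 = n152731 := d10_1 D206257 (iv6 D152731) (iv4 F205989)
theorem F439952 : act 0 n197106 = n206257 := d21_4 (iv5 F342767) F403059 (iv5 F403060) (iv6 F403067) (iv6 D206257) F353999 (iv1 F354042) (iv5 F341892) F213666 F308029
def n206258 : Q := act 4 n128000
theorem D206258 : act 4 n128000 = n206258 := rfl
theorem F439953 : act 2 n206258 = n173322 := d1_1 D206258 (iv4 F302236) (iv2 F323394)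
theorem F439954 : act 3 n206258 = n174669 := d5_1 D206258 (iv4 F358204) (iv3 F435687) F435688 F354040
theorem F439955 : act 5 n206258 = n190196 := d9_2 D128000 D206258 (iv4 F389457) F389456 F225050 F322134 F190139 (iv5 F321786) F302658 D174681 (iv4 F389453) F389452 F322947 (iv5 D72062) (iv4 F188367)
theorem F439956 : act 6 n206258 = n190694 := d10_2 F351996 D206258 F380627
theorem F439957 : act 7 n206258 = n174680 := d11_2 F241423 D206258 (iv4 F323497)
theorem F439958 : act 0 n206258 = n174679 := d17_0 (iv5 F381313) F381314 (iv5 F303296) F256908 (iv5 F317564) (iv0 F315319) F333982 F336615 D206258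
theorem F439959 : act 1 n206258 = n174678 := d18_6 (iv1 F123755) F190140 (iv1 F190137) (iv4 F188367) D128000 D206258 F364236 (iv0 F264109) (iv5 D167760)
def n206259 : Q := act 3 n128009
theorem D206259 : act 3 n128009 = n206259 := rfl
theorem F439960 : act 2 n206259 = n141828 := d0_1 D206259 F224853 F102382 (iv3 F102399) (iv2 F319315)
theorem F439961 : act 4 n206259 = n191846 := d5_2 D128009 D206259 F384580 (iv4 D167913) (iv3 F188339)
theorem F439962 : act 6 n206259 = n192411 := d7_2 (iv6 F330610) D206259 F386662
theorem F439963 : act 7 n206259 = n141820 := d8_2 (iv7 F319316) D206259 F224835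
theorem F439964 : act 0 n141825 = n206259 := d20_4 (iv4 D48259) (iv1 F75833) D104244 (iv3 F360817) (iv3 D206259) (iv4 D128009) (iv1 F319290) D66650 (iv3 F360804) F156180
theorem F439965 : act 1 n141826 = n206259 := d15_0 (iv0 F439964) (iv7 F389271) (iv2 F389274)
def n206260 : Q := act 5 n128009
theorem D206260 : act 5 n128009 = n206260 := rfl
theorem F439966 : act 2 n206260 = n141917 := d2_1 D206260 F224957 (iv2 F319315)
theorem F439967 : act 4 n206260 = n190303 := d9_1 D206260 F379328 (iv4 D167764) (iv5 D80505) F57604 F318568 (iv4 F49460) D66531 D141916 F344637 F174018 F344631 (iv4 D60148) D60149 D128009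
theorem F439968 : act 7 n206260 = n141888 := d13_2 (iv7 F319316) D206260 (iv5 D141888)
theorem F439969 : act 0 n206260 = n141915 := d17_2 F321311 D206260 F322942 (iv4 D72641) (iv5 D33523) D33522 D72637 (iv0 F322136) F322936
theorem F439970 : act 1 n206260 = n141914 := d17_6 F190681 (iv5 D80529) (iv1 F188325) D60149 D128009 D206260 F366252 F242881 (iv4 D118291)
def n206261 : Q := act 5 n128010
theorem D206261 : act 5 n128010 = n206261 := rfl
theorem F439971 : act 2 n206261 = n150710 := d2_1 D206261 (iv5 D150710) (iv2 F205997)
theorem F439972 : act 4 n206261 = n187349 := d9_1 D206261 (iv5 F378090) F378091 F241418 F123782 (iv5 F86020) D118291 D203262 F427556 F378103 F378102 (iv5 F242270) F242269 (iv5 F190679) D128010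
def n206262 : Q := act 3 n128012
theorem D206262 : act 3 n128012 = n206262 := rfl
theorem F439973 : act 4 n206262 = n150562 := d5_2 (iv4 F206000) D206262 (iv3 D150562) F189475 (iv3 F199427)
theorem F439974 : act 6 n206262 = n202446 := d7_2 (iv6 F350060) D206262 (iv3 F424039)
theorem F439975 : act 0 n206262 = n156340 := d20_4 F110066 D73366 (iv4 F206000) D206262 (iv3 D156340) (iv4 D74363) (iv1 D34111) (iv4 F53525) F315251 F190974
def n206263 : Q := act 5 n128012
theorem D206263 : act 5 n128012 = n206263 := rfl
theorem F439976 : act 1 n206263 = n187328 := d17_6 D116629 F322138 F314340 F242249 (iv4 F206000) D206263 (iv5 F369849) (iv0 F322144) F181996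
def n206264 : Q := act 5 n128020
theorem D206264 : act 5 n128020 = n206264 := rfl
theorem F439977 : act 2 n206264 = n150851 := d2_1 D206264 (iv5 D150851) (iv2 F206009)
theorem F439978 : act 3 n206264 = n194918 := d6_1 D206264 F395001 F375229
theorem F439979 : act 6 n206264 = n199013 := d12_2 D128020 D206264 F410325 (iv6 F354406) F339951
theorem F439980 : act 4 n206264 = n205151 := d16_6 (iv4 F373662) F373663 F230979 F204834 (iv4 F206010) D206264 F435179 F373667 F362483
theorem F439981 : act 1 n206264 = n140406 := d17_6 (iv1 F350165) D115837 (iv1 F330020) F204834 (iv4 F206010) D206264 (iv5 F352246) (iv0 F359814) (iv4 D144401)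
theorem F439982 : act 5 n199749 = n147902 := d21_6 F406153 (iv1 D111657) (iv5 D51492) D51493 D111659 D199749 F237577 D206264 F439979 (iv1 F410328)
def n206265 : Q := act 1 n128030
theorem D206265 : act 1 n128030 = n206265 := rfl
theorem F439983 : act 7 n206265 = n202475 := d15_2 F357017 D206265 (iv2 D202475)
theorem F439984 : act 4 n206265 = n205903 := d18_7 D126741 F347038 (iv1 D152793) (iv4 F189404) F189405 (iv4 F206033) D206265 (iv0 D205903) (iv5 D126743)
theorem F439985 : act 3 n191984 = n206265 := d20_3 (iv4 F401047) (iv1 F410861) F410857 (iv1 D206265) (iv3 D128030) F94708 (iv1 D33744) D33745 D73357 D154685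
theorem F439986 : act 2 n206265 = n139611 := d0_1 F439985 (iv3 D139611) F101233 D115795 F385095
theorem F439987 : act 5 n206265 = n154773 := d6_2 (iv5 F385094) F439985 (iv3 F243424)
theorem F439988 : act 0 n202442 = n206265 := d17_0 F439987 (iv1 D154773) (iv5 D73393) F52994 D34009 D74136 (iv5 F357016) F237140 (iv4 F424013)
def n206266 : Q := act 2 n128030
theorem D206266 : act 2 n128030 = n206266 := rfl
theorem F439989 : act 3 n206266 = n192938 := d0_2 D128030 D206266 (iv2 F388280) (iv3 D153619) F109168
theorem F439990 : act 4 n206266 = n150602 := d1_2 (iv4 F206033) D206266 (iv2 D150602)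
theorem F439991 : act 7 n206266 = n202442 := d4_2 F354208 D206266 F424011
theorem F439992 : act 1 n206266 = n139611 := d15_0 (iv0 F354205) F354208 D206266
theorem F439993 : act 1 n202475 = n206266 := d15_0 F439992 F222762 D202475
def n206267 : Q := act 5 n128030
theorem D206267 : act 5 n128030 = n206267 := rfl
theorem F439994 : act 3 n206267 = n128031 := d6_1 D206267 (iv5 D128031) D128030
theorem F439995 : act 1 n206267 = n199587 := d17_6 (iv1 F106023) (iv5 F353039) F357004 F189405 (iv4 F206033) D206267 F412775 F231736 F110085
theorem E103917 : n199603 = n192546 := ((c21_4 (iv5 D206267) (iv1 F357017) F362386 (iv6 F387022) (iv1 D199603) (iv6 D111469) (iv5 D51414) D51411 D111457 D199587 (iv1 F439995))).symm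
theorem F439996 : act 0 n192546 = n111469 := (sb E103917 (iv1 D199603))
def n206268 : Q := act 6 n128031
theorem D206268 : act 6 n128031 = n206268 := rfl
theorem F439997 : act 4 n206268 = n199221 := d10_1 D206268 F411213 F241271
theorem F439998 : act 5 n206268 = n153714 := d21_6 (iv5 D111284) D111281 (iv5 F219137) (iv6 F350053) F231727 D206268 F353404 D156803 F412000 (iv1 D199401)
def n206269 : Q := act 5 n128032
theorem D206269 : act 5 n128032 = n206269 := rfl
theorem F439999 : act 2 n206269 = n140890 := d2_1 D206269 F348833 F320491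
theorem F440000 : act 4 n206269 = n140812 := d9_1 D206269 (iv5 D140812) D140811 F331031 F104315 D68244 D145549 (iv5 F353388) F350102 (iv5 D138519) (iv4 F221694) F331035 F104318 (iv5 F104406) (iv4 F318467)
theorem F440001 : act 6 n206269 = n153714 := d12_2 D128032 D206269 (iv5 F439998) (iv6 D206268) (iv5 D128031)
theorem F440002 : act 7 n206269 = n140907 := d13_2 (iv7 F318468) D206269 F348829
theorem F440003 : act 0 n206269 = n205577 := d17_2 (iv1 F353390) D206269 F437068 F225166 F223892 F223891 F101749 F101735 D140811
theorem F440004 : act 4 n167680 = n140596 := d18_7 D65975 (iv4 F342412) F318466 (iv4 F318467) D206269 F440000 (iv0 F341032) (iv0 D140596) (iv5 D65977)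
theorem F440005 : act 6 n140596 = n167679 := d10_2 D167680 F440004 (iv4 D167679)
theorem F440006 : act 3 n199251 = n140596 := d7_3 F440005 F359940 D199251
def n206270 : Q := act 5 n128036
theorem D206270 : act 5 n128036 = n206270 := rfl
def n206271 : Q := act 6 n128036
theorem D206271 : act 6 n128036 = n206271 := rfl
theorem F440007 : act 2 n206271 = n196975 := d3_1 D206271 F402495 F389467
theorem F440008 : act 7 n206271 = n196976 := d14_2 F389470 D206271 (iv6 F402499) (iv7 F405440) F405439
theorem F440009 : act 1 n196977 = n206271 := d15_1 F402508 F440008 F402500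
theorem F440010 : act 1 n206271 = n196966 := d15_1 F440009 F402465 (iv2 F402503)
def n206272 : Q := act 5 n128037
theorem D206272 : act 5 n128037 = n206272 := rfl
theorem F440011 : act 3 n206272 = n197704 := d6_1 D206272 (iv5 D197704) (iv3 F352723)
theorem F440012 : act 4 n206272 = n194682 := d17_4 F389229 (iv5 F389227) (iv1 F389230) D206272 F394075 (iv0 F370820) (iv5 D90713) D90712 D187984
def n206273 : Q := act 7 n128039
theorem D206273 : act 7 n128039 = n206273 := rfl
theorem F440013 : act 2 n206273 = n154777 := d4_1 D206273 (iv7 F389475) F389473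
theorem F440014 : act 3 n206273 = n128044 := d8_1 D206273 (iv7 D128044) (iv3 F206037)
theorem F440015 : act 4 n206273 = n196375 := d11_1 D206273 F400511 F206038
theorem F440016 : act 5 n206273 = n128040 := d13_1 D206273 (iv7 D128040) D128039
theorem F440017 : act 6 n206273 = n128044 := d14_1 D206273 (iv7 D128044) D128043 (iv7 F394366) F394365
theorem F440018 : act 0 n191939 = n206273 := d21_4 (iv5 F432269) (iv1 F432271) (iv5 F338866) (iv6 F384916) F440017 F206049 (iv1 F106809) D149735 F432444 (iv1 F432446)
def n206274 : Q := act 0 n128043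
theorem D206274 : act 0 n128043 = n206274 := rfl
def n206275 : Q := act 1 n128043
theorem D206275 : act 1 n128043 = n206275 := rfl
def n206276 : Q := act 1 n128050
theorem D206276 : act 1 n128050 = n206276 := rfl
theorem F440019 : act 1 n206276 = n128119 := d15_1 D206276 (iv7 D128119) (iv2 F206059)
theorem F440020 : act 7 n206276 = n128116 := d15_2 (iv0 F339299) D206276 F336304
theorem F440021 : act 5 n206276 = n133864 := d17_7 F310796 F319317 (iv1 F319834) (iv5 D60170) (iv4 F94716) D128050 D206276 (iv0 D133864) (iv4 F215588)
theorem F440022 : act 3 n194306 = n206276 := d19_19 (iv1 D206276) (iv5 D128050) F94716 (iv3 F94712) F305913 D118655 D203300 F427761 F289291 F137056 F74160 F74159 (iv1 F62393) (iv5 F63937) D88865 (iv3 F339725) (iv1 F147258) (iv5 F346794) (iv4 F392760)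
theorem F440023 : act 6 n162821 = n206276 := d21_3 F360764 (iv1 F193073) D162821 (iv1 D206276) F339306 F339309 F345974 F113812 F313852 (iv1 F360762)
theorem F440024 : act 2 n206276 = n128117 := d3_1 F440023 F336613 (iv2 F257095)
theorem F440025 : act 4 n206276 = n184349 := d10_1 F440023 (iv6 F394165) F394164
def n206277 : Q := act 7 n128060
theorem D206277 : act 7 n128060 = n206277 := rfl
theorem F440026 : act 2 n206277 = n173299 := d4_1 D206277 F271703 (iv2 F300869)
theorem F440027 : act 3 n206277 = n128068 := d8_1 D206277 (iv7 D128068) (iv3 F206071)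
theorem F440028 : act 4 n206277 = n205848 := d11_1 D206277 F438130 F423835
theorem F440029 : act 5 n206277 = n128061 := d13_1 D206277 (iv7 D128061) D128060
theorem F440030 : act 6 n206277 = n132322 := d14_1 D206277 (iv7 F350865) (iv6 F415278) F415281 (iv6 F360256)
theorem F440031 : act 1 n174509 = n206277 := d15_1 D174509 (iv7 D206277) F300869
theorem F440032 : act 1 n206277 = n174508 := d15_1 F440031 (iv7 F416813) F416809
def n206278 : Q := act 6 n128063
theorem D206278 : act 6 n128063 = n206278 := rfl
theorem F440033 : act 2 n206278 = n128243 := d3_1 D206278 (iv6 D128243) (iv2 F206075)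
theorem F440034 : act 3 n206278 = n155070 := d7_1 D206278 (iv6 F431302) F431300
theorem F440035 : act 4 n206278 = n194953 := d10_1 D206278 F395160 F379198
theorem F440036 : act 5 n206278 = n173861 := d12_1 D206278 (iv6 D173861) (iv5 D83145) (iv6 F302133) D128063
theorem F440037 : act 7 n206278 = n155134 := d14_2 (iv7 F206076) D206278 (iv6 F403247) F403248 F357890
theorem F440038 : act 0 n206278 = n172787 := d21_4 F94836 (iv1 F94738) D128063 D206278 F271055 (iv5 D83359) (iv1 F184739) D172056 (iv6 F354127) (iv1 F206082)
theorem F440039 : act 0 n174496 = n206278 := d17_0 F440036 (iv1 F358081) (iv5 F359936) (iv4 F392512) (iv5 F394678) (iv0 F394680) D194923 F395020 (iv4 F392937)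
def n206279 : Q := act 3 n128067
theorem D206279 : act 3 n128067 = n206279 := rfl
def n206280 : Q := act 0 n128083
theorem D206280 : act 0 n128083 = n206280 := rfl
theorem F440040 : act 4 n206280 = n154980 := d18_1 D206280 (iv1 F243692) (iv4 D84994) (iv5 D39308) F188453 F86952 (iv4 F188165) F188169 D128083
theorem F440041 : act 2 n149185 = n206280 := d15_3 (iv0 D206280) F278148 (iv7 F278142)
theorem F440042 : act 1 n128086 = n206280 := d15_0 (iv0 D206280) F206137 (iv2 F206148)
theorem F440043 : act 7 n206280 = n140042 := d15_2 (iv0 F261795) F440042 F318794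
theorem F440044 : act 3 n140049 = n206280 := d20_9 F425369 (iv1 D202741) F182023 F84777 D67154 (iv3 F310044) D154802 (iv1 F340086) (iv4 F360912) (iv1 F440042)
theorem F440045 : act 6 n148553 = n206280 := d21_9 (iv5 D128086) (iv1 D60193) D60194 (iv6 F110917) F110919 (iv6 F210572) (iv5 D131362) D131360 (iv5 F337673) (iv1 F440042)
def n206281 : Q := act 5 n128085
theorem D206281 : act 5 n128085 = n206281 := rfl
theorem F440046 : act 2 n206281 = n149058 := d2_1 D206281 (iv5 D149058) (iv2 F206143)
theorem F440047 : act 3 n206281 = n128086 := d6_1 D206281 (iv5 D128086) D128085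
theorem F440048 : act 4 n206281 = n175455 := d9_1 D206281 (iv5 D175455) (iv4 F306608) D148977 F346285 (iv5 D149155) (iv4 D69999) D70000 (iv4 F346282) (iv5 F346278) F308147 D149151 F425336 F425335 (iv4 F206144)
theorem F440049 : act 7 n206281 = n149152 := d13_2 (iv7 F206145) D206281 (iv5 D149152)
theorem F440050 : act 0 n206281 = n140824 := d17_2 F206147 D206281 (iv5 F427396) F427395 F348541 F348537 (iv5 D119690) (iv0 F308146) F308147
theorem F440051 : act 1 n206281 = n149156 := d17_6 F239418 (iv5 F316420) (iv1 F425333) F425335 (iv4 F206144) D206281 F234536 F425347 (iv4 F239416)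
def n206282 : Q := act 6 n128086
theorem D206282 : act 6 n128086 = n206282 := rfl
theorem F440052 : act 2 n206282 = n149187 := d3_1 D206282 (iv6 D149187) (iv2 F206148)
theorem F440053 : act 4 n206282 = n146984 := d10_1 D206282 F428692 (iv4 F425369)
theorem F440054 : act 0 n149241 = n206282 := d21_4 (iv5 D61656) F77093 (iv5 F106435) D149241 (iv6 D206282) (iv5 D128086) (iv1 D60193) D60194 (iv6 F110917) F110919
theorem F440055 : act 5 n206282 = n204328 := d17_3 F234630 (iv5 F234629) F440054 F432065 F329114 F356546 (iv5 D68886) D68885 D146956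
theorem F440056 : act 7 n204327 = n206282 := d13_0 F440055 (iv7 D204328) D204327
theorem F440057 : act 0 n191072 = n204328 := d19_0 (iv5 F440055) F440053 (iv3 F428694) (iv1 F311542) F250318 (iv4 F279694) (iv3 D179594) F313705 D136367 F337461 (iv3 F355286) (iv1 D150129) (iv5 D70660) (iv4 F55387) F55386 D34990 D76571 (iv4 F332450) D191072
def n206283 : Q := act 5 n128087
theorem D206283 : act 5 n128087 = n206283 := rfl
theorem F440058 : act 2 n206283 = n149190 := d2_1 D206283 (iv5 D149190) (iv2 F206149)
theorem F440059 : act 3 n206283 = n190332 := d6_1 D206283 F379429 F278725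
theorem F440060 : act 4 n206283 = n134238 := d9_1 D206283 F216273 F207342 F95908 (iv4 D60772) D60773 (iv4 F318033) D179986 F280342 (iv5 F361791) F216152 (iv5 D129316) (iv4 D60777) D60778 (iv4 F318029)
theorem F440061 : act 6 n206283 = n204328 := d12_2 D128087 D206283 (iv5 F440055) (iv6 D206282) (iv5 D128086)
theorem F440062 : act 7 n206283 = n204160 := d13_2 (iv7 F318030) D206283 F431260
theorem F440063 : act 0 n206283 = n150105 := d17_2 F273260 D206283 (iv5 D150105) F233757 D75608 (iv0 F315447) F315449 F188456 (iv4 F128776)
theorem F440064 : act 1 n206283 = n150103 := d17_6 (iv1 F96870) (iv5 D62147) (iv1 F47142) D60778 (iv4 F318029) D206283 (iv5 D150103) (iv0 D70635) F315083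
def n206284 : Q := act 5 n128088
theorem D206284 : act 5 n128088 = n206284 := rfl
theorem F440065 : act 3 n206284 = n149025 := d6_1 D206284 F234303 F206152
theorem F440066 : act 6 n206284 = n203213 := d12_2 (iv6 F331678) D206284 F427431 F397637 (iv5 F331669)
theorem F440067 : act 7 n206284 = n149220 := d13_2 (iv7 F206153) D206284 (iv5 D149220)
theorem F440068 : act 4 n206284 = n155846 := d16_6 (iv4 F274104) (iv5 F431983) F431982 F406368 (iv4 F206151) D206284 (iv5 D155846) (iv7 F353049) (iv2 F278197)
theorem F440069 : act 1 n206284 = n149003 := d17_6 (iv1 F362043) F346272 D197981 F406368 (iv4 F206151) D206284 (iv5 F278141) F278139 F362045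
def n206285 : Q := act 3 n128089
theorem D206285 : act 3 n128089 = n206285 := rfl
theorem F440070 : act 2 n206285 = n149064 := d0_1 D206285 (iv3 D149064) F187646 D70039 (iv2 F278235)
theorem F440071 : act 4 n206285 = n175462 := d5_2 (iv4 F278236) D206285 (iv3 D175462) (iv4 F336429) F346401
theorem F440072 : act 5 n206285 = n152666 := d6_2 F428465 D206285 (iv3 F428463)
theorem F440073 : act 6 n206285 = n139975 := d7_2 F346399 D206285 (iv3 F225024)
theorem F440074 : act 7 n206285 = n149207 := d8_2 (iv7 F278237) D206285 F278233
theorem F440075 : act 0 n206285 = n148977 := d20_4 (iv4 F130353) (iv1 F188014) (iv4 F278236) D206285 F234121 (iv4 F320228) F320225 (iv4 D72931) (iv3 F190177) (iv1 F86884)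
theorem F440076 : act 0 n149151 = n206285 := d20_4 (iv4 F337210) F356471 (iv4 D149320) (iv3 F234527) (iv3 D206285) F278236 (iv1 D119366) (iv4 D54934) (iv3 F86856) D119329
def n206286 : Q := act 0 n128110
theorem D206286 : act 0 n128110 = n206286 := rfl
theorem F440077 : act 5 n206286 = n193725 := d17_3 D194295 F392710 D206286 (iv4 D193725) (iv5 F378429) F378432 (iv5 F158434) (iv0 D103166) D103168
theorem F440078 : act 4 n206286 = n155079 := d18_1 D206286 (iv1 F243893) (iv4 F270133) (iv5 F390349) F390350 F158435 D103184 F392711 F392710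
theorem F440079 : act 3 n206286 = n177042 := d20_5 F52884 D33589 (iv4 F190724) D128110 D206286 (iv4 D177042) (iv1 F306071) F306072 (iv3 D153916) (iv1 D72828)
theorem F440080 : act 2 n172792 = n206286 := d15_3 (iv0 D206286) (iv0 F343957) F362756
theorem F440081 : act 7 n206286 = n172797 := d4_2 F362756 F440080 (iv2 F362754)
def n206287 : Q := act 5 n128118
theorem D206287 : act 5 n128118 = n206287 := rfl
theorem F440082 : act 3 n206287 = n134089 := d6_1 D206287 (iv5 D134089) (iv3 F356743)
theorem F440083 : act 0 n206287 = n184729 := d17_2 (iv1 F356742) D206287 F287202 (iv4 F343435) (iv5 D128121) F190372 D60258 D128177 F356654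
def n206288 : Q := act 3 n128123
theorem D206288 : act 3 n128123 = n206288 := rfl
theorem F440084 : act 4 n206288 = n143491 := d5_2 D128123 D206288 (iv3 D143491) (iv4 F318078) (iv3 F188442)
theorem F440085 : act 5 n206288 = n203304 := d6_2 F439783 D206288 (iv3 F439784)
theorem F440086 : act 6 n206288 = n187432 := d7_2 F427222 D206288 (iv3 F427219)
theorem F440087 : act 7 n206288 = n159982 := d8_2 F261788 D206288 F261790
def n206289 : Q := act 5 n128125
theorem D206289 : act 5 n128125 = n206289 := rfl
theorem F440088 : act 2 n206289 = n149367 := d2_1 D206289 (iv5 D149367) (iv2 F206203)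
theorem F440089 : act 3 n206289 = n203301 := d6_1 D206289 (iv5 D203301) F348660
theorem F440090 : act 7 n206289 = n183173 := d13_2 (iv7 F206204) D206289 (iv5 F356650)
theorem F440091 : act 4 n206289 = n183176 := d16_2 D128125 D206289 (iv5 F286691) (iv4 F356654) (iv5 F206312) F123759 F317999 (iv7 F317644) (iv2 F188346)
theorem F440092 : act 0 n206289 = n189112 := d17_2 (iv1 F206206) D206289 F375795 F225624 (iv5 F320145) F313937 (iv5 F313291) F192434 (iv4 F163342)
theorem F440093 : act 1 n206289 = n189111 := d17_6 D70086 (iv5 F201146) (iv1 F206214) (iv5 D128126) D128125 D206289 F375792 F315703 (iv4 D70088)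
def n206290 : Q := act 4 n128126
theorem D206290 : act 4 n128126 = n206290 := rfl
theorem F440094 : act 2 n206290 = n149369 := d1_1 D206290 (iv4 D149369) (iv2 F206207)
theorem F440095 : act 5 n206290 = n128176 := d9_2 D128126 D206290 F356655 F143584 (iv4 F143863) F356648 F102568 (iv5 F317999) (iv4 F123759) F206312 F356654 F286691 (iv4 F440091) (iv5 D206289) (iv4 D128125)
theorem F440096 : act 6 n206290 = n206170 := d10_2 (iv6 F206208) D206290 (iv4 D206170)
theorem F440097 : act 7 n206290 = n167761 := d11_2 (iv7 F206209) D206290 F264112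
theorem F440098 : act 0 n206290 = n167767 := d17_0 (iv5 F264139) (iv1 D149280) (iv5 D70084) (iv4 D32521) D32522 D70087 (iv5 F206212) F206210 D206290
theorem F440099 : act 1 n206290 = n167766 := d18_6 F322156 (iv4 F163342) (iv1 F206206) (iv4 D128125) D128126 D206290 (iv4 F313935) F313932 (iv5 F322159)
theorem F440100 : act 3 n206290 = n129564 := d20_3 F311948 (iv1 F206214) D206290 (iv1 D129564) F95416 F46514 D29274 (iv4 F102701) (iv3 F311474) F314367
def n206291 : Q := act 5 n128127
theorem D206291 : act 5 n128127 = n206291 := rfl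
theorem F440101 : act 2 n206291 = n201530 := d2_1 D206291 (iv5 D201530) F206217
theorem F440102 : act 3 n206291 = n148532 := d6_1 D206291 F339334 F339329
theorem F440103 : act 0 n206291 = n189117 := d17_2 D128127 D206291 F375808 (iv4 D149290) (iv5 F206212) F206210 (iv5 D128126) (iv0 D60219) D60221
theorem F440104 : act 1 n206291 = n189114 := d17_6 D116769 F353106 (iv1 F313928) F313929 (iv4 F206216) D206291 F375797 (iv0 F346258) (iv4 D116772)
def n206292 : Q := act 4 n128129
theorem D206292 : act 4 n128129 = n206292 := rfl
theorem F440105 : act 6 n206292 = n201402 := d10_2 (iv6 F206226) D206292 (iv4 D201402)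
theorem F440106 : act 5 n206292 = n189051 := d16_3 D60221 D128129 D206292 F375590 (iv5 D119497) (iv4 F305018) F320171 (iv7 F320157) F94718
theorem F440107 : act 1 n206292 = n184729 := d18_6 F320183 F102568 (iv1 F317998) D60221 D128129 D206292 F362978 (iv0 F398376) (iv5 D195831)
def n206293 : Q := act 7 n128129
theorem D206293 : act 7 n128129 = n206293 := rfl
theorem F440108 : act 3 n206293 = n188642 := d8_1 D206293 F374290 (iv3 F206225)
theorem F440109 : act 5 n206293 = n128130 := d13_1 D206293 (iv7 D128130) D128129
theorem F440110 : act 0 n188624 = n206293 := d17_2 (iv1 F346263) (iv5 F374233) F440109 F206228 F94782 (iv0 F188406) D32522 D70087 D149290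
def n206294 : Q := act 1 n128148
theorem D206294 : act 1 n128148 = n206294 := rfl
theorem F440111 : act 1 n206294 = n128151 := d15_1 D206294 F334198 F334196
theorem F440112 : act 7 n206294 = n130388 := d15_2 F340244 D206294 (iv2 F340238)
theorem F440113 : act 5 n206294 = n130329 := d17_7 F190493 F190704 F190711 (iv5 D73029) (iv4 F190649) D128148 D206294 (iv0 D130329) (iv4 F309702)
theorem F440114 : act 3 n203449 = n206294 := d19_19 (iv1 D206294) (iv5 D128148) F190649 (iv3 F190648) (iv1 F42713) F42707 F21141 (iv3 F21380) F298471 D17309 D35717 D78361 D162973 F334235 F305602 (iv3 F206405) F397647 F397643 (iv4 F428359)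
theorem F440115 : act 6 n206286 = n206294 := d21_3 F341653 (iv1 F390797) (iv5 F440077) (iv1 D206294) (iv6 F334222) F254168 (iv1 F336547) F336548 F217745 (iv1 F217715)
theorem F440116 : act 2 n206294 = n130383 := d3_1 F440115 (iv6 F340219) F440080
def n206295 : Q := act 6 n128156
theorem D206295 : act 6 n128156 = n206295 := rfl
theorem F440117 : act 2 n206295 = n133080 := d3_1 D206295 (iv6 D133080) (iv2 F311888)
theorem F440118 : act 3 n206295 = n203557 := d7_1 D206295 F428868 F335243
theorem F440119 : act 4 n206295 = n174419 := d10_1 D206295 (iv6 D174419) (iv4 F332028)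
theorem F440120 : act 5 n206295 = n203548 := d12_1 D206295 (iv6 D203548) (iv5 D119497) (iv6 F306340) (iv5 F206285)
theorem F440121 : act 0 n206295 = n155708 := d21_4 (iv5 F331982) F199418 (iv5 F206285) D206295 (iv6 F320268) F320267 (iv1 F346796) F334507 F340219 F343499
theorem F440122 : act 0 n206257 = n206295 := d21_4 (iv5 F341644) F354038 (iv5 F353999) D206257 (iv6 D206295) F206285 F190003 (iv5 F334227) F224421 F334237
def n206296 : Q := act 4 n128170
theorem D206296 : act 4 n128170 = n206296 := rfl
theorem F440123 : act 6 n206296 = n179946 := d10_2 (iv6 F341255) D206296 (iv4 D179946)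
theorem F440124 : act 5 n206296 = n144439 := d16_7 F167236 D156092 F388326 (iv5 D192954) F155625 D128170 D206296 F245161 F245158
theorem F440125 : act 3 n144440 = n206296 := d20_5 F227238 (iv1 F111317) (iv4 F204171) D205993 F438737 (iv4 D206296) F403047 (iv4 F403834) (iv3 D197286) (iv1 F227241)
def n206297 : Q := act 6 n128173
theorem D206297 : act 6 n128173 = n206297 := rfl
theorem F440126 : act 3 n206297 = n204873 := d7_1 D206297 (iv6 F433964) (iv3 F353928)
theorem F440127 : act 4 n206297 = n154281 := d10_1 D206297 (iv6 D154281) (iv4 F353929)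
theorem F440128 : act 5 n206297 = n134531 := d12_1 D206297 F362099 (iv5 F204667) (iv6 F403203) F403202
theorem F440129 : act 7 n206297 = n186839 := d14_2 F353931 D206297 (iv6 D186839) (iv7 F368165) F368164
theorem F440130 : act 0 n182294 = n206297 := d21_10 F440128 (iv1 D134531) F342209 D154347 F362088 (iv6 F311872) F231254 (iv1 F230996) F350773 (iv6 F359841)
def n206298 : Q := act 0 n128174
theorem D206298 : act 0 n128174 = n206298 := rfl
theorem F440131 : act 5 n206298 = n159056 := d17_3 (iv1 D128173) D128174 D206298 (iv4 F354234) F172432 (iv0 F354226) (iv5 D73090) D73089 (iv4 F353929)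
theorem F440132 : act 4 n206298 = n134085 := d18_1 D206298 (iv1 F354232) F336347 D179063 (iv4 F345980) F198071 (iv4 F353924) (iv0 D128172) D128174
theorem F440133 : act 6 n206298 = n205330 := d21_5 (iv5 D79810) F190373 D60258 (iv6 F206310) D206298 (iv5 D205330) (iv1 F416645) F416641 F375971 (iv1 D166217)
theorem F440134 : act 3 n159058 = n206298 := d7_3 F440133 F435948 F348490
theorem F440135 : act 7 n206298 = n204361 := d8_2 F434429 F440134 F434430
def n206299 : Q := act 6 n128177
theorem D206299 : act 6 n128177 = n206299 := rfl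
theorem F440136 : act 2 n206299 = n205442 := d3_1 D206299 (iv6 F436449) (iv2 F241918)
theorem F440137 : act 3 n206299 = n167781 := d7_1 D206299 F264149 (iv3 F206313)
theorem F440138 : act 4 n206299 = n193134 := d10_1 D206299 F388864 (iv4 F356654)
theorem F440139 : act 5 n206299 = n167765 := d12_1 D206299 (iv6 D167765) (iv5 D80505) D80506 F206312
theorem F440140 : act 7 n206299 = n193131 := d14_2 (iv7 F241913) D206299 (iv6 D193131) F155933 (iv6 F343442)
def n206300 : Q := act 3 n128178
theorem D206300 : act 3 n128178 = n206300 := rfl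
theorem F440141 : act 4 n206300 = n144440 := d5_2 D128178 D206300 F440125 (iv4 D206296) F206307
theorem F440142 : act 7 n206300 = n192476 := d8_2 (iv7 F364281) D206300 F386777
theorem F440143 : act 0 n206300 = n192471 := d20_10 F438416 (iv1 D197308) D197309 (iv3 F404037) (iv1 D192552) (iv3 F356740) (iv4 F356654) (iv1 D128177) D128178 D206300
theorem F440144 : act 0 n192478 = n206300 := d20_4 D189065 (iv1 F386787) F386785 (iv3 F386772) (iv3 D206300) (iv4 D128178) D128176 F356655 F143583 D93107
def n206301 : Q := act 5 n128178
theorem D206301 : act 5 n128178 = n206301 := rfl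
theorem F440145 : act 4 n206301 = n195831 := d9_1 D206301 (iv5 D195831) F163394 F109344 (iv4 F109334) (iv5 F241921) (iv4 F394169) F439781 F439780 F205592 F163342 F106783 F52876 D60258 D128178
theorem F440146 : act 7 n206301 = n195833 := d13_2 (iv7 F364281) D206301 F398383
theorem F440147 : act 0 n206301 = n183110 := d17_2 (iv1 F339296) D206301 (iv5 F286220) (iv4 F364533) (iv5 D174916) (iv0 F308983) D128050 D206276 F440025
theorem F440148 : act 6 n183145 = n206301 := d21_5 (iv5 D43002) D42999 (iv5 F294368) D87421 D183145 (iv5 D206301) F339294 (iv5 F283439) (iv6 D182035) F295012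
def n206302 : Q := act 1 n128201
theorem D206302 : act 1 n128201 = n206302 := rfl
theorem F440149 : act 1 n206302 = n176364 := d15_1 D206302 (iv7 F346735) (iv2 F206338)
theorem F440150 : act 7 n206302 = n167611 := d15_2 (iv0 F346739) D206302 F301480
theorem F440151 : act 4 n201179 = n206302 := d20_0 (iv1 D206302) F206340 (iv3 F178468) F368668 F368667 F332531 F229335 F104982 D146572 (iv1 F419341)
theorem F440152 : act 5 n166466 = n206302 := d21_0 (iv1 D206302) (iv5 F380568) F380569 (iv1 F358720) (iv6 D163696) (iv5 D78651) (iv1 F254318) D86304 D180674 F358881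
theorem F440153 : act 6 n167585 = n206302 := d21_3 (iv5 F370570) (iv1 F253895) (iv5 F263839) (iv1 D206302) (iv6 D128201) F94825 D72621 (iv5 F163145) D195648 F397723
theorem F440154 : act 2 n206302 = n166468 := d2_1 F440152 (iv5 D166468) D166466
def n206303 : Q := act 5 n128208
theorem D206303 : act 5 n128208 = n206303 := rfl
theorem F440155 : act 4 n206303 = n197687 := d16_2 D128208 D206303 F405365 F389415 (iv5 D103363) (iv4 F158647) F347138 (iv7 F354961) F354959
theorem F440156 : act 6 n206303 = n136555 := d21_9 (iv5 D64196) D64193 D136545 (iv6 F338908) F307398 (iv6 F240937) (iv5 D153367) (iv1 F354082) D206303 (iv1 D136555)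
def n206304 : Q := act 1 n128210
theorem D206304 : act 1 n128210 = n206304 := rfl
theorem F440157 : act 1 n206304 = n147467 := d15_1 D206304 (iv7 F426482) F426480
theorem F440158 : act 7 n206304 = n147326 := d15_2 (iv0 F354104) D206304 F230997
theorem F440159 : act 4 n206304 = n193247 := d17_9 (iv1 F389316) F368244 (iv1 D157588) (iv5 D75017) (iv4 F112549) D157575 (iv0 F354105) (iv5 F354088) D206304
theorem F440160 : act 5 n206304 = n147327 := d18_9 (iv1 F231002) D147464 (iv1 F243364) F162465 (iv5 F316681) (iv4 F329321) D194739 F394308 D206304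
theorem F440161 : act 6 n173696 = n206304 := d21_3 F317250 D158802 F348444 (iv1 D206304) (iv6 D128210) (iv5 F354086) (iv1 F392945) F392948 (iv6 D176474) F319548
theorem F440162 : act 2 n206304 = n147470 := d3_1 F440161 F311872 F272231
def n206305 : Q := act 6 n128212
theorem D206305 : act 6 n128212 = n206305 := rfl
theorem F440163 : act 2 n206305 = n147277 := d3_1 D206305 F366623 (iv2 F354099)
theorem F440164 : act 3 n206305 = n128215 := d7_1 D206305 (iv6 D128215) D128212
theorem F440165 : act 4 n206305 = n189700 := d10_1 D206305 F377454 (iv4 F354100)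
theorem F440166 : act 5 n206305 = n179252 := d12_1 D206305 (iv6 F365297) F347871 (iv6 F347874) F347876
theorem F440167 : act 0 n206305 = n147275 := d21_4 (iv5 F304136) D166234 F347876 D206305 (iv6 D147275) (iv5 F105258) D113140 (iv5 F232038) (iv6 F361684) (iv1 D176272)
theorem F440168 : act 0 n147279 = n206305 := d21_4 F373985 F338069 D174491 F343363 (iv6 D206305) (iv5 F347876) F389909 F389906 F357765 (iv1 F373988)
theorem F440169 : act 7 n147276 = n206305 := d13_0 F440166 (iv7 F398608) (iv5 F398597)
def n206306 : Q := act 5 n128213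
theorem D206306 : act 5 n128213 = n206306 := rfl
theorem F440170 : act 3 n206306 = n201209 := d6_1 D206306 (iv5 D201209) (iv3 F352396)
theorem F440171 : act 6 n206306 = n188395 := d21_3 F428974 (iv1 F428975) D206306 (iv1 D188395) (iv6 D91345) (iv5 D42748) (iv1 F66053) D40914 D87806 D184083
def n206307 : Q := act 6 n128213
theorem D206307 : act 6 n128213 = n206307 := rfl
theorem F440172 : act 2 n206307 = n204993 := d3_1 D206307 F434507 F432326
theorem F440173 : act 3 n206307 = n201210 := d7_1 D206307 (iv6 D201210) (iv3 F352396)
theorem F440174 : act 4 n206307 = n128215 := d10_1 D206307 (iv6 D128215) D128213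
theorem F440175 : act 5 n206307 = n194402 := d12_1 D206307 F393060 F373282 (iv6 F440171) (iv5 D206306)
theorem F440176 : act 0 n153642 = n206307 := d17_0 F440175 (iv1 F393063) (iv5 D154103) D154102 (iv5 F342707) (iv0 D107688) D107691 F336346 (iv4 F348682)
def n206308 : Q := act 0 n128215
theorem D206308 : act 0 n128215 = n206308 := rfl
theorem F440177 : act 4 n206308 = n199319 := d18_1 D206308 F411863 F411859 (iv5 F336290) F166013 D111152 (iv4 F403204) (iv0 F403205) F375966
theorem F440178 : act 2 n159056 = n206308 := d15_3 (iv0 D206308) (iv0 F411931) F411930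
theorem F440179 : act 3 n206308 = n175786 := d0_2 D159056 F440178 (iv2 F434587) (iv3 D205010) F354748
theorem F440180 : act 6 n206308 = n176493 := d3_2 (iv6 F436764) F440178 (iv2 F436759)
def n206309 : Q := act 7 n128215
theorem D206309 : act 7 n128215 = n206309 := rfl
theorem F440181 : act 3 n206309 = n147276 := d8_1 D206309 F440169 F440164
theorem F440182 : act 6 n206309 = n147467 := d14_1 D206309 (iv7 F426482) (iv6 F426485) F354961 D128215
theorem F440183 : act 0 n159056 = n206309 := d21_4 (iv5 F349825) (iv1 F353602) D205508 (iv6 F436764) F440182 F242695 F425153 F425151 (iv6 F236448) (iv1 F353610)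
def n206310 : Q := act 5 n128216
theorem D206310 : act 5 n128216 = n206310 := rfl
theorem F440184 : act 3 n206310 = n148290 := d6_1 D206310 F337674 (iv3 F346564)
theorem F440185 : act 6 n206310 = n184087 := d12_2 F409690 D206310 F348704 F344645 D198873
theorem F440186 : act 4 n206310 = n184085 := d17_4 (iv1 D60274) D60275 D128216 D206310 (iv5 D184085) (iv0 F366803) (iv5 D153367) (iv0 F354102) (iv4 D128213)
def n206311 : Q := act 5 n128217
theorem D206311 : act 5 n128217 = n206311 := rfl
theorem F440187 : act 3 n206311 = n147551 := d6_1 D206311 (iv5 F390110) (iv3 F422848)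
theorem F440188 : act 6 n206311 = n147548 := d21_3 (iv5 F347134) (iv1 F347139) D206311 (iv1 F353619) F236448 (iv5 F425151) F425152 (iv5 F354088) (iv6 D128210) (iv1 F198204)
def n206312 : Q := act 1 n128218
theorem D206312 : act 1 n128218 = n206312 := rfl
def n206313 : Q := act 3 n128218
theorem D206313 : act 3 n128218 = n206313 := rfl
theorem F440189 : act 6 n206313 = n128260 := d7_2 (iv6 F206345) D206313 (iv3 D128260)
theorem F440190 : act 7 n206313 = n144005 := d8_2 F393013 D206313 (iv3 F393011)
theorem F440191 : act 0 n144066 = n206313 := d20_4 F49631 D31363 D67499 D144066 (iv3 D206313) (iv4 D128218) D128216 (iv4 F346565) (iv3 D144061) (iv1 D67495)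
theorem F440192 : act 5 n206313 = n187342 := d21_0 (iv1 F369899) (iv5 F393324) F393325 F295624 D199151 (iv5 F438787) F438789 (iv5 D194605) (iv6 F406832) F440191
theorem F440193 : act 3 n187342 = n194363 := d6_1 F440192 F392949 D206313
def n206314 : Q := act 0 n128223
theorem D206314 : act 0 n128223 = n206314 := rfl
theorem F440194 : act 3 n206314 = n130741 := d20_5 (iv4 F334643) (iv1 F352107) F318981 (iv3 F206356) D206314 (iv4 F352100) (iv1 D136887) (iv4 F204095) F347093 (iv1 F352106)
theorem F440195 : act 6 n206314 = n152663 := d21_5 (iv5 D128268) (iv1 D60292) D60293 (iv6 F206357) D206314 (iv5 D152663) D152660 (iv5 F354037) (iv6 D129875) (iv1 F315352)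
theorem F440196 : act 2 n154348 = n206314 := d15_3 (iv0 D206314) (iv0 F374613) F374612
theorem F440197 : act 1 n154351 = n206314 := d15_0 (iv0 D206314) (iv7 F438827) F438824
theorem F440198 : act 7 n206314 = n154349 := d15_2 F374614 F440197 (iv2 F374610)
theorem F440199 : act 4 n204887 = n206314 := d11_3 F440198 F348867 D204887
def n206315 : Q := act 4 n128223
theorem D206315 : act 4 n128223 = n206315 := rfl
theorem F440200 : act 2 n206315 = n154350 := d1_1 D206315 (iv4 D154350) (iv2 F206355)
theorem F440201 : act 3 n206315 = n128775 := d5_1 D206315 (iv4 F418321) F418320 F318981 (iv3 F206356)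
theorem F440202 : act 6 n206315 = n128272 := d10_2 (iv6 F206357) D206315 (iv4 D128272)
theorem F440203 : act 5 n206315 = n200603 := d17_5 F439116 (iv5 F336894) (iv1 D128222) D128223 D206315 (iv0 F417157) (iv5 F365926) F439123 F439120
theorem F440204 : act 1 n206315 = n201702 := d18_8 F377735 (iv4 D189783) (iv1 F285262) F366990 (iv5 F434022) F440199 (iv0 D206314) D206315 (iv5 D201702)
def n206316 : Q := act 5 n128239
theorem D206316 : act 5 n128239 = n206316 := rfl
theorem F440205 : act 2 n206316 = n128240 := d2_1 D206316 (iv5 D128240) D128239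
theorem F440206 : act 3 n206316 = n155140 := d6_1 D206316 (iv5 F332363) (iv3 F305617)
theorem F440207 : act 6 n206316 = n155138 := d12_2 (iv6 F305618) D206316 F287017 F304280 (iv5 F128474)
theorem F440208 : act 4 n206316 = n193435 := d18_5 F303405 (iv4 F303663) (iv1 F241857) F241855 D206316 (iv0 F409612) (iv4 F349902) F366509 (iv5 F366507)
theorem F440209 : act 0 n206316 = n174447 := d21_4 (iv5 F337650) F272860 (iv5 F287017) (iv6 F440207) F358744 (iv5 D103281) D103278 F385589 (iv6 D192108) (iv1 F337649)
theorem F440210 : act 1 n206316 = n178517 := d15_1 (iv0 F440209) (iv7 F353050) F358747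
def n206317 : Q := act 1 n128240
theorem D206317 : act 1 n128240 = n206317 := rfl
theorem F440211 : act 7 n206317 = n174447 := d15_2 (iv0 F375909) D206317 (iv2 F358747)
theorem F440212 : act 3 n174398 = n206317 := d20_3 (iv4 D189191) (iv1 F286299) (iv4 F358748) (iv1 D206317) F206370 D128242 (iv1 F364593) (iv4 F392851) F392850 F376020
theorem F440213 : act 2 n206317 = n178517 := d0_1 F440212 (iv3 D178517) (iv2 F278197) F273327 (iv2 F273328)
def n206318 : Q := act 0 n128243
theorem D206318 : act 0 n128243 = n206318 := rfl
theorem F440214 : act 5 n206318 = n155078 := d17_3 F354482 F366931 D206318 (iv4 F270066) (iv5 F334247) (iv0 D147643) (iv5 F336537) F217741 F358071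
theorem F440215 : act 6 n206318 = n172789 := d21_5 F206081 (iv1 F94742) D60285 D128243 D206318 (iv5 D172789) (iv1 F328940) (iv5 F346772) F354121 (iv1 F206084)
theorem F440216 : act 2 n172787 = n206318 := d3_3 F440215 F271056 (iv6 F271055)
theorem F440217 : act 3 n173291 = n206318 := d7_3 F440215 F271057 F343421
theorem F440218 : act 4 n194871 = n206318 := d10_3 F440215 (iv4 F382083) (iv6 F394819)
theorem F440219 : act 0 n206318 = n155134 := d21_10 F386466 (iv1 F386463) (iv5 F389914) F389915 (iv1 F214331) F327123 (iv5 D84212) (iv1 F184758) D172789 (iv6 F440215)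
theorem F440220 : act 7 n206318 = n174496 := d11_2 (iv7 F394820) F440218 F392937
def n206319 : Q := act 1 n128243
theorem D206319 : act 1 n128243 = n206319 := rfl
theorem F440221 : act 1 n206319 = n155134 := d15_1 D206319 (iv7 F440037) F440033
theorem F440222 : act 7 n206319 = n172787 := d15_2 (iv0 D206318) D206319 F440216
theorem F440223 : act 5 n206319 = n155112 := d17_7 F188059 (iv5 F308694) (iv1 D147562) F306845 (iv4 F298845) F366931 D206319 (iv0 D155112) (iv4 F188055)
theorem F440224 : act 4 n206319 = n194874 := d17_9 F394834 (iv5 D194813) (iv1 F392985) (iv5 D194378) F386473 (iv5 D192335) F358078 F366931 D206319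
theorem F440225 : act 2 n174496 = n206319 := d1_3 F440224 F394832 (iv4 F392937)
theorem F440226 : act 3 n161879 = n206319 := d6_3 F440223 F360165 D161879
def n206320 : Q := act 7 n128243
theorem D206320 : act 7 n128243 = n206320 := rfl
theorem F440227 : act 2 n206320 = n155134 := d4_1 D206320 (iv7 F440037) F440033
theorem F440228 : act 3 n206320 = n172400 := d8_1 D206320 (iv7 F368283) F368281
theorem F440229 : act 5 n206320 = n174482 := d13_1 D206320 F363233 F366931
theorem F440230 : act 1 n174496 = n206320 := d15_1 (iv0 F440039) (iv7 D206320) (iv2 F440033)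
theorem F440231 : act 1 n206320 = n172787 := d15_1 F440230 (iv7 F440222) (iv2 F440225)
def n206321 : Q := act 1 n128250
theorem D206321 : act 1 n128250 = n206321 := rfl
theorem F440232 : act 1 n206321 = n128255 := d15_1 D206321 (iv7 F385757) F385753
theorem F440233 : act 7 n206321 = n133371 := d15_2 (iv0 F354133) D206321 (iv2 F379193)
theorem F440234 : act 5 n206321 = n190073 := d17_7 D97178 (iv5 F149923) F317840 D127629 (iv4 F381652) F381653 D206321 F378776 (iv4 D97180)
theorem F440235 : act 4 n206321 = n153245 := d18_7 (iv1 F233884) F205990 (iv1 F240291) F231538 (iv5 D128251) D128250 D206321 (iv0 F355436) F355434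
theorem F440236 : act 2 n133370 = n206321 := d1_3 F440235 F240702 F354111
def n206322 : Q := act 5 n128254
theorem D206322 : act 5 n128254 = n206322 := rfl
theorem F440237 : act 3 n206322 = n128256 := d6_1 D206322 (iv5 D128256) D128254
theorem F440238 : act 6 n206322 = n203787 := d12_2 F354142 D206322 F429811 F263822 F354147
theorem F440239 : act 7 n206322 = n162718 := d13_2 (iv7 F354140) D206322 F302454
theorem F440240 : act 4 n203789 = n206322 := d11_3 F440239 F358451 (iv7 F429824)
def n206323 : Q := act 5 n128257
theorem D206323 : act 5 n128257 = n206323 := rfl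
theorem F440241 : act 2 n206323 = n133331 := d2_1 D206323 (iv5 D133331) (iv2 F354118)
theorem F440242 : act 3 n206323 = n160728 := d6_1 D206323 F354147 (iv3 F354144)
theorem F440243 : act 4 n206323 = n166282 := d9_1 D206323 (iv5 D166282) (iv4 F190446) (iv5 F335872) (iv4 D130574) (iv5 D61261) (iv4 F95702) (iv5 F166373) D197139 F403222 F313179 D159593 (iv4 F364333) (iv5 D133364) (iv4 F354119)
theorem F440244 : act 6 n206323 = n166287 := d12_2 D128257 D206323 F362490 F206380 (iv5 D128256)
theorem F440245 : act 7 n206323 = n160724 := d13_2 (iv7 F354120) D206323 (iv5 F335862)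
theorem F440246 : act 1 n206323 = n179278 := d17_6 D112974 F355248 (iv1 F214418) (iv5 D133364) (iv4 F354119) D206323 (iv5 D179278) (iv0 F323266) (iv4 F82433)
theorem F440247 : act 0 n206323 = n197134 := d18_0 F403201 (iv1 D147034) (iv4 F230379) F339815 (iv4 F379497) (iv0 F399757) F399755 (iv0 F354116) D206323
def n206324 : Q := act 2 n128260
theorem D206324 : act 2 n128260 = n206324 := rfl
theorem F440248 : act 7 n206324 = n144008 := d4_2 (iv7 F402380) D206324 (iv2 F402375)
theorem F440249 : act 1 n206324 = n194547 := d15_0 (iv0 F402378) (iv7 F402380) D206324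
theorem F440250 : act 1 n144103 = n206324 := d15_0 F440249 (iv7 D194547) (iv2 F361616)
def n206325 : Q := act 5 n128260
theorem D206325 : act 5 n128260 = n206325 := rfl
theorem F440251 : act 3 n206325 = n128261 := d6_1 D206325 (iv5 D128261) D128260
theorem F440252 : act 6 n206325 = n191033 := d21_3 F379070 F354132 D206325 (iv1 D191033) (iv6 D97147) F71625 (iv1 F63262) D44697 D95700 D190205
theorem F440253 : act 3 n191033 = n187241 := d7_1 F440252 (iv6 F369792) (iv3 F440251)
theorem F440254 : act 7 n190313 = n191033 := d8_0 F440253 (iv7 F378788) F399905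
theorem F440255 : act 2 n191033 = n190314 := d15_3 F381892 F381893 F440254
theorem F440256 : act 2 n190313 = n191032 := d15_3 (iv0 D191032) D191033 (iv7 F440254)
theorem F440257 : act 7 n191032 = n190314 := d4_2 (iv7 F440254) F440256 (iv2 F440255)
def n206326 : Q := act 6 n128268
theorem D206326 : act 6 n128268 = n206326 := rfl
theorem F440258 : act 2 n206326 = n129011 := d3_1 D206326 (iv6 D129011) (iv2 F315353)
theorem F440259 : act 3 n206326 = n135343 := d7_1 D206326 (iv6 D135343) (iv3 F315354)
theorem F440260 : act 4 n206326 = n129003 := d10_1 D206326 (iv6 D129003) (iv4 F315355)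
theorem F440261 : act 5 n206326 = n203963 := d12_1 D206326 F430610 (iv5 F237210) (iv6 D128269) D128268
theorem F440262 : act 0 n206326 = n200827 := d21_4 (iv5 F312121) F201157 D128268 D206326 (iv6 D200827) (iv5 F220437) (iv1 F401935) (iv5 F359167) F359165 F311921
theorem F440263 : act 1 n206326 = n129911 := d15_1 (iv0 F440262) (iv7 F414933) (iv2 F418078)
def n206327 : Q := act 6 n128271
theorem D206327 : act 6 n128271 = n206327 := rfl
theorem F440264 : act 5 n206327 = n190661 := d12_1 D206327 F380485 (iv5 D157619) F302484 (iv5 F302483)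
theorem F440265 : act 0 n132349 = n206327 := d17_2 F407806 (iv5 F366150) F440264 (iv4 D190661) (iv5 F341944) F338343 F248694 D165784 (iv4 F373723)
def n206328 : Q := act 6 n128273
theorem D206328 : act 6 n128273 = n206328 := rfl
theorem F440266 : act 3 n206328 = n128456 := d7_1 D206328 (iv6 D128456) (iv3 F206397)
theorem F440267 : act 4 n206328 = n203571 := d10_1 D206328 (iv6 D203571) (iv4 F206396)
theorem F440268 : act 5 n206328 = n199929 := d12_1 D206328 F414191 (iv5 D118231) D118232 (iv5 F206395)
theorem F440269 : act 0 n202638 = n206328 := d21_4 F380189 F348715 F307158 (iv6 F424878) (iv6 D206328) F206395 (iv1 F426848) (iv5 D203064) F236543 (iv1 F380191)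
def n206329 : Q := act 5 n128274
theorem D206329 : act 5 n128274 = n206329 := rfl
theorem F440270 : act 2 n206329 = n203213 := d2_1 D206329 F427431 F397636
theorem F440271 : act 4 n206329 = n132475 := d9_1 D206329 F317292 D203564 F428904 (iv4 F428934) (iv5 D203570) (iv4 F206396) F206395 (iv4 F187667) (iv5 F188547) D203563 F428897 (iv4 F428946) (iv5 D203572) F331658
theorem F440272 : act 7 n206329 = n201491 := d13_2 F428839 D206329 (iv5 F428834)
theorem F440273 : act 0 n206329 = n148855 := d17_2 F428599 D206329 F233873 (iv4 D117640) (iv5 F346065) D193800 (iv5 F426505) F426507 (iv4 F428597)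
theorem F440274 : act 1 n206329 = n203064 := d17_6 (iv1 F227960) D203009 F428948 (iv5 D203572) F331658 D206329 (iv5 D203064) (iv0 F184631) (iv4 F227957)
def n206330 : Q := act 6 n128286
theorem D206330 : act 6 n128286 = n206330 := rfl
theorem F440275 : act 3 n206330 = n128291 := d7_1 D206330 (iv6 D128291) (iv3 F206408)
theorem F440276 : act 4 n206330 = n195446 := d10_1 D206330 F397007 (iv4 F364907)
theorem F440277 : act 5 n206330 = n203833 := d21_6 (iv5 D59471) D59469 D126752 (iv6 F358429) (iv1 F364911) D206330 (iv1 F430025) F406367 F362009 (iv1 D126757)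
def n206331 : Q := act 5 n128287
theorem D206331 : act 5 n128287 = n206331 := rfl
theorem F440278 : act 2 n206331 = n198915 := d2_1 D206331 F409868 (iv2 F307718)
theorem F440279 : act 3 n206331 = n128293 := d6_1 D206331 (iv5 D128293) (iv3 F206409)
theorem F440280 : act 6 n206331 = n203833 := d12_2 D128287 D206331 (iv5 F440277) (iv6 D206330) (iv5 D128286)
theorem F440281 : act 7 n206331 = n164554 := d13_2 (iv7 F307719) D206331 (iv5 D164554)
theorem F440282 : act 0 n206331 = n152470 := d17_2 (iv1 F307717) D206331 (iv5 D152470) F108433 F307460 (iv0 F307462) D135429 F328946 (iv4 F272371)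
theorem F440283 : act 1 n206331 = n134673 := d17_6 (iv1 F429365) F429368 (iv1 F428340) (iv5 F428574) F428573 D206331 (iv5 D134673) D134672 (iv4 F334176)
theorem F440284 : act 4 n206331 = n199590 := d18_5 D83169 D173927 F428576 F428573 D206331 F412784 F406542 F334112 (iv5 D83171)
def n206332 : Q := act 3 n128288
theorem D206332 : act 3 n128288 = n206332 := rfl
theorem F440285 : act 2 n206332 = n155709 := d0_1 D206332 F244724 F320660 D174968 F366388
theorem F440286 : act 5 n206332 = n206257 := d6_2 (iv5 F206410) D206332 F439950
theorem F440287 : act 7 n206332 = n155705 := d8_2 F392854 D206332 (iv3 F392850)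
theorem F440288 : act 4 n206332 = n184330 := d20_6 (iv4 F397038) (iv1 D195454) (iv4 F364907) F206408 D128288 D206332 (iv1 F358774) (iv4 D174399) (iv3 F243910) (iv1 F331746)
theorem F440289 : act 6 n200467 = n206332 := d10_0 F440288 (iv6 F394153) F416573
theorem F440290 : act 1 n155707 = n206332 := d17_8 (iv1 F358774) (iv5 F358776) F358778 (iv5 F287393) F341134 (iv5 D174939) (iv0 F348694) F358469 F440288
theorem F440291 : act 0 n155706 = n206332 := d18_0 F440288 (iv1 F358774) (iv4 D174399) (iv5 D83364) (iv4 F128415) (iv0 F303171) (iv4 F206407) F343391 (iv5 F354055)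
def n206333 : Q := act 4 n128288
theorem D206333 : act 4 n128288 = n206333 := rfl
theorem F440292 : act 2 n206333 = n194397 := d1_1 D206333 F393042 F366388
theorem F440293 : act 5 n206333 = n190100 := d9_2 (iv5 F206410) D206333 F378856 (iv5 D97063) (iv4 F320363) (iv5 F366422) (iv4 F429231) (iv5 D203648) (iv4 F365669) F158554 (iv4 F361121) (iv5 D97058) (iv4 F320362) F190355 (iv4 F205990)
theorem F440294 : act 7 n206333 = n184388 := d11_2 F392854 D206333 (iv4 F392851)
theorem F440295 : act 0 n206333 = n190251 := d17_0 (iv5 D190251) D190248 (iv5 F379187) (iv4 F354111) (iv5 D128096) F131197 D60329 F206411 D206333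
theorem F440296 : act 1 n206333 = n154540 := d18_6 F439555 F206381 F240292 (iv4 F205990) (iv5 F206410) D206333 (iv4 D154540) D154539 (iv5 F439553)
theorem F440297 : act 6 n193629 = n206333 := d14_5 F440294 (iv6 D184388) F294028 D103317 (iv7 F390501)
def n206334 : Q := act 6 n128288
theorem D206334 : act 6 n128288 = n206334 := rfl
theorem F440298 : act 2 n206334 = n155759 := d3_1 D206334 F366387 F366388
theorem F440299 : act 3 n206334 = n200467 := d7_1 D206334 F440289 (iv3 D206332)
theorem F440300 : act 4 n206334 = n193629 := d10_1 D206334 F440297 (iv4 D206333)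
theorem F440301 : act 5 n206334 = n163342 := d12_1 D206334 F351996 (iv5 D128000) D128001 (iv5 F206410)
theorem F440302 : act 7 n206334 = n155755 := d14_2 F392854 D206334 (iv6 D155755) (iv7 F328603) D194331
theorem F440303 : act 0 n206334 = n155757 := d21_4 F355434 (iv1 F233884) (iv5 F206410) D206334 (iv6 F438572) F438571 (iv1 D129238) D129239 (iv6 F354136) F355435
theorem F440304 : act 1 n206334 = n136282 := d15_1 (iv0 F440303) (iv7 F397173) (iv2 F397176)
def n206335 : Q := act 3 n128290
theorem D206335 : act 3 n128290 = n206335 := rfl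
theorem F440305 : act 4 n206335 = n195442 := d5_2 D128290 D206335 F397000 (iv4 F364907) F206408
theorem F440306 : act 0 n206335 = n136285 := d20_10 (iv4 F396612) F410928 (iv4 D198471) D198470 F408614 F365670 F365669 F355176 D128290 D206335
theorem F440307 : act 6 n200449 = n206335 := d21_3 (iv5 D192134) D192131 F416462 F440306 (iv6 D136285) F99664 (iv1 F81524) D51646 D111983 (iv1 F385698)
def n206336 : Q := act 6 n128290
theorem D206336 : act 6 n128290 = n206336 := rfl
theorem F440308 : act 2 n206336 = n194605 := d3_1 D206336 F393793 (iv2 F392840)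
theorem F440309 : act 3 n206336 = n200449 := d7_1 D206336 F440307 (iv3 D206335)
theorem F440310 : act 4 n206336 = n128291 := d10_1 D206336 (iv6 D128291) D128290
theorem F440311 : act 5 n206336 = n194473 := d21_6 (iv5 F64858) (iv1 D42015) D42016 (iv6 F138084) F340390 D206336 (iv1 D194473) F158997 (iv6 D103053) (iv1 F75042)
theorem F440312 : act 7 n194600 = n206336 := d13_0 F440311 F406826 D194600
theorem F440313 : act 0 n206336 = n202418 := d21_1 (iv5 F440311) (iv5 F423927) (iv6 D196772) (iv1 D107306) (iv6 F350560) (iv5 D103602) (iv1 F75369) (iv5 F75502) D103769 (iv1 F393355)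
theorem E103918 : n206312 = n194392 := ((c21_4 (iv5 F423927) F401747 (iv5 F390203) D194392 (iv1 D206312) F206345 D128261 (iv1 F378804) F378802 D206336 F440313)).symm
theorem F440314 : act 0 n194392 = n128218 := (sb E103918 (iv1 D206312))
def n206337 : Q := act 3 n128325
theorem D206337 : act 3 n128325 = n206337 := rfl
theorem F440315 : act 4 n206337 = n196996 := d5_2 D128325 D206337 F402612 (iv4 D119434) (iv3 F306330)
theorem F440316 : act 5 n206337 = n190937 := d6_2 F340393 D206337 (iv3 D190937)
theorem F440317 : act 6 n206337 = n196995 := d7_2 F394563 D206337 F402607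
def n206338 : Q := act 1 n128326
theorem D206338 : act 1 n128326 = n206338 := rfl
theorem F440318 : act 5 n206338 = n161965 := d18_9 (iv1 F271480) (iv4 F314131) (iv1 F318965) F270066 (iv5 F440214) (iv4 F440218) F394821 F394564 D206338
theorem F440319 : act 3 n184286 = n206338 := d19_19 (iv1 D206338) F364918 F351968 F351966 (iv1 D62451) (iv5 F314098) (iv4 D34799) D34798 F126092 F71199 (iv4 F71184) (iv3 F149007) (iv1 F311819) F234292 (iv4 F155724) F155723 (iv1 F75733) D87898 D184286
theorem F440320 : act 4 n173854 = n206338 := d20_6 (iv4 F401255) (iv1 D196632) D196633 F401263 (iv1 D173856) (iv3 F272491) (iv1 D206338) (iv4 F394564) (iv3 F402607) F402610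
theorem F440321 : act 6 n206338 = n194418 := d10_2 F370069 F440320 (iv4 D194418)
theorem F440322 : act 2 n161177 = n206338 := d16_9 (iv4 F440320) (iv5 D173854) F128170 D83293 F346350 (iv5 D82890) (iv4 F127661) (iv5 F324975) F324976
def n206339 : Q := act 7 n128326
theorem D206339 : act 7 n128326 = n206339 := rfl
theorem F440323 : act 3 n206339 = n203530 := d8_1 D206339 (iv7 D203530) (iv3 F364917)
theorem F440324 : act 5 n206339 = n161165 := d13_1 D206339 F254840 (iv5 F364918)
theorem F440325 : act 6 n206339 = n163046 := d14_1 D206339 F348418 (iv6 F348420) F206103 D128326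
theorem F440326 : act 1 n161177 = n206339 := d15_1 F345793 (iv7 D206339) (iv2 F364916)
def n206340 : Q := act 6 n128336
theorem D206340 : act 6 n128336 = n206340 := rfl
theorem F440327 : act 2 n206340 = n156515 := d3_1 D206340 (iv6 D156515) (iv2 F312530)
theorem F440328 : act 3 n206340 = n128342 := d7_1 D206340 (iv6 D128342) (iv3 F206454)
theorem F440329 : act 4 n206340 = n198877 := d10_1 D206340 (iv6 F409709) (iv4 F312531)
theorem F440330 : act 7 n206340 = n202053 := d14_2 (iv7 F206455) D206340 F422808 (iv7 F351422) (iv6 D175346)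
def n206341 : Q := act 5 n128342
theorem D206341 : act 5 n128342 = n206341 := rfl
theorem F440331 : act 2 n206341 = n141548 := d2_1 D206341 (iv5 F355136) (iv2 F355144)
theorem F440332 : act 6 n206341 = n128343 := d12_2 D128342 D206341 (iv5 D128343) (iv6 D60341) D60340
theorem F440333 : act 7 n206341 = n146644 := d13_2 F348842 D206341 F355129
theorem F440334 : act 4 n206341 = n146748 := d16_6 (iv4 F184025) D202991 F426543 F401710 (iv4 F361195) D206341 (iv5 F312503) (iv7 F317174) (iv2 F317196)
theorem F440335 : act 1 n206341 = n146642 := d17_6 (iv1 D107286) D107287 D196760 F401710 (iv4 F361195) D206341 F330054 F320648 F320821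
theorem F440336 : act 0 n206341 = n146643 := d21_1 D206341 (iv5 F439600) F439601 (iv1 F321313) (iv6 F330088) (iv5 D103701) (iv1 F75495) (iv5 F129568) (iv6 F313776) (iv1 F355145)
def n206342 : Q := act 0 n128365
theorem D206342 : act 0 n128365 = n206342 := rfl
theorem F440337 : act 5 n206342 = n187826 := d17_3 F430682 F430680 D206342 F371625 (iv5 F362680) (iv0 F362679) (iv5 D180499) (iv0 F351111) (iv4 F223523)
theorem F440338 : act 3 n206342 = n145349 := d20_5 F109089 (iv1 F87432) D60351 D128365 D206342 F371646 (iv1 D153625) F109176 (iv3 D72581) D72579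
theorem F440339 : act 6 n206342 = n145348 := d21_5 (iv5 D76890) D76887 D160387 (iv6 F358861) D206342 F228395 D195927 (iv5 F401345) (iv6 F401350) (iv1 D160398)
def n206343 : Q := act 1 n128365
theorem D206343 : act 1 n128365 = n206343 := rfl
def n206344 : Q := act 2 n128365
theorem D206344 : act 2 n128365 = n206344 := rfl
theorem F440340 : act 5 n206344 = n170854 := d2_2 F430680 D206344 (iv2 F430677)
theorem F440341 : act 6 n206344 = n170855 := d3_2 (iv6 F358861) D206344 (iv2 F358858)
def n206345 : Q := act 0 n128370
theorem D206345 : act 0 n128370 = n206345 := rfl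
theorem F440342 : act 4 n206345 = n203598 := d18_1 D206345 F429050 F423342 F312471 (iv4 F307980) (iv0 F348272) (iv4 F348270) (iv0 F228259) F215322
theorem F440343 : act 6 n206345 = n141362 := d21_5 F323310 F115251 F115245 D128370 D206345 F351472 F351483 F351490 (iv6 D140112) (iv1 F323753)
theorem F440344 : act 1 n141537 = n206345 := d15_0 (iv0 D206345) (iv7 F432005) F432002
theorem F440345 : act 3 n141365 = n206345 := d7_3 F440343 (iv3 D141362) D141365
def n206346 : Q := act 1 n128370
theorem D206346 : act 1 n128370 = n206346 := rfl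
theorem F440346 : act 1 n206346 = n141537 := d15_1 D206346 (iv7 F403386) F403383
def n206347 : Q := act 0 n128371
theorem D206347 : act 0 n128371 = n206347 := rfl
theorem F440347 : act 5 n206347 = n187838 := d19_1 D206347 F371667 F178594 (iv1 F83520) F83366 (iv4 D52765) F40513 D34846 F55109 (iv4 D25757) F20222 F12716 (iv5 D7966) (iv4 F12708) (iv3 F27935) D35097 (iv5 F55769) D60354 D128371
theorem F440348 : act 3 n206347 = n187839 := d20_5 (iv4 D28671) D28669 D60354 D128371 D206347 (iv4 F419845) F419846 F231698 (iv3 D128386) (iv1 D60359)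
theorem F440349 : act 1 n196317 = n206347 := d15_0 (iv0 D206347) (iv7 F427596) (iv2 F427598)
theorem F440350 : act 7 n196480 = n206347 := d8_0 F440348 F371669 (iv3 F400791)
theorem F440351 : act 6 n206347 = n204477 := d14_1 F440350 F432655 F412675 (iv7 F358694) D196480
def n206348 : Q := act 1 n128371
theorem D206348 : act 1 n128371 = n206348 := rfl
theorem F440352 : act 5 n206348 = n140390 := d18_9 F430682 F430679 (iv1 F351184) F351186 (iv5 F424748) F424752 (iv0 F427002) F427000 D206348
theorem F440353 : act 2 n196480 = n206348 := d2_3 F440352 F223522 (iv5 F400792)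
theorem F440354 : act 6 n140391 = n206348 := d12_0 F440352 (iv6 D140390) (iv5 D65893) D65894 D140391
theorem F440355 : act 0 n196317 = n206348 := d17_2 (iv1 D196316) D196317 F440352 F223523 (iv5 F216808) F349734 (iv5 D109095) D109094 (iv4 F400300)
def n206349 : Q := act 2 n128371
theorem D206349 : act 2 n128371 = n206349 := rfl
theorem F440356 : act 3 n206349 = n191966 := d0_2 D128371 D206349 F427601 (iv3 D203272) (iv2 F186224)
theorem F440357 : act 4 n206349 = n156146 := d1_2 F427000 D206349 (iv2 F427003)
theorem F440358 : act 7 n206349 = n196317 := d4_2 F427596 D206349 F427598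
theorem F440359 : act 1 n206349 = n196480 := d15_0 (iv0 F427597) F427596 D206349
theorem F440360 : act 5 n196318 = n206349 := d17_5 (iv1 D106930) (iv5 F79289) D108495 (iv5 F351303) (iv4 F400307) F440359 F400792 (iv0 F400512) (iv4 D196376)
def n206350 : Q := act 5 n128371
theorem D206350 : act 5 n128371 = n206350 := rfl
theorem F440361 : act 2 n206350 = n196318 := d2_1 D206350 F440360 (iv2 D206349)
theorem F440362 : act 3 n206350 = n128372 := d6_1 D206350 (iv5 D128372) D128371
theorem F440363 : act 7 n206350 = n134723 := d13_2 F427596 D206350 (iv5 F427594)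
theorem F440364 : act 1 n206350 = n196315 := d17_8 (iv1 F365131) F342493 F351314 (iv5 F178595) (iv4 F371667) (iv5 F440347) (iv0 D206347) D206350 F400305
theorem F440365 : act 4 n206350 = n197698 := d18_5 F345412 F362345 F427004 F427000 D206350 F405413 F351299 (iv0 D116102) D116104
theorem F440366 : act 6 n196329 = n206350 := d10_0 F440365 (iv6 F405411) (iv4 F400348)
theorem F440367 : act 1 n196316 = n206350 := d18_6 F407139 F429773 (iv1 D203778) (iv4 F398965) F398966 (iv4 F400300) F440365 F405413 D198185
def n206351 : Q := act 6 n128371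
theorem D206351 : act 6 n128371 = n206351 := rfl
theorem F440368 : act 3 n206351 = n128373 := d7_1 D206351 (iv6 D128373) D128371
theorem F440369 : act 0 n206351 = n204766 := d19_4 (iv1 F215337) F98000 (iv4 F206494) (iv3 F440368) (iv5 D204766) F198792 (iv3 F198784) D204751 F433467 F216977 (iv3 D126917) D126915 F359066 F244798 F110843 (iv1 F208513) (iv5 F318086) F306039 D130844
def n206352 : Q := act 6 n128372
theorem D206352 : act 6 n128372 = n206352 := rfl
theorem F440370 : act 3 n206352 = n196329 := d7_1 D206352 F440366 F440362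
theorem F440371 : act 4 n206352 = n154757 := d10_1 D206352 (iv6 D154757) (iv4 F206492)
theorem F440372 : act 7 n206352 = n196325 := d14_2 F350051 D206352 (iv6 D196325) F164766 D137692
def n206353 : Q := act 0 n128373
theorem D206353 : act 0 n128373 = n206353 := rfl
theorem F440373 : act 5 n206353 = n191009 := d17_1 D206353 (iv1 F402297) (iv5 D196921) (iv4 F180615) F333343 (iv0 F247989) (iv5 F206495) (iv0 D128374) (iv4 F206494)
theorem F440374 : act 4 n206353 = n131609 := d18_1 D206353 (iv1 F321224) (iv4 F381878) (iv5 D191015) (iv4 D97139) D97138 (iv4 F381353) F381351 F379010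
theorem F440375 : act 1 n190860 = n206353 := d15_0 (iv0 D206353) F379008 (iv2 F381357)
theorem F440376 : act 6 n177210 = n206353 := d21_3 F358849 F406892 F406890 (iv1 F440375) F381358 (iv5 F381491) (iv1 F381493) (iv5 F381494) (iv6 F242941) F312397
theorem F440377 : act 2 n206353 = n196861 := d3_1 F440376 (iv6 D196861) F318312
def n206354 : Q := act 1 n128373
theorem D206354 : act 1 n128373 = n206354 := rfl
theorem F440378 : act 1 n206354 = n190860 := d15_1 D206354 (iv7 F427605) F427603
theorem F440379 : act 7 n206354 = n196861 := d15_2 (iv0 D206353) D206354 (iv2 F440377)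
theorem F440380 : act 5 n206354 = n191008 := d17_7 (iv1 D190846) (iv5 D96984) (iv1 F71441) (iv5 F147359) (iv4 F379009) F379010 D206354 (iv0 F402298) F402296
theorem F440381 : act 4 n206354 = n129801 := d17_9 F314520 (iv5 F112388) (iv1 F350134) (iv5 D145492) (iv4 F366101) F381355 F381351 F379010 D206354
theorem F440382 : act 6 n205577 = n206354 := d21_3 D145385 (iv1 F351576) (iv5 F437068) (iv1 D206354) (iv6 D128373) D128372 F237669 F237667 (iv6 F331040) F331036
theorem F440383 : act 3 n206354 = n129794 := d7_1 F440382 F208144 D205577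
def n206355 : Q := act 4 n128374
theorem D206355 : act 4 n128374 = n206355 := rfl
theorem F440384 : act 2 n206355 = n175031 := d1_1 D206355 F360018 F244951
theorem F440385 : act 5 n206355 = n190852 := d9_2 (iv5 F206495) D206355 (iv4 D190852) (iv5 D96989) (iv4 F338151) (iv5 F315431) F240657 F211145 F322782 D175030 F338161 (iv5 D96984) (iv4 F319343) F104996 (iv4 F112432)
theorem F440386 : act 6 n206355 = n142747 := d10_2 (iv6 F311415) D206355 F322339
theorem F440387 : act 7 n206355 = n175029 := d11_2 F439613 D206355 (iv4 F439615)
theorem F440388 : act 0 n206355 = n175028 := d17_0 F366096 D190296 (iv5 F425479) F425478 F366104 F215341 (iv5 F439622) F439625 D206355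
theorem F440389 : act 1 n206355 = n128385 := d18_6 (iv1 F248111) (iv4 D157468) (iv1 D74919) (iv4 F112432) (iv5 F206495) D206355 F206504 D157429 (iv5 F247962)
def n206356 : Q := act 0 n128377
theorem D206356 : act 0 n128377 = n206356 := rfl
theorem F440390 : act 4 n206356 = n192283 := d18_3 F357589 F363682 D206356 F386286 (iv4 F368028) (iv0 F368031) (iv4 F357581) (iv0 D93074) D93078
theorem F440391 : act 1 n191966 = n206356 := d15_0 (iv0 D206356) (iv7 F427600) (iv2 F427601)
theorem F440392 : act 2 n194401 = n206356 := d1_3 F440390 F386289 D194401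
theorem F440393 : act 6 n198173 = n206356 := d10_0 F440390 (iv6 F386288) (iv4 F407102)
theorem F440394 : act 5 n198018 = n206356 := d17_3 F375898 F388721 F420156 F440390 F386286 F343890 (iv5 F328894) F328892 D189163
def n206357 : Q := act 1 n128377
theorem D206357 : act 1 n128377 = n206357 := rfl
theorem F440395 : act 7 n206357 = n194401 := d15_2 (iv0 D206356) D206357 F440392
theorem F440396 : act 4 n206357 = n192284 := d18_7 (iv1 D47079) F35207 D22647 (iv4 F143903) D99428 F363682 D206357 F386291 (iv5 D101055)
theorem F440397 : act 0 n191966 = n206357 := d18_2 F368590 D191966 F440396 F386293 F294029 (iv0 F375546) (iv4 D189041) (iv0 F357590) D186939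
def n206358 : Q := act 2 n128377
theorem D206358 : act 2 n128377 = n206358 := rfl
theorem F440398 : act 3 n206358 = n196317 := d0_2 D128377 D206358 F427598 (iv3 D203271) (iv2 F186219)
theorem F440399 : act 4 n206358 = n186949 := d1_2 F363682 D206358 (iv2 F368632)
theorem F440400 : act 7 n206358 = n191966 := d4_2 F427600 D206358 F427601
theorem F440401 : act 1 n194401 = n206358 := d15_1 (iv0 F427602) F440400 F427601
theorem F440402 : act 5 n196310 = n206358 := d16_7 F427599 F364320 (iv4 F153148) D101041 D192965 (iv5 F421821) F421824 F440400 F427601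
theorem F440403 : act 6 n206358 = n196313 := d12_2 D196310 F440402 (iv5 D196313) (iv6 D106889) D106888
def n206359 : Q := act 5 n128377
theorem D206359 : act 5 n128377 = n206359 := rfl
theorem F440404 : act 2 n206359 = n196310 := d2_1 D206359 F440402 (iv2 D206358)
theorem F440405 : act 3 n206359 = n128378 := d6_1 D206359 (iv5 D128378) D128377
theorem F440406 : act 4 n206359 = n193012 := d16_2 F363682 D206359 (iv5 D193012) (iv4 D101097) (iv5 D47096) (iv4 F153158) D99431 (iv7 F368630) (iv2 F368632)
theorem F440407 : act 1 n206359 = n192982 := d17_6 (iv1 D99434) (iv5 D46490) D46488 D99428 F363682 D206359 (iv5 D192982) (iv0 F385035) (iv4 D191969)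
theorem F440408 : act 6 n196305 = n206359 := d21_5 (iv5 D50269) D50266 D108857 F405994 F405993 (iv5 D206359) D206356 (iv5 F440394) (iv6 D198018) (iv1 D108867)
theorem F440409 : act 1 n193045 = n206359 := d18_6 F349165 (iv4 D101110) (iv1 D47099) D47100 D101116 D193045 F440406 F388518 F250888
def n206360 : Q := act 6 n128377
theorem D206360 : act 6 n128377 = n206360 := rfl
theorem F440410 : act 2 n206360 = n196313 := d3_1 D206360 (iv6 F440403) (iv2 D206358)
theorem F440411 : act 3 n206360 = n128379 := d7_1 D206360 (iv6 D128379) D128377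
theorem F440412 : act 4 n206360 = n137193 := d10_1 D206360 (iv6 F350288) F363682
theorem F440413 : act 5 n206360 = n196306 := d12_1 D206360 (iv6 D196306) D196305 F440408 (iv5 D206359)
theorem F440414 : act 0 n195920 = n206360 := d18_2 (iv1 F410454) F410451 F440412 (iv5 D137193) D137192 (iv0 F360533) F203709 (iv0 F360530) (iv5 F357364)
theorem F440415 : act 7 n196759 = n206360 := d8_0 F440411 (iv7 F360636) D196759
def n206361 : Q := act 5 n128381
theorem D206361 : act 5 n128381 = n206361 := rfl
theorem F440416 : act 2 n206361 = n146642 := d2_1 D206361 F330054 (iv2 F363000)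
theorem F440417 : act 3 n206361 = n137904 := d6_1 D206361 (iv5 D137904) (iv3 F363001)
theorem F440418 : act 6 n206361 = n147282 := d12_2 (iv6 F363003) D206361 F339615 F339618 (iv5 D137896)
theorem F440419 : act 7 n206361 = n146643 := d13_2 F439603 D206361 (iv5 F439600)
theorem F440420 : act 4 n206361 = n146167 := d17_4 (iv1 F243366) (iv5 F439608) (iv1 F439610) D206361 (iv5 F354088) D206304 F440160 F231003 D147459
theorem F440421 : act 1 n206361 = n146644 := d17_8 (iv1 F230099) F355127 (iv1 D117300) F316681 (iv4 F162465) F162466 D128381 D206361 F229937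
theorem F440422 : act 0 n206361 = n141548 := d18_0 F324052 F227416 F350789 F181623 (iv4 F165353) (iv0 F321264) F206498 D128381 D206361
def n206362 : Q := act 2 n128383
theorem D206362 : act 2 n128383 = n206362 := rfl
theorem F440423 : act 7 n206362 = n196446 := d4_2 F237857 D206362 (iv2 F400712)
theorem F440424 : act 1 n206362 = n196445 := d15_0 F400714 F237857 D206362
theorem F440425 : act 1 n196448 = n206362 := d15_0 F440424 (iv7 F400699) (iv2 F400708)
def n206363 : Q := act 6 n128383
theorem D206363 : act 6 n128383 = n206363 := rfl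
theorem F440426 : act 3 n206363 = n128385 := d7_1 D206363 (iv6 D128385) D128383
theorem F440427 : act 0 n206363 = n199996 := d21_4 D126162 D205496 F436710 D206363 (iv6 D199996) (iv5 D112203) (iv1 F168527) (iv5 F169076) F331105 (iv1 D126161)
theorem F440428 : act 0 n140655 = n206363 := d21_4 (iv5 F363739) (iv1 F223754) (iv5 D140654) D140655 (iv6 D206363) (iv5 F436710) (iv1 F436711) F342484 (iv6 F342483) (iv1 F363742)
def n206364 : Q := act 6 n128384
theorem D206364 : act 6 n128384 = n206364 := rfl
theorem F440429 : act 4 n206364 = n154733 := d10_1 D206364 (iv6 D154733) (iv4 F206501)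
def n206365 : Q := act 7 n128392
theorem D206365 : act 7 n128392 = n206365 := rfl
theorem F440430 : act 2 n206365 = n198286 := d4_1 D206365 F407478 F241637
theorem F440431 : act 3 n206365 = n197779 := d8_1 D206365 F405763 F355978
theorem F440432 : act 4 n206365 = n197915 := d11_1 D206365 F409181 F409178
theorem F440433 : act 5 n206365 = n197777 := d13_1 D206365 (iv7 F405747) (iv5 F355977)
theorem F440434 : act 1 n198296 = n206365 := d15_1 F407518 (iv7 D206365) (iv2 F241637)
theorem F440435 : act 1 n206365 = n198304 := d15_1 F440434 (iv7 F413288) F413286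
def n206366 : Q := act 5 n128452
theorem D206366 : act 5 n128452 = n206366 := rfl
theorem F440436 : act 3 n206366 = n128454 := d6_1 D206366 (iv5 D128454) D128452
theorem F440437 : act 4 n206366 = n148542 := d9_1 D206366 (iv5 F233313) (iv4 F419671) (iv5 F432624) (iv4 D204467) (iv5 D123846) D123845 D204465 F432613 F233305 (iv4 F419721) (iv5 F428438) F428437 F233292 (iv4 F206586)
theorem F440438 : act 6 n206366 = n149209 := d12_2 (iv6 F230344) D206366 (iv5 D149209) D149210 (iv5 F234593)
theorem F440439 : act 7 n206366 = n152682 := d13_2 F244513 D206366 (iv5 F244515)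
theorem F440440 : act 0 n206366 = n148985 := d18_0 (iv4 F314763) F314760 F108529 F130784 D73957 F244493 (iv4 F393503) F393507 D206366
def n206367 : Q := act 4 n128460
theorem D206367 : act 4 n128460 = n206367 := rfl
theorem F440441 : act 2 n206367 = n129783 := d1_1 D206367 F337863 (iv2 F355079)
theorem F440442 : act 3 n206367 = n176331 := d5_1 D206367 F340118 (iv3 D170581) (iv4 F302811) F338608
theorem F440443 : act 5 n206367 = n205864 := d9_2 D128460 D206367 F438185 (iv5 D195612) (iv4 D106071) F312058 F83664 (iv5 F83660) (iv4 F178806) F334123 F328726 (iv5 D57484) F301625 D28689 D60414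
theorem F440444 : act 6 n206367 = n197136 := d10_2 F355080 D206367 F403208
theorem F440445 : act 7 n206367 = n135333 := d11_2 (iv7 F338607) D206367 F334118
theorem F440446 : act 0 n206367 = n135281 := d17_0 (iv5 D135281) F338468 (iv5 F166378) (iv4 F403227) F403228 (iv0 F318211) F178807 F338606 D206367
theorem F440447 : act 1 n206367 = n135335 := d18_6 (iv1 F316645) (iv4 D128455) (iv1 D60413) D60414 D128460 D206367 F337851 (iv0 D78910) (iv5 F106104)
def n206368 : Q := act 4 n128487
theorem D206368 : act 4 n128487 = n206368 := rfl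
theorem F440448 : act 2 n206368 = n138051 := d1_1 D206368 (iv4 F363872) F222403
theorem F440449 : act 6 n206368 = n136661 := d10_2 (iv6 F333280) D206368 (iv4 F219810)
theorem F440450 : act 0 n206368 = n137468 := d18_2 F222357 D206368 F220672 F310062 F308050 (iv0 D54911) (iv4 F61032) (iv0 F303958) D133731
theorem F440451 : act 0 n203380 = n206368 := d20_7 F110894 (iv1 F318088) (iv4 F320248) (iv3 F212310) (iv1 D119624) (iv3 F186931) (iv4 F428109) (iv4 D206368) (iv3 D128487) (iv1 F110899)
theorem F440452 : act 5 n204114 = n206368 := d12_5 F440449 F339092 (iv6 F427134) F427136 D204114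
theorem F440453 : act 0 n204114 = n136831 := d21_7 F103147 (iv1 F100639) (iv5 D64796) D64797 (iv1 F219809) (iv6 F440449) (iv5 F440452) (iv5 D136831) (iv6 D64328) D64324
theorem F440454 : act 4 n143503 = n204114 := d16_2 (iv4 F103153) (iv5 F226218) F440452 (iv4 D206368) F222356 F222354 F101046 D67156 F103104
theorem F440455 : act 6 n204113 = n143503 := d10_0 F440454 (iv6 D204114) D204113
theorem F440456 : act 7 n204114 = n143502 := d11_2 D143503 F440454 (iv4 D143502)
def n206369 : Q := act 6 n128495
theorem D206369 : act 6 n128495 = n206369 := rfl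
theorem F440457 : act 2 n206369 = n145124 := d3_1 D206369 (iv6 D145124) (iv2 F206652)
theorem F440458 : act 3 n206369 = n145121 := d7_1 D206369 (iv6 F429249) F429247
theorem F440459 : act 5 n206369 = n203184 := d12_1 D206369 F427348 F349981 (iv6 D128496) D128495
theorem F440460 : act 7 n203244 = n206369 := d13_0 F440459 F427349 D203244
def n206370 : Q := act 1 n128501
theorem D206370 : act 1 n128501 = n206370 := rfl
theorem F440461 : act 1 n206370 = n194351 := d15_1 D206370 F392901 (iv2 F359337)
theorem F440462 : act 7 n206370 = n194352 := d15_2 (iv0 F359964) D206370 (iv2 D194352)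
theorem F440463 : act 5 n206370 = n200169 := d18_9 (iv1 D200169) (iv4 F179626) F346465 F87041 (iv5 F51354) (iv4 F105578) D147928 (iv4 F231732) D206370
theorem F440464 : act 3 n194332 = n206370 := d20_9 F231732 (iv1 D147928) F105578 (iv3 D32339) (iv1 F42787) D55245 D120063 F403692 F403690 (iv1 D206370)
theorem F440465 : act 2 n206370 = n188015 := d0_1 F440464 (iv3 D188015) F139649 D103222 D194332
theorem F440466 : act 6 n206370 = n197111 := d7_2 (iv6 F403688) F440464 (iv3 F403686)
theorem F440467 : act 4 n206370 = n155834 := d20_6 (iv4 F422977) (iv1 F422979) F360743 (iv3 F346527) (iv1 F392855) F440464 (iv1 D155834) (iv4 D74126) D74125 (iv1 F365599)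
def n206371 : Q := act 0 n128502
theorem D206371 : act 0 n128502 = n206371 := rfl
theorem F440468 : act 5 n206371 = n192729 := d17_1 D206371 (iv1 D192729) (iv5 F363665) (iv4 F219973) (iv5 F349893) F206674 (iv5 F205391) F205393 D128502
theorem F440469 : act 4 n206371 = n174562 := d18_3 D60439 D128502 D206371 F353015 (iv4 F179672) D202121 (iv4 F422957) (iv0 D128511) (iv5 D60442)
theorem F440470 : act 1 n128507 = n206371 := d15_0 (iv0 D206371) (iv7 F439684) F439681
theorem F440471 : act 7 n195891 = n206371 := d11_0 F440469 F353020 (iv4 F398616)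
def n206372 : Q := act 1 n128502
theorem D206372 : act 1 n128502 = n206372 := rfl
theorem F440472 : act 1 n206372 = n128507 := d15_1 D206372 (iv7 F346506) F346509
theorem F440473 : act 4 n206372 = n174563 := d18_7 F388847 F331264 (iv1 F347041) F347042 (iv5 D128503) D128502 D206372 (iv0 F376058) (iv5 F388845)
theorem F440474 : act 5 n206372 = n192728 := d18_9 (iv1 F388706) F388703 (iv1 F361020) D192734 (iv5 F439627) F439626 F205393 D128502 D206372
theorem F440475 : act 2 n195891 = n206372 := d2_3 F440474 (iv2 F388647) F398617
theorem F440476 : act 6 n206372 = n195887 := d21_3 F363665 D192728 (iv5 F440474) (iv1 F398613) F163607 (iv5 F78330) (iv1 F78332) D49594 D107355 F363880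
theorem F440477 : act 3 n194401 = n206372 := d7_3 F440476 (iv3 F410262) F410264
def n206373 : Q := act 4 n128510
theorem D206373 : act 4 n128510 = n206373 := rfl
theorem F440478 : act 2 n206373 = n128513 := d1_1 D206373 (iv4 D128513) (iv2 F206668)
theorem F440479 : act 7 n206373 = n159425 := d11_2 (iv7 F206670) D206373 F251057
theorem F440480 : act 0 n206373 = n159424 := d18_2 (iv1 F206672) D206373 (iv4 F251056) (iv5 F393017) F393016 F353012 F346521 F244655 F346535
theorem F440481 : act 1 n206373 = n159423 := d18_6 (iv1 F376059) F376056 F373453 F206508 D128510 D206373 (iv4 F353002) (iv0 F352786) (iv5 F353015)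
def n206374 : Q := act 0 n128513
theorem D206374 : act 0 n128513 = n206374 := rfl
theorem F440482 : act 4 n206374 = n189169 := d18_3 (iv1 D128512) D128513 D206374 F375928 (iv4 F159252) F349905 F241258 (iv0 F349895) (iv5 F349893)
theorem F440483 : act 5 n206374 = n193072 := d19_1 D206374 (iv4 D193072) F155852 (iv1 F310357) (iv5 F432276) F432275 (iv3 D196152) F164450 F83394 F83369 D52858 (iv1 F178387) (iv5 D114373) (iv4 F83382) (iv3 F83383) (iv1 F55065) (iv5 F55094) (iv4 F114305) (iv3 F206675)
theorem F440484 : act 3 n206374 = n189167 := d20_5 F314663 F114260 (iv4 F114305) (iv3 F206675) D206374 (iv4 D189167) (iv1 F352991) F352996 F222338 D139159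
theorem F440485 : act 2 n159424 = n206374 := d15_3 (iv0 D206374) (iv0 F244824) (iv7 F353023)
theorem F440486 : act 1 n159425 = n206374 := d15_0 (iv0 D206374) F206676 D159425
theorem F440487 : act 7 n206374 = n159423 := d15_2 (iv0 F251058) F440486 F353003
theorem F440488 : act 6 n206374 = n201291 := d3_2 (iv6 F386860) F440485 F419883
def n206375 : Q := act 6 n128513
theorem D206375 : act 6 n128513 = n206375 := rfl
theorem F440489 : act 3 n206375 = n159429 := d7_1 D206375 (iv6 D159429) (iv3 F206675)
theorem F440490 : act 4 n206375 = n128514 := d10_1 D206375 (iv6 D128514) D128513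
theorem F440491 : act 0 n194726 = n206375 := d18_2 F421002 (iv4 F394271) F440490 (iv5 F420961) F420960 (iv0 D188558) F352364 F352418 D201578
def n206376 : Q := act 3 n128515
theorem D206376 : act 3 n128515 = n206376 := rfl
theorem F440492 : act 5 n206376 = n201743 := d6_2 (iv5 F206678) D206376 (iv3 D201743)
theorem F440493 : act 7 n206376 = n201742 := d8_2 (iv7 F206682) D206376 (iv3 D201742)
def n206377 : Q := act 6 n128515
theorem D206377 : act 6 n128515 = n206377 := rfl
theorem F440494 : act 2 n206377 = n201451 := d3_1 D206377 F420552 F206680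
theorem F440495 : act 4 n206377 = n157740 := d10_1 D206377 F248614 (iv4 F206679)
def n206378 : Q := act 1 n128517
theorem D206378 : act 1 n128517 = n206378 := rfl
theorem F440496 : act 1 n206378 = n201827 := d15_1 D206378 (iv7 D201827) (iv2 F206685)
theorem F440497 : act 7 n206378 = n201765 := d15_2 F418099 D206378 F421726
theorem F440498 : act 5 n206378 = n206100 := d17_7 F401500 (iv5 F417080) (iv1 D200587) D200589 F417093 F417094 D206378 F439258 F418095
theorem F440499 : act 4 n206378 = n159346 := d17_9 (iv1 D159346) (iv5 F120350) D164617 (iv5 F375115) (iv4 F375116) (iv5 D146881) D146879 F417094 D206378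
theorem F440500 : act 2 n201767 = n206378 := d1_3 F440499 F250851 D201767
theorem F440501 : act 6 n201715 = n206378 := d10_0 F440499 (iv6 F250849) D201715
def n206379 : Q := act 7 n128517
theorem D206379 : act 7 n128517 = n206379 := rfl
theorem F440502 : act 2 n206379 = n201827 := d4_1 D206379 (iv7 D201827) (iv2 F206685)
theorem F440503 : act 4 n206379 = n128520 := d11_1 D206379 (iv7 D128520) (iv4 F206686)
theorem F440504 : act 5 n206379 = n200788 := d13_1 D206379 F417905 F417094
theorem F440505 : act 6 n206379 = n201816 := d14_1 D206379 (iv7 D201816) (iv6 D115076) (iv7 F94985) D128517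
theorem F440506 : act 1 n201767 = n206379 := d15_1 (iv0 F421737) (iv7 D206379) F206685
theorem F440507 : act 1 n206379 = n201765 := d15_1 F440506 (iv7 F440497) (iv2 F440500)
def n206380 : Q := act 6 n128518
theorem D206380 : act 6 n128518 = n206380 := rfl
theorem F440508 : act 2 n206380 = n201322 := d3_1 D206380 (iv6 D201322) F290533
theorem F440509 : act 5 n206380 = n133398 := d12_1 D206380 (iv6 F419763) F419762 F419578 F366043
theorem F440510 : act 0 n206380 = n189741 := d21_4 F419981 F393634 F366043 D206380 F377588 (iv5 D94407) D94405 F251137 (iv6 F251139) D201313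
def n206381 : Q := act 5 n128525
theorem D206381 : act 5 n128525 = n206381 := rfl
theorem F440511 : act 2 n206381 = n128526 := d2_1 D206381 (iv5 D128526) D128525
theorem F440512 : act 3 n206381 = n206004 := d6_1 D206381 (iv5 D206004) (iv3 F206719)
theorem F440513 : act 6 n206381 = n200011 := d12_2 (iv6 F352922) D206381 (iv5 D200011) (iv6 D112242) (iv5 F344536)
theorem F440514 : act 7 n206381 = n137490 := d13_2 (iv7 F206721) D206381 (iv5 D137490)
theorem F440515 : act 0 n206381 = n137493 := d17_2 (iv1 F206722) D206381 F220894 (iv4 F438479) F438477 F386018 F157832 F153754 F333095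
theorem F440516 : act 1 n206381 = n137492 := d17_6 D63926 (iv5 F220886) (iv1 F218908) (iv5 D136036) (iv4 F206720) D206381 F220898 (iv0 D135938) F99425
def n206382 : Q := act 4 n128526
theorem D206382 : act 4 n128526 = n206382 := rfl
theorem F440517 : act 3 n206382 = n137494 := d5_1 D206382 (iv4 D137494) F100548 (iv4 F94999) (iv3 F206724)
theorem F440518 : act 7 n206382 = n137494 := d11_2 (iv7 F206725) D206382 (iv4 D137494)
def n206383 : Q := act 7 n128528
theorem D206383 : act 7 n128528 = n206383 := rfl
theorem F440519 : act 3 n206383 = n199960 := d8_1 D206383 F414358 F408646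
theorem F440520 : act 4 n206383 = n137503 := d11_1 D206383 (iv7 D137503) (iv4 F206728)
theorem F440521 : act 5 n206383 = n199959 := d13_1 D206383 F414354 F408645
theorem F440522 : act 6 n206383 = n137503 := d14_1 D206383 (iv7 D137503) (iv6 D64630) (iv7 F94998) D128528
def n206384 : Q := act 6 n128531
theorem D206384 : act 6 n128531 = n206384 := rfl
theorem F440523 : act 2 n206384 = n163047 := d3_1 D206384 F366319 F206738
theorem F440524 : act 3 n206384 = n193515 := d7_1 D206384 (iv6 F390143) F225282
theorem F440525 : act 4 n206384 = n163043 := d10_1 D206384 (iv6 F438014) F438013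
theorem F440526 : act 5 n206384 = n194635 := d12_1 D206384 (iv6 D194635) D194634 F393894 F339724
theorem F440527 : act 7 n206384 = n193470 := d14_2 F206739 D206384 F389960 F331333 F355415
theorem F440528 : act 0 n206384 = n193471 := d21_4 F134944 D181933 F339724 D206384 F389970 (iv5 F379202) (iv1 F379203) F378779 (iv6 D144547) F331271
theorem F440529 : act 1 n206384 = n192110 := d15_1 (iv0 F440528) F385601 D193471
def n206385 : Q := act 5 n128532
theorem D206385 : act 5 n128532 = n206385 := rfl
theorem F440530 : act 2 n206385 = n128533 := d2_1 D206385 (iv5 D128533) D128532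
theorem F440531 : act 3 n206385 = n137490 := d6_1 D206385 (iv5 D137490) (iv3 F206733)
theorem F440532 : act 6 n206385 = n190623 := d12_2 (iv6 F363716) D206385 F380342 (iv6 D190052) F363715
theorem F440533 : act 7 n206385 = n206004 := d13_2 (iv7 F206735) D206385 (iv5 D206004)
theorem F440534 : act 0 n206385 = n206007 := d17_2 (iv1 F206736) D206385 F438810 (iv4 F437959) F437960 F212648 (iv5 F392724) F392726 F204410
theorem F440535 : act 1 n206385 = n144546 := d17_6 D135992 (iv5 F333077) F438055 (iv5 D205833) (iv4 F206734) D206385 (iv5 D144546) (iv0 F103779) F100356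
theorem F440536 : act 4 n191133 = n206385 := d11_3 F440533 (iv4 F438798) (iv7 F382350)
def n206386 : Q := act 1 n128533
theorem D206386 : act 1 n128533 = n206386 := rfl
theorem F440537 : act 1 n206386 = n206004 := d15_1 D206386 (iv7 F440533) F440530
theorem F440538 : act 7 n206386 = n206007 := d15_2 (iv0 F425918) D206386 (iv2 F438811)
theorem F440539 : act 5 n206386 = n136733 := d17_7 (iv1 F218791) D136760 (iv1 F333080) (iv5 D126653) (iv4 F95004) D128533 D206386 F220246 F220239
theorem F440540 : act 2 n144546 = n206386 := d2_3 F440539 (iv2 F220245) D144546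
theorem F440541 : act 6 n185609 = n206386 := d21_5 F293574 (iv1 F61357) D41275 D88413 D185609 F440539 (iv1 D136733) (iv5 F331259) (iv6 D45500) D45497
def n206387 : Q := act 4 n128533
theorem D206387 : act 4 n128533 = n206387 := rfl
theorem F440542 : act 2 n206387 = n191133 := d1_1 D206387 F440536 F440530
theorem F440543 : act 3 n206387 = n196196 := d5_1 D206387 F399829 F204189 F95030 (iv3 F206742)
theorem F440544 : act 6 n206387 = n163475 := d10_2 (iv6 F339722) D206387 (iv4 F361102)
theorem F440545 : act 7 n206387 = n196196 := d11_2 (iv7 F206743) D206387 F399829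
theorem F440546 : act 1 n206387 = n205396 := d18_8 F382720 (iv4 F436157) F436158 F435549 D205237 F435557 (iv0 F425918) D206387 (iv5 D205396)
theorem F440547 : act 1 n191164 = n206387 := d15_1 (iv0 F382453) F440545 F399828
def n206388 : Q := act 1 n128535
theorem D206388 : act 1 n128535 = n206388 := rfl
theorem F440548 : act 1 n206388 = n137503 := d15_1 D206388 (iv7 D137503) (iv2 F206746)
theorem F440549 : act 7 n206388 = n137500 := d15_2 (iv0 F365051) D206388 (iv2 F365071)
theorem F440550 : act 5 n206388 = n190591 := d17_7 (iv1 F120363) (iv5 F176778) (iv1 F177005) D201024 (iv4 F439464) F439465 D206388 F380246 F336923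
theorem F440551 : act 2 n137501 = n206388 := d2_3 F440550 F380242 F365074
theorem F440552 : act 4 n199155 = n206388 := d18_3 (iv1 F378457) (iv4 F397253) (iv1 F410919) F440550 F380243 F177949 (iv4 F261858) F342957 (iv5 F355232)
def n206389 : Q := act 3 n128540
theorem D206389 : act 3 n128540 = n206389 := rfl
theorem F440553 : act 2 n206389 = n196334 := d0_1 D206389 (iv3 D196334) (iv2 D106904) D106905 (iv2 F206768)
theorem F440554 : act 4 n206389 = n139284 := d5_2 D128540 D206389 (iv3 D139284) (iv4 F206753) (iv3 D128539)
theorem F440555 : act 5 n206389 = n201434 := d6_2 F340035 D206389 (iv3 D201434)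
theorem F440556 : act 6 n206389 = n192509 := d7_2 F340041 D206389 (iv3 F400229)
theorem F440557 : act 7 n206389 = n196345 := d8_2 F225051 D206389 F400415
theorem F440558 : act 0 n206389 = n196299 := d19_4 (iv1 F331565) F331511 D128540 D206389 (iv5 F400281) F388643 (iv3 F388476) (iv1 F425027) (iv5 D202673) F181238 (iv3 D107281) (iv1 D49569) (iv5 F37961) (iv4 F78419) (iv3 D49653) (iv1 F37949) D31377 F49641 (iv3 F103354)
theorem F440559 : act 0 n196344 = n206389 := d20_4 D141851 F345485 D202290 F423499 (iv3 D206389) (iv4 D128540) (iv1 F103310) F103308 (iv3 F180854) (iv1 F180857)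
def n206390 : Q := act 6 n128545
theorem D206390 : act 6 n128545 = n206390 := rfl
theorem F440560 : act 3 n206390 = n196343 := d7_1 D206390 (iv6 D196343) (iv3 F206761)
theorem F440561 : act 4 n206390 = n128547 := d10_1 D206390 (iv6 D128547) D128545
theorem F440562 : act 7 n206390 = n196698 := d14_2 F206763 D206390 (iv6 D196698) (iv7 F172187) (iv6 F340042)
theorem F440563 : act 0 n206390 = n193234 := d21_4 D140731 F340036 F340033 D206390 (iv6 F401256) F401253 F202241 F165316 (iv6 F339975) (iv1 D140729)
def n206391 : Q := act 1 n128547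
theorem D206391 : act 1 n128547 = n206391 := rfl
theorem F440564 : act 1 n206391 = n206054 := d15_1 D206391 F439027 F226627
theorem F440565 : act 7 n206391 = n206055 := d15_2 (iv0 F392747) D206391 (iv2 D206055)
theorem F440566 : act 3 n206058 = n206391 := d20_3 (iv4 F157406) D193887 (iv4 F439040) (iv1 D206391) (iv3 F378661) (iv4 F411193) (iv1 F411196) (iv4 D194531) (iv3 F353158) (iv1 D102494)
theorem F440567 : act 4 n141961 = n206391 := d20_6 (iv4 F401668) (iv1 F401671) (iv4 F389284) F389283 (iv1 F360084) (iv3 F360082) (iv1 D206391) (iv4 F440561) F440560 F400407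
theorem F440568 : act 2 n206391 = n137507 := d1_1 F440567 F220701 D141961
theorem F440569 : act 6 n206391 = n200245 := d10_2 F360086 F440567 F415692
def n206392 : Q := act 4 n128553
theorem D206392 : act 4 n128553 = n206392 := rfl
theorem F440570 : act 3 n206392 = n137086 := d5_1 D206392 (iv4 D137086) F100362 (iv4 F95014) D128553
theorem F440571 : act 7 n206392 = n137086 := d11_2 (iv7 F206773) D206392 (iv4 D137086)
def n206393 : Q := act 6 n128557
theorem D206393 : act 6 n128557 = n206393 := rfl
theorem F440572 : act 4 n206393 = n200375 := d10_1 D206393 (iv6 D200375) F340022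
def n206394 : Q := act 3 n128558
theorem D206394 : act 3 n128558 = n206394 := rfl
theorem F440573 : act 0 n196098 = n206394 := d20_4 F176079 (iv1 D106682) D106683 (iv3 F399394) (iv3 D206394) (iv4 F365011) (iv1 D113042) (iv4 F331489) F331488 D113026
theorem F440574 : act 5 n206394 = n190492 := d17_1 F440573 (iv1 D190492) (iv5 F150156) (iv4 F349645) (iv5 D132045) F164210 D196066 (iv0 F399278) D196098
theorem F440575 : act 4 n206394 = n132082 := d18_3 F349639 D196098 F440573 F359028 (iv4 D134986) (iv0 D63438) (iv4 F77845) D106613 F349640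
theorem F440576 : act 6 n132081 = n206394 := d10_0 F440575 (iv6 D132082) D132081
def n206395 : Q := act 5 n128558
theorem D206395 : act 5 n128558 = n206395 := rfl
theorem F440577 : act 3 n206395 = n190492 := d6_1 D206395 (iv5 F440574) (iv3 D206394)
theorem F440578 : act 4 n206395 = n189428 := d17_4 (iv1 F175977) (iv5 F206812) (iv1 F206814) D206395 (iv5 F376588) F248610 F248608 F214524 F351263
theorem F440579 : act 0 n206395 = n186225 := d21_1 D206395 (iv5 F382640) (iv6 D191222) (iv1 F365034) (iv6 F415689) F415688 F357650 D112889 (iv6 F365013) (iv1 F206814)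
def n206396 : Q := act 6 n128558
theorem D206396 : act 6 n128558 = n206396 := rfl
theorem F440580 : act 3 n206396 = n132081 := d7_1 D206396 F440576 (iv3 D206394)
theorem F440581 : act 4 n206396 = n200377 := d10_1 D206396 (iv6 D200377) F365011
def n206397 : Q := act 4 n128560
theorem D206397 : act 4 n128560 = n206397 := rfl
theorem F440582 : act 2 n206397 = n200381 := d1_1 D206397 F416218 (iv2 F224183)
theorem F440583 : act 3 n206397 = n137515 := d5_1 D206397 (iv4 F333092) F333091 D136144 F224171
theorem F440584 : act 6 n206397 = n193954 := d10_2 F330559 D206397 F391504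
theorem F440585 : act 7 n206397 = n192208 := d11_2 (iv7 F224181) D206397 F386002
theorem F440586 : act 0 n206397 = n202306 := d20_1 D206397 (iv4 D202306) (iv3 D115580) (iv1 D53315) (iv3 D25843) D25844 F40837 D28717 D60466 D128560
theorem F440587 : act 0 n199153 = n206397 := d20_10 (iv4 D206397) (iv1 F206778) (iv4 F182822) F182821 (iv1 F103312) D128544 (iv4 F206757) (iv1 F180293) F172091 D199153
def n206398 : Q := act 6 n128561
theorem D206398 : act 6 n128561 = n206398 := rfl
theorem F440588 : act 2 n206398 = n192204 := d3_1 D206398 F385987 F224182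
theorem F440589 : act 3 n206398 = n202227 := d7_1 D206398 (iv6 D202227) (iv3 F330558)
theorem F440590 : act 4 n206398 = n149231 := d10_1 D206398 (iv6 F438985) F438984
theorem F440591 : act 5 n206398 = n149142 := d12_1 D206398 F338052 (iv5 F422320) F422321 F330557
theorem F440592 : act 7 n206398 = n193889 := d14_2 F224184 D206398 F391303 (iv7 D116585) (iv6 F330556)
theorem F440593 : act 1 n193888 = n206398 := d15_1 D193888 F440592 (iv2 D193889)
theorem F440594 : act 0 n193887 = n206398 := d18_2 (iv1 F439041) F439040 F440590 (iv5 D149231) (iv4 F199515) (iv0 D124707) D124709 (iv0 F234431) (iv5 F408119)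
def n206399 : Q := act 5 n128562
theorem D206399 : act 5 n128562 = n206399 := rfl
theorem F440595 : act 2 n206399 = n128563 := d2_1 D206399 (iv5 D128563) D128562
theorem F440596 : act 3 n206399 = n202071 := d6_1 D206399 F422825 (iv3 F206779)
theorem F440597 : act 4 n206399 = n200422 := d9_1 D206399 F416363 (iv4 F414208) (iv5 F425545) (iv4 D202777) (iv5 D116964) F85002 (iv5 F179635) F336195 (iv5 F215920) F215919 D198467 F408116 (iv5 D128573) (iv4 F206780)
theorem F440598 : act 7 n206399 = n137057 := d13_2 (iv7 F206782) D206399 (iv5 F336217)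
theorem F440599 : act 1 n206399 = n197428 := d17_6 D116978 F226839 (iv1 F365092) (iv5 D128573) (iv4 F206780) D206399 (iv5 F404258) (iv0 D115320) (iv4 F85021)
theorem F440600 : act 0 n206399 = n197431 := d18_0 (iv4 D197431) (iv1 D108153) (iv4 F167242) F401414 (iv4 F401743) (iv0 F416219) F416218 F206785 D206399
def n206400 : Q := act 0 n128563
theorem D206400 : act 0 n128563 = n206400 := rfl
theorem F440601 : act 5 n206400 = n144070 := d17_1 D206400 (iv1 F226783) (iv5 F423188) D202208 F423251 F396803 (iv5 F416360) F416356 F397344
theorem F440602 : act 4 n206400 = n197246 := d18_1 D206400 (iv1 D197246) F166977 (iv5 F351405) D202306 (iv0 F440586) (iv4 D206397) (iv0 D128560) D128563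
theorem F440603 : act 3 n206400 = n202617 := d20_5 (iv4 F82580) F82581 (iv4 F95026) (iv3 F206786) D206400 (iv4 D202617) (iv1 F407686) F407683 (iv3 D113191) F82607
theorem F440604 : act 1 n137057 = n206400 := d15_0 (iv0 D206400) F206787 F336194
theorem F440605 : act 2 n197431 = n206400 := d1_3 F440602 (iv2 F404244) D197431
theorem F440606 : act 7 n197428 = n206400 := d11_0 F440602 (iv7 F404247) D197428
def n206401 : Q := act 1 n128563
theorem D206401 : act 1 n128563 = n206401 := rfl
theorem F440607 : act 1 n206401 = n137057 := d15_1 D206401 (iv7 F440598) F440595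
theorem F440608 : act 7 n206401 = n197431 := d15_2 (iv0 D206400) D206401 F440605
theorem F440609 : act 5 n206401 = n144071 := d17_7 (iv1 F182869) (iv5 F365103) (iv1 D128575) (iv5 D60473) (iv4 F95021) D128563 D206401 F226788 (iv4 F182865)
theorem F440610 : act 4 n206401 = n197245 := d17_9 (iv1 F403719) F167243 (iv1 F396695) (iv5 F423163) F423162 F330555 (iv0 D128560) D128563 D206401
theorem F440611 : act 3 n130955 = n206401 := d19_19 (iv1 D206401) (iv5 D128563) F95021 (iv3 D28719) D28718 D60468 F95030 (iv3 F206742) F425918 (iv5 D202862) F366244 F212651 (iv1 F320390) (iv5 F322084) (iv4 D53575) (iv3 F102011) F179285 F179282 D130955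
theorem F440612 : act 6 n206401 = n202429 := d7_2 (iv6 F209565) F440611 (iv3 D202429)
theorem F440613 : act 2 n197428 = n206401 := d1_3 F440610 F404245 D197428
def n206402 : Q := act 0 n128564
theorem D206402 : act 0 n128564 = n206402 := rfl
theorem F440614 : act 4 n206402 = n161882 := d18_1 D206402 (iv1 F357063) F180040 (iv5 F111533) (iv4 F245580) F404302 (iv4 F415919) (iv0 D200305) (iv5 F206790)
theorem F440615 : act 2 n152796 = n206402 := d15_3 (iv0 D206402) (iv0 F425955) F425954
theorem F440616 : act 1 n202073 = n206402 := d15_0 (iv0 D206402) (iv7 F415917) (iv2 F422830)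
theorem F440617 : act 7 n206402 = n202072 := d15_2 (iv0 F425956) F440616 (iv2 F425958)
theorem F440618 : act 6 n206402 = n152794 := d3_2 D152796 F440615 (iv2 D152794)
def n206403 : Q := act 0 n128565
theorem D206403 : act 0 n128565 = n206403 := rfl
theorem F440619 : act 4 n206403 = n164623 := d18_3 (iv1 D206388) (iv4 F206792) D206403 (iv5 D164623) F120357 D79102 (iv4 F336918) F380245 (iv5 F440550)
theorem F440620 : act 6 n206403 = n190262 := d21_5 (iv5 D28720) D28718 D60468 D128565 D206403 (iv5 F379231) (iv1 F379232) (iv5 D137094) (iv6 D64443) F48773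
theorem F440621 : act 2 n206047 = n206403 := d3_3 F440620 F379229 (iv6 F438995)
theorem F440622 : act 7 n206049 = n206403 := d15_2 F438996 (iv0 F439002) (iv2 F440621)
def n206404 : Q := act 1 n128565
theorem D206404 : act 1 n128565 = n206404 := rfl
theorem F440623 : act 1 n206404 = n206383 := d15_1 D206404 (iv7 D206383) (iv2 F206791)
theorem F440624 : act 7 n206404 = n206047 := d15_2 (iv0 D206403) D206404 F440621
theorem F440625 : act 4 n206404 = n190353 := d18_7 (iv1 F439020) (iv4 D201879) F418788 (iv4 F439464) F439465 (iv4 F206792) D206404 F379532 (iv5 F439018)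
theorem F440626 : act 6 n200241 = n206404 := d21_3 (iv5 F405865) (iv1 F214409) (iv5 F415675) (iv1 D206404) (iv6 D128565) (iv5 D60468) (iv1 F46322) D31349 (iv6 F331485) D113041
theorem F440627 : act 2 n206404 = n206049 := d3_1 F440626 (iv6 F439003) F415676
theorem F440628 : act 1 n206383 = n206403 := d15_1 F440623 (iv7 F440622) (iv2 F440627)
def n206405 : Q := act 5 n128565
theorem D206405 : act 5 n128565 = n206405 := rfl
theorem F440629 : act 2 n206405 = n198635 := d2_1 D206405 F408645 (iv2 F206791)
theorem F440630 : act 3 n206405 = n189875 := d6_1 D206405 (iv5 F399826) F399824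
theorem F440631 : act 4 n206405 = n205158 := d9_1 D206405 F435216 F402684 D201022 (iv4 F439446) (iv5 F439448) (iv4 F440520) F440521 F414353 (iv5 F402693) F402692 D201024 (iv4 F439464) F439465 (iv4 F206792)
theorem F440632 : act 6 n206405 = n128566 := d12_2 D128565 D206405 (iv5 D128566) (iv6 D60469) D60468
theorem F440633 : act 7 n206405 = n206144 := d16_8 F414353 (iv5 F402693) F402692 D201024 (iv4 F439464) F439465 (iv4 F206792) D206405 F439451
theorem F440634 : act 0 n206405 = n128885 := d18_0 (iv4 D128885) D128883 F362266 D194991 (iv4 F395329) F378456 (iv4 F440619) (iv0 D206403) D206405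
theorem F440635 : act 0 n189836 = n206405 := d19_0 (iv5 D206405) F206792 (iv3 F339723) (iv1 D183256) (iv5 D87473) (iv4 F134288) F313208 F105826 (iv5 D66858) F49506 (iv3 F50332) D68726 F199958 F305191 (iv3 D124977) F155142 D73614 D155086 (iv3 F377932)
def n206406 : Q := act 7 n128565
theorem D206406 : act 7 n128565 = n206406 := rfl
theorem F440636 : act 2 n206406 = n206383 := d4_1 D206406 (iv7 D206383) (iv2 F206791)
theorem F440637 : act 3 n206406 = n132107 := d8_1 D206406 (iv7 F399825) F399824
theorem F440638 : act 4 n206406 = n206146 := d11_1 D206406 F439459 (iv4 F206792)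
theorem F440639 : act 5 n206406 = n206144 := d13_1 D206406 (iv7 F440633) (iv5 D206405)
theorem F440640 : act 6 n206406 = n206146 := d14_1 D206406 F439459 (iv6 D128535) (iv7 F95031) D128565
theorem F440641 : act 1 n206049 = n206406 := d15_1 (iv0 F439002) (iv7 D206406) F206791
theorem F440642 : act 1 n206406 = n206047 := d15_1 F440641 (iv7 F440624) F440627
def n206407 : Q := act 0 n128576
theorem D206407 : act 0 n128576 = n206407 := rfl
theorem F440643 : act 4 n206407 = n189963 := d18_1 D206407 (iv1 F423572) (iv4 F410105) F392705 F361837 (iv0 F396692) F396689 (iv0 F397316) F336220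
theorem F440644 : act 1 n200282 = n206407 := d15_0 (iv0 D206407) (iv7 F425544) F425541
theorem F440645 : act 6 n189962 = n206407 := d10_0 F440643 (iv6 D189963) D189962
theorem F440646 : act 3 n206407 = n137493 := d19_3 F392459 F392455 (iv4 F440643) (iv1 D137493) (iv5 D64628) F48847 (iv3 D14449) (iv1 F24084) (iv5 F48749) (iv4 F100065) (iv3 F165430) F336046 F336043 (iv4 F400383) F400381 (iv1 F182479) (iv5 F180735) F175340 D144006
def n206408 : Q := act 1 n128576
theorem D206408 : act 1 n128576 = n206408 := rfl
theorem F440647 : act 1 n206408 = n200282 := d15_1 D206408 F415819 F408113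
theorem F440648 : act 5 n206408 = n199130 := d17_7 (iv1 F226827) (iv5 F416360) (iv1 D200421) (iv5 F219383) F219382 F336220 D206408 (iv0 F425892) F425889
theorem F440649 : act 4 n206408 = n158906 := d18_7 F438988 F438984 (iv1 D128561) F95021 D60473 D128576 D206408 (iv0 F382466) (iv5 F423571)
theorem F440650 : act 3 n191321 = n206408 := d19_19 (iv1 D206408) (iv5 F336220) (iv4 F219382) (iv3 F397313) (iv1 F397315) D202200 F423219 F386244 F329315 (iv5 F350790) (iv4 F350726) (iv3 F350727) (iv1 F182175) F225356 (iv4 F422190) F422191 F181537 (iv5 F333383) (iv4 F383033)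
theorem F440651 : act 6 n198647 = n199130 := d21_5 (iv5 D25095) D25092 (iv5 F79984) D109727 D198647 (iv5 F440648) (iv1 D206408) (iv5 F336220) (iv6 D112019) (iv1 D51661)
theorem F440652 : act 3 n199131 = n198647 := d7_3 F440651 (iv3 D199130) D199131
theorem F440653 : act 4 n200204 = n198647 := d10_3 F440651 F410798 (iv6 F415501)
theorem F440654 : act 6 n206408 = n158905 := d7_2 D191321 F440650 F250197
def n206409 : Q := act 3 n128580
theorem D206409 : act 3 n128580 = n206409 := rfl
theorem F440655 : act 7 n206409 = n206394 := d8_2 (iv7 F415171) D206409 (iv3 D206394)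
theorem F440656 : act 0 n132135 = n206409 := d20_4 (iv4 D159503) F114399 D94267 (iv3 F211659) (iv3 D206409) (iv4 F365012) (iv1 D112891) D112892 (iv3 F176084) (iv1 F251189)
def n206410 : Q := act 5 n128580
theorem D206410 : act 5 n128580 = n206410 := rfl
theorem F440657 : act 2 n206410 = n200353 := d2_1 D206410 (iv5 F416112) F415176
theorem F440658 : act 7 n206410 = n206395 := d13_2 (iv7 F415171) D206410 (iv5 D206395)
def n206411 : Q := act 6 n128580
theorem D206411 : act 6 n128580 = n206411 := rfl
theorem F440659 : act 2 n206411 = n206393 := d3_1 D206411 (iv6 D206393) F415176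
theorem F440660 : act 4 n206411 = n200254 := d10_1 D206411 (iv6 D200254) F365012
def n206412 : Q := act 3 n128581
theorem D206412 : act 3 n128581 = n206412 := rfl
theorem F440661 : act 7 n206412 = n200354 := d8_2 F415174 D206412 F416114
theorem F440662 : act 0 n206412 = n196130 := d19_4 D133352 (iv5 F351307) F340029 D206412 (iv5 D196130) (iv4 D106683) F77916 F37653 (iv5 D11773) (iv4 D5512) F3639 F2569 F3897 (iv4 F9049) (iv3 F18564) F19050 (iv5 F27058) (iv4 F47513) D62590
theorem F440663 : act 5 n158069 = n206412 := d17_1 F371616 F440662 (iv5 D196130) (iv4 D106683) (iv5 D49293) (iv0 F65523) D43882 (iv0 F139486) D187823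
theorem F440664 : act 6 n158098 = n206412 := d21_3 (iv5 D164126) F258666 D158098 F440662 F399541 F340520 (iv1 F206722) D206381 F440513 F414617
theorem F440665 : act 2 n206412 = n191716 := d3_1 F440664 F384244 F276087
def n206413 : Q := act 5 n128581
theorem D206413 : act 5 n128581 = n206413 := rfl
theorem F440666 : act 2 n206413 = n206395 := d2_1 D206413 (iv5 D206395) (iv2 F415175)
theorem F440667 : act 3 n206413 = n158069 := d6_1 D206413 F440663 (iv3 D206412)
theorem F440668 : act 7 n206413 = n200353 := d13_2 F415174 D206413 (iv5 F416112)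
theorem F440669 : act 6 n206413 = n158068 := d21_9 (iv5 D191354) (iv1 F288744) (iv5 F415854) (iv6 D200292) F331482 (iv6 F331487) (iv5 F331504) F331501 D206413 (iv1 F415855)
def n206414 : Q := act 6 n128581
theorem D206414 : act 6 n128581 = n206414 := rfl
theorem F440670 : act 2 n206414 = n206396 := d3_1 D206414 (iv6 D206396) (iv2 F415175)
theorem F440671 : act 3 n206414 = n158098 := d7_1 D206414 F440664 (iv3 D206412)
theorem F440672 : act 4 n206414 = n200252 := d10_1 D206414 (iv6 D200252) F340029
theorem F440673 : act 5 n206414 = n158095 := d12_1 D206414 (iv6 D158095) (iv5 F249014) (iv6 F440669) (iv5 D206413)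
theorem F440674 : act 0 n191223 = n206414 := d18_2 (iv1 F381340) (iv4 F382642) F440672 (iv5 F415713) F336923 (iv0 D79101) (iv4 F120357) F347579 D95931
def n206415 : Q := act 0 n128583
theorem D206415 : act 0 n128583 = n206415 := rfl
theorem F440675 : act 5 n206415 = n128639 := d17_1 D206415 (iv1 F207301) F207299 F206915 F164248 F164260 (iv5 F399122) (iv0 D196030) (iv4 F206816)
theorem F440676 : act 3 n206415 = n195106 := d20_5 (iv4 D28723) (iv1 F46326) D60476 D128583 D206415 F395793 (iv1 D129124) (iv4 F343582) F343581 F78156
theorem F440677 : act 2 n128673 = n206415 := d15_3 (iv0 D206415) (iv0 F347586) (iv7 F343530)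
theorem F440678 : act 1 n128674 = n206415 := d15_0 (iv0 D206415) F206817 D128674
theorem F440679 : act 7 n206415 = n128672 := d15_2 (iv0 F358260) F440678 (iv2 F343531)
theorem F440680 : act 4 n206415 = n205596 := d18_7 F382577 (iv4 D191206) F293086 F348728 (iv5 F348756) F211172 F440678 (iv0 D205596) F352535
def n206416 : Q := act 3 n128585
theorem D206416 : act 3 n128585 = n206416 := rfl
theorem F440681 : act 7 n206416 = n128767 := d8_2 (iv7 F214642) D206416 (iv3 D128767)
theorem F440682 : act 4 n206416 = n201832 := d20_6 (iv4 D60476) (iv1 D28721) D28722 D60478 D128585 D206416 (iv1 D201832) F179206 (iv3 D106808) (iv1 F95049)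
theorem F440683 : act 0 n206416 = n200783 := d20_1 (iv4 F440682) F421759 F421757 (iv1 D201032) F366213 (iv4 D134172) (iv1 F215987) (iv4 F421957) F421956 (iv1 F421973)
theorem F440684 : act 6 n132152 = n206416 := d21_3 (iv5 D61997) D61995 D132152 F440683 (iv6 D200783) F357994 (iv1 F161402) (iv5 F176701) F358249 (iv1 D132158)
def n206417 : Q := act 6 n128585
theorem D206417 : act 6 n128585 = n206417 := rfl
theorem F440685 : act 2 n206417 = n128775 := d3_1 D206417 (iv6 D128775) (iv2 F214641)
theorem F440686 : act 3 n206417 = n132152 := d7_1 D206417 F440684 (iv3 D206416)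
theorem F440687 : act 4 n206417 = n200989 := d10_1 D206417 (iv6 D200989) F347576
theorem F440688 : act 0 n206417 = n201680 := d21_4 D60614 D128883 F362262 D206417 (iv6 D201680) F384035 (iv1 F396101) (iv5 D195175) F342950 (iv1 D60612)
theorem F440689 : act 5 n206417 = n132151 := d21_6 (iv5 F435943) (iv1 D205325) (iv5 F364822) F202307 D128585 D206417 F396544 F396543 D206080 (iv1 F439168)
theorem F440690 : act 0 n200766 = n206417 := d21_4 F391724 (iv1 F417840) (iv5 D200765) D200766 (iv6 D206417) (iv5 F362262) (iv1 F362265) (iv5 F362252) (iv6 F418132) (iv1 F418134)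
def n206418 : Q := act 5 n128587
theorem D206418 : act 5 n128587 = n206418 := rfl
theorem F440691 : act 2 n206418 = n128588 := d2_1 D206418 (iv5 D128588) D128587
theorem F440692 : act 3 n206418 = n128719 := d6_1 D206418 (iv5 D128719) (iv3 F206821)
theorem F440693 : act 7 n206418 = n128776 := d13_2 (iv7 F206822) D206418 (iv5 D128776)
theorem F440694 : act 0 n206418 = n128779 := d17_2 (iv1 F206823) D206418 F342951 (iv4 F332637) F163312 F177945 F177942 F176941 F343528
theorem F440695 : act 1 n206418 = n128778 := d17_6 (iv1 F333235) F193503 (iv1 F120365) (iv5 F177007) (iv4 F336929) D206418 F355245 (iv0 D60611) (iv4 F83920)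
def n206419 : Q := act 1 n128588
theorem D206419 : act 1 n128588 = n206419 := rfl
theorem F440696 : act 1 n206419 = n128776 := d15_1 D206419 (iv7 F440693) F440691
theorem F440697 : act 7 n206419 = n128779 := d15_2 F419189 D206419 (iv2 F419186)
theorem F440698 : act 5 n206419 = n128598 := d17_7 F347545 F333511 (iv1 F120363) (iv5 F176778) F328472 D128588 D206419 F206845 (iv4 F347549)
theorem F440699 : act 3 n130229 = n206419 := d20_3 (iv4 F222182) F433310 F433307 (iv1 D206419) F206826 (iv4 F95105) (iv1 D60501) (iv4 F46435) (iv3 F95263) (iv1 F207268)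
theorem F440700 : act 2 n128778 = n206419 := d2_3 F440698 F207735 (iv5 F355245)
def n206420 : Q := act 4 n128588
theorem D206420 : act 4 n128588 = n206420 := rfl
theorem F440701 : act 7 n206420 = n128780 := d11_2 (iv7 F206827) D206420 (iv4 D128780)
theorem F440702 : act 5 n206420 = n206403 := d16_1 D206420 F440619 (iv5 D164623) F120357 (iv5 F82946) (iv4 F328852) D128776 (iv7 F440693) F440691
theorem F440703 : act 0 n206420 = n158095 := d18_2 (iv1 D206419) D206420 (iv4 F280646) (iv5 F347553) F177315 (iv0 F333503) (iv4 F95064) D128598 (iv5 F440698)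
def n206421 : Q := act 3 n128591
theorem D206421 : act 3 n128591 = n206421 := rfl
theorem F440704 : act 7 n206421 = n128715 := d8_2 (iv7 F339371) D206421 (iv3 D128715)
theorem F440705 : act 0 n206421 = n205588 := d20_10 F437121 (iv1 F349605) (iv4 F435804) F435803 F211919 F418057 F418056 (iv1 F380088) F217104 D206421
def n206422 : Q := act 6 n128591
theorem D206422 : act 6 n128591 = n206422 := rfl
theorem F440706 : act 2 n206422 = n128713 := d3_1 D206422 (iv6 D128713) (iv2 F339369)
def n206423 : Q := act 5 n128592
theorem D206423 : act 5 n128592 = n206423 := rfl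
theorem F440707 : act 2 n206423 = n128593 := d2_1 D206423 (iv5 D128593) D128592
theorem F440708 : act 3 n206423 = n128776 := d6_1 D206423 (iv5 D128776) (iv3 F206830)
theorem F440709 : act 4 n206423 = n186860 := d9_1 D206423 (iv5 D186860) F137014 D89320 F354757 (iv5 D128660) F95124 D60535 D128723 F354758 F273362 (iv5 F367983) F367984 (iv5 F404655) F404654
theorem F440710 : act 6 n206423 = n177451 := d12_2 F345755 D206423 F357893 F165159 D107171
theorem F440711 : act 7 n206423 = n128719 := d13_2 (iv7 F206831) D206423 (iv5 D128719)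
theorem F440712 : act 0 n206423 = n128722 := d17_2 (iv1 F206832) D206423 F332809 D128833 (iv5 F367990) (iv0 F367991) D189156 F375873 (iv4 D128711)
theorem F440713 : act 1 n206423 = n128721 := d17_6 D128810 (iv5 F354759) (iv1 F357791) (iv5 F404655) F404654 D206423 F333040 (iv0 D60587) (iv4 F95195)
def n206424 : Q := act 6 n128593
theorem D206424 : act 6 n128593 = n206424 := rfl
theorem F440714 : act 2 n206424 = n177451 := d3_1 D206424 (iv6 F440710) F440707
theorem F440715 : act 3 n206424 = n128595 := d7_1 D206424 (iv6 D128595) (iv3 F206835)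
theorem F440716 : act 5 n206424 = n196643 := d12_1 D206424 F401307 F345757 (iv6 D128594) D128593
theorem F440717 : act 7 n206424 = n177450 := d14_2 (iv7 F206836) D206424 (iv6 F417625) F417626 (iv6 D128724)
theorem F440718 : act 0 n206424 = n177449 := d21_4 (iv5 F339370) (iv1 D128591) D128593 D206424 (iv6 F383874) (iv5 D191572) (iv1 D98559) D98561 (iv6 F361721) (iv1 F345381)
theorem F440719 : act 1 n206424 = n177454 := d15_1 (iv0 F440718) (iv7 D177454) (iv2 F276867)
def n206425 : Q := act 4 n128600
theorem D206425 : act 4 n128600 = n206425 := rfl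
theorem F440720 : act 2 n206425 = n189836 := d1_1 D206425 F377933 (iv2 F362251)
theorem F440721 : act 3 n206425 = n194794 := d5_1 D206425 F394499 F206902 F95087 (iv3 F206847)
theorem F440722 : act 6 n206425 = n188719 := d10_2 F362267 D206425 (iv4 F374554)
theorem F440723 : act 7 n206425 = n128885 := d11_2 (iv7 F206848) D206425 (iv4 D128885)
theorem F440724 : act 5 n206425 = n191223 := d16_1 D206425 F382642 F439012 F439010 (iv5 D201113) F347549 D128881 (iv7 F362249) (iv2 F362251)
theorem F440725 : act 0 n206425 = n198635 := d18_2 (iv1 F362254) D206425 F408644 (iv5 F349556) F402689 (iv0 D113605) (iv4 F328466) D60563 D128774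
theorem F440726 : act 1 n206425 = n206144 := d18_6 F417216 F207170 (iv1 D115121) (iv4 F95064) D128600 D206425 F439453 (iv0 F395630) (iv5 F417215)
def n206426 : Q := act 7 n128602
theorem D206426 : act 7 n128602 = n206426 := rfl
theorem F440727 : act 2 n206426 = n128853 := d4_1 D206426 (iv7 D128853) (iv2 F206851)
theorem F440728 : act 3 n206426 = n189833 := d8_1 D206426 F377916 (iv3 F362268)
theorem F440729 : act 4 n206426 = n205518 := d11_1 D206426 F436802 F206906
theorem F440730 : act 5 n206426 = n172542 := d13_1 D206426 (iv7 F377916) F377919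
theorem F440731 : act 6 n206426 = n128894 := d14_1 D206426 (iv7 D128894) (iv6 D60616) (iv7 F95067) D128602
theorem F440732 : act 1 n128851 = n206426 := d15_1 D128851 (iv7 D206426) F206851
theorem F440733 : act 1 n206426 = n128850 := d15_1 F440732 F362301 (iv2 F392619)
def n206427 : Q := act 5 n128604
theorem D206427 : act 5 n128604 = n206427 := rfl
theorem F440734 : act 2 n206427 = n128857 := d2_1 D206427 (iv5 D128857) F206860
theorem F440735 : act 3 n206427 = n205262 := d6_1 D206427 F435656 F418940
theorem F440736 : act 6 n206427 = n205260 := d12_2 (iv6 F395738) D206427 F435646 F399165 F399161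
theorem F440737 : act 7 n206427 = n128855 := d13_2 (iv7 F206858) D206427 (iv5 D128855)
theorem F440738 : act 4 n206427 = n190637 := d18_5 (iv1 F206895) F206892 (iv1 F168150) (iv4 F206859) D206427 F394553 (iv4 F418482) F418486 F358208
def n206428 : Q := act 1 n128605
theorem D206428 : act 1 n128605 = n206428 := rfl
theorem F440739 : act 1 n206428 = n128862 := d15_1 D206428 (iv7 D128862) (iv2 F206861)
theorem F440740 : act 7 n206428 = n128859 := d15_2 F214452 D206428 (iv2 F214449)
theorem F440741 : act 5 n206428 = n131820 := d17_7 F96416 F96412 (iv1 D31371) (iv5 F46341) (iv4 F95069) D128605 D206428 F211236 (iv4 D129185)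
theorem F440742 : act 4 n206428 = n194891 := d17_9 (iv1 F394893) F381684 (iv1 D190954) (iv5 F160249) (iv4 F394534) (iv5 F394536) (iv0 D128603) D128605 D206428
theorem F440743 : act 2 n128860 = n206428 := d1_3 F440742 (iv2 D194891) F363902
def n206429 : Q := act 3 n128607
theorem D206429 : act 3 n128607 = n206429 := rfl
theorem F440744 : act 2 n206429 = n205551 := d0_1 D206429 F436961 F260879 F341952 (iv2 F206867)
theorem F440745 : act 4 n206429 = n195785 := d5_2 D128607 D206429 F398166 (iv4 D106592) (iv3 F168068)
theorem F440746 : act 5 n206429 = n205269 := d6_2 (iv5 F358187) D206429 F435687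
theorem F440747 : act 6 n206429 = n195784 := d7_2 F436067 D206429 (iv3 F436064)
theorem F440748 : act 7 n206429 = n128863 := d8_2 (iv7 F206868) D206429 (iv3 D128863)
theorem F440749 : act 0 n206429 = n128630 := d19_4 F165794 F103320 D128607 D206429 (iv5 F358321) (iv4 F280376) (iv3 D179996) (iv1 F131956) D86116 D180290 (iv3 F344930) (iv1 D130156) (iv5 F320828) (iv4 F301728) (iv3 D57554) D57552 D123487 F344449 F217032
def n206430 : Q := act 4 n128609
theorem D206430 : act 4 n128609 = n206430 := rfl
theorem F440750 : act 2 n206430 = n128953 := d1_1 D206430 (iv4 D128953) (iv2 F355008)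
theorem F440751 : act 6 n206430 = n138065 := d10_2 F396140 D206430 (iv4 F396136)
theorem F440752 : act 7 n206430 = n128948 := d11_2 (iv7 F355009) D206430 (iv4 D128948)
theorem F440753 : act 5 n206430 = n173698 := d16_1 D206430 (iv4 D173698) (iv5 D83070) F323696 (iv5 D78582) (iv4 F119741) (iv5 F354995) F354997 (iv2 F355008)
theorem F440754 : act 0 n206430 = n134372 := d17_0 (iv5 F347342) (iv1 D124715) (iv5 F339695) F347318 (iv5 F437084) (iv0 F437086) (iv5 D128956) F206877 D206430
theorem F440755 : act 1 n206430 = n130213 := d18_8 (iv1 F199540) (iv4 F206331) (iv1 F336898) (iv4 F349799) (iv5 F349804) F168766 F206877 D206430 (iv5 F342762)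
def n206431 : Q := act 5 n128609
theorem D206431 : act 5 n128609 = n206431 := rfl
theorem F440756 : act 2 n206431 = n128954 := d2_1 D206431 (iv5 D128954) (iv2 F355008)
theorem F440757 : act 6 n206431 = n165785 := d12_2 F396140 D206431 F358997 F439145 F439144
theorem F440758 : act 7 n206431 = n128949 := d13_2 (iv7 F355009) D206431 (iv5 D128949)
theorem F440759 : act 4 n206431 = n163523 := d16_4 D173698 (iv5 F440753) (iv4 D206430) D206431 F322743 F129154 D84150 (iv7 F362093) F362090
theorem F440760 : act 0 n206431 = n129054 := d17_2 D128609 D206431 F207291 (iv4 F215997) (iv5 F368231) F368233 F349806 (iv0 D63054) (iv4 F95078)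
theorem F440761 : act 1 n206431 = n128644 := d17_6 (iv1 D95429) (iv5 F147024) (iv1 F360620) (iv5 F440753) (iv4 D206430) D206431 F206934 D134079 F347326
def n206432 : Q := act 4 n128610
theorem D206432 : act 4 n128610 = n206432 := rfl
theorem F440762 : act 2 n206432 = n128948 := d1_1 D206432 (iv4 D128948) (iv2 F354993)
theorem F440763 : act 3 n206432 = n134045 := d5_1 D206432 F218207 F333486 (iv4 D163484) (iv3 F354994)
theorem F440764 : act 5 n206432 = n176475 := d9_2 (iv5 F354995) D206432 (iv4 D176475) (iv5 D84150) (iv4 F129154) (iv5 F322743) (iv4 F440759) (iv5 D206431) D206430 F440753 (iv4 D173698) (iv5 D83070) F323696 (iv5 D78582) (iv4 F119741)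
theorem F440765 : act 6 n206432 = n182392 := d10_2 (iv6 F354996) D206432 F363958
theorem F440766 : act 7 n206432 = n128953 := d11_2 (iv7 F354997) D206432 (iv4 D128953)
theorem F440767 : act 0 n206432 = n130213 := d18_2 (iv1 F206882) D206432 F208735 D130233 (iv4 F342761) (iv0 F342758) (iv4 F437083) (iv0 F437086) (iv5 D128956)
theorem F440768 : act 1 n206432 = n134372 := d18_8 (iv1 D124715) (iv4 F199534) F336888 (iv4 D134232) (iv5 D63057) (iv4 F95078) D128610 D206432 (iv5 F347342)
def n206433 : Q := act 5 n128611
theorem D206433 : act 5 n128611 = n206433 := rfl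
theorem F440769 : act 2 n206433 = n128612 := d2_1 D206433 (iv5 D128612) D128611
theorem F440770 : act 3 n206433 = n128920 := d6_1 D206433 (iv5 D128920) (iv3 F206878)
theorem F440771 : act 4 n206433 = n176472 := d9_1 D206433 (iv5 D176472) (iv4 D84147) D84148 F339647 (iv5 F329776) F79602 D60644 D128960 F318045 F113291 D83355 (iv4 F347340) (iv5 F329918) (iv4 F206879)
theorem F440772 : act 7 n206433 = n128956 := d13_2 (iv7 F206880) D206433 (iv5 D128956)
theorem F440773 : act 0 n206433 = n128959 := d17_2 (iv1 F206881) D206433 (iv5 F336396) F347326 (iv5 F345949) F199542 D153986 F349812 (iv4 D128948)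
theorem F440774 : act 1 n206433 = n128958 := d17_6 D63002 (iv5 F336393) D73060 (iv5 F329918) (iv4 F206879) D206433 (iv5 F349819) (iv0 D134078) F98275
theorem F440775 : act 6 n206433 = n203943 := d21_3 (iv5 D128949) (iv1 F206881) D206433 (iv1 D203943) F194213 D177560 F395574 F395572 (iv6 D129056) (iv1 F339684)
def n206434 : Q := act 6 n128611
theorem D206434 : act 6 n128611 = n206434 := rfl
theorem F440776 : act 2 n206434 = n128613 := d3_1 D206434 (iv6 D128613) D128611
theorem F440777 : act 3 n206434 = n128921 := d7_1 D206434 (iv6 D128921) (iv3 F206878)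
theorem F440778 : act 4 n206434 = n134229 := d10_1 D206434 (iv6 D134229) (iv4 F206879)
theorem F440779 : act 7 n206434 = n195013 := d14_2 (iv7 F206880) D206434 F417169 F417166 (iv6 D128957)
theorem F440780 : act 0 n206434 = n183498 := d21_4 F349819 (iv1 F440774) (iv5 D206433) D206434 (iv6 D183498) (iv5 F294527) F70018 D75162 (iv6 F328765) D134078
theorem F440781 : act 0 n205225 = n206434 := d21_4 D195957 (iv1 F435815) (iv5 F435499) (iv6 F435506) (iv6 D206434) D206433 F440773 (iv5 F336396) F397957 F397958
def n206435 : Q := act 0 n128612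
theorem D206435 : act 0 n128612 = n206435 := rfl
theorem F440782 : act 5 n206435 = n128761 := d17_3 (iv1 D128610) D128612 D206435 (iv4 F347325) F345951 F199540 F342762 (iv0 F440767) (iv4 D206432)
theorem F440783 : act 3 n206435 = n205158 := d20_5 F95217 F95148 (iv4 F95082) (iv3 F206884) D206435 (iv4 F440631) F440634 (iv4 D128885) F95225 (iv1 F95214)
theorem F440784 : act 2 n128959 = n206435 := d15_3 (iv0 D206435) F437087 F437085
theorem F440785 : act 1 n128956 = n206435 := d15_0 (iv0 D206435) F206885 (iv2 F207173)
theorem F440786 : act 7 n206435 = n128958 := d15_2 (iv0 F437086) F440785 (iv2 F437081)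
theorem F440787 : act 6 n205157 = n206435 := d14_5 F440786 (iv6 F349820) F231448 F358198 (iv7 F435212)
def n206436 : Q := act 4 n128612
theorem D206436 : act 4 n128612 = n206436 := rfl
theorem F440788 : act 2 n206436 = n176472 := d1_1 D206436 (iv4 F440771) F440769
theorem F440789 : act 3 n206436 = n158334 := d5_1 D206436 (iv4 F332677) F202132 (iv4 F95082) (iv3 F206884)
theorem F440790 : act 5 n206436 = n158321 := d9_2 D128612 D206436 F249449 D173694 (iv4 F349799) (iv5 F349804) F168766 D128956 F355013 F355015 F188733 (iv5 F336891) (iv4 D134232) (iv5 D63057) (iv4 F95078)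
theorem F440791 : act 7 n206436 = n128960 := d11_2 (iv7 F206885) D206436 (iv4 D128960)
theorem F440792 : act 0 n206436 = n192661 := d17_0 (iv5 D192661) F316727 F343512 F339655 (iv5 F329121) F216092 (iv5 F440782) (iv0 D206435) D206436
theorem F440793 : act 1 n206436 = n131467 := d18_6 F216266 (iv4 D134225) (iv1 D63055) (iv4 F95078) D128612 D206436 F359772 D200732 F417690
def n206437 : Q := act 1 n128613
theorem D206437 : act 1 n128613 = n206437 := rfl
theorem F440794 : act 1 n206437 = n195013 := d15_1 D206437 (iv7 F440779) F440776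
theorem F440795 : act 7 n206437 = n183498 := d15_2 (iv0 F364716) D206437 (iv2 F367161)
theorem F440796 : act 2 n205225 = n206437 := d4_3 F440795 (iv2 F367161) F435508
theorem F440797 : act 3 n195750 = n206437 := d8_3 F440795 (iv3 F395406) (iv7 F398047)
theorem F440798 : act 4 n183501 = n206437 := d11_3 F440795 F285244 D183501
theorem F440799 : act 5 n205148 = n206437 := d13_3 F440795 F331161 (iv7 F435162)
theorem F440800 : act 6 n195748 = n206437 := d14_5 F440795 (iv6 D183498) F293626 D169921 (iv7 F398040)
def n206438 : Q := act 5 n128613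
theorem D206438 : act 5 n128613 = n206438 := rfl
theorem F440801 : act 3 n206438 = n128615 := d6_1 D206438 (iv5 D128615) (iv3 F206886)
def n206439 : Q := act 7 n128613
theorem D206439 : act 7 n128613 = n206439 := rfl
theorem F440802 : act 2 n206439 = n195013 := d4_1 D206439 (iv7 F440779) F440776
theorem F440803 : act 3 n206439 = n128616 := d8_1 D206439 (iv7 D128616) (iv3 F206886)
theorem F440804 : act 4 n206439 = n134237 := d11_1 D206439 (iv7 D134237) (iv4 F206887)
theorem F440805 : act 6 n206439 = n128965 := d14_1 D206439 (iv7 D128965) (iv6 D60645) (iv7 F95079) D128613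
theorem F440806 : act 1 n205225 = n206439 := d15_1 (iv0 F440781) (iv7 D206439) (iv2 F440776)
theorem F440807 : act 1 n206439 = n183498 := d15_1 F440806 (iv7 F440795) (iv2 F440796)
def n206440 : Q := act 7 n128614
theorem D206440 : act 7 n128614 = n206440 := rfl
theorem F440808 : act 2 n206440 = n128941 := d4_1 D206440 (iv7 D128941) (iv2 F206888)
theorem F440809 : act 3 n206440 = n203942 := d8_1 D206440 (iv7 F430511) F364829
theorem F440810 : act 4 n206440 = n205256 := d11_1 D206440 (iv7 D205256) (iv4 F206889)
theorem F440811 : act 5 n206440 = n194936 := d13_1 D206440 F395086 F377777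
theorem F440812 : act 6 n206440 = n128969 := d14_1 D206440 (iv7 D128969) (iv6 D60646) (iv7 F95081) D128614
theorem F440813 : act 1 n128939 = n206440 := d15_1 D128939 (iv7 D206440) F206888
theorem F440814 : act 1 n206440 = n128938 := d15_1 F440813 (iv7 F377944) F377943
def n206441 : Q := act 1 n128615
theorem D206441 : act 1 n128615 = n206441 := rfl
theorem F440815 : act 1 n206441 = n128945 := d15_1 D206441 (iv7 D128945) (iv2 F206890)
theorem F440816 : act 7 n206441 = n128942 := d15_2 F207415 D206441 (iv2 F207412)
theorem F440817 : act 5 n206441 = n131804 := d17_7 (iv1 F164289) F97624 (iv1 F82450) (iv5 F82452) (iv4 F95084) D128615 D206441 (iv0 F358162) F358165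
theorem F440818 : act 6 n177423 = n206441 := d21_3 (iv5 F436896) (iv1 D205537) (iv5 F358235) (iv1 D206441) F377775 F377777 (iv1 F417560) F417559 (iv6 F418479) (iv1 F418480)
theorem F440819 : act 2 n206441 = n128943 := d3_1 F440818 F341768 D177423
theorem F440820 : act 3 n206441 = n205543 := d7_1 F440818 F436922 F358237
def n206442 : Q := act 7 n128615
theorem D206442 : act 7 n128615 = n206442 := rfl
theorem F440821 : act 2 n206442 = n128945 := d4_1 D206442 (iv7 D128945) (iv2 F206890)
theorem F440822 : act 4 n206442 = n194876 := d11_1 D206442 F394888 F392608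
theorem F440823 : act 5 n206442 = n128616 := d13_1 D206442 (iv7 D128616) D128615
theorem F440824 : act 6 n206442 = n200775 := d14_1 D206442 (iv7 F435922) (iv6 F435926) F395086 (iv6 F377775)
theorem F440825 : act 1 n128943 = n206442 := d15_1 D128943 (iv7 D206442) F206890
theorem F440826 : act 1 n206442 = n128942 := d15_1 F440825 (iv7 F440816) F440819
def n206443 : Q := act 3 n128617
theorem D206443 : act 3 n128617 = n206443 := rfl
theorem F440827 : act 2 n206443 = n129004 := d0_1 D206443 F418152 (iv2 F418154) (iv3 D128915) (iv2 F403290)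
theorem F440828 : act 6 n206443 = n196070 := d7_2 (iv6 F403291) D206443 (iv3 D196070)
theorem F440829 : act 7 n206443 = n128910 := d8_2 (iv7 F403292) D206443 (iv3 D128910)
theorem F440830 : act 4 n206443 = n128811 := d20_6 F46414 (iv1 F37712) (iv4 F46348) D60492 D128617 D206443 (iv1 D128811) F95195 (iv3 D28772) D28771
theorem F440831 : act 5 n191813 = n206443 := d16_1 D191813 F440830 F354667 (iv4 D98950) (iv5 D46295) D46294 D98945 F272699 (iv2 F272708)
theorem F440832 : act 1 n128978 = n206443 := d17_8 (iv1 D128811) F324645 (iv1 F143655) D188183 (iv4 F416981) (iv5 D200564) F327546 (iv5 F347404) F440830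
theorem F440833 : act 0 n129006 = n206443 := d18_0 F440830 (iv1 D128811) F95195 D60590 F321880 D158332 (iv4 F327544) F416977 F416973
theorem F440834 : act 5 n191645 = n131936 := d21_6 F418053 (iv1 F384522) F440831 F440828 (iv1 F399300) (iv6 F384057) F367309 D195172 F396087 D200821
def n206444 : Q := act 4 n128617
theorem D206444 : act 4 n128617 = n206444 := rfl
theorem F440835 : act 2 n206444 = n128916 := d1_1 D206444 (iv4 D128916) (iv2 F403290)
theorem F440836 : act 6 n206444 = n196071 := d10_2 (iv6 F403291) D206444 (iv4 D196071)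
theorem F440837 : act 7 n206444 = n128911 := d11_2 (iv7 F403292) D206444 (iv4 D128911)
def n206445 : Q := act 5 n128617
theorem D206445 : act 5 n128617 = n206445 := rfl
theorem F440838 : act 2 n206445 = n128917 := d2_1 D206445 (iv5 D128917) (iv2 F403290)
theorem F440839 : act 3 n206445 = n191813 := d6_1 D206445 F440831 (iv3 D206443)
theorem F440840 : act 6 n206445 = n194161 := d12_2 (iv6 F403291) D206445 F392225 F399313 (iv5 D196072)
theorem F440841 : act 7 n206445 = n128912 := d13_2 (iv7 F403292) D206445 (iv5 D128912)
theorem F440842 : act 4 n206445 = n194162 := d17_4 F362934 (iv5 D128620) D128617 D206445 (iv5 F416466) (iv0 F416467) (iv5 F393451) (iv0 F393452) (iv4 F202196)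
theorem F440843 : act 0 n128646 = n206445 := d21_1 (iv5 F206938) (iv5 D206445) F403291 (iv1 F164229) (iv6 F325491) (iv5 D106804) F329384 D113945 (iv6 F395750) (iv1 F400026)
theorem F440844 : act 1 n129045 = n206445 := d15_0 (iv0 F440843) F206939 D129045
def n206446 : Q := act 4 n128618
theorem D206446 : act 4 n128618 = n206446 := rfl
theorem F440845 : act 2 n206446 = n128911 := d1_1 D206446 (iv4 D128911) (iv2 F403293)
theorem F440846 : act 7 n206446 = n128916 := d11_2 (iv7 F403294) D206446 (iv4 D128916)
theorem F440847 : act 3 n206446 = n132522 := d20_3 (iv4 D128919) (iv1 F206900) D206446 (iv1 F212699) F208153 F95529 (iv1 F47192) D62209 D132587 (iv1 F212822)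
def n206447 : Q := act 5 n128618
theorem D206447 : act 5 n128618 = n206447 := rfl
theorem F440848 : act 2 n206447 = n128912 := d2_1 D206447 (iv5 D128912) (iv2 F403293)
theorem F440849 : act 3 n206447 = n195044 := d6_1 D206447 (iv5 F418143) F418147
theorem F440850 : act 6 n206447 = n195043 := d12_2 (iv6 F418107) D206447 F395554 (iv6 F391703) D200835
theorem F440851 : act 7 n206447 = n128917 := d13_2 (iv7 F403294) D206447 (iv5 D128917)
theorem F440852 : act 0 n206447 = n128646 := d17_2 (iv1 F206900) D206447 F206938 (iv4 F179206) F343927 F421783 (iv5 F421782) F396495 (iv4 D128919)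
theorem F440853 : act 0 n129045 = n206447 := d21_10 (iv5 D206447) (iv1 D128618) D128620 F394497 (iv1 F394713) F394716 (iv5 F355898) F355895 D170246 (iv6 F362769)
theorem F440854 : act 4 n206447 = n198512 := d20_8 (iv4 F409421) F409420 F395823 (iv3 F413839) F414178 (iv3 F425880) F425881 F440853 F408179 F220399
def n206448 : Q := act 6 n128619
theorem D206448 : act 6 n128619 = n206448 := rfl
theorem F440855 : act 2 n206448 = n128621 := d3_1 D206448 (iv6 D128621) D128619
theorem F440856 : act 3 n206448 = n128957 := d7_1 D206448 (iv6 D128957) (iv3 F206897)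
theorem F440857 : act 7 n206448 = n191663 := d14_2 (iv7 F206898) D206448 F417421 F417420 (iv6 D128921)
theorem F440858 : act 0 n206448 = n191664 := d21_4 F400021 (iv1 F395739) (iv5 F395745) D206448 F397687 (iv5 F402673) (iv1 F417085) (iv5 F417086) (iv6 D196243) D196241
theorem F440859 : act 0 n186723 = n206448 := d21_4 F419156 (iv1 F211689) (iv5 F362882) (iv6 F367798) (iv6 D206448) F395745 (iv1 D195095) D195096 F395750 D201119
def n206449 : Q := act 1 n128621
theorem D206449 : act 1 n128621 = n206449 := rfl
theorem F440860 : act 1 n206449 = n191663 := d15_1 D206449 (iv7 F440857) F440855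
theorem F440861 : act 7 n206449 = n191664 := d15_2 (iv0 F365710) D206449 (iv2 D191664)
theorem F440862 : act 2 n186723 = n206449 := d4_3 F440861 (iv2 D191664) (iv7 F367790)
theorem F440863 : act 3 n191642 = n206449 := d8_3 F440861 (iv3 F397689) (iv7 F397691)
theorem F440864 : act 6 n196236 = n206449 := d14_5 F440861 F397687 (iv7 F397900) (iv6 F397908) F400008
def n206450 : Q := act 7 n128621
theorem D206450 : act 7 n128621 = n206450 := rfl
theorem F440865 : act 2 n206450 = n191663 := d4_1 D206450 (iv7 F440857) F440855
theorem F440866 : act 3 n206450 = n128624 := d8_1 D206450 (iv7 D128624) (iv3 F206904)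
theorem F440867 : act 5 n206450 = n200612 := d13_1 D206450 F417207 F383995
theorem F440868 : act 6 n206450 = n128933 := d14_1 D206450 (iv7 D128933) (iv6 D60633) (iv7 F95085) D128621
theorem F440869 : act 1 n186723 = n206450 := d15_1 (iv0 F440859) (iv7 D206450) (iv2 F440855)
theorem F440870 : act 1 n206450 = n191664 := d15_1 F440869 (iv7 F440861) (iv2 F440862)
def n206451 : Q := act 6 n128625
theorem D206451 : act 6 n128625 = n206451 := rfl
theorem F440871 : act 2 n206451 = n128643 := d3_1 D206451 (iv6 D128643) F206913
theorem F440872 : act 3 n206451 = n128975 := d7_1 D206451 (iv6 D128975) (iv3 F206914)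
theorem F440873 : act 4 n206451 = n195790 := d10_1 D206451 F398187 (iv4 F206915)
theorem F440874 : act 5 n206451 = n196224 := d12_1 D206451 (iv6 F439326) F439325 (iv6 F418275) F207299
theorem F440875 : act 7 n206451 = n195790 := d14_2 (iv7 F206916) D206451 F398187 F164249 (iv6 F95093)
theorem F440876 : act 0 n206451 = n195792 := d21_4 F440675 (iv1 F207301) F207299 D206451 F398196 F203035 (iv1 F349598) F349573 F211351 D206415
theorem F440877 : act 0 n195789 = n206451 := d21_4 (iv5 D59185) (iv1 F93266) (iv5 F163296) D195789 (iv6 D206451) (iv5 F207299) (iv1 F207303) (iv5 F358256) (iv6 D145459) (iv1 F170958)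
def n206452 : Q := act 6 n128626
theorem D206452 : act 6 n128626 = n206452 := rfl
theorem F440878 : act 2 n206452 = n128630 := d3_1 D206452 (iv6 D128630) D128626
theorem F440879 : act 3 n206452 = n205568 := d7_1 D206452 F437022 (iv3 F419244)
theorem F440880 : act 4 n206452 = n196220 := d10_1 D206452 (iv6 D196220) (iv4 F358351)
theorem F440881 : act 0 n205551 = n206452 := d21_4 F437115 (iv1 F436109) F436107 D205551 (iv6 D206452) (iv5 F417771) (iv1 F417774) F207157 (iv6 F211351) (iv1 F437118)
theorem F440882 : act 1 n128863 = n206452 := d15_0 (iv0 F440881) F436964 F434007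
def n206453 : Q := act 0 n128628
theorem D206453 : act 0 n128628 = n206453 := rfl
theorem F440883 : act 4 n206453 = n205255 := d18_1 D206453 F435627 F399349 (iv5 F382563) F382565 (iv0 D181905) (iv4 F257754) (iv0 F357664) (iv5 F358317)
theorem F440884 : act 3 n206453 = n134986 := d20_5 D132013 (iv1 F399853) (iv4 D196201) F358318 D206453 (iv4 D134986) (iv1 F328744) (iv4 F328937) (iv3 F164230) (iv1 F164234)
theorem F440885 : act 2 n196063 = n206453 := d15_3 (iv0 D206453) (iv0 F211631) (iv7 F399261)
theorem F440886 : act 7 n206453 = n196219 := d4_2 (iv7 F399261) F440885 F399952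
theorem F440887 : act 1 n128633 = n206453 := d15_1 F358357 F440886 F399952
def n206454 : Q := act 7 n128628
theorem D206454 : act 7 n128628 = n206454 := rfl
theorem F440888 : act 2 n206454 = n128633 := d4_1 D206454 (iv7 F358353) F358352
theorem F440889 : act 3 n206454 = n196202 := d8_1 D206454 (iv7 D196202) F358318
theorem F440890 : act 4 n206454 = n128631 := d11_1 D206454 (iv7 D128631) D128628
theorem F440891 : act 5 n206454 = n191206 := d13_1 D206454 F382575 (iv5 F358317)
theorem F440892 : act 6 n206454 = n182510 := d14_1 D206454 F395387 (iv6 F395385) (iv7 F211652) F358319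
theorem F440893 : act 1 n196219 = n206454 := d15_1 D196219 (iv7 D206454) (iv2 F358352)
theorem F440894 : act 1 n206454 = n196063 := d15_1 F440893 F399261 (iv2 F399952)
def n206455 : Q := act 7 n128630
theorem D206455 : act 7 n128630 = n206455 := rfl
theorem F440895 : act 4 n206455 = n129042 := d11_1 D206455 (iv7 F211652) (iv4 F358320)
theorem F440896 : act 5 n206455 = n180255 := d13_1 D206455 (iv7 F358322) F358321
theorem F440897 : act 1 n205551 = n206455 := d15_1 (iv0 F440881) (iv7 D206455) (iv2 F440878)
theorem F440898 : act 1 n206455 = n128863 := d15_1 F440897 (iv7 F440748) F440744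
theorem F440899 : act 6 n205547 = n206455 := d12_0 F440896 F355012 (iv5 D128956) D128957 (iv5 F436942)
def n206456 : Q := act 6 n128631
theorem D206456 : act 6 n128631 = n206456 := rfl
theorem F440900 : act 2 n206456 = n128635 := d3_1 D206456 (iv6 D128635) (iv2 F206919)
theorem F440901 : act 3 n206456 = n191640 := d7_1 D206456 F384036 F358329
theorem F440902 : act 4 n206456 = n182510 := d10_1 D206456 (iv6 F440892) F440890
theorem F440903 : act 5 n206456 = n200605 := d12_1 D206456 (iv6 F417169) F436363 (iv6 D205427) (iv5 F358328)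
theorem F440904 : act 7 n206456 = n205547 := d14_2 D128631 D206456 F440899 (iv7 D206455) (iv6 D128630)
theorem F440905 : act 0 n206456 = n195788 := d21_4 (iv5 F207157) (iv1 F348765) (iv5 F358328) D206456 (iv6 D195788) F170286 (iv1 D68196) D68198 D145459 F347586
theorem F440906 : act 1 n206456 = n128907 := d15_1 (iv0 F440905) (iv7 F360391) (iv2 F398176)
def n206457 : Q := act 5 n128633
theorem D206457 : act 5 n128633 = n206457 := rfl
theorem F440907 : act 2 n206457 = n191206 := d2_1 D206457 (iv5 F440891) F440888
theorem F440908 : act 3 n206457 = n190772 := d6_1 D206457 F380993 F358356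
theorem F440909 : act 4 n206457 = n185643 := d9_1 D206457 (iv5 F358269) (iv4 F400582) F400581 (iv4 F176708) F358330 D128628 F358317 F348084 (iv5 F358248) D200308 F415933 (iv4 F407329) (iv5 D128634) D128633
theorem F440910 : act 6 n206457 = n191208 := d12_2 (iv6 F395381) D206457 F382583 (iv6 F380696) (iv5 F395377)
theorem F440911 : act 7 n206457 = n191096 := d13_2 F358353 D206457 F382207
theorem F440912 : act 0 n206457 = n191213 := d21_7 (iv5 D113313) D113311 (iv5 F395398) (iv6 D195008) D195005 (iv6 F395381) D206457 (iv5 F399134) F399135 F389568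
theorem F440913 : act 0 n163473 = n206457 := d21_7 (iv5 F380475) (iv1 F380480) (iv5 F380133) F417895 (iv1 F417893) D205479 F436616 (iv5 D206457) F395381 (iv1 F395378)
def n206458 : Q := act 6 n128634
theorem D206458 : act 6 n128634 = n206458 := rfl
theorem F440914 : act 2 n206458 = n205427 := d3_1 D206458 (iv6 D205427) F358324
theorem F440915 : act 3 n206458 = n206442 := d7_1 D206458 F440824 F418790
theorem F440916 : act 5 n206458 = n206439 := d12_1 D206458 F440805 F342947 (iv6 D128635) D128634
theorem F440917 : act 0 n206458 = n200691 := d21_4 F207299 (iv1 F206917) D128634 D206458 F417512 (iv5 D113349) D113347 F406044 (iv6 F358265) (iv1 F207301)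
theorem F440918 : act 7 n206438 = n206458 := d13_0 F440916 (iv7 D206439) D206438
def n206459 : Q := act 1 n128635
theorem D206459 : act 1 n128635 = n206459 := rfl
theorem F440919 : act 1 n206459 = n205547 := d15_1 D206459 (iv7 F440904) F440900
theorem F440920 : act 7 n206459 = n195788 := d15_2 (iv0 F360392) D206459 F398176
theorem F440921 : act 5 n206459 = n196112 := d17_7 (iv1 F332722) (iv5 F386131) (iv1 F386133) D194676 (iv4 F394054) F342947 D206459 F399462 (iv4 D182776)
theorem F440922 : act 4 n206459 = n196092 := d17_9 (iv1 D196092) D196093 F399376 (iv5 F417205) F417204 (iv5 F417174) F417177 F342947 D206459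
theorem F440923 : act 3 n129015 = n206459 := d20_3 F418084 (iv1 F333898) (iv4 F361229) (iv1 D206459) F342946 (iv4 D113691) (iv1 D52493) (iv4 F82758) (iv3 F176698) D200828
theorem F440924 : act 2 n206459 = n128907 := d0_1 F440923 (iv3 D128907) F100239 D132745 (iv2 F361228)
theorem F440925 : act 6 n206459 = n196085 := d7_2 (iv6 F361230) F440923 F399355
def n206460 : Q := act 4 n128639
theorem D206460 : act 4 n128639 = n206460 := rfl
theorem F440926 : act 3 n206460 = n196402 := d5_1 D206460 F400594 F202422 D125943 F358264
theorem F440927 : act 6 n206460 = n197859 := d10_2 (iv6 F358265) D206460 F406042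
theorem F440928 : act 5 n206460 = n196427 := d16_1 D206460 F400655 (iv5 F382210) (iv4 F410100) F437155 F437153 F358256 (iv7 F358261) F358263
theorem F440929 : act 0 n206460 = n199125 := d20_4 (iv4 F202002) F202425 (iv4 F400594) (iv3 F440926) (iv3 D199125) F364752 (iv1 D152588) D152589 (iv3 F361364) F222466
def n206461 : Q := act 4 n128640
theorem D206461 : act 4 n128640 = n206461 := rfl
theorem F440930 : act 6 n206461 = n202690 := d10_2 (iv6 F358259) D206461 F425115
theorem F440931 : act 5 n206461 = n199123 := d16_5 (iv4 F410100) F437155 F437153 F358256 D206461 F410766 F382213 (iv7 F393724) F393722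
theorem F440932 : act 0 n199125 = n206461 := d20_10 (iv4 D206461) (iv1 D128640) D128641 (iv3 F207279) (iv1 F222206) F430281 F430279 (iv1 F259402) (iv4 F364752) D199125
def n206462 : Q := act 0 n128643
theorem D206462 : act 0 n128643 = n206462 := rfl
theorem F440933 : act 6 n206462 = n205546 := d21_5 F358266 (iv1 D129062) F95271 D128643 D206462 F436939 (iv1 F436141) (iv5 F360436) (iv6 F435805) (iv1 F435808)
theorem F440934 : act 2 n195792 = n206462 := d15_3 (iv0 D206462) (iv0 F349614) D195792
theorem F440935 : act 1 n195790 = n206462 := d15_0 (iv0 D206462) F206933 (iv2 F398186)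
theorem F440936 : act 7 n206462 = n195789 := d15_2 D195790 F440935 F398181
theorem F440937 : act 5 n206462 = n188616 := d18_9 F439359 (iv4 D206125) D206123 F439347 (iv5 F437091) F437089 (iv0 F440876) F440873 F440935
theorem F440938 : act 3 n196058 = n206462 := d6_3 F440937 F374198 (iv5 F399247)
def n206463 : Q := act 5 n128643
theorem D206463 : act 5 n128643 = n206463 := rfl
theorem F440939 : act 2 n206463 = n196224 := d2_1 D206463 (iv5 F440874) F440871
theorem F440940 : act 3 n206463 = n128651 := d6_1 D206463 (iv5 D128651) (iv3 F206931)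
theorem F440941 : act 6 n206463 = n196231 := d12_2 D128643 D206463 F399989 F341837 F95271
theorem F440942 : act 7 n206463 = n196097 := d13_2 (iv7 F206933) D206463 (iv5 D196097)
theorem F440943 : act 4 n206463 = n187639 := d16_2 (iv4 F206932) D206463 (iv5 D187639) (iv4 F142880) D188717 (iv4 F399969) (iv5 F440874) F440875 F398186
theorem F440944 : act 1 n206463 = n196223 := d17_8 (iv1 D185855) (iv5 D88520) F290235 D92575 D188616 (iv5 F440937) (iv0 D206462) D206463 F399968
theorem F440945 : act 0 n206463 = n196056 := d20_7 (iv4 F167618) F174544 (iv4 F179264) (iv3 F371077) (iv1 F371074) (iv3 F371082) (iv4 F440943) F399239 (iv3 D134482) F167620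
theorem F440946 : act 1 n131960 = n196097 := d15_1 (iv0 F399970) (iv7 F440942) F440939
def n206464 : Q := act 4 n128644
theorem D206464 : act 4 n128644 = n206464 := rfl
theorem F440947 : act 2 n206464 = n164151 := d1_1 D206464 F339655 (iv2 F339666)
theorem F440948 : act 3 n206464 = n172430 := d5_1 D206464 F345382 F206835 F95099 D128644
theorem F440949 : act 5 n206464 = n149037 := d9_2 (iv5 F206934) D206464 (iv4 F348443) F348444 (iv4 F368230) F368231 F215997 (iv5 F207291) (iv4 F434445) F434442 (iv4 F247160) F247168 (iv4 D134132) (iv5 D63005) (iv4 F98275)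
theorem F440950 : act 6 n206464 = n173870 := d10_2 (iv6 F349823) D206464 (iv4 F341699)
theorem F440951 : act 7 n206464 = n129055 := d11_2 (iv7 F206935) D206464 (iv4 D129055)
theorem F440952 : act 0 n206464 = n174054 := d17_0 F337627 F315778 (iv5 F355015) (iv4 F355013) (iv5 D128956) F206877 D206431 F440761 D206464
theorem F440953 : act 1 n206464 = n163817 := d18_8 (iv1 F337610) F249449 (iv1 F128027) (iv4 F129154) (iv5 F322743) (iv4 F440759) F440761 D206464 (iv5 F355018)
def n206465 : Q := act 2 n128646
theorem D206465 : act 2 n128646 = n206465 := rfl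
theorem F440954 : act 3 n206465 = n129054 := d0_2 D128646 D206465 (iv2 D129054) (iv3 D60673) F95106
theorem F440955 : act 5 n206465 = n196242 := d2_2 (iv5 F206938) D206465 (iv2 D196242)
theorem F440956 : act 7 n206465 = n129045 := d4_2 (iv7 F206939) D206465 (iv2 D129045)
theorem F440957 : act 1 n206465 = n128912 := d15_0 F362191 (iv7 F206939) D206465
theorem F440958 : act 1 n128917 = n206465 := d15_0 F440957 (iv7 F440841) F440838
def n206466 : Q := act 4 n128646
theorem D206466 : act 4 n128646 = n206466 := rfl
theorem F440959 : act 3 n206466 = n206420 := d5_1 D206466 (iv4 D206420) F206826 (iv4 F95105) D128646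
theorem F440960 : act 7 n206466 = n129046 := d11_2 (iv7 F206939) D206466 (iv4 D129046)
def n206467 : Q := act 0 n128647
theorem D206467 : act 0 n128647 = n206467 := rfl
theorem F440961 : act 4 n206467 = n200704 := d18_3 (iv1 F348389) F364826 D206467 F417563 F202031 (iv0 F165157) (iv4 F202052) F202055 F348385
theorem F440962 : act 1 n129060 = n206467 := d15_0 (iv0 D206467) (iv7 F417581) F417579
theorem F440963 : act 2 n129057 = n206467 := d1_3 F440961 (iv2 F417565) (iv4 F355905)
theorem F440964 : act 7 n129058 = n206467 := d11_0 F440961 (iv7 F417566) (iv4 F365656)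
theorem F440965 : act 5 n166624 = n206467 := d16_1 (iv4 F296355) F440961 F417563 F202031 F165151 (iv4 F204366) F350486 (iv7 F346889) (iv2 F346886)
theorem F440966 : act 3 n166625 = n206467 := d20_5 D205166 F435257 (iv4 D145451) (iv3 F228483) F326475 F440961 (iv1 F417564) F328360 (iv3 F415198) (iv1 F415201)
def n206468 : Q := act 1 n128647
theorem D206468 : act 1 n128647 = n206468 := rfl
theorem F440967 : act 1 n206468 = n129060 := d15_1 D206468 (iv7 D129060) (iv2 F206940)
theorem F440968 : act 7 n206468 = n129057 := d15_2 (iv0 D206467) D206468 F440963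
theorem F440969 : act 4 n206468 = n200705 := d18_7 (iv1 D52319) F40191 D25411 D52324 D113363 F364826 D206468 F417567 (iv5 D113357)
theorem F440970 : act 3 n197888 = n206468 := d20_9 (iv4 F364826) (iv1 F402645) (iv4 F402646) (iv3 F402647) (iv1 F176524) D198896 F409780 F412411 (iv4 F406122) (iv1 D206468)
theorem F440971 : act 6 n197886 = n206468 := d21_3 (iv5 F409773) (iv1 F435432) F435434 (iv1 D206468) (iv6 D128647) F95104 (iv1 F95049) (iv5 F95238) D128935 F397867
theorem F440972 : act 2 n206468 = n129058 := d3_1 F440971 (iv6 F435168) F435165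
theorem F440973 : act 5 n206468 = n205360 := d12_1 F440971 (iv6 D205360) D205359 F436071 F435434
def n206469 : Q := act 5 n128647
theorem D206469 : act 5 n128647 = n206469 := rfl
theorem F440974 : act 2 n206469 = n129059 := d2_1 D206469 (iv5 D129059) (iv2 F206940)
theorem F440975 : act 6 n206469 = n196244 := d12_2 D128647 D206469 (iv5 D196244) (iv6 D106809) (iv5 F95104)
theorem F440976 : act 4 n206469 = n200723 := d16_2 F364826 D206469 (iv5 D200723) (iv4 D113369) (iv5 D52329) D52328 D113367 F364832 (iv2 F364825)
theorem F440977 : act 0 n206469 = n200726 := d17_2 (iv1 D206468) D206469 (iv5 F436820) F436819 F202986 F93371 D113355 D200705 (iv4 F440969)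
theorem F440978 : act 1 n206469 = n200712 := d17_6 (iv1 D113440) (iv5 D52368) (iv1 F161173) D113363 F364826 D206469 (iv5 D200712) D200710 F417593
def n206470 : Q := act 5 n128648
theorem D206470 : act 5 n128648 = n206470 := rfl
theorem F440979 : act 2 n206470 = n129072 := d2_1 D206470 (iv5 D129072) (iv2 F358305)
theorem F440980 : act 3 n206470 = n163455 := d6_1 D206470 (iv5 D163455) (iv3 F358306)
theorem F440981 : act 6 n206470 = n205399 := d12_2 F417043 D206470 (iv5 D205399) D205400 (iv5 F436249)
theorem F440982 : act 7 n206470 = n129077 := d13_2 (iv7 F358308) D206470 (iv5 D129077)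
theorem F440983 : act 1 n206470 = n205535 := d17_6 (iv1 F327441) F362766 (iv1 F381093) (iv5 F381095) (iv4 F358307) D206470 F436884 F417610 F341809
theorem F440984 : act 0 n205399 = n196265 := d21_4 (iv5 F95108) D128648 D206470 F440981 (iv6 D196265) F358291 (iv1 D131822) D131824 (iv6 F358289) (iv1 D106652)
def n206471 : Q := act 5 n128649
theorem D206471 : act 5 n128649 = n206471 := rfl
theorem F440985 : act 2 n206471 = n129077 := d2_1 D206471 (iv5 D129077) (iv2 F358310)
theorem F440986 : act 3 n206471 = n189677 := d6_1 D206471 (iv5 F435611) F435612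
theorem F440987 : act 6 n206471 = n187417 := d12_2 F435744 D206471 F373472 (iv6 F373470) (iv5 F435743)
theorem F440988 : act 7 n206471 = n129072 := d13_2 (iv7 F358311) D206471 (iv5 D129072)
theorem F440989 : act 1 n205535 = n206471 := d15_1 F440983 F440988 (iv2 F440979)
def n206472 : Q := act 4 n128651
theorem D206472 : act 4 n128651 = n206472 := rfl
theorem F440990 : act 2 n206472 = n129090 := d1_1 D206472 (iv4 D129090) (iv2 F206948)
theorem F440991 : act 3 n206472 = n187640 := d5_1 D206472 (iv4 D187640) (iv3 F371082) (iv4 F440943) F440940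
theorem F440992 : act 7 n206472 = n196106 := d11_2 (iv7 F206949) D206472 (iv4 D196106)
theorem F440993 : act 5 n206472 = n132159 := d16_1 D206472 (iv4 D132159) (iv5 D61997) F47016 F23246 (iv4 F47016) D61997 F96586 (iv2 F206948)
def n206473 : Q := act 0 n128656
theorem D206473 : act 0 n128656 = n206473 := rfl
theorem F440994 : act 6 n206473 = n191681 := d21_5 (iv5 F103147) (iv1 F169579) (iv5 F327508) F216233 D206473 F384134 (iv1 D136659) F100032 (iv6 D30488) D30485
theorem F440995 : act 2 n134872 = n206473 := d15_3 (iv0 D206473) F355779 (iv7 F361801)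
theorem F440996 : act 1 n134873 = n206473 := d15_0 (iv0 D206473) F206956 D134873
theorem F440997 : act 7 n206473 = n134871 := d15_2 F365742 F440996 (iv2 F361803)
theorem F440998 : act 4 n206473 = n191682 := d18_7 (iv1 F251550) (iv4 F261874) (iv1 D121360) (iv4 F107997) (iv5 F328714) (iv4 F217057) F440996 F384139 F336395
def n206474 : Q := act 3 n128657
theorem D206474 : act 3 n128657 = n206474 := rfl
theorem F440999 : act 4 n206474 = n134929 := d5_2 (iv4 F349613) D206474 (iv3 F358343) (iv4 D113563) (iv3 F176695)
theorem F441000 : act 5 n206474 = n189075 := d6_2 (iv5 F332681) D206474 (iv3 D189075)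
theorem F441001 : act 0 n205628 = n206474 := d18_2 F212447 D205628 F440999 (iv5 F437372) F437374 (iv0 D129417) F95385 D126554 F380826
def n206475 : Q := act 6 n128657
theorem D206475 : act 6 n128657 = n206475 := rfl
theorem F441002 : act 4 n206475 = n195172 := d10_1 D206475 F396087 (iv4 F349613)
theorem F441003 : act 7 n206475 = n194071 := d14_2 F372601 D206475 (iv6 D194071) F386017 F386014
theorem F441004 : act 0 n204291 = n206475 := d21_4 (iv5 F74093) (iv1 F249713) (iv5 F304693) D204291 (iv6 D206475) F332681 (iv1 F143654) F332676 F332678 (iv1 F136730)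
def n206476 : Q := act 4 n128658
theorem D206476 : act 4 n128658 = n206476 := rfl
theorem F441005 : act 2 n206476 = n200564 := d1_1 D206476 F416981 F372600
theorem F441006 : act 5 n206476 = n172452 := d9_2 (iv5 F333051) D206476 (iv4 D172452) (iv5 F324755) F324754 (iv5 F275020) (iv4 F295425) (iv5 F332681) F349613 (iv5 D113527) F327014 (iv5 F128507) F155516 F152910 (iv4 F295428)
theorem F441007 : act 6 n206476 = n194068 := d10_2 (iv6 F333141) D206476 (iv4 D194068)
theorem F441008 : act 7 n206476 = n200794 := d11_2 F372595 D206476 F417929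
theorem F441009 : act 0 n206476 = n200822 := d18_2 (iv1 F404659) D206476 F418056 (iv5 F380085) (iv4 D179776) (iv0 F286852) D98950 F357792 (iv5 F404655)
theorem F441010 : act 1 n206476 = n200821 := d18_8 (iv1 F384522) (iv4 D191813) F354766 (iv4 D128723) (iv5 D60535) (iv4 F95124) D128658 D206476 F418053
theorem F441011 : act 3 n206476 = n196241 := d20_3 (iv4 F404654) (iv1 F404659) D206476 (iv1 F400022) (iv3 F216089) F216090 (iv1 F329132) F329133 (iv3 D128710) (iv1 F206832)
def n206477 : Q := act 4 n128666
theorem D206477 : act 4 n128666 = n206477 := rfl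
theorem F441012 : act 0 n206477 = n201774 := d17_0 (iv5 D201774) D201772 F421754 (iv4 D128916) D128917 F440958 F440955 F400029 D206477
def n206478 : Q := act 4 n128667
theorem D206478 : act 4 n128667 = n206478 := rfl
theorem F441013 : act 3 n206478 = n129417 := d5_1 D206478 (iv4 F437374) (iv3 F437373) F418181 F395752
theorem F441014 : act 1 n206478 = n201774 := d18_8 D201772 F421753 (iv1 F398553) F343929 (iv5 D136318) F99696 D128667 D206478 (iv5 D201774)
def n206479 : Q := act 4 n128672
theorem D206479 : act 4 n128672 = n206479 := rfl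
theorem F441015 : act 2 n206479 = n205597 := d1_1 D206479 F437153 F343531
theorem F441016 : act 7 n206479 = n205596 := d11_2 F440679 D206479 (iv4 F440680)
theorem F441017 : act 0 n206479 = n205479 := d17_0 F436616 F440913 (iv5 D206457) (iv4 D128633) D128634 F358323 D205291 F435807 D206479
theorem F441018 : act 1 n206479 = n196034 := d18_8 (iv1 F382604) F348084 (iv1 D185644) (iv4 F257695) F349603 (iv4 F435804) F435807 D206479 F399134
theorem F441019 : act 3 n206479 = n200791 := d19_3 D129061 F349607 D206479 (iv1 D200791) F358221 F177802 D110778 F258979 F238466 (iv4 F238435) F238434 (iv1 F198103) (iv5 F329776) F79602 (iv3 D28788) (iv1 D13728) D13730 D28798 D60675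
def n206480 : Q := act 4 n128673
theorem D206480 : act 4 n128673 = n206480 := rfl
theorem F441020 : act 2 n206480 = n205596 := d1_1 D206480 (iv4 F440680) (iv2 F440677)
theorem F441021 : act 3 n206480 = n191117 := d5_1 D206480 (iv4 F418634) F418633 (iv4 F228500) F343529
theorem F441022 : act 6 n206480 = n190539 := d10_2 (iv6 F417201) D206480 F417200
theorem F441023 : act 7 n206480 = n205597 := d11_2 (iv7 F343530) D206480 F437153
theorem F441024 : act 0 n206480 = n196034 := d17_0 F399134 (iv1 F382604) (iv5 F358317) (iv4 D128628) (iv5 F358330) F343601 (iv5 D128675) D128673 D206480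
theorem F441025 : act 5 n206480 = n191116 := d18_4 (iv1 F349605) (iv4 F435804) (iv1 F435808) D206480 (iv4 F393720) F393718 F382217 F164259 F349606
theorem F441026 : act 1 n206480 = n205479 := d18_8 F440913 F440909 (iv1 F293089) F295478 (iv5 D131799) F96402 D128673 D206480 F436616
def n206481 : Q := act 6 n128674
theorem D206481 : act 6 n128674 = n206481 := rfl
theorem F441027 : act 2 n206481 = n128676 := d3_1 D206481 (iv6 D128676) D128674
theorem F441028 : act 4 n206481 = n163612 := d10_1 D206481 F348755 F211172
theorem F441029 : act 5 n206481 = n133086 := d12_1 D206481 F347120 (iv5 D113418) D113419 F348757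
theorem F441030 : act 0 n201132 = n206481 := d21_7 (iv5 D127358) (iv1 F94219) D113587 (iv6 F380491) (iv1 F380495) F397827 (iv5 F419203) F441029 F347120 (iv1 F204607)
def n206482 : Q := act 1 n128676
theorem D206482 : act 1 n128676 = n206482 := rfl
theorem F441031 : act 3 n200700 = n206482 := d19_19 (iv1 D206482) F348753 (iv4 D130397) D130396 F347046 (iv5 D158448) (iv4 F149002) (iv3 F302988) (iv1 F233990) F348310 F314030 F431319 (iv1 D204171) D204172 F431326 F418395 (iv1 F375320) F375317 (iv4 F417549)
theorem F441032 : act 6 n200698 = n206482 := d21_3 (iv5 D204883) D204881 F433999 (iv1 D206482) (iv6 D128676) D128675 (iv1 F343601) F358330 D128630 F436039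
theorem F441033 : act 2 n206482 = n201132 := d3_1 F441032 F436920 (iv2 F436917)
theorem F441034 : act 4 n205590 = n206482 := d1_0 F441033 (iv4 F419205) F437126
def n206483 : Q := act 5 n128678
theorem D206483 : act 5 n128678 = n206483 := rfl
theorem F441035 : act 0 n206483 = n129793 := d17_2 D128678 D206483 (iv5 D129793) (iv4 D60959) D60960 F100264 (iv5 F95137) (iv0 D60520) (iv4 F95136)
theorem F441036 : act 1 n206483 = n196061 := d17_6 (iv1 F78039) (iv5 F163703) F165490 (iv5 F164878) (iv4 F211348) D206483 (iv5 D196061) F164165 F96557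
def n206484 : Q := act 5 n128679
theorem D206484 : act 5 n128679 = n206484 := rfl
theorem F441037 : act 3 n206484 = n128739 := d6_1 D206484 (iv5 F418521) F418520
theorem F441038 : act 6 n206484 = n128737 := d12_2 (iv6 F211182) D206484 (iv5 F359046) (iv6 F359045) (iv5 F358168)
theorem F441039 : act 0 n206484 = n196061 := d17_2 (iv1 F211345) D206484 (iv5 D196061) (iv4 D106592) (iv5 F80845) (iv0 F103526) F103525 F96485 (iv4 F211343)
theorem F441040 : act 1 n206484 = n129793 := d17_6 D49358 D106822 F245360 F245357 (iv4 F206975) D206484 (iv5 D129793) (iv0 F164014) F77851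
def n206485 : Q := act 4 n128680
theorem D206485 : act 4 n128680 = n206485 := rfl
theorem F441041 : act 1 n206485 = n131966 := d18_6 (iv1 F211331) (iv4 D128685) (iv1 D60521) (iv4 F95136) D128680 D206485 (iv4 D131966) D131965 F211440
def n206486 : Q := act 3 n128683
theorem D206486 : act 3 n128683 = n206486 := rfl
theorem F441042 : act 4 n206486 = n195239 := d5_2 D128683 D206486 F396418 F209220 (iv3 D128682)
theorem F441043 : act 6 n206486 = n195238 := d7_2 F207329 D206486 F396413
theorem F441044 : act 7 n206486 = n200766 := d8_2 F211980 D206486 F417843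
theorem F441045 : act 2 n201680 = n206486 := d4_3 F441044 (iv2 F439341) F439343
theorem F441046 : act 5 n206081 = n206486 := d13_3 F441044 F418110 F439175
theorem F441047 : act 1 n206486 = n128775 := d17_8 (iv1 F418323) F398476 (iv1 F375321) F176816 (iv4 F176705) (iv5 F418113) F439177 F441046 (iv4 F418321)
def n206487 : Q := act 5 n128683
theorem D206487 : act 5 n128683 = n206487 := rfl
theorem F441048 : act 3 n206487 = n206081 := d6_1 D206487 F441046 (iv3 D206486)
theorem F441049 : act 0 n206487 = n196055 := d17_2 (iv1 F211333) D206487 (iv5 D196055) F165533 D106770 F165489 (iv5 F209493) (iv0 D130905) F95913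
theorem F441050 : act 1 n206487 = n196057 := d17_6 (iv1 F77821) (iv5 F80845) F96449 (iv5 F95137) D128683 D206487 (iv5 D196057) F164152 F96521
def n206488 : Q := act 3 n128685
theorem D206488 : act 3 n128685 = n206488 := rfl
theorem F441051 : act 4 n206488 = n204291 := d5_2 D128685 D206488 F431898 F328737 F214360
theorem F441052 : act 6 n206488 = n200802 := d7_2 F211202 D206488 (iv3 F417969)
theorem F441053 : act 0 n206488 = n128713 := d20_4 F211343 (iv1 F96485) D128685 D206488 F359794 (iv4 D123679) (iv1 F240103) D204356 F432188 (iv1 F211347)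
def n206489 : Q := act 5 n128685
theorem D206489 : act 5 n128685 = n206489 := rfl
theorem F441054 : act 0 n206489 = n196057 := d17_2 (iv1 F211331) D206489 (iv5 D196057) F165530 (iv5 F78359) (iv0 F164917) F209500 F209498 (iv4 F211329)
theorem F441055 : act 1 n206489 = n196055 := d17_6 (iv1 F100247) D60960 F103527 F103525 D128685 D206489 (iv5 D196055) (iv0 D106588) F77820
def n206490 : Q := act 3 n128686
theorem D206490 : act 3 n128686 = n206490 := rfl
theorem F441056 : act 4 n206490 = n130908 := d5_2 F311933 D206490 (iv3 F214107) (iv4 F214106) (iv3 F311932)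
theorem F441057 : act 5 n206490 = n129022 := d6_2 (iv5 F208887) D206490 (iv3 D129022)
theorem F441058 : act 7 n206490 = n135822 := d8_2 (iv7 F214151) D206490 F218470
theorem F441059 : act 0 n206490 = n205582 := d19_4 F311916 (iv5 F302483) F311933 D206490 (iv5 D205582) F323931 F119912 (iv1 F88470) (iv5 D35802) D35801 D78592 (iv1 F350920) F350922 (iv4 F315980) (iv3 F210629) (iv1 F342002) (iv5 F341999) (iv4 D132335) D132334
theorem F441060 : act 2 n135833 = n206490 := d4_3 F441058 (iv2 F333455) F333450
def n206491 : Q := act 6 n128686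
theorem D206491 : act 6 n128686 = n206491 := rfl
theorem F441061 : act 4 n206491 = n206327 := d10_1 D206491 (iv6 D206327) F311933
theorem F441062 : act 5 n206491 = n205515 := d12_1 D206491 (iv6 D205515) F406812 (iv6 D129025) (iv5 F208887)
theorem F441063 : act 0 n128747 = n206491 := d21_1 F338346 F441062 (iv6 D205515) (iv1 F365326) F329759 D163649 (iv1 F358968) F358969 (iv6 F358974) F358970
def n206492 : Q := act 3 n128687
theorem D206492 : act 3 n128687 = n206492 := rfl
theorem F441064 : act 2 n206492 = n200821 := d0_1 D206492 (iv3 F418054) F333455 F218470 (iv2 F214147)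
theorem F441065 : act 4 n206492 = n189156 := d5_2 F311924 D206492 (iv3 F375874) (iv4 D130732) (iv3 F311923)
theorem F441066 : act 5 n206492 = n129027 := d6_2 (iv5 F211935) D206492 (iv3 D129027)
theorem F441067 : act 7 n206492 = n200822 := d8_2 F214150 D206492 (iv3 F418057)
theorem F441068 : act 0 n206492 = n200564 := d19_4 F311919 (iv5 F311925) F311924 D206492 (iv5 D200564) (iv4 F202638) F202637 F175022 (iv5 F332179) F210584 (iv3 D74877) (iv1 F94658) F308531 (iv4 D40057) F30230 F59749 (iv5 F28881) (iv4 F29329) (iv3 F58742)
theorem F441069 : act 1 n206492 = n200794 := d15_1 (iv0 F441068) (iv7 F441008) F441005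
def n206493 : Q := act 0 n128690
theorem D206493 : act 0 n128690 = n206493 := rfl
theorem F441070 : act 4 n206493 = n205833 := d18_3 (iv1 D129238) (iv4 F206985) D206493 (iv5 D205833) (iv4 F206734) F206736 (iv4 F204410) (iv0 F438569) F438571
theorem F441071 : act 6 n206493 = n129175 := d21_5 D128980 (iv1 F212203) (iv5 D128689) D128690 D206493 F211044 (iv1 F164542) (iv5 D61982) F47005 F207219
theorem F441072 : act 2 n205834 = n206493 := d15_3 (iv0 D206493) (iv0 F333069) (iv7 F438058)
theorem F441073 : act 1 n206012 = n206493 := d15_0 (iv0 D206493) (iv7 F211340) F438832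
theorem F441074 : act 7 n206493 = n206005 := d15_2 D206012 F441073 F438799
def n206494 : Q := act 5 n128690
theorem D206494 : act 5 n128690 = n206494 := rfl
theorem F441075 : act 2 n206494 = n205235 := d2_1 D206494 (iv5 F436934) F436932
theorem F441076 : act 3 n206494 = n128692 := d6_1 D206494 (iv5 D128692) (iv3 F206984)
theorem F441077 : act 6 n206494 = n198097 := d12_2 D128690 D206494 (iv5 D198097) F348809 (iv5 D128689)
theorem F441078 : act 4 n206494 = n205227 := d19_2 F333069 D206494 F435515 (iv1 F405975) F399418 F399415 (iv3 F331453) (iv1 F331570) F164508 (iv4 F115233) F321028 (iv1 F320909) F320913 F100654 (iv3 D64650) (iv1 D30421) D30423 D64658 (iv3 F204192)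
def n206495 : Q := act 0 n128692
theorem D206495 : act 0 n128692 = n206495 := rfl
theorem F441079 : act 5 n206495 = n196693 := d17_3 (iv1 F163721) D128692 D206495 F401503 F165235 (iv0 D63959) F77904 F77902 (iv4 F163720)
theorem F441080 : act 4 n206495 = n205141 := d18_1 D206495 F435122 F362565 (iv5 D131898) F163726 (iv0 D49290) (iv4 F77901) (iv0 F95145) D128692
theorem F441081 : act 6 n206495 = n200527 := d21_5 F355902 F343540 (iv5 F435723) (iv6 F435725) D206495 F416870 (iv1 D125849) D125851 F416871 (iv1 D198893)
theorem F441082 : act 2 n205143 = n206495 := d15_3 (iv0 D206495) F360474 (iv7 F435134)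
theorem F441083 : act 1 n196046 = n206495 := d15_0 (iv0 D206495) (iv7 F211341) (iv2 F399175)
theorem F441084 : act 7 n206495 = n205270 := d15_2 (iv0 F399178) F441083 F435692
def n206496 : Q := act 4 n128692
theorem D206496 : act 4 n128692 = n206496 := rfl
theorem F441085 : act 2 n206496 = n205343 := d1_1 D206496 F436000 F211352
theorem F441086 : act 3 n206496 = n200527 := d5_1 D206496 F416869 (iv3 F435515) (iv4 F441078) F441076
theorem F441087 : act 7 n206496 = n200573 := d11_2 F211341 D206496 F417007
theorem F441088 : act 5 n206496 = n205177 := d16_1 D206496 F435311 F349592 F172135 F80761 D106577 D196046 F399177 F211352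
theorem F441089 : act 1 n206496 = n205184 := d18_6 F163723 F96476 (iv1 F46984) (iv4 F95144) D128692 D206496 F436277 F436273 (iv5 D195960)
def n206497 : Q := act 3 n128693
theorem D206497 : act 3 n128693 = n206497 := rfl
theorem F441090 : act 2 n206497 = n205588 := d0_1 D206497 F437120 F418464 F436626 (iv2 F436622)
theorem F441091 : act 4 n206497 = n196031 := d5_2 F395886 D206497 (iv3 F399129) (iv4 F343643) D195128
theorem F441092 : act 5 n206497 = n163495 := d6_2 (iv5 F341951) D206497 (iv3 D163495)
theorem F441093 : act 6 n206497 = n198928 := d7_2 F401529 D206497 F409945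
theorem F441094 : act 0 n206497 = n128715 := d21_4 (iv5 D190709) F324455 D198928 (iv6 F441093) F436169 (iv5 D205382) (iv1 D125884) D125886 (iv6 F360439) (iv1 F380732)
def n206498 : Q := act 3 n128694
theorem D206498 : act 3 n128694 = n206498 := rfl
theorem F441095 : act 5 n206498 = n163489 := d6_2 (iv5 F333461) D206498 (iv3 D163489)
theorem F441096 : act 7 n206498 = n200783 := d8_2 F436624 D206498 F436626
def n206499 : Q := act 1 n128697
theorem D206499 : act 1 n128697 = n206499 := rfl
theorem F441097 : act 1 n206499 = n187495 := d15_1 D206499 (iv7 F398193) F398189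
theorem F441098 : act 4 n206499 = n206124 := d17_9 (iv1 F439356) F397984 F288277 D188717 (iv4 F399969) (iv5 F440874) (iv0 F440877) F398183 D206499
theorem F441099 : act 2 n206125 = n206499 := d1_3 F441098 (iv2 D206124) D206125
def n206500 : Q := act 4 n128700
theorem D206500 : act 4 n128700 = n206500 := rfl
theorem F441100 : act 2 n206500 = n195622 := d1_1 D206500 F397654 F362917
theorem F441101 : act 6 n206500 = n195621 := d10_2 (iv6 F362916) D206500 F397652
theorem F441102 : act 0 n206500 = n129641 := d18_2 (iv1 F206989) D206500 (iv4 F362876) F211526 F96557 F78043 (iv4 F165525) (iv0 D61915) D61917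
theorem F441103 : act 1 n206500 = n196068 := d18_6 (iv1 F211951) F211953 (iv1 D130906) F95913 D128700 D206500 (iv4 D196068) D196067 F399283
def n206501 : Q := act 3 n128711
theorem D206501 : act 3 n128711 = n206501 := rfl
theorem F441104 : act 4 n206501 = n151559 := d5_2 D128711 D206501 F238432 F329133 (iv3 D128710)
theorem F441105 : act 5 n206501 = n189096 := d6_2 F333049 D206501 (iv3 D189096)
theorem F441106 : act 7 n206501 = n143097 := d8_2 (iv7 F352545) D206501 F225953
theorem F441107 : act 0 n206501 = n137913 := d20_10 F221173 (iv1 F355789) F209315 (iv3 D128656) (iv1 D60507) D60508 F95124 D60532 D128711 D206501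
theorem F441108 : act 6 n204363 = n206501 := d10_0 F441104 F238433 D204363
def n206502 : Q := act 6 n128711
theorem D206502 : act 6 n128711 = n206502 := rfl
theorem F441109 : act 3 n206502 = n204363 := d7_1 D206502 F441108 (iv3 D206501)
theorem F441110 : act 4 n206502 = n128713 := d10_1 D206502 (iv6 D128713) D128711
theorem F441111 : act 7 n206502 = n137553 := d14_2 (iv7 F352545) D206502 (iv6 D137553) F220890 D137147
theorem F441112 : act 5 n187039 = n206502 := d21_2 (iv5 D187042) D187039 (iv6 D206502) (iv1 F375873) (iv6 F386881) (iv5 D192508) (iv1 F158767) (iv5 F346646) (iv6 F368084) (iv1 F368892)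
theorem F441113 : act 0 n187686 = n206502 := d21_4 (iv5 F74496) (iv1 F338118) (iv5 F368058) (iv6 F374927) (iv6 D206502) (iv5 F333049) (iv1 F143802) F332695 (iv6 F332696) (iv1 F136888)
theorem F441114 : act 6 n187039 = n188277 := d21_3 F386951 F441113 (iv5 F441112) (iv1 D188277) F140166 (iv5 D42676) F63434 D48326 D104446 F386954
def n206503 : Q := act 5 n128713
theorem D206503 : act 5 n128713 = n206503 := rfl
theorem F441115 : act 3 n206503 = n200643 := d6_1 D206503 F417336 (iv3 F359794)
theorem F441116 : act 6 n206503 = n200641 := d12_2 D128713 D206503 F417326 (iv6 F342144) (iv5 D128712)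
theorem F441117 : act 1 n206503 = n131950 := d17_6 (iv1 F368892) (iv5 D187042) D187039 F441112 F441110 D206503 (iv5 D131950) D131949 (iv4 F368083)
def n206504 : Q := act 7 n128713
theorem D206504 : act 7 n128713 = n206504 := rfl
theorem F441118 : act 3 n206504 = n193172 := d8_1 D206504 F389039 (iv3 F359794)
theorem F441119 : act 4 n206504 = n137553 := d11_1 D206504 (iv7 F441111) F441110
theorem F441120 : act 6 n206504 = n137551 := d14_1 D206504 (iv7 F220902) (iv6 F352547) F352477 D128713
def n206505 : Q := act 0 n128715
theorem D206505 : act 0 n128715 = n206505 := rfl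
theorem F441121 : act 4 n206505 = n196030 := d20_0 (iv1 F399123) F211172 (iv3 F211930) (iv1 F211934) D206492 F441065 F375872 (iv4 D128716) D128715 D206505
theorem F441122 : act 6 n206505 = n182767 := d21_5 D195768 F398096 D205382 (iv6 F436169) D206505 F380716 (iv1 D190657) F148281 D182512 F359713
theorem F441123 : act 7 n205588 = n206505 := d14_0 F441122 F380712 F417895 F417891 D205588
def n206506 : Q := act 5 n128715
theorem D206506 : act 5 n128715 = n206506 := rfl
theorem F441124 : act 2 n206506 = n199730 := d2_1 D206506 (iv5 F437150) F437147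
theorem F441125 : act 3 n206506 = n128717 := d6_1 D206506 (iv5 D128717) D128715
theorem F441126 : act 6 n206506 = n199425 := d12_2 (iv6 F436169) D206506 F436171 (iv6 D205383) D205382
theorem F441127 : act 4 n206506 = n199427 := d16_2 F436615 D206506 (iv5 F412146) F410718 F393372 (iv4 F382603) (iv5 F399134) F399136 (iv2 F436614)
theorem F441128 : act 0 n205390 = n206506 := d18_0 F441127 (iv1 F412147) (iv4 F407329) (iv5 D128634) D128633 F440887 F440883 (iv0 F435628) (iv5 F436211)
def n206507 : Q := act 3 n128721
theorem D206507 : act 3 n128721 = n206507 := rfl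
theorem F441129 : act 4 n206507 = n131380 := d5_2 (iv4 F333039) D206507 F210589 F96326 (iv3 F330856)
theorem F441130 : act 5 n206507 = n128827 := d6_2 (iv5 F333040) D206507 (iv3 D128827)
theorem F441131 : act 6 n206507 = n180365 := d7_2 (iv6 F333041) D206507 (iv3 D180365)
theorem F441132 : act 0 n206507 = n163531 := d20_4 F299561 F330862 (iv4 F333039) D206507 (iv3 F395804) (iv4 D195109) (iv1 F168647) (iv4 F202081) (iv3 F362308) F333043
theorem F441133 : act 0 n163026 = n206507 := d21_4 (iv5 D126390) (iv1 F326136) D78392 D163026 F441131 F358976 F358978 (iv5 F338377) (iv6 F363212) F330154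
def n206508 : Q := act 3 n128722
theorem D206508 : act 3 n128722 = n206508 := rfl
theorem F441134 : act 5 n206508 = n128832 := d6_2 (iv5 F332809) D206508 (iv3 D128832)
theorem F441135 : act 0 n163495 = n206508 := d20_4 F296837 (iv1 F119724) D78567 D163495 (iv3 D206508) (iv4 F345744) F322734 (iv4 F299561) (iv3 D163478) F297412
theorem F441136 : act 6 n206508 = n161007 := d21_5 (iv5 D177332) F299841 (iv5 F299651) (iv6 F363254) F441135 F382700 (iv1 D185728) (iv5 F326384) F326385 F297571
def n206509 : Q := act 6 n128722
theorem D206509 : act 6 n128722 = n206509 := rfl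
theorem F441137 : act 3 n206509 = n161007 := d7_1 D206509 (iv6 F441136) (iv3 D206508)
theorem F441138 : act 4 n206509 = n133278 := d10_1 D206509 F334671 F345744
theorem F441139 : act 7 n206509 = n180377 := d14_2 (iv7 F355049) D206509 (iv6 D180377) F261366 F355052
def n206510 : Q := act 1 n128747
theorem D206510 : act 1 n128747 = n206510 := rfl
theorem F441140 : act 5 n206510 = n203827 := d17_7 (iv1 F194396) F338369 (iv1 D62410) D62411 D133022 F338346 D206510 F429990 (iv4 D165724)
theorem F441141 : act 3 n191692 = n206510 := d20_3 F152085 D98655 D191692 (iv1 D206510) (iv3 D128747) (iv4 D60548) (iv1 D28751) (iv4 F46382) (iv3 F95153) (iv1 F332747)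
theorem F441142 : act 6 n206039 = n206510 := d12_0 F441140 F429988 (iv5 F270744) F359818 F438959
def n206511 : Q := act 2 n128747
theorem D206511 : act 2 n128747 = n206511 := rfl
theorem F441143 : act 4 n206511 = n129404 := d1_2 (iv4 F207016) D206511 (iv2 D129404)
theorem F441144 : act 5 n206511 = n203815 := d2_2 F338346 D206511 F429942
def n206512 : Q := act 6 n128747
theorem D206512 : act 6 n128747 = n206512 := rfl
theorem F441145 : act 3 n206512 = n128749 := d7_1 D206512 (iv6 D128749) D128747
theorem F441146 : act 4 n206512 = n129406 := d10_1 D206512 (iv6 D129406) (iv4 F207016)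
def n206513 : Q := act 5 n128750
theorem D206513 : act 5 n128750 = n206513 := rfl
theorem F441147 : act 2 n206513 = n201076 := d2_1 D206513 F419004 F211976
theorem F441148 : act 3 n206513 = n192295 := d6_1 D206513 F386343 (iv3 F216204)
theorem F441149 : act 6 n206513 = n134843 := d12_2 (iv6 F211977) D206513 F217022 D205859 F438168
theorem F441150 : act 7 n206513 = n137435 := d13_2 F432212 D206513 (iv5 F432206)
theorem F441151 : act 0 n206513 = n195528 := d17_2 (iv1 F211288) D206513 F397227 F202589 D135228 (iv0 F372327) F372326 (iv0 F214602) (iv4 F211285)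
theorem F441152 : act 4 n206513 = n136533 := d17_4 (iv1 F216999) F216996 (iv1 F211288) D206513 (iv5 F390640) (iv0 D193670) (iv5 D102211) D102210 F329003
theorem F441153 : act 0 n196047 = n206513 := d21_10 (iv5 D206513) (iv1 D128750) F95165 (iv6 D58737) (iv1 F49674) (iv6 F50041) (iv5 F92908) (iv1 F169722) D198665 F408782
def n206514 : Q := act 4 n128765
theorem D206514 : act 4 n128765 = n206514 := rfl
theorem F441154 : act 2 n206514 = n199888 := d1_1 D206514 F413989 F400032
theorem F441155 : act 5 n206514 = n199174 := d9_2 D128765 D206514 (iv4 D199174) (iv5 F172199) F104319 F163660 (iv4 F172211) D199178 F411036 (iv5 F410997) (iv4 D199171) F172193 F167301 (iv5 D60561) (iv4 F95175)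
theorem F441156 : act 6 n206514 = n202851 := d10_2 F207294 D206514 F425868
theorem F441157 : act 7 n206514 = n200596 := d11_2 F360824 D206514 (iv4 D200596)
theorem F441158 : act 0 n206514 = n194802 := d17_0 F394529 (iv1 F401519) F401517 F395695 F342895 F211456 (iv5 F414098) F414102 D206514
theorem F441159 : act 1 n206514 = n206067 := d18_6 (iv1 F96434) F96432 F77657 (iv4 F95175) D128765 D206514 (iv4 D206067) (iv0 D127351) F328813
def n206515 : Q := act 0 n128767
theorem D206515 : act 0 n128767 = n206515 := rfl
def n206516 : Q := act 2 n128767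
theorem D206516 : act 2 n128767 = n206516 := rfl
theorem F441160 : act 3 n206516 = n132315 := d0_2 D128767 D206516 (iv2 F434659) F434660 F214638
theorem F441161 : act 4 n206516 = n132317 := d1_2 (iv4 F219384) D206516 F421976
theorem F441162 : act 1 n206516 = n200783 := d15_0 (iv0 F440683) F440681 D206516
theorem F441163 : act 5 n205346 = n206516 := d6_0 F441160 (iv5 F355973) (iv3 F436012)
def n206517 : Q := act 5 n128767
theorem D206517 : act 5 n128767 = n206517 := rfl
theorem F441164 : act 2 n206517 = n205346 := d2_1 D206517 F441163 (iv2 D206516)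
theorem F441165 : act 3 n206517 = n128769 := d6_1 D206517 (iv5 D128769) D128767
theorem F441166 : act 6 n205345 = n206517 := d7_0 F441165 (iv6 F410931) (iv3 F436006)
theorem F441167 : act 0 n206517 = n205389 := d20_4 (iv4 F392613) F395064 (iv4 F395063) (iv3 F441165) (iv3 D205389) F330421 F257706 (iv4 F417865) F417864 F377948
def n206518 : Q := act 6 n128767
theorem D206518 : act 6 n128767 = n206518 := rfl
theorem F441168 : act 3 n206518 = n128770 := d7_1 D206518 (iv6 D128770) D128767
theorem F441169 : act 5 n206518 = n200572 := d12_1 D206518 (iv6 F417010) (iv5 F436008) F441166 (iv5 D206517)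
theorem F441170 : act 1 n201169 = n206518 := d17_6 D125565 (iv5 F405907) (iv1 F405909) D205202 (iv4 F435418) (iv5 F435419) F441169 (iv0 F417006) (iv4 D125567)
def n206519 : Q := act 5 n128775
theorem D206519 : act 5 n128775 = n206519 := rfl
theorem F441171 : act 2 n206519 = n132151 := d2_1 D206519 (iv5 F440689) F440685
theorem F441172 : act 3 n206519 = n200603 := d6_1 D206519 (iv5 F440203) F440201
theorem F441173 : act 6 n206519 = n200601 := d12_2 D128775 D206519 F417145 (iv6 F354371) (iv5 D128774)
theorem F441174 : act 0 n206519 = n200835 := d17_2 F439344 D206519 (iv5 D200835) F391702 D113909 F419080 F419079 (iv0 F418309) (iv4 F439342)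
theorem F441175 : act 1 n206519 = n132010 := d17_6 D52460 D113630 D200924 F418409 F418321 D206519 (iv5 F363271) (iv0 D113541) F82760
theorem E103919 : n195939 = n191616 := ((c21_4 (iv5 D206519) (iv1 F441047) (iv5 F441046) F439174 (iv1 D195939) (iv6 D106456) (iv5 F96579) (iv1 F212478) (iv5 D132009) D132010 (iv1 F441175))).symm
theorem F441176 : act 0 n191616 = n106456 := (sb E103919 (iv1 D195939))
def n206520 : Q := act 7 n128775
theorem D206520 : act 7 n128775 = n206520 := rfl
theorem F441177 : act 4 n206520 = n201016 := d11_1 D206520 F418751 F418321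
theorem F441178 : act 6 n206520 = n200570 := d14_1 D206520 F417003 (iv6 F362256) F214639 D128775
theorem F441179 : act 1 n200766 = n206520 := d15_1 (iv0 F440690) (iv7 D206520) (iv2 F440685)
theorem F441180 : act 1 n206520 = n201680 := d15_1 F441179 (iv7 F439343) F439341
def n206521 : Q := act 4 n128776
theorem D206521 : act 4 n128776 = n206521 := rfl
theorem F441181 : act 2 n206521 = n128780 := d1_1 D206521 (iv4 D128780) (iv2 F207035)
theorem F441182 : act 3 n206521 = n204984 := d5_1 D206521 (iv4 D204984) (iv3 F368324) (iv4 F440709) F440708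
theorem F441183 : act 5 n206521 = n206404 := d9_2 D128776 D206521 F440625 (iv5 D190353) F347583 (iv5 F176778) F328472 D128588 D206420 F440702 F440619 (iv5 D164623) F120357 (iv5 F82946) (iv4 F328852)
theorem F441184 : act 6 n206521 = n196644 := d10_2 (iv6 F364834) D206521 (iv4 D196644)
theorem F441185 : act 0 n158095 = n206521 := d20_7 (iv4 F345744) F322734 (iv4 F299561) (iv3 D163478) F297412 (iv3 F280645) F280646 (iv4 D206521) (iv3 F440708) F440712
def n206522 : Q := act 3 n128778
theorem D206522 : act 3 n128778 = n206522 := rfl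
theorem F441186 : act 5 n206522 = n128872 := d6_2 (iv5 F355245) D206522 (iv3 D128872)
theorem F441187 : act 6 n163431 = n206522 := d12_0 F441186 (iv6 F342928) (iv5 F363067) (iv6 F392329) F392331
theorem F441188 : act 0 n206522 = n163489 := d21_4 (iv5 F343692) (iv1 F392333) F392331 F441187 F417658 (iv5 F436820) (iv1 F436821) (iv5 F417596) (iv6 F360301) (iv1 F262095)
def n206523 : Q := act 4 n128778
theorem D206523 : act 4 n128778 = n206523 := rfl
theorem F441189 : act 5 n206523 = n194996 := d16_1 D206523 F395340 (iv5 D190354) F361700 (iv5 F163312) F332637 (iv5 F342951) (iv7 F440697) (iv2 F440700)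
theorem F441190 : act 3 n206523 = n194997 := d19_3 D60611 (iv5 F355245) D206523 F395342 F394683 F164515 F77983 (iv1 F37697) F37558 (iv4 D11770) F10343 (iv1 F18396) (iv5 F18398) D13532 (iv3 F39752) (iv1 F39757) F22168 D13725 D28779
def n206524 : Q := act 6 n128778
theorem D206524 : act 6 n128778 = n206524 := rfl
theorem F441191 : act 3 n206524 = n163431 := d7_1 D206524 F441187 (iv3 D206522)
def n206525 : Q := act 3 n128779
theorem D206525 : act 3 n128779 = n206525 := rfl
theorem F441192 : act 5 n206525 = n128877 := d6_2 (iv5 F342951) D206525 (iv3 D128877)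
theorem F441193 : act 7 n206525 = n130229 := d8_2 F440697 D206525 F440699
theorem F441194 : act 6 n200598 = n206525 := d14_5 F441193 (iv6 F433293) (iv7 F433302) F431247 (iv7 F417134)
theorem F441195 : act 2 n206525 = n130227 := d16_9 (iv4 F364620) (iv5 D179610) (iv4 D85765) (iv5 F122606) F302475 (iv5 F313634) F207733 D130229 (iv7 F441193)
def n206526 : Q := act 4 n128779
theorem D206526 : act 4 n128779 = n206526 := rfl
def n206527 : Q := act 6 n128779
theorem D206527 : act 6 n128779 = n206527 := rfl
theorem F441196 : act 3 n206527 = n200598 := d7_1 D206527 F441194 (iv3 D206525)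
theorem F441197 : act 7 n200607 = n206527 := d8_0 F441196 F417134 D200607
def n206528 : Q := act 1 n128780
theorem D206528 : act 1 n128780 = n206528 := rfl
theorem F441198 : act 5 n206396 = n206528 := d21_6 F415688 F357650 D112889 (iv6 F365013) (iv1 F206814) D206396 (iv1 D206528) (iv5 F439001) (iv6 F439003) F415690
theorem F441199 : act 2 n206528 = n158095 := d2_1 F441198 (iv5 F440673) F440670
theorem F441200 : act 6 n158094 = n206528 := d3_0 F441199 (iv6 D158095) D158094
def n206529 : Q := act 6 n128790
theorem D206529 : act 6 n128790 = n206529 := rfl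
theorem F441201 : act 3 n206529 = n128792 := d7_1 D206529 (iv6 D128792) D128790
theorem F441202 : act 7 n206529 = n133387 := d14_2 (iv7 F211242) D206529 F214448 F97626 D131825
theorem F441203 : act 0 n206529 = n201703 := d20_4 F358165 (iv1 F164289) (iv4 F207041) (iv3 F441201) F421476 (iv4 F380162) (iv1 D129205) (iv4 F341757) F341756 (iv1 F358163)
def n206530 : Q := act 3 n128802
theorem D206530 : act 3 n128802 = n206530 := rfl
theorem F441204 : act 2 n206530 = n198235 := d0_1 D206530 F407301 F400254 F353084 (iv2 F227031)
theorem F441205 : act 4 n206530 = n195466 := d5_2 (iv4 F207056) D206530 F397071 F217146 F217140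
theorem F441206 : act 5 n206530 = n202137 := d6_2 F424776 D206530 (iv3 F424775)
theorem F441207 : act 6 n206530 = n197774 := d7_2 F398764 D206530 (iv3 F405726)
theorem F441208 : act 0 n196416 = n206530 := d21_4 F330465 D109179 F358803 D196416 F441207 F405725 (iv1 F172829) D140690 (iv6 F351102) (iv1 F201813)
theorem F441209 : act 0 n206530 = n196623 := d21_4 F331101 (iv1 F172830) (iv5 F405725) (iv6 F441207) (iv6 D196623) F331803 (iv1 F223744) (iv5 D140650) (iv6 F351095) (iv1 F331100)
def n206531 : Q := act 0 n128804
theorem D206531 : act 0 n128804 = n206531 := rfl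
def n206532 : Q := act 1 n128804
theorem D206532 : act 1 n128804 = n206532 := rfl
def n206533 : Q := act 2 n128804
theorem D206533 : act 2 n128804 = n206533 := rfl
theorem F441210 : act 6 n206533 = n128807 := d3_2 (iv6 F207060) D206533 (iv2 D128807)
def n206534 : Q := act 4 n128805
theorem D206534 : act 4 n128805 = n206534 := rfl
def n206535 : Q := act 4 n128806
theorem D206535 : act 4 n128806 = n206535 := rfl
theorem F441211 : act 3 n206535 = n136364 := d5_1 D206535 F313704 F201252 (iv4 F314352) F247374
theorem F441212 : act 5 n136645 = n206535 := d6_0 F441211 (iv5 F219678) D136645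
theorem F441213 : act 6 n187714 = n206535 := d7_0 F441211 F427857 (iv3 F427864)
theorem F441214 : act 2 n206535 = n193856 := d3_1 F441213 (iv6 D193856) F371295
theorem F441215 : act 4 n193856 = n144318 := d1_2 D206535 F441214 (iv2 F404451)
theorem F441216 : act 6 n144318 = n193855 := d10_2 D193856 F441215 (iv4 D193855)
theorem F441217 : act 7 n206534 = n193856 := d11_0 F441215 (iv7 F404452) D206534
def n206536 : Q := act 6 n128806
theorem D206536 : act 6 n128806 = n206536 := rfl
theorem F441218 : act 2 n206536 = n193855 := d3_1 D206536 (iv6 F441216) (iv2 F404451)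
theorem F441219 : act 3 n206536 = n153456 := d7_1 D206536 (iv6 F314353) F247374
theorem F441220 : act 4 n206536 = n187714 := d10_1 D206536 F441213 (iv4 D206535)
theorem F441221 : act 0 n206536 = n193222 := d21_10 (iv5 F401663) F411289 (iv5 D199241) (iv6 D111105) (iv1 F80829) (iv6 F92850) D125511 D205130 F435081 D206536
theorem F441222 : act 7 n153691 = n206536 := d11_0 F441220 F371297 (iv4 F363853)
theorem F441223 : act 0 n193105 = n206536 := d18_2 (iv1 D193104) D193105 F441220 F371298 D191863 F384611 F377104 F371145 F388763
def n206537 : Q := act 5 n128807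
theorem D206537 : act 5 n128807 = n206537 := rfl
theorem F441224 : act 2 n206537 = n128808 := d2_1 D206537 (iv5 D128808) D128807
theorem F441225 : act 3 n206537 = n205050 := d6_1 D206537 (iv5 F434783) F227024
theorem F441226 : act 7 n206537 = n205120 := d13_2 F227048 D206537 F435057
theorem F441227 : act 4 n198628 = n206537 := d11_3 F441226 F435056 F408620
theorem F441228 : act 1 n205110 = n206537 := d15_1 (iv0 F435016) F441226 (iv2 F435058)
theorem F441229 : act 1 n206537 = n194986 := d15_1 F441228 F395308 (iv2 F435013)
theorem F441230 : act 6 n205048 = n206537 := d7_0 F441225 (iv6 D205050) D205048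
def n206538 : Q := act 6 n128808
theorem D206538 : act 6 n128808 = n206538 := rfl
theorem F441231 : act 2 n206538 = n205048 := d3_1 D206538 F441230 F441224
theorem F441232 : act 3 n206538 = n128809 := d7_1 D206538 (iv6 D128809) (iv3 F207061)
theorem F441233 : act 0 n206538 = n194880 := d21_4 F435081 (iv1 D128806) D128808 D206538 (iv6 F407268) (iv5 F410776) (iv1 F410780) D199188 F411087 D205130
def n206539 : Q := act 1 n128809
theorem D206539 : act 1 n128809 = n206539 := rfl
theorem F441234 : act 1 n206539 = n205052 := d15_1 D206539 F434789 F227027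
theorem F441235 : act 7 n206539 = n196884 := d15_2 (iv0 F411361) D206539 (iv2 F411359)
theorem F441236 : act 5 n141963 = n206539 := d21_6 F398672 (iv1 F163643) D107205 (iv6 F382003) (iv1 D141960) D141963 (iv1 D206539) (iv5 F401472) (iv6 D196682) (iv1 F398675)
theorem F441237 : act 2 n206539 = n203680 := d2_1 F441236 (iv5 F429390) F360080
theorem F441238 : act 3 n206539 = n140487 := d6_1 F441236 F337416 (iv3 F225008)
theorem F441239 : act 6 n199422 = n206539 := d21_5 (iv5 F412284) (iv1 F412291) (iv5 D111342) D111343 F412121 (iv5 F441236) F404513 (iv5 F412355) (iv6 D199488) F409170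
def n206540 : Q := act 7 n128809
theorem D206540 : act 7 n128809 = n206540 := rfl
theorem F441240 : act 2 n206540 = n205052 := d4_1 D206540 F434789 F227027
theorem F441241 : act 1 n203680 = n206540 := d15_1 F429389 (iv7 D206540) (iv2 F227027)
theorem F441242 : act 1 n206540 = n196884 := d15_1 F441241 (iv7 F441235) F441237
theorem F441243 : act 5 n140530 = n206540 := d21_0 (iv1 F441241) (iv5 F429390) F360086 (iv1 F424717) (iv6 D202605) F331553 F331562 (iv5 D65953) D65954 D140530
theorem F441244 : act 7 n196682 = n140530 := d13_0 F441243 (iv7 D206540) (iv5 F401472)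
def n206541 : Q := act 4 n128810
theorem D206541 : act 4 n128810 = n206541 := rfl
theorem F441245 : act 2 n206541 = n128910 := d1_1 D206541 F207143 (iv2 F354760)
theorem F441246 : act 3 n206541 = n200618 := d5_1 D206541 (iv4 F437768) (iv3 D205763) D205764 F437774
theorem F441247 : act 5 n206541 = n191802 := d9_2 F354759 D206541 (iv4 D191802) (iv5 D98945) (iv4 D46294) D46295 D98950 (iv5 F354667) (iv4 F440830) (iv5 F440831) (iv4 D191813) (iv5 D98965) (iv4 D46299) D46300 D98967
theorem F441248 : act 7 n206541 = n129004 := d11_2 (iv7 F354761) D206541 F207255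
theorem F441249 : act 0 n206541 = n129006 := d17_0 (iv5 F416973) (iv1 F416977) D200794 F417929 (iv5 D188180) (iv0 D91028) (iv5 F324641) F207062 D206541
theorem F441250 : act 1 n206541 = n128978 := d18_6 (iv1 F287083) (iv4 D179776) (iv1 F286851) D98967 F354759 D206541 (iv4 F207230) D135296 (iv5 F352564)
def n206542 : Q := act 6 n128810
theorem D206542 : act 6 n128810 = n206542 := rfl
theorem F441251 : act 2 n206542 = n135093 := d3_1 D206542 (iv6 D135093) (iv2 F354760)
theorem F441252 : act 0 n135205 = n206542 := d21_4 F367696 (iv1 F384100) (iv5 D191670) F383740 (iv6 D206542) (iv5 F354759) (iv1 F357791) (iv5 F404655) F404656 F367698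
def n206543 : Q := act 3 n128811
theorem D206543 : act 3 n128811 = n206543 := rfl
theorem F441253 : act 2 n206543 = n135113 := d0_1 D206543 (iv3 F437750) F437752 (iv3 D135087) (iv2 F354666)
theorem F441254 : act 5 n206543 = n146916 := d6_2 (iv5 F354667) D206543 (iv3 F354741)
theorem F441255 : act 6 n206543 = n146919 := d7_2 F354691 D206543 (iv3 F354726)
theorem F441256 : act 7 n206543 = n135091 := d8_2 (iv7 F354668) D206543 (iv3 D135091)
theorem F441257 : act 0 n206543 = n135114 := d20_4 F347402 F440833 F440830 D206543 F363949 F362904 (iv1 F217215) (iv4 D134986) D134985 (iv1 F332708)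
theorem F441258 : act 0 n135117 = n206543 := d20_4 F98954 D132840 F213370 (iv3 F217334) (iv3 D206543) (iv4 F440830) (iv1 F440832) (iv4 F207230) (iv3 D63607) D63605
def n206544 : Q := act 4 n128822
theorem D206544 : act 4 n128822 = n206544 := rfl
theorem F441259 : act 2 n206544 = n135687 := d1_1 D206544 (iv4 D135687) (iv2 F330437)
theorem F441260 : act 3 n206544 = n195797 := d5_1 D206544 F398223 (iv3 D106635) D106636 (iv3 F207087)
theorem F441261 : act 5 n206544 = n195728 := d9_2 (iv5 F330438) D206544 F397965 F333461 (iv4 D78564) D78565 (iv4 F330430) (iv5 F330435) (iv4 F437522) F437518 F395886 F341951 (iv4 D78567) D78568 (iv4 F327889)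
theorem F441262 : act 7 n206544 = n135682 := d11_2 (iv7 F330439) D206544 (iv4 D135682)
theorem F441263 : act 0 n206544 = n163484 := d18_2 D128822 D206544 (iv4 D163484) (iv5 D78561) F56456 D35790 D78567 F296433 (iv5 F330394)
theorem F441264 : act 1 n206544 = n135745 := d18_6 D180133 F333465 (iv1 F257772) (iv4 F327889) (iv5 F330438) D206544 (iv4 F218452) (iv0 D135816) (iv5 F330406)
def n206545 : Q := act 6 n128822
theorem D206545 : act 6 n128822 = n206545 := rfl
theorem F441265 : act 2 n206545 = n135689 := d3_1 D206545 (iv6 D135689) (iv2 F330437)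
theorem F441266 : act 3 n206545 = n191676 := d7_1 D206545 F399370 (iv3 F207087)
theorem F441267 : act 5 n206545 = n200828 := d12_1 D206545 F418085 F341974 (iv6 F327890) (iv5 F330438)
theorem F441268 : act 0 n128898 = n206545 := d20_4 (iv4 F99169) (iv1 F99172) F173729 D128898 F441266 (iv4 F399369) (iv1 F399378) (iv4 F360390) (iv3 F360389) F202100
def n206546 : Q := act 3 n128823
theorem D206546 : act 3 n128823 = n206546 := rfl
theorem F441269 : act 2 n206546 = n196080 := d0_1 D206546 (iv3 D196080) (iv2 F330444) (iv3 D135681) (iv2 F330434)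
theorem F441270 : act 5 n206546 = n205480 := d6_2 (iv5 F330435) D206546 (iv3 D205480)
theorem F441271 : act 7 n206546 = n135686 := d8_2 (iv7 F330436) D206546 (iv3 D135686)
theorem F441272 : act 0 n206546 = n130226 := d20_4 D163484 (iv1 F437523) F437522 D206546 (iv3 D130226) F95644 (iv1 F315352) F315355 (iv3 F207222) F330407
theorem F441273 : act 0 n128872 = n206546 := d20_4 F417214 (iv1 F364858) (iv4 D128873) D128872 (iv3 D206546) (iv4 F437522) F437521 (iv4 F218452) F347552 F417217
theorem F441274 : act 6 n206546 = n198930 := d21_5 (iv5 F419573) F419574 F363067 F342928 F441273 (iv5 F433979) (iv1 D204876) F326810 (iv6 F399840) (iv1 F417914)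
def n206547 : Q := act 6 n128823
theorem D206547 : act 6 n128823 = n206547 := rfl
theorem F441275 : act 2 n206547 = n135684 := d3_1 D206547 (iv6 D135684) (iv2 F330434)
theorem F441276 : act 3 n206547 = n198930 := d7_1 D206547 (iv6 F441274) (iv3 D206546)
theorem F441277 : act 4 n206547 = n195751 := d10_1 D206547 (iv6 F437519) F437522
theorem F441278 : act 0 n195762 = n206547 := d21_4 D200984 F418624 (iv5 D195761) D195762 (iv6 D206547) F330435 (iv1 F202830) F330428 (iv6 F328041) F177052
theorem F441279 : act 0 n206547 = n128854 := d20_7 (iv4 F203336) (iv1 F203337) F202589 (iv3 F327998) D148773 (iv3 F406148) (iv4 F441277) (iv4 F218009) (iv3 D135569) F100273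
def n206548 : Q := act 6 n128827
theorem D206548 : act 6 n128827 = n206548 := rfl
theorem F441280 : act 3 n206548 = n128830 := d7_1 D206548 (iv6 D128830) D128827
theorem F441281 : act 4 n206548 = n197973 := d10_1 D206548 (iv6 D197973) (iv4 F207095)
theorem F441282 : act 0 n138064 = n206548 := d21_4 (iv5 D126382) F176604 F176605 D138064 (iv6 D206548) (iv5 F441130) F441132 (iv5 F380861) F380862 (iv1 F220882)
def n206549 : Q := act 3 n128828
theorem D206549 : act 3 n128828 = n206549 := rfl
theorem F441283 : act 2 n206549 = n199572 := d0_1 D206549 (iv3 D199572) F355032 D134985 (iv2 F355053)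
theorem F441284 : act 4 n206549 = n197972 := d5_2 D128828 D206549 (iv3 D197972) (iv4 F207095) (iv3 D128827)
theorem F441285 : act 0 n206549 = n134061 := d20_10 (iv4 D134061) (iv1 D62971) (iv4 F48091) (iv3 D29926) F46410 D60579 F95195 D60587 D128828 D206549
theorem F441286 : act 0 n134056 = n206549 := d18_2 D62970 D134056 F441284 F406337 (iv4 F377404) (iv0 D114940) (iv4 F179019) F377405 (iv5 D62973)
def n206550 : Q := act 6 n128828
theorem D206550 : act 6 n128828 = n206550 := rfl
theorem F441287 : act 4 n206550 = n128830 := d10_1 D206550 (iv6 D128830) D128828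
def n206551 : Q := act 5 n128830
theorem D206551 : act 5 n128830 = n206551 := rfl
theorem F441288 : act 2 n206551 = n191644 := d2_1 D206551 (iv5 F396083) (iv2 F396085)
theorem F441289 : act 6 n206551 = n180366 := d12_2 D128830 D206551 (iv5 D180366) (iv6 F333041) F333040
theorem F441290 : act 7 n206551 = n191645 := d13_2 (iv7 F354707) D206551 F440834
theorem F441291 : act 0 n206551 = n191647 := d21_1 D206551 F384044 (iv6 F417846) F417848 (iv6 D113488) (iv5 D52385) D52381 (iv5 F161561) F365452 (iv1 F399266)
theorem F441292 : act 0 n186724 = n206551 := d21_1 F384029 (iv5 D206551) (iv6 D128830) (iv1 F325741) (iv6 D98634) (iv5 D46108) D46105 (iv5 F72712) D96163 D190558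
theorem F441293 : act 4 n206551 = n191701 := d18_1 F441292 (iv1 F384204) F368083 F383724 (iv4 D190565) F367865 F367862 F380144 F384029
theorem F441294 : act 5 n194779 = n191427 := d19_5 (iv1 F399266) D206551 F441293 F384202 (iv1 F394437) (iv4 D191427) F151772 D98363 F343483 (iv4 F305422) (iv3 D80378) D80376 F305443 F96805 (iv3 F164069) F96588 (iv5 D62001) D62000 D132161
def n206552 : Q := act 2 n128832
theorem D206552 : act 2 n128832 = n206552 := rfl
theorem F441295 : act 3 n206552 = n130231 := d0_2 D128832 D206552 F355041 F216265 F355037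
theorem F441296 : act 4 n206552 = n131938 := d1_2 F399953 D206552 (iv2 F399952)
theorem F441297 : act 6 n206552 = n196219 := d3_2 F354702 D206552 F399952
theorem F441298 : act 7 n206552 = n196079 := d4_2 F435626 D206552 (iv2 F435625)
theorem F441299 : act 1 n206552 = n196083 := d15_0 (iv0 F435627) F435626 D206552
theorem F441300 : act 1 n135681 = n206552 := d15_0 F441299 (iv7 D196083) (iv2 F330444)
def n206553 : Q := act 3 n128839
theorem D206553 : act 3 n128839 = n206553 := rfl
theorem F441301 : act 2 n206553 = n198243 := d0_1 D206553 F407327 (iv2 F359777) F359778 F333044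
theorem F441302 : act 4 n206553 = n197767 := d5_2 (iv4 F333042) D206553 F405692 (iv4 F368586) (iv3 F303270)
theorem F441303 : act 5 n206553 = n206421 := d6_2 F339370 D206553 (iv3 D206421)
theorem F441304 : act 6 n206553 = n197766 := d7_2 F416655 D206553 (iv3 F416654)
theorem F441305 : act 7 n206553 = n206506 := d8_2 F333055 D206553 F441125
theorem F441306 : act 0 n206553 = n196081 := d19_4 (iv1 F128620) (iv5 F303271) (iv4 F333042) D206553 (iv5 D196081) (iv4 D106631) D106630 F399238 (iv5 D196052) F164151 (iv3 F112349) (iv1 F319885) (iv5 F387821) (iv4 F387820) F366730 (iv1 F153024) F74096 (iv4 F59353) (iv3 F128618)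
theorem F441307 : act 0 n196090 = n206553 := d20_4 F333465 (iv1 F257772) (iv4 F327889) (iv3 F399371) (iv3 D206553) F333042 (iv1 D158424) (iv4 F326206) F326205 D180133
def n206554 : Q := act 0 n128844
theorem D206554 : act 0 n128844 = n206554 := rfl
theorem F441308 : act 5 n206554 = n131832 := d17_3 (iv1 D128843) D128844 D206554 F352506 (iv5 D89185) F64283 (iv5 F74497) F136887 F361727
theorem F441309 : act 4 n206554 = n178174 := d18_1 D206554 (iv1 D178174) F302831 (iv5 F361241) (iv4 D89189) D89188 (iv4 F345246) (iv0 D128842) D128844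
theorem F441310 : act 2 n191574 = n206554 := d15_3 (iv0 D206554) F347464 (iv7 F383882)
theorem F441311 : act 1 n186699 = n206554 := d15_0 (iv0 D206554) (iv7 F361718) (iv2 F367719)
theorem F441312 : act 7 n206554 = n191573 := d15_2 (iv0 F367723) F441311 (iv2 F383880)
def n206555 : Q := act 0 n128854
theorem D206555 : act 0 n128854 = n206555 := rfl
theorem F441313 : act 4 n206555 = n195121 := d20_8 (iv4 F94224) (iv1 F362101) F164149 F99131 (iv1 F100274) D135569 F218009 D206555 (iv3 D195121) (iv1 D105303)
theorem F441314 : act 1 n195762 = n206555 := d15_0 (iv0 D206555) (iv7 F418942) F418939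
theorem F441315 : act 7 n206555 = n135684 := d15_2 (iv0 F441278) F441314 (iv2 F441275)
def n206556 : Q := act 2 n128854
theorem D206556 : act 2 n128854 = n206556 := rfl
theorem F441316 : act 4 n206556 = n135824 := d1_2 F218009 D206556 (iv2 F371510)
theorem F441317 : act 6 n206556 = n196229 := d3_2 F211492 D206556 (iv2 F422232)
theorem F441318 : act 7 n206556 = n195762 := d4_2 F418942 D206556 (iv2 F418939)
theorem F441319 : act 1 n206556 = n135684 := d15_0 (iv0 F418943) F418942 D206556
def n206557 : Q := act 0 n128855
theorem D206557 : act 0 n128855 = n206557 := rfl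
theorem F441320 : act 5 n206557 = n129187 := d17_3 D60595 D128855 D206557 (iv4 D129187) (iv5 F172058) (iv0 F172060) (iv5 D60602) (iv0 D28775) (iv4 F46417)
theorem F441321 : act 4 n206557 = n174668 := d18_1 D206557 (iv1 D174668) (iv4 F358212) F358213 (iv4 D60605) F95076 (iv4 F206863) F206866 D128855
theorem F441322 : act 1 n128857 = n206557 := d15_0 (iv0 D206557) (iv7 F440737) F440734
theorem F441323 : act 3 n200765 = n206557 := d19_19 (iv1 F441322) (iv5 D128857) F99163 F168194 (iv1 D63707) (iv5 F48647) (iv4 F93863) F330931 (iv1 F128540) (iv5 F298350) (iv4 D121959) (iv3 F296907) F116109 F61004 (iv4 F297293) D180024 (iv1 F356016) (iv5 F435743) F435742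
def n206558 : Q := act 1 n128855
theorem D206558 : act 1 n128855 = n206558 := rfl
theorem F441324 : act 1 n206558 = n128857 := d15_1 D206558 (iv7 F394535) F394537
theorem F441325 : act 5 n206558 = n129185 := d17_7 D62603 D133386 F214445 F176556 (iv4 F168195) D128855 D206558 F211198 (iv4 D62605)
theorem F441326 : act 4 n206558 = n174667 := d18_7 F381278 (iv4 F381277) (iv1 F425579) F425582 (iv5 F394558) F394557 D206558 (iv0 D174667) D174670
theorem F441327 : act 3 n204902 = n206558 := d20_3 F202060 F409651 (iv4 F434086) (iv1 D206558) (iv3 F395577) F433878 (iv1 F433194) (iv4 F433876) F433875 F332210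
def n206559 : Q := act 1 n128856
theorem D206559 : act 1 n128856 = n206559 := rfl
theorem F441328 : act 7 n206559 = n205569 := d15_2 (iv0 F400039) D206559 F437025
theorem F441329 : act 3 n157809 = n206559 := d20_3 F267339 D190718 (iv4 F395409) (iv1 D206559) (iv3 D128856) F99163 (iv1 D63051) (iv4 F95084) (iv3 F206886) F364716
def n206560 : Q := act 2 n128856
theorem D206560 : act 2 n128856 = n206560 := rfl
theorem F441330 : act 3 n206560 = n195762 := d0_2 D128856 D206560 (iv2 F418939) F418940 (iv2 F206860)
theorem F441331 : act 5 n206560 = n190587 := d2_2 (iv5 F362290) D206560 F380226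
theorem F441332 : act 6 n206560 = n195760 := d21_9 (iv5 D205422) (iv1 F202414) F362930 (iv6 F397695) (iv1 F397696) D201703 F421477 (iv1 F380227) (iv5 F441331) F436343
theorem F441333 : act 0 n206560 = n205569 := d20_4 (iv4 F361247) (iv1 F418930) F418928 (iv3 F441330) F437026 (iv4 F395413) (iv1 D183500) (iv4 F285244) (iv3 F395406) (iv1 D193368)
def n206561 : Q := act 6 n128856
theorem D206561 : act 6 n128856 = n206561 := rfl
theorem F441334 : act 2 n206561 = n195760 := d3_1 D206561 (iv6 F441332) (iv2 D206560)
theorem F441335 : act 3 n206561 = n128858 := d7_1 D206561 (iv6 D128858) D128856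
theorem F441336 : act 7 n206561 = n205322 := d14_2 F394539 D206561 F435933 (iv7 F359008) F394541
theorem F441337 : act 5 n205323 = n206561 := d13_3 F441336 (iv5 D205322) D205323
theorem F441338 : act 0 n205408 = n206561 := d20_4 F285247 D183509 (iv4 F434827) F436338 F441335 (iv4 F214402) F214404 D141285 (iv3 F360186) F360194
theorem F441339 : act 0 n206561 = n205406 := d19_4 D62587 D133351 F214402 (iv3 F441335) (iv5 D205406) (iv4 F395518) D200569 F436149 F436146 (iv4 F436147) (iv3 F437984) (iv1 F437987) D205907 F438370 (iv3 D195418) (iv1 D105574) D105576 F342914 F97590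
def n206562 : Q := act 3 n128860
theorem D206562 : act 3 n128860 = n206562 := rfl
theorem F441340 : act 4 n206562 = n187284 := d5_2 F363902 D206562 F369700 F340356 D104685
theorem F441341 : act 5 n206562 = n206529 := d6_2 F207114 D206562 F441201
theorem F441342 : act 6 n206562 = n205363 := d7_2 F395713 D206562 (iv3 F436084)
theorem F441343 : act 0 n206562 = n176680 := d20_4 (iv4 F394881) (iv1 D194890) F363902 D206562 F276055 (iv4 D161099) F116111 (iv4 F119764) (iv3 F341769) F207414
theorem F441344 : act 0 n194499 = n206562 := d17_0 F441341 F441203 F421477 F380155 (iv5 F353176) (iv0 F353183) (iv5 F160340) (iv0 F350465) D194499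
theorem F441345 : act 5 n206559 = n194499 := d18_9 F441344 F441340 (iv1 F369703) D190599 (iv5 F436375) F436374 (iv0 F437299) F437297 D206559
def n206563 : Q := act 0 n128861
theorem D206563 : act 0 n128861 = n206563 := rfl
theorem F441346 : act 4 n206563 = n128942 := d18_3 (iv1 D128860) D128861 D206563 F207166 F96408 D61849 D131808 F211205 F207114
theorem F441347 : act 3 n206563 = n162666 := d20_5 F352059 (iv1 F199394) D178186 F347468 D206563 F256904 (iv1 F340266) (iv4 F378108) F378107 (iv1 F160690)
theorem F441348 : act 2 n162554 = n206563 := d15_3 (iv0 D206563) (iv0 F347470) (iv7 F363246)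
theorem F441349 : act 6 n206563 = n166670 := d3_2 (iv6 F256789) F441348 (iv2 D166670)
def n206564 : Q := act 7 n128861
theorem D206564 : act 7 n128861 = n206564 := rfl
theorem F441350 : act 3 n206564 = n204896 := d8_1 D206564 F434060 F347468
theorem F441351 : act 4 n206564 = n128862 := d11_1 D206564 (iv7 D128862) D128861
theorem F441352 : act 5 n206564 = n144101 := d13_1 D206564 (iv7 F381280) F381276
theorem F441353 : act 0 n162554 = n206564 := d18_2 (iv1 F207415) F341770 F441351 F207115 F95219 F168072 D62237 (iv0 F168314) D128615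
def n206565 : Q := act 1 n128872
theorem D206565 : act 1 n128872 = n206565 := rfl
theorem F441354 : act 7 n206565 = n196080 := d15_2 (iv0 F441273) D206565 (iv2 F441269)
theorem F441355 : act 3 n196083 = n206565 := d20_3 F95096 (iv1 F330447) (iv4 F399349) (iv1 D206565) (iv3 D128872) D128873 (iv1 F398209) (iv4 F419243) (iv3 F419244) F358349
theorem F441356 : act 4 n136335 = n206565 := d20_6 (iv4 D115140) D115137 (iv4 F208174) (iv3 F212744) (iv1 F212748) D136335 (iv1 D206565) (iv4 F347621) F203445 (iv1 F326947)
theorem F441357 : act 0 n206446 = n136335 := d20_10 F441356 (iv1 D206565) (iv4 F347621) F203445 (iv1 F326947) D201859 (iv4 F437432) F437781 F437780 (iv3 F440847)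
theorem F441358 : act 0 n130226 = n206565 := d20_1 (iv4 F208748) (iv4 F441356) (iv3 D136335) (iv1 D64097) (iv3 D30209) (iv4 D14339) D14337 D30207 (iv3 F95235) D128922
theorem F441359 : act 0 n136335 = n206444 := d20_7 (iv4 F207230) F217213 F217212 D205255 F435627 F441355 (iv4 F441356) (iv4 D206444) D206443 (iv1 F440832)
theorem F441360 : act 2 n135686 = n206565 := d15_3 (iv0 F441358) (iv0 F441272) F441271
def n206566 : Q := act 2 n128872
theorem D206566 : act 2 n128872 = n206566 := rfl
theorem F441361 : act 3 n206566 = n130197 := d0_2 D128872 D206566 F208709 (iv3 F207736) F207735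
theorem F441362 : act 4 n206566 = n132587 := d1_2 F347621 D206566 F366063
theorem F441363 : act 6 n206566 = n196200 := d3_2 F342928 D206566 F399848
theorem F441364 : act 7 n206566 = n130226 := d4_2 F419173 D206566 (iv2 F419170)
theorem F441365 : act 1 n206566 = n135686 := d15_0 (iv0 F436371) F419173 D206566
theorem F441366 : act 1 n196080 = n206566 := d15_0 F441365 (iv7 F441271) F441269
def n206567 : Q := act 4 n128881
theorem D206567 : act 4 n128881 = n206567 := rfl
theorem F441367 : act 2 n206567 = n128885 := d1_1 D206567 (iv4 D128885) (iv2 F207124)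
theorem F441368 : act 3 n206567 = n198709 := d5_1 D206567 F408953 F200754 (iv4 F270671) (iv3 F362247)
theorem F441369 : act 6 n206567 = n206564 := d10_2 F362248 D206567 F441351
theorem F441370 : act 7 n206567 = n189836 := d11_2 F362249 D206567 F377933
theorem F441371 : act 0 n206567 = n206144 := d17_0 (iv5 F440639) (iv1 F440641) F439001 (iv4 D128780) (iv5 D60565) D60563 D128774 (iv0 F362250) D206567
theorem F441372 : act 1 n206567 = n198635 := d18_6 (iv1 D201142) F177315 (iv1 F347546) F347549 D128881 D206567 F408644 D205318 F435923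
def n206568 : Q := act 3 n128883
theorem D206568 : act 3 n128883 = n206568 := rfl
theorem F441373 : act 2 n206568 = n205526 := d0_1 D206568 F436842 (iv2 F355969) F354369 F362261
theorem F441374 : act 4 n206568 = n194992 := d5_2 (iv4 F362266) D206568 (iv3 D194992) (iv4 D104848) D104847
theorem F441375 : act 5 n206568 = n206416 := d6_2 (iv5 F362262) D206568 (iv3 D206416)
theorem F441376 : act 6 n206568 = n199179 := d7_2 F417442 D206568 (iv3 F417440)
theorem F441377 : act 7 n206568 = n206517 := d8_2 (iv7 F362263) D206568 F441165
theorem F441378 : act 0 n206568 = n205480 := d20_4 (iv4 F395323) (iv1 D194989) (iv4 F362266) D206568 (iv3 D205480) F330430 D163491 (iv4 F333465) F333468 F333469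
def n206569 : Q := act 5 n128885
theorem D206569 : act 5 n128885 = n206569 := rfl
theorem F441379 : act 7 n206569 = n191223 := d13_2 F440723 D206569 (iv5 F440724)
theorem F441380 : act 0 n206396 = n206569 := d19_0 (iv5 D206569) (iv4 D128885) F95225 (iv1 F95214) F95216 (iv4 D49421) F48282 (iv1 F48280) (iv5 D14264) F22515 (iv3 D6632) (iv1 D2973) D2974 D6637 D13963 D29351 D61973 D132081 (iv3 F440580)
def n206570 : Q := act 6 n128885
theorem D206570 : act 6 n128885 = n206570 := rfl
theorem F441381 : act 2 n206570 = n206564 := d3_1 D206570 (iv6 F441369) F441367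
theorem F441382 : act 3 n206570 = n194971 := d7_1 D206570 (iv6 F395243) F207153
theorem F441383 : act 4 n206570 = n128886 := d10_1 D206570 (iv6 D128886) D128885
theorem F441384 : act 7 n206570 = n189834 := d14_2 F440723 D206570 (iv6 D189834) (iv7 F374551) (iv6 F440722)
theorem F441385 : act 5 n206570 = n202788 := d21_6 (iv5 D195542) F162264 D128566 (iv6 F440632) F440634 D206570 (iv1 F425724) (iv5 D174670) (iv6 F326390) (iv1 F397293)
theorem F441386 : act 0 n206563 = n206570 := d17_0 F441385 (iv1 F425724) (iv5 D174670) (iv4 F358212) F358213 F206894 (iv5 F440823) F440826 (iv4 F441346)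
theorem F441387 : act 1 n186297 = n206570 := d18_8 (iv1 F425724) (iv4 F425722) (iv1 F425723) F381683 (iv5 F381684) (iv4 D128944) D128943 F341767 F441385
def n206571 : Q := act 0 n128895
theorem D206571 : act 0 n128895 = n206571 := rfl
theorem F441388 : act 3 n206571 = n130308 := d20_5 F95090 F82732 (iv4 F165618) D128895 D206571 F208841 (iv1 F334286) (iv4 F213122) (iv3 D132745) (iv1 F164029)
theorem F441389 : act 7 n130302 = n206571 := d8_0 F441388 (iv7 D130308) (iv3 F208837)
def n206572 : Q := act 2 n128895
theorem D206572 : act 2 n128895 = n206572 := rfl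
theorem F441390 : act 1 n206572 = n130302 := d15_0 (iv0 F435624) F435623 D206572
def n206573 : Q := act 5 n128895
theorem D206573 : act 5 n128895 = n206573 := rfl
theorem F441391 : act 3 n206573 = n128896 := d6_1 D206573 (iv5 D128896) D128895
def n206574 : Q := act 2 n128898
theorem D206574 : act 2 n128898 = n206574 := rfl
theorem F441392 : act 4 n206574 = n135836 := d1_2 F216462 D206574 F364367
theorem F441393 : act 6 n206574 = n196223 := d3_2 F211434 D206574 (iv2 F399967)
theorem F441394 : act 1 n135689 = n206574 := d17_8 (iv1 D135836) D135837 F374938 F365568 (iv4 F398798) (iv5 F418091) F418093 (iv5 F354365) F441392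
def n206575 : Q := act 5 n128898
theorem D206575 : act 5 n128898 = n206575 := rfl
theorem F441395 : act 3 n206575 = n128899 := d6_1 D206575 (iv5 D128899) D128898
theorem F441396 : act 6 n195856 = n206575 := d7_0 F441395 F349626 D195856
def n206576 : Q := act 5 n128904
theorem D206576 : act 5 n128904 = n206576 := rfl
theorem F441397 : act 3 n206576 = n128905 := d6_1 D206576 (iv5 D128905) D128904
theorem F441398 : act 7 n206576 = n201686 := d13_2 F213124 D206576 F421372
theorem F441399 : act 4 n206576 = n197019 := d16_2 (iv4 F207138) D206576 (iv5 F402708) F378597 F364274 F261154 F333902 (iv7 F333904) (iv2 D129952)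
theorem F441400 : act 0 n190553 = n206576 := d19_0 (iv5 D206576) F207138 (iv3 D61036) F79885 (iv5 F322034) (iv4 D35882) F296308 F296047 F295938 F30574 F17583 (iv1 F16882) (iv5 F7521) D11090 (iv3 F292471) D44873 (iv5 F70511) D96160 D190553
def n206577 : Q := act 5 n128907
theorem D206577 : act 5 n128907 = n206577 := rfl
theorem F441401 : act 2 n206577 = n196112 := d2_1 D206577 (iv5 F440921) F440924
theorem F441402 : act 3 n206577 = n128908 := d6_1 D206577 (iv5 D128908) D128907
theorem F441403 : act 7 n206577 = n189807 := d13_2 F360391 D206577 F377812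
theorem F441404 : act 4 n206577 = n189897 := d16_6 (iv4 F286050) (iv5 F405661) F405660 F360394 F211504 D206577 (iv5 F394242) (iv7 D194720) F159727
theorem F441405 : act 1 n206577 = n196114 := d17_8 F332741 (iv5 F159435) (iv1 F386129) (iv5 F395425) (iv4 F417164) (iv5 F440903) F440906 D206577 F399484
theorem F441406 : act 0 n206577 = n196111 := d18_0 F399459 F332743 (iv4 F332739) F152083 F295373 D182510 (iv4 F440902) F440906 D206577
theorem F441407 : act 6 n195243 = n206577 := d10_0 F441404 F378149 (iv4 F396439)
def n206578 : Q := act 6 n128910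
theorem D206578 : act 6 n128910 = n206578 := rfl
theorem F441408 : act 3 n206578 = n128913 := d7_1 D206578 (iv6 D128913) D128910
theorem F441409 : act 4 n206578 = n135093 := d10_1 D206578 (iv6 D135093) (iv4 F207143)
theorem F441410 : act 5 n206578 = n191649 := d12_1 D206578 F384050 (iv5 D180351) (iv6 F345751) F345750
theorem F441411 : act 0 n206503 = n206578 := d21_10 F441410 (iv1 F384053) F383724 F383723 (iv1 D191540) D191542 F383727 F395685 (iv5 F417326) (iv6 F441116)
def n206579 : Q := act 0 n128911
theorem D206579 : act 0 n128911 = n206579 := rfl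
theorem F441412 : act 4 n206579 = n135686 := d18_1 D206579 (iv1 F441365) F441362 F421772 (iv4 D201777) (iv0 D115055) (iv4 F179167) D201773 (iv5 F421756)
theorem F441413 : act 1 n128916 = n206579 := d15_0 (iv0 D206579) (iv7 F440837) F440835
theorem F441414 : act 3 n200992 = n206579 := d19_19 (iv1 F441413) (iv5 F421754) F421753 F399028 (iv1 F399632) F399629 (iv4 F399223) F399222 F211511 F96579 (iv4 F99049) (iv3 D63701) F48311 D60694 F326331 F82893 D52506 D113719 D200992
theorem F441415 : act 2 n206579 = n136335 := d0_1 F441414 (iv3 D136335) (iv2 F330452) (iv3 F437527) F437524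
def n206580 : Q := act 1 n128911
theorem D206580 : act 1 n128911 = n206580 := rfl
theorem F441416 : act 1 n206580 = n128916 := d15_1 D206580 (iv7 F440846) F440845
theorem F441417 : act 7 n206580 = n136335 := d15_2 (iv0 D206579) D206580 (iv2 F441415)
theorem F441418 : act 4 n196080 = n206580 := d20_0 (iv1 D206580) (iv4 D128911) D128910 F218460 (iv3 D60658) D60659 (iv1 F207727) F208708 (iv3 F441361) (iv1 F441366)
theorem F441419 : act 3 n132536 = n206580 := d20_9 (iv4 D128911) (iv1 F206899) (iv4 F396497) F396496 F396472 (iv3 F400079) (iv4 F400078) (iv1 D196077) F212742 (iv1 D206580)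
theorem F441420 : act 5 n188915 = n206580 := d17_5 D115055 D201778 F421777 (iv5 D188919) (iv4 F375191) F441416 (iv5 F421754) (iv0 D201772) F179167
def n206581 : Q := act 3 n128911
theorem D206581 : act 3 n128911 = n206581 := rfl
theorem F441421 : act 4 n206581 = n135091 := d5_2 D128911 D206581 (iv3 D135091) (iv4 F207143) (iv3 D128910)
theorem F441422 : act 0 n206581 = n197525 := d20_4 (iv4 D60631) D60628 D128911 D206581 F404697 (iv4 F347618) F347601 F203452 (iv3 F203445) F347620
theorem F441423 : act 0 n197524 = n176075 := d20_4 (iv4 F441421) F441422 (iv4 D197525) D197524 (iv3 F364847) (iv4 D129991) (iv1 F213145) F213147 D63502 (iv1 F218461)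
theorem F441424 : act 1 n197524 = n201854 := d15_1 (iv0 F441423) F422078 (iv2 F364848)
theorem F441425 : act 0 n197521 = n206581 := d20_1 D197521 F441421 (iv3 D135091) (iv1 D63491) (iv3 D29987) (iv4 F38295) (iv1 D24417) D24418 D50064 D108423
def n206582 : Q := act 6 n128911
theorem D206582 : act 6 n128911 = n206582 := rfl
theorem F441426 : act 4 n206582 = n128913 := d10_1 D206582 (iv6 D128913) D128911
def n206583 : Q := act 4 n128912
theorem D206583 : act 4 n128912 = n206583 := rfl
theorem F441427 : act 2 n206583 = n198512 := d1_1 D206583 (iv4 F440854) F440848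
theorem F441428 : act 3 n206583 = n187423 := d5_1 D206583 F370272 F315981 D172432 (iv3 F362189)
theorem F441429 : act 6 n206583 = n163247 := d10_2 F362190 D206583 (iv4 F280665)
theorem F441430 : act 7 n206583 = n194162 := d11_2 F440841 D206583 (iv4 F440842)
theorem F441431 : act 5 n206583 = n187422 := d16_7 F416329 F415879 (iv4 F421755) (iv5 F421756) (iv4 D128911) D128912 D206583 F416468 F416463
theorem F441432 : act 1 n164109 = n206583 := d15_1 (iv0 F365690) F441430 F392229
def n206584 : Q := act 0 n128913
theorem D206584 : act 0 n128913 = n206584 := rfl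
theorem F441433 : act 5 n206584 = n206520 := d17_3 (iv1 F204672) (iv5 F396543) D206584 F441177 (iv5 F420103) F420105 (iv5 D195122) F161461 (iv4 F176705)
theorem F441434 : act 2 n129083 = n206584 := d15_3 (iv0 D206584) (iv0 F396544) F211665
theorem F441435 : act 1 n196051 = n206584 := d15_0 (iv0 D206584) (iv7 F396542) (iv2 F399212)
theorem F441436 : act 7 n206584 = n206519 := d15_2 F418108 F441435 F441171
def n206585 : Q := act 5 n128919
theorem D206585 : act 5 n128919 = n206585 := rfl
theorem F441437 : act 2 n206585 = n128924 := d2_1 D206585 (iv5 D128924) (iv2 F207145)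
theorem F441438 : act 4 n206585 = n189741 := d16_2 D128919 D206585 (iv5 D189741) (iv4 F377582) (iv5 F394500) F394499 (iv5 D128620) F95085 D60630
theorem F441439 : act 6 n206585 = n189744 := d21_3 (iv5 F421772) (iv1 F212822) D206585 F377597 F251919 (iv5 F179145) F179146 F83812 D115064 F421774
def n206586 : Q := act 6 n128919
theorem D206586 : act 6 n128919 = n206586 := rfl
theorem F441440 : act 2 n206586 = n128925 := d3_1 D206586 (iv6 D128925) (iv2 F207145)
theorem F441441 : act 4 n206586 = n128921 := d10_1 D206586 (iv6 D128921) D128919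
theorem F441442 : act 1 n200662 = n206586 := d17_8 (iv1 F352195) (iv5 D127373) (iv1 F94229) (iv5 F176855) (iv4 F418516) F418517 F402210 (iv5 F417393) F441441
theorem F441443 : act 0 n200098 = n206586 := d18_2 (iv1 D200097) D200098 F441441 (iv5 F403287) (iv4 D197152) (iv0 F166506) (iv4 F202242) F203088 (iv5 F414994)
def n206587 : Q := act 4 n128920
theorem D206587 : act 4 n128920 = n206587 := rfl
theorem F441444 : act 2 n206587 = n128928 := d1_1 D206587 (iv4 D128928) (iv2 F207146)
theorem F441445 : act 3 n206587 = n178833 := d5_1 D206587 (iv4 D178833) (iv3 F275776) (iv4 F440771) F440770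
theorem F441446 : act 6 n206587 = n194868 := d10_2 F417032 D206587 (iv4 F417030)
theorem F441447 : act 7 n206587 = n190602 := d11_2 F395740 D206587 F395742
def n206588 : Q := act 5 n128922
theorem D206588 : act 5 n128922 = n206588 := rfl
theorem F441448 : act 2 n206588 = n201780 := d2_1 D206588 (iv5 F421782) (iv2 F396493)
theorem F441449 : act 3 n206588 = n129876 := d6_1 D206588 (iv5 D129876) (iv3 F207148)
theorem F441450 : act 7 n206588 = n201777 := d13_2 F212820 D206588 (iv5 F421772)
theorem F441451 : act 0 n206588 = n159361 := d17_2 D128922 D206588 (iv5 F421969) F421968 (iv5 F440955) F440957 (iv5 D128912) (iv0 D60628) D60631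
theorem F441452 : act 4 n206588 = n159353 := d19_2 D128922 D206588 (iv3 F403396) (iv1 D197040) (iv5 D107555) (iv4 D49691) F37989 (iv1 F37535) (iv5 D24007) (iv4 D11261) (iv3 F10340) F10893 (iv5 D6688) (iv4 F10879) (iv3 F23452) (iv1 F40709) F40707 D30207 (iv3 F95235)
theorem F441453 : act 0 n136318 = n206588 := d19_0 (iv5 D206588) (iv4 F208748) (iv3 D130226) (iv1 F95649) D61152 (iv4 F343562) (iv3 D109232) F166155 D111498 D199616 F412864 F332972 (iv5 D135738) (iv4 F99722) (iv3 D64106) (iv1 F92805) (iv5 F92806) (iv4 F99697) (iv3 F219387)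
def n206589 : Q := act 6 n128922
theorem D206589 : act 6 n128922 = n206589 := rfl
theorem F441454 : act 2 n206589 = n201123 := d3_1 D206589 (iv6 F419169) (iv2 F396493)
theorem F441455 : act 3 n206589 = n129877 := d7_1 D206589 (iv6 D129877) (iv3 F207148)
theorem F441456 : act 4 n206589 = n200654 := d10_1 D206589 (iv6 F417373) F208748
theorem F441457 : act 7 n206589 = n205753 := d14_2 F212820 D206589 (iv6 D205753) F203590 F366066
theorem F441458 : act 0 n205805 = n206589 := d18_2 (iv1 F418108) (iv4 F437933) F441456 (iv5 D200654) F362902 F161461 (iv4 F176705) (iv0 F362100) D196051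
def n206590 : Q := act 0 n128924
theorem D206590 : act 0 n128924 = n206590 := rfl
theorem F441459 : act 5 n206590 = n132317 := d17_3 F347620 D128924 D206590 (iv4 F441161) (iv5 F441163) (iv0 F436620) (iv5 F441270) (iv0 F441273) (iv4 F347621)
theorem F441460 : act 3 n206590 = n132318 := d20_5 (iv4 F100014) (iv1 F100016) (iv4 F99702) (iv3 F207150) D206590 (iv4 F429690) F429692 (iv4 D129835) F95530 D60986
theorem F441461 : act 4 n201714 = n206590 := d20_8 (iv4 D191800) D191799 F384482 (iv3 F421664) (iv1 D201748) (iv3 F421659) F421660 F421517 F441460 (iv1 F384487)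
theorem F441462 : act 6 n206590 = n201713 := d10_2 D201714 F441461 (iv4 D201713)
def n206591 : Q := act 1 n128924
theorem D206591 : act 1 n128924 = n206591 := rfl
theorem F441463 : act 5 n206591 = n201832 := d17_7 (iv1 F400025) (iv5 D195096) F362943 (iv5 D60632) D60631 D128924 D206591 F421973 F219385
theorem F441464 : act 3 n192994 = n206591 := d19_19 (iv1 D206591) (iv5 D128924) (iv4 D60631) (iv3 D28785) (iv1 F46356) (iv5 F46430) (iv4 D28798) (iv3 F46423) D60665 (iv5 F208887) (iv4 F311933) F311932 (iv1 D129296) F319008 F197997 F309602 (iv1 F280319) F280324 D192994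
theorem F441465 : act 4 n206591 = n201766 := d20_6 (iv4 F418821) (iv1 F250923) (iv4 F421888) (iv3 F422123) F422127 F441464 (iv1 F421733) (iv4 F421660) F421659 F421586
theorem F441466 : act 6 n201765 = n206591 := d10_0 F441465 (iv6 D201766) D201765
def n206592 : Q := act 4 n128924
theorem D206592 : act 4 n128924 = n206592 := rfl
theorem F441467 : act 2 n206592 = n189741 := d1_1 D206592 (iv4 F441438) F441437
theorem F441468 : act 3 n206592 = n136585 := d5_1 D206592 (iv4 D136585) F100018 (iv4 F99702) (iv3 F207150)
theorem F441469 : act 1 n206592 = n201322 := d18_8 (iv1 D130596) (iv4 F209144) F399723 F399720 (iv5 F421514) F441461 (iv0 D206590) D206592 F420015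
theorem F441470 : act 5 n206592 = n189737 := d21_2 (iv5 F420015) (iv1 F441469) (iv6 D189737) (iv1 F331398) (iv6 F415876) F415875 (iv1 F252028) F233583 (iv6 F214483) (iv1 F214484)
theorem F441471 : act 6 n206592 = n159848 := d21_5 F439722 (iv1 F419551) F419548 D201322 (iv1 F441469) (iv5 F251985) F367230 (iv5 F370831) (iv6 F419979) (iv1 F439720)
def n206593 : Q := act 6 n128924
theorem D206593 : act 6 n128924 = n206593 := rfl
theorem F441472 : act 2 n206593 = n189744 := d3_1 D206593 (iv6 F441439) F441437
theorem F441473 : act 3 n206593 = n136324 := d7_1 D206593 (iv6 D136324) (iv3 F207150)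
theorem F441474 : act 4 n206593 = n159848 := d10_1 D206593 (iv6 F441471) (iv4 D206592)
theorem F441475 : act 0 n206593 = n187776 := d21_4 F396533 F347620 D128924 D206593 F371460 F179145 F114661 F114212 D159361 F396534
theorem F441476 : act 1 n206593 = n193026 := d15_1 (iv0 F441475) F388547 (iv2 F371459)
theorem E103920 : n193034 = n193032 := (c20_9 F388394 (iv1 F155708) D101110 D193026 (iv1 F441476) F441473 F219403 D136591 (iv4 F388563) (iv3 D193032) (iv1 F388396))
theorem F441477 : act 1 n193032 = n132527 := (sb E103920 (iv0 F388564))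
theorem F441478 : act 4 n193032 = n136591 := (sb E103920 F388563)
theorem F441479 : act 6 n193032 = n101113 := (sb E103920 (iv6 D193034))
theorem F441480 : act 6 n183992 = n132553 := d3_2 F441479 (iv2 F285876) (iv2 F388561)
theorem F441481 : act 4 n132553 = n183994 := d10_1 F441480 (iv6 D183994) D183992
theorem F441482 : act 3 n132553 = n201759 := d20_3 F396486 F375556 (iv4 F441481) (iv1 D201759) (iv3 D115046) (iv4 D53086) (iv1 F83780) D115037 D201743 (iv1 F421644)
def n206594 : Q := act 5 n128925
theorem D206594 : act 5 n128925 = n206594 := rfl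
theorem F441483 : act 3 n206594 = n136325 := d6_1 D206594 (iv5 D136325) (iv3 F207151)
theorem F441484 : act 4 n206594 = n196434 := d16_2 (iv4 F207152) D206594 (iv5 D196434) F164891 (iv5 F93171) (iv4 F202435) (iv5 F417416) F417420 F207147
def n206595 : Q := act 7 n128925
theorem D206595 : act 7 n128925 = n206595 := rfl
theorem F441485 : act 3 n206595 = n136326 := d8_1 D206595 (iv7 D136326) (iv3 F207151)
theorem F441486 : act 4 n206595 = n128933 := d11_1 D206595 (iv7 D128933) (iv4 F207152)
theorem F441487 : act 1 n200098 = n206595 := d15_1 (iv0 F441443) (iv7 D206595) (iv2 F441440)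
theorem F441488 : act 1 n206595 = n200662 := d15_1 F441487 (iv7 F418533) F418531
def n206596 : Q := act 0 n128928
theorem D206596 : act 0 n128928 = n206596 := rfl
theorem F441489 : act 4 n206596 = n205346 := d18_3 F362943 D128928 D206596 F441163 F441161 (iv0 F212223) F179206 F400026 (iv5 D195096)
theorem F441490 : act 1 n190602 = n206596 := d15_0 (iv0 D206596) F394501 F394498
theorem F441491 : act 3 n198202 = n206596 := d20_9 F395742 (iv1 D195095) (iv4 F173977) F173976 (iv1 F173491) (iv3 F413604) (iv4 D199812) F355981 (iv4 F407214) (iv1 F441490)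
theorem F441492 : act 6 n206596 = n198200 := d7_2 D198202 F441491 (iv3 D198200)
def n206597 : Q := act 5 n128928
theorem D206597 : act 5 n128928 = n206597 := rfl
theorem F441493 : act 3 n206597 = n206569 := d6_1 D206597 (iv5 D206569) (iv3 F207153)
theorem F441494 : act 7 n206597 = n189738 := d13_2 (iv7 F394501) D206597 (iv5 F394500)
theorem F441495 : act 6 n206597 = n130628 := d21_3 F399721 F395331 D206597 (iv1 D130628) (iv6 D61293) F46658 (iv1 F46632) D61257 D130560 F399723
theorem F441496 : act 4 n189742 = n206597 := d16_0 (iv5 D206597) (iv4 D128928) (iv5 D60632) D60631 D128924 D206592 F441470 (iv7 F415842) F415841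
theorem F441497 : act 0 n200343 = n206597 := d19_0 (iv5 D206597) (iv4 D128928) F95236 D60634 F95238 (iv4 D60476) F46330 (iv1 D24030) (iv5 D11276) F10224 (iv3 F10222) (iv1 F3510) (iv5 F7774) (iv4 F18445) (iv3 F37679) F77964 (iv5 F164477) (iv4 F399656) (iv3 F416071)
def n206598 : Q := act 5 n128935
theorem D206598 : act 5 n128935 = n206598 := rfl
theorem F441498 : act 2 n206598 = n205276 := d2_1 D206598 F435723 (iv2 F207159)
theorem F441499 : act 3 n206598 = n199740 := d6_1 D206598 (iv5 D199740) (iv3 F343542)
theorem F441500 : act 6 n206598 = n131910 := d12_2 D128935 D206598 (iv5 D131910) F96487 (iv5 F95238)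
theorem F441501 : act 7 n206598 = n205232 := d13_2 F343541 D206598 F435539
theorem F441502 : act 0 n206598 = n205271 := d17_2 F395470 D206598 (iv5 F435697) (iv4 D197008) F361380 (iv0 D106106) (iv5 F77469) (iv0 F381058) (iv4 F395467)
theorem F441503 : act 1 n206598 = n205277 := d17_8 (iv1 D205385) D205386 F436195 (iv5 F435995) F435994 F409773 (iv0 F397867) D206598 F436186
def n206599 : Q := act 6 n128939
theorem D206599 : act 6 n128939 = n206599 := rfl
theorem F441504 : act 3 n206599 = n157753 := d7_1 D206599 F380706 (iv3 F358177)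
theorem F441505 : act 5 n206599 = n200786 := d12_1 D206599 (iv6 D200786) F357989 F356010 F358176
theorem F441506 : act 0 n206599 = n200709 := d21_4 F395112 F395110 F358176 D206599 (iv6 D200709) F176553 (iv1 F176524) (iv5 F355903) (iv6 F435736) (iv1 F435739)
def n206600 : Q := act 5 n128947
theorem D206600 : act 5 n128947 = n206600 := rfl
theorem F441507 : act 2 n206600 = n163425 := d2_1 D206600 (iv5 F419249) F419246
theorem F441508 : act 3 n206600 = n128949 := d6_1 D206600 (iv5 D128949) D128947
theorem F441509 : act 6 n206600 = n163424 := d12_2 (iv6 F339690) D206600 (iv5 F367036) (iv6 F382360) F382359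
theorem F441510 : act 1 n206600 = n197005 := d17_6 (iv1 D113754) F82946 D79101 (iv5 F333511) (iv4 F207170) D206600 F402658 D197013 F402692
def n206601 : Q := act 4 n128952
theorem D206601 : act 4 n128952 = n206601 := rfl
theorem F441511 : act 2 n206601 = n135745 := d1_1 D206601 (iv4 F218452) (iv2 F355005)
theorem F441512 : act 3 n206601 = n134303 := d5_1 D206601 (iv4 D134303) F207172 (iv4 D128953) D128952
theorem F441513 : act 6 n206601 = n195743 := d10_2 F419235 D206601 (iv4 F419233)
theorem F441514 : act 7 n206601 = n163484 := d11_2 (iv7 F355007) D206601 (iv4 D163484)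
theorem F441515 : act 5 n206601 = n135543 := d16_1 D206601 F217970 F333479 F119715 F56451 (iv4 F119715) (iv5 F333479) (iv7 F333482) (iv2 F355005)
theorem F441516 : act 0 n206601 = n135687 := d18_2 (iv1 F355004) D206601 (iv4 D135687) (iv5 F330422) F330421 (iv0 F324475) (iv4 F202738) (iv0 F333475) F330409
theorem F441517 : act 1 n206601 = n135682 := d18_6 D135691 F330376 (iv1 F119721) (iv4 F119748) (iv5 F355006) D206601 (iv4 D135682) (iv0 D63803) D63806
def n206602 : Q := act 6 n128953
theorem D206602 : act 6 n128953 = n206602 := rfl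
theorem F441518 : act 2 n206602 = n138065 := d3_1 D206602 (iv6 F440751) F440750
theorem F441519 : act 3 n206602 = n134305 := d7_1 D206602 (iv6 D134305) F207172
theorem F441520 : act 4 n206602 = n128955 := d10_1 D206602 (iv6 D128955) D128953
theorem F441521 : act 7 n206602 = n138066 := d14_2 F440766 D206602 F419229 F363960 (iv6 F440765)
theorem F441522 : act 0 n206602 = n138068 := d21_10 F365552 (iv1 D185378) F135224 (iv6 D87583) F294462 D45050 (iv5 F148447) D190705 F380685 D206602
theorem F441523 : act 0 n138061 = n206602 := d21_4 D137697 (iv1 F220874) F203888 D138061 (iv6 D206602) (iv5 F380685) (iv1 F380690) F329082 (iv6 D64729) D64726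
def n206603 : Q := act 5 n128961
theorem D206603 : act 5 n128961 = n206603 := rfl
theorem F441524 : act 2 n206603 = n206455 := d2_1 D206603 F440896 F341629
theorem F441525 : act 3 n206603 = n128968 := d6_1 D206603 (iv5 D128968) (iv3 F207176)
theorem F441526 : act 6 n206603 = n128964 := d12_2 D128961 D206603 (iv5 D128964) (iv6 D60645) D60644
theorem F441527 : act 7 n206603 = n206452 := d16_8 F358320 (iv5 D132123) F96577 D62444 (iv4 F305917) D75484 (iv4 F341628) D206603 F440878
theorem F441528 : act 0 n206603 = n206429 := d17_2 (iv1 F341627) D206603 F440746 F435688 (iv5 F353999) (iv0 F353879) F341884 (iv0 D78634) (iv4 F119782)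
theorem F441529 : act 1 n206603 = n204883 := d17_6 (iv1 F275819) (iv5 D158325) (iv1 D75483) D75484 (iv4 F341628) D206603 (iv5 D204883) D204882 F434004
def n206604 : Q := act 7 n128961
theorem D206604 : act 7 n128961 = n206604 := rfl
theorem F441530 : act 2 n206604 = n163611 := d4_1 D206604 F358322 F341629
theorem F441531 : act 3 n206604 = n128969 := d8_1 D206604 (iv7 D128969) (iv3 F207176)
theorem F441532 : act 4 n206604 = n158330 := d11_1 D206604 (iv7 D158330) (iv4 F341628)
theorem F441533 : act 5 n206604 = n206452 := d13_1 D206604 (iv7 F441527) (iv5 D206603)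
theorem F441534 : act 6 n206604 = n203942 := d14_1 D206604 (iv7 F430511) (iv6 F364830) F206885 D128961
theorem F441535 : act 1 n163605 = n206604 := d15_1 (iv0 F280579) (iv7 D206604) (iv2 F341629)
theorem F441536 : act 1 n206604 = n163613 := d15_1 F441535 (iv7 D163613) (iv2 F257870)
def n206605 : Q := act 3 n128963
theorem D206605 : act 3 n128963 = n206605 := rfl
theorem F441537 : act 2 n206605 = n205558 := d0_1 D206605 F436987 F203049 (iv3 F417172) F417171
theorem F441538 : act 7 n206605 = n205554 := d8_2 (iv7 F417131) D206605 F436972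
theorem F441539 : act 1 n186813 = n206605 := d15_1 (iv0 F368100) F441538 F436971
theorem F441540 : act 1 n206605 = n205557 := d15_1 F441539 F436986 (iv2 F368096)
def n206606 : Q := act 4 n128963
theorem D206606 : act 4 n128963 = n206606 := rfl
theorem F441541 : act 2 n206606 = n138152 := d1_1 D206606 (iv4 F417173) F417171
theorem F441542 : act 6 n206606 = n181992 := d10_2 F417132 D206606 (iv4 F287227)
theorem F441543 : act 7 n206606 = n137672 := d11_2 (iv7 F417131) D206606 (iv4 F417129)
theorem F441544 : act 5 n206606 = n191739 := d16_1 D206606 F384304 (iv5 D111408) (iv4 F82659) D113268 F328353 (iv5 F360821) D200606 F417171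
theorem F441545 : act 0 n206606 = n134374 := d17_0 (iv5 F339697) (iv1 F394245) F394242 (iv4 F441404) (iv5 D206577) (iv0 F364794) (iv5 D128964) D128963 D206606
theorem F441546 : act 1 n206606 = n138154 := d18_8 (iv1 D184103) (iv4 F286050) F412652 F412651 F386126 F168740 D128963 D206606 F380789
theorem F441547 : act 3 n191740 = n206606 := d6_3 F441544 (iv3 D191739) D191740
def n206607 : Q := act 5 n128963
theorem D206607 : act 5 n128963 = n206607 := rfl
theorem F441548 : act 2 n206607 = n196032 := d2_1 D206607 (iv5 F417174) F417171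
theorem F441549 : act 0 n206607 = n196113 := d17_2 (iv1 F417168) D206607 (iv5 D196113) F164300 D134914 (iv0 F332731) (iv5 F287226) (iv0 F395426) (iv4 F417164)
def n206608 : Q := act 3 n128967
theorem D206608 : act 3 n128967 = n206608 := rfl
theorem F441550 : act 5 n206608 = n196109 := d6_2 F341621 D206608 F399448
theorem F441551 : act 7 n206608 = n200691 := d8_2 (iv7 F341622) D206608 F417511
theorem F441552 : act 0 n206608 = n205427 := d20_4 (iv4 F440810) (iv1 F440813) F358178 D206608 F436361 F202435 F165737 D196899 F402212 (iv1 F435634)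
theorem F441553 : act 0 n206438 = n206608 := d20_4 (iv4 F363902) F392609 F392608 (iv3 F440801) (iv3 D206608) (iv4 F358178) (iv1 D128939) F95247 (iv3 F207126) (iv1 F362274)
def n206609 : Q := act 6 n128967
theorem D206609 : act 6 n128967 = n206609 := rfl
theorem F441554 : act 4 n206609 = n206599 := d10_1 D206609 (iv6 D206599) F358178
theorem F441555 : act 7 n206609 = n200714 := d14_2 (iv7 F341622) D206609 (iv6 D200714) (iv7 D113361) (iv6 F176550)
theorem F441556 : act 0 n206609 = n163599 := d21_10 (iv5 F358283) (iv1 F164279) F96583 D129079 (iv1 F207313) (iv6 F418735) (iv5 D201013) F176997 F341621 D206609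
theorem F441557 : act 0 n196105 = n206609 := d21_4 (iv5 F418254) F377875 (iv5 F342899) (iv6 F399429) (iv6 D206609) (iv5 F341621) (iv1 F177002) D201020 (iv6 F435398) F435400
def n206610 : Q := act 5 n128975
theorem D206610 : act 5 n128975 = n206610 := rfl
theorem F441558 : act 2 n206610 = n129042 := d2_1 D206610 (iv5 D129042) (iv2 F207189)
theorem F441559 : act 3 n206610 = n196224 := d6_1 D206610 (iv5 F440874) F440872
theorem F441560 : act 4 n206610 = n206603 := d9_1 D206610 (iv5 D206603) F341628 (iv5 D75484) F305917 (iv5 D62444) (iv4 F96577) D132123 (iv4 F358320) (iv5 F358321) (iv4 F280376) (iv5 F347489) (iv4 F305687) (iv5 D130193) (iv4 F207190)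
theorem F441561 : act 6 n206610 = n182509 := d12_2 D128975 D206610 (iv5 F364793) F362853 (iv5 D128974)
theorem F441562 : act 7 n206610 = n196220 := d13_2 F211542 D206610 F399956
def n206611 : Q := act 6 n128990
theorem D206611 : act 6 n128990 = n206611 := rfl
theorem F441563 : act 2 n206611 = n135274 := d3_1 D206611 (iv6 D135274) F207208
theorem F441564 : act 3 n206611 = n128992 := d7_1 D206611 (iv6 D128992) D128990
theorem F441565 : act 5 n206611 = n162571 := d12_1 D206611 F355091 F344827 F357875 (iv5 F357873)
theorem F441566 : act 0 n206611 = n129724 := d21_10 (iv5 F433959) (iv1 F433960) F403237 (iv6 F365712) (iv1 F139301) (iv6 F319567) F319566 (iv1 F357874) (iv5 F357873) D206611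
theorem F441567 : act 0 n195115 = n206611 := d21_4 (iv5 D59585) D59582 F161455 D195115 (iv6 D206611) F357873 F357872 F207896 (iv6 F325472) (iv1 D126959)
theorem F441568 : act 7 n206611 = n180739 := d15_2 (iv0 F438821) (iv0 F441566) (iv2 F355087)
def n206612 : Q := act 7 n128992
theorem D206612 : act 7 n128992 = n206612 := rfl
theorem F441569 : act 2 n206612 = n135290 := d4_1 D206612 (iv7 D135290) (iv2 F207237)
theorem F441570 : act 3 n206612 = n180739 := d8_1 D206612 (iv7 F441568) F441564
theorem F441571 : act 4 n206612 = n129002 := d11_1 D206612 (iv7 D129002) (iv4 F207238)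
theorem F441572 : act 5 n206612 = n145734 := d13_1 D206612 (iv7 F348870) F348865
theorem F441573 : act 1 n135288 = n206612 := d15_1 D135288 (iv7 D206612) F207237
theorem F441574 : act 1 n206612 = n135287 := d15_1 F441573 (iv7 F354297) (iv2 F354298)
def n206613 : Q := act 1 n129011
theorem D206613 : act 1 n129011 = n206613 := rfl
theorem F441575 : act 7 n206613 = n200827 := d15_2 (iv0 F418064) D206613 F418078
theorem F441576 : act 5 n206613 = n190406 := d17_7 (iv1 F261156) (iv5 F364274) D190024 F378607 (iv4 F304018) F348596 D206613 (iv0 F436500) F436499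
theorem F441577 : act 4 n200829 = n206613 := d20_6 (iv4 D89072) (iv1 D41603) D41604 D89076 F332868 (iv3 F418090) (iv1 D206613) F207266 (iv3 F361235) (iv1 F136901)
theorem F441578 : act 3 n185900 = n206613 := d20_9 F207266 (iv1 F361234) F207138 (iv3 D61036) F79885 (iv3 F97240) (iv4 F321704) (iv1 F176888) (iv4 F363981) (iv1 D206613)
theorem F441579 : act 2 n206613 = n129911 := d0_1 F441578 (iv3 D129911) (iv2 F359739) (iv3 F363986) (iv2 F363983)
def n206614 : Q := act 3 n129012
theorem D206614 : act 3 n129012 = n206614 := rfl
theorem F441580 : act 2 n206614 = n175636 := d0_1 D206614 F358643 (iv2 F358799) (iv3 F404466) F404465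
theorem F441581 : act 4 n206614 = n173578 := d5_2 D129012 D206614 F310714 (iv4 F327541) F345746
theorem F441582 : act 5 n206614 = n157183 := d6_2 F208766 D206614 (iv3 D157183)
theorem F441583 : act 7 n206614 = n175420 := d8_2 F404458 D206614 (iv3 F404457)
theorem F441584 : act 0 n206614 = n174050 := d19_4 (iv1 F95254) D60660 D129012 D206614 (iv5 F333021) (iv4 F357644) D197571 F411426 F411424 F371959 (iv3 F371946) (iv1 F371949) F178566 D195981 (iv3 F398949) (iv1 F164260) (iv5 F164248) (iv4 F206915) F206914
theorem F441585 : act 1 n206614 = n174039 := d15_1 (iv0 F441584) (iv7 F387400) F387398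
def n206615 : Q := act 1 n129013
theorem D206615 : act 1 n129013 = n206615 := rfl
theorem F441586 : act 1 n206615 = n163625 := d15_1 D206615 (iv7 F433217) F433213
theorem F441587 : act 6 n163594 = n206615 := d21_3 (iv5 F294067) (iv1 F382536) (iv5 F382537) (iv1 D206615) (iv6 D129013) (iv5 D60660) (iv1 D28792) D28794 D60668 (iv1 F341821)
def n206616 : Q := act 5 n129015
theorem D206616 : act 5 n129015 = n206616 := rfl
theorem F441588 : act 2 n206616 = n201686 := d2_1 D206616 F421372 (iv2 F361228)
theorem F441589 : act 3 n206616 = n196112 := d6_1 D206616 (iv5 F440921) (iv3 F440923)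
theorem F441590 : act 4 n206616 = n197018 := d9_1 D206616 F402703 F379993 F328695 F112879 (iv5 F321981) (iv4 F207138) D206576 F441399 (iv5 F402708) F378597 F364274 F261154 F333902 (iv4 F361229)
theorem F441591 : act 6 n206616 = n201685 := d12_2 (iv6 F361230) D206616 F421368 (iv6 F369420) (iv5 F341760)
theorem F441592 : act 0 n206616 = n190553 := d21_1 D206616 F380124 F380022 (iv1 D129176) (iv6 F341758) F297832 F198699 F337896 (iv6 F368091) (iv1 F368094)
def n206617 : Q := act 4 n129016
theorem D206617 : act 4 n129016 = n206617 := rfl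
theorem F441593 : act 2 n206617 = n135838 := d1_1 D206617 (iv4 F436981) (iv2 F436983)
theorem F441594 : act 3 n206617 = n172228 := d5_1 D206617 (iv4 D172228) F127123 D82490 (iv3 F361243)
theorem F441595 : act 6 n206617 = n135827 := d10_2 (iv6 F361244) D206617 F361247
theorem F441596 : act 7 n206617 = n135828 := d11_2 F368099 D206617 F368101
theorem F441597 : act 5 n206617 = n190400 := d16_5 (iv4 F304018) F348596 F207266 D129016 D206617 (iv4 F379678) F378599 (iv7 F363847) (iv2 F363848)
theorem F441598 : act 1 n206617 = n135769 := d18_6 (iv1 F418093) F441577 (iv1 D206613) F207266 D129016 D206617 (iv4 F419153) (iv0 F419155) F354365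
theorem F441599 : act 1 n135836 = n206617 := d15_0 F441598 F218331 (iv2 F364367)
def n206618 : Q := act 3 n129018
theorem D206618 : act 3 n129018 = n206618 := rfl
theorem F441600 : act 2 n206618 = n163478 := d0_1 D206618 (iv3 D163478) (iv2 F337369) (iv3 D129022) (iv2 F214152)
theorem F441601 : act 4 n206618 = n163549 := d5_2 F222168 D206618 F322738 (iv4 F273779) (iv3 F333019)
theorem F441602 : act 5 n206618 = n200822 := d6_2 (iv5 F211929) D206618 (iv3 F418057)
theorem F441603 : act 7 n206618 = n129027 := d8_2 (iv7 F214153) D206618 (iv3 D129027)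
theorem F441604 : act 0 n206618 = n191802 := d20_4 (iv4 F433307) F433309 F222168 D206618 F384491 F176489 F82762 D113567 D200859 F418186
theorem F441605 : act 1 n206618 = n191813 := d15_1 (iv0 F441604) F384521 (iv2 F384490)
def n206619 : Q := act 6 n129018
theorem D206619 : act 6 n129018 = n206619 := rfl
theorem F441606 : act 2 n206619 = n129025 := d3_1 D206619 (iv6 D129025) (iv2 F214152)
theorem F441607 : act 5 n206619 = n203857 := d21_6 (iv5 F257753) (iv1 F354469) F211641 (iv6 D129020) D129018 D206619 F430127 F365980 F382534 (iv1 D163595)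
theorem F441608 : act 0 n200868 = n206619 := d21_4 (iv5 F220883) (iv1 D137702) (iv5 F176743) D200868 (iv6 D206619) F211929 (iv1 D132266) (iv5 F207160) F348766 F173419
theorem F441609 : act 7 n205516 = n206619 := d13_0 F441607 F430126 D205516
def n206620 : Q := act 0 n129023
theorem D206620 : act 0 n129023 = n206620 := rfl
theorem F441610 : act 5 n206620 = n157182 := d17_1 D206620 (iv1 D157182) F208766 (iv4 D129012) (iv5 D60660) F95254 D128974 F207188 D129023
theorem F441611 : act 4 n206620 = n206525 := d18_3 D60665 D129023 D206620 F441192 F316696 (iv0 F314447) (iv4 D60654) (iv0 D28791) D28794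
theorem F441612 : act 2 n179610 = n206620 := d15_3 (iv0 D206620) (iv0 F434709) F434708
theorem F441613 : act 1 n129028 = n206620 := d15_0 (iv0 D206620) (iv7 F222183) F222181
theorem F441614 : act 7 n206620 = n204702 := d15_2 F434710 F441613 (iv2 F434706)
theorem F441615 : act 3 n205130 = n206620 := d8_3 F441614 F433311 F435082
theorem F441616 : act 6 n157859 = n206620 := d14_5 F441614 (iv6 D204702) F433301 (iv6 F431246) F399477
def n206621 : Q := act 6 n129023
theorem D206621 : act 6 n129023 = n206621 := rfl
theorem F441617 : act 3 n206621 = n160286 := d7_1 D206621 F253165 F337366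
theorem F441618 : act 4 n206621 = n129025 := d10_1 D206621 (iv6 D129025) D129023
theorem F441619 : act 5 n206621 = n196664 := d12_1 D206621 (iv6 D196664) F172108 (iv6 F322255) (iv5 F208891)
theorem F441620 : act 7 n206621 = n160359 := d14_2 F222183 D206621 (iv6 F306132) (iv7 F345578) F333025
def n206622 : Q := act 0 n129030
theorem D206622 : act 0 n129030 = n206622 := rfl
theorem F441621 : act 4 n206622 = n197893 := d18_3 (iv1 D174902) (iv4 F333027) D206622 F417537 (iv4 D200696) D200695 F431838 (iv0 F431839) F412170
theorem F441622 : act 3 n206622 = n129057 := d20_5 (iv4 D174843) (iv1 D83521) D83522 (iv3 F333026) D206622 F355905 (iv1 F355904) (iv4 F417631) F417630 (iv1 F342130)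
theorem F441623 : act 7 n197888 = n206622 := d8_0 F441622 (iv7 F440968) (iv3 F440970)
theorem F441624 : act 0 n206622 = n162904 := d20_4 (iv4 F95268) D129048 (iv4 F355905) (iv3 F441622) (iv3 D162904) F301255 F298600 D84492 (iv3 F348391) (iv1 D128787)
theorem F441625 : act 6 n204857 = n206622 := d10_0 F441621 F412004 F433874
def n206623 : Q := act 5 n129030
theorem D206623 : act 5 n129030 = n206623 := rfl
theorem F441626 : act 3 n206623 = n174849 := d6_1 D206623 (iv5 D174849) (iv3 F333026)
theorem F441627 : act 6 n206623 = n200861 := d12_2 D129030 D206623 (iv5 F436927) F436929 F211935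
theorem F441628 : act 4 n206623 = n200862 := d16_2 (iv4 F333027) D206623 F418198 (iv4 D200692) F406044 (iv4 F406042) F406043 (iv7 F345578) (iv2 D174903)
def n206624 : Q := act 7 n129030
theorem D206624 : act 7 n129030 = n206624 := rfl
theorem F441629 : act 2 n206624 = n162904 := d4_1 D206624 F345580 F333033
theorem F441630 : act 3 n206624 = n174850 := d8_1 D206624 (iv7 D174850) (iv3 F333026)
theorem F441631 : act 4 n206624 = n174905 := d11_1 D206624 (iv7 D174905) (iv4 F333027)
theorem F441632 : act 6 n206624 = n205516 := d14_1 D206624 F441609 (iv6 D206619) F214153 D129030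
theorem F441633 : act 1 n197888 = n206624 := d15_1 (iv0 F412413) (iv7 D206624) (iv2 F333033)
def n206625 : Q := act 4 n129031
theorem D206625 : act 4 n129031 = n206625 := rfl
theorem F441634 : act 3 n206625 = n163026 := d5_1 D206625 F359800 (iv3 F323678) D164562 F361366
theorem F441635 : act 5 n206625 = n129224 := d9_2 F208893 D206625 (iv4 D129224) (iv5 F208883) D61174 (iv5 F309721) F309720 F208888 (iv4 F418184) F418185 (iv4 D129229) F208879 D61179 (iv5 F208889) F111977
theorem F441636 : act 6 n206625 = n163021 := d10_2 F401738 D206625 (iv4 F401739)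
theorem F441637 : act 0 n206625 = n130227 := d17_0 (iv5 D130227) (iv1 F95649) D61152 (iv4 F343562) F343563 (iv0 D74718) D74721 F207282 D206625
theorem F441638 : act 1 n206625 = n130229 := d18_6 (iv1 F219752) F312154 (iv1 F312151) F111977 F208893 D206625 (iv4 F433307) (iv0 F433310) (iv5 D139004)
def n206626 : Q := act 5 n129034
theorem D206626 : act 5 n129034 = n206626 := rfl
theorem F441639 : act 2 n206626 = n197923 := d2_1 D206626 (iv5 D197923) F354393
theorem F441640 : act 6 n206626 = n190858 := d12_2 D129034 D206626 (iv5 F381355) F366102 (iv5 F167310)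
theorem F441641 : act 7 n206626 = n197922 := d13_2 (iv7 F354470) D206626 (iv5 D197922)
theorem F441642 : act 4 n206626 = n191013 := d16_2 (iv4 F207277) D206626 F381875 F254192 D176887 (iv4 F382584) F382583 F341828 F207269
theorem F441643 : act 1 n206626 = n199416 := d17_6 (iv1 F327275) F348769 (iv1 D132119) F96575 (iv4 F207277) D206626 (iv5 D199416) D199415 F412072
def n206627 : Q := act 5 n129040
theorem D206627 : act 5 n129040 = n206627 := rfl
theorem F441644 : act 2 n206627 = n205589 := d2_1 D206627 (iv5 F437124) F366776
theorem F441645 : act 3 n206627 = n154236 := d6_1 D206627 (iv5 F419222) F419224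
theorem F441646 : act 7 n206627 = n154234 := d13_2 (iv7 F366777) D206627 F335847
theorem F441647 : act 4 n206627 = n200798 := d16_2 F389932 D206627 (iv5 F435983) F435982 (iv5 F346961) (iv4 F434474) F434475 F366773 (iv2 F389928)
theorem F441648 : act 6 n200797 = n206627 := d10_0 F441647 (iv6 D200798) D200797
def n206628 : Q := act 6 n129040
theorem D206628 : act 6 n129040 = n206628 := rfl
theorem F441649 : act 2 n206628 = n205846 := d3_1 D206628 F438121 F366776
theorem F441650 : act 3 n206628 = n195747 := d7_1 D206628 F419231 F419224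
theorem F441651 : act 4 n206628 = n200969 := d10_1 D206628 F418553 F389932
theorem F441652 : act 5 n206628 = n205380 := d12_1 D206628 (iv6 D205380) (iv5 F417941) F441648 (iv5 D206627)
theorem F441653 : act 7 n206628 = n206026 := d14_2 (iv7 F366777) D206628 F438896 F417317 (iv6 F407326)
theorem F441654 : act 1 n205550 = n206628 := d15_1 (iv0 F436959) F441653 F438894
theorem F441655 : act 1 n206628 = n206027 := d15_1 F441654 (iv7 F438902) (iv2 F436957)
def n206629 : Q := act 3 n129041
theorem D206629 : act 3 n129041 = n206629 := rfl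
theorem F441656 : act 2 n206629 = n206503 := d0_1 D206629 F441115 F417334 (iv3 F335846) (iv2 F366775)
theorem F441657 : act 5 n206422 = n206629 := d2_0 F441656 (iv5 D206503) (iv2 F440706)
theorem F441658 : act 6 n191666 = n206629 := d3_0 F441656 F441116 F417329
def n206630 : Q := act 5 n129041
theorem D206630 : act 5 n129041 = n206630 := rfl
theorem F441659 : act 2 n206630 = n154234 := d2_1 D206630 F335847 (iv2 F366775)
theorem F441660 : act 3 n206630 = n206422 := d6_1 D206630 F441657 (iv3 D206629)
theorem F441661 : act 4 n206630 = n205592 := d9_1 D206630 F437135 F417723 F345773 F346980 D193462 F389932 D206627 F441647 (iv5 F435983) F435982 (iv5 F346961) (iv4 F434474) F434475 F216695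
theorem F441662 : act 7 n206630 = n205589 := d13_2 F366774 D206630 (iv5 F437124)
theorem F441663 : act 6 n206630 = n206421 := d21_3 F399956 (iv1 F211543) D206630 F440705 (iv6 D205588) (iv5 F324453) F324450 D126055 D205473 F436603
def n206631 : Q := act 6 n129041
theorem D206631 : act 6 n129041 = n206631 := rfl
theorem F441664 : act 2 n206631 = n198242 := d3_1 D206631 (iv6 F407326) (iv2 F366775)
theorem F441665 : act 3 n206631 = n191666 := d7_1 D206631 F441658 (iv3 D206629)
theorem F441666 : act 4 n206631 = n200825 := d10_1 D206631 (iv6 F418072) F216695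
theorem F441667 : act 5 n206631 = n197766 := d12_1 D206631 (iv6 F441304) F441303 (iv6 F441663) (iv5 D206630)
theorem F441668 : act 7 n206631 = n198240 := d14_2 F366774 D206631 (iv6 F407319) (iv7 F438122) F438121
theorem F441669 : act 1 n205548 = n206631 := d15_1 F436948 F441668 (iv2 F417315)
theorem F441670 : act 1 n206631 = n195786 := d15_1 F441669 F398170 D205548
def n206632 : Q := act 1 n129042
theorem D206632 : act 1 n129042 = n206632 := rfl
theorem F441671 : act 1 n206632 = n196220 := d15_1 D206632 (iv7 F441562) F441558
theorem F441672 : act 4 n206632 = n195008 := d18_7 F417724 F417723 (iv1 D180253) D180255 (iv5 F440896) F440895 D206632 F417354 (iv5 F399347)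
theorem F441673 : act 3 n186736 = n206632 := d20_9 (iv4 F440895) (iv1 F440897) F436962 (iv3 F436951) F436954 F384055 F384056 F355351 (iv4 F367835) (iv1 D206632)
theorem F441674 : act 6 n186735 = n206632 := d21_3 F380127 (iv1 F367853) F367848 (iv1 D206632) F395385 F395382 F358299 F148454 D182769 (iv1 F380132)
def n206633 : Q := act 0 n129046
theorem D206633 : act 0 n129046 = n206633 := rfl
def n206634 : Q := act 1 n129046
theorem D206634 : act 1 n129046 = n206634 := rfl
theorem F441675 : act 3 n176727 = n206634 := d20_3 (iv4 F399699) F399700 (iv4 F395344) (iv1 D206634) F207287 (iv4 D128780) D128778 D206523 F441190 F395342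
theorem F441676 : act 4 n206522 = n206634 := d20_6 (iv4 D28798) D28796 (iv4 F46427) (iv3 F95180) D128778 D206522 (iv1 D206634) (iv4 D129046) (iv3 D60671) (iv1 F46432)
theorem F441677 : act 6 n176724 = n206634 := d21_3 (iv5 F379655) F379656 (iv5 F283197) (iv1 D206634) F343931 (iv5 D126180) F93333 D64445 (iv6 F220257) (iv1 F360298)
theorem F441678 : act 5 n200343 = n206634 := d21_6 F46795 F37854 D25325 D52154 D112996 D200343 (iv1 D206634) (iv5 F343930) (iv6 D131136) (iv1 D61521)
def n206635 : Q := act 0 n129055
theorem D206635 : act 0 n129055 = n206635 := rfl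
theorem F441679 : act 5 n206635 = n132959 := d17_1 D206635 (iv1 F315824) D176472 (iv4 F440771) (iv5 D206433) F206881 D128949 F339684 D129055
theorem F441680 : act 3 n206635 = n166735 := d20_5 F345744 (iv1 D128722) D128723 (iv3 F207292) D206635 F262463 F330858 (iv4 D83536) (iv3 F128615) (iv1 F305497)
theorem F441681 : act 2 n163817 = n206635 := d15_3 (iv0 D206635) (iv0 F363235) (iv7 F355019)
theorem F441682 : act 1 n164151 = n206635 := d15_0 (iv0 D206635) (iv7 F440951) F440947
theorem F441683 : act 7 n206635 = n174054 := d15_2 (iv0 F347505) F441682 (iv2 F364110)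
theorem F441684 : act 6 n163815 = n206635 := d21_3 (iv5 F254301) (iv1 F281156) F281158 (iv1 F441682) (iv6 F343514) (iv5 F304708) F304741 (iv5 F344882) (iv6 D163755) F254300
def n206636 : Q := act 6 n129055
theorem D206636 : act 6 n129055 = n206636 := rfl
theorem F441685 : act 2 n206636 = n177525 := d3_1 D206636 (iv6 F434443) F434441
theorem F441686 : act 3 n206636 = n172508 := d7_1 D206636 (iv6 F354767) (iv3 F207292)
theorem F441687 : act 4 n206636 = n129056 := d10_1 D206636 (iv6 D129056) D129055
def n206637 : Q := act 6 n129057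
theorem D206637 : act 6 n129057 = n206637 := rfl
theorem F441688 : act 3 n206637 = n204857 := d7_1 D206637 F441625 F441622
theorem F441689 : act 4 n206637 = n205279 := d10_1 D206637 F435736 (iv4 F355905)
theorem F441690 : act 0 n206637 = n201013 := d21_10 (iv5 D201013) F176997 F341621 D206609 F441556 F417595 (iv5 F417596) (iv1 F425861) F425859 D206637
theorem F441691 : act 0 n201020 = n206637 := d21_4 (iv5 F439131) F439134 (iv5 F435401) F435398 (iv6 D206637) (iv5 F425859) (iv1 F436081) F436082 (iv6 D195079) F362951
def n206638 : Q := act 0 n129059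
theorem D206638 : act 0 n129059 = n206638 := rfl
theorem F441692 : act 5 n206638 = n200713 := d17_3 (iv1 D129058) D129059 D206638 F417608 F176554 (iv0 F163191) (iv5 F327965) D129049 (iv4 F365656)
theorem F441693 : act 4 n206638 = n130547 := d18_1 D206638 (iv1 F436733) F436730 F435766 F417631 F355904 (iv4 F355905) (iv0 D129057) D129059
theorem F441694 : act 2 n200726 = n206638 := d15_3 (iv0 D206638) (iv0 F362186) (iv7 F417657)
theorem F441695 : act 7 n206638 = n200712 := d4_2 (iv7 F417657) F441694 F417603
def n206639 : Q := act 7 n129059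
theorem D206639 : act 7 n129059 = n206639 := rfl
theorem F441696 : act 4 n206639 = n200718 := d11_1 D206639 (iv7 F425871) F425868
theorem F441697 : act 5 n206639 = n129060 := d13_1 D206639 (iv7 D129060) D129059
theorem F441698 : act 6 n206639 = n205266 := d14_1 D206639 F435675 (iv6 F360822) F360824 (iv6 F207294)
theorem F441699 : act 1 n200712 = n206639 := d15_1 F440978 (iv7 D206639) (iv2 F440974)
theorem F441700 : act 1 n206639 = n200726 := d15_1 F441699 F417657 (iv2 F417603)
theorem E103921 : n206515 = n206498 := (c21_8 F441697 (iv1 F440967) F440973 (iv6 D205360) (iv1 F436010) F441166 (iv5 D206517) D206515 F441095 F417658 (iv1 F441700))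
theorem F441701 : act 1 n206498 = n128767 := (sb E103921 (iv0 D206515))
def n206640 : Q := act 4 n129061
theorem D206640 : act 4 n129061 = n206640 := rfl
theorem F441702 : act 2 n206640 = n206461 := d1_1 D206640 (iv4 D206461) F358257
theorem F441703 : act 3 n206640 = n199494 := d5_1 D206640 F412383 F203092 D126314 F349609
theorem F441704 : act 6 n206640 = n142749 := d10_2 (iv6 F349608) D206640 F322344
theorem F441705 : act 7 n206640 = n206460 := d11_2 F358262 D206640 (iv4 D206460)
theorem F441706 : act 5 n206640 = n142746 := d16_1 D206640 F363563 D194571 F393720 (iv5 F441025) (iv4 D206480) F358266 F358261 F358257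
def n206641 : Q := act 3 n129062
theorem D206641 : act 3 n129062 = n206641 := rfl
theorem F441707 : act 2 n206641 = n205573 := d0_1 D206641 (iv3 D205573) F203113 F358264 (iv2 F358263)
theorem F441708 : act 5 n206641 = n145462 := d6_2 F358266 D206641 F343529
theorem F441709 : act 7 n206641 = n145452 := d8_2 (iv7 F358261) D206641 (iv3 F358258)
theorem F441710 : act 1 n180340 = n206641 := d15_1 (iv0 F402659) F441709 (iv2 F402656)
theorem F441711 : act 0 n206600 = n206641 := d17_2 F417216 D206600 F441708 F228500 (iv5 F177942) F177949 (iv5 F342932) F364858 (iv4 F417214)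
def n206642 : Q := act 4 n129062
theorem D206642 : act 4 n129062 = n206642 := rfl
theorem F441712 : act 2 n206642 = n206460 := d1_1 D206642 (iv4 D206460) (iv2 F358263)
theorem F441713 : act 7 n206642 = n206461 := d11_2 (iv7 F358261) D206642 (iv4 D206461)
theorem F441714 : act 5 n206642 = n194572 := d16_5 F393720 (iv5 F441025) (iv4 D206480) F358266 D206642 (iv4 D194572) D194573 F393724 (iv2 F393715)
def n206643 : Q := act 5 n129065
theorem D206643 : act 5 n129065 = n206643 := rfl
theorem F441715 : act 3 n206643 = n189900 := d6_1 D206643 F378163 (iv3 F400051)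
theorem F441716 : act 0 n206643 = n200786 := d21_1 D206643 (iv5 F441505) (iv6 D206599) (iv1 D128939) (iv6 D60636) (iv5 D28786) (iv1 F46356) (iv5 F46430) D60676 D129065
def n206644 : Q := act 5 n129066
theorem D206644 : act 5 n129066 = n206644 := rfl
theorem F441717 : act 3 n206644 = n144778 := d6_1 D206644 (iv5 F417224) F417223
theorem F441718 : act 6 n206644 = n195866 := d12_2 F418735 D206644 F418739 (iv6 D201014) D201013
theorem F441719 : act 0 n200786 = n206644 := d21_10 (iv5 D206644) (iv1 D129066) D129067 F207305 (iv1 F211679) (iv6 F358249) F176701 (iv1 F161406) (iv5 F357989) D200786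
def n206645 : Q := act 1 n129067
theorem D206645 : act 1 n129067 = n206645 := rfl
theorem F441720 : act 7 n206645 = n200663 := d15_2 (iv0 F409955) D206645 F417394
theorem F441721 : act 5 n195699 = n206645 := d21_6 F46428 F46396 D60524 D128691 F362950 D195699 (iv1 D206645) (iv5 D129067) (iv6 D60676) F46431
theorem F441722 : act 3 n206645 = n131986 := d6_1 F441721 (iv5 F435789) F435788
theorem F441723 : act 6 n206645 = n195098 := d12_2 D195699 F441721 (iv5 F435995) F435996 (iv5 D195698)
def n206646 : Q := act 4 n129067
theorem D206646 : act 4 n129067 = n206646 := rfl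
theorem F441724 : act 6 n206646 = n206472 := d10_2 (iv6 F207305) D206646 (iv4 D206472)
def n206647 : Q := act 4 n129070
theorem D206647 : act 4 n129070 = n206647 := rfl
theorem F441725 : act 2 n206647 = n164130 := d1_1 D206647 (iv4 F373491) F373490
theorem F441726 : act 5 n206647 = n191226 := d9_2 F376767 D206647 F382647 F350525 (iv4 F350504) D187170 (iv4 F376759) (iv5 F376762) (iv4 F373670) (iv5 F382654) F382653 (iv5 F350512) (iv4 F350510) D187171 (iv4 F376766)
theorem F441727 : act 6 n206647 = n190594 := d10_2 (iv6 F413733) D206647 (iv4 F413731)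
theorem F441728 : act 1 n206647 = n176724 := d18_6 (iv1 F382509) (iv4 F341787) (iv1 F369331) (iv4 F376766) F376767 D206647 F276104 F282825 (iv5 F382506)
theorem F441729 : act 3 n206647 = n176717 := d20_3 D186308 (iv1 F364568) D206647 (iv1 D176717) (iv3 D84253) F59880 F31221 D19516 D41440 D88754
def n206648 : Q := act 3 n129071
theorem D206648 : act 3 n129071 = n206648 := rfl
theorem F441730 : act 4 n206648 = n176717 := d5_2 D129071 D206648 (iv3 F441729) (iv4 D206647) (iv3 D129070)
theorem F441731 : act 6 n206648 = n197010 := d7_2 (iv6 F395221) D206648 (iv3 D197010)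
theorem F441732 : act 0 n206527 = n206648 := d20_4 F125353 D157859 (iv4 F417135) (iv3 F441196) (iv3 D206648) (iv4 D129071) (iv1 F206947) (iv4 F207311) F343673 (iv1 D169908)
def n206649 : Q := act 5 n129071
theorem D206649 : act 5 n129071 = n206649 := rfl
theorem F441733 : act 2 n206649 = n190794 := d2_1 D206649 (iv5 F381095) (iv2 F358314)
theorem F441734 : act 7 n206649 = n190793 := d13_2 (iv7 F358312) D206649 (iv5 F400119)
theorem F441735 : act 1 n206649 = n180815 := d17_6 F436827 F436825 F417769 (iv5 D129072) D129071 D206649 (iv5 D180815) D180813 (iv4 F281466)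
theorem F441736 : act 0 n206649 = n190792 := d21_1 D206649 (iv5 D190792) (iv6 F392622) (iv1 D128851) (iv6 D60594) (iv5 D28773) D28771 (iv5 F95154) F330390 (iv1 F343671)
def n206650 : Q := act 0 n129072
theorem D206650 : act 0 n129072 = n206650 := rfl
theorem F441737 : act 5 n206650 = n206609 := d17_3 D60677 D129072 D206650 F441554 F441505 (iv0 F441716) (iv5 D206643) (iv0 D129065) F95273
theorem F441738 : act 1 n129077 = n206650 := d15_0 (iv0 D206650) (iv7 F440988) F440985
theorem F441739 : act 7 n206650 = n205535 := d15_2 (iv0 F417770) F441738 F436881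
theorem F441740 : act 6 n205534 = n206650 := d21_3 (iv5 F341619) (iv1 F203016) (iv5 F436878) (iv1 F441738) F358222 F358378 (iv1 D163423) F294907 (iv6 F150045) F358377
def n206651 : Q := act 4 n129072
theorem D206651 : act 4 n129072 = n206651 := rfl
theorem F441741 : act 5 n206651 = n148769 := d17_5 (iv1 D61993) F47015 D60677 D129072 D206651 (iv0 D148769) F106098 D110786 F341792
theorem F441742 : act 0 n196136 = n206651 := d20_7 (iv4 D94013) D94011 (iv4 F294061) (iv3 D97359) (iv1 F293820) D190646 (iv4 F399574) (iv4 D206651) F376768 (iv1 D189510)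
def n206652 : Q := act 6 n129072
theorem D206652 : act 6 n129072 = n206652 := rfl
theorem F441743 : act 2 n206652 = n205399 := d3_1 D206652 (iv6 F440981) F440979
theorem F441744 : act 3 n206652 = n195949 := d7_1 D206652 F398827 (iv3 F376768)
theorem F441745 : act 5 n206652 = n197840 := d12_1 D206652 (iv6 F435728) F435727 (iv6 D129073) D129072
theorem F441746 : act 7 n206652 = n205398 := d14_2 F440988 D206652 F436244 F373473 (iv6 F440987)
theorem F441747 : act 0 n206652 = n197046 := d21_4 F47015 D60677 D129072 D206652 (iv6 D197046) F343683 (iv1 F214454) (iv5 F343682) (iv6 D132150) (iv1 D61993)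
def n206653 : Q := act 5 n129076
theorem D206653 : act 5 n129076 = n206653 := rfl
theorem F441748 : act 2 n206653 = n190793 := d2_1 D206653 (iv5 F400119) F358313
theorem F441749 : act 6 n206653 = n206082 := d12_2 (iv6 F417384) D206653 (iv5 F439345) (iv6 D206122) F417383
theorem F441750 : act 7 n206653 = n190794 := d13_2 (iv7 F358309) D206653 (iv5 F381095)
theorem F441751 : act 1 n206653 = n190792 := d17_6 F441557 (iv5 F441737) (iv1 F441738) (iv5 D129077) D129076 D206653 (iv5 D190792) (iv0 F361396) F399431
theorem F441752 : act 0 n206653 = n180815 := d21_1 D206653 (iv5 D180815) F132351 D170243 (iv6 F397859) F381033 (iv1 F164653) F343665 F202093 (iv1 F341794)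
def n206654 : Q := act 4 n129077
theorem D206654 : act 4 n129077 = n206654 := rfl
theorem F441753 : act 6 n206654 = n188524 := d10_2 (iv6 F358222) D206654 F373801
theorem F441754 : act 5 n206654 = n148770 := d17_5 (iv1 F164281) (iv5 F206944) (iv1 F206946) D129077 D206654 F251520 F251518 F171498 F341789
theorem F441755 : act 0 n206654 = n196136 := d17_0 F399575 F402849 (iv5 D197057) (iv4 F358288) D196105 (iv0 F436826) F436825 (iv0 F417770) D206654
theorem F441756 : act 3 n188527 = n206654 := d6_3 F441754 (iv3 F365181) (iv5 F373812)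
def n206655 : Q := act 5 n129079
theorem D206655 : act 5 n129079 = n206655 := rfl
theorem F441757 : act 2 n206655 = n196227 := d2_1 D206655 F399982 (iv2 F207310)
theorem F441758 : act 3 n206655 = n182510 := d6_1 D206655 (iv5 F395389) (iv3 F343673)
theorem F441759 : act 6 n206655 = n196202 := d12_2 D129079 D206655 F399858 F164555 F96583
theorem F441760 : act 7 n206655 = n129082 := d13_2 (iv7 F207312) D206655 (iv5 D129082)
theorem F441761 : act 0 n206655 = n206645 := d17_2 (iv1 F207314) D206655 (iv5 F441721) F397890 F348402 F164649 (iv5 F218192) F400052 F400050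
theorem F441762 : act 0 n198932 = n206655 := d21_10 (iv5 D206655) (iv1 F207313) D206644 F441718 F418742 F203065 (iv5 D105204) F80495 D110729 D198932
def n206656 : Q := act 5 n129080
theorem D206656 : act 5 n129080 = n206656 := rfl
theorem F441763 : act 2 n206656 = n206643 := d2_1 D206656 (iv5 D206643) F400055
theorem F441764 : act 3 n206656 = n197023 := d6_1 D206656 (iv5 F439093) F439092
theorem F441765 : act 6 n206656 = n206573 := d12_2 F435406 D206656 (iv5 D206573) (iv6 F395731) (iv5 F435409)
theorem F441766 : act 7 n206656 = n206644 := d13_2 F400057 D206656 (iv5 D206644)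
def n206657 : Q := act 5 n129081
theorem D206657 : act 5 n129081 = n206657 := rfl
theorem F441767 : act 2 n206657 = n206644 := d2_1 D206657 (iv5 D206644) (iv2 F400056)
theorem F441768 : act 3 n206657 = n190667 := d6_1 D206657 F380496 (iv3 F362863)
theorem F441769 : act 6 n206657 = n200657 := d12_2 F417548 D206657 (iv5 F417550) (iv6 D200700) D200699
theorem F441770 : act 7 n206657 = n206643 := d13_2 (iv7 F400053) D206657 (iv5 D206643)
theorem F441771 : act 0 n200948 = n206657 := d21_10 (iv5 D206657) (iv1 D129081) D129082 F207318 (iv1 F399091) (iv6 D113540) F82759 D52474 D113654 D200948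
theorem F441772 : act 1 n200948 = n206656 := d15_1 (iv0 F441771) F441766 (iv2 F441767)
def n206658 : Q := act 1 n129082
theorem D206658 : act 1 n129082 = n206658 := rfl
theorem F441773 : act 1 n206658 = n196227 := d15_1 D206658 F399983 (iv2 F207317)
theorem F441774 : act 7 n206658 = n198932 := d15_2 (iv0 F417592) D206658 (iv2 F417394)
theorem F441775 : act 2 n206645 = n206658 := d4_3 F441774 (iv2 F417394) (iv7 F441720)
def n206659 : Q := act 4 n129082
theorem D206659 : act 4 n129082 = n206659 := rfl
theorem F441776 : act 2 n206659 = n206646 := d1_1 D206659 (iv4 D206646) (iv2 F207317)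
theorem F441777 : act 6 n206659 = n129090 := d10_2 (iv6 F207318) D206659 (iv4 D129090)
def n206660 : Q := act 5 n129083
theorem D206660 : act 5 n129083 = n206660 := rfl
theorem F441778 : act 2 n206660 = n206520 := d2_1 D206660 (iv5 F441433) (iv2 F441434)
theorem F441779 : act 3 n206660 = n129084 := d6_1 D206660 (iv5 D129084) D129083
theorem F441780 : act 7 n206660 = n206417 := d13_2 F211665 D206660 F440689
theorem F441781 : act 4 n206660 = n206128 := d17_4 (iv1 F204679) D200835 (iv1 F421211) D206660 (iv5 F439367) F418413 (iv5 D113635) F161467 (iv4 F204676)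
theorem F441782 : act 0 n206660 = n206122 := d21_1 D206660 F439345 (iv6 F441749) F441752 F362768 (iv5 F207286) F440853 (iv5 D206447) F418107 (iv1 F421211)
theorem F441783 : act 6 n206660 = n131889 := d21_3 D200835 (iv1 F421211) D206660 (iv1 F391969) F391966 F365693 (iv1 F165629) F332847 (iv6 F204677) (iv1 F204679)
theorem F441784 : act 0 n206486 = n206660 := d21_10 (iv5 D206660) F421210 (iv5 F363271) F391698 (iv1 F164145) (iv6 F332621) D113955 (iv1 F419175) F419177 (iv6 F441043)
def n206661 : Q := act 6 n129083
theorem D206661 : act 6 n129083 = n206661 := rfl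
theorem F441785 : act 3 n206661 = n129085 := d7_1 D206661 (iv6 D129085) D129083
theorem F441786 : act 0 n206661 = n205216 := d21_4 F441046 F441784 (iv5 D206660) D206661 F435473 (iv5 D125610) F92990 D59827 (iv6 F204674) D206081
def n206662 : Q := act 0 n129084
theorem D206662 : act 0 n129084 = n206662 := rfl
theorem F441787 : act 5 n206662 = n200614 := d17_3 D60681 D129084 D206662 F417219 F176762 F163835 (iv5 D60687) (iv0 D28802) (iv4 F46437)
theorem F441788 : act 1 n129087 = n206662 := d15_0 (iv0 D206662) (iv7 F211667) F211666
theorem F441789 : act 6 n195057 = n206662 := d21_9 (iv5 D129087) (iv1 D60682) D60683 (iv6 F207318) F417592 (iv6 D200663) (iv5 D113320) (iv1 F161137) (iv5 F395599) (iv1 F441788)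
theorem F441790 : act 2 n206662 = n200670 := d3_1 F441789 (iv6 D200670) (iv2 F395598)
def n206663 : Q := act 1 n129084
theorem D206663 : act 1 n129084 = n206663 := rfl
theorem F441791 : act 1 n206663 = n129087 := d15_1 D206663 (iv7 F211674) F211673
theorem F441792 : act 7 n206663 = n200670 := d15_2 (iv0 D206662) D206663 (iv2 F441790)
theorem F441793 : act 5 n206663 = n131861 := d17_7 (iv1 F164659) (iv5 F176484) F176486 (iv5 D106855) F102064 D129084 D206663 (iv0 F400020) (iv4 D196240)
theorem F441794 : act 6 n200659 = n206663 := d21_9 (iv5 D129084) (iv1 F95276) D106654 F164283 (iv1 F363070) (iv6 F418406) (iv5 D200923) F395858 (iv5 F417381) (iv1 D206663)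
def n206664 : Q := act 4 n129084
theorem D206664 : act 4 n129084 = n206664 := rfl
theorem F441795 : act 5 n206664 = n205755 := d16_1 D206664 F437719 (iv5 F400124) (iv4 D196268) (iv5 D106854) F102053 D129087 (iv7 F211674) F211673
def n206665 : Q := act 6 n129084
theorem D206665 : act 6 n129084 = n206665 := rfl
theorem F441796 : act 3 n206665 = n131889 := d7_1 D206665 (iv6 F441783) F441779
theorem F441797 : act 5 n206665 = n205384 := d12_1 D206665 F436180 F435693 (iv6 D129085) D129084
theorem F441798 : act 7 n206665 = n206518 := d14_2 F211667 D206665 (iv6 D206518) (iv7 F440681) (iv6 F440684)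
def n206666 : Q := act 4 n129087
theorem D206666 : act 4 n129087 = n206666 := rfl
theorem F441799 : act 3 n206666 = n129539 := d5_1 D206666 F207678 F316782 D154350 (iv3 F358583)
theorem F441800 : act 5 n206666 = n200834 := d9_2 D129087 D206666 F418102 (iv5 F400131) (iv4 D196269) (iv5 D106855) F102064 D129084 D206664 F441795 F437719 (iv5 F400124) (iv4 D196268) (iv5 D106854) F102053
theorem F441801 : act 6 n206666 = n129537 := d21_3 D205756 F437723 (iv5 F441800) (iv1 F421972) F421970 F417094 (iv1 F418099) (iv5 D200833) D200834 F418103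
def n206667 : Q := act 6 n129087
theorem D206667 : act 6 n129087 = n206667 := rfl
theorem F441802 : act 2 n206667 = n206416 := d3_1 D206667 (iv6 F440684) F211666
theorem F441803 : act 3 n206667 = n129534 := d7_1 D206667 F358584 (iv3 F358583)
theorem F441804 : act 4 n206667 = n129537 := d10_1 D206667 (iv6 F441801) (iv4 D206666)
theorem F441805 : act 5 n206667 = n205526 := d12_1 D206667 (iv6 D205526) F355991 F165240 D129087
theorem F441806 : act 0 n206667 = n200950 := d21_4 (iv5 D106654) (iv1 F95277) D129087 D206667 (iv6 D200950) (iv5 D113657) (iv1 D52475) (iv5 F82759) D113540 F399090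
theorem F441807 : act 1 n206667 = n206498 := d15_1 (iv0 F441806) F441096 (iv2 F418464)
theorem F441808 : act 7 n206667 = n206516 := d15_2 (iv0 F437122) (iv0 F441806) (iv2 D206516)
def n206668 : Q := act 6 n129089
theorem D206668 : act 6 n129089 = n206668 := rfl
theorem F441809 : act 2 n206668 = n206115 := d3_1 D206668 F439308 F399093
theorem F441810 : act 3 n206668 = n130306 := d7_1 D206668 F394694 (iv3 F400127)
theorem F441811 : act 7 n206668 = n206112 := d14_2 (iv7 F399092) D206668 (iv6 D206112) F204716 F358249
theorem F441812 : act 0 n206113 = n206668 := d21_4 (iv5 F395594) F203087 (iv5 F414994) (iv6 F439303) (iv6 D206668) (iv5 F400124) F400125 (iv5 F417413) (iv6 D200670) (iv1 F395592)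
theorem F441813 : act 1 n206114 = n206668 := d15_1 D206114 F441811 F439301
def n206669 : Q := act 0 n129090
theorem D206669 : act 0 n129090 = n206669 := rfl
theorem F441814 : act 4 n206669 = n196237 := d18_3 (iv1 D129089) D129090 D206669 F400011 (iv4 D129096) (iv0 F95279) (iv4 F207018) (iv0 F400125) F400124
theorem F441815 : act 1 n196106 = n206669 := d15_0 (iv0 D206669) (iv7 F211680) (iv2 F399432)
theorem F441816 : act 5 n201121 = n206669 := d17_5 (iv1 D196237) (iv5 D106804) F329384 D113945 D201121 (iv0 D206669) (iv5 F399434) F441815 F441814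
def n206670 : Q := act 1 n129090
theorem D206670 : act 1 n129090 = n206670 := rfl
theorem F441817 : act 1 n206670 = n196106 := d15_1 D206670 (iv7 F440992) F440990
theorem F441818 : act 4 n206670 = n196236 := d18_7 F329384 F329052 (iv1 D28803) (iv4 F46437) D60683 D129090 D206670 (iv0 D196236) (iv5 D106804)
theorem F441819 : act 3 n205630 = n206670 := d20_5 (iv4 D126496) (iv1 D59348) (iv4 F93620) (iv3 F203362) D205630 F441818 (iv1 F400006) (iv4 F437727) F437726 (iv1 F203608)
def n206671 : Q := act 3 n129090
theorem D206671 : act 3 n129090 = n206671 := rfl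
theorem F441820 : act 0 n206671 = n205638 := d20_4 F437719 (iv1 D129089) D129090 D206671 (iv3 D205638) (iv4 F203374) (iv1 D63707) (iv4 F93712) (iv3 F203600) D205755
theorem F441821 : act 0 n187785 = n206671 := d20_4 F203448 D135627 (iv4 F418948) (iv3 F371483) (iv3 D206671) (iv4 D129090) (iv1 F399091) (iv4 F418102) F418101 F365935
def n206672 : Q := act 5 n129093
theorem D206672 : act 5 n129093 = n206672 := rfl
theorem F441822 : act 3 n206672 = n129094 := d6_1 D206672 (iv5 D129094) D129093
theorem F441823 : act 1 n206672 = n190560 := d17_6 (iv1 D98599) D98600 D191628 F383980 F216409 D206672 (iv5 D190560) D190559 F384033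
theorem F441824 : act 0 n206672 = n204884 := d21_1 D206672 F434013 (iv6 D180358) (iv1 F332751) (iv6 D128720) D128719 F354792 F332711 (iv6 F396084) (iv1 F396092)
theorem F441825 : act 6 n206672 = n137555 := d21_3 (iv5 F396083) (iv1 F396092) D206672 (iv1 D137555) F329771 (iv5 F147798) F147799 (iv5 F72667) D98610 D191644
def n206673 : Q := act 4 n129094
theorem D206673 : act 4 n129094 = n206673 := rfl
theorem F441826 : act 5 n206673 = n206670 := d9_2 D129094 D206673 F441818 F400005 (iv4 D129100) (iv5 D60692) (iv4 F329052) D113945 D201121 F441816 F441814 F400011 (iv4 D129096) (iv5 D60687) D60686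
def n206674 : Q := act 5 n129095
theorem D206674 : act 5 n129095 = n206674 := rfl
theorem F441827 : act 2 n206674 = n205405 := d2_1 D206674 F436275 F211705
theorem F441828 : act 6 n206674 = n205403 := d12_2 D129095 D206674 F436267 F399514 (iv5 D129094)
theorem F441829 : act 7 n206674 = n205281 := d13_2 F395729 D206674 F435748
theorem F441830 : act 0 n206674 = n131901 := d17_2 F332793 D206674 (iv5 D131901) F96475 (iv5 F77904) D63960 (iv5 F164601) (iv0 F164636) (iv4 F332794)
theorem F441831 : act 1 n206674 = n131898 := d17_6 D29325 F77802 (iv1 F80758) (iv5 F95280) (iv4 F207326) D206674 (iv5 D131898) (iv0 D61889) F46978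
theorem F441832 : act 4 n206674 = n205404 := d18_5 F224304 F211501 F96540 (iv4 F207326) D206674 (iv0 F436272) F417007 (iv0 F435136) F435135
def n206675 : Q := act 3 n129096
theorem D206675 : act 3 n129096 = n206675 := rfl
theorem F441833 : act 2 n206675 = n190559 := d0_1 D206675 (iv3 F396426) F396421 F363884 F211707
theorem F441834 : act 4 n206675 = n186719 := d5_2 D129096 D206675 (iv3 F431222) F431223 F207322
theorem F441835 : act 6 n206675 = n191537 := d7_2 F207418 D206675 F383696
theorem F441836 : act 7 n206675 = n190558 := d8_2 F211688 D206675 F384027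
theorem F441837 : act 0 n206675 = n186741 := d20_4 F207018 F95279 D129096 D206675 F367855 (iv4 F366990) (iv1 F285261) D189785 (iv3 F400121) F400125
theorem F441838 : act 1 n206675 = n190561 := d15_1 (iv0 F441837) (iv7 D190561) (iv2 F367854)
def n206676 : Q := act 6 n129101
theorem D206676 : act 6 n129101 = n206676 := rfl
theorem F441839 : act 2 n206676 = n205754 := d3_1 D206676 (iv6 D205754) F212399
theorem F441840 : act 3 n206676 = n205675 := d7_1 D206676 F437424 F437359
theorem F441841 : act 4 n206676 = n148735 := d10_1 D206676 (iv6 D148735) (iv4 F333196)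
theorem F441842 : act 5 n206676 = n205673 := d12_1 D206676 (iv6 F437729) F437728 F400014 F212400
theorem F441843 : act 7 n206676 = n148768 := d14_2 (iv7 F333197) D206676 (iv6 D148768) (iv7 D69722) (iv6 F106069)
theorem F441844 : act 1 n129169 = n206676 := d15_1 (iv0 F399940) F441843 F233569
def n206677 : Q := act 6 n129102
theorem D206677 : act 6 n129102 = n206677 := rfl
theorem F441845 : act 2 n206677 = n129104 := d3_1 D206677 (iv6 D129104) D129102
theorem F441846 : act 4 n206677 = n159552 := d10_1 D206677 (iv6 D159552) F333207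
theorem F441847 : act 5 n201791 = n206677 := d21_2 F396517 F421835 (iv6 D206677) F333201 F106069 D69721 (iv1 F106092) (iv5 F106099) D148772 F419050
def n206678 : Q := act 0 n129104
theorem D206678 : act 0 n129104 = n206678 := rfl
theorem F441848 : act 3 n206678 = n146885 := d20_5 (iv4 D129112) (iv1 D60697) (iv4 F95285) (iv3 F207333) D206678 (iv4 F371389) (iv1 F371391) (iv4 F418912) F418911 (iv1 F212441)
def n206679 : Q := act 1 n129104
theorem D206679 : act 1 n129104 = n206679 := rfl
def n206680 : Q := act 5 n129104
theorem D206680 : act 5 n129104 = n206680 := rfl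
theorem F441849 : act 2 n206680 = n201791 := d2_1 D206680 F441847 F441845
theorem F441850 : act 3 n206680 = n129108 := d6_1 D206680 (iv5 D129108) (iv3 F207333)
theorem F441851 : act 6 n206680 = n200789 := d12_2 D129104 D206680 (iv5 D200789) (iv6 F365769) (iv5 D129103)
theorem F441852 : act 4 n159357 = n206680 := d10_3 F441851 (iv4 F427972) F427974
theorem F441853 : act 7 n201794 = n206680 := d14_0 F441851 F417910 (iv6 F375117) F375111 (iv6 F421812)
theorem F441854 : act 0 n159363 = n206680 := d21_4 (iv5 F206678) (iv1 F206681) F114236 D159363 F441851 (iv5 D200789) D200787 F417898 (iv6 D115084) (iv1 F179150)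
theorem F441855 : act 0 n206680 = n201801 := d20_1 F441852 F421836 F387791 (iv1 D192790) (iv3 F365333) F237334 (iv1 F238461) F360959 F238407 D159357
def n206681 : Q := act 7 n129104
theorem D206681 : act 7 n129104 = n206681 := rfl
theorem F441856 : act 3 n206681 = n129109 := d8_1 D206681 (iv7 D129109) (iv3 F207333)
theorem F441857 : act 5 n206681 = n201794 := d13_1 D206681 F441853 (iv5 D206680)
theorem F441858 : act 6 n206681 = n129488 := d14_1 D206681 F207638 F204112 F96808 D129104
def n206682 : Q := act 3 n129106
theorem D206682 : act 3 n129106 = n206682 := rfl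
theorem F441859 : act 2 n206682 = n206091 := d0_1 D206682 (iv3 D206091) F204691 (iv3 F358206) (iv2 F213969)
def n206683 : Q := act 6 n129106
theorem D206683 : act 6 n129106 = n206683 := rfl
theorem F441860 : act 4 n206683 = n135215 := d10_1 D206683 F217399 (iv4 F213967)
theorem F441861 : act 5 n206683 = n205810 := d21_6 D59354 (iv1 F95284) (iv5 D60694) D60695 D129106 D206683 (iv1 D205810) (iv5 D126618) (iv6 D59402) (iv1 F45639)
theorem F441862 : act 6 n191839 = n205810 := d12_4 (iv6 D206683) F404035 (iv6 D191840) D191839 (iv5 F441861)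
theorem F441863 : act 0 n200088 = n206683 := d17_0 F441861 (iv1 D205810) (iv5 D126618) F93747 F45642 D59404 D126620 (iv0 F203685) (iv4 F414970)
theorem F441864 : act 1 n129174 = n206683 := d15_0 (iv0 F441863) F414971 F409754
def n206684 : Q := act 5 n129107
theorem D206684 : act 5 n129107 = n206684 := rfl
theorem F441865 : act 3 n206684 = n196898 := d6_1 D206684 (iv5 F418517) F418515
def n206685 : Q := act 0 n129108
theorem D206685 : act 0 n129108 = n206685 := rfl
theorem F441866 : act 5 n206685 = n132566 := d17_3 (iv1 D129107) D129108 D206685 F212787 F179222 F164862 (iv5 F97394) D133182 (iv4 F213975)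
theorem F441867 : act 7 n195256 = n206685 := d13_0 F441866 F212789 D195256
def n206686 : Q := act 7 n129108
theorem D206686 : act 7 n129108 = n206686 := rfl
theorem F441868 : act 3 n206686 = n201794 := d8_1 D206686 F441853 F441850
theorem F441869 : act 5 n206686 = n129109 := d13_1 D206686 (iv7 D129109) D129108
theorem F441870 : act 1 n195256 = n206686 := d15_1 (iv0 F396489) (iv7 D206686) (iv2 F212417)
def n206687 : Q := act 3 n129110
theorem D206687 : act 3 n129110 = n206687 := rfl
def n206688 : Q := act 5 n129110
theorem D206688 : act 5 n129110 = n206688 := rfl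
def n206689 : Q := act 3 n129112
theorem D206689 : act 3 n129112 = n206689 := rfl
theorem F441871 : act 4 n206689 = n129220 := d5_2 D129112 D206689 (iv3 D129220) (iv4 D60746) (iv3 F103859)
def n206690 : Q := act 5 n129112
theorem D206690 : act 5 n129112 = n206690 := rfl
def n206691 : Q := act 2 n129113
theorem D206691 : act 2 n129113 = n206691 := rfl
theorem F441872 : act 3 n206691 = n134113 := d0_2 D129113 D206691 (iv2 D134113) (iv3 D62999) (iv2 F95287)
theorem F441873 : act 4 n206691 = n129116 := d1_2 (iv4 F207342) D206691 (iv2 D129116)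
theorem F441874 : act 5 n206691 = n158936 := d2_2 F216273 D206691 F364183
theorem F441875 : act 7 n206691 = n134105 := d4_2 (iv7 F207343) D206691 (iv2 D134105)
theorem F441876 : act 1 n206691 = n134104 := d15_0 (iv0 D134104) (iv7 F207343) D206691
theorem F441877 : act 1 n129655 = n206691 := d15_0 F441876 F336979 (iv2 F361794)
def n206692 : Q := act 6 n129116
theorem D206692 : act 6 n129116 = n206692 := rfl
theorem F441878 : act 2 n206692 = n129117 := d3_1 D206692 (iv6 D129117) D129116
theorem F441879 : act 3 n206692 = n205977 := d7_1 D206692 F438674 F212391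
def n206693 : Q := act 0 n129117
theorem D206693 : act 0 n129117 = n206693 := rfl
def n206694 : Q := act 1 n129117
theorem D206694 : act 1 n129117 = n206694 := rfl
def n206695 : Q := act 5 n129117
theorem D206695 : act 5 n129117 = n206695 := rfl
theorem F441880 : act 3 n206695 = n129120 := d6_1 D206695 (iv5 D129120) (iv3 F207347)
theorem F441881 : act 4 n206695 = n134729 := d16_4 F403758 (iv5 F356550) F217173 D206695 (iv5 D134729) F98540 D105594 (iv7 F396630) (iv2 F403756)
theorem F441882 : act 7 n196309 = n206695 := d11_0 F441881 F216757 D196309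
def n206696 : Q := act 7 n129117
theorem D206696 : act 7 n129117 = n206696 := rfl
theorem F441883 : act 3 n206696 = n129121 := d8_1 D206696 (iv7 D129121) (iv3 F207347)
theorem F441884 : act 5 n206696 = n196309 := d13_1 D206696 F441882 (iv5 D206695)
def n206697 : Q := act 5 n129118
theorem D206697 : act 5 n129118 = n206697 := rfl
theorem F441885 : act 2 n206697 = n205979 := d2_1 D206697 F438678 F212405
theorem F441886 : act 4 n206697 = n197741 := d9_1 D206697 (iv5 F406879) F389336 (iv5 D187710) F139253 F65398 (iv4 F105043) D146886 (iv4 F391220) (iv5 D193858) (iv4 D102404) (iv5 D47515) (iv4 F63661) D88515 (iv4 F325467)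
theorem F441887 : act 6 n206697 = n129120 := d12_2 D129118 D206697 (iv5 D129120) (iv6 D60702) D60701
theorem F441888 : act 7 n206697 = n187725 := d13_2 (iv7 F325468) D206697 (iv5 D187725)
def n206698 : Q := act 3 n129119
theorem D206698 : act 3 n129119 = n206698 := rfl
theorem F441889 : act 4 n206698 = n134187 := d5_2 (iv4 F207350) D206698 F216225 F98355 (iv3 F98340)
theorem F441890 : act 6 n206698 = n191583 := d7_2 (iv6 F211901) D206698 (iv3 F383898)
theorem F441891 : act 7 n206698 = n134159 := d8_2 (iv7 F207349) D206698 F216189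
theorem F441892 : act 5 n199065 = n206698 := d12_5 F441890 F437924 (iv6 D205802) D205801 (iv6 F437921)
def n206699 : Q := act 5 n129119
theorem D206699 : act 5 n129119 = n206699 := rfl
theorem F441893 : act 2 n206699 = n198019 := d2_1 D206699 F406529 F207351
theorem F441894 : act 3 n206699 = n199065 := d6_1 D206699 F441892 (iv3 D206698)
theorem F441895 : act 7 n206699 = n134161 := d13_2 (iv7 F207349) D206699 (iv5 D134161)
theorem F441896 : act 4 n206699 = n198239 := d16_2 (iv4 F207350) D206699 (iv5 D198239) F402862 F402861 F209076 F95697 (iv7 F100497) (iv2 F100498)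
theorem F441897 : act 0 n206699 = n197712 := d17_2 (iv1 F207348) D206699 (iv5 F438661) (iv4 D205972) F204103 F166239 F166237 (iv0 F95299) D60848
theorem F441898 : act 1 n206699 = n198013 := d17_6 (iv1 F217861) F217858 (iv1 F209082) F100406 (iv4 F207350) D206699 (iv5 F437342) (iv0 F437344) (iv4 D137320)
def n206700 : Q := act 0 n129120
theorem D206700 : act 0 n129120 = n206700 := rfl
theorem F441899 : act 5 n206700 = n196687 := d17_3 (iv1 D129119) D129120 D206700 (iv4 D196687) (iv5 D107212) F102179 (iv5 F98727) F98729 (iv4 F207350)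
theorem F441900 : act 1 n129489 = n206700 := d15_0 (iv0 D206700) (iv7 F330982) F330981
theorem F441901 : act 2 n198179 = n206700 := d2_3 F441899 F401488 F407122
theorem F441902 : act 7 n198178 = n206700 := d13_0 F441899 F401489 (iv5 F407119)
def n206701 : Q := act 1 n129120
theorem D206701 : act 1 n129120 = n206701 := rfl
theorem F441903 : act 1 n206701 = n129489 := d15_1 D206701 F207639 (iv2 F207352)
theorem F441904 : act 7 n206701 = n198179 := d15_2 (iv0 D206700) D206701 F441901
theorem F441905 : act 5 n206701 = n202627 := d17_7 F203467 F203466 (iv1 D59418) (iv5 F46444) (iv4 F95294) D129120 D206701 F424823 F208213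
theorem F441906 : act 4 n206701 = n198248 := d18_7 F402864 F402862 (iv1 D197060) F165965 D108629 (iv4 F330983) D206701 (iv0 F438867) (iv5 D206019)
theorem F441907 : act 2 n198178 = n206701 := d16_9 F441906 F407341 (iv4 D197979) F344746 (iv4 D107211) D107212 D196687 (iv5 F441899) (iv7 F441902)
def n206702 : Q := act 3 n129122
theorem D206702 : act 3 n129122 = n206702 := rfl
theorem F441908 : act 4 n206702 = n132670 := d5_2 D129122 D206702 (iv3 F345898) F203539 F95298
theorem F441909 : act 6 n206702 = n132677 := d7_2 F211754 D206702 F345896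
theorem F441910 : act 7 n206702 = n129421 := d8_2 (iv7 F207358) D206702 F207599
def n206703 : Q := act 5 n129122
theorem D206703 : act 5 n129122 = n206703 := rfl
theorem F441911 : act 2 n206703 = n129487 := d2_1 D206703 F207637 (iv2 F207357)
theorem F441912 : act 4 n206703 = n197711 := d9_1 D206703 F405476 (iv4 F174889) F323991 (iv4 D60851) (iv5 D28863) (iv4 F46497) D60845 D129486 (iv5 F330527) F330497 (iv5 F402986) F402985 F166237 D129122
theorem F441913 : act 7 n206703 = n129423 := d13_2 (iv7 F207358) D206703 (iv5 D129423)
theorem F441914 : act 0 n206703 = n129485 := d17_2 F207360 D206703 (iv5 F418966) F418962 F326874 F214321 F175357 F100496 (iv4 F162110)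
theorem F441915 : act 1 n206703 = n129484 := d17_6 (iv1 F203402) F203399 F166240 F166237 D129122 D206703 F437306 F437308 (iv4 D126869)
def n206704 : Q := act 3 n129124
theorem D206704 : act 3 n129124 = n206704 := rfl
theorem F441916 : act 5 n206704 = n135492 := d6_2 (iv5 F358348) D206704 (iv3 D135492)
theorem F441917 : act 0 n206704 = n195937 := d19_4 (iv1 F202438) (iv5 F395792) F395793 D206704 F398780 F327309 F326567 D133518 F319740 F301466 (iv3 F336901) (iv1 F336898) (iv5 D173694) (iv4 F249449) F249448 (iv1 F113302) D82566 D172444 F362308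
theorem F441918 : act 0 n195938 = n206704 := d20_4 D205769 F437802 (iv4 D205714) (iv3 F398782) (iv3 D206704) (iv4 F395793) (iv1 D195106) D195107 F437796 (iv1 D205768)
def n206705 : Q := act 6 n129124
theorem D206705 : act 6 n129124 = n206705 := rfl
def n206706 : Q := act 4 n129130
theorem D206706 : act 4 n129130 = n206706 := rfl
theorem F441919 : act 3 n206706 = n206301 := d5_1 D206706 F440145 F398374 (iv4 F398432) F398431
theorem F441920 : act 6 n206706 = n146787 := d10_2 F418904 D206706 (iv4 F418905)
theorem F441921 : act 5 n206706 = n206300 := d16_1 D206706 F440141 (iv5 D144440) (iv4 F110995) (iv5 F213979) F213978 (iv5 F212782) F212781 F212438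
def n206707 : Q := act 5 n129132
theorem D206707 : act 5 n129132 = n206707 := rfl
theorem F441922 : act 2 n206707 = n201053 := d2_1 D206707 (iv5 D201053) F328049
theorem F441923 : act 3 n206707 = n129134 := d6_1 D206707 (iv5 D129134) (iv3 F207373)
theorem F441924 : act 6 n206707 = n132394 := d12_2 D129132 D206707 (iv5 D132394) (iv6 D62120) F95313
theorem F441925 : act 7 n206707 = n201054 := d13_2 (iv7 F327587) D206707 (iv5 D201054)
theorem F441926 : act 4 n206707 = n148788 := d16_2 (iv4 F207374) D206707 (iv5 D148788) F106108 (iv5 D48899) D48898 (iv5 F106046) (iv7 F106048) F327584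
theorem F441927 : act 0 n206707 = n146852 := d17_2 (iv1 F327586) D206707 (iv5 D146852) (iv4 D68845) (iv5 D32023) F40277 D52496 (iv0 F82882) D68848
theorem F441928 : act 1 n206707 = n146846 := d17_6 (iv1 F177138) (iv5 D54033) F83026 F327588 (iv4 F207374) D206707 (iv5 D146846) D146844 F230235
def n206708 : Q := act 5 n129133
theorem D206708 : act 5 n129133 = n206708 := rfl
theorem F441929 : act 3 n206708 = n132394 := d6_1 D206708 (iv5 D132394) (iv3 F207375)
theorem F441930 : act 6 n206708 = n129134 := d12_2 D129133 D206708 (iv5 D129134) (iv6 D60710) D60709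
theorem F441931 : act 0 n193046 = n206708 := d21_7 (iv5 D29459) (iv1 F23824) D30070 D63712 (iv1 F208177) F374636 (iv5 F388581) (iv5 D206708) (iv6 D129133) F95318
def n206709 : Q := act 4 n129134
theorem D206709 : act 4 n129134 = n206709 := rfl
theorem F441932 : act 5 n206709 = n206020 := d9_2 D129134 D206709 F438871 F204204 (iv4 F100465) F100466 (iv4 F162110) D129483 (iv4 F405834) (iv5 D197800) F330495 (iv5 D64539) F48817 D30383 (iv4 F95320)
theorem F441933 : act 7 n206019 = n206709 := d13_0 F441932 (iv7 D206020) D206019
def n206710 : Q := act 7 n129134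
theorem D206710 : act 7 n129134 = n206710 := rfl
theorem F441934 : act 2 n206710 = n129483 := d4_1 D206710 (iv7 F212437) F212436
theorem F441935 : act 3 n206710 = n201054 := d8_1 D206710 (iv7 F441925) F441923
theorem F441936 : act 4 n206710 = n206019 := d11_1 D206710 F441933 (iv4 D206709)
theorem F441937 : act 5 n206710 = n129135 := d13_1 D206710 (iv7 D129135) D129134
theorem F441938 : act 1 n198175 = n206710 := d15_1 (iv0 F407110) (iv7 D206710) (iv2 F212436)
theorem F441939 : act 1 n206710 = n198177 := d15_1 F441938 F407117 (iv2 F407107)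
def n206711 : Q := act 6 n129137
theorem D206711 : act 6 n129137 = n206711 := rfl
theorem F441940 : act 3 n206711 = n129140 := d7_1 D206711 (iv6 D129140) D129137
theorem F441941 : act 4 n206711 = n134942 := d10_1 D206711 (iv6 D134942) (iv4 F207381)
def n206712 : Q := act 6 n129138
theorem D206712 : act 6 n129138 = n206712 := rfl
theorem F441942 : act 2 n206712 = n130775 := d3_1 D206712 (iv6 D130775) (iv2 F214750)
theorem F441943 : act 3 n206712 = n205881 := d7_1 D206712 F438244 F214790
theorem F441944 : act 4 n206712 = n129140 := d10_1 D206712 (iv6 D129140) D129138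
theorem F441945 : act 5 n206712 = n198553 := d12_1 D206712 F408334 F234644 (iv6 F315299) F208830
theorem F441946 : act 7 n206712 = n205875 := d14_2 (iv7 F214751) D206712 (iv6 D205875) (iv7 F204089) (iv6 F330966)
theorem F441947 : act 0 n206689 = n129140 := d18_2 (iv1 F358023) (iv4 F441871) (iv4 F441944) F441945 (iv4 D198553) F348959 F348931 D132609 F348926
def n206713 : Q := act 4 n129139
theorem D206713 : act 4 n129139 = n206713 := rfl
theorem F441948 : act 2 n206713 = n190729 := d1_1 D206713 F380834 (iv2 F214758)
theorem F441949 : act 5 n206713 = n179663 := d9_2 D129139 D206713 (iv4 D179663) (iv5 D85799) (iv4 F129104) F315305 F97759 D129143 (iv4 F383774) F383771 F231978 F302978 (iv4 F315298) F208830 (iv4 D129138)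
theorem F441950 : act 7 n206713 = n190728 := d11_2 F214757 D206713 F380822
theorem F441951 : act 0 n206713 = n158958 := d17_0 (iv5 D158958) (iv1 F230316) (iv5 F337000) F216342 F212476 F97065 D129651 F207829 D206713
theorem F441952 : act 1 n206713 = n158961 := d18_6 (iv1 F203635) F211991 F212216 (iv4 D129138) D129139 D206713 (iv4 F360631) (iv0 F208828) F97401
theorem E103922 : n138175 = n137774 := (c21_5 F441949 (iv1 F437869) (iv5 D205787) F333874 D138175 (iv6 D137774) (iv5 D64753) (iv1 F99583) D136099 F360627 (iv1 F441952))
theorem F441953 : act 1 n137774 = n64908 := (sb E103922 (iv0 D138175))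
def n206714 : Q := act 6 n129139
theorem D206714 : act 6 n129139 = n206714 := rfl
theorem F441954 : act 3 n206714 = n205609 := d7_1 D206714 (iv6 D205609) (iv3 F380831)
def n206715 : Q := act 0 n129140
theorem D206715 : act 0 n129140 = n206715 := rfl
def n206716 : Q := act 5 n129140
theorem D206716 : act 5 n129140 = n206716 := rfl
theorem F441955 : act 0 n132551 = n206716 := d21_1 D132551 (iv5 D206716) (iv6 D129140) (iv1 F96839) D132405 F423587 (iv1 D201036) (iv5 F251339) F423590 (iv1 D132550)
def n206717 : Q := act 7 n129140
theorem D206717 : act 7 n129140 = n206717 := rfl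
theorem F441956 : act 4 n206717 = n205875 := d11_1 D206717 (iv7 F441946) F441944
theorem F441957 : act 6 n206717 = n129474 := d14_1 D206717 F354194 (iv6 D132400) (iv7 F214755) D129140
def n206718 : Q := act 6 n129142
theorem D206718 : act 6 n129142 = n206718 := rfl
theorem F441958 : act 3 n206718 = n129144 := d7_1 D206718 (iv6 D129144) D129142
theorem F441959 : act 4 n206718 = n151259 := d10_1 D206718 F237977 (iv4 F327309)
def n206719 : Q := act 5 n129144
theorem D206719 : act 5 n129144 = n206719 := rfl
theorem F441960 : act 4 n206719 = n202654 := d16_2 F214714 D206719 F424952 (iv4 D140467) (iv5 D65929) (iv4 F93854) D126714 (iv7 F204089) F330967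
def n206720 : Q := act 7 n129144
theorem D206720 : act 7 n129144 = n206720 := rfl
theorem F441961 : act 2 n206720 = n129474 := d4_1 D206720 F354194 (iv2 F214762)
theorem F441962 : act 4 n206720 = n131006 := d11_1 D206720 F362002 F214714
theorem F441963 : act 1 n129477 = n206720 := d15_1 (iv0 F330970) (iv7 D206720) F214762
theorem F441964 : act 1 n206720 = n129469 := d15_1 F441963 F361151 (iv2 F361150)
def n206721 : Q := act 6 n129145
theorem D206721 : act 6 n129145 = n206721 := rfl
theorem F441965 : act 2 n206721 = n129150 := d3_1 D206721 (iv6 D129150) (iv2 F207384)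
theorem F441966 : act 3 n206721 = n205643 := d7_1 D206721 (iv6 F437326) F437205
theorem F441967 : act 4 n206721 = n198981 := d10_1 D206721 (iv6 D198981) (iv4 F207385)
theorem F441968 : act 5 n206721 = n205633 := d12_1 D206721 F437280 F361171 (iv6 D129146) D129145
theorem F441969 : act 7 n205632 = n206721 := d13_0 F441968 (iv7 D205633) D205632
def n206722 : Q := act 6 n129147
theorem D206722 : act 6 n129147 = n206722 := rfl
theorem F441970 : act 3 n206722 = n205735 := d7_1 D206722 (iv6 D205735) (iv3 F336989)
def n206723 : Q := act 6 n129148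
theorem D206723 : act 6 n129148 = n206723 := rfl
theorem F441971 : act 3 n206723 = n206444 := d7_1 D206723 F440836 F399303
theorem F441972 : act 4 n206723 = n206543 := d10_1 D206723 F441255 F336983
theorem F441973 : act 7 n206581 = n206723 := d11_0 F441972 F441256 (iv4 F441421)
theorem F441974 : act 0 n206723 = n201835 := d20_4 F161917 D128617 D206444 (iv3 F441971) (iv3 D201835) (iv4 F371307) F397707 F397704 F396494 (iv1 D195257)
def n206724 : Q := act 6 n129149
theorem D206724 : act 6 n129149 = n206724 := rfl
theorem F441975 : act 2 n206724 = n198981 := d3_1 D206724 (iv6 D198981) (iv2 F207389)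
theorem F441976 : act 4 n206724 = n129150 := d10_1 D206724 (iv6 D129150) D129149
theorem F441977 : act 0 n206724 = n134246 := d20_7 F203606 (iv1 F99068) F163998 (iv3 F363935) (iv1 D129156) (iv3 F207393) (iv4 F441976) (iv4 F437327) (iv3 D205644) (iv1 F203609)
theorem F441978 : act 1 n206724 = n194783 := d15_1 (iv0 F441977) F394463 F394423
def n206725 : Q := act 0 n129150
theorem D206725 : act 0 n129150 = n206725 := rfl
def n206726 : Q := act 1 n129150
theorem D206726 : act 1 n129150 = n206726 := rfl
theorem F441979 : act 1 n206726 = n205632 := d15_1 D206726 F441969 F441965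
theorem F441980 : act 3 n206669 = n206726 := d20_9 (iv4 F441976) F441977 (iv4 F437327) (iv3 D205644) (iv1 F203609) (iv3 F437726) F437727 (iv1 F400009) (iv4 F441814) (iv1 D206726)
def n206727 : Q := act 5 n129150
theorem D206727 : act 5 n129150 = n206727 := rfl
theorem F441981 : act 2 n206727 = n205633 := d2_1 D206727 (iv5 F441968) F441965
theorem F441982 : act 3 n206727 = n129157 := d6_1 D206727 (iv5 D129157) (iv3 F207393)
theorem F441983 : act 6 n206727 = n129153 := d12_2 D129150 D206727 (iv5 D129153) (iv6 D60715) D60714
theorem F441984 : act 7 n205626 = n206727 := d14_0 F441983 (iv7 F436555) (iv6 F436556) F203548 D205626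
theorem F441985 : act 1 n205631 = n206727 := d15_1 D205631 (iv7 F441984) F437267
theorem F441986 : act 1 n206727 = n205630 := d15_0 (iv0 D205630) D205633 (iv2 F441981)
def n206728 : Q := act 7 n129150
theorem D206728 : act 7 n129150 = n206728 := rfl
theorem F441987 : act 2 n206728 = n205632 := d4_1 D206728 F441969 F441965
theorem F441988 : act 3 n206728 = n129158 := d8_1 D206728 (iv7 D129158) (iv3 F207393)
theorem F441989 : act 5 n206728 = n205626 := d13_1 D206728 F441984 (iv5 D206727)
theorem F441990 : act 1 n205632 = n206725 := d15_0 (iv0 D206725) D206728 F441987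
def n206729 : Q := act 3 n129151
theorem D206729 : act 3 n129151 = n206729 := rfl
def n206730 : Q := act 5 n129151
theorem D206730 : act 5 n129151 = n206730 := rfl
theorem F441991 : act 6 n206730 = n132676 := d12_2 (iv6 F365994) D206730 F212995 F209271 (iv5 F208204)
theorem F441992 : act 4 n206730 = n200091 := d16_2 F365995 D206730 (iv5 D200091) (iv4 D112616) (iv5 D51964) D51963 D112614 F351676 (iv2 F359613)
theorem F441993 : act 0 n206730 = n132677 := d17_2 D129151 D206730 F345897 F208186 F324734 F326512 F325143 (iv0 D60786) (iv4 F95325)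
theorem F441994 : act 1 n206730 = n200083 := d17_6 F351660 F351659 F173093 D112609 F365995 D206730 (iv5 D200083) D200082 F414947
def n206731 : Q := act 3 n129152
theorem D206731 : act 3 n129152 = n206731 := rfl
theorem F441995 : act 4 n159657 = n206731 := d20_2 F233568 D159657 (iv3 D206731) (iv1 D129152) F95324 F46449 D28814 D60723 D129169 F399940
def n206732 : Q := act 5 n129152
theorem D206732 : act 5 n129152 = n206732 := rfl
theorem F441996 : act 4 n206732 = n200087 := d9_1 D206732 (iv5 D200087) (iv4 D112610) (iv5 D51960) D51959 D112609 F365995 D206730 F441992 (iv5 D200091) (iv4 D112616) (iv5 D51964) D51963 D112614 F351674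
theorem F441997 : act 0 n206732 = n200083 := d17_2 F436490 D206732 (iv5 D200083) (iv4 D112604) (iv5 D51955) D51954 F325146 (iv0 F324938) D205451
theorem F441998 : act 1 n206732 = n132677 := d17_6 F351656 F351655 (iv1 F175203) D112614 F351674 D206732 F345897 F414942 F414941
def n206733 : Q := act 6 n129152
theorem D206733 : act 6 n129152 = n206733 := rfl
theorem F441999 : act 4 n206733 = n200089 := d10_1 D206733 (iv6 D200089) F351674
def n206734 : Q := act 6 n129155
theorem D206734 : act 6 n129155 = n206734 := rfl
theorem F442000 : act 2 n206734 = n129851 := d3_1 D206734 (iv6 F437227) F437226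
theorem F442001 : act 4 n206734 = n201867 := d10_1 D206734 (iv6 F422134) (iv4 F418948)
theorem F442002 : act 0 n206734 = n201837 := d20_1 (iv4 F442001) (iv4 F439244) (iv3 F439241) (iv1 F371156) F233575 (iv4 F233581) F437457 F437456 F418977 (iv1 F422131)
def n206735 : Q := act 0 n129159
theorem D206735 : act 0 n129159 = n206735 := rfl
theorem F442003 : act 4 n206735 = n200584 := d18_3 D190730 F380838 D206735 F417065 F395232 (iv0 F362514) F202256 (iv0 F328128) (iv5 F148588)
theorem F442004 : act 3 n206735 = n159572 := d20_5 F99025 D63687 (iv4 F169032) D129159 D206735 F251336 (iv1 F362425) (iv4 F409751) (iv3 D198886) F170834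
theorem F442005 : act 6 n159570 = n206735 := d7_0 F442004 (iv6 D159572) (iv3 F251331)
def n206736 : Q := act 1 n129159
theorem D206736 : act 1 n129159 = n206736 := rfl
def n206737 : Q := act 2 n129159
theorem D206737 : act 2 n129159 = n206737 := rfl
theorem F442006 : act 3 n206737 = n129662 := d0_2 D129159 D206737 (iv2 F437237) (iv3 D205616) (iv2 F203348)
theorem F442007 : act 4 n206737 = n189819 := d1_2 F380838 D206737 F380841
def n206738 : Q := act 5 n129159
theorem D206738 : act 5 n129159 = n206738 := rfl
theorem F442008 : act 3 n206738 = n129160 := d6_1 D206738 (iv5 D129160) D129159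
def n206739 : Q := act 5 n129161
theorem D206739 : act 5 n129161 = n206739 := rfl
theorem F442009 : act 3 n206739 = n129162 := d6_1 D206739 (iv5 D129162) D129161
theorem F442010 : act 1 n206739 = n191580 := d17_8 (iv1 F367757) (iv5 D186708) F157610 D98294 F345002 (iv5 D129664) (iv0 F378885) D206739 (iv4 D191580)
theorem F442011 : act 4 n206739 = n182419 := d18_5 (iv1 F437742) F437738 (iv1 F344976) F217958 D206739 (iv0 D182419) D182421 (iv0 F383893) (iv5 F437386)
theorem F442012 : act 0 n206739 = n191581 := d18_0 (iv4 D191581) (iv1 D98573) D98574 D191585 F383900 (iv0 D135758) F99232 (iv0 F378885) D206739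
def n206740 : Q := act 6 n129161
theorem D206740 : act 6 n129161 = n206740 := rfl
theorem F442013 : act 3 n206740 = n129163 := d7_1 D206740 (iv6 D129163) D129161
theorem F442014 : act 4 n206740 = n201509 := d10_1 D206740 F420781 F217958
theorem F442015 : act 7 n201528 = n206740 := d11_0 F442014 F420780 D201528
def n206741 : Q := act 6 n129162
theorem D206741 : act 6 n129162 = n206741 := rfl
theorem F442016 : act 4 n206741 = n166756 := d10_1 D206741 (iv6 D166756) (iv4 F334297)
def n206742 : Q := act 5 n129163
theorem D206742 : act 5 n129163 = n206742 := rfl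
theorem F442017 : act 0 n206742 = n133170 := d17_2 F437957 D206742 (iv5 D133170) (iv4 D62483) D62484 (iv0 F101903) F96695 (iv0 F203683) D205815
theorem F442018 : act 1 n206742 = n205705 := d17_6 D63713 D135500 F407071 F407068 F217847 D206742 (iv5 D205705) (iv0 F203459) F95444
def n206743 : Q := act 3 n129164
theorem D206743 : act 3 n129164 = n206743 := rfl
theorem F442019 : act 4 n206743 = n148746 := d5_2 (iv4 F334315) D206743 F288301 (iv4 F336071) F336070
theorem F442020 : act 5 n206743 = n129849 := d6_2 (iv5 F207398) D206743 (iv3 D129849)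
theorem F442021 : act 7 n206743 = n148743 := d8_2 F437253 D206743 F437257
theorem F442022 : act 0 n200970 = n206743 := d20_7 (iv4 F327295) (iv1 F327765) F176880 F82873 D52492 D113686 D200970 F442019 F288301 (iv1 F288298)
theorem F442023 : act 5 n200970 = n206736 := d18_9 (iv1 D206736) (iv4 F380838) (iv1 F380840) (iv4 F437455) (iv5 D205685) (iv4 F364740) F251356 (iv4 F442019) (iv0 F442022)
def n206744 : Q := act 6 n129164
theorem D206744 : act 6 n129164 = n206744 := rfl
theorem F442024 : act 2 n206744 = n132549 := d3_1 D206744 F437251 (iv2 F437249)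
theorem F442025 : act 4 n206744 = n132800 := d10_1 D206744 (iv6 F364317) (iv4 F334315)
theorem F442026 : act 7 n206744 = n132550 := d14_2 F437253 D206744 (iv6 F423590) F251340 F437258
theorem F442027 : act 0 n206744 = n132552 := d21_4 (iv5 D60991) D60989 (iv5 F207398) D206744 (iv6 F326080) D200083 (iv1 F441994) (iv5 D206730) F365994 (iv1 D129853)
theorem F442028 : act 0 n132546 = n206744 := d21_4 (iv5 F209669) (iv1 F212769) (iv5 D132545) D132546 (iv6 D206744) F207398 (iv1 F208169) F345873 (iv6 D62039) D62035
def n206745 : Q := act 3 n129165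
theorem D206745 : act 3 n129165 = n206745 := rfl
theorem F442029 : act 4 n206745 = n182700 := d5_2 (iv4 F334317) D206745 F348534 D186801 F368052
theorem F442030 : act 5 n206745 = n129851 := d6_2 F207399 D206745 (iv3 D129851)
theorem F442031 : act 1 n129664 = n206745 := d17_6 F391732 (iv5 F395441) F395442 (iv5 D135760) F99232 D129664 F442030 (iv0 F439277) (iv4 D206105)
theorem F442032 : act 1 n206745 = n191576 := d15_1 F442031 F437288 F437285
def n206746 : Q := act 6 n129165
theorem D206746 : act 6 n129165 = n206746 := rfl
theorem F442033 : act 2 n206746 = n148742 := d3_1 D206746 F437258 (iv2 F437256)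
theorem F442034 : act 4 n206746 = n202313 := d10_1 D206746 F423600 (iv4 F334317)
theorem F442035 : act 7 n205897 = n206746 := d11_0 F442034 F423598 D205897
theorem F442036 : act 0 n206041 = n206746 := d18_2 F359980 (iv4 F438966) F442034 (iv5 D202313) (iv4 F179899) F326813 (iv4 F93224) D126006 F350852
def n206747 : Q := act 2 n129169
theorem D206747 : act 2 n129169 = n206747 := rfl
theorem F442037 : act 3 n206747 = n190725 := d0_2 D129169 D206747 (iv2 F409760) (iv3 D198888) F170845
theorem F442038 : act 4 n206747 = n159574 := d1_2 F399939 D206747 F399936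
theorem F442039 : act 1 n206747 = n205754 := d15_0 (iv0 F437718) F409752 D206747
theorem F442040 : act 1 n148768 = n206747 := d15_0 F442039 F437717 (iv2 F233569)
def n206748 : Q := act 5 n129169
theorem D206748 : act 5 n129169 = n206748 := rfl
theorem F442041 : act 3 n206748 = n129170 := d6_1 D206748 (iv5 D129170) D129169
theorem F442042 : act 1 n206748 = n136319 := d17_8 (iv1 F381093) (iv5 F381095) (iv1 D180329) D180331 (iv4 F437414) F437415 (iv0 F399940) D206748 F219389
theorem F442043 : act 4 n206643 = n206748 := d18_5 (iv1 F327652) (iv4 F358303) D196250 F400050 D206643 F442042 F219389 F381092 (iv5 F400119)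
theorem F442044 : act 0 n206748 = n190795 := d20_7 F146890 (iv1 D44567) D44568 D95426 D189900 (iv3 F441715) F442043 (iv4 D190795) F148998 (iv1 F146892)
def n206749 : Q := act 1 n129170
theorem D206749 : act 1 n129170 = n206749 := rfl
theorem F442045 : act 1 n206749 = n129173 := d15_1 D206749 (iv7 F362153) F362155
theorem F442046 : act 7 n206749 = n195262 := d15_2 F216292 D206749 F396507
theorem F442047 : act 5 n206749 = n195263 := d17_7 F95520 F46564 (iv1 F80287) (iv5 F80288) D60723 D129170 D206749 F396515 (iv4 D129818)
theorem F442048 : act 4 n206749 = n203881 := d17_9 F430218 (iv5 D163807) D163804 (iv5 F334305) (iv4 F437859) F437860 (iv0 D129168) D129170 D206749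
theorem F442049 : act 6 n129515 = n206749 := d10_0 F442048 F430216 (iv4 F207663)
def n206750 : Q := act 2 n129172
theorem D206750 : act 2 n129172 = n206750 := rfl
theorem F442050 : act 7 n206750 = n190725 := d4_2 F409757 D206750 (iv2 F409760)
theorem F442051 : act 1 n206750 = n182599 := d15_0 (iv0 F409758) F409757 D206750
theorem F442052 : act 1 n190724 = n206750 := d15_0 F442051 F284107 (iv2 F380812)
def n206751 : Q := act 5 n129172
theorem D206751 : act 5 n129172 = n206751 := rfl
theorem F442053 : act 3 n206751 = n129173 := d6_1 D206751 (iv5 D129173) D129172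
theorem F442054 : act 0 n206751 = n183412 := d17_2 (iv1 F380815) D206751 (iv5 D183412) (iv4 D87554) (iv5 D40753) (iv0 F66245) D46089 F329334 (iv4 F221051)
theorem F442055 : act 0 n146874 = n206751 := d19_0 (iv5 D206751) (iv4 F407188) (iv3 D198196) (iv1 D109030) (iv5 F327617) F133708 F68893 (iv1 F67965) (iv5 F293396) D98921 D191788 F384438 F358468 F216313 (iv3 D132683) (iv1 F168006) D126512 D205674 F437420
theorem F442056 : act 4 n206751 = n146863 := d20_2 F233473 F442055 (iv3 F398503) (iv1 D130692) F95801 F46673 D29030 D61326 D130712 F363172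
def n206752 : Q := act 6 n129172
theorem D206752 : act 6 n129172 = n206752 := rfl
theorem F442057 : act 3 n206752 = n129174 := d7_1 D206752 (iv6 D129174) D129172
def n206753 : Q := act 6 n129173
theorem D206753 : act 6 n129173 = n206753 := rfl
theorem F442058 : act 4 n206753 = n165943 := d10_1 D206753 (iv6 D165943) (iv4 F362151)
def n206754 : Q := act 0 n129174
theorem D206754 : act 0 n129174 = n206754 := rfl
theorem F442059 : act 5 n206754 = n205809 := d17_1 D206754 (iv1 F437942) (iv5 D132176) F96601 F47027 F101876 D61230 (iv0 F101884) (iv4 F207405)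
theorem F442060 : act 4 n206754 = n135500 := d18_3 F203683 (iv4 F207405) D206754 (iv5 D135500) (iv4 F203667) (iv0 D126616) F93747 D59404 D126620
theorem F442061 : act 1 n200088 = n206754 := d15_0 (iv0 D206754) (iv7 F211911) (iv2 F414968)
theorem F442062 : act 6 n129438 = n206754 := d10_0 F442060 F217907 F214354
def n206755 : Q := act 5 n129174
theorem D206755 : act 5 n129174 = n206755 := rfl
theorem F442063 : act 0 n206755 = n205700 := d17_2 (iv1 F441864) D206755 (iv5 D205700) (iv4 F203456) D135483 (iv0 F219401) F219399 (iv0 F217885) (iv4 F441860)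
theorem F442064 : act 1 n206755 = n205698 := d17_6 D59367 D126540 F203461 F96695 (iv4 F207405) D206755 (iv5 D205698) (iv0 D126536) F93642
def n206756 : Q := act 3 n129175
theorem D206756 : act 3 n129175 = n206756 := rfl
theorem F442065 : act 4 n206756 = n130653 := d5_2 F212525 D206756 (iv3 F214721) F319734 F317495
theorem F442066 : act 5 n206756 = n163475 := d6_2 (iv5 F211044) D206756 (iv3 F361103)
theorem F442067 : act 7 n206756 = n191130 := d8_2 F216634 D206756 F382343
theorem F442068 : act 0 n206756 = n196110 := d19_4 (iv1 F155406) (iv5 F317031) F212525 D206756 F399453 (iv4 D191092) D191091 (iv1 F382192) (iv5 D189951) D189950 F378347 F356813 F235299 F323529 D144895 F227856 (iv5 D127842) F94555 F86745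
theorem F442069 : act 0 n200738 = n206756 := d20_4 (iv4 F333526) (iv1 F161493) (iv4 F176594) (iv3 F417720) (iv3 D206756) (iv4 F212525) (iv1 F212526) (iv4 F395657) F395656 F325762
theorem F442070 : act 2 n206756 = n191132 := d15_3 F399456 F417722 (iv7 F442067)
def n206757 : Q := act 3 n129182
theorem D206757 : act 3 n129182 = n206757 := rfl
theorem F442071 : act 2 n206757 = n200689 := d0_1 D206757 (iv3 F417509) F204692 (iv3 F358167) (iv2 F211181)
theorem F442072 : act 4 n206757 = n154231 := d5_2 (iv4 F207411) D206757 (iv3 F329397) (iv4 D134881) F164667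
theorem F442073 : act 5 n206757 = n205224 := d6_2 F418483 D206757 (iv3 F435503)
theorem F442074 : act 6 n206757 = n154022 := d7_2 (iv6 F211955) D206757 (iv3 F365503)
theorem F442075 : act 7 n206757 = n200690 := d8_2 F211188 D206757 (iv3 F417505)
theorem F442076 : act 0 n206757 = n196109 := d20_4 F207041 (iv1 F164284) (iv4 F207411) D206757 F399448 F176551 (iv1 F161496) (iv4 F204755) (iv3 F363887) F211197
theorem F442077 : act 1 n206757 = n200684 := d15_1 (iv0 F442076) F417475 (iv2 F399447)
def n206758 : Q := act 6 n129189
theorem D206758 : act 6 n129189 = n206758 := rfl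
theorem F442078 : act 3 n206758 = n129192 := d7_1 D206758 (iv6 D129192) D129189
theorem F442079 : act 0 n206758 = n188780 := d21_4 F315468 (iv1 F315460) (iv5 F211042) D206758 F374853 (iv5 F143134) (iv1 F258904) F338581 (iv6 D132919) (iv1 F213376)
theorem F442080 : act 0 n205889 = n206758 := d21_4 D130211 F315326 (iv5 F344164) (iv6 F438288) (iv6 D206758) F211042 F315459 (iv5 F316616) F324701 F208624
def n206759 : Q := act 3 n129190
theorem D206759 : act 3 n129190 = n206759 := rfl
theorem F442081 : act 0 n206759 = n134903 := d20_4 F95329 D60733 D129190 D206759 (iv3 F217106) F380025 (iv1 D190536) (iv4 F380020) (iv3 F380021) (iv1 D129176)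
def n206760 : Q := act 5 n129190
theorem D206760 : act 5 n129190 = n206760 := rfl
theorem F442082 : act 2 n206760 = n197045 := d2_1 D206760 F402811 (iv2 F217720)
theorem F442083 : act 4 n206760 = n191120 := d9_1 D206760 F382305 F352021 F333683 (iv4 D61790) (iv5 F211039) D129195 (iv5 F400093) F400095 F381009 F366591 (iv5 D131671) (iv4 D61785) F211043 D129190
theorem F442084 : act 7 n206760 = n191118 := d13_2 F217719 D206760 F382294
theorem F442085 : act 0 n206760 = n203665 := d17_2 F214805 D206760 F429316 (iv4 D129696) F317036 F314732 F209326 F212539 F212535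
theorem F442086 : act 1 n206760 = n196084 := d17_6 F213156 F23393 D29285 F211043 D129190 D206760 F399352 (iv0 F213161) (iv4 D62372)
def n206761 : Q := act 6 n129190
theorem D206761 : act 6 n129190 = n206761 := rfl
theorem F442087 : act 4 n206761 = n129192 := d10_1 D206761 (iv6 D129192) D129190
def n206762 : Q := act 6 n129195
theorem D206762 : act 6 n129195 = n206762 := rfl
theorem F442088 : act 4 n206762 = n129197 := d10_1 D206762 (iv6 D129197) D129195
def n206763 : Q := act 0 n129199
theorem D206763 : act 0 n129199 = n206763 := rfl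
theorem F442089 : act 5 n206763 = n181686 := d17_1 D206763 (iv1 F354311) (iv5 D132644) (iv4 F212913) F341955 F199177 (iv5 F199313) F301894 (iv4 F342198)
theorem F442090 : act 4 n206763 = n181681 := d18_1 D206763 F331166 F176620 F331165 F109947 (iv0 F104935) (iv4 F229982) F342200 F212089
theorem F442091 : act 1 n129207 = n206763 := d15_0 (iv0 D206763) (iv7 F433921) F433918
theorem F442092 : act 7 n129205 = n206763 := d11_0 F442090 (iv7 F380160) (iv4 F380162)
theorem F442093 : act 2 n206763 = n129204 := d15_3 (iv0 D129204) D129205 F442092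
def n206764 : Q := act 1 n129199
theorem D206764 : act 1 n129199 = n206764 := rfl
theorem F442094 : act 1 n206764 = n129207 := d15_1 D206764 (iv7 D129207) (iv2 F207423)
theorem F442095 : act 7 n206764 = n129204 := d15_2 (iv0 D206763) D206764 (iv2 F442093)
theorem F442096 : act 5 n206764 = n147505 := d17_7 (iv1 F199159) F91938 (iv1 F91907) D124509 (iv4 F342197) F212089 D206764 (iv0 F354305) F341963
theorem F442097 : act 4 n206764 = n181690 := d17_9 (iv1 F299383) (iv5 D124588) (iv1 F299099) D163633 F341950 F338383 F342200 F212089 D206764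
theorem F442098 : act 3 n205879 = n206764 := d20_9 F342198 (iv1 F301894) (iv4 F433871) F433869 F438188 F438184 F203906 D136832 (iv4 F438231) (iv1 D206764)
theorem F442099 : act 2 n129205 = n206764 := d1_3 F442097 (iv2 F380159) (iv4 F380162)
def n206765 : Q := act 4 n129204
theorem D206765 : act 4 n129204 = n206765 := rfl
theorem F442100 : act 2 n206765 = n181681 := d1_1 D206765 (iv4 F442090) F442093
theorem F442101 : act 5 n206765 = n167904 := d9_2 (iv5 F341970) D206765 (iv4 D167904) (iv5 F123914) D86368 (iv5 F310636) (iv4 F433939) F433938 F380162 (iv5 D190572) (iv4 D96180) (iv5 D44900) (iv4 F58150) D81433 D169805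
theorem F442102 : act 7 n206765 = n181690 := d11_2 F442095 D206765 (iv4 F442097)
theorem F442103 : act 0 n206765 = n177400 := d17_0 (iv5 D177400) F299384 (iv5 F341973) F208718 D130206 F337904 D204866 F433922 D206765
theorem F442104 : act 1 n206765 = n190780 := d18_6 (iv1 F268022) (iv4 D170592) F125683 D169805 (iv5 F341970) D206765 F381028 (iv0 F433888) F433885
theorem F442105 : act 6 n206765 = n205552 := d21_5 D62405 (iv1 F213567) F213568 (iv6 F381029) (iv1 F442104) (iv5 D205552) F399332 F399331 (iv6 D132935) (iv1 F97280)
def n206766 : Q := act 6 n129204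
theorem D206766 : act 6 n129204 = n206766 := rfl
theorem F442106 : act 3 n206766 = n152313 := d7_1 D206766 F438624 F438627
theorem F442107 : act 4 n206766 = n205552 := d10_1 D206766 (iv6 F442105) (iv4 D206765)
theorem F442108 : act 5 n206766 = n130400 := d21_6 D29510 (iv1 F212100) (iv5 D60736) D60737 D129204 D206766 (iv1 F213493) (iv5 D132905) (iv6 D62368) (iv1 F47319)
theorem F442109 : act 0 n129406 = n206766 := d21_4 D62411 (iv1 F338347) F322746 D129406 (iv6 D206766) F341970 F267224 F341966 F338370 (iv1 D62410)
theorem F442110 : act 7 n152730 = n206766 := d13_0 F442108 F306364 D152730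
def n206767 : Q := act 3 n129217
theorem D206767 : act 3 n129217 = n206767 := rfl
theorem F442111 : act 4 n206767 = n129218 := d5_2 D129217 D206767 (iv3 D129218) (iv4 D60744) D60743
theorem F442112 : act 0 n129467 = n206767 := d20_7 F95842 (iv1 F47403) (iv4 F96714) (iv3 F319947) F319155 (iv3 F214101) F214102 F442111 (iv3 D129218) (iv1 F95845)
def n206768 : Q := act 5 n129217
theorem D206768 : act 5 n129217 = n206768 := rfl
theorem F442113 : act 0 n206768 = n129667 := d17_2 F207437 D206768 (iv5 D129667) F203370 D135481 (iv0 F217854) (iv5 F209210) (iv0 D130637) F95781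
theorem F442114 : act 1 n206768 = n129670 := d17_6 (iv1 F93625) D60919 F175215 (iv5 F101875) D129217 D206768 (iv5 D129670) F203378 F203377
theorem F442115 : act 4 n191527 = n206768 := d18_7 (iv1 D60908) F46530 D28888 D60913 D129678 F332374 D191527 F442114 (iv5 D129670)
def n206769 : Q := act 4 n129238
theorem D206769 : act 4 n129238 = n206769 := rfl
theorem F442116 : act 3 n205426 = n206769 := d20_5 F77901 D49290 (iv4 F163726) D131897 (iv1 F436358) (iv4 D206769) (iv1 D129238) (iv4 F206985) F206984 F95145
def n206770 : Q := act 4 n129265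
theorem D206770 : act 4 n129265 = n206770 := rfl
theorem F442117 : act 2 n206770 = n154631 := d1_1 D206770 F338731 F338706
theorem F442118 : act 3 n206770 = n186804 := d5_1 D206770 (iv4 F383720) F383722 (iv4 F433871) F433869
theorem F442119 : act 5 n206770 = n192990 := d9_2 (iv5 F338703) D206770 F388452 (iv5 D128454) (iv4 F347672) F347673 (iv4 F338696) F352074 (iv4 F427450) (iv5 D203218) F185769 (iv5 F184773) D128455 (iv5 F403234) (iv4 D197141)
theorem F442120 : act 6 n206770 = n190564 := d10_2 (iv6 F338705) D206770 (iv4 F421418)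
theorem F442121 : act 7 n206770 = n154632 := d11_2 F434019 D206770 (iv4 F434016)
theorem F442122 : act 0 n206770 = n153868 := d17_0 (iv5 D153868) (iv1 F131170) D128432 F332702 D135281 (iv0 F440446) F440443 (iv0 F438188) D206770
theorem F442123 : act 1 n206770 = n154620 := d18_6 (iv1 D197618) (iv4 F209263) (iv1 F403235) (iv4 D197141) (iv5 F338703) D206770 F349324 F374888 (iv5 F405042)
def n206771 : Q := act 6 n129275
theorem D206771 : act 6 n129275 = n206771 := rfl
theorem F442124 : act 2 n206771 = n206327 := d3_1 D206771 (iv6 D206327) F311931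
theorem F442125 : act 3 n206771 = n129278 := d7_1 D206771 (iv6 D129278) D129275
theorem F442126 : act 0 n206771 = n165952 := d21_4 F313634 F311275 (iv5 F211048) D206771 (iv6 F430616) (iv5 D203964) D203963 (iv5 F440261) (iv6 D206326) F315351
def n206772 : Q := act 5 n129276
theorem D206772 : act 5 n129276 = n206772 := rfl
theorem F442127 : act 3 n206772 = n179776 := d6_1 D206772 F380085 F380084
theorem F442128 : act 7 n206772 = n189153 := d13_2 (iv7 F214180) D206772 F375875
theorem F442129 : act 4 n206772 = n135149 := d16_2 D129276 D206772 (iv5 F432841) F432840 (iv5 D135404) (iv4 D63653) F211050 F214118 (iv2 F214117)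
theorem F442130 : act 0 n206772 = n135292 := d17_2 (iv1 F330959) D206772 (iv5 D135292) F98954 (iv5 F315463) (iv0 F317688) (iv5 F212106) (iv0 F330925) F204091
theorem F442131 : act 1 n206772 = n135294 := d17_6 (iv1 D14255) D14257 D30041 F211046 D129276 D206772 (iv5 D135294) F98955 (iv4 D30035)
def n206773 : Q := act 3 n129281
theorem D206773 : act 3 n129281 = n206773 := rfl
theorem F442132 : act 4 n206773 = n188804 := d5_2 D129281 D206773 F374954 F214103 (iv3 D129280)
theorem F442133 : act 7 n206773 = n134889 := d8_2 F214184 D206773 F217095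
theorem F442134 : act 0 n206773 = n134891 := d19_4 (iv1 F52401) F211050 D129281 D206773 F375711 F375710 (iv3 F366792) F280360 (iv5 D150110) F233063 (iv3 F233060) (iv1 F108871) F108785 (iv4 F333920) (iv3 F334166) F334164 F334153 F308848 F86346
theorem F442135 : act 0 n133195 = n206773 := d20_4 (iv4 D50057) (iv1 F47985) D63032 (iv3 F214020) (iv3 D206773) (iv4 D129281) (iv1 D60765) D60767 F95356 (iv1 F79235)
theorem F442136 : act 5 n206773 = n197594 := d17_1 F442135 F405076 (iv5 D197624) (iv4 F203339) F203340 (iv0 D62318) D62320 (iv0 F97441) D133195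
theorem F442137 : act 2 n134890 = n206773 := d2_3 F442136 (iv2 F405087) F405084
def n206774 : Q := act 5 n129281
theorem D206774 : act 5 n129281 = n206774 := rfl
theorem F442138 : act 2 n206774 = n189153 := d2_1 D206774 F375875 (iv2 F214182)
theorem F442139 : act 3 n206774 = n197594 := d6_1 D206774 (iv5 F442136) (iv3 D206773)
theorem F442140 : act 0 n206774 = n135294 := d17_2 F214807 D206774 (iv5 D135294) (iv4 F207720) D132916 (iv0 F317689) (iv5 F319891) (iv0 D133529) D133532
theorem F442141 : act 1 n206774 = n135292 := d17_6 D30027 (iv5 F52397) (iv1 F52401) F211050 D129281 D206774 (iv5 D135292) (iv0 D63605) (iv4 D30030)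
theorem F442142 : act 4 n135150 = n206774 := d16_0 (iv5 D206774) (iv4 D129281) (iv5 F211050) D63653 D135404 (iv4 F432840) F432841 (iv7 F434643) F434640
theorem F442143 : act 6 n189150 = n206774 := d3_0 F442138 (iv6 D189153) D189150
def n206775 : Q := act 6 n129281
theorem D206775 : act 6 n129281 = n206775 := rfl
theorem F442144 : act 2 n206775 = n141792 := d3_1 D206775 F359166 (iv2 F214182)
theorem F442145 : act 4 n206775 = n129283 := d10_1 D206775 (iv6 D129283) D129281
theorem F442146 : act 0 n202965 = n206775 := d21_4 D63225 D134543 F216529 F426413 (iv6 D206775) D206774 F442140 (iv5 D135294) F326616 (iv1 D63223)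
theorem F442147 : act 7 n141797 = n206775 := d11_0 F442145 (iv7 F359099) D141797
def n206776 : Q := act 3 n129286
theorem D206776 : act 3 n129286 = n206776 := rfl
theorem F442148 : act 4 n206776 = n129433 := d5_2 F209357 D206776 (iv3 F214798) F214797 (iv3 F214100)
theorem F442149 : act 5 n206776 = n135142 := d6_2 F217325 D206776 (iv3 D135142)
def n206777 : Q := act 3 n129287
theorem D206777 : act 3 n129287 = n206777 := rfl
theorem F442150 : act 4 n206777 = n206759 := d5_2 F207487 D206777 (iv3 D206759) (iv4 D129190) D129189
theorem F442151 : act 5 n206777 = n135146 := d6_2 (iv5 F211052) D206777 (iv3 D135146)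
theorem F442152 : act 0 n206777 = n195951 := d20_4 F217155 (iv1 F214804) F207487 D206777 F398836 F395889 F321198 F217591 F217095 F217157
theorem F442153 : act 0 n134898 = n206759 := d20_1 D134898 (iv4 F442150) (iv3 D206777) (iv1 D129287) F95356 (iv4 D29553) F23422 D14225 D29952 D63396
theorem F442154 : act 1 n206777 = n195953 := d15_1 (iv0 F442152) F398843 (iv2 F398835)
theorem F442155 : act 6 n135146 = n183131 := d21_3 (iv5 F398844) (iv1 F442154) F442151 (iv1 D183131) (iv6 D87413) (iv5 D40623) F66222 D43989 D94098 D189573
theorem F442156 : act 3 n183131 = n135148 := d7_1 F442155 (iv6 D135148) D135146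
def n206778 : Q := act 6 n129287
theorem D206778 : act 6 n129287 = n206778 := rfl
theorem F442157 : act 2 n206778 = n141324 := d3_1 D206778 F342777 (iv2 F217697)
theorem F442158 : act 4 n206778 = n206758 := d10_1 D206778 (iv6 D206758) F207487
theorem F442159 : act 5 n206778 = n141262 := d12_1 D206778 (iv6 F410502) F410505 (iv6 D135148) (iv5 F211052)
theorem F442160 : act 0 n206778 = n129594 := d21_4 D135110 F217323 (iv5 F211052) D206778 F337862 (iv5 D106076) D106074 F337819 (iv6 D63505) D63500
theorem F442161 : act 0 n141326 = n206778 := d21_4 D63123 D134361 F216486 (iv6 F224341) (iv6 D206778) F211052 (iv1 D63513) (iv5 D29993) F23763 D29848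
theorem F442162 : act 7 n206778 = n141325 := d15_2 F410472 (iv0 F442160) (iv2 F410471)
def n206779 : Q := act 4 n129288
theorem D206779 : act 4 n129288 = n206779 := rfl
theorem F442163 : act 6 n206779 = n136815 := d10_2 (iv6 F326905) D206779 (iv4 D136815)
theorem F442164 : act 0 n206779 = n188312 := d17_0 (iv5 F411975) F412680 F239070 (iv4 D135139) (iv5 D63511) (iv0 F213166) (iv5 F217339) F217341 D206779
def n206780 : Q := act 5 n129291
theorem D206780 : act 5 n129291 = n206780 := rfl
theorem F442165 : act 2 n206780 = n191806 := d2_1 D206780 (iv5 D191806) F318137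
theorem F442166 : act 3 n206780 = n131179 := d6_1 D206780 (iv5 D131179) (iv3 F207489)
theorem F442167 : act 7 n206780 = n191399 := d13_2 F317134 D206780 (iv5 D191399)
theorem F442168 : act 0 n206780 = n135413 := d17_2 F317515 D206780 (iv5 D135413) (iv4 F217673) F217674 (iv0 D130793) F315308 (iv0 F315282) (iv4 F317516)
theorem F442169 : act 1 n206780 = n135416 := d17_6 (iv1 F52401) F211050 (iv1 D60765) D60768 D129291 D206780 (iv5 D135416) F108167 F108163
def n206781 : Q := act 6 n129296
theorem D206781 : act 6 n129296 = n206781 := rfl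
theorem F442170 : act 3 n206781 = n206327 := d7_1 D206781 (iv6 D206327) F311932
theorem F442171 : act 5 n206781 = n200499 := d12_1 D206781 F416749 F389865 (iv6 F338862) F239237
theorem F442172 : act 7 n206781 = n200498 := d14_2 (iv7 F214110) D206781 F416747 (iv7 F401938) (iv6 F401940)
theorem F442173 : act 0 n206781 = n129345 := d21_4 D135340 (iv1 F239239) F239237 D206781 (iv6 F361184) F362642 F362638 (iv5 D135352) (iv6 D63625) D63621
def n206782 : Q := act 6 n129300
theorem D206782 : act 6 n129300 = n206782 := rfl
theorem F442174 : act 2 n206782 = n202315 := d3_1 D206782 F423607 F208375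
theorem F442175 : act 4 n206782 = n158483 := d10_1 D206782 (iv6 D158483) (iv4 F315450)
theorem F442176 : act 7 n205960 = n206782 := d11_0 F442175 F347027 D205960
theorem F442177 : act 0 n129519 = n206782 := d18_2 F350855 (iv4 F207665) F442175 (iv5 F347030) (iv4 D115584) F179495 F351376 (iv0 D126005) F324974
theorem F442178 : act 1 n205962 = n206782 := d18_6 (iv1 F203712) (iv4 F203869) (iv1 F406354) F406356 (iv5 F350864) (iv4 F438608) F442175 F347026 (iv5 F220092)
def n206783 : Q := act 6 n129301
theorem D206783 : act 6 n129301 = n206783 := rfl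
theorem F442179 : act 2 n206783 = n205781 := d3_1 D206783 (iv6 D205781) (iv2 F208373)
theorem F442180 : act 3 n206783 = n190724 := d7_1 D206783 F380813 (iv3 F212411)
theorem F442181 : act 4 n206783 = n158491 := d10_1 D206783 (iv6 D158491) (iv4 F315480)
theorem F442182 : act 7 n206783 = n198165 := d14_2 (iv7 F208374) D206783 F407064 (iv7 F423608) F423607
theorem F442183 : act 0 n206783 = n129346 := d21_4 (iv5 F95475) (iv1 F208369) F208372 D206783 (iv6 F361185) F362157 (iv1 F217882) (iv5 F334306) (iv6 D130291) (iv1 F95656)
theorem F442184 : act 1 n206783 = n129351 := d15_1 (iv0 F442183) (iv7 F430620) F430618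
def n206784 : Q := act 0 n129302
theorem D206784 : act 0 n129302 = n206784 := rfl
def n206785 : Q := act 1 n129302
theorem D206785 : act 1 n129302 = n206785 := rfl
def n206786 : Q := act 5 n129302
theorem D206786 : act 5 n129302 = n206786 := rfl
theorem F442185 : act 3 n206786 = n206697 := d6_1 D206786 (iv5 D206697) (iv3 F207503)
theorem F442186 : act 6 n206786 = n206695 := d12_2 D129302 D206786 (iv5 D206695) (iv6 D129117) F95908
def n206787 : Q := act 4 n129305
theorem D206787 : act 4 n129305 = n206787 := rfl
def n206788 : Q := act 5 n129305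
theorem D206788 : act 5 n129305 = n206788 := rfl
theorem F442187 : act 2 n206788 = n206196 := d2_1 D206788 F439664 F358025
theorem F442188 : act 0 n179267 = n206788 := d21_10 (iv5 D206788) (iv1 F212559) (iv5 F348926) (iv6 F348929) F347843 (iv6 D85557) (iv5 D39491) D39488 D85544 D179267
def n206789 : Q := act 6 n129316
theorem D206789 : act 6 n129316 = n206789 := rfl
theorem F442189 : act 2 n206789 = n132383 := d3_1 D206789 (iv6 D132383) (iv2 F207511)
theorem F442190 : act 3 n206789 = n206677 := d7_1 D206789 (iv6 D206677) (iv3 F207512)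
theorem F442191 : act 4 n206789 = n193345 := d10_1 D206789 F389527 F216152
def n206790 : Q := act 0 n129317
theorem D206790 : act 0 n129317 = n206790 := rfl
theorem F442192 : act 4 n206790 = n205952 := d18_3 (iv1 D129321) (iv4 F207516) D206790 (iv5 D205952) D205951 (iv0 F438562) (iv4 F352291) (iv0 F352290) F350845
theorem F442193 : act 6 n206790 = n129516 := d21_5 (iv5 F207344) (iv1 F207514) (iv5 D129316) D129317 D206790 F384542 (iv1 F384541) (iv5 D129869) F323885 D126604
theorem F442194 : act 0 n206790 = n129569 := d20_1 (iv4 F442192) (iv4 D129569) (iv3 F354209) F139278 F100478 F48815 (iv1 F48736) (iv4 F93944) D126846 F438567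
def n206791 : Q := act 1 n129317
theorem D206791 : act 1 n129317 = n206791 := rfl
theorem F442195 : act 1 n206791 = n129569 := d15_1 D206791 (iv7 F354211) F212515
theorem F442196 : act 4 n206791 = n205955 := d18_7 (iv1 F219939) (iv4 F223666) F400161 F400159 (iv5 D129322) (iv4 F207516) D206791 (iv0 F438578) (iv5 F362000)
theorem F442197 : act 6 n195262 = n206791 := d21_3 (iv5 D129862) F170830 D195262 (iv1 D206791) (iv6 D129317) D129316 (iv1 F207515) (iv5 F208392) D205786 (iv1 F437863)
theorem F442198 : act 5 n206791 = n195261 := d12_1 F442197 (iv6 D195261) (iv5 D105481) D105482 D195262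
def n206792 : Q := act 5 n129317
theorem D206792 : act 5 n129317 = n206792 := rfl
theorem F442199 : act 2 n206792 = n146943 := d2_1 D206792 (iv5 F365936) F212515
def n206793 : Q := act 7 n129317
theorem D206793 : act 7 n129317 = n206793 := rfl
theorem F442200 : act 2 n206793 = n129569 := d4_1 D206793 (iv7 F354211) F212515
theorem F442201 : act 3 n206793 = n146880 := d8_1 D206793 (iv7 F417875) F417873
theorem F442202 : act 4 n206793 = n129323 := d11_1 D206793 (iv7 D129323) (iv4 F207516)
def n206794 : Q := act 7 n129322
theorem D206794 : act 7 n129322 = n206794 := rfl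
theorem F442203 : act 2 n206794 = n129570 := d4_1 D206794 F354198 F212519
theorem F442204 : act 3 n206794 = n199008 := d8_1 D206794 F410301 (iv3 F348507)
theorem F442205 : act 4 n206794 = n140360 := d11_1 D206794 (iv7 F400160) F400159
theorem F442206 : act 5 n206794 = n129323 := d13_1 D206794 (iv7 D129323) D129322
theorem F442207 : act 6 n206794 = n205437 := d14_1 D206794 F436418 F359979 (iv7 F187931) F348506
theorem F442208 : act 1 n141807 = n206794 := d15_1 (iv0 F337580) (iv7 D206794) (iv2 F212519)
theorem F442209 : act 1 n206794 = n202441 := d15_1 F442208 F424008 (iv2 F322100)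
def n206795 : Q := act 3 n129340
theorem D206795 : act 3 n129340 = n206795 := rfl
theorem F442210 : act 2 n206795 = n193506 := d0_1 D206795 F390112 F437054 (iv3 D205574) F313818
theorem F442211 : act 4 n206795 = n193500 := d5_2 (iv4 F313813) D206795 F390088 (iv4 D118109) (iv3 F185550)
theorem F442212 : act 5 n206795 = n178466 := d6_2 (iv5 F313814) D206795 (iv3 D178466)
theorem F442213 : act 6 n206795 = n173796 := d7_2 (iv6 F313815) D206795 (iv3 F361340)
theorem F442214 : act 7 n206795 = n153207 := d8_2 (iv7 F313816) D206795 (iv3 F355874)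
theorem F442215 : act 0 n206795 = n200488 := d19_4 F190054 D118102 (iv4 F313813) D206795 (iv5 D200488) (iv4 F416670) F416669 (iv1 F228460) (iv5 D145437) (iv4 D68184) (iv3 F173018) (iv1 F171192) F171187 (iv4 F329211) (iv3 F62339) (iv1 F304418) (iv5 D57648) (iv4 F90787) (iv3 F162780)
theorem F442216 : act 0 n157618 = n206795 := d20_4 F106989 F130976 D75041 D157618 (iv3 D206795) F313813 (iv1 F303696) (iv4 F323468) F323467 (iv1 F206092)
def n206796 : Q := act 0 n129345
theorem D206796 : act 0 n129345 = n206796 := rfl
theorem F442217 : act 5 n206796 = n200489 := d21_2 F362643 D206796 (iv6 D200489) F381056 F105262 (iv5 D69040) D69037 (iv5 F330314) D200069 F414888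
theorem F442218 : act 2 n200498 = n206796 := d15_3 (iv0 D206796) (iv0 F442173) F442172
theorem F442219 : act 6 n206796 = n141796 := d3_2 (iv6 F416747) F442218 (iv2 F398742)
theorem F442220 : act 3 n129376 = n206796 := d7_3 F442219 (iv3 D141796) (iv6 F359101)
def n206797 : Q := act 2 n129345
theorem D206797 : act 2 n129345 = n206797 := rfl
theorem F442221 : act 3 n206797 = n206014 := d0_2 D129345 D206797 (iv2 F438840) F430615 F327235
theorem F442222 : act 5 n206797 = n200075 := d2_2 F362643 D206797 (iv2 D200075)
theorem F442223 : act 4 n133211 = n206797 := d18_3 (iv1 D62542) (iv4 F97479) D133211 F442222 F414919 (iv0 D163439) (iv4 F297298) (iv0 F334667) (iv5 D133278)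
theorem F442224 : act 0 n206797 = n200498 := d21_1 (iv5 F442222) (iv5 D200498) (iv6 D113182) (iv1 D52241) (iv6 F82572) F105258 (iv1 F230553) (iv5 F343348) (iv6 F362992) (iv1 F414922)
def n206798 : Q := act 4 n129345
theorem D206798 : act 4 n129345 = n206798 := rfl
theorem F442225 : act 2 n206798 = n133211 := d1_1 D206798 F442223 (iv2 D206797)
theorem F442226 : act 3 n206798 = n134494 := d5_1 D206798 F437388 F437734 (iv4 D129346) D129345
theorem F442227 : act 6 n206798 = n200966 := d10_2 F361184 D206798 F418537
theorem F442228 : act 7 n206798 = n133212 := d11_2 F436538 D206798 (iv4 F436539)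
theorem F442229 : act 5 n206798 = n189523 := d16_3 (iv4 F334368) F362643 D206798 F376805 F144894 D189447 (iv5 F376617) F334376 F334345
theorem F442230 : act 0 n206798 = n133214 := d18_2 F442173 D206798 F214056 F322444 (iv4 F122723) D166584 (iv4 F429918) (iv0 F429923) (iv5 F442171)
theorem F442231 : act 1 n206798 = n133208 := d18_6 F323705 F334377 (iv1 F334375) (iv4 F334368) F362643 D206798 F214051 D133267 (iv5 F345857)
def n206799 : Q := act 0 n129346
theorem D206799 : act 0 n129346 = n206799 := rfl
theorem F442232 : act 4 n206799 = n197065 := d18_3 D60786 D129346 D206799 (iv5 D197065) F165982 (iv0 F168427) (iv4 F322461) (iv0 D120739) (iv5 F320259)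
theorem F442233 : act 2 n198165 = n206799 := d15_3 (iv0 D206799) (iv0 F442183) F442182
theorem F442234 : act 1 n129351 = n206799 := d15_0 (iv0 D206799) (iv7 F436542) F436541
theorem F442235 : act 7 n206799 = n205781 := d15_2 F442184 F442234 (iv2 F442179)
theorem F442236 : act 3 n205685 = n206799 := d20_9 (iv4 D129351) (iv1 D60787) (iv4 F95325) F95324 D60717 D129159 (iv4 F380838) (iv1 F380840) (iv4 F437455) (iv1 F442234)
theorem F442237 : act 5 n206799 = n205682 := d6_2 D205685 F442236 F437449
theorem F442238 : act 6 n205960 = n206799 := d14_5 F442235 (iv6 D205781) F208376 D206782 (iv7 F442176)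
def n206800 : Q := act 5 n129346
theorem D206800 : act 5 n129346 = n206800 := rfl
theorem F442239 : act 3 n206800 = n191578 := d6_1 D206800 (iv5 F437386) F437734
theorem F442240 : act 6 n206800 = n200091 := d12_2 F361185 D206800 (iv5 D200091) F175223 (iv5 F362157)
theorem F442241 : act 4 n206800 = n132676 := d16_2 D129346 D206800 F212995 (iv4 D130710) F172580 F172583 F325146 (iv7 F327236) F327235
theorem F442242 : act 0 n206800 = n205775 := d17_2 F442183 D206800 F437830 F213634 D132993 (iv0 F351649) (iv5 F330890) (iv0 F351652) (iv4 F442181)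
def n206801 : Q := act 2 n129350
theorem D206801 : act 2 n129350 = n206801 := rfl
theorem F442243 : act 5 n206801 = n200076 := d2_2 (iv5 F366070) D206801 (iv2 D200076)
theorem F442244 : act 7 n206801 = n206014 := d4_2 F430617 D206801 (iv2 F438840)
theorem F442245 : act 1 n206801 = n206006 := d15_0 (iv0 F438809) F430617 D206801
theorem F442246 : act 4 n206801 = n206575 := d16_0 (iv5 D206575) (iv4 F216462) (iv5 F376158) (iv4 F413872) (iv5 D199867) (iv4 F363505) D203964 F430617 D206801
theorem F442247 : act 0 n206801 = n206015 := d20_7 (iv4 D46084) (iv1 F35582) D47600 D102635 F365691 (iv3 F441395) (iv4 F442246) F438844 (iv3 D190534) F147806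
def n206802 : Q := act 4 n129350
theorem D206802 : act 4 n129350 = n206802 := rfl
theorem F442248 : act 2 n206802 = n206575 := d1_1 D206802 (iv4 F442246) (iv2 D206801)
theorem F442249 : act 0 n206802 = n206762 := d18_2 F413699 D206802 F442088 F336577 (iv4 F129387) (iv0 F346842) (iv4 F394687) (iv0 F416538) F416537
theorem F442250 : act 5 n206802 = n206574 := d18_4 (iv1 D193645) (iv4 F365318) F413699 D206802 F441392 F441599 (iv4 D206617) (iv0 F436973) (iv5 F436974)
def n206803 : Q := act 6 n129350
theorem D206803 : act 6 n129350 = n206803 := rfl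
theorem F442251 : act 3 n206803 = n129353 := d7_1 D206803 (iv6 D129353) D129350
theorem F442252 : act 5 n206803 = n133005 := d12_1 D206803 (iv6 D133005) D133004 F364884 (iv5 F366070)
def n206804 : Q := act 3 n129351
theorem D206804 : act 3 n129351 = n206804 := rfl
def n206805 : Q := act 5 n129351
theorem D206805 : act 5 n129351 = n206805 := rfl
theorem F442253 : act 4 n206805 = n132675 := d9_1 D206805 F212991 F211749 (iv5 F172571) (iv4 F172575) F325143 D129346 D206800 F442241 F212995 (iv4 D130710) F172580 F172583 F325146 D129351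
theorem F442254 : act 1 n206805 = n205775 := d17_6 F326072 F324734 F326511 F325146 D129351 D206805 F437830 (iv0 F414931) (iv4 D200077)
def n206806 : Q := act 6 n129351
theorem D206806 : act 6 n129351 = n206806 := rfl
theorem F442255 : act 4 n206806 = n129353 := d10_1 D206806 (iv6 D129353) D129351
def n206807 : Q := act 4 n129358
theorem D206807 : act 4 n129358 = n206807 := rfl
theorem F442256 : act 2 n206807 = n203675 := d1_1 D206807 F429367 F330267
theorem F442257 : act 3 n206807 = n133596 := d5_1 D206807 (iv4 D133596) (iv3 D62699) (iv4 F162923) D129358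
theorem F442258 : act 5 n206807 = n203447 := d9_2 (iv5 F313287) D206807 F428348 (iv5 F366847) D193203 F389169 (iv4 D173980) F303496 (iv4 F306784) (iv5 D157987) (iv4 F115320) D160272 (iv4 F433705) (iv5 D204819) F305789
theorem F442259 : act 6 n206807 = n130209 := d10_2 (iv6 F216612) D206807 F216610
theorem F442260 : act 7 n206807 = n152207 := d11_2 F209956 D206807 (iv4 F330271)
theorem F442261 : act 0 n206807 = n130381 := d17_0 (iv5 F389076) (iv1 F389080) (iv5 F335273) (iv4 D173927) (iv5 F319515) (iv0 F331729) F331731 F330276 D206807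
theorem F442262 : act 1 n206807 = n203289 := d18_6 F427654 F433698 (iv1 D204818) F305789 (iv5 F313287) D206807 F427694 F346378 D203282
def n206808 : Q := act 4 n129376
theorem D206808 : act 4 n129376 = n206808 := rfl
theorem F442263 : act 2 n206808 = n191691 := d1_1 D206808 (iv4 F384164) (iv2 F359078)
theorem F442264 : act 6 n206808 = n141797 := d10_2 (iv6 F359101) D206808 (iv4 D141797)
theorem F442265 : act 1 n206808 = n186798 := d15_0 (iv0 F388391) (iv7 F384163) (iv2 F442263)
def n206809 : Q := act 4 n129377
theorem D206809 : act 4 n129377 = n206809 := rfl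
theorem F442266 : act 2 n206809 = n129378 := d1_1 D206809 (iv4 D129378) D129377
theorem F442267 : act 5 n206809 = n138166 := d17_5 (iv1 F340132) (iv5 F340139) F298620 (iv5 F323631) D206809 F221353 (iv5 D64910) F99637 F325106
def n206810 : Q := act 5 n129378
theorem D206810 : act 5 n129378 = n206810 := rfl
theorem F442268 : act 2 n206810 = n138166 := d2_1 D206810 (iv5 F442267) F442266
theorem F442269 : act 3 n206810 = n133288 := d6_1 D206810 (iv5 D133288) (iv3 F207546)
theorem F442270 : act 7 n206810 = n138165 := d13_2 F209389 D206810 (iv5 F333870)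
theorem F442271 : act 1 n206810 = n134379 := d17_6 (iv1 D63250) D63251 F338707 F322701 D129378 D206810 (iv5 D134379) F359624 F333835
theorem F442272 : act 0 n206810 = n136232 := d21_1 D206810 (iv5 D136232) (iv6 F359621) (iv1 F438119) (iv6 D205845) (iv5 F357364) (iv1 F410454) F410452 (iv6 F364601) F407350
theorem F442273 : act 6 n206810 = n136592 := d21_3 D136688 F407350 D206810 (iv1 D136592) (iv6 D64208) (iv5 D30250) (iv1 D14355) D14357 D30260 D64239
def n206811 : Q := act 3 n129396
theorem D206811 : act 3 n129396 = n206811 := rfl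
theorem F442274 : act 5 n206811 = n164841 := d6_2 (iv5 F336560) D206811 (iv3 D164841)
theorem F442275 : act 4 n206811 = n136688 := d20_6 F23000 D13747 D28844 D60807 D129396 D206811 F407350 (iv4 D129378) (iv3 D60796) (iv1 D28840)
theorem F442276 : act 0 n200084 = n206811 := d18_0 F442275 F407350 (iv4 D129378) (iv5 F322701) D79660 D165880 (iv4 F302179) F359628 D200084
def n206812 : Q := act 4 n129396
theorem D206812 : act 4 n129396 = n206812 := rfl
theorem F442277 : act 3 n206812 = n182770 := d5_1 D206812 F394026 (iv3 F407348) (iv4 F442275) (iv3 D206811)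
theorem F442278 : act 5 n206812 = n197017 := d16_1 D206812 F402702 (iv5 F175887) (iv4 F356894) (iv5 D176875) F129387 (iv5 F336577) F336578 F336565
theorem F442279 : act 0 n206812 = n206802 := d17_0 F442250 (iv1 F441394) F354365 F208841 F334282 (iv0 F302174) (iv5 F336603) F212386 D206812
def n206813 : Q := act 6 n129404
theorem D206813 : act 6 n129404 = n206813 := rfl
theorem F442280 : act 2 n206813 = n129406 := d3_1 D206813 (iv6 D129406) D129404
theorem F442281 : act 5 n206813 = n176444 := d12_1 D206813 (iv6 D176444) (iv5 F322743) F302532 (iv5 F323648)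
theorem F442282 : act 0 n152730 = n206813 := d17_2 (iv1 F304854) D152730 F442281 F275747 D176479 (iv0 F275781) (iv5 D158323) (iv0 D75482) F305917
def n206814 : Q := act 1 n129406
theorem D206814 : act 1 n129406 = n206814 := rfl
theorem F442283 : act 5 n206814 = n130401 := d17_7 F249406 F275812 (iv1 D176503) (iv5 D84158) (iv4 F129157) (iv5 F307466) D206814 F213492 F305915
theorem F442284 : act 2 n152730 = n206814 := d2_3 F442283 F344393 D152730
def n206815 : Q := act 5 n129410
theorem D206815 : act 5 n129410 = n206815 := rfl
theorem F442285 : act 2 n206815 = n195280 := d2_1 D206815 (iv5 D195280) F213184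
theorem F442286 : act 3 n206815 = n196259 := d6_1 D206815 (iv5 D196259) (iv3 F207584)
theorem F442287 : act 6 n206815 = n148134 := d12_2 (iv6 F363957) D206815 F231950 D200982 (iv5 F418616)
theorem F442288 : act 7 n206815 = n195278 := d13_2 (iv7 F213185) D206815 (iv5 D195278)
theorem F442289 : act 4 n148797 = n206815 := d10_3 F442287 F231951 D148797
theorem F442290 : act 0 n132211 = n206815 := d21_4 F441866 (iv1 F212788) D132574 F347257 F442287 F231950 (iv1 D113701) D113702 (iv6 F365819) D206685
theorem F442291 : act 4 n197528 = n132211 := d17_9 F442290 (iv5 D206815) (iv1 F207585) D195281 F404691 (iv5 D197522) (iv0 D108423) D108426 D197528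
theorem F442292 : act 7 n197692 = n197528 := d11_0 F442291 F211823 (iv4 F405383)
theorem F442293 : act 2 n197528 = n197691 := d15_3 (iv0 D197691) D197692 F442292
theorem F442294 : act 2 n197692 = n197527 := d15_3 (iv0 D197527) D197528 (iv7 F442292)
theorem F442295 : act 7 n197527 = n197691 := d4_2 (iv7 F442292) F442294 (iv2 F442293)
def n206816 : Q := act 5 n129411
theorem D206816 : act 5 n129411 = n206816 := rfl
theorem F442296 : act 2 n206816 = n195278 := d2_1 D206816 (iv5 D195278) (iv2 F213183)
theorem F442297 : act 7 n206816 = n195280 := d13_2 F213182 D206816 (iv5 D195280)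
theorem F442298 : act 0 n206816 = n132211 := d17_2 F207587 D206816 (iv5 D132211) (iv4 F211814) (iv5 F217226) (iv0 F396573) (iv5 F396572) F217205 F167637
theorem F442299 : act 1 n195278 = n129435 := d15_0 (iv0 F396565) (iv7 F442297) F442296
def n206817 : Q := act 6 n129411
theorem D206817 : act 6 n129411 = n206817 := rfl
theorem F442300 : act 2 n206817 = n195279 := d3_1 D206817 (iv6 D195279) (iv2 F213183)
theorem F442301 : act 4 n206817 = n135116 := d10_1 D206817 (iv6 D135116) F207586
def n206818 : Q := act 5 n129412
theorem D206818 : act 5 n129412 = n206818 := rfl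
theorem F442302 : act 2 n206818 = n129413 := d2_1 D206818 (iv5 D129413) D129412
theorem F442303 : act 7 n206818 = n195281 := d13_2 (iv7 F207588) D206818 (iv5 D195281)
theorem F442304 : act 1 n195283 = n206818 := d15_1 D195283 F442303 F396566
theorem F442305 : act 1 n206818 = n195282 := d15_0 (iv0 D195282) (iv7 F207592) (iv2 F442302)
def n206819 : Q := act 6 n129412
theorem D206819 : act 6 n129412 = n206819 := rfl
theorem F442306 : act 2 n206819 = n129414 := d3_1 D206819 (iv6 D129414) D129412
theorem F442307 : act 3 n206819 = n195629 := d7_1 D206819 F397667 F211722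
theorem F442308 : act 7 n206819 = n205776 := d14_2 (iv7 F207588) D206819 (iv6 D205776) F203632 (iv6 F161941)
theorem F442309 : act 1 n205793 = n206819 := d15_1 D205793 F442308 F437831
theorem F442310 : act 5 n132208 = n195282 := d21_0 (iv1 F442305) (iv5 D206818) D206819 (iv1 F442309) F437884 (iv5 F360509) (iv1 F228701) (iv5 F347254) (iv6 D132212) D132208
theorem F442311 : act 1 n206819 = n205792 := d15_0 (iv0 D205792) (iv7 F207594) (iv2 F442306)
def n206820 : Q := act 0 n129413
theorem D206820 : act 0 n129413 = n206820 := rfl
theorem F442312 : act 1 n195281 = n206820 := d15_0 (iv0 D206820) F207592 (iv2 F396566)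
theorem F442313 : act 5 n206820 = n129432 := d17_7 D134882 F405382 (iv1 F405381) F336975 F167637 D195281 F442312 (iv0 D129432) (iv4 F98703)
theorem F442314 : act 6 n206693 = n129432 := d21_5 F208372 (iv1 D129301) (iv5 F95908) D129117 D206693 (iv5 F442313) (iv1 F442312) (iv5 D195281) F161941 (iv1 F208369)
theorem F442315 : act 2 n195283 = n206820 := d2_3 F442313 (iv2 F217710) (iv5 F396571)
theorem F442316 : act 7 n195282 = n206820 := d13_0 F442313 F217711 F442310
def n206821 : Q := act 1 n129413
theorem D206821 : act 1 n129413 = n206821 := rfl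
theorem F442317 : act 1 n206821 = n195281 := d15_1 D206821 (iv7 F442303) F442302
theorem F442318 : act 7 n206821 = n195283 := d15_2 (iv0 D206820) D206821 F442315
theorem F442319 : act 4 n206821 = n189077 := d17_9 F377010 F377009 (iv1 F363951) F363952 F442289 (iv5 D206815) (iv0 D129410) D129413 D206821
theorem F442320 : act 5 n129433 = n206821 := d19_1 (iv1 F211821) F442319 (iv3 D189077) (iv1 D93147) (iv5 F323234) (iv4 F93021) (iv3 D58837) F45228 D30104 (iv4 F95155) F330389 (iv1 F296433) (iv5 F341951) (iv4 F395886) (iv3 D195128) (iv1 D105310) (iv5 F114435) (iv4 F326595) (iv3 F211817)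
theorem F442321 : act 2 n206821 = n195282 := d2_1 F442320 (iv5 F442310) (iv2 F217709)
theorem F442322 : act 0 n148797 = n135142 := d17_2 (iv1 F363951) F363952 (iv5 F442149) F442148 F442320 F442317 (iv5 D195281) F207585 (iv4 F363946)
def n206822 : Q := act 0 n129414
theorem D206822 : act 0 n129414 = n206822 := rfl
theorem F442323 : act 1 n205776 = n206822 := d15_0 (iv0 D206822) F207594 (iv2 F437831)
def n206823 : Q := act 1 n129414
theorem D206823 : act 1 n129414 = n206823 := rfl
theorem F442324 : act 1 n206823 = n205776 := d15_1 D206823 (iv7 F442308) F442306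
def n206824 : Q := act 5 n129414
theorem D206824 : act 5 n129414 = n206824 := rfl
theorem F442325 : act 3 n206824 = n129416 := d6_1 D206824 (iv5 D129416) (iv3 F207593)
theorem F442326 : act 7 n206824 = n205794 := d13_2 (iv7 F207594) D206824 (iv5 D205794)
def n206825 : Q := act 0 n129415
theorem D206825 : act 0 n129415 = n206825 := rfl
def n206826 : Q := act 1 n129415
theorem D206826 : act 1 n129415 = n206826 := rfl
theorem F442327 : act 4 n206826 = n135934 := d18_7 (iv1 F359624) (iv4 F208747) F362715 F219892 (iv5 F219510) F219509 D206826 F218652 F100040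
theorem F442328 : act 2 n136692 = n206826 := d1_3 F442327 F359154 D136692
theorem F442329 : act 7 n136687 = n206826 := d11_0 F442327 F359155 D136687
theorem F442330 : act 2 n136687 = n206825 := d15_3 (iv0 D206825) D206826 (iv7 F442329)
theorem F442331 : act 4 n206825 = n135933 := d1_2 D136687 F442330 F359152
theorem F442332 : act 7 n206825 = n136692 := d4_2 (iv7 F442329) F442330 F442328
theorem F442333 : act 6 n199049 = n206825 := d10_0 F442331 F338280 D199049
def n206827 : Q := act 5 n129415
theorem D206827 : act 5 n129415 = n206827 := rfl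
theorem F442334 : act 6 n206827 = n129416 := d12_2 D129415 D206827 (iv5 D129416) (iv6 D60819) D60818
def n206828 : Q := act 7 n129415
theorem D206828 : act 7 n129415 = n206828 := rfl
theorem F442335 : act 4 n206828 = n192989 := d11_1 D206828 F388449 F219509
theorem F442336 : act 6 n206828 = n192988 := d14_1 D206828 F388445 (iv6 D105495) (iv7 F95382) D129415
theorem F442337 : act 1 n136692 = n206828 := d15_1 (iv0 F351699) (iv7 D206828) (iv2 F211730)
theorem F442338 : act 1 n206828 = n136687 := d15_1 F442337 F442329 (iv2 F442328)
def n206829 : Q := act 4 n129416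
theorem D206829 : act 4 n129416 = n206829 := rfl
theorem F442339 : act 7 n206829 = n205811 := d11_2 (iv7 F207595) D206829 (iv4 D205811)
theorem F442340 : act 5 n206829 = n205703 := d16_1 D206829 (iv4 D205703) (iv5 D126538) F93642 F45597 (iv4 F93642) D126538 (iv7 F211733) F211732
def n206830 : Q := act 5 n129417
theorem D206830 : act 5 n129417 = n206830 := rfl
theorem F442341 : act 1 n206830 = n132525 := d17_6 F437746 F437433 (iv1 F217843) (iv5 F437372) F437374 D206830 (iv5 D132525) D132523 (iv4 F437744)
def n206831 : Q := act 6 n129417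
theorem D206831 : act 6 n129417 = n206831 := rfl
theorem F442342 : act 0 n206831 = n205719 := d21_4 D132525 (iv1 F442341) (iv5 D206830) D206831 (iv6 D205719) D205718 F437553 F216363 (iv6 F437760) (iv1 D132523)
theorem F442343 : act 1 n206831 = n132670 := d15_1 (iv0 F442342) F345893 (iv2 F437556)
def n206832 : Q := act 3 n129418
theorem D206832 : act 3 n129418 = n206832 := rfl
def n206833 : Q := act 5 n129418
theorem D206833 : act 5 n129418 = n206833 := rfl
theorem F442344 : act 0 n206833 = n132525 := d17_2 (iv1 F211740) D206833 (iv5 D132525) F96926 D126486 (iv0 F212447) (iv5 F380826) F203526 (iv4 F211736)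
def n206834 : Q := act 6 n129418
theorem D206834 : act 6 n129418 = n206834 := rfl
def n206835 : Q := act 5 n129419
theorem D206835 : act 5 n129419 = n206835 := rfl
theorem F442345 : act 2 n206835 = n129420 := d2_1 D206835 (iv5 D129420) D129419
theorem F442346 : act 3 n206835 = n129468 := d6_1 D206835 (iv5 D129468) (iv3 F207596)
theorem F442347 : act 4 n206835 = n203761 := d16_2 (iv4 F207597) D206835 F429722 (iv4 F432854) (iv5 F437221) (iv4 D205613) (iv5 D126476) (iv7 F93666) D126555
theorem F442348 : act 6 n159491 = n206835 := d10_0 F442347 (iv6 F429733) (iv4 F421823)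
def n206836 : Q := act 6 n129419
theorem D206836 : act 6 n129419 = n206836 := rfl
theorem F442349 : act 2 n206836 = n129421 := d3_1 D206836 (iv6 D129421) D129419
theorem F442350 : act 3 n206836 = n129469 := d7_1 D206836 (iv6 D129469) (iv3 F207596)
theorem F442351 : act 4 n206836 = n205719 := d10_1 D206836 (iv6 D205719) (iv4 F207597)
def n206837 : Q := act 0 n129420
theorem D206837 : act 0 n129420 = n206837 := rfl
theorem F442352 : act 5 n206837 = n129809 := d17_3 (iv1 D129418) D129420 D206837 (iv4 F437357) (iv5 D205656) F203616 (iv5 F364736) F437368 F437367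
theorem F442353 : act 3 n206837 = n201772 := d20_5 F96599 (iv1 F96636) F96635 (iv3 F207598) D206837 F421753 (iv1 F398553) F343929 F219387 F99698
theorem F442354 : act 0 n205609 = n129421 := d21_4 D205625 F437266 F380832 D205609 (iv6 D129421) D129420 D206837 F442352 (iv6 F396541) (iv1 F203546)
theorem F442355 : act 4 n148763 = n205609 := d18_1 (iv1 F437820) F442354 F207600 F345899 (iv4 F217984) F217987 (iv4 F437813) (iv0 D205771) D205773
theorem F442356 : act 6 n205608 = n148763 := d10_0 F442355 (iv6 D205609) D205608
theorem F442357 : act 0 n200977 = n206714 := d20_4 (iv4 D68832) (iv1 F82888) D113699 D200977 F441954 (iv4 F442355) (iv1 D148763) (iv4 F233469) (iv3 D148703) F106056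
def n206838 : Q := act 1 n129420
theorem D206838 : act 1 n129420 = n206838 := rfl
theorem F442358 : act 5 n206838 = n129810 := d17_7 (iv1 F203550) F336990 F208386 (iv5 D126556) (iv4 F95385) D129420 D206838 F212705 F212701
def n206839 : Q := act 4 n129420
theorem D206839 : act 4 n129420 = n206839 := rfl
theorem F442359 : act 2 n206839 = n203761 := d1_1 D206839 (iv4 F442347) F442345
theorem F442360 : act 3 n206839 = n187887 := d5_1 D206839 F371762 F329286 F96635 (iv3 F207598)
theorem F442361 : act 5 n204559 = n206839 := d6_0 F442360 (iv5 F375371) (iv3 F432858)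
theorem F442362 : act 6 n187885 = n206839 := d7_0 F442360 (iv6 D187887) (iv3 F371759)
theorem F442363 : act 0 n206839 = n197673 := d21_4 F420148 (iv1 D187883) D187885 F442362 (iv6 D197673) (iv5 D108572) (iv1 D50131) D50133 (iv6 F364314) (iv1 F420147)
def n206840 : Q := act 6 n129420
theorem D206840 : act 6 n129420 = n206840 := rfl
theorem F442364 : act 2 n206840 = n159491 := d3_1 D206840 F442348 F442345
theorem F442365 : act 3 n206840 = n129422 := d7_1 D206840 (iv6 D129422) (iv3 F207598)
theorem F442366 : act 4 n206840 = n187885 := d10_1 D206840 F442362 (iv4 D206839)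
theorem F442367 : act 7 n159492 = n206840 := d11_0 F442366 (iv7 F387515) F387516
theorem F442368 : act 1 n159495 = n206840 := d18_6 (iv1 D187938) (iv4 F371864) F371866 (iv4 F365258) F365259 (iv4 F251170) F442366 F407126 F407125
theorem F442369 : act 0 n159493 = n206840 := d20_1 (iv4 F387665) F442366 F371759 F293911 (iv3 F345135) F291191 F290771 D90345 D187570 (iv1 F387667)
def n206841 : Q := act 0 n129421
theorem D206841 : act 0 n129421 = n206841 := rfl
def n206842 : Q := act 5 n129421
theorem D206842 : act 5 n129421 = n206842 := rfl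
theorem F442370 : act 3 n206842 = n129423 := d6_1 D206842 (iv5 D129423) (iv3 F207599)
def n206843 : Q := act 0 n129422
theorem D206843 : act 0 n129422 = n206843 := rfl
theorem F442371 : act 4 n206843 = n183966 := d18_3 (iv1 F344238) F344184 D206843 (iv5 D183966) (iv4 F134735) (iv0 F73820) F35207 D22648 D47096
theorem F442372 : act 1 n129481 = n206843 := d15_0 (iv0 D206843) (iv7 F394067) F394065
theorem F442373 : act 2 n129478 = n206843 := d1_3 F442371 F285829 (iv4 F362693)
theorem F442374 : act 7 n129479 = n206843 := d11_0 F442371 F285830 (iv4 F383482)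
theorem F442375 : act 5 n193043 = n206843 := d17_3 (iv1 D101114) D101116 D193043 F442371 (iv5 D183966) (iv0 D87757) D87759 D183970 F285841
def n206844 : Q := act 1 n129422
theorem D206844 : act 1 n129422 = n206844 := rfl
theorem F442376 : act 1 n206844 = n129481 := d15_1 D206844 (iv7 D129481) (iv2 F207601)
theorem F442377 : act 7 n206844 = n129478 := d15_2 (iv0 D206843) D206844 F442373
theorem F442378 : act 4 n206844 = n183967 := d18_7 D103924 F343895 F343894 F294029 (iv5 F293909) F344184 D206844 (iv0 F345092) (iv5 D103927)
theorem F442379 : act 2 n129479 = n206844 := d1_3 F442378 F285831 (iv4 F383482)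
theorem F442380 : act 3 n201783 = n206844 := d5_5 F442378 F285832 (iv4 F345080) D202472 (iv4 F424145)
theorem F442381 : act 5 n193044 = n206844 := d16_3 D192285 (iv5 F401137) F401136 F442378 (iv5 D183967) F134730 D101055 (iv7 F285853) F285852
def n206845 : Q := act 5 n129422
theorem D206845 : act 5 n129422 = n206845 := rfl
theorem F442382 : act 2 n206845 = n129480 := d2_1 D206845 (iv5 D129480) (iv2 F207601)
theorem F442383 : act 6 n206845 = n129423 := d12_2 D129422 D206845 (iv5 D129423) (iv6 D60822) D60821
theorem F442384 : act 4 n206845 = n198018 := d16_2 F344184 D206845 F440394 F440390 F386286 (iv4 F368028) F368030 F362668 (iv2 F344183)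
def n206846 : Q := act 0 n129423
theorem D206846 : act 0 n129423 = n206846 := rfl
theorem F442385 : act 5 n206846 = n129671 := d17_1 D206846 (iv1 F397299) (iv5 F406495) (iv4 D198008) (iv5 D108857) (iv0 D50266) D50269 D108867 F402874
theorem F442386 : act 1 n129487 = n206846 := d15_0 (iv0 D206846) (iv7 F441913) F441911
theorem F442387 : act 2 n129484 = n206846 := d2_3 F442385 (iv2 F437303) (iv5 F437306)
theorem F442388 : act 7 n129485 = n206846 := d13_0 F442385 (iv7 F418963) F418966
def n206847 : Q := act 1 n129423
theorem D206847 : act 1 n129423 = n206847 := rfl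
theorem F442389 : act 1 n206847 = n129487 := d15_1 D206847 (iv7 D129487) (iv2 F207602)
theorem F442390 : act 7 n206847 = n129484 := d15_2 (iv0 D206846) D206847 F442387
theorem F442391 : act 5 n206847 = n129850 := d17_7 F162271 F166233 (iv1 D107632) F78588 (iv4 F95389) D129423 D206847 (iv0 F397300) (iv4 D195544)
theorem F442392 : act 2 n129485 = n206847 := d2_3 F442391 (iv2 F418965) F418966
def n206848 : Q := act 3 n129424
theorem D206848 : act 3 n129424 = n206848 := rfl
theorem F442393 : act 4 n206848 = n130641 := d5_2 F321191 D206848 (iv3 F355280) F333169 (iv3 F321190)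
theorem F442394 : act 5 n206848 = n195286 := d6_2 F396525 D206848 (iv3 F396580)
theorem F442395 : act 7 n206848 = n146877 := d8_2 (iv7 F211783) D206848 F363917
theorem F442396 : act 0 n129517 = n206848 := d20_4 F46496 D28868 D60856 D129517 (iv3 D206848) (iv4 F321191) F321188 F214187 (iv3 D129465) (iv1 D60839)
theorem F442397 : act 0 n201645 = n193013 := d21_4 F388460 F442396 F442394 (iv6 F421229) (iv6 D193013) D193012 F388517 (iv5 D184000) (iv6 F236298) (iv1 F388461)
theorem F442398 : act 6 n183412 = n206848 := d14_5 F442395 (iv6 D146877) (iv7 F176919) D200982 F418617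
def n206849 : Q := act 6 n129424
theorem D206849 : act 6 n129424 = n206849 := rfl
theorem F442399 : act 3 n206849 = n183412 := d7_1 D206849 F442398 (iv3 D206848)
theorem F442400 : act 4 n206849 = n201030 := d10_1 D206849 (iv6 D201030) F321191
theorem F442401 : act 5 n206849 = n183411 := d12_1 D206849 (iv6 F419240) F419239 (iv6 F396526) F396525
theorem F442402 : act 0 n200086 = n206849 := d19_0 F442401 F285130 (iv3 D87592) F294440 F76413 (iv4 D34420) (iv3 F30155) F30157 (iv5 D16701) (iv4 F12805) F12804 D8035 F324963 F19755 (iv3 F19741) D25208 D51960 D112610 D200086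
def n206850 : Q := act 6 n129425
theorem D206850 : act 6 n129425 = n206850 := rfl
theorem F442403 : act 2 n206850 = n146875 := d3_1 D206850 (iv6 F363919) (iv2 F211781)
theorem F442404 : act 4 n206850 = n135588 := d10_1 D206850 (iv6 D135588) F207603
theorem F442405 : act 5 n206850 = n199475 := d12_1 D206850 (iv6 F412360) (iv5 D188038) D188039 (iv5 F372198)
theorem F442406 : act 0 n205977 = n206850 := d21_4 (iv5 F99050) F212548 F212546 (iv6 F438674) (iv6 D206850) F372198 F372190 (iv5 D105486) F76794 D59356
theorem F442407 : act 1 n129488 = n206850 := d18_6 (iv1 D71285) (iv4 F107779) D151247 F400769 (iv5 F354429) F218224 F442404 (iv0 F365711) (iv5 D151259)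
theorem F442408 : act 7 n205976 = n206850 := d15_2 (iv0 F350888) D205976 F442403
theorem F442409 : act 2 n205976 = n200981 := d4_3 F418612 (iv2 F442403) (iv7 F442408)
def n206851 : Q := act 6 n129427
theorem D206851 : act 6 n129427 = n206851 := rfl
theorem F442410 : act 3 n206851 = n129429 := d7_1 D206851 (iv6 D129429) (iv3 F207604)
theorem F442411 : act 4 n206851 = n201623 := d10_1 D206851 F421172 F377475
theorem F442412 : act 5 n206851 = n159854 := d12_1 D206851 (iv6 D159854) F114705 F327834 D129427
theorem F442413 : act 0 n201675 = n206851 := d21_4 D114915 (iv1 F419219) (iv5 F419221) D201675 (iv6 D206851) (iv5 D129427) D129424 (iv5 F396525) F396526 (iv1 D114913)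
def n206852 : Q := act 0 n129429
theorem D206852 : act 0 n129429 = n206852 := rfl
theorem F442414 : act 4 n206852 = n199071 := d20_0 (iv1 D199071) (iv4 F410530) F410529 (iv1 F401036) (iv3 F421170) F421171 D201623 (iv4 F442411) F442410 D206852
theorem F442415 : act 2 n201699 = n206852 := d1_3 F442414 F410536 (iv4 F421464)
def n206853 : Q := act 1 n129429
theorem D206853 : act 1 n129429 = n206853 := rfl
theorem F442416 : act 7 n206853 = n201699 := d15_2 (iv0 D206852) D206853 F442415
theorem F442417 : act 4 n206853 = n199070 := d18_7 F410277 F196845 (iv1 F314861) (iv4 F328581) F220643 F219492 D206853 (iv0 D199070) (iv5 F410275)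
theorem F442418 : act 3 n159466 = n206853 := d20_3 F421169 (iv1 D159465) D159466 (iv1 D206853) (iv3 F442410) F442411 (iv1 F421553) F421550 (iv3 D201635) (iv1 F421167)
def n206854 : Q := act 5 n129429
theorem D206854 : act 5 n129429 = n206854 := rfl
theorem F442419 : act 2 n206854 = n132573 := d2_1 D206854 F347259 F211825
theorem F442420 : act 3 n206854 = n159854 := d6_1 D206854 (iv5 F442412) F442410
theorem F442421 : act 6 n206854 = n129431 := d12_2 D129429 D206854 (iv5 D129431) (iv6 D60825) D60824
theorem F442422 : act 0 n206854 = n206817 := d18_0 F442301 F338464 D191565 F410532 F410530 D199071 (iv4 F442414) (iv0 D206852) D206854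
theorem F442423 : act 0 n183402 = n206854 := d21_7 (iv5 D63076) F47998 D48774 D105495 D195286 (iv6 F421229) F421228 (iv5 D206854) (iv6 D129429) (iv1 F98388)
def n206855 : Q := act 7 n129429
theorem D206855 : act 7 n129429 = n206855 := rfl
def n206856 : Q := act 3 n129430
theorem D206856 : act 3 n129430 = n206856 := rfl
theorem F442424 : act 4 n206856 = n196126 := d5_2 (iv4 F207608) D206856 F399516 F164367 (iv3 F99036)
theorem F442425 : act 7 n206856 = n135479 := d8_2 (iv7 F207607) D206856 F217850
def n206857 : Q := act 5 n129430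
theorem D206857 : act 5 n129430 = n206857 := rfl
theorem F442426 : act 2 n206857 = n136103 := d2_1 D206857 (iv5 F361829) (iv2 F211829)
theorem F442427 : act 4 n206857 = n136099 := d9_1 D206857 (iv5 D136099) (iv4 F162172) (iv5 F344618) F167059 (iv5 D63417) (iv4 F98735) (iv5 F329051) (iv4 D64769) (iv5 D30463) D30462 D64765 (iv4 F347230) F165116 (iv4 F207608)
theorem F442428 : act 6 n206857 = n130290 := d12_2 F217880 D206857 (iv5 D130290) D130291 F334306
theorem F442429 : act 7 n206857 = n135480 := d13_2 (iv7 F207607) D206857 (iv5 D135480)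
theorem F442430 : act 0 n206857 = n137823 := d17_2 (iv1 F207606) D206857 (iv5 F328662) F213008 (iv5 F104431) (iv0 D68277) F50059 F93676 D126562
theorem F442431 : act 1 n206857 = n132212 := d17_6 F222751 F219415 (iv1 F217144) F165116 (iv4 F207608) D206857 F347254 F228701 (iv4 D141305)
def n206858 : Q := act 1 n129431
theorem D206858 : act 1 n129431 = n206858 := rfl
theorem F442432 : act 1 n206858 = n138095 := d15_1 D206858 (iv7 F361831) F211831
theorem F442433 : act 7 n206858 = n138093 := d15_2 (iv0 F328623) D206858 F221316
theorem F442434 : act 5 n206858 = n202191 := d17_7 F203579 (iv5 F101894) (iv1 D48817) (iv5 F46493) (iv4 F95390) D129431 D206858 F437700 F437696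
theorem F442435 : act 4 n206858 = n136215 := d17_9 F347223 (iv5 D64758) (iv1 D30460) D30463 D64769 F329051 (iv0 F98736) D129431 D206858
theorem F442436 : act 2 n136216 = n206858 := d1_3 F442435 (iv2 D136215) D136216
theorem F442437 : act 6 n206822 = n206858 := d21_5 F442320 (iv1 D206821) (iv5 D129413) D129414 D206822 F442434 F423180 F233571 F347264 (iv1 F211821)
theorem F442438 : act 2 n205793 = n206822 := d3_3 F442437 (iv2 F442436) (iv6 F437884)
theorem F442439 : act 7 n206823 = n205793 := d15_2 (iv0 D206822) D206823 F442438
theorem F442440 : act 7 n205792 = n206822 := d15_2 F442309 F442311 (iv2 F442438)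
theorem F442441 : act 2 n206823 = n205792 := d4_3 F442440 (iv2 F442438) (iv7 F442439)
def n206859 : Q := act 3 n129432
theorem D206859 : act 3 n129432 = n206859 := rfl
theorem F442442 : act 4 n206859 = n131822 := d20_6 (iv4 D29365) (iv1 F23261) D28855 D60826 D129432 D206859 (iv1 D131822) F96427 (iv3 D60832) (iv1 F47032)
def n206860 : Q := act 4 n129432
theorem D206860 : act 4 n129432 = n206860 := rfl
def n206861 : Q := act 6 n129433
theorem D206861 : act 6 n129433 = n206861 := rfl
def n206862 : Q := act 5 n129434
theorem D206862 : act 5 n129434 = n206862 := rfl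
theorem F442443 : act 2 n206862 = n129435 := d2_1 D206862 (iv5 D129435) D129434
theorem F442444 : act 4 n197527 = n206862 := d1_0 F442443 (iv4 F405383) F442294
theorem F442445 : act 1 n206862 = n206815 := d15_0 (iv0 F442290) F211823 (iv2 F442443)
theorem F442446 : act 1 n206816 = n206862 := d15_0 F442445 F442288 (iv2 F442296)
def n206863 : Q := act 6 n129434
theorem D206863 : act 6 n129434 = n206863 := rfl
theorem F442447 : act 2 n206863 = n129436 := d3_1 D206863 (iv6 D129436) D129434
theorem F442448 : act 3 n206863 = n187652 := d7_1 D206863 F371110 F211785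
theorem F442449 : act 4 n206863 = n187692 := d10_1 D206863 (iv6 F371197) F217086
theorem F442450 : act 7 n206863 = n187650 := d14_2 F211818 D206863 F371107 (iv7 F233556) F347264
def n206864 : Q := act 6 n129435
theorem D206864 : act 6 n129435 = n206864 := rfl
theorem F442451 : act 3 n206864 = n129437 := d7_1 D206864 (iv6 D129437) (iv3 F207609)
def n206865 : Q := act 0 n129436
theorem D206865 : act 0 n129436 = n206865 := rfl
def n206866 : Q := act 1 n129436
theorem D206866 : act 1 n129436 = n206866 := rfl
theorem F442452 : act 1 n206866 = n187650 := d15_1 D206866 (iv7 F442450) F442447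
def n206867 : Q := act 5 n129436
theorem D206867 : act 5 n129436 = n206867 := rfl
theorem F442453 : act 3 n206867 = n129440 := d6_1 D206867 (iv5 D129440) (iv3 F207610)
def n206868 : Q := act 7 n129436
theorem D206868 : act 7 n129436 = n206868 := rfl
theorem F442454 : act 2 n206868 = n187650 := d4_1 D206868 (iv7 F442450) F442447
theorem F442455 : act 3 n206868 = n129441 := d8_1 D206868 (iv7 D129441) (iv3 F207610)
theorem F442456 : act 4 n206868 = n187691 := d11_1 D206868 (iv7 F371192) F217089
theorem F442457 : act 6 n206868 = n205732 := d14_1 D206868 F437616 (iv6 D132212) F96657 D129436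
theorem F442458 : act 1 n187650 = n206865 := d15_0 (iv0 D206865) D206868 F442454
def n206869 : Q := act 0 n129437
theorem D206869 : act 0 n129437 = n206869 := rfl
theorem F442459 : act 4 n206869 = n199061 := d18_3 F344197 F219495 D206869 F410509 (iv4 F228408) (iv0 D145366) F104312 D139934 (iv5 F357570)
theorem F442460 : act 6 n206869 = n201865 := d21_5 F161929 F83816 D60827 D129437 D206869 (iv5 D201865) F326944 (iv5 F161939) (iv6 D105489) D105487
theorem F442461 : act 2 n199065 = n206869 := d3_3 F442460 (iv2 F437918) (iv6 F437921)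
theorem F442462 : act 3 n206379 = n206869 := d7_3 F442460 F422123 (iv6 F440505)
theorem F442463 : act 7 n199064 = n206869 := d14_0 F442460 F422125 (iv6 D201815) (iv7 F206684) (iv6 F410519)
def n206870 : Q := act 1 n129437
theorem D206870 : act 1 n129437 = n206870 := rfl
theorem F442464 : act 7 n206870 = n199065 := d15_2 (iv0 D206869) D206870 F442461
theorem F442465 : act 4 n206870 = n184002 := d18_7 (iv1 F359127) F359128 F171807 F102889 (iv5 F361546) F219495 D206870 F345103 (iv5 D110899)
theorem F442466 : act 2 n199064 = n206870 := d1_3 F442465 F338285 D199064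
theorem F442467 : act 6 n184001 = n206870 := d10_0 F442465 (iv6 D184002) (iv4 F285886)
theorem F442468 : act 5 n134159 = n206870 := d16_1 (iv4 F216190) F442465 (iv5 F345100) (iv4 F228374) (iv5 F336129) (iv4 F336133) F220821 (iv7 F336147) F216222
theorem F442469 : act 3 n206870 = n134161 := d19_3 (iv1 F180526) F345100 (iv4 F442465) F362478 F362477 F207866 (iv3 F207865) F227002 (iv5 D110860) F103610 D66250 D141252 F353577 (iv4 D142994) (iv3 F220524) F225845 (iv5 D136877) (iv4 F180513) F180512
def n206871 : Q := act 5 n129437
theorem D206871 : act 5 n129437 = n206871 := rfl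
theorem F442470 : act 6 n206871 = n129440 := d12_2 D129437 D206871 (iv5 D129440) (iv6 D60828) D60827
theorem F442471 : act 4 n206871 = n137781 := d16_2 F219495 D206871 (iv5 D137781) D137780 (iv5 F398732) F398735 (iv5 F388589) F388588 F219599
def n206872 : Q := act 7 n129437
theorem D206872 : act 7 n129437 = n206872 := rfl
theorem F442472 : act 4 n206872 = n202673 := d11_1 D206872 F425025 F219495
theorem F442473 : act 1 n199064 = n206872 := d15_1 (iv0 F410520) (iv7 D206872) (iv2 F211794)
theorem F442474 : act 1 n206872 = n199065 := d15_1 F442473 (iv7 F442464) (iv2 F442466)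
def n206873 : Q := act 3 n129438
theorem D206873 : act 3 n129438 = n206873 := rfl
theorem F442475 : act 4 n206873 = n201119 := d5_2 F214354 D206873 (iv3 F419159) F211944 (iv3 F214353)
def n206874 : Q := act 5 n129438
theorem D206874 : act 5 n129438 = n206874 := rfl
theorem F442476 : act 0 n206874 = n129678 := d17_2 D129438 D206874 (iv5 D129678) (iv4 D60913) D60914 (iv0 F95462) (iv5 F101875) F101874 (iv4 F95391)
theorem F442477 : act 1 n206874 = n129684 := d17_6 (iv1 F99063) D135489 (iv1 F217891) (iv5 F214355) F214354 D206874 (iv5 D129684) F203407 F203406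
theorem F442478 : act 4 n154229 = n206874 := d16_0 (iv5 D206874) (iv4 F214354) F214355 F332385 F128658 (iv4 F303726) F303727 (iv7 F431282) F431280
def n206875 : Q := act 3 n129442
theorem D206875 : act 3 n129442 = n206875 := rfl
def n206876 : Q := act 5 n129442
theorem D206876 : act 5 n129442 = n206876 := rfl
theorem F442479 : act 0 n206876 = n129670 := d17_2 (iv1 F211841) D206876 (iv5 D129670) (iv4 F163998) F163999 F220488 F220486 F214370 F214367
theorem F442480 : act 1 n206876 = n129667 := d17_6 D28888 D60914 F207620 (iv5 D129443) D129442 D206876 (iv5 D129667) (iv0 D60907) F46530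
theorem F442481 : act 4 n206876 = n191526 := d18_5 (iv1 F211804) F211800 (iv1 F96647) D129442 D206876 (iv0 D191526) (iv4 F332374) (iv0 F442476) (iv5 D206874)
theorem F442482 : act 3 n191526 = n204153 := d20_3 F332393 (iv1 F442480) F442481 (iv1 D204153) F197124 (iv4 F328254) D62993 (iv4 F329056) D204165 F431283
def n206877 : Q := act 6 n129444
theorem D206877 : act 6 n129444 = n206877 := rfl
theorem F442483 : act 4 n206877 = n191594 := d10_1 D206877 (iv6 F417739) F417740
def n206878 : Q := act 3 n129445
theorem D206878 : act 3 n129445 = n206878 := rfl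
theorem F442484 : act 2 n206878 = n201774 := d0_1 D206878 F421757 (iv2 F418820) (iv3 F418663) F418669
theorem F442485 : act 5 n206878 = n159351 := d6_2 (iv5 F358293) D206878 F341586
theorem F442486 : act 4 n200950 = n206878 := d20_2 (iv4 F441804) F441806 (iv3 D206878) (iv1 D129445) (iv3 D60832) (iv4 F47971) (iv1 F47974) D30205 D64085 F207677
theorem F442487 : act 6 n206878 = n200949 := d10_2 D200950 F442486 (iv4 D200949)
def n206879 : Q := act 4 n129445
theorem D206879 : act 4 n129445 = n206879 := rfl
theorem F442488 : act 2 n206879 = n200996 := d1_1 D206879 F418665 F418669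
theorem F442489 : act 3 n206879 = n131796 := d5_1 D206879 (iv4 F437121) F437120 F442486 (iv3 D206878)
theorem F442490 : act 5 n206879 = n131956 := d18_4 (iv1 F214458) F214456 (iv1 F211837) D206879 F398938 (iv0 D106692) (iv4 F164222) F325493 F358298
theorem F442491 : act 1 n195701 = n206879 := d17_6 D106511 D196001 (iv1 F439735) F439737 F399929 F399100 F442490 (iv0 D131956) F96520
def n206880 : Q := act 6 n129445
theorem D206880 : act 6 n129445 = n206880 := rfl
theorem F442492 : act 3 n206880 = n200949 := d7_1 D206880 (iv6 F442487) (iv3 D206878)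
theorem F442493 : act 0 n201052 = n206880 := d21_4 (iv5 F358348) (iv1 D129124) (iv5 F343594) (iv6 F418903) (iv6 D206880) F358293 (iv1 D136341) (iv5 D64099) F48595 D63709
theorem F442494 : act 0 n206880 = n129482 := d19_4 (iv1 F161407) D113657 D200949 (iv3 F442492) F362931 F251174 F114346 D127808 (iv5 F354429) F218224 (iv3 D129488) (iv1 F207348) D206699 F441896 F407316 (iv1 F405884) F405882 F176728 (iv3 F161403)
def n206881 : Q := act 6 n129446
theorem D206881 : act 6 n129446 = n206881 := rfl
theorem F442495 : act 2 n206881 = n129448 := d3_1 D206881 (iv6 D129448) D129446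
theorem F442496 : act 3 n206881 = n205741 := d7_1 D206881 (iv6 F437651) F211844
theorem F442497 : act 0 n206881 = n159568 := d21_4 D136332 F433088 F433086 D206881 F362914 F343603 (iv1 F207821) (iv5 F99071) (iv6 F48595) D64096
theorem F442498 : act 1 n206881 = n159570 := d15_1 (iv0 F442497) (iv7 D159570) D159568
theorem F442499 : act 7 n206881 = n159566 := d15_2 F402682 (iv0 F442497) (iv2 F365648)
def n206882 : Q := act 0 n129447
theorem D206882 : act 0 n129447 = n206882 := rfl
def n206883 : Q := act 1 n129447
theorem D206883 : act 1 n129447 = n206883 := rfl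
theorem F442500 : act 5 n206883 = n132536 := d17_7 (iv1 F213173) D196253 (iv1 F400073) (iv5 D131824) F96427 D129447 D206883 (iv0 F212743) F99708
theorem F442501 : act 3 n188915 = n206883 := d19_19 (iv1 D206883) (iv5 D129447) (iv4 F96427) (iv3 D61856) (iv1 D29310) D29312 F46959 D49227 F83233 (iv5 D52670) (iv4 F83226) F83225 (iv1 F78807) D106708 (iv4 F238537) (iv3 F421775) F421777 (iv5 D188919) (iv4 F375191)
theorem F442502 : act 4 n188922 = n206883 := d20_6 D111754 (iv1 F345275) (iv4 F215902) F394206 (iv1 D188925) (iv3 F375209) (iv1 D206883) (iv4 F412323) F412322 (iv1 F172807)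
theorem F442503 : act 6 n206883 = n188879 := d10_2 D188922 F442502 F375124
theorem F442504 : act 2 n136332 = n206883 := d3_3 F442503 F375122 F343650
theorem F442505 : act 7 n136337 = n206883 := d15_2 (iv0 F377476) F373566 (iv2 F442504)
theorem F442506 : act 2 n136337 = n206882 := d15_3 (iv0 D206882) D206883 (iv7 F442505)
theorem F442507 : act 5 n206882 = n132535 := d2_2 D136337 F442506 F330452
theorem F442508 : act 7 n206882 = n136332 := d4_2 (iv7 F442505) F442506 F442504
def n206884 : Q := act 6 n129447
theorem D206884 : act 6 n129447 = n206884 := rfl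
theorem F442509 : act 3 n206884 = n129449 := d7_1 D206884 (iv6 D129449) (iv3 F207621)
theorem F442510 : act 4 n206884 = n196437 := d10_1 D206884 (iv6 F412325) F412323
theorem F442511 : act 7 n206884 = n196436 := d14_2 F208194 D206884 F410525 F410524 F364005
theorem F442512 : act 5 n205218 = n206884 := d13_3 F442511 (iv5 F417424) (iv7 F435478)
theorem F442513 : act 1 n206884 = n145356 := d17_6 (iv1 F204690) F176855 (iv1 F92991) D125610 D205218 F442512 (iv5 F417412) (iv0 F439199) (iv4 D206088)
def n206885 : Q := act 1 n129448
theorem D206885 : act 1 n129448 = n206885 := rfl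
theorem F442514 : act 1 n206885 = n159566 := d15_1 D206885 (iv7 F442499) F442495
theorem F442515 : act 7 n206885 = n159568 := d15_2 (iv0 F365647) D206885 (iv2 D159568)
theorem F442516 : act 4 n206885 = n195690 := d18_7 D106206 (iv4 F201966) (iv1 F201968) D125559 F342899 F211241 D206885 (iv0 D195690) (iv5 D106210)
theorem F442517 : act 2 n159570 = n206885 := d1_3 F442516 (iv2 F397868) (iv4 F251332)
theorem F442518 : act 5 n206885 = n201176 := d2_2 (iv5 F251333) F442517 (iv2 D201176)
def n206886 : Q := act 5 n129448
theorem D206886 : act 5 n129448 = n206886 := rfl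
theorem F442519 : act 3 n206886 = n129450 := d6_1 D206886 (iv5 D129450) (iv3 F207622)
theorem F442520 : act 6 n206886 = n205218 := d12_2 D129448 D206886 F442512 (iv6 D206884) (iv5 D129447)
theorem F442521 : act 4 n206886 = n205216 := d16_4 D125559 F342899 F211241 D206886 (iv5 D205216) (iv4 F361384) (iv5 D125555) D125557 F201971
theorem F442522 : act 0 n206886 = n195710 := d17_2 (iv1 D206885) D206886 (iv5 D195710) (iv4 D106222) (iv5 D49083) D49081 D106215 F397873 (iv4 F442516)
def n206887 : Q := act 0 n129449
theorem D206887 : act 0 n129449 = n206887 := rfl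
def n206888 : Q := act 1 n129449
theorem D206888 : act 1 n129449 = n206888 := rfl
def n206889 : Q := act 5 n129449
theorem D206889 : act 5 n129449 = n206889 := rfl
theorem F442523 : act 3 n206889 = n205218 := d6_1 D206889 F442512 F442509
theorem F442524 : act 6 n206889 = n129450 := d12_2 D129449 D206889 (iv5 D129450) (iv6 D60834) D60833
theorem F442525 : act 7 n206889 = n191565 := d13_2 F410531 D206889 F410532
theorem F442526 : act 4 n206889 = n186694 := d16_4 F204827 F328433 F219455 D206889 (iv5 F387296) (iv4 F439916) F439917 (iv7 D145935) (iv2 F204826)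
def n206890 : Q := act 0 n129450
theorem D206890 : act 0 n129450 = n206890 := rfl
theorem F442527 : act 5 n206890 = n195428 := d17_1 D206890 F437676 F437675 F345905 D137820 (iv0 F360520) F204037 (iv0 F360510) (iv4 F360517)
theorem F442528 : act 1 n205728 = n206890 := d15_0 (iv0 D206890) (iv7 F212489) (iv2 F437595)
theorem F442529 : act 2 n206042 = n206890 := d2_3 F442527 F396984 D206042
def n206891 : Q := act 1 n129450
theorem D206891 : act 1 n129450 = n206891 := rfl
theorem F442530 : act 1 n206891 = n205728 := d15_1 D206891 F437597 F211851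
theorem F442531 : act 7 n206891 = n206042 := d15_2 (iv0 D206890) D206891 F442529
theorem F442532 : act 5 n206891 = n133171 := d17_7 F216460 (iv5 D66287) (iv1 F102194) (iv5 F98330) F98329 D129450 D206891 F437677 F437673
def n206892 : Q := act 3 n129451
theorem D206892 : act 3 n129451 = n206892 := rfl
theorem F442533 : act 6 n206892 = n146866 := d7_2 (iv6 F355267) D206892 (iv3 D146866)
def n206893 : Q := act 3 n129452
theorem D206893 : act 3 n129452 = n206893 := rfl
theorem F442534 : act 4 n191582 = n206893 := d19_2 D158963 (iv5 F391593) (iv3 D206893) (iv1 D129452) D129454 F355282 F355286 F342604 (iv5 D170892) (iv4 F268487) (iv3 F342600) (iv1 F214925) (iv5 F309188) F130822 (iv3 D34680) (iv1 D16793) D16794 D34686 D75881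
theorem F442535 : act 0 n129460 = n206893 := d20_4 F212116 (iv1 F213500) (iv4 D129461) D129460 (iv3 D206893) (iv4 F418591) (iv1 F418594) F214644 (iv3 D132305) D132303
theorem F442536 : act 6 n206893 = n191581 := d10_2 D191582 F442534 (iv4 D191581)
def n206894 : Q := act 6 n129452
theorem D206894 : act 6 n129452 = n206894 := rfl
theorem F442537 : act 3 n206894 = n191581 := d7_1 D206894 (iv6 F442536) (iv3 D206893)
theorem F442538 : act 4 n206894 = n146865 := d10_1 D206894 (iv6 F418593) F418591
theorem F442539 : act 7 n206894 = n146862 := d14_2 F355400 D206894 (iv6 D146862) (iv7 F176912) (iv6 F347374)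
theorem F442540 : act 5 n191655 = n206894 := d16_7 F418598 (iv5 F381708) (iv4 D190958) (iv5 D97087) (iv4 F149771) D190956 (iv4 F384063) F442539 (iv2 F418597)
def n206895 : Q := act 6 n129453
theorem D206895 : act 6 n129453 = n206895 := rfl
theorem F442541 : act 2 n206895 = n129455 := d3_1 D206895 (iv6 D129455) D129453
theorem F442542 : act 5 n129658 = n206895 := d21_8 (iv5 F421999) (iv1 D201839) (iv5 D115095) F83828 F48301 D60716 D129157 (iv1 F362147) (iv6 D206895) (iv1 F211847)
def n206896 : Q := act 0 n129455
theorem D206896 : act 0 n129455 = n206896 := rfl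
def n206897 : Q := act 1 n129455
theorem D206897 : act 1 n129455 = n206897 := rfl
theorem F442543 : act 4 n146889 = n206897 := d20_6 F209220 F211287 F211285 F374732 (iv1 D188754) (iv3 F230272) (iv1 D206897) (iv4 F209219) F209218 D130646
theorem F442544 : act 6 n206897 = n146888 := d10_2 D146889 F442543 (iv4 D146888)
def n206898 : Q := act 5 n129455
theorem D206898 : act 5 n129455 = n206898 := rfl
theorem F442545 : act 2 n206898 = n129658 := d2_1 D206898 F442542 F442541
theorem F442546 : act 3 n206898 = n129457 := d6_1 D206898 (iv5 D129457) (iv3 F207624)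
theorem F442547 : act 0 n206898 = n129652 := d21_7 (iv5 D191658) D191655 F442540 (iv6 D206894) (iv1 D129452) D129455 D206898 F362146 (iv6 F212486) F384069
theorem F442548 : act 0 n129660 = n206898 := d21_7 F355266 (iv1 D136344) F99711 (iv6 D63712) (iv1 F93609) D126478 F345882 (iv5 D206898) (iv6 D129455) D129451
theorem F442549 : act 7 n129657 = n206898 := d8_0 F442546 (iv7 F207848) (iv3 F346168)
def n206899 : Q := act 7 n129455
theorem D206899 : act 7 n129455 = n206899 := rfl
theorem F442550 : act 3 n206899 = n129458 := d8_1 D206899 (iv7 D129458) (iv3 F207624)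
theorem F442551 : act 5 n206899 = n129657 := d13_1 D206899 F442549 (iv5 D206898)
theorem F442552 : act 6 n206899 = n205727 := d14_1 D206899 F437593 (iv6 D132224) F96664 D129455
def n206900 : Q := act 1 n129460
theorem D206900 : act 1 n129460 = n206900 := rfl
theorem F442553 : act 4 n137887 = n206900 := d20_6 (iv4 D130757) (iv1 F95853) F328677 (iv3 F328676) F354839 (iv3 F221114) (iv1 D206900) F215979 F352621 (iv1 F327495)
theorem F442554 : act 6 n206900 = n137886 := d10_2 D137887 F442553 (iv4 D137886)
def n206901 : Q := act 6 n129462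
theorem D206901 : act 6 n129462 = n206901 := rfl
def n206902 : Q := act 5 n129463
theorem D206902 : act 5 n129463 = n206902 := rfl
theorem F442555 : act 2 n206902 = n148736 := d2_1 D206902 (iv5 F325510) F211863
theorem F442556 : act 3 n206902 = n205897 := d6_1 D206902 F438339 F418830
theorem F442557 : act 4 n206902 = n137196 := d16_2 (iv4 F347269) D206902 (iv5 F423548) F423547 (iv5 F423277) (iv4 D126728) D126729 F220093 F220094
def n206903 : Q := act 6 n129466
theorem D206903 : act 6 n129466 = n206903 := rfl
theorem F442558 : act 4 n206903 = n146779 := d10_1 D206903 F384484 F384482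
theorem F442559 : act 5 n206903 = n146767 := d12_1 D206903 (iv6 F437233) (iv5 F437234) (iv6 D129467) D129466
theorem F442560 : act 0 n206903 = n146861 := d21_10 (iv5 D146861) (iv1 F327586) D206707 F441924 F212784 F361178 (iv5 D132231) (iv1 F96674) D129466 D206903
theorem F442561 : act 1 n206903 = n146867 := d15_1 (iv0 F442560) (iv7 F231941) F231940
def n206904 : Q := act 1 n129467
theorem D206904 : act 1 n129467 = n206904 := rfl
theorem F442562 : act 4 n206904 = n129543 := d17_9 (iv1 D129543) (iv5 F319160) (iv1 F348471) F207925 (iv4 F207838) (iv5 F345882) D205615 (iv5 F437234) D206904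
def n206905 : Q := act 6 n129468
theorem D206905 : act 6 n129468 = n206905 := rfl
theorem F442563 : act 2 n206905 = n129473 := d3_1 D206905 (iv6 D129473) (iv2 F207629)
theorem F442564 : act 3 n206905 = n159491 := d7_1 D206905 F442348 F442346
theorem F442565 : act 4 n206905 = n203756 := d10_1 D206905 (iv6 D203756) (iv4 F355250)
theorem F442566 : act 5 n206905 = n132556 := d12_1 D206905 F212780 (iv5 F361180) (iv6 D129469) D129468
theorem F442567 : act 7 n206905 = n132555 := d14_2 F211866 D206905 F212779 D132564 F361178
theorem F442568 : act 0 n203756 = n201810 := d20_7 F83793 (iv1 D34847) D34848 D76292 D159491 (iv3 F442564) F442565 (iv4 D201810) F179172 (iv1 F83798)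
def n206906 : Q := act 3 n129470
theorem D206906 : act 3 n129470 = n206906 := rfl
theorem F442569 : act 5 n206906 = n129825 := d6_2 (iv5 F211869) D206906 (iv3 D129825)
def n206907 : Q := act 6 n129470
theorem D206907 : act 6 n129470 = n206907 := rfl
theorem F442570 : act 4 n206907 = n135115 := d10_1 D206907 (iv6 F434613) F434612
def n206908 : Q := act 3 n129471
theorem D206908 : act 3 n129471 = n206908 := rfl
theorem F442571 : act 4 n206908 = n188041 := d5_2 (iv4 F355253) D206908 (iv3 F372191) (iv4 D182032) (iv3 F283407)
theorem F442572 : act 5 n206908 = n129829 := d6_2 F207694 D206908 (iv3 D129829)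
theorem F442573 : act 0 n201728 = n206908 := d17_0 F442572 (iv1 F418658) (iv5 F421670) F421669 F179157 F164393 D196132 (iv0 F399550) (iv4 F421582)
theorem F442574 : act 1 n201771 = n206908 := d17_6 F333537 (iv5 F203451) F342934 (iv5 F326586) (iv4 F418819) F421752 F442572 (iv0 F219418) (iv4 F333539)
def n206909 : Q := act 0 n129472
theorem D206909 : act 0 n129472 = n206909 := rfl
theorem F442575 : act 5 n206909 = n133677 := d17_1 D206909 F308284 (iv5 F302803) F352314 (iv5 D132545) F96952 (iv5 F211869) (iv0 D129470) D129472
theorem F442576 : act 4 n206909 = n129869 := d18_3 (iv1 D129471) D129472 D206909 (iv5 D129869) (iv4 D61002) (iv0 D28919) (iv4 F46561) D60982 F207694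
theorem F442577 : act 2 n203754 = n206909 := d15_3 (iv0 D206909) (iv0 F403370) F429703
theorem F442578 : act 1 n203712 = n206909 := d15_0 (iv0 D206909) (iv7 F211875) (iv2 F429506)
theorem F442579 : act 7 n206909 = n203755 := d15_2 (iv0 F429511) F442578 (iv2 F429706)
theorem F442580 : act 6 n195284 = n206909 := d21_9 (iv5 D203712) (iv1 F355258) (iv5 F357327) (iv6 D148106) (iv1 F105685) D146936 F336975 (iv1 F217205) F396572 (iv1 F442578)
def n206910 : Q := act 6 n129472
theorem D206910 : act 6 n129472 = n206910 := rfl
theorem F442581 : act 2 n206910 = n203756 := d3_1 D206910 (iv6 D203756) F355251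
theorem F442582 : act 4 n206910 = n129473 := d10_1 D206910 (iv6 D129473) D129472
theorem F442583 : act 0 n159336 = n206910 := d20_7 F362693 D183975 F343919 (iv3 D159362) (iv1 D76231) D76232 (iv4 F250834) F442582 F207632 D129478
def n206911 : Q := act 0 n129473
theorem D206911 : act 0 n129473 = n206911 := rfl
def n206912 : Q := act 1 n129473
theorem D206912 : act 1 n129473 = n206912 := rfl
theorem F442584 : act 1 n206912 = n132555 := d15_1 D206912 (iv7 F442567) F442563
theorem F442585 : act 3 n188033 = n206912 := d20_3 F421599 (iv1 F251135) D188033 (iv1 D206912) F207632 (iv4 F99818) (iv1 F344194) D192963 F388356 F421601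
def n206913 : Q := act 5 n129473
theorem D206913 : act 5 n129473 = n206913 := rfl
theorem F442586 : act 2 n206913 = n132556 := d2_1 D206913 (iv5 F442566) F442563
theorem F442587 : act 3 n206913 = n129480 := d6_1 D206913 (iv5 D129480) (iv3 F207632)
theorem F442588 : act 6 n206913 = n129476 := d12_2 D129473 D206913 (iv5 D129476) (iv6 D60842) D60841
theorem F442589 : act 4 n206913 = n136531 := d18_5 (iv1 D159365) (iv4 F250834) F442583 F442582 D206913 (iv0 F388377) F388376 (iv0 F421886) (iv5 F421852)
theorem F442590 : act 7 n132527 = n206913 := d11_0 F442589 (iv7 D136531) (iv4 F212711)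
theorem F442591 : act 0 n132553 = n206913 := d20_1 (iv4 F441481) F442589 (iv3 F373175) F373177 (iv3 F386098) (iv4 F387632) (iv1 F387635) F372014 F359644 F375556
theorem F442592 : act 1 n132554 = n206913 := d15_1 D132554 (iv7 F442590) F212710
def n206914 : Q := act 7 n129473
theorem D206914 : act 7 n129473 = n206914 := rfl
theorem F442593 : act 2 n206914 = n132555 := d4_1 D206914 (iv7 F442567) F442563
theorem F442594 : act 3 n206914 = n129481 := d8_1 D206914 (iv7 D129481) (iv3 F207632)
theorem F442595 : act 5 n206914 = n132527 := d13_1 D206914 F442590 (iv5 D206913)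
theorem F442596 : act 6 n206914 = n132530 := d14_1 D206914 F361175 (iv6 D132236) F96676 D129473
theorem F442597 : act 1 n132555 = n206911 := d15_0 (iv0 D206911) D206914 F442593
def n206915 : Q := act 5 n129474
theorem D206915 : act 5 n129474 = n206915 := rfl
theorem F442598 : act 6 n206843 = n206915 := d21_5 F95533 (iv1 F47055) D60821 D129422 D206843 (iv5 D206915) (iv1 F361155) (iv5 D129847) (iv6 D60988) D60986
def n206916 : Q := act 3 n129478
theorem D206916 : act 3 n129478 = n206916 := rfl
theorem F442599 : act 7 n206916 = n201783 := d8_2 F442377 D206916 F442380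
theorem F442600 : act 0 n206916 = n188878 := d19_4 D40895 D87763 (iv4 F362693) D206916 (iv5 F375121) (iv4 D92906) (iv3 D43467) (iv1 D20548) (iv5 D9748) F6340 F3140 D1856 (iv5 F291972) (iv4 F1900) (iv3 F3341) D4975 (iv5 F292029) (iv4 F14146) (iv3 F30936)
theorem F442601 : act 0 n159350 = n206916 := d20_4 (iv4 D34817) D34815 D76226 D159350 (iv3 D206916) F362693 D183975 F343919 (iv3 D159362) (iv1 D76231)
def n206917 : Q := act 5 n129478
theorem D206917 : act 5 n129478 = n206917 := rfl
theorem F442602 : act 2 n206917 = n193043 := d2_1 D206917 F442375 (iv2 F442373)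
theorem F442603 : act 7 n206917 = n193044 := d13_2 F442377 D206917 F442381
theorem F442604 : act 4 n206917 = n205498 := d16_2 (iv4 F362693) D206917 F436713 (iv4 F363680) (iv5 D183984) (iv4 D87767) D87768 (iv7 F285830) F285829
theorem F442605 : act 0 n206917 = n193047 := d17_2 D129478 D206917 F388583 F155777 F74348 F74326 D101038 F344194 F99818
theorem F442606 : act 1 n206917 = n192972 := d17_6 (iv1 D87771) (iv5 D40897) D40895 D87763 (iv4 F362693) D206917 (iv5 D192972) (iv0 F285882) (iv4 D183996)
def n206918 : Q := act 6 n129478
theorem D206918 : act 6 n129478 = n206918 := rfl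
theorem F442607 : act 2 n206918 = n206915 := d3_1 D206918 (iv6 F442598) (iv2 F442373)
theorem F442608 : act 4 n206918 = n183978 := d10_1 D206918 (iv6 D183978) (iv4 F362693)
theorem F442609 : act 5 n206918 = n206720 := d21_6 (iv5 D60836) (iv1 D28858) D28860 D60843 D129478 D206918 (iv1 F441963) (iv5 F361161) (iv6 D129814) F95515
theorem F442610 : act 7 n206719 = n206918 := d13_0 F442609 (iv7 D206720) D206719
def n206919 : Q := act 3 n129479
theorem D206919 : act 3 n129479 = n206919 := rfl
def n206920 : Q := act 5 n129479
theorem D206920 : act 5 n129479 = n206920 := rfl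
theorem F442611 : act 2 n206920 = n193044 := d2_1 D206920 F442381 (iv2 F442379)
theorem F442612 : act 7 n206920 = n193043 := d13_2 (iv7 F442374) D206920 F442375
theorem F442613 : act 0 n206920 = n192972 := d17_2 F394068 D206920 (iv5 D192972) (iv4 D101045) (iv5 D47075) D47074 D101041 F344196 D194679
theorem F442614 : act 1 n206920 = n193047 := d17_6 (iv1 F335362) F335364 (iv1 F134734) D87768 (iv4 F383482) D206920 F388583 (iv0 F285875) (iv4 D183992)
def n206921 : Q := act 6 n129479
theorem D206921 : act 6 n129479 = n206921 := rfl
theorem F442615 : act 4 n206921 = n183987 := d10_1 D206921 (iv6 D183987) (iv4 F383482)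
def n206922 : Q := act 4 n129480
theorem D206922 : act 4 n129480 = n206922 := rfl
theorem F442616 : act 2 n206922 = n198018 := d1_1 D206922 (iv4 F442384) F442382
theorem F442617 : act 3 n206922 = n192728 := d5_1 D206922 F387608 F373175 (iv4 F442589) F442587
theorem F442618 : act 6 n206922 = n129486 := d10_2 (iv6 F207636) D206922 (iv4 D129486)
theorem F442619 : act 5 n206922 = n194401 := d16_3 F99818 D129480 D206922 (iv4 D194401) (iv5 D103335) F293855 (iv5 F159457) (iv7 F293910) F344183
def n206923 : Q := act 7 n129480
theorem D206923 : act 7 n129480 = n206923 := rfl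
theorem F442620 : act 3 n206923 = n132527 := d8_1 D206923 F442590 F442587
theorem F442621 : act 5 n206923 = n129481 := d13_1 D206923 (iv7 D129481) D129480
theorem F442622 : act 6 n206923 = n132525 := d14_1 D206923 F212707 (iv6 F361163) (iv7 D129487) (iv6 F207636)
def n206924 : Q := act 0 n129482
theorem D206924 : act 0 n129482 = n206924 := rfl
theorem F442623 : act 1 n201052 = n206924 := d15_0 (iv0 D206924) F212435 (iv2 F418901)
def n206925 : Q := act 2 n129482
theorem D206925 : act 2 n129482 = n206925 := rfl
theorem F442624 : act 3 n206925 = n146859 := d0_2 D129482 D206925 (iv2 F230254) F350887 F207376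
theorem F442625 : act 4 n206925 = n205420 := d1_2 F211325 D206925 F436328
theorem F442626 : act 5 n206925 = n159496 := d2_2 (iv5 F362931) D206925 (iv2 F251173)
theorem F442627 : act 6 n206925 = n159480 := d3_2 F398428 D206925 (iv2 F398425)
theorem F442628 : act 7 n206925 = n201052 := d4_2 (iv7 F212435) D206925 F418901
def n206926 : Q := act 3 n129484
theorem D206926 : act 3 n129484 = n206926 := rfl
theorem F442629 : act 4 n206926 = n201822 := d5_2 (iv4 F405849) D206926 F421914 (iv4 D197812) D197811
theorem F442630 : act 6 n201821 = n206926 := d10_0 F442629 (iv6 D201822) D201821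
def n206927 : Q := act 6 n129484
theorem D206927 : act 6 n129484 = n206927 := rfl
theorem F442631 : act 3 n206927 = n201821 := d7_1 D206927 F442630 (iv3 D206926)
def n206928 : Q := act 4 n129485
theorem D206928 : act 4 n129485 = n206928 := rfl
theorem F442632 : act 3 n206928 = n203025 := d5_1 D206928 (iv4 D203025) (iv3 F361669) (iv4 F418970) F418969
theorem F442633 : act 5 n206928 = n180649 := d16_1 D206928 F281187 (iv5 F338764) F214316 (iv5 F217896) (iv4 F437304) (iv5 F437306) (iv7 F442390) (iv2 F442392)
def n206929 : Q := act 6 n129485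
theorem D206929 : act 6 n129485 = n206929 := rfl
theorem F442634 : act 5 n206929 = n132549 := d12_1 D206929 F437251 F437246 F418964 F418966
def n206930 : Q := act 2 n129488
theorem D206930 : act 2 n129488 = n206930 := rfl
theorem F442635 : act 4 n206930 = n201340 := d1_2 F218224 D206930 F420072
theorem F442636 : act 7 n206930 = n205977 := d4_2 (iv7 F207638) D206930 (iv2 D205977)
theorem F442637 : act 1 n206930 = n146875 := d15_0 (iv0 F350888) (iv7 F207638) D206930
theorem F442638 : act 1 n205976 = n206930 := d15_0 F442637 (iv7 F418612) (iv2 F442409)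
def n206931 : Q := act 5 n129488
theorem D206931 : act 5 n129488 = n206931 := rfl
theorem F442639 : act 3 n206931 = n129489 := d6_1 D206931 (iv5 D129489) D129488
theorem F442640 : act 7 n206931 = n205978 := d13_2 (iv7 F207638) D206931 (iv5 D205978)
def n206932 : Q := act 6 n129489
theorem D206932 : act 6 n129489 = n206932 := rfl
theorem F442641 : act 2 n206932 = n198180 := d3_1 D206932 (iv6 D198180) F330981
theorem F442642 : act 4 n206932 = n198174 := d10_1 D206932 (iv6 D198174) (iv4 F330984)
theorem F442643 : act 0 n188037 = n206932 := d18_2 F365267 (iv4 F372187) F442642 F407105 (iv4 F372862) F387274 F387273 (iv0 F365246) F178323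
def n206933 : Q := act 3 n129515
theorem D206933 : act 3 n129515 = n206933 := rfl
theorem F442644 : act 4 n206933 = n131821 := d5_2 (iv4 F207663) D206933 F211237 (iv4 D129195) D129194
def n206934 : Q := act 5 n129515
theorem D206934 : act 5 n129515 = n206934 := rfl
theorem F442645 : act 0 n206934 = n129876 := d17_2 D129515 D206934 (iv5 D129876) (iv4 D61007) (iv5 F207693) F96746 (iv5 D62080) F47083 D60856
theorem F442646 : act 1 n206934 = n129869 := d17_6 F213179 D130096 F212273 F211038 (iv4 F207663) D206934 (iv5 D129869) D129867 F213178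
def n206935 : Q := act 2 n129517
theorem D206935 : act 2 n129517 = n206935 := rfl
theorem F442647 : act 3 n206935 = n136316 := d0_2 D129517 D206935 (iv2 F421976) (iv3 D132317) F209649
theorem F442648 : act 4 n206935 = n146869 := d1_2 F209253 D206935 (iv2 F355403)
theorem F442649 : act 6 n206935 = n205772 := d3_2 F360184 D206935 (iv2 F437810)
theorem F442650 : act 1 n206935 = n146877 := d15_0 (iv0 F363918) F212119 D206935
def n206936 : Q := act 1 n129518
theorem D206936 : act 1 n129518 = n206936 := rfl
theorem F442651 : act 1 n206936 = n129538 := d15_1 D206936 (iv7 F212225) F212224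
theorem F442652 : act 7 n206936 = n191800 := d15_2 F213631 D206936 F384485
theorem F442653 : act 5 n206936 = n132578 := d17_7 (iv1 D29442) D29444 F208668 (iv5 D60857) D60856 D129518 D206936 F212805 (iv4 D62209)
theorem F442654 : act 4 n206936 = n186633 := d18_7 F386433 (iv4 F439880) (iv1 F439883) F429495 F429493 (iv4 F357333) D206936 F434627 F434623
theorem F442655 : act 3 n206936 = n206816 := d19_3 F201012 D186633 (iv4 F442654) F442298 (iv5 D132211) (iv4 F211814) (iv3 D132207) F96651 D63329 F98582 (iv3 F100847) D138474 F245657 F316125 (iv3 F314323) (iv1 D65282) D65285 F312269 D125114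
def n206937 : Q := act 6 n129518
theorem D206937 : act 6 n129518 = n206937 := rfl
theorem F442656 : act 4 n206937 = n203126 := d10_1 D206937 F427062 (iv4 F357333)
theorem F442657 : act 7 n206937 = n203122 := d14_2 F212121 D206937 (iv6 D203122) F184321 (iv6 F351931)
def n206938 : Q := act 5 n129519
theorem D206938 : act 5 n129519 = n206938 := rfl
def n206939 : Q := act 0 n129528
theorem D206939 : act 0 n129528 = n206939 := rfl
theorem F442658 : act 5 n206939 = n206043 := d17_1 D206939 (iv1 F438976) (iv5 D202307) (iv4 D115581) D115582 F422495 F422492 (iv0 F401104) F401102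
theorem F442659 : act 4 n206939 = n205884 := d18_1 D206939 (iv1 D205884) (iv4 D126728) D126729 (iv4 F251327) F350881 F212468 (iv0 F350854) D129528
theorem F442660 : act 3 n206939 = n202441 := d20_5 (iv4 F203939) (iv1 F227076) F343453 F350867 D206939 (iv4 D202441) (iv1 F180083) (iv4 F203929) (iv3 F346546) F346543
theorem F442661 : act 6 n206939 = n150607 := d21_5 (iv5 F350663) F300863 D173299 (iv6 F350869) D206939 F237144 (iv1 F237140) F357016 D155875 (iv1 F350664)
theorem F442662 : act 2 n141805 = n206939 := d15_3 (iv0 D206939) (iv0 F350870) (iv7 F322090)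
theorem F442663 : act 1 n136753 = n206939 := d15_0 (iv0 D206939) F359753 F359754
theorem F442664 : act 7 n206939 = n202401 := d15_2 F350877 F442663 F423871
def n206940 : Q := act 5 n129537
theorem D206940 : act 5 n129537 = n206940 := rfl
theorem F442665 : act 2 n206940 = n206591 := d2_1 D206940 F441463 (iv2 F421974)
theorem F442666 : act 3 n206940 = n129538 := d6_1 D206940 (iv5 D129538) D129537
theorem F442667 : act 6 n206940 = n200833 := d12_2 F441801 D206940 (iv5 D200833) D200834 (iv5 F441800)
theorem F442668 : act 7 n206940 = n206590 := d13_2 F212222 D206940 F441459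
theorem F442669 : act 0 n206940 = n206585 := d17_2 F207677 D206940 (iv5 D206585) (iv4 D128919) D128920 (iv0 F395671) F395669 (iv0 D128666) (iv4 F99696)
theorem F442670 : act 4 n206940 = n188918 := d17_4 F396535 (iv5 D136318) F207677 D206940 (iv5 F383191) F210026 F209181 F250874 (iv4 F396532)
theorem F442671 : act 1 n206940 = n195259 := d17_6 F436371 (iv5 F436208) F436844 (iv5 F441805) F441804 D206940 (iv5 D195259) D195257 (iv4 F419172)
def n206941 : Q := act 0 n129539
theorem D206941 : act 0 n129539 = n206941 := rfl
theorem F442672 : act 4 n206941 = n187798 := d18_1 D206941 (iv1 D187798) (iv4 F371479) F371482 F418948 (iv0 D135627) (iv4 F203448) (iv0 F365935) (iv5 F357335)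
def n206942 : Q := act 1 n129539
theorem D206942 : act 1 n129539 = n206942 := rfl
theorem F442673 : act 4 n206942 = n187797 := d18_7 (iv1 D175322) (iv4 F362110) (iv1 D123103) (iv4 F109618) F319160 (iv4 F207678) D206942 (iv0 D187797) F362053
def n206943 : Q := act 7 n129539
theorem D206943 : act 7 n129539 = n206943 := rfl
theorem F442674 : act 4 n206943 = n129545 := d11_1 D206943 (iv7 D129545) (iv4 F207678)
theorem F442675 : act 5 n206943 = n200915 := d13_1 D206943 (iv7 D200915) (iv5 F357335)
theorem F442676 : act 6 n206943 = n205962 := d14_1 D206943 F438607 (iv6 D132319) F209650 D129539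
theorem F442677 : act 1 n205795 = n129725 := d17_8 (iv1 F207895) (iv5 F408323) (iv1 F408325) (iv5 F350858) (iv4 F442674) F442675 (iv0 F418387) D205795 (iv4 D129725)
def n206944 : Q := act 5 n129543
theorem D206944 : act 5 n129543 = n206944 := rfl
theorem F442678 : act 2 n206944 = n202774 := d2_1 D206944 F425528 F363458
theorem F442679 : act 0 n206944 = n129731 := d21_1 D206944 (iv5 D129731) D129732 F354183 (iv6 F359758) (iv5 F224815) F354187 (iv5 D132481) (iv6 F359750) (iv1 F212129)
theorem F442680 : act 0 n129726 = n206944 := d21_10 (iv5 D206944) (iv1 D129543) (iv5 F319160) (iv6 D73119) D73116 (iv6 F358629) F318786 (iv1 F332161) (iv5 F364893) (iv6 F364894)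
theorem F442681 : act 6 n202773 = n206944 := d21_5 (iv5 F123579) (iv1 D80409) (iv5 F115839) (iv6 F347966) (iv1 F425524) (iv5 D206944) (iv1 D129543) (iv5 F319160) (iv6 D73119) D73116
def n206945 : Q := act 5 n129547
theorem D206945 : act 5 n129547 = n206945 := rfl
theorem F442682 : act 2 n206945 = n129565 := d2_1 D206945 (iv5 D129565) (iv2 F207680)
theorem F442683 : act 3 n206945 = n200479 := d6_1 D206945 F416636 F316285
theorem F442684 : act 6 n206945 = n129550 := d12_2 D129547 D206945 (iv5 D129550) (iv6 D60865) D60864
theorem F442685 : act 7 n206945 = n191349 := d13_2 F342316 D206945 F383152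
theorem F442686 : act 1 n206945 = n166202 := d17_6 (iv1 D120139) F87497 F317161 D143800 F363406 D206945 (iv5 D166202) F331881 (iv4 F331884)
theorem F442687 : act 0 n206945 = n191346 := d21_1 D206945 (iv5 D191346) (iv6 D98107) (iv1 F72366) D77687 D161725 F337060 D174557 (iv6 F273423) (iv1 F337058)
theorem F442688 : act 4 n140329 = n206945 := d10_3 F442684 F324047 D140329
def n206946 : Q := act 4 n129564
theorem D206946 : act 4 n129564 = n206946 := rfl
theorem F442689 : act 3 n206946 = n133836 := d5_1 D206946 (iv4 F334081) F237174 D206290 F440100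
theorem F442690 : act 6 n133833 = n206946 := d7_0 F442689 (iv6 D133836) D133833
def n206947 : Q := act 6 n129564
theorem D206947 : act 6 n129564 = n206947 := rfl
theorem F442691 : act 2 n206947 = n174557 := d3_1 D206947 (iv6 F273423) (iv2 F342318)
theorem F442692 : act 3 n206947 = n206170 := d7_1 D206947 (iv6 F440096) F440100
theorem F442693 : act 4 n206947 = n133833 := d10_1 D206947 F442690 (iv4 D206946)
theorem F442694 : act 5 n206947 = n155875 := d12_1 D206947 (iv6 D155875) (iv5 F357016) F428955 F428954
theorem F442695 : act 7 n206947 = n191396 := d14_2 (iv7 F342314) D206947 (iv6 D191396) F151630 D172497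
theorem F442696 : act 0 n206947 = n191398 := d21_4 D119596 D203574 F428954 D206947 (iv6 F383344) (iv5 F379441) (iv1 F379444) F312214 F301079 (iv1 F303530)
theorem F442697 : act 0 n191397 = n206947 := d21_4 D173801 (iv1 F344893) F344897 (iv6 F383337) (iv6 D206947) (iv5 F428954) (iv1 F428953) F320686 (iv6 F307027) F332082
def n206948 : Q := act 1 n129565
theorem D206948 : act 1 n129565 = n206948 := rfl
theorem F442698 : act 1 n206948 = n191349 := d15_1 D206948 (iv7 F442685) F442682
theorem F442699 : act 7 n206948 = n191346 := d15_2 (iv0 F362748) D206948 F383139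
theorem F442700 : act 5 n206948 = n153916 := d17_7 F189763 F189761 F340824 (iv5 F340820) F207754 D129565 D206948 F343990 F309895
theorem F442701 : act 6 n147812 = n206948 := d21_9 (iv5 D129565) F342310 (iv5 F342305) (iv6 D163178) (iv1 F325662) (iv6 F408976) (iv5 D198716) F358572 D147812 (iv1 D206948)
theorem F442702 : act 2 n206948 = n166202 := d3_1 F442701 (iv6 F434599) F434603
theorem F442703 : act 3 n206948 = n147817 := d7_1 F442701 (iv6 D147817) (iv3 F231575)
def n206949 : Q := act 4 n129570
theorem D206949 : act 4 n129570 = n206949 := rfl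
theorem F442704 : act 2 n206949 = n140360 := d1_1 D206949 (iv4 F442205) F442203
theorem F442705 : act 3 n206949 = n205852 := d5_1 D206949 (iv4 D205852) F220279 (iv4 D137106) (iv3 F354197)
theorem F442706 : act 0 n206949 = n140515 := d17_0 (iv5 F420033) F420035 (iv5 F400194) F400196 F350890 F438982 F438978 (iv0 F354195) D206949
def n206950 : Q := act 6 n129570
theorem D206950 : act 6 n129570 = n206950 := rfl
theorem F442707 : act 2 n206950 = n205437 := d3_1 D206950 (iv6 F442207) F442203
theorem F442708 : act 3 n206950 = n137107 := d7_1 D206950 (iv6 D137107) (iv3 F354197)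
theorem F442709 : act 5 n206950 = n200074 := d12_1 D206950 (iv6 D200074) (iv5 F348912) (iv6 F348915) D129570
theorem F442710 : act 7 n206950 = n203514 := d14_2 (iv7 F354198) D206950 (iv6 D203514) F187927 (iv6 F348505)
theorem F442711 : act 0 n206950 = n198716 := d21_4 (iv5 D60872) D60870 D129570 D206950 F408976 (iv5 D125954) (iv1 F325660) D78431 (iv6 F342313) (iv1 D129578)
theorem F442712 : act 0 n205439 = n206950 := d21_4 (iv5 F350824) F325672 (iv5 F257479) (iv6 F436432) (iv6 D206950) (iv5 D129570) (iv1 F348916) (iv5 F350845) (iv6 F350843) F354213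
def n206951 : Q := act 5 n129594
theorem D206951 : act 5 n129594 = n206951 := rfl
theorem F442713 : act 2 n206951 = n138113 := d2_1 D206951 (iv5 F438179) F438176
theorem F442714 : act 3 n206951 = n133569 := d6_1 D206951 (iv5 D133569) (iv3 F207772)
theorem F442715 : act 6 n206951 = n145419 := d12_2 (iv6 F337862) D206951 F328498 (iv6 D106077) D106076
theorem F442716 : act 7 n206951 = n138114 := d13_2 (iv7 F207773) D206951 F329081
theorem F442717 : act 4 n206951 = n145425 := d16_2 D129594 D206951 (iv5 F401476) F401475 (iv5 D144410) F103685 (iv5 F324993) (iv7 F325879) F325878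
theorem F442718 : act 0 n206951 = n138116 := d17_2 F442160 D206951 F221327 (iv4 F203973) F389759 (iv0 F389762) (iv5 F374852) (iv0 F442079) (iv4 F442158)
theorem F442719 : act 1 n206951 = n136227 := d17_6 (iv1 F338723) (iv5 F338737) (iv1 F219842) F321998 D129594 D206951 (iv5 D136227) (iv0 F360530) (iv4 D126673)
def n206952 : Q := act 6 n129639
theorem D206952 : act 6 n129639 = n206952 := rfl
theorem F442720 : act 2 n206952 = n135499 := d3_1 D206952 (iv6 D135499) (iv2 F358334)
theorem F442721 : act 3 n206952 = n206119 := d7_1 D206952 F439330 F437172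
theorem F442722 : act 4 n206952 = n200612 := d10_1 D206952 (iv6 F417209) (iv4 F349612)
theorem F442723 : act 0 n205746 = n206952 := d21_4 F417405 (iv1 F421338) F421336 (iv6 F437679) (iv6 D206952) (iv5 F343603) (iv1 D132391) (iv5 F343600) (iv6 F398200) F417404
def n206953 : Q := act 6 n129640
theorem D206953 : act 6 n129640 = n206953 := rfl
theorem F442724 : act 2 n206953 = n135495 := d3_1 D206953 (iv6 D135495) (iv2 F358338)
theorem F442725 : act 3 n206953 = n132159 := d7_1 D206953 (iv6 F399851) F399850
theorem F442726 : act 4 n206953 = n200852 := d10_1 D206953 (iv6 D200852) F358341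
theorem F442727 : act 5 n187640 = n206953 := d16_1 D187640 F442726 (iv5 F418156) (iv4 D194796) (iv5 D104586) (iv4 F76028) D90417 F331436 (iv2 F331435)
theorem F442728 : act 1 n129666 = n206953 := d18_6 D194501 F393453 (iv1 D104590) D104591 D194805 F394540 F442726 F418157 F383805
theorem F442729 : act 7 n206671 = n206953 := d8_0 F442725 F211680 D206671
def n206954 : Q := act 0 n129641
theorem D206954 : act 0 n129641 = n206954 := rfl
theorem F442730 : act 4 n206954 = n131965 := d18_3 F211958 F362876 D206954 F211440 F211329 F209495 (iv4 F211944) (iv0 D132269) D132271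
theorem F442731 : act 3 n206954 = n195626 := d20_5 (iv4 F203673) F102161 (iv4 F95444) (iv3 F207824) D206954 F397660 (iv1 F332612) F216447 F211728 (iv1 F203671)
theorem F442732 : act 1 n196068 = n206954 := d15_0 (iv0 D206954) (iv7 F327166) (iv2 F399286)
theorem F442733 : act 7 n206954 = n195622 := d15_2 F441103 F442732 (iv2 F441100)
def n206955 : Q := act 0 n129642
theorem D206955 : act 0 n129642 = n206955 := rfl
theorem F442734 : act 5 n206955 = n205707 := d17_3 (iv1 F102070) D129642 D206955 (iv4 D205707) (iv5 D126540) (iv0 D59367) F45597 F101896 D62483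
theorem F442735 : act 1 n129823 = n206955 := d15_0 (iv0 D206955) (iv7 F212753) F212752
def n206956 : Q := act 1 n129642
theorem D206956 : act 1 n129642 = n206956 := rfl
theorem F442736 : act 1 n206956 = n129823 := d15_1 D206956 (iv7 F212952) F212951
theorem F442737 : act 5 n206956 = n133172 := d17_7 F407070 (iv5 D135215) F102161 F48326 (iv4 F95444) D129642 D206956 (iv0 F407072) (iv4 F407067)
def n206957 : Q := act 4 n129642
theorem D206957 : act 4 n129642 = n206957 := rfl
theorem F442738 : act 3 n206957 = n174620 := d5_1 D206957 F401069 F401067 D196560 (iv3 F401087)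
theorem F442739 : act 6 n206957 = n174617 := d10_2 F218510 D206957 (iv4 F335982)
def n206958 : Q := act 6 n129644
theorem D206958 : act 6 n129644 = n206958 := rfl
theorem F442740 : act 3 n206958 = n129647 := d7_1 D206958 (iv6 D129647) D129644
theorem F442741 : act 4 n206958 = n135032 := d10_1 D206958 (iv6 D135032) (iv4 F207826)
def n206959 : Q := act 0 n129647
theorem D206959 : act 0 n129647 = n206959 := rfl
theorem F442742 : act 4 n206959 = n129691 := d18_3 F347046 F366307 D206959 F344118 F344119 (iv0 D131367) (iv4 F210577) (iv0 F344032) (iv5 F347044)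
theorem F442743 : act 2 n130502 = n206959 := d15_3 (iv0 D206959) F366306 F213942
theorem F442744 : act 1 n129830 = n206959 := d15_0 (iv0 D206959) (iv7 F365931) F212762
def n206960 : Q := act 5 n129647
theorem D206960 : act 5 n129647 = n206960 := rfl
theorem F442745 : act 4 n206960 = n206159 := d16_2 F366307 D206960 (iv5 D206159) F359292 F346214 F249673 (iv5 F321680) F321681 (iv2 F249648)
def n206961 : Q := act 6 n129651
theorem D206961 : act 6 n129651 = n206961 := rfl
theorem F442746 : act 2 n206961 = n129656 := d3_1 D206961 (iv6 D129656) (iv2 F207828)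
theorem F442747 : act 5 n206961 = n132416 := d12_1 D206961 F212486 (iv5 F362146) (iv6 D129652) D129651
theorem F442748 : act 7 n206961 = n132415 := d14_2 F212964 D206961 F212485 D132422 F361807
theorem F442749 : act 6 n206725 = n183407 := d21_5 (iv5 D129143) (iv1 D60712) D60714 D129150 D206725 (iv5 F437570) (iv1 F437575) (iv5 F442747) (iv6 D206961) (iv1 F212969)
theorem F442750 : act 4 n183408 = n206725 := d10_3 F442749 (iv4 D183407) D183408
theorem F442751 : act 0 n191633 = n187668 := d20_4 F441976 D206725 (iv4 F442750) (iv3 F383988) (iv3 D187668) (iv4 D90440) F290938 F290705 D194783 (iv1 F441978)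
theorem F442752 : act 1 n186700 = n206961 := d15_1 F437580 F442748 (iv2 F437576)
theorem F442753 : act 1 n206961 = n191603 := d15_1 F442752 F383954 (iv2 F367724)
def n206962 : Q := act 0 n129652
theorem D206962 : act 0 n129652 = n206962 := rfl
theorem F442754 : act 4 n206962 = n130043 := d20_8 (iv4 D47576) D47574 (iv4 F135469) (iv3 F354296) (iv1 D132595) F96973 (iv4 F207832) D206962 (iv3 D130043) F321692
theorem F442755 : act 6 n206962 = n129838 := d21_5 D129139 (iv1 F207829) (iv5 D129651) D129652 D206962 (iv5 F437645) (iv1 F437646) (iv5 D129153) (iv6 D60715) D60711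
theorem F442756 : act 2 n129657 = n206962 := d15_3 (iv0 D206962) (iv0 F442547) (iv7 F442549)
theorem F442757 : act 1 n129660 = n206962 := d15_0 (iv0 D206962) (iv7 F362144) (iv2 F345883)
theorem F442758 : act 7 n206962 = n129658 := d15_2 (iv0 F442548) F442757 (iv2 F442545)
theorem F442759 : act 3 n185883 = n206962 := d20_3 F363814 F288323 D185883 (iv1 F442757) F207837 F95453 (iv1 F93623) D126496 D205646 F437335
def n206963 : Q := act 6 n129653
theorem D206963 : act 6 n129653 = n206963 := rfl
theorem F442760 : act 2 n206963 = n191550 := d3_1 D206963 (iv6 F383775) (iv2 F214759)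
theorem F442761 : act 3 n206963 = n205717 := d7_1 D206963 (iv6 D205717) (iv3 F380823)
theorem F442762 : act 4 n206963 = n191547 := d10_1 D206963 F383761 F380822
def n206964 : Q := act 6 n129654
theorem D206964 : act 6 n129654 = n206964 := rfl
theorem F442763 : act 2 n206964 = n206714 := d3_1 D206964 (iv6 D206714) F214758
def n206965 : Q := act 6 n129655
theorem D206965 : act 6 n129655 = n206965 := rfl
theorem F442764 : act 4 n206965 = n129656 := d10_1 D206965 (iv6 D129656) D129655
theorem F442765 : act 0 n206965 = n134144 := d21_10 F365760 (iv1 F366971) D191677 (iv6 F384110) (iv1 F217201) (iv6 F171538) F336964 F229960 F336977 D206965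
theorem F442766 : act 5 n194999 = n206965 := d18_9 F442765 (iv4 F409756) F409758 (iv4 D182599) (iv5 D87178) (iv4 F133276) D181880 (iv4 F283981) (iv0 F395349)
def n206966 : Q := act 6 n129658
theorem D206966 : act 6 n129658 = n206966 := rfl
def n206967 : Q := act 5 n129661
theorem D206967 : act 5 n129661 = n206967 := rfl
theorem F442767 : act 2 n206967 = n206708 := d2_1 D206967 (iv5 D206708) (iv2 F207839)
theorem F442768 : act 3 n206967 = n159481 := d6_1 D206967 (iv5 F398201) F398199
theorem F442769 : act 6 n206967 = n132393 := d12_2 D129661 D206967 (iv5 D132393) (iv6 D62119) (iv5 F95449)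
theorem F442770 : act 7 n159479 = n206967 := d14_0 F442769 F212437 F362933 (iv7 D159495) (iv6 F251155)
def n206968 : Q := act 7 n129661
theorem D206968 : act 7 n129661 = n206968 := rfl
theorem F442771 : act 2 n206968 = n201055 := d4_1 D206968 F418913 (iv2 F207839)
theorem F442772 : act 3 n206968 = n159480 := d8_1 D206968 F398202 F398199
theorem F442773 : act 4 n206968 = n148701 := d11_1 D206968 (iv7 F363898) F209518
theorem F442774 : act 5 n206968 = n159479 := d13_1 D206968 F442770 (iv5 D206967)
theorem F442775 : act 6 n206968 = n146859 := d14_1 D206968 F230252 F328050 (iv7 F95452) D129661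
theorem F442776 : act 1 n146888 = n206968 := d15_1 (iv0 F363894) (iv7 D206968) F207839
theorem F442777 : act 1 n206968 = n146891 := d15_1 F442776 (iv7 F371316) F371315
theorem F442778 : act 3 n206784 = n201740 := d20_5 (iv4 D146888) (iv1 F135540) (iv4 F325467) (iv3 F207503) D206784 F421635 (iv1 F398208) F398205 (iv3 F442772) (iv1 F442776)
def n206969 : Q := act 5 n129662
theorem D206969 : act 5 n129662 = n206969 := rfl
theorem F442779 : act 0 n206969 = n191580 := d17_2 D129662 D206969 (iv5 F439245) (iv4 F439244) F439240 (iv0 F376870) (iv5 F376871) (iv0 D135758) F99232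
theorem F442780 : act 4 n206969 = n182420 := d17_4 (iv1 F442031) (iv5 D129664) D129662 D206969 F362418 F294198 (iv5 F327072) F327070 (iv4 F442029)
theorem F442781 : act 1 n206969 = n191581 := d17_8 (iv1 D98573) (iv5 D46081) D46078 D98565 D191576 (iv5 F437291) F437293 D206969 (iv4 D191581)
def n206970 : Q := act 6 n129662
theorem D206970 : act 6 n129662 = n206970 := rfl
theorem F442782 : act 4 n206970 = n206120 := d10_1 D206970 (iv6 F439334) (iv4 F437238)
theorem F442783 : act 5 n206970 = n186700 := d21_6 (iv5 F48302) F23812 D28886 D60906 D129662 D206970 (iv1 F437580) (iv5 D205725) (iv6 D126558) F93670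
theorem F442784 : act 7 n191608 = n206970 := d13_0 F442783 F367725 D191608
theorem F442785 : act 1 n146862 = n206970 := d15_1 (iv0 F379625) (iv7 F442784) F383961
def n206971 : Q := act 0 n129664
theorem D206971 : act 0 n129664 = n206971 := rfl
theorem F442786 : act 4 n206971 = n182701 := d18_1 D206971 (iv1 D182701) D182702 (iv5 F437739) F437738 F218421 (iv4 F437238) (iv0 D129662) D129664
theorem F442787 : act 1 n191576 = n206971 := d15_0 (iv0 D206971) (iv7 F437569) F437565
def n206972 : Q := act 0 n129666
theorem D206972 : act 0 n129666 = n206972 := rfl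
theorem F442788 : act 5 n206972 = n187638 := d17_3 F371094 (iv5 F374828) D206972 (iv4 D187638) (iv5 D90417) (iv0 D42278) D42280 D90423 D187645
theorem F442789 : act 2 n206671 = n206972 := d15_3 (iv0 D206972) F442728 (iv7 F442729)
theorem F442790 : act 7 n206972 = n135495 := d4_2 (iv7 F442729) F442789 (iv2 F442724)
def n206973 : Q := act 6 n129666
theorem D206973 : act 6 n129666 = n206973 := rfl
theorem F442791 : act 3 n206973 = n129668 := d7_1 D206973 (iv6 D129668) D129666
theorem F442792 : act 4 n206973 = n183517 := d10_1 D206973 F394541 F394540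
theorem F442793 : act 5 n206973 = n148743 := d12_1 D206973 (iv6 D148743) (iv5 F106075) D148748 (iv5 F374828)
theorem F442794 : act 7 n129849 = n206973 := d13_0 F442793 (iv7 F442021) F442020
def n206974 : Q := act 3 n129672
theorem D206974 : act 3 n129672 = n206974 := rfl
theorem F442795 : act 2 n206974 = n185789 := d0_1 D206974 F362149 (iv2 F442545) F442546 F207847
theorem F442796 : act 5 n206974 = n132219 := d6_2 (iv5 F207846) D206974 F211838
theorem F442797 : act 4 n206974 = n185788 := d20_6 F418386 F363938 F345881 F207836 D129672 D206974 (iv1 F288324) (iv4 F363814) (iv3 F203651) F418387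
theorem F442798 : act 0 n206974 = n187638 := d20_10 (iv4 D187638) D187637 (iv4 F371078) (iv3 D129677) (iv1 F203408) (iv3 F344989) F344986 D170762 F346163 D206974
theorem F442799 : act 6 n199479 = n206974 := d10_0 F442797 F418706 F418708
theorem F442800 : act 0 n187640 = n206974 := d18_2 (iv1 F371074) D187640 F442797 (iv5 F377344) F377343 F369982 F369981 (iv0 F373836) F373834
def n206975 : Q := act 6 n129672
theorem D206975 : act 6 n129672 = n206975 := rfl
theorem F442801 : act 2 n206975 = n136949 := d3_1 D206975 F346165 F207847
theorem F442802 : act 3 n206975 = n199479 := d7_1 D206975 F442799 (iv3 D206974)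
theorem F442803 : act 4 n206975 = n136948 := d10_1 D206975 (iv6 F346169) F346163
theorem F442804 : act 5 n206975 = n129842 := d12_1 D206975 (iv6 D129842) F95533 D62032 (iv5 F207846)
theorem F442805 : act 7 n199068 = n206975 := d13_0 F442804 F364004 D199068
theorem F442806 : act 0 n146845 = n206975 := d19_0 F442804 (iv4 F338254) F171812 (iv1 F80675) (iv5 D25900) (iv4 D12292) F8982 (iv1 F8955) F8957 F8546 (iv3 F10110) (iv1 F8551) F7937 D6451 (iv3 F11510) D15108 D32022 D68843 D146845
def n206976 : Q := act 6 n129673
theorem D206976 : act 6 n129673 = n206976 := rfl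
theorem F442807 : act 3 n206976 = n200081 := d7_1 D206976 (iv6 F436571) F346168
theorem F442808 : act 4 n206976 = n134282 := d10_1 D206976 (iv6 F409987) F346166
def n206977 : Q := act 1 n129674
theorem D206977 : act 1 n129674 = n206977 := rfl
theorem F442809 : act 1 n206977 = n191524 := d15_1 D206977 F437320 F437314
theorem F442810 : act 7 n206977 = n191556 := d15_2 (iv0 F344992) D206977 (iv2 D191556)
theorem F442811 : act 4 n206977 = n205663 := d17_9 (iv1 F437384) (iv5 D126581) F203290 D129678 F332374 (iv5 D98515) (iv0 F344995) F344996 D206977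
theorem F442812 : act 2 n186696 = n206977 := d1_3 F442811 F437408 F437407
theorem F442813 : act 3 n191564 = n206977 := d20_5 D193174 F389051 F285213 (iv3 F285123) (iv1 F383844) F442811 (iv1 F437384) F344985 F156021 D101272
def n206978 : Q := act 7 n129674
theorem D206978 : act 7 n129674 = n206978 := rfl
theorem F442814 : act 2 n206978 = n191524 := d4_1 D206978 F437320 F437314
theorem F442815 : act 3 n206978 = n153967 := d8_1 D206978 F364935 (iv3 F345000)
theorem F442816 : act 4 n206978 = n129675 := d11_1 D206978 (iv7 D129675) D129674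
theorem F442817 : act 5 n206978 = n153965 := d13_1 D206978 (iv7 F344997) F344996
theorem F442818 : act 6 n206978 = n205613 := d14_1 D206978 (iv7 F437560) F437564 F367750 (iv6 F345001)
theorem F442819 : act 1 n186696 = n206978 := d15_1 (iv0 F437319) (iv7 D206978) (iv2 F437314)
theorem F442820 : act 1 n206978 = n191556 := d15_1 F442819 (iv7 F442810) (iv2 F442812)
def n206979 : Q := act 4 n129676
theorem D206979 : act 4 n129676 = n206979 := rfl
theorem F442821 : act 2 n206979 = n202236 := d1_1 D206979 (iv4 F437166) F437162
theorem F442822 : act 3 n206979 = n139645 := d5_1 D206979 (iv4 F415322) (iv3 F415325) (iv4 D129680) (iv3 F207852)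
theorem F442823 : act 6 n206979 = n202281 := d10_2 (iv6 F207853) D206979 F423472
theorem F442824 : act 7 n206979 = n156295 := d11_2 (iv7 F207854) D206979 F245595
theorem F442825 : act 0 n206979 = n156163 := d18_2 F386190 D206979 F245428 F111491 (iv4 F326339) F183971 (iv4 F183966) F399112 F399108
theorem F442826 : act 1 n206979 = n185172 := d18_6 (iv1 D53120) (iv4 F83850) D115112 F179264 D129676 D206979 F359547 (iv0 F165210) F84188
theorem F442827 : act 0 n202424 = n202010 := d20_4 F245428 F111493 (iv4 F180049) (iv3 F423943) F422704 F179617 D200163 F415322 (iv3 F442822) F442825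
def n206980 : Q := act 5 n129677
theorem D206980 : act 5 n129677 = n206980 := rfl
theorem F442828 : act 3 n206980 = n129678 := d6_1 D206980 (iv5 D129678) D129677
theorem F442829 : act 4 n206980 = n191541 := d16_2 (iv4 F371078) D206980 (iv5 F394715) (iv4 D194843) F160340 F350464 D187148 (iv7 F374646) F374644
theorem F442830 : act 6 n195691 = n206980 := d10_0 F442829 F383729 D195691
def n206981 : Q := act 6 n129677
theorem D206981 : act 6 n129677 = n206981 := rfl
theorem F442831 : act 3 n206981 = n129679 := d7_1 D206981 (iv6 D129679) D129677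
theorem F442832 : act 4 n206981 = n134500 := d10_1 D206981 F371076 (iv4 F371078)
theorem F442833 : act 7 n129858 = n206981 := d11_0 F442832 (iv7 F218304) F218303
theorem F442834 : act 5 n205671 = n206981 := d17_3 (iv1 F442040) (iv5 F343669) D205671 F442832 F365945 (iv0 D106545) (iv5 F114449) D159574 (iv4 F442038)
theorem F442835 : act 4 n206658 = n205671 := d16_0 F442834 F442832 F365945 F354467 (iv5 F381033) (iv4 F417589) F417590 (iv7 F441720) F441775
def n206982 : Q := act 6 n129678
theorem D206982 : act 6 n129678 = n206982 := rfl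
theorem F442836 : act 3 n206982 = n195691 := d7_1 D206982 F442830 F442828
theorem F442837 : act 4 n206982 = n191528 := d10_1 D206982 (iv6 D191528) (iv4 F332374)
def n206983 : Q := act 5 n129679
theorem D206983 : act 5 n129679 = n206983 := rfl
theorem F442838 : act 2 n206983 = n129862 := d2_1 D206983 (iv5 D129862) (iv2 F207855)
theorem F442839 : act 3 n206983 = n205671 := d6_1 D206983 F442834 F442831
theorem F442840 : act 7 n206983 = n129859 := d13_2 F207857 D206983 (iv5 D129859)
theorem F442841 : act 4 n206983 = n132698 := d16_2 (iv4 F207856) D206983 F324967 (iv4 F132216) (iv5 F248724) (iv4 D78009) (iv5 F326086) F171885 (iv2 F171877)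
theorem F442842 : act 0 n206983 = n135477 := d17_2 (iv1 F396514) D206983 (iv5 D135477) F99025 F48287 D51453 F162153 F176305 (iv4 F396512)
theorem F442843 : act 1 n206983 = n130291 := d17_6 (iv1 F93614) (iv5 F324972) D35585 (iv5 F326085) (iv4 F207856) D206983 F334306 F217882 (iv4 D110459)
def n206984 : Q := act 3 n129681
theorem D206984 : act 3 n129681 = n206984 := rfl
theorem F442844 : act 2 n206984 = n194783 := d0_1 D206984 (iv3 D194783) (iv2 F160061) F349135 (iv2 F207861)
theorem F442845 : act 4 n206984 = n129683 := d5_2 D129681 D206984 (iv3 D129683) (iv4 D60918) D60917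
theorem F442846 : act 6 n206984 = n141310 := d7_2 (iv6 F342836) D206984 F224333
theorem F442847 : act 7 n206984 = n134246 := d8_2 (iv7 F207862) D206984 (iv3 D134246)
theorem F442848 : act 0 n206984 = n198981 := d20_7 (iv4 F346166) (iv1 D170763) (iv4 F344986) F344989 (iv1 F203407) D129683 (iv4 F442845) (iv4 F441967) F441966 (iv1 F437324)
theorem F442849 : act 1 n194776 = n198981 := d15_0 (iv0 F442848) F442847 (iv2 F394423)
def n206985 : Q := act 1 n129683
theorem D206985 : act 1 n129683 = n206985 := rfl
theorem F442850 : act 7 n206985 = n205777 := d15_2 (iv0 F437843) D206985 F437833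
theorem F442851 : act 2 n205784 = n206985 := d4_3 F442850 F437833 D205784
theorem F442852 : act 6 n205790 = n206985 := d14_5 F442850 (iv6 D205777) (iv7 F203634) D126601 D205790
theorem F442853 : act 1 n205784 = n205644 := d15_0 (iv0 F437835) (iv7 F442850) (iv2 F442851)
theorem F442854 : act 3 n206985 = n205692 := d7_1 F442852 F437476 (iv3 F437876)
theorem F442855 : act 5 n206985 = n205690 := d12_1 F442852 (iv6 D205690) F203447 D135476 (iv5 F437878)
theorem F442856 : act 1 n206985 = n205782 := d15_0 (iv0 D205782) D205784 F442851
def n206986 : Q := act 2 n129683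
theorem D206986 : act 2 n129683 = n206986 := rfl
theorem F442857 : act 4 n206986 = n194783 := d1_2 F442845 D206986 (iv2 F442844)
theorem F442858 : act 7 n206986 = n205782 := d4_2 F437329 D206986 (iv2 F437852)
theorem F442859 : act 1 n206986 = n205784 := d15_0 F442853 F437329 D206986
theorem F442860 : act 1 n205777 = n206986 := d15_0 F442859 (iv7 D205784) (iv2 F437833)
def n206987 : Q := act 5 n129683
theorem D206987 : act 5 n129683 = n206987 := rfl
theorem F442861 : act 3 n206987 = n129684 := d6_1 D206987 (iv5 D129684) D129683
theorem F442862 : act 6 n205716 = n206987 := d7_0 F442861 F421954 (iv3 F437546)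
theorem F442863 : act 4 n206987 = n205717 := d10_1 F442862 (iv6 D205717) D205716
def n206988 : Q := act 6 n129683
theorem D206988 : act 6 n129683 = n206988 := rfl
theorem F442864 : act 3 n206988 = n129685 := d7_1 D206988 (iv6 D129685) D129683
theorem F442865 : act 4 n206988 = n141310 := d10_1 D206988 (iv6 F442846) F442845
theorem F442866 : act 5 n196362 = n206988 := d16_3 F161950 (iv5 F164789) D196362 F442865 (iv5 D141310) (iv4 F224324) F360518 (iv7 F396593) (iv2 D195289)
def n206989 : Q := act 4 n129684
theorem D206989 : act 4 n129684 = n206989 := rfl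
theorem F442867 : act 2 n206989 = n173421 := d1_1 D206989 (iv4 F437337) F437336
theorem F442868 : act 3 n206989 = n191547 := d5_1 D206989 (iv4 F442762) F442761 (iv4 F442863) F442861
theorem F442869 : act 5 n206989 = n172007 := d9_2 D129684 D206989 F270057 (iv5 F332371) (iv4 D129680) (iv5 D60914) D60913 D129678 F332374 (iv5 D98515) (iv4 F315082) (iv5 F332367) (iv4 D129686) (iv5 D60919) D60918
theorem F442870 : act 7 n206989 = n191525 := d11_2 F437331 D206989 (iv4 F437332)
theorem F442871 : act 0 n206989 = n191527 := d18_2 F432201 D206989 F442115 (iv5 D206768) (iv4 D129217) F101874 (iv4 F95391) D129439 (iv5 F432200)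
theorem F442872 : act 1 n206989 = n191526 := d18_6 (iv1 F203379) F203377 (iv1 F93625) D60918 D129684 D206989 (iv4 F442481) F442480 (iv5 D129667)
def n206990 : Q := act 6 n129689
theorem D206990 : act 6 n129689 = n206990 := rfl
theorem F442873 : act 2 n206990 = n205791 := d3_1 D206990 (iv6 D205791) F208388
theorem F442874 : act 3 n206990 = n205777 := d7_1 D206990 (iv6 D205777) F208370
theorem F442875 : act 4 n206990 = n158497 := d10_1 D206990 (iv6 D158497) (iv4 F317568)
theorem F442876 : act 5 n206990 = n205693 := d12_1 D206990 (iv6 F437909) F437908 F380813 F212409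
theorem F442877 : act 7 n206990 = n205692 := d14_2 (iv7 F208381) D206990 F437476 F437861 (iv6 D205786)
theorem F442878 : act 1 n129725 = n206990 := d15_1 F442677 F442877 (iv2 F437886)
theorem F442879 : act 0 n129730 = n206990 := d17_0 F442876 (iv1 F437479) F418327 F212123 (iv5 F342214) (iv0 D129733) (iv5 D60937) D60936 D129730
def n206991 : Q := act 0 n129690
theorem D206991 : act 0 n129690 = n206991 := rfl
theorem F442880 : act 4 n206991 = n133090 := d18_3 (iv1 F350872) (iv4 F207876) D206991 F359264 (iv4 D133751) (iv0 F155496) (iv4 F210551) (iv0 F344113) (iv5 D133176)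
theorem F442881 : act 1 n129877 = n206991 := d15_0 (iv0 D206991) (iv7 F365971) F212810
def n206992 : Q := act 1 n129690
theorem D206992 : act 1 n129690 = n206992 := rfl
theorem F442882 : act 1 n206992 = n129877 := d15_1 D206992 (iv7 F365970) F213018
theorem F442883 : act 4 n158472 = n206992 := d20_6 (iv4 F371487) F371490 F213386 (iv3 F213382) (iv1 F347019) F347021 (iv1 D206992) F207876 (iv3 F207873) (iv1 F344101)
theorem F442884 : act 3 n206992 = n205793 := d5_1 F442883 (iv4 F437883) F219241 (iv4 F203723) F347021
theorem F442885 : act 6 n206992 = n205825 := d10_2 (iv6 F347024) F442883 (iv4 D205825)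
def n206993 : Q := act 5 n129690
theorem D206993 : act 5 n129690 = n206993 := rfl
theorem F442886 : act 3 n206993 = n205804 := d6_1 D206993 (iv5 D205804) (iv3 F207875)
theorem F442887 : act 6 n206993 = n205794 := d12_2 D129690 D206993 (iv5 D205794) (iv6 D126607) F95467
def n206994 : Q := act 4 n129705
theorem D206994 : act 4 n129705 = n206994 := rfl
theorem F442888 : act 2 n206994 = n129725 := d1_1 D206994 (iv4 D129725) (iv2 F364572)
theorem F442889 : act 3 n206994 = n205755 := d5_1 D206994 F437719 F400127 F394693 (iv3 F394691)
theorem F442890 : act 6 n206994 = n129912 := d10_2 (iv6 F361186) D206994 (iv4 D129912)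
theorem F442891 : act 7 n206994 = n129730 := d11_2 (iv7 F364573) D206994 (iv4 D129730)
theorem F442892 : act 1 n206994 = n205791 := d18_8 (iv1 D200914) F176806 F366026 (iv4 F203346) F345882 F207838 F207893 D206994 F437882
theorem F442893 : act 1 n205692 = n206994 := d15_0 F442892 (iv7 F437889) F437886
def n206995 : Q := act 3 n129706
theorem D206995 : act 3 n129706 = n206995 := rfl
theorem F442894 : act 2 n206995 = n195115 := d0_1 D206995 F395832 (iv2 F394696) (iv3 D129729) (iv2 F364575)
theorem F442895 : act 6 n206995 = n136713 := d7_2 F434571 D206995 (iv3 F434570)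
theorem F442896 : act 7 n206995 = n129724 := d8_2 (iv7 F364576) D206995 (iv3 D129724)
theorem F442897 : act 4 n206995 = n132788 := d20_6 (iv4 D29452) (iv1 F23353) (iv4 F46548) (iv3 F95481) (iv1 F207890) D206995 (iv1 D132788) F97186 F47283 (iv1 F49208)
theorem F442898 : act 0 n180739 = n206995 := d18_0 F442897 (iv1 D132788) F97186 D62328 D132811 F344835 (iv4 F256816) F256820 D180739
theorem F442899 : act 1 n135274 = n206995 := d15_0 (iv0 F442898) (iv7 F441568) F441563
def n206996 : Q := act 4 n129706
theorem D206996 : act 4 n129706 = n206996 := rfl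
theorem F442900 : act 2 n206996 = n129730 := d1_1 D206996 (iv4 D129730) (iv2 F364575)
theorem F442901 : act 3 n206996 = n200898 := d5_1 D206996 F418326 (iv3 F366124) (iv4 F442897) (iv3 D206995)
theorem F442902 : act 6 n206996 = n200897 := d10_2 F434571 D206996 (iv4 F434573)
theorem F442903 : act 7 n206996 = n129725 := d11_2 (iv7 F364576) D206996 (iv4 D129725)
theorem F442904 : act 0 n206996 = n205791 := d17_0 F437882 (iv1 D200914) (iv5 F357335) F207678 (iv5 F319160) (iv0 F366248) (iv5 D129707) D129706 D206996
theorem F442905 : act 1 n206996 = n205692 := d18_8 D205691 F437471 (iv1 F366027) F366029 (iv5 F362146) F207832 D129706 D206996 (iv5 D205692)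
theorem F442906 : act 0 n148136 = n195261 := d21_7 F362156 F170834 D135477 (iv6 F437476) (iv1 F442905) F442902 F418324 (iv5 F442198) (iv6 F442197) F396509
def n206997 : Q := act 1 n129707
theorem D206997 : act 1 n129707 = n206997 := rfl
theorem F442907 : act 1 n206997 = n129736 := d15_1 D206997 (iv7 D129736) (iv2 F207891)
theorem F442908 : act 7 n206997 = n129733 := d15_2 (iv0 F366248) D206997 F342211
theorem F442909 : act 3 n162573 = n206997 := d20_3 (iv4 F354964) (iv1 F256746) (iv4 F256816) (iv1 D206997) (iv3 F212836) (iv4 F348890) F361182 F284870 F260459 D172113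
theorem F442910 : act 5 n132311 = n206997 := d21_0 (iv1 D206997) (iv5 D129707) (iv6 D60930) (iv1 F47243) D62272 (iv5 F320709) (iv1 F340790) (iv5 F306850) F209072 F363456
theorem F442911 : act 6 n200180 = n206997 := d21_3 (iv5 D112768) D112766 D200180 (iv1 D206997) F315808 (iv5 D85021) (iv1 F131855) (iv5 F349779) F415443 (iv1 D200182)
theorem F442912 : act 2 n206997 = n129734 := d3_1 F442911 (iv6 F432324) F432320
theorem F442913 : act 4 n206997 = n204173 := d10_1 F442911 F431332 (iv4 F415423)
def n206998 : Q := act 4 n129707
theorem D206998 : act 4 n129707 = n206998 := rfl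
theorem F442914 : act 2 n206998 = n129735 := d1_1 D206998 (iv4 D129735) (iv2 F207891)
theorem F442915 : act 6 n206998 = n178551 := d10_2 (iv6 F315808) D206998 (iv4 D178551)
theorem F442916 : act 0 n206998 = n159689 := d18_2 (iv1 D206997) D206998 F251580 (iv5 F319156) F214102 D206904 F442562 F212129 F442910
def n206999 : Q := act 2 n129724
theorem D206999 : act 2 n129724 = n206999 := rfl
theorem F442917 : act 4 n206999 = n132787 := d1_2 F391740 D206999 (iv2 F391738)
theorem F442918 : act 6 n206999 = n185900 := d3_2 (iv6 F364574) D206999 F363983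
theorem F442919 : act 7 n206999 = n195115 := d4_2 F442896 D206999 (iv2 F442894)
theorem F442920 : act 1 n206999 = n135274 := d15_0 F442899 F442896 D206999
theorem F442921 : act 1 n180739 = n206999 := d15_0 F442920 F355082 F355087
def n207000 : Q := act 5 n129725
theorem D207000 : act 5 n129725 = n207000 := rfl
theorem F442922 : act 6 n207000 = n205771 := d21_3 (iv5 F442876) (iv1 F442878) D207000 (iv1 F437816) (iv6 F437740) F437739 (iv1 F367817) (iv5 F439272) F439273 (iv1 F437480)
def n207001 : Q := act 4 n129726
theorem D207001 : act 4 n129726 = n207001 := rfl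
theorem F442923 : act 6 n207001 = n203957 := d10_2 (iv6 F364894) D207001 (iv4 D203957)
theorem F442924 : act 3 n207001 = n188428 := d20_9 (iv4 F432388) F392934 D147736 F426112 (iv1 F426110) D203149 (iv4 F430497) F430500 D207001 (iv1 F432390)
def n207002 : Q := act 5 n129729
theorem D207002 : act 5 n129729 = n207002 := rfl
theorem F442925 : act 2 n207002 = n206297 := d2_1 D207002 F440128 (iv2 F394696)
theorem F442926 : act 3 n207002 = n129731 := d6_1 D207002 (iv5 D129731) D129729
theorem F442927 : act 6 n207002 = n153913 := d12_2 (iv6 F439115) D207002 (iv5 F411844) (iv6 F438092) (iv5 F439110)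
theorem F442928 : act 7 n207002 = n185248 := d13_2 F394692 D207002 (iv5 F359718)
theorem F442929 : act 4 n207002 = n185249 := d17_4 D128221 (iv5 F346113) (iv1 F439117) D207002 F287546 (iv0 F353705) (iv5 D153822) (iv0 D72763) (iv4 F94833)
theorem F442930 : act 0 n207002 = n182285 := d18_0 (iv4 F369508) (iv1 F369514) F369416 (iv5 D132968) (iv4 F354354) (iv0 D132084) (iv4 F211610) (iv0 F439116) D207002
def n207003 : Q := act 3 n129730
theorem D207003 : act 3 n129730 = n207003 := rfl
theorem F442931 : act 2 n207003 = n200834 := d0_1 D207003 F418101 (iv2 F418325) (iv3 F442901) F442900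
theorem F442932 : act 4 n207003 = n132158 := d5_2 D129730 D207003 (iv3 F439119) F439120 (iv3 D129729)
theorem F442933 : act 7 n207003 = n205755 := d8_2 F442891 D207003 (iv3 F442889)
theorem F442934 : act 0 n207003 = n196238 := d20_4 F362143 (iv1 F207894) D129730 D207003 (iv3 F437362) F437363 (iv1 F389033) F346166 (iv3 F346168) (iv1 F362145)
theorem F442935 : act 0 n205757 = n207003 := d20_4 F203370 (iv1 F99069) (iv4 F203606) (iv3 F437726) (iv3 D207003) (iv4 D129730) (iv1 D60936) (iv4 F95448) F95447 D60907
theorem F442936 : act 6 n200830 = n207003 := d21_3 F417898 (iv1 F421728) F421727 F442934 F400014 F212400 (iv1 D129101) D129103 F365769 D200787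
def n207004 : Q := act 5 n129730
theorem D207004 : act 5 n129730 = n207004 := rfl
def n207005 : Q := act 6 n129730
theorem D207005 : act 6 n129730 = n207005 := rfl
theorem F442937 : act 2 n207005 = n200897 := d3_1 D207005 (iv6 F442902) F442900
theorem F442938 : act 3 n207005 = n200830 := d7_1 D207005 F442936 (iv3 D207003)
theorem F442939 : act 4 n207005 = n129732 := d10_1 D207005 (iv6 D129732) D129730
theorem F442940 : act 0 n207005 = n205902 := d20_7 F362709 (iv1 F218843) (iv4 F338720) (iv3 F418071) F439114 F439113 (iv4 F442939) F438347 F203967 D126747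
def n207006 : Q := act 1 n129735
theorem D207006 : act 1 n129735 = n207006 := rfl
theorem F442941 : act 7 n207006 = n159689 := d15_2 (iv0 F419417) D207006 (iv2 F419413)
theorem F442942 : act 4 n175322 = n207006 := d20_0 (iv1 D207006) (iv4 D129735) F95480 F313657 (iv3 F316403) F192373 (iv1 F313913) (iv4 F425279) (iv3 F431358) (iv1 F431362)
theorem F442943 : act 3 n159693 = n207006 := d20_3 (iv4 D76414) (iv1 F114550) (iv4 F251591) (iv1 D207006) F361424 (iv4 D73952) (iv1 F87251) D119843 F355740 F355767
theorem F442944 : act 5 n207006 = n192714 := d16_5 (iv4 F418948) (iv5 F371482) F371479 F362053 F442942 (iv4 F418399) (iv5 F339340) F218017 F339347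
def n207007 : Q := act 5 n129735
theorem D207007 : act 5 n129735 = n207007 := rfl
theorem F442945 : act 3 n207007 = n155491 := d6_1 D207007 (iv5 D155491) (iv3 F361424)
theorem F442946 : act 6 n207007 = n135725 := d12_2 (iv6 F315809) D207007 (iv5 F422368) F422366 F274443
theorem F442947 : act 4 n207007 = n135719 := d16_2 D129735 D207007 (iv5 D135719) F99188 D129157 F362143 (iv5 F408323) F408324 F207891
theorem F442948 : act 0 n135725 = n192709 := d21_4 (iv5 F442944) (iv1 D207006) D207007 F442946 (iv6 D192709) (iv5 D100544) (iv1 D46906) D46908 D100551 D192714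
def n207008 : Q := act 4 n129793
theorem D207008 : act 4 n129793 = n207008 := rfl
theorem F442949 : act 6 n207008 = n201135 := d10_2 F362877 D207008 F419217
def n207009 : Q := act 0 n129798
theorem D207009 : act 0 n129798 = n207009 := rfl
theorem F442950 : act 4 n207009 = n154404 := d18_1 D207009 (iv1 F357261) (iv4 F442929) (iv5 D207002) (iv4 F439120) (iv0 F439122) F213575 F336584 D129798
theorem F442951 : act 3 n207009 = n200459 := d20_5 F321248 (iv1 F312218) (iv4 F318354) (iv3 F208147) D207009 F416519 F363906 F166377 F319583 (iv1 F308703)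
theorem F442952 : act 6 n207009 = n147504 := d21_5 D89255 F328291 (iv5 F130079) (iv6 F320514) D207009 (iv5 D147504) F242683 D69184 (iv6 F322750) (iv1 D89253)
def n207010 : Q := act 1 n129798
theorem D207010 : act 1 n129798 = n207010 := rfl
theorem F442953 : act 4 n207010 = n154399 := d17_9 F353699 F136964 (iv1 F353706) (iv5 D153822) F354974 F213607 F336584 D129798 D207010
def n207011 : Q := act 3 n129803
theorem D207011 : act 3 n129803 = n207011 := rfl
theorem F442954 : act 5 n207011 = n175324 := d6_2 (iv5 F338383) D207011 (iv3 F363207)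
theorem F442955 : act 6 n207011 = n130299 := d7_2 (iv6 F337771) D207011 F208835
theorem F442956 : act 7 n207011 = n130195 := d8_2 (iv7 F337772) D207011 F208705
theorem F442957 : act 4 n207011 = n205795 := d20_6 F211610 D132084 F354354 (iv3 F338391) (iv1 F337769) D207011 F437890 (iv4 D129730) D129729 F439116
theorem F442958 : act 0 n130043 = n207011 := d20_4 F327293 (iv1 F63678) F323383 D130043 (iv3 D207011) (iv4 F341950) F354352 F354349 F337856 F327758
def n207012 : Q := act 3 n129810
theorem D207012 : act 3 n129810 = n207012 := rfl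
theorem F442959 : act 2 n207012 = n206581 := d0_1 D207012 (iv3 D206581) (iv2 F440845) F440847 (iv2 F437764)
theorem F442960 : act 0 n201835 = n207012 := d20_4 (iv4 F203659) F371306 F371307 D201835 (iv3 D207012) (iv4 F437347) (iv1 F437349) D205681 F437444 (iv1 D126613)
def n207013 : Q := act 6 n129810
theorem D207013 : act 6 n129810 = n207013 := rfl
theorem F442961 : act 7 n207013 = n205735 := d14_2 F437761 D207013 (iv6 D205735) F336991 (iv6 F437760)
def n207014 : Q := act 5 n129811
theorem D207014 : act 5 n129811 = n207014 := rfl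
theorem F442962 : act 2 n207014 = n129812 := d2_1 D207014 (iv5 D129812) D129811
theorem F442963 : act 3 n207014 = n129831 := d6_1 D207014 (iv5 D129831) (iv3 F208153)
theorem F442964 : act 0 n207014 = n206833 := d17_2 (iv1 F212699) D207014 (iv5 D206833) (iv4 F437367) F437369 (iv0 D134928) (iv5 F203654) (iv0 F437779) F437780
theorem F442965 : act 1 n207014 = n206830 := d17_6 D126553 (iv5 F437272) F437636 (iv5 D205736) (iv4 F208154) D207014 (iv5 D206830) (iv0 D129417) F95385
theorem F442966 : act 4 n207014 = n204522 := d19_2 (iv1 F212699) D207014 (iv3 D204522) F304363 (iv5 F305163) (iv4 D124069) (iv3 F312630) (iv1 F154547) (iv5 D46888) D46887 D100493 F316727 F343512 F339655 F362770 F440853 (iv5 D206447) D206446 F440847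
theorem F442967 : act 6 n206703 = n207014 := d10_0 F442966 F432797 (iv4 F441912)
def n207015 : Q := act 6 n129811
theorem D207015 : act 6 n129811 = n207015 := rfl
theorem F442968 : act 2 n207015 = n129813 := d3_1 D207015 (iv6 D129813) D129811
theorem F442969 : act 3 n207015 = n129832 := d7_1 D207015 (iv6 D129832) (iv3 F208153)
theorem F442970 : act 4 n207015 = n205463 := d10_1 D207015 (iv6 F436556) (iv4 F208154)
theorem F442971 : act 5 n207015 = n132185 := d12_1 D207015 F211754 D206703 F442967 (iv5 D207014)
theorem F442972 : act 0 n207015 = n132255 := d21_10 F211896 (iv1 D62258) D62259 (iv6 F212988) (iv1 F442343) (iv6 D206831) D206830 (iv1 F442965) (iv5 D207014) D207015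
theorem F442973 : act 1 n207015 = n132254 := d15_1 (iv0 F442972) (iv7 F437682) F437681
theorem F442974 : act 7 n207015 = n132184 := d15_2 D132255 (iv0 F442972) F211751
def n207016 : Q := act 0 n129812
theorem D207016 : act 0 n129812 = n207016 := rfl
theorem F442975 : act 5 n207016 = n132177 := d17_3 (iv1 D129810) D129812 D207016 (iv4 F437799) F437795 F217842 F217129 F437349 F437347
theorem F442976 : act 2 n206833 = n207016 := d2_3 F442975 (iv2 F437791) D206833
theorem F442977 : act 7 n206830 = n207016 := d13_0 F442975 F437792 D206830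
def n207017 : Q := act 1 n129812
theorem D207017 : act 1 n129812 = n207017 := rfl
theorem F442978 : act 7 n207017 = n206833 := d15_2 (iv0 D207016) D207017 F442976
theorem F442979 : act 5 n207017 = n132178 := d17_7 (iv1 F203527) (iv5 F380832) F212217 (iv5 D126566) (iv4 F95513) D129812 D207017 F211739 F207597
theorem F442980 : act 6 n205723 = n132178 := d21_5 (iv5 D205747) (iv1 D126570) D126571 (iv6 F437655) (iv1 F437657) (iv5 F442979) (iv1 D207017) (iv5 D129812) D129813 (iv1 F437684)
theorem F442981 : act 2 n206831 = n205723 := d3_3 F442980 F437790 D206831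
theorem F442982 : act 7 n205722 = n206831 := d15_2 F437657 F437658 F442981
theorem F442983 : act 2 n206830 = n207017 := d2_3 F442979 F437790 D206830
def n207018 : Q := act 0 n129814
theorem D207018 : act 0 n129814 = n207018 := rfl
theorem F442984 : act 5 n207018 = n205906 := d17_3 (iv1 F441963) (iv5 F361161) D207018 (iv4 D205906) F203970 D126822 D205955 (iv0 F438578) (iv4 F441962)
theorem F442985 : act 3 n207018 = n199062 := d20_5 (iv4 D108868) D108866 F362479 (iv3 F361160) D207018 (iv4 D199062) (iv1 F345103) (iv4 F442465) F442469 F362478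
theorem F442986 : act 1 n129848 = n207018 := d15_0 (iv0 D207018) (iv7 F361158) (iv2 F361159)
theorem F442987 : act 7 n129846 = n207018 := d8_0 F442985 F410513 (iv3 F355284)
theorem F442988 : act 2 n207018 = n129845 := d15_3 (iv0 D129845) D129846 F442987
def n207019 : Q := act 1 n129814
theorem D207019 : act 1 n129814 = n207019 := rfl
theorem F442989 : act 1 n207019 = n129848 := d15_1 D207019 (iv7 D129848) (iv2 F208158)
theorem F442990 : act 7 n207019 = n129845 := d15_2 (iv0 D207018) D207019 (iv2 F442988)
theorem F442991 : act 3 n199470 = n207019 := d19_19 (iv1 D207019) F361161 F207635 F95418 (iv1 F46538) D31039 F320311 (iv3 F49736) (iv1 F49740) F101363 D59958 D127708 (iv1 F377992) F377991 D198704 F408938 F361209 D111346 D199470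
theorem F442992 : act 4 n179863 = n207019 := d20_0 (iv1 D207019) (iv4 F218572) (iv3 F371043) (iv1 F373140) F169160 (iv4 D65973) D65971 D140573 F358544 F358545
theorem F442993 : act 6 n179862 = n207019 := d21_3 F421992 (iv1 F211843) (iv5 F335151) (iv1 D207019) (iv6 D129814) (iv5 D60975) F46555 D53110 (iv6 F179228) D201838
theorem F442994 : act 5 n206966 = n207019 := d21_6 (iv5 D129162) (iv1 D60718) D60719 (iv6 F207397) (iv1 F362147) D206966 (iv1 D207019) F361161 (iv6 F334300) F208164
theorem F442995 : act 2 n207019 = n129846 := d3_1 F442993 (iv6 F355283) (iv2 F355285)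
def n207020 : Q := act 5 n129818
theorem D207020 : act 5 n129818 = n207020 := rfl
theorem F442996 : act 2 n207020 = n129859 := d2_1 D207020 (iv5 D129859) (iv2 F208170)
theorem F442997 : act 3 n207020 = n205695 := d6_1 D207020 F437482 (iv3 F412712)
theorem F442998 : act 4 n207020 = n132602 := d9_1 D207020 F348898 (iv4 F256612) (iv5 D162408) (iv4 D78004) (iv5 F326085) (iv4 F207856) D206983 F442841 F324967 (iv4 F132216) (iv5 F248724) (iv4 D78009) (iv5 F326086) D129818
theorem F442999 : act 7 n207020 = n129862 := d13_2 (iv7 F208171) D207020 (iv5 D129862)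
theorem F443000 : act 0 n207020 = n130291 := d17_2 (iv1 F208172) D207020 F334306 F217879 F99057 F82726 (iv5 F99061) (iv0 D63078) (iv4 F98389)
theorem F443001 : act 1 n207020 = n135477 := d17_6 F80341 F45590 (iv1 F325963) (iv5 F326086) D129818 D207020 (iv5 D135477) (iv0 F170834) (iv4 D110451)
theorem F443002 : act 6 n132600 = n207020 := d10_0 F442998 (iv6 D132602) D132600
def n207021 : Q := act 5 n129819
theorem D207021 : act 5 n129819 = n207021 := rfl
theorem F443003 : act 2 n207021 = n192997 := d2_1 D207021 F388473 (iv2 F355297)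
theorem F443004 : act 4 n207021 = n150118 := d9_1 D207021 F236271 F107116 (iv5 F104613) (iv4 F229131) (iv5 F374640) F374639 (iv5 F347623) (iv4 D101081) (iv5 D47086) F35217 F50623 (iv4 F104052) D144945 F347618
theorem F443005 : act 7 n207021 = n150117 := d13_2 F355365 D207021 F355366
theorem F443006 : act 0 n207021 = n179862 := d17_2 D129819 D207021 F335151 (iv4 F209216) F335150 F335144 F338625 F203438 (iv4 F95526)
theorem F443007 : act 1 n207021 = n129843 := d17_6 (iv1 F347378) (iv5 F347377) (iv1 D144944) D144945 F347618 D207021 F208196 D132222 (iv4 F347372)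
theorem F443008 : act 6 n199066 = n207021 := d21_5 (iv5 D62012) F47031 D60836 D129456 (iv1 F410522) (iv5 D207021) (iv1 F208173) (iv5 F99711) (iv6 D64100) (iv1 F96609)
def n207022 : Q := act 3 n129820
theorem D207022 : act 3 n129820 = n207022 := rfl
theorem F443009 : act 2 n207022 = n197680 := d0_1 D207022 F405330 F421988 (iv3 D201835) F355368
theorem F443010 : act 5 n207022 = n192996 := d6_2 F347623 D207022 (iv3 D192996)
theorem F443011 : act 7 n207022 = n201836 := d8_2 (iv7 F355367) D207022 (iv3 D201836)
theorem F443012 : act 0 n129825 = n207022 := d20_4 (iv4 D62401) D62398 F97286 D129825 (iv3 D207022) (iv4 F374639) F374641 (iv4 F326071) F326070 F97288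
def n207023 : Q := act 5 n129822
theorem D207023 : act 5 n129822 = n207023 := rfl
theorem F443013 : act 3 n207023 = n129823 := d6_1 D207023 (iv5 D129823) (iv3 F208179)
theorem F443014 : act 4 n207023 = n194882 := d9_1 D207023 (iv5 D194882) F352059 (iv5 F335984) F179438 F83945 (iv4 F99349) D135851 F335982 (iv5 D174617) F128548 (iv5 F122668) (iv4 F335980) F179303 (iv4 F208180)
theorem F443015 : act 7 n207023 = n135654 := d13_2 (iv7 F208181) D207023 (iv5 D135654)
def n207024 : Q := act 4 n129823
theorem D207024 : act 4 n129823 = n207024 := rfl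
theorem F443016 : act 5 n207024 = n206957 := d16_1 D207024 (iv4 D206957) (iv5 D129642) F95444 F48326 (iv4 F95444) D129642 (iv7 F212753) F212752
def n207025 : Q := act 1 n129825
theorem D207025 : act 1 n129825 = n207025 := rfl
theorem F443017 : act 7 n207025 = n197680 := d15_2 (iv0 F443012) D207025 (iv2 F443009)
theorem F443018 : act 4 n134060 = n207025 := d20_6 (iv4 D29887) D29884 (iv4 F98409) (iv3 F216067) (iv1 F216069) D134060 (iv1 D207025) F216015 (iv3 F216014) (iv1 D63223)
theorem F443019 : act 2 n201836 = n207025 := d4_3 F443017 (iv2 F443009) F443011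
theorem F443020 : act 5 n197681 = n207025 := d13_3 F443017 (iv5 D197680) D197681
def n207026 : Q := act 2 n129829
theorem D207026 : act 2 n129829 = n207026 := rfl
theorem F443021 : act 4 n207026 = n135603 := d1_2 F213197 D207026 F218064
theorem F443022 : act 1 n207026 = n201749 := d15_0 F421667 F212764 D207026
theorem F443023 : act 1 n205711 = n207026 := d15_0 F443022 (iv7 F421668) (iv2 F437524)
theorem F443024 : act 6 n195624 = n207026 := d10_0 F443021 F430428 F430431
def n207027 : Q := act 6 n129829
theorem D207027 : act 6 n129829 = n207027 := rfl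
theorem F443025 : act 2 n207027 = n195624 := d3_1 D207027 F443024 (iv2 D207026)
theorem F443026 : act 3 n207027 = n129830 := d7_1 D207027 (iv6 D129830) D129829
theorem F443027 : act 4 n207027 = n201011 := d10_1 D207027 (iv6 F418726) F213197
theorem F443028 : act 7 n207027 = n195623 := d14_2 F212764 D207027 (iv6 F397659) F212959 (iv6 F365772)
theorem F443029 : act 0 n207027 = n164475 := d21_4 F421583 F442573 F442572 D207027 F259206 F163122 (iv1 F114455) F114454 (iv6 F177016) D201031
theorem F443030 : act 1 n207027 = n195626 := d15_1 (iv0 F443029) (iv7 D195626) (iv2 F259205)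
def n207028 : Q := act 5 n129830
theorem D207028 : act 5 n129830 = n207028 := rfl
theorem F443031 : act 4 n207028 = n206158 := d9_1 D207028 (iv5 D206158) (iv4 F381104) (iv5 D190797) F149002 D158448 F366307 D206960 F442745 (iv5 D206159) F359292 F346214 F249673 (iv5 F321680) F213191
def n207029 : Q := act 6 n129831
theorem D207029 : act 6 n129831 = n207029 := rfl
theorem F443032 : act 2 n207029 = n129836 := d3_1 D207029 (iv6 D129836) (iv2 F208184)
theorem F443033 : act 3 n207029 = n206703 := d7_1 D207029 F442967 F442963
theorem F443034 : act 4 n207029 = n204518 := d10_1 D207029 F432789 (iv4 F352312)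
theorem F443035 : act 5 n207029 = n206702 := d12_1 D207029 F441909 F345897 (iv6 D129832) D129831
theorem F443036 : act 7 n206842 = n207029 := d13_0 F443035 F441910 D206842
def n207030 : Q := act 3 n129833
theorem D207030 : act 3 n129833 = n207030 := rfl
theorem F443037 : act 2 n207030 = n206927 := d0_1 D207030 F442631 F421909 F421664 F209667
theorem F443038 : act 5 n207030 = n132226 := d6_2 (iv5 F209669) D207030 (iv3 D132226)
theorem F443039 : act 7 n207030 = n197677 := d8_2 F209668 D207030 F405384
theorem F443040 : act 0 n207030 = n192996 := d20_4 (iv4 F384480) F434628 F434626 D207030 (iv3 D192996) (iv4 D101081) D101079 D192992 F388462 (iv1 F213631)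
theorem F443041 : act 0 n197681 = n207030 := d20_4 (iv4 F442291) (iv1 D197528) D197529 (iv3 F405332) (iv3 D207030) (iv4 F434626) (iv1 F434627) (iv4 F442654) F442655 F442298
theorem F443042 : act 6 n206846 = n207030 := d21_3 (iv5 F437497) (iv1 F437500) (iv5 F442385) F443040 F388470 D193041 F420562 (iv5 F251171) (iv6 F362933) (iv1 F406499)
def n207031 : Q := act 6 n129833
theorem D207031 : act 6 n129833 = n207031 := rfl
theorem F443043 : act 2 n207031 = n206903 := d3_1 D207031 (iv6 D206903) F209667
theorem F443044 : act 3 n207031 = n206846 := d7_1 D207031 F443042 (iv3 D207030)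
theorem F443045 : act 4 n207031 = n146902 := d10_1 D207031 (iv6 F434624) F434626
theorem F443046 : act 5 n207031 = n146843 := d12_1 D207031 (iv6 F363937) (iv5 F345876) (iv6 D132228) (iv5 F209669)
theorem F443047 : act 0 n207031 = n148129 := d21_10 F231942 (iv1 F177078) D201053 F418904 (iv1 F361179) (iv6 D132236) (iv5 D62038) D62035 (iv5 F209669) D207031
theorem F443048 : act 1 n207031 = n148132 := d15_1 (iv0 F443047) F231948 (iv2 F231940)
theorem F443049 : act 7 n201068 = n207031 := d13_0 F443046 (iv7 F230232) D201068
def n207032 : Q := act 4 n129834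
theorem D207032 : act 4 n129834 = n207032 := rfl
theorem F443050 : act 2 n207032 = n179736 := d1_1 D207032 F352315 (iv2 F209665)
theorem F443051 : act 3 n207032 = n203788 := d5_1 D207032 F429816 (iv3 D201817) D201818 F421896
theorem F443052 : act 5 n207032 = n203673 := d9_2 F209664 D207032 F429354 F189822 D131236 (iv5 F211856) (iv4 D132227) (iv5 F209669) (iv4 F434626) F434623 F386432 F308196 (iv4 F209582) (iv5 D130973) F96669
theorem F443053 : act 7 n207032 = n191799 := d11_2 (iv7 F209666) D207032 F384482
theorem F443054 : act 0 n207032 = n191798 := d17_0 (iv5 D191798) (iv1 F272723) D205015 F434612 F211869 (iv0 D60981) D60984 D129834 D207032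
theorem F443055 : act 1 n207032 = n186633 := d18_6 (iv1 F207664) F213632 (iv1 D130971) F96669 F209664 D207032 (iv4 F442654) F442651 (iv5 D129538)
def n207033 : Q := act 6 n129834
theorem D207033 : act 6 n129834 = n207033 := rfl
theorem F443056 : act 2 n207033 = n206901 := d3_1 D207033 (iv6 D206901) (iv2 F209665)
def n207034 : Q := act 6 n129835
theorem D207034 : act 6 n129835 = n207034 := rfl
theorem F443057 : act 2 n207034 = n204518 := d3_1 D207034 F432789 F352313
theorem F443058 : act 4 n207034 = n129836 := d10_1 D207034 (iv6 D129836) D129835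
theorem F443059 : act 5 n207034 = n133676 := d12_1 D207034 (iv6 D133676) (iv5 D62742) D62743 (iv5 F208187)
def n207035 : Q := act 0 n129836
theorem D207035 : act 0 n129836 = n207035 := rfl
def n207036 : Q := act 1 n129836
theorem D207036 : act 1 n129836 = n207036 := rfl
theorem F443060 : act 1 n207036 = n206842 := d15_1 D207036 F443036 F443032
def n207037 : Q := act 5 n129836
theorem D207037 : act 5 n129836 = n207037 := rfl
theorem F443061 : act 2 n207037 = n206702 := d2_1 D207037 (iv5 F443035) F443032
theorem F443062 : act 3 n207037 = n129847 := d6_1 D207037 (iv5 D129847) (iv3 F208189)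
theorem F443063 : act 6 n207037 = n129839 := d12_2 D129836 D207037 (iv5 D129839) (iv6 D60985) D60984
theorem F443064 : act 4 n205742 = n207037 := d10_3 F443063 (iv4 F345894) (iv6 F437655)
theorem F443065 : act 7 n206836 = n207037 := d14_0 F443063 (iv7 F414951) (iv6 F414952) F211737 D206836
theorem F443066 : act 0 n207037 = n205609 := d21_4 F437645 (iv1 D129838) D129839 (iv6 F443063) (iv6 D205609) (iv5 F380832) F212217 (iv5 D126566) D126567 D205739
theorem F443067 : act 1 n207037 = n206841 := d15_0 (iv0 D206841) (iv7 F441910) (iv2 F443061)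
theorem F443068 : act 7 n206841 = n205715 := d15_2 (iv0 F443066) F443067 F437543
theorem F443069 : act 4 n206841 = n148762 := d18_7 (iv1 F437808) F437809 (iv1 D135222) (iv4 F203556) D205742 F443064 F443067 (iv0 D148762) D148765
def n207038 : Q := act 7 n129836
theorem D207038 : act 7 n129836 = n207038 := rfl
theorem F443070 : act 2 n207038 = n206842 := d4_1 D207038 F443036 F443032
theorem F443071 : act 3 n207038 = n129848 := d8_1 D207038 (iv7 D129848) (iv3 F208189)
theorem F443072 : act 5 n207038 = n206836 := d13_1 D207038 F443065 (iv5 D207037)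
theorem F443073 : act 1 n206842 = n207035 := d15_0 (iv0 D207035) D207038 F443070
def n207039 : Q := act 3 n129837
theorem D207039 : act 3 n129837 = n207039 := rfl
theorem F443074 : act 4 n207039 = n198938 := d5_2 (iv4 F351694) D207039 F409983 (iv4 F203971) (iv3 F351685)
theorem F443075 : act 6 n207039 = n198937 := d7_2 F438366 D207039 (iv3 F438365)
theorem F443076 : act 7 n207039 = n206976 := d8_2 (iv7 F414944) D207039 F442807
def n207040 : Q := act 3 n129838
theorem D207040 : act 3 n129838 = n207040 := rfl
theorem F443077 : act 4 n207040 = n185884 := d5_2 F351693 D207040 F288366 (iv4 F323385) (iv3 F351681)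
theorem F443078 : act 6 n207040 = n185883 := d7_2 F442755 D207040 F442759
def n207041 : Q := act 0 n129839
theorem D207041 : act 0 n129839 = n207041 := rfl
theorem F443079 : act 5 n207041 = n205461 := d17_1 D207041 (iv1 F436545) (iv5 F361171) (iv4 D132256) (iv5 D62045) D62044 D132252 F211893 F345894
theorem F443080 : act 4 n207041 = n132263 := d18_3 F211892 F345894 D207041 (iv5 D132263) (iv4 D62052) F96617 (iv4 F211753) F211756 D132250
theorem F443081 : act 1 n132181 = n207041 := d15_0 (iv0 D207041) (iv7 F414951) F414949
theorem F443082 : act 2 n206732 = n207041 := d1_3 F443080 (iv2 F414965) (iv4 F441996)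
theorem F443083 : act 7 n206730 = n207041 := d11_0 F443080 (iv7 F414977) (iv4 F441992)
def n207042 : Q := act 1 n129839
theorem D207042 : act 1 n129839 = n207042 := rfl
theorem F443084 : act 1 n207042 = n132181 := d15_1 D207042 (iv7 F345892) (iv2 F345895)
theorem F443085 : act 7 n207042 = n206732 := d15_2 (iv0 D207041) D207042 F443082
theorem F443086 : act 5 n207042 = n205462 := d17_7 (iv1 F327234) (iv5 D121789) (iv1 F327262) (iv5 F323390) (iv4 F95532) D129839 D207042 F436548 F207387
theorem F443087 : act 4 n207042 = n132260 := d17_9 F211903 (iv5 D126589) (iv1 F203574) D205749 F437692 F437648 (iv0 D129837) D129839 D207042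
theorem F443088 : act 2 n206730 = n207042 := d1_3 F443087 (iv2 F414976) (iv4 F441992)
theorem F443089 : act 6 n207042 = n132250 := d3_2 (iv6 F441991) F443088 F212996
def n207043 : Q := act 2 n129841
theorem D207043 : act 2 n129841 = n207043 := rfl
theorem F443090 : act 3 n207043 = n179862 := d0_2 D129841 D207043 F355285 F207623 F95534
theorem F443091 : act 4 n207043 = n179864 := d1_2 (iv4 F364006) D207043 (iv2 F364125)
theorem F443092 : act 5 n207043 = n132218 := d2_2 (iv5 F208193) D207043 (iv2 D132218)
theorem F443093 : act 6 n207043 = n199470 := d3_2 F364005 D207043 F412315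
theorem F443094 : act 7 n207043 = n204634 := d4_2 (iv7 F208194) D207043 F433084
theorem F443095 : act 1 n207043 = n206882 := d15_0 (iv0 D206882) (iv7 F208194) D207043
theorem F443096 : act 1 n206883 = n207043 := d15_0 F443095 F442508 F442504
def n207044 : Q := act 0 n129842
theorem D207044 : act 0 n129842 = n207044 := rfl
theorem F443097 : act 4 n207044 = n192998 := d18_3 F345097 F338254 D207044 (iv5 F402166) (iv4 D196886) (iv0 D107426) (iv4 F84350) D115939 F345100
theorem F443098 : act 6 n207044 = n192997 := d21_5 (iv5 D29377) D29374 (iv5 F95533) D129842 D207044 F388473 (iv1 D115094) D115095 F179228 F83832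
theorem F443099 : act 1 n199062 = n207044 := d15_0 (iv0 D207044) F364004 (iv2 F410512)
theorem F443100 : act 2 n199066 = n207044 := d3_3 F443098 (iv2 F443003) (iv6 F443008)
theorem F443101 : act 7 n193048 = n207044 := d14_0 F443098 (iv7 D192997) F155750 D101117 D193048
def n207045 : Q := act 1 n129842
theorem D207045 : act 1 n129842 = n207045 := rfl
theorem F443102 : act 1 n207045 = n199062 := d15_1 D207045 F410513 (iv2 F208195)
theorem F443103 : act 7 n207045 = n199066 := d15_2 (iv0 D207044) D207045 F443100
theorem F443104 : act 5 n207045 = n200974 := d17_7 F330976 (iv5 F330978) (iv1 F171405) (iv5 F220119) (iv4 F442803) F442804 D207045 (iv0 F418583) (iv4 D136857)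
theorem F443105 : act 4 n207045 = n192974 := d18_7 (iv1 F181243) (iv4 D111056) (iv1 F181241) (iv4 F80661) (iv5 F171813) F338254 D207045 (iv0 F425026) (iv5 D202673)
theorem F443106 : act 3 n148132 = n207045 := d20_3 F204706 F184295 D148132 (iv1 D207045) F364003 (iv4 D111349) D111347 D199472 F412316 (iv1 F231952)
theorem F443107 : act 2 n193048 = n207045 := d1_3 F443105 F388397 (iv4 F388584)
theorem F443108 : act 6 n192973 = n207045 := d10_0 F443105 (iv6 D192974) (iv4 F388394)
def n207046 : Q := act 6 n129843
theorem D207046 : act 6 n129843 = n207046 := rfl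
theorem F443109 : act 2 n207046 = n204635 := d3_1 D207046 (iv6 D204635) (iv2 F355290)
theorem F443110 : act 3 n207046 = n129844 := d7_1 D207046 (iv6 D129844) D129843
theorem F443111 : act 4 n207046 = n204632 := d10_1 D207046 (iv6 D204632) F335149
def n207047 : Q := act 0 n129844
theorem D207047 : act 0 n129844 = n207047 := rfl
def n207048 : Q := act 1 n129844
theorem D207048 : act 1 n129844 = n207048 := rfl
theorem F443112 : act 1 n207048 = n199069 := d15_1 D207048 F410531 (iv2 F208198)
def n207049 : Q := act 5 n129844
theorem D207049 : act 5 n129844 = n207049 := rfl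
theorem F443113 : act 2 n207049 = n206889 := d2_1 D207049 (iv5 D206889) (iv2 F208198)
theorem F443114 : act 6 n207049 = n132225 := d12_2 D129844 D207049 (iv5 D132225) (iv6 D62034) (iv5 F95537)
theorem F443115 : act 4 n137786 = n207049 := d16_0 (iv5 D207049) (iv4 F214695) F357697 F229155 (iv5 F205733) (iv4 F311798) (iv5 F154527) (iv7 F367702) F367703
def n207050 : Q := act 7 n129844
theorem D207050 : act 7 n129844 = n207050 := rfl
theorem F443116 : act 2 n207050 = n199069 := d4_1 D207050 F410531 (iv2 F208198)
theorem F443117 : act 4 n207050 = n199063 := d11_1 D207050 F410516 F214695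
theorem F443118 : act 6 n207050 = n199062 := d14_1 D207050 F410513 (iv6 D129456) (iv7 F95536) D129844
theorem F443119 : act 1 n199069 = n207047 := d15_0 (iv0 D207047) D207050 F443116
theorem F443120 : act 1 n206888 = n207050 := d15_1 D206888 (iv7 D207050) F208198
theorem F443121 : act 1 n207050 = n206887 := d15_0 (iv0 D206887) (iv7 F410531) (iv2 F443116)
def n207051 : Q := act 3 n129845
theorem D207051 : act 3 n129845 = n207051 := rfl
theorem F443122 : act 2 n207051 = n199067 := d0_1 D207051 (iv3 D199067) (iv2 F410512) (iv3 F442985) F442988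
theorem F443123 : act 4 n207051 = n198783 := d5_2 (iv4 F373165) D207051 F409213 F362612 F358536
theorem F443124 : act 7 n207051 = n199470 := d8_2 F442990 D207051 F442991
theorem F443125 : act 1 n199478 = n207051 := d15_1 D199478 F443124 F412315
theorem F443126 : act 6 n205108 = n207051 := d10_0 F443123 F409214 D205108
theorem F443127 : act 1 n207051 = n199477 := d15_0 (iv0 D199477) (iv7 F410524) (iv2 F443122)
def n207052 : Q := act 5 n129845
theorem D207052 : act 5 n129845 = n207052 := rfl
theorem F443128 : act 2 n207052 = n205906 := d2_1 D207052 (iv5 F442984) F442988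
theorem F443129 : act 7 n207052 = n206966 := d13_2 F442990 D207052 F442994
theorem F443130 : act 4 n207052 = n205467 := d16_4 D134741 (iv5 F358535) (iv4 F373165) D207052 F436574 F204070 (iv5 F169166) (iv7 F216765) F216763
theorem F443131 : act 0 n207052 = n205975 := d18_0 F438671 F434574 F434573 F418324 (iv4 F413434) F373167 F373163 F361181 D207052
theorem F443132 : act 6 n207052 = n200082 := d21_9 D200083 (iv1 F441994) (iv5 D206730) F365994 (iv1 D129853) (iv6 F208199) (iv5 D129847) D129845 D207052 (iv1 D200082)
theorem F443133 : act 1 n206023 = n206966 := d15_1 (iv0 F438885) (iv7 F443129) F443128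
def n207053 : Q := act 6 n129845
theorem D207053 : act 6 n129845 = n207053 := rfl
theorem F443134 : act 3 n207053 = n205108 := d7_1 D207053 F443126 (iv3 D207051)
theorem F443135 : act 4 n207053 = n204639 := d10_1 D207053 F433098 (iv4 F373165)
theorem F443136 : act 7 n207053 = n204635 := d14_2 F442990 D207053 (iv6 D204635) F355289 F442993
def n207054 : Q := act 5 n129846
theorem D207054 : act 5 n129846 = n207054 := rfl
theorem F443137 : act 2 n207054 = n206966 := d2_1 D207054 F442994 F442995
theorem F443138 : act 3 n207054 = n136949 := d6_1 D207054 F338277 (iv3 F355284)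
theorem F443139 : act 4 n207054 = n134721 := d9_1 D207054 (iv5 D134721) F98526 D63320 D134741 (iv5 F358535) (iv4 F373165) D207052 F443130 F436574 F204070 (iv5 F169166) (iv4 F407563) F407564 F366380
theorem F443140 : act 6 n207054 = n206898 := d12_2 F355283 D207054 (iv5 D206898) (iv6 D129455) D129454
theorem F443141 : act 7 n207054 = n205906 := d13_2 (iv7 F442987) D207054 (iv5 F442984)
theorem F443142 : act 1 n207054 = n205975 := d17_8 F434574 (iv5 D205006) F352296 F350845 (iv4 F361149) (iv5 D129847) D129846 D207054 F438671
def n207055 : Q := act 0 n129849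
theorem D207055 : act 0 n129849 = n207055 := rfl
theorem F443143 : act 4 n207055 = n201127 := d20_2 F332791 D207055 F419185 (iv1 F418423) F267336 F125355 F70893 (iv4 F112730) (iv3 F359001) (iv1 F359015)
theorem F443144 : act 6 n201126 = n207055 := d10_0 F443143 (iv6 D201127) D201126
def n207056 : Q := act 1 n129849
theorem D207056 : act 1 n129849 = n207056 := rfl
def n207057 : Q := act 2 n129849
theorem D207057 : act 2 n129849 = n207057 := rfl
theorem F443145 : act 4 n207057 = n183518 := d1_2 F332791 D207057 (iv2 F359012)
def n207058 : Q := act 6 n129849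
theorem D207058 : act 6 n129849 = n207058 := rfl
theorem F443146 : act 3 n207058 = n129850 := d7_1 D207058 (iv6 D129850) D129849
theorem F443147 : act 4 n207058 = n205322 := d10_1 D207058 F435933 F332791
def n207059 : Q := act 3 n129852
theorem D207059 : act 3 n129852 = n207059 := rfl
theorem F443148 : act 5 n207059 = n205617 := d6_2 (iv5 F208200) D207059 (iv3 D205617)
theorem F443149 : act 7 n207059 = n206738 := d8_2 F208202 D207059 F442008
def n207060 : Q := act 6 n129852
theorem D207060 : act 6 n129852 = n207060 := rfl
theorem F443150 : act 2 n207060 = n206741 := d3_1 D207060 (iv6 D206741) F208201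
theorem F443151 : act 7 n207060 = n206733 := d14_2 F208202 D207060 (iv6 D206733) (iv7 F436549) (iv6 F436552)
def n207061 : Q := act 3 n129853
theorem D207061 : act 3 n129853 = n207061 := rfl
theorem F443152 : act 4 n207061 = n137582 := d5_2 F345861 D207061 (iv3 D137582) D137583 (iv3 F348611)
theorem F443153 : act 5 n207061 = n205616 := d6_2 (iv5 F208204) D207061 (iv3 D205616)
theorem F443154 : act 6 n207061 = n206729 := d7_2 F365994 D207061 (iv3 D206729)
theorem F443155 : act 7 n207061 = n206739 := d8_2 (iv7 F208203) D207061 F442009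
theorem F443156 : act 2 n207061 = n206969 := d15_3 F442781 (iv0 F442012) (iv7 F443155)
def n207062 : Q := act 3 n129857
theorem D207062 : act 3 n129857 = n207062 := rfl
theorem F443157 : act 4 n207062 = n134284 := d5_2 (iv4 F208210) D207062 F216310 F98393 (iv3 F98390)
theorem F443158 : act 7 n207062 = n134264 := d8_2 (iv7 F208212) D207062 F216288
def n207063 : Q := act 5 n129857
theorem D207063 : act 5 n129857 = n207063 := rfl
theorem F443159 : act 2 n207063 = n206749 := d2_1 D207063 F442047 F396511
theorem F443160 : act 4 n207063 = n166753 := d9_1 D207063 F262494 (iv4 D160986) F327437 F82583 D52229 (iv4 F161925) D195262 F396508 F262497 (iv4 F262442) (iv5 F327241) F170824 F167957 (iv4 F208210)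
theorem F443161 : act 7 n207063 = n134266 := d13_2 (iv7 F208212) D207063 (iv5 D134266)
theorem F443162 : act 0 n207063 = n132345 := d17_2 D129857 D207063 F362157 (iv4 D110459) (iv5 D50934) F80292 (iv5 F95523) (iv0 F95525) D60995
theorem F443163 : act 1 n207063 = n132350 := d17_6 (iv1 F99060) (iv5 F163882) (iv1 F167960) F167957 (iv4 F208210) D207063 F362156 F217881 F217879
theorem F443164 : act 6 n207063 = n132304 := d21_3 (iv5 D129859) D129857 D207063 (iv1 D132304) D132307 (iv5 F418327) F418328 D205795 F437888 F217876
theorem F443165 : act 3 n206861 = n207063 := d7_3 F443164 F214798 D206861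
theorem F443166 : act 5 n207062 = n206861 := d6_0 F443165 (iv5 D207063) D207062
theorem F443167 : act 0 n206861 = n200090 := d20_4 F334297 D166753 (iv4 F443160) (iv3 F443165) (iv3 D200090) (iv4 D112616) (iv1 F96616) (iv4 F96688) (iv3 F334298) F208164
def n207064 : Q := act 0 n129858
theorem D207064 : act 0 n129858 = n207064 := rfl
def n207065 : Q := act 2 n129858
theorem D207065 : act 2 n129858 = n207065 := rfl
theorem F443168 : act 4 n207065 = n196026 := d1_2 F218303 D207065 F399107
theorem F443169 : act 5 n205672 = n207065 := d16_3 (iv4 F417589) F417590 (iv4 F437416) F443168 (iv5 D196026) F362862 (iv5 F381037) (iv7 F400114) F400113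
def n207066 : Q := act 5 n129858
theorem D207066 : act 5 n129858 = n207066 := rfl
theorem F443170 : act 2 n207066 = n205672 := d2_1 D207066 F443169 (iv2 D207065)
theorem F443171 : act 3 n207066 = n129859 := d6_1 D207066 (iv5 D129859) D129858
theorem F443172 : act 7 n207066 = n205671 := d13_2 (iv7 F442833) D207066 F442834
theorem F443173 : act 4 n207066 = n198932 := d16_2 F218303 D207066 F409954 F400116 (iv5 D196267) F365956 D196214 F399926 F399107
theorem F443174 : act 0 n207066 = n205670 := d17_2 (iv1 F396523) D207066 F437415 F233568 F114504 D107577 D197057 (iv0 F402849) (iv4 F396522)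
theorem F443175 : act 0 n205673 = n207066 := d19_0 (iv5 D207066) (iv4 F218303) (iv3 D135762) (iv1 F99238) (iv5 F333561) F215050 F97856 D62734 D133659 (iv4 F362868) F362865 F332826 F332827 F201894 F172573 F172577 F161105 (iv4 F203421) (iv3 F437418)
theorem F443176 : act 6 n198931 = n207066 := d21_3 D200961 F418514 F410715 F443174 (iv6 D205670) F333202 (iv1 F333198) D132380 F418511 (iv1 D200960)
def n207067 : Q := act 6 n129858
theorem D207067 : act 6 n129858 = n207067 := rfl
theorem F443177 : act 3 n207067 = n129860 := d7_1 D207067 (iv6 D129860) D129858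
theorem F443178 : act 4 n207067 = n195631 := d10_1 D207067 F397672 F218303
theorem F443179 : act 0 n146179 = n207067 := d21_4 (iv5 F106099) (iv1 F176967) F176965 D146179 (iv6 D207067) D207066 F443174 F437415 (iv6 D148767) (iv1 F106092)
theorem F443180 : act 1 n200912 = n207067 := d18_6 D127808 (iv4 F400769) F411079 F411075 (iv5 F418713) F418712 F443178 (iv0 D195631) F163133
def n207068 : Q := act 6 n129859
theorem D207068 : act 6 n129859 = n207068 := rfl
theorem F443181 : act 2 n207068 = n132600 := d3_1 D207068 F443002 F442996
theorem F443182 : act 3 n207068 = n198931 := d7_1 D207068 F443176 F443171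
theorem F443183 : act 4 n207068 = n132594 := d10_1 D207068 F348905 (iv4 F334312)
theorem F443184 : act 7 n132605 = n207068 := d11_0 F443183 F348904 D132605
def n207069 : Q := act 5 n129860
theorem D207069 : act 5 n129860 = n207069 := rfl
theorem F443185 : act 2 n207069 = n197712 := d2_1 D207069 (iv5 F438661) F438660
theorem F443186 : act 4 n207069 = n197710 := d9_1 D207069 (iv5 D197710) F341849 (iv5 F402993) (iv4 D197086) F166229 (iv4 F207866) (iv5 F362477) (iv4 D108868) (iv5 D50269) (iv4 F79627) D108832 (iv4 F344735) (iv5 F166233) (iv4 F208213)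
theorem F443187 : act 7 n207069 = n198013 := d13_2 F437343 D207069 (iv5 F437342)
theorem F443188 : act 0 n207069 = n134161 := d17_2 F401490 D207069 (iv5 D134161) F98336 (iv5 F97563) D133326 (iv5 F326874) F326872 D196687
theorem F443189 : act 1 n207069 = n198019 := d17_6 (iv1 F95308) (iv5 F85109) (iv1 F166232) (iv5 F166233) (iv4 F208213) D207069 F406529 F207355 F207354
theorem F443190 : act 3 n207036 = n201762 := d20_5 F443186 F405472 F402874 (iv3 F442370) (iv1 F443060) F421718 (iv1 F206694) (iv4 F421942) F421941 (iv1 F443189)
def n207070 : Q := act 5 n129866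
theorem D207070 : act 5 n129866 = n207070 := rfl
theorem F443191 : act 2 n207070 = n206936 := d2_1 D207070 F442653 (iv2 F213174)
theorem F443192 : act 3 n207070 = n196256 := d6_1 D207070 (iv5 D196256) F208217
theorem F443193 : act 7 n207070 = n132987 := d13_2 (iv7 F213175) D207070 (iv5 D132987)
theorem F443194 : act 0 n207070 = n132318 := d17_2 D129866 D207070 (iv5 D132318) (iv4 D62077) (iv5 F209645) F96970 (iv5 D62212) F47191 D61002
theorem F443195 : act 1 n207070 = n132306 := d17_6 (iv1 D133244) (iv5 F208665) F213498 (iv5 D132906) F213160 D207070 (iv5 D132306) D132304 F214797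
def n207071 : Q := act 6 n129866
theorem D207071 : act 6 n129866 = n207071 := rfl
theorem F443196 : act 3 n207071 = n196257 := d7_1 D207071 (iv6 D196257) F208217
theorem F443197 : act 4 n207071 = n132907 := d10_1 D207071 (iv6 D132907) F213160
theorem F443198 : act 0 n207071 = n207068 := d21_4 D132306 (iv1 F443195) (iv5 D207070) D207071 (iv6 D207068) (iv5 D129859) D129857 D207063 F443164 (iv1 D132304)
theorem F443199 : act 5 n201644 = n207071 := d6_0 F443196 (iv5 F400081) D201644
def n207072 : Q := act 6 n129867
theorem D207072 : act 6 n129867 = n207072 := rfl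
theorem F443200 : act 2 n207072 = n132988 := d3_1 D207072 (iv6 D132988) F213176
theorem F443201 : act 3 n207072 = n191602 := d7_1 D207072 F383948 (iv3 F213181)
theorem F443202 : act 4 n207072 = n132985 := d10_1 D207072 (iv6 D132985) (iv4 F213178)
theorem F443203 : act 5 n205674 = n207072 := d16_1 D205674 F443202 F351655 F175202 F172586 (iv4 F203625) (iv5 F437379) (iv7 F437380) F203623
theorem F443204 : act 0 n129912 = n207072 := d18_2 F326074 D129912 F443202 F351655 F175202 F172589 F327231 (iv0 F327232) D112545
theorem F443205 : act 1 n129907 = n207072 := d18_6 F168983 F168982 F168426 (iv4 F322461) F359736 D129907 F443202 (iv0 F351656) (iv5 D126018)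
def n207073 : Q := act 5 n129877
theorem D207073 : act 5 n129877 = n207073 := rfl
def n207074 : Q := act 0 n129907
theorem D207074 : act 0 n129907 = n207074 := rfl
theorem F443206 : act 4 n207074 = n132994 := d18_3 D61016 D129907 D207074 F351659 F161102 D105183 F327265 (iv0 D79268) (iv5 F323390)
theorem F443207 : act 1 n129912 = n207074 := d15_0 (iv0 D207074) (iv7 F414930) F414928
theorem F443208 : act 7 n207074 = n132988 := d15_2 (iv0 F443204) F443207 (iv2 F443200)
def n207075 : Q := act 5 n129907
theorem D207075 : act 5 n129907 = n207075 := rfl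
theorem F443209 : act 3 n207075 = n191632 := d6_1 D207075 F439232 F439230
theorem F443210 : act 4 n207075 = n205744 := d16_2 D129907 D207075 (iv5 D205744) F203557 F98451 D112264 F332142 (iv7 F359738) F359737
theorem F443211 : act 0 n207075 = n205682 := d17_2 (iv1 F443205) D207075 (iv5 F442237) F442232 (iv5 D197065) F172748 D126021 F351657 (iv4 F443202)
def n207076 : Q := act 3 n129912
theorem D207076 : act 3 n129912 = n207076 := rfl
theorem F443212 : act 4 n207076 = n206668 := d5_2 D129912 D207076 F441810 (iv4 F364577) (iv3 D129911)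
theorem F443213 : act 6 n207076 = n205755 := d7_2 F442890 D207076 (iv3 F442889)
def n207077 : Q := act 5 n129912
theorem D207077 : act 5 n129912 = n207077 := rfl
theorem F443214 : act 4 n207077 = n205747 := d9_1 D207077 (iv5 D205747) F203563 (iv5 F168425) (iv4 F322461) F359736 D129907 D207075 F443210 (iv5 D205744) F203557 F98451 D112264 F332142 D129912
theorem F443215 : act 1 n207077 = n205682 := d17_6 (iv1 F324939) (iv5 D125998) F174616 F332142 D129912 D207077 (iv5 F442237) (iv0 D206799) (iv4 D129346)
def n207078 : Q := act 5 n129991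
theorem D207078 : act 5 n129991 = n207078 := rfl
theorem F443216 : act 2 n207078 = n135294 := d2_1 D207078 (iv5 D135294) (iv2 F208412)
theorem F443217 : act 6 n207078 = n142607 := d12_2 (iv6 F359672) D207078 (iv5 D142607) (iv6 F320616) F359671
theorem F443218 : act 7 n207078 = n135292 := d13_2 F208415 D207078 (iv5 D135292)
theorem F443219 : act 1 n207078 = n189153 := d17_6 (iv1 F214804) F211042 F315459 (iv5 F316616) D129991 D207078 F375875 (iv0 F217158) F217155
def n207079 : Q := act 5 n130043
theorem D207079 : act 5 n130043 = n207079 := rfl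
theorem F443220 : act 3 n207079 = n130045 := d6_1 D207079 (iv5 D130045) D130043
theorem F443221 : act 6 n207079 = n178363 := d12_2 (iv6 F351692) D207079 F407055 (iv6 D198163) F351677
theorem F443222 : act 0 n175279 = n207079 := d19_0 (iv5 D207079) (iv4 F442754) (iv3 F442759) (iv1 F371083) F442727 F442726 F418155 F436039 (iv5 D204883) (iv4 F299822) (iv3 D80611) F57698 F318675 F46590 (iv3 F46800) D61533 (iv5 F315547) D203147 (iv3 F427166)
def n207080 : Q := act 1 n130060
theorem D207080 : act 1 n130060 = n207080 := rfl
theorem F443223 : act 1 n207080 = n153243 := d15_1 D207080 (iv7 F240699) F310058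
theorem F443224 : act 7 n207080 = n173413 := d15_2 (iv0 F332349) D207080 F271882
theorem F443225 : act 4 n207080 = n191530 := d17_9 (iv1 F383674) F348693 (iv1 F240582) F356984 (iv4 F403068) (iv5 D197106) D197105 F403065 D207080
theorem F443226 : act 5 n207080 = n189191 := d18_9 (iv1 F376018) F358787 (iv1 D174457) (iv4 D83385) (iv5 D38412) (iv4 F59246) D83316 (iv4 F307619) D207080
theorem F443227 : act 3 n204863 = n207080 := d20_3 (iv4 F118459) D124536 D204863 (iv1 D207080) F208505 F95590 F303945 F57796 (iv3 F116570) F252830
theorem F443228 : act 2 n173417 = n207080 := d2_3 F443226 F376016 F354055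
def n207081 : Q := act 6 n130071
theorem D207081 : act 6 n130071 = n207081 := rfl
theorem F443229 : act 2 n207081 = n203629 := d3_1 D207081 F429129 (iv2 F213595)
theorem F443230 : act 3 n207081 = n130073 := d7_1 D207081 (iv6 D130073) D130071
theorem F443231 : act 4 n207081 = n174281 := d10_1 D207081 F345658 (iv4 F311076)
theorem F443232 : act 5 n207081 = n194296 := d12_1 D207081 F392721 (iv5 F361780) F361775 (iv5 F347353)
theorem F443233 : act 7 n207081 = n167007 := d14_2 (iv7 F308030) D207081 (iv6 D167007) F123116 D83314
theorem F443234 : act 0 n207081 = n172024 := d21_4 (iv5 F349801) (iv1 F347358) (iv5 F347353) D207081 F362755 F151368 F206181 F206179 D153251 (iv1 F349803)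
theorem F443235 : act 0 n206286 = n207081 := d21_4 F97304 D130329 (iv5 F440113) (iv6 F440115) (iv6 D207081) F347353 F347355 (iv5 F387366) (iv6 F387369) F333400
def n207082 : Q := act 6 n130099
theorem D207082 : act 6 n130099 = n207082 := rfl
theorem F443236 : act 3 n207082 = n195161 := d7_1 D207082 F396032 F218431
theorem F443237 : act 4 n207082 = n135274 := d10_1 D207082 (iv6 D135274) (iv4 F208578)
theorem F443238 : act 5 n207082 = n188910 := d12_1 D207082 (iv6 D188910) D188909 (iv6 F375171) F374953
theorem F443239 : act 7 n207082 = n206030 := d14_2 F208579 D207082 F438914 F351701 (iv6 D135346)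
theorem F443240 : act 0 n159575 = n207082 := d21_4 F139401 F82963 D76344 D159575 (iv6 D207082) (iv5 F374953) (iv1 F374956) (iv5 D133260) (iv6 F319944) (iv1 F143124)
theorem F443241 : act 1 n185907 = n207082 := d15_0 (iv0 F443240) (iv7 F363185) F342155
def n207083 : Q := act 5 n130104
theorem D207083 : act 5 n130104 = n207083 := rfl
theorem F443242 : act 2 n207083 = n204936 := d2_1 D207083 F434253 F213236
theorem F443243 : act 3 n207083 = n199789 := d6_1 D207083 (iv5 F429785) F429787
theorem F443244 : act 6 n207083 = n199787 := d12_2 F357456 D207083 F413507 (iv6 F431698) F431697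
theorem F443245 : act 7 n207083 = n204629 := d13_2 F213211 D207083 F433062
theorem F443246 : act 0 n207083 = n204935 := d17_2 (iv1 F315087) D207083 (iv5 D204935) F354629 (iv5 D135273) F207246 (iv5 F212575) F217637 F311279
theorem F443247 : act 1 n207083 = n184053 := d17_6 (iv1 D61100) (iv5 D28951) D28947 D61085 D130104 D207083 F366801 F357809 (iv4 D130149)
def n207084 : Q := act 4 n130124
theorem D207084 : act 4 n130124 = n207084 := rfl
theorem F443248 : act 2 n207084 = n130137 := d1_1 D207084 (iv4 D130137) (iv2 F208634)
theorem F443249 : act 0 n207084 = n187774 := d17_0 (iv5 F432852) (iv1 D204555) F358065 (iv4 D130936) (iv5 D61432) D61430 (iv5 F97448) F209526 D207084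
theorem F443250 : act 1 n207084 = n195130 := d18_6 (iv1 D132755) (iv4 D62307) (iv1 F47273) D61092 D130124 D207084 F395889 F371456 F371454
theorem F443251 : act 3 n207084 = n206473 := d20_3 F217096 (iv1 F209531) D207084 (iv1 F440996) F217056 F209283 (iv1 F95827) D129281 D206773 F442134
def n207085 : Q := act 6 n130124
theorem D207085 : act 6 n130124 = n207085 := rfl
theorem F443252 : act 2 n207085 = n130138 := d3_1 D207085 (iv6 D130138) (iv2 F208634)
theorem F443253 : act 0 n207085 = n133219 := d21_10 (iv5 F367058) F365434 (iv5 F371154) F371155 (iv1 F217439) F217437 F203340 (iv1 F97175) D130124 D207085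
def n207086 : Q := act 5 n130125
theorem D207086 : act 5 n130125 = n207086 := rfl
theorem F443254 : act 2 n207086 = n130141 := d2_1 D207086 (iv5 D130141) (iv2 F208635)
theorem F443255 : act 7 n207086 = n186256 := d13_2 F377689 D207086 F377691
def n207087 : Q := act 1 n130137
theorem D207087 : act 1 n130137 = n207087 := rfl
theorem F443256 : act 7 n207087 = n187774 := d15_2 (iv0 F374952) D207087 (iv2 F374950)
theorem F443257 : act 4 n207087 = n133260 := d18_7 (iv1 F208580) (iv4 D61089) (iv1 D28948) D28950 D61097 D130137 D207087 F374956 F374953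
theorem F443258 : act 2 n195130 = n207087 := d1_3 F443257 (iv2 F321199) (iv4 F395889)
theorem F443259 : act 3 n197513 = n207087 := d5_5 F443257 F319940 F339422 (iv3 F355292) (iv4 F404646)
theorem F443260 : act 6 n137943 = n207087 := d10_0 F443257 F319941 (iv4 F221204)
def n207088 : Q := act 6 n130137
theorem D207088 : act 6 n130137 = n207088 := rfl
theorem F443261 : act 4 n207088 = n130138 := d10_1 D207088 (iv6 D130138) D130137
theorem F443262 : act 5 n207088 = n189086 := d21_6 (iv5 F408433) F408436 (iv5 F221203) F443260 (iv1 D207087) D207088 (iv1 F375693) F367900 (iv6 D113920) D113917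
theorem F443263 : act 1 n189894 = n207088 := d17_6 D93212 (iv5 F357537) (iv1 F139088) D91094 D188214 (iv5 F378146) F443262 (iv0 D189086) (iv4 D93214)
theorem F443264 : act 3 n207088 = n191588 := d20_3 (iv4 F217932) F419536 (iv4 F443261) (iv1 D191588) F151970 (iv4 F151974) F354675 F345231 D190541 F380035
theorem F443265 : act 4 n191588 = n205629 := d5_2 (iv4 F443261) F443264 F437275 F203364 (iv3 F208658)
theorem F443266 : act 6 n191588 = n205628 := d7_2 D207088 F443264 F437274
def n207089 : Q := act 0 n130138
theorem D207089 : act 0 n130138 = n207089 := rfl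
theorem F443267 : act 5 n207089 = n186408 := d21_0 (iv1 F289191) (iv5 F374711) F374712 (iv1 D135245) F98898 (iv5 F95611) (iv1 D61096) D61097 D130138 D207089
theorem F443268 : act 2 n133219 = n207089 := d15_3 (iv0 D207089) (iv0 F419536) F217933
def n207090 : Q := act 5 n130138
theorem D207090 : act 5 n130138 = n207090 := rfl
theorem F443269 : act 3 n207090 = n134496 := d6_1 D207090 (iv5 D134496) (iv3 F208658)
theorem F443270 : act 6 n207090 = n130141 := d12_2 D130138 D207090 (iv5 D130141) (iv6 D61098) D61097
theorem F443271 : act 4 n207090 = n189082 := d16_4 (iv4 F375692) (iv5 F443262) F443261 D207090 F375678 (iv4 F283173) (iv5 F367098) (iv7 F372555) F372553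
theorem F443272 : act 7 n207090 = n186261 := d16_8 (iv4 D190531) (iv5 D96130) (iv4 F134774) (iv5 F283446) (iv4 F375692) (iv5 F443262) F443261 D207090 (iv2 F380005)
theorem F443273 : act 0 n207090 = n130598 := d21_1 D207090 (iv5 F233576) (iv6 D148776) (iv1 F139179) D187654 F371116 D201228 F419533 F374747 F419536
def n207091 : Q := act 7 n130138
theorem D207091 : act 7 n130138 = n207091 := rfl
theorem F443274 : act 3 n207091 = n134497 := d8_1 D207091 (iv7 D134497) (iv3 F208658)
theorem F443275 : act 5 n207091 = n186261 := d13_1 D207091 (iv7 F443272) (iv5 D207090)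
theorem F443276 : act 0 n133219 = n207091 := d17_2 (iv1 F365435) F367058 F443275 (iv4 F352841) (iv5 F352885) F283182 (iv5 F356265) (iv0 D96113) (iv4 F329425)
def n207092 : Q := act 0 n130141
theorem D207092 : act 0 n130141 = n207092 := rfl
theorem F443277 : act 5 n207092 = n195676 := d17_3 F354338 D130141 D207092 F397817 (iv5 F365185) F362640 (iv5 D135352) D135351 F366462
theorem F443278 : act 6 n207092 = n144149 := d21_5 (iv5 F367060) F419536 D207090 F443270 D207092 (iv5 F340910) F340908 F343308 F291599 (iv1 F289186)
theorem F443279 : act 3 n195679 = n207092 := d7_3 F443278 (iv3 F331468) (iv6 F397829)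
theorem F443280 : act 4 n144150 = n207092 := d10_3 F443278 (iv4 D144149) D144150
theorem F443281 : act 0 n207092 = n186256 := d21_10 F377691 (iv1 D189771) (iv5 D94455) (iv6 D44144) F290718 D88691 F322607 (iv1 F340909) F340910 (iv6 F443278)
def n207093 : Q := act 1 n130141
theorem D207093 : act 1 n130141 = n207093 := rfl
theorem F443282 : act 1 n207093 = n186256 := d15_1 D207093 (iv7 F443255) F443254
theorem F443283 : act 5 n207093 = n200966 := d17_7 D130808 F334621 (iv1 F336082) (iv5 D61105) (iv4 F95614) D130141 D207093 F418535 F209257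
theorem F443284 : act 6 n186249 = n207093 := d21_5 F82487 F52367 D71653 D151975 (iv1 F367236) F443283 (iv1 D200966) F369274 (iv6 F369273) (iv1 F176060)
def n207094 : Q := act 4 n130141
theorem D207094 : act 4 n130141 = n207094 := rfl
theorem F443285 : act 3 n207094 = n133656 := d5_1 D207094 F215067 (iv3 F215054) F333564 (iv3 F208659)
theorem F443286 : act 6 n207094 = n189082 := d10_2 F443270 D207094 (iv4 F443271)
theorem F443287 : act 5 n207094 = n174711 := d16_1 D207094 F433369 (iv5 D204711) (iv4 F336085) F336086 (iv4 F377690) (iv5 F377691) (iv7 F443255) F443254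
theorem F443288 : act 7 n133652 = n207094 := d14_0 F443286 F375677 (iv6 D131140) (iv7 F97861) D133652
def n207095 : Q := act 7 n130141
theorem D207095 : act 7 n130141 = n207095 := rfl
theorem F443289 : act 2 n207095 = n186256 := d4_1 D207095 (iv7 F443255) F443254
theorem F443290 : act 3 n207095 = n133643 := d8_1 D207095 F333562 (iv3 F208659)
theorem F443291 : act 4 n207095 = n133652 := d11_1 D207095 F443288 (iv4 D207094)
theorem F443292 : act 5 n207095 = n130142 := d13_1 D207095 (iv7 D130142) D130141
theorem F443293 : act 6 n207095 = n133641 := d14_1 D207095 F352836 D186261 (iv7 F443272) F443270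
def n207096 : Q := act 5 n130149
theorem D207096 : act 5 n130149 = n207096 := rfl
theorem F443294 : act 2 n207096 = n204626 := d2_1 D207096 (iv5 D204626) F314446
theorem F443295 : act 3 n207096 = n192656 := d6_1 D207096 F387379 (iv3 F337625)
theorem F443296 : act 7 n207096 = n204910 := d13_2 F312102 D207096 (iv5 D204910)
theorem F443297 : act 0 n207096 = n194711 := d17_2 F357808 D207096 (iv5 D194711) (iv4 F311929) F239237 F209544 (iv5 F357922) (iv0 F354627) (iv4 F354629)
theorem F443298 : act 1 n207096 = n189089 := d17_6 F314206 (iv5 F315091) (iv1 F47419) F97469 D130149 D207096 (iv5 F375708) F338853 (iv4 D132759)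
theorem F443299 : act 6 n201554 = n207096 := d7_0 F443295 (iv6 F420935) D201554
def n207097 : Q := act 4 n130155
theorem D207097 : act 4 n130155 = n207097 := rfl
theorem F443300 : act 2 n207097 = n174814 := d1_1 D207097 F273694 (iv2 F333765)
theorem F443301 : act 3 n207097 = n203142 := d5_1 D207097 (iv4 D203142) F184486 D148275 (iv3 F333766)
theorem F443302 : act 6 n207097 = n174764 := d10_2 (iv6 F333768) D207097 (iv4 D174764)
theorem F443303 : act 7 n207097 = n204253 := d11_2 (iv7 F344934) D207097 F431689
theorem F443304 : act 0 n204929 = n207097 := d20_10 (iv4 D207097) F333764 (iv4 F355381) F355380 (iv1 F123545) (iv3 F190623) F109491 (iv1 F190866) (iv4 F199661) (iv3 F434221)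
theorem F443305 : act 5 n204112 = n207097 := d6_0 F443301 F427136 D204112
theorem F443306 : act 0 n153362 = n204112 := d17_2 F304714 D153362 F443305 (iv4 D207097) F333767 (iv0 D86086) D86089 (iv0 F320008) D98235
theorem F443307 : act 1 n191721 = n204112 := d17_6 (iv1 F430033) (iv5 F355392) (iv1 F434742) F434738 F384258 D191721 F443305 (iv0 F443304) F434222
def n207098 : Q := act 4 n130156
theorem D207098 : act 4 n130156 = n207098 := rfl
theorem F443308 : act 2 n207098 = n204253 := d1_1 D207098 F431689 (iv2 F344929)
theorem F443309 : act 3 n207098 = n205054 := d5_1 D207098 (iv4 D205054) F201629 D180290 (iv3 F344930)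
theorem F443310 : act 6 n207098 = n204251 := d10_2 (iv6 F344932) D207098 F431677
theorem F443311 : act 7 n207098 = n174814 := d11_2 (iv7 F344933) D207098 F273694
theorem F443312 : act 0 n207098 = n204929 := d20_1 D207098 F434222 F430031 (iv1 F206394) (iv3 D80519) (iv4 D36733) D36731 (iv4 F300840) (iv3 F127985) (iv1 F344928)
def n207099 : Q := act 5 n130197
theorem D207099 : act 5 n130197 = n207099 := rfl
theorem F443313 : act 2 n207099 = n130229 := d2_1 D207099 (iv5 D130229) (iv2 F208709)
theorem F443314 : act 4 n207099 = n205033 := d9_1 D207099 (iv5 D205033) (iv4 D125181) F302474 (iv4 F58743) D82504 (iv4 F316696) (iv5 F441192) (iv4 F441611) F441610 F314352 F313025 F215577 F212279 F208708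
theorem F443315 : act 6 n207099 = n197838 := d12_2 F354047 D207099 (iv5 F405968) (iv6 F429317) F429316
theorem F443316 : act 7 n207099 = n130227 := d13_2 (iv7 F208710) D207099 (iv5 D130227)
def n207100 : Q := act 0 n130212
theorem D207100 : act 0 n130212 = n207100 := rfl
theorem F443317 : act 4 n207100 = n194778 := d20_0 (iv1 F394430) F216531 (iv3 F216515) (iv1 F439117) (iv3 D129729) D129730 F442879 F442875 F366568 D207100
theorem F443318 : act 5 n207100 = n206192 := d21_0 F439654 F438233 F438232 (iv1 D164290) F313067 F310830 (iv1 F310828) (iv5 D130211) D130212 D207100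
theorem F443319 : act 2 n130221 = n207100 := d15_3 (iv0 D207100) F394443 (iv7 F365524)
theorem F443320 : act 7 n207100 = n130222 := d4_2 (iv7 F365524) F443319 F394436
theorem F443321 : act 1 n130224 = n207100 := d15_1 (iv0 F394442) F443320 F394436
def n207101 : Q := act 5 n130212
theorem D207101 : act 5 n130212 = n207101 := rfl
theorem F443322 : act 2 n207101 = n130223 := d2_1 D207101 (iv5 D130223) (iv2 F208733)
theorem F443323 : act 3 n207101 = n175148 := d6_1 D207101 F274136 F366568
theorem F443324 : act 4 n207101 = n191325 := d9_1 D207101 (iv5 D191325) F344401 D191425 F383464 (iv5 D138172) (iv4 F333890) (iv5 F359633) F225471 F309603 (iv4 F190352) D153665 (iv4 F359637) (iv5 D134368) (iv4 F208734)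
theorem F443325 : act 6 n207101 = n175144 := d12_2 D130212 D207101 (iv5 D175144) (iv6 F319791) (iv5 D130211)
theorem F443326 : act 7 n207101 = n202721 := d16_8 F225471 F309603 (iv4 F190352) D153665 (iv4 F359637) (iv5 D134368) (iv4 F208734) D207101 F425278
theorem F443327 : act 1 n207101 = n203808 := d17_6 (iv1 D137730) D137731 F365450 (iv5 D134368) (iv4 F208734) D207101 F429905 D205965 F438628
theorem F443328 : act 0 n207101 = n149259 := d18_0 F234649 (iv1 F362054) (iv4 F346119) F216548 (iv4 F216531) F394430 (iv4 F443317) (iv0 D207100) D207101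
def n207102 : Q := act 7 n130212
theorem D207102 : act 7 n130212 = n207102 := rfl
theorem F443329 : act 2 n207102 = n130224 := d4_1 D207102 (iv7 D130224) (iv2 F208733)
theorem F443330 : act 4 n207102 = n134369 := d11_1 D207102 (iv7 D134369) (iv4 F208734)
theorem F443331 : act 5 n207102 = n202721 := d13_1 D207102 (iv7 F443326) (iv5 D207101)
theorem F443332 : act 6 n207102 = n136231 := d14_1 D207102 F359616 (iv6 F333875) F208591 D130212
theorem F443333 : act 1 n130222 = n207102 := d15_1 D130222 (iv7 D207102) F208733
theorem F443334 : act 1 n207102 = n130221 := d15_1 F443333 F365524 (iv2 F394436)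
def n207103 : Q := act 5 n130215
theorem D207103 : act 5 n130215 = n207103 := rfl
theorem F443335 : act 2 n207103 = n134368 := d2_1 D207103 (iv5 D134368) (iv2 F208739)
theorem F443336 : act 6 n207103 = n203101 := d12_2 D130215 D207103 (iv5 D203101) F352601 (iv5 D130214)
theorem F443337 : act 7 n207103 = n138172 := d13_2 (iv7 F333887) D207103 (iv5 D138172)
theorem F443338 : act 4 n207103 = n203189 := d16_2 (iv4 F208740) D207103 (iv5 D203189) (iv4 F319992) F361077 (iv4 F425279) (iv5 F443331) (iv7 D207102) F208733
theorem F443339 : act 1 n207103 = n136834 := d17_6 F347091 D205880 F438239 (iv5 D130223) (iv4 F208740) D207103 (iv5 D136834) D136833 F371528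
def n207104 : Q := act 5 n130222
theorem D207104 : act 5 n130222 = n207104 := rfl
theorem F443340 : act 6 n207104 = n146985 := d12_2 F394435 D207104 F403116 F403114 F364307
theorem F443341 : act 7 n207104 = n206192 := d13_2 F443320 D207104 (iv5 F443318)
theorem F443342 : act 1 n207104 = n142377 := d17_8 (iv1 F319987) F315551 (iv1 F319994) F340115 (iv4 F340114) (iv5 D130223) D130222 D207104 F225299
theorem F443343 : act 4 n207104 = n206188 := d18_5 F329046 (iv4 F160064) (iv1 F365593) F380791 D207104 (iv0 F439643) F424266 (iv0 F370565) (iv5 D134568)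
theorem F443344 : act 0 n207104 = n148379 := d18_0 (iv4 D148379) (iv1 D69532) D69534 (iv5 F323492) D129769 (iv0 F337778) F208740 D130222 D207104
def n207105 : Q := act 5 n130226
theorem D207105 : act 5 n130226 = n207105 := rfl
theorem F443345 : act 3 n207105 = n130227 := d6_1 D207105 (iv5 D130227) D130226
theorem F443346 : act 6 n207105 = n190652 := d12_2 (iv6 F417373) D207105 (iv5 F417377) (iv6 D200655) D200654
theorem F443347 : act 1 n207105 = n163489 := d17_6 (iv1 D136316) D136318 F441453 (iv5 D206588) (iv4 F208748) D207105 (iv5 F441095) F441701 F219384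
theorem F443348 : act 4 n207105 = n206633 := d18_5 (iv1 D60629) D60631 D128922 (iv4 F208748) D207105 (iv0 D206633) (iv4 D129046) (iv0 F396536) (iv5 D128917)
theorem F443349 : act 3 n206633 = n174275 := d19_3 F441272 D207105 F443348 (iv1 D174275) F128372 F112891 (iv3 F293788) F179059 (iv5 D114967) (iv4 F178969) F331592 F355825 (iv5 F355832) (iv4 D135705) D135704 F395887 (iv5 F437518) F437522 D206546
def n207106 : Q := act 5 n130231
theorem D207106 : act 5 n130231 = n207106 := rfl
theorem F443350 : act 4 n207106 = n206635 := d9_1 D207106 F441679 F213589 D132962 F339656 (iv5 F329957) (iv4 F207095) (iv5 F441130) F441129 (iv5 D131380) (iv4 F210564) (iv5 F417246) F417245 F368224 F208750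
theorem F443351 : act 0 n207106 = n163026 := d17_2 (iv1 F400044) D207106 F359799 F147042 (iv5 F147024) F348455 (iv5 F440764) F440768 F400043
theorem F443352 : act 1 n207106 = n163531 := d17_6 F329131 D134030 (iv1 F368222) F368224 F208750 D207106 (iv5 F380861) F380864 (iv4 F329133)
theorem F443353 : act 6 n191672 = n196247 := d21_9 D207106 F443351 F359799 (iv6 D95427) (iv1 F76349) (iv6 F332740) F152083 D191675 (iv5 F436058) (iv1 F400044)
theorem F443354 : act 6 n207106 = n163502 := d21_3 (iv5 F400041) (iv1 F400044) D207106 (iv1 D163502) (iv6 F329025) (iv5 F202387) (iv1 F416847) (iv5 F416850) D200531 (iv1 F416902)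
theorem F443355 : act 3 n196249 = n191672 := d7_3 F443353 (iv3 D196247) D196249
def n207107 : Q := act 6 n130235
theorem D207107 : act 6 n130235 = n207107 := rfl
theorem F443356 : act 2 n207107 = n191672 := d3_1 D207107 F443353 F400040
theorem F443357 : act 3 n207107 = n130245 := d7_1 D207107 (iv6 D130245) (iv3 F208753)
theorem F443358 : act 4 n207107 = n134374 := d10_1 D207107 (iv6 D134374) (iv4 F208754)
theorem F443359 : act 7 n207107 = n138155 := d14_2 D130235 D207107 F395403 (iv7 F395405) (iv6 D130234)
theorem F443360 : act 0 n207107 = n186737 := d21_4 (iv5 F378171) (iv1 F417688) F417690 D207107 (iv6 F396079) (iv5 F401312) F401314 (iv5 F220845) (iv6 F380862) (iv1 F380863)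
theorem F443361 : act 0 n191674 = n207107 := d21_4 F357318 D201683 F421359 (iv6 F389058) (iv6 D207107) (iv5 F417690) (iv1 D200732) F359779 (iv6 F359793) F242055
def n207108 : Q := act 6 n130238
theorem D207108 : act 6 n130238 = n207108 := rfl
theorem F443362 : act 2 n207108 = n199818 := d3_1 D207108 (iv6 D199818) F343586
theorem F443363 : act 3 n207108 = n178222 := d7_1 D207108 F407098 (iv3 F407101)
theorem F443364 : act 4 n207108 = n130239 := d10_1 D207108 (iv6 D130239) D130238
theorem F443365 : act 5 n207108 = n154720 := d12_1 D207108 (iv6 F350062) (iv5 D145385) (iv6 F324139) (iv5 F208785)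
theorem F443366 : act 0 n207108 = n199632 := d21_4 F167310 (iv1 F167309) (iv5 F208785) D207108 (iv6 D199632) D199631 F412921 (iv5 F413927) F413928 (iv1 D129032)
theorem F443367 : act 0 n202496 = n207108 := d21_4 D111408 D199557 F412659 (iv6 F424264) (iv6 D207108) F208785 (iv1 D74719) D74721 (iv6 F354464) (iv1 D111407)
def n207109 : Q := act 6 n130240
theorem D207109 : act 6 n130240 = n207109 := rfl
theorem F443368 : act 2 n207109 = n130304 := d3_1 D207109 (iv6 D130304) (iv2 F208756)
theorem F443369 : act 3 n207109 = n163668 := d7_1 D207109 F417694 (iv3 F417692)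
theorem F443370 : act 5 n207109 = n206555 := d21_6 D108697 D197833 F405950 D198078 (iv1 F406704) D207109 (iv1 F441314) (iv5 F418938) (iv6 F405937) (iv1 D108695)
theorem F443371 : act 0 n205530 = n207109 := d21_4 (iv5 F382529) (iv1 F382794) F382791 D205530 (iv6 D207109) F208757 (iv1 F208707) D207099 F443315 (iv1 D197838)
def n207110 : Q := act 5 n130245
theorem D207110 : act 5 n130245 = n207110 := rfl
theorem F443372 : act 2 n207110 = n130307 := d2_1 D207110 (iv5 D130307) (iv2 F208760)
theorem F443373 : act 6 n207110 = n206555 := d12_2 D130245 D207110 (iv5 F443370) (iv6 D207109) F208757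
theorem F443374 : act 7 n207110 = n206545 := d13_2 F418087 D207110 F441267
theorem F443375 : act 0 n207110 = n206574 := d17_2 (iv1 F418092) D207110 (iv5 F442250) (iv4 D206802) F366070 F351679 F348596 D206613 (iv4 F441577)
theorem F443376 : act 1 n207110 = n201118 := d15_1 (iv0 F443375) F419154 D206574
def n207111 : Q := act 6 n130289
theorem D207111 : act 6 n130289 = n207111 := rfl
theorem F443377 : act 3 n207111 = n130291 := d7_1 D207111 (iv6 D130291) D130289
theorem F443378 : act 4 n207111 = n130302 := d10_1 D207111 (iv6 D130302) (iv4 F208824)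
theorem F443379 : act 0 n191634 = n207111 := d20_1 (iv4 F383989) F443378 F208837 (iv1 F359788) F176698 F82758 D52492 D113687 F383994 (iv1 D191641)
def n207112 : Q := act 6 n130294
theorem D207112 : act 6 n130294 = n207112 := rfl
theorem F443380 : act 2 n207112 = n167837 := d3_1 D207112 F264405 (iv2 F314649)
theorem F443381 : act 3 n207112 = n149875 := d7_1 D207112 (iv6 F306258) (iv3 F314650)
theorem F443382 : act 4 n207112 = n130295 := d10_1 D207112 (iv6 D130295) D130294
theorem F443383 : act 7 n207112 = n175154 := d14_2 (iv7 F314652) D207112 (iv6 D175154) F201106 D83717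
theorem F443384 : act 0 n207112 = n175064 := d21_4 (iv5 F104601) D145912 (iv5 F314651) D207112 (iv6 D175064) D175063 F274024 F238785 (iv6 D150106) (iv1 D70636)
theorem F443385 : act 5 n207112 = n193596 := d21_6 (iv5 F278141) (iv1 D149185) (iv5 D70022) D70023 F315813 D207112 F390403 F348371 D203477 (iv1 F428466)
theorem F443386 : act 0 n175347 = n207112 := d21_4 F311610 (iv1 F357088) (iv5 F397643) F397644 (iv6 D207112) F314651 (iv1 F439899) F439896 (iv6 F234184) (iv1 F234186)
def n207113 : Q := act 0 n130304
theorem D207113 : act 0 n130304 = n207113 := rfl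
theorem F443387 : act 3 n207113 = n206428 := d20_5 F176600 F161235 (iv4 F203086) F362948 D207113 F440742 (iv1 F394893) (iv4 D128944) (iv3 F207155) (iv1 F352199)
theorem F443388 : act 7 n205530 = n207113 := d8_0 F443387 F440740 (iv3 F436858)
theorem F443389 : act 4 n204670 = n207113 := d20_8 (iv4 F377925) F377926 (iv4 F341770) F341769 F198699 D204669 F433214 D204670 F443387 (iv1 D206428)
def n207114 : Q := act 1 n130304
theorem D207114 : act 1 n130304 = n207114 := rfl
def n207115 : Q := act 5 n130304
theorem D207115 : act 5 n130304 = n207115 := rfl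
theorem F443390 : act 2 n207115 = n206555 := d2_1 D207115 (iv5 F443370) F443368
theorem F443391 : act 3 n207115 = n200097 := d6_1 D207115 F414994 F362948
theorem F443392 : act 6 n207115 = n130307 := d12_2 D130304 D207115 (iv5 D130307) (iv6 D61153) D61152
theorem F443393 : act 0 n207115 = n201060 := d21_7 D197832 F405948 (iv5 D125829) D125830 F355971 D130304 D207115 (iv5 F435656) (iv6 D205262) (iv1 F202147)
theorem F443394 : act 1 n207115 = n206556 := d15_1 (iv0 F443393) F441318 (iv2 F418939)
theorem F443395 : act 7 n207115 = n206547 := d15_2 (iv0 F418943) (iv0 F443393) F441275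
theorem F443396 : act 4 n200922 = n183135 := d16_2 (iv4 F342938) D200922 F426546 (iv4 F423991) F423992 F407706 D207115 F443395 F441275
def n207116 : Q := act 7 n130304
theorem D207116 : act 7 n130304 = n207116 := rfl
theorem F443397 : act 3 n207116 = n204876 := d8_1 D207116 F433975 F362948
theorem F443398 : act 5 n207116 = n206547 := d13_1 D207116 (iv7 F443395) (iv5 D207115)
theorem F443399 : act 6 n207116 = n166080 := d14_1 D207116 (iv7 F377766) F377765 F343566 D130304
theorem F443400 : act 1 n205530 = n207116 := d15_1 (iv0 F443371) (iv7 D207116) (iv2 F443368)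
def n207117 : Q := act 5 n130306
theorem D207117 : act 5 n130306 = n207117 := rfl
theorem F443401 : act 2 n207117 = n195943 := d2_1 D207117 (iv5 F418091) F418089
theorem F443402 : act 0 n197017 = n207117 := d19_0 (iv5 D207117) (iv4 F364577) (iv3 D129911) (iv1 D61017) F323390 (iv4 F325952) F39696 (iv1 F19760) (iv5 F23299) D29401 D62102 D132371 F338375 D165724 (iv3 F360223) D205349 F436020 F402714 F402715
def n207118 : Q := act 1 n130307
theorem D207118 : act 1 n130307 = n207118 := rfl
theorem F443403 : act 1 n207118 = n206545 := d15_1 D207118 (iv7 F443374) F443372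
theorem F443404 : act 7 n207118 = n206574 := d15_2 F418082 D207118 (iv2 D206574)
theorem F443405 : act 2 n201118 = n207118 := d4_3 F443404 (iv2 D206574) (iv7 F419154)
theorem F443406 : act 3 n207118 = n206572 := d0_2 (iv3 F419152) F443405 (iv2 D206572) (iv3 D128895) (iv2 F342918)
theorem F443407 : act 6 n207118 = n201117 := d3_2 D201118 F443405 (iv2 D201117)
def n207119 : Q := act 4 n130307
theorem D207119 : act 4 n130307 = n207119 := rfl
def n207120 : Q := act 3 n130392
theorem D207120 : act 3 n130392 = n207120 := rfl
theorem F443408 : act 4 n207120 = n138068 := d5_2 D130392 D207120 F221309 (iv4 F204055) F347004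
theorem F443409 : act 6 n207120 = n182513 := d7_2 F436148 D207120 (iv3 F418114)
theorem F443410 : act 7 n207120 = n138064 := d8_2 (iv7 F346996) D207120 F347121
theorem F443411 : act 5 n207120 = n204886 := d21_6 F70908 (iv1 F70732) (iv5 F70736) D87130 D182513 (iv6 F443409) (iv1 D204886) F199312 (iv6 D86141) (iv1 F70911)
def n207121 : Q := act 5 n130392
theorem D207121 : act 5 n130392 = n207121 := rfl
theorem F443412 : act 2 n207121 = n205541 := d2_1 D207121 F436915 (iv2 F359268)
theorem F443413 : act 3 n207121 = n204886 := d6_1 D207121 (iv5 F443411) (iv3 D207120)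
theorem F443414 : act 4 n207121 = n198756 := d9_1 D207121 F409104 F257881 (iv5 F205328) (iv4 F346965) (iv5 D130398) D130397 (iv5 F348753) (iv4 F211176) (iv5 F348750) F257871 D163664 (iv4 F345778) (iv5 D130393) D130392
theorem F443415 : act 6 n207121 = n198755 := d12_2 F436148 D207121 F409100 D205377 F436146
theorem F443416 : act 7 n207121 = n206481 := d13_2 (iv7 F346996) D207121 F441029
theorem F443417 : act 1 n206482 = n207121 := d15_1 D206482 F443416 F441027
theorem F443418 : act 1 n207121 = n200650 := d15_1 F443417 (iv7 F419204) (iv2 F441033)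
theorem F443419 : act 6 n206012 = n204886 := d7_2 F443415 F438833 (iv3 F443413)
def n207122 : Q := act 4 n130396
theorem D207122 : act 4 n130396 = n207122 := rfl
theorem F443420 : act 2 n207122 = n206992 := d1_1 D207122 (iv4 F442883) F347043
theorem F443421 : act 3 n207122 = n206485 := d5_1 D207122 (iv4 D206485) (iv3 F348754) (iv4 D130397) D130396
theorem F443422 : act 7 n207122 = n206991 := d11_2 (iv7 F359265) D207122 F442880
theorem F443423 : act 0 n207122 = n132691 := d18_2 F347045 D207122 F213019 (iv5 F320709) (iv4 F333596) (iv0 F333618) (iv4 F344399) F249647 (iv5 F321680)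
theorem F443424 : act 1 n207122 = n132581 := d18_6 D161849 F346977 (iv1 D127729) (iv4 F344033) (iv5 F347044) D207122 F212811 (iv0 F337577) (iv5 F307534)
def n207123 : Q := act 6 n130400
theorem D207123 : act 6 n130400 = n207123 := rfl
theorem F443425 : act 3 n207123 = n152314 := d7_1 D207123 (iv6 D152314) (iv3 F306362)
theorem F443426 : act 4 n207123 = n131679 := d10_1 D207123 (iv6 F354049) (iv4 F306363)
theorem F443427 : act 5 n207123 = n147764 := d12_1 D207123 (iv6 F355211) (iv5 F341970) D206766 F442108
theorem F443428 : act 0 n131531 = n207123 := d17_0 F443427 (iv1 F433900) F433896 F303092 (iv5 F346777) F346775 (iv5 F392809) (iv0 F392811) (iv4 F314727)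
def n207124 : Q := act 6 n130401
theorem D207124 : act 6 n130401 = n207124 := rfl
theorem F443429 : act 2 n207124 = n152731 := d3_1 D207124 (iv6 D152731) (iv2 F344393)
theorem F443430 : act 5 n207124 = n174314 := d21_6 (iv5 F112926) F304849 (iv5 F303881) (iv6 F305916) (iv1 F213492) D207124 (iv1 D174314) (iv5 D83317) (iv6 D38381) D38377
def n207125 : Q := act 6 n130423
theorem D207125 : act 6 n130423 = n207125 := rfl
theorem F443431 : act 2 n207125 = n203287 := d3_1 D207125 (iv6 F427687) (iv2 F351969)
theorem F443432 : act 3 n207125 = n130425 := d7_1 D207125 (iv6 D130425) D130423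
theorem F443433 : act 4 n207125 = n163532 := d10_1 D207125 F342749 (iv4 F351481)
theorem F443434 : act 5 n207125 = n166390 := d12_1 D207125 (iv6 D166390) (iv5 D79889) D79890 (iv5 F311141)
theorem F443435 : act 7 n207125 = n175048 := d14_2 F351967 D207125 (iv6 D175048) F303572 (iv6 F336538)
theorem F443436 : act 0 n207125 = n192653 := d21_4 F341912 F341907 (iv5 F311141) D207125 (iv6 F387369) (iv5 D128052) F199419 F331982 F334223 F341914
theorem F443437 : act 1 n207125 = n131454 := d15_1 (iv0 F443436) F210717 (iv2 F387364)
def n207126 : Q := act 4 n130437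
theorem D207126 : act 4 n130437 = n207126 := rfl
theorem F443438 : act 2 n207126 = n204215 := d1_1 D207126 (iv4 D204215) (iv2 F358063)
theorem F443439 : act 5 n207126 = n205604 := d9_2 D130437 D207126 (iv4 D205604) (iv5 F208651) F97470 (iv5 F97323) (iv4 F314248) F299248 D124000 F358065 (iv4 D130936) (iv5 D61432) F46722 (iv5 F46606) D61203
theorem F443440 : act 7 n207126 = n204553 := d11_2 F358062 D207126 (iv4 D204553)
theorem F443441 : act 0 n207126 = n204555 := d17_0 F432852 (iv1 F371453) (iv5 F366658) (iv4 D123970) (iv5 D57752) D57749 D123959 (iv0 F357925) D207126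
theorem F443442 : act 1 n207126 = n204554 := d18_8 (iv1 F443250) (iv4 D207084) (iv1 F209526) D133195 (iv5 F217230) F357924 (iv0 F357925) D207126 F432850
theorem F443443 : act 6 n183118 = n207126 := d14_5 F443440 F432848 F403466 (iv6 F378875) F378876
theorem F443444 : act 0 n204529 = n183122 := d21_4 F432852 (iv1 F371453) (iv5 F366658) D204529 (iv6 D183122) (iv5 D87409) D87407 D183118 F443443 F443441
def n207127 : Q := act 6 n130437
theorem D207127 : act 6 n130437 = n207127 := rfl
theorem F443445 : act 2 n207127 = n204216 := d3_1 D207127 (iv6 D204216) (iv2 F358063)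
theorem F443446 : act 3 n207127 = n130872 := d7_1 D207127 (iv6 D130872) (iv3 F208948)
theorem F443447 : act 4 n207127 = n183118 := d10_1 D207127 F443443 (iv4 D207126)
theorem F443448 : act 5 n207127 = n193348 := d12_1 D207127 (iv6 D193348) (iv5 F366668) (iv6 D130438) D130437
theorem F443449 : act 0 n189085 = n207127 := d21_4 (iv5 D62939) D62936 D133975 (iv6 F375690) (iv6 D207127) (iv5 D130437) (iv1 F315093) (iv5 F385112) F385113 (iv1 D133983)
theorem F443450 : act 1 n189083 = n207127 := d15_0 (iv0 F443449) F375691 (iv2 F375681)
def n207128 : Q := act 7 n130438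
theorem D207128 : act 7 n130438 = n207128 := rfl
theorem F443451 : act 2 n207128 = n160324 := d4_1 D207128 (iv7 F304272) F358457
theorem F443452 : act 3 n207128 = n130876 := d8_1 D207128 (iv7 D130876) (iv3 F208949)
theorem F443453 : act 4 n207128 = n130442 := d11_1 D207128 (iv7 D130442) (iv4 F208950)
theorem F443454 : act 5 n207128 = n136926 := d13_1 D207128 (iv7 F362200) (iv5 F366668)
theorem F443455 : act 6 n207128 = n137351 := d14_1 D207128 (iv7 F346590) (iv6 D133102) F97329 D130438
theorem F443456 : act 0 n203215 = n207128 := d21_4 F355382 (iv1 F427440) (iv5 D203214) D203215 F443455 (iv5 D137351) (iv1 F345844) (iv5 D47294) D47295 D101738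
def n207129 : Q := act 4 n130440
theorem D207129 : act 4 n130440 = n207129 := rfl
theorem F443457 : act 0 n207129 = n184036 := d17_0 (iv5 F285987) F364932 (iv5 D153962) F331866 D173352 (iv0 F331851) F323659 D130440 D207129
def n207130 : Q := act 4 n130446
theorem D207130 : act 4 n130446 = n207130 := rfl
theorem F443458 : act 3 n207130 = n131483 := d5_1 D207130 (iv4 D131483) (iv3 F323850) (iv4 F101354) D130446
theorem F443459 : act 5 n207130 = n147488 := d9_2 (iv5 F320267) D207130 F231270 F105427 (iv4 F317104) (iv5 F346794) (iv4 F392760) F392759 (iv4 F443426) F443427 F355209 F105540 (iv4 F312494) D95589 F329941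
theorem F443460 : act 0 n207130 = n131531 := d17_0 (iv5 F339822) F243105 F345663 F307888 (iv5 F392710) (iv0 D194295) F358085 (iv0 F354053) D207130
def n207131 : Q := act 5 n130502
theorem D207131 : act 5 n130502 = n207131 := rfl
theorem F443461 : act 3 n207131 = n130503 := d6_1 D207131 (iv5 D130503) D130502
def n207132 : Q := act 0 n130503
theorem D207132 : act 0 n130503 = n207132 := rfl
theorem F443462 : act 5 n207132 = n205618 := d17_3 F102048 D130503 D207132 F437244 (iv5 F219399) (iv0 F219402) (iv5 D134457) F102164 (iv4 F97057)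
theorem F443463 : act 1 n205813 = n207132 := d15_0 (iv0 D207132) (iv7 F213943) (iv2 F437947)
theorem F443464 : act 2 n206742 = n207132 := d2_3 F443462 F437243 D206742
def n207133 : Q := act 1 n130503
theorem D207133 : act 1 n130503 = n207133 := rfl
theorem F443465 : act 1 n207133 = n205813 := d15_1 D207133 F437948 F437494
theorem F443466 : act 7 n207133 = n206742 := d15_2 (iv0 D207132) D207133 F443464
theorem F443467 : act 5 n207133 = n132253 := d17_7 F203461 F96695 F101884 (iv5 D61230) D61229 D130503 D207133 (iv0 F437504) (iv4 D205707)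
def n207134 : Q := act 4 n130503
theorem D207134 : act 4 n130503 = n207134 := rfl
def n207135 : Q := act 6 n130503
theorem D207135 : act 6 n130503 = n207135 := rfl
def n207136 : Q := act 0 n130504
theorem D207136 : act 0 n130504 = n207136 := rfl
theorem F443468 : act 4 n207136 = n136323 := d18_3 F101884 D130504 D207136 F219399 (iv4 F437244) (iv0 F437245) (iv4 D133172) (iv0 F101903) F96695
theorem F443469 : act 6 n207136 = n132183 := d21_5 D129670 (iv1 F442114) (iv5 D206768) (iv6 F209065) D207136 (iv5 F212991) (iv1 F437213) (iv5 F437212) F203569 (iv1 F203378)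
theorem F443470 : act 2 n132253 = n207136 := d15_3 (iv0 D207136) (iv0 F217849) (iv7 F211894)
theorem F443471 : act 1 n205815 = n207136 := d15_0 (iv0 D207136) (iv7 F213947) (iv2 F437954)
theorem F443472 : act 7 n207136 = n205618 := d15_2 (iv0 F437957) F443471 F437243
def n207137 : Q := act 3 n130504
theorem D207137 : act 3 n130504 = n207137 := rfl
theorem F443473 : act 4 n207137 = n130512 := d5_2 D130504 D207137 (iv3 D130512) (iv4 D61234) (iv3 F95688)
theorem F443474 : act 6 n207137 = n206767 := d7_2 (iv6 F209065) D207137 (iv3 D206767)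
theorem F443475 : act 7 n207137 = n167349 := d8_2 F213947 D207137 F366840
theorem F443476 : act 0 n206733 = n207137 := d18_2 (iv1 F420359) (iv4 F441999) F443473 F306850 F123001 (iv0 F303001) F113454 D75597 D158469
theorem F443477 : act 1 n206741 = n207137 := d18_6 (iv1 F344115) F307467 (iv1 F316655) (iv4 F210577) F351664 (iv4 F442016) F443473 F350904 (iv5 F350903)
def n207138 : Q := act 5 n130504
theorem D207138 : act 5 n130504 = n207138 := rfl
theorem F443478 : act 2 n207138 = n206955 := d2_1 D207138 F442734 F437501
theorem F443479 : act 7 n207138 = n206956 := d13_2 F213947 D207138 F442737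
theorem F443480 : act 0 n207138 = n132539 := d17_2 F217849 D207138 (iv5 D132539) F96946 F48598 (iv0 F102163) D134457 (iv0 F217848) F217847
theorem F443481 : act 1 n207138 = n132655 := d17_6 (iv1 D59404) F45642 F101877 D61230 D130504 D207138 (iv5 D132655) (iv0 F203678) (iv4 D126619)
def n207139 : Q := act 2 n130512
theorem D207139 : act 2 n130512 = n207139 := rfl
theorem F443482 : act 3 n207139 = n167342 := d0_2 D130512 D207139 F263476 F123394 F305438
theorem F443483 : act 5 n207139 = n166946 := d2_2 (iv5 F306850) D207139 (iv2 D166946)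
theorem F443484 : act 6 n207139 = n132308 := d3_2 (iv6 F209072) D207139 (iv2 F371344)
theorem F443485 : act 7 n207139 = n167342 := d4_2 F307464 D207139 F263476
theorem F443486 : act 1 n207139 = n167347 := d15_0 (iv0 D167347) F307464 D207139
theorem F443487 : act 1 n131389 = n207139 := d15_0 F443486 F350908 F350896
def n207140 : Q := act 0 n130517
theorem D207140 : act 0 n130517 = n207140 := rfl
theorem F443488 : act 5 n207140 = n197614 := d17_1 D207140 (iv1 F405029) (iv5 F403103) F403102 (iv5 F388640) F388642 F388637 (iv0 D139623) (iv4 F209085)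
theorem F443489 : act 2 n178934 = n207140 := d15_3 (iv0 D207140) (iv0 F403151) F355519
theorem F443490 : act 1 n197088 = n207140 := d15_0 (iv0 D207140) F209087 D197088
theorem F443491 : act 7 n207140 = n197087 := d15_2 F403001 F443490 (iv2 F402997)
def n207141 : Q := act 2 n130517
theorem D207141 : act 2 n130517 = n207141 := rfl
theorem F443492 : act 3 n207141 = n178918 := d0_2 D130517 D207141 (iv2 F345585) (iv3 D107637) (iv2 F95698)
theorem F443493 : act 4 n207141 = n139625 := d1_2 (iv4 F209085) D207141 (iv2 D139625)
theorem F443494 : act 6 n207141 = n203526 := d3_2 (iv6 F209086) D207141 F428720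
theorem F443495 : act 7 n207141 = n197088 := d4_2 (iv7 F209087) D207141 (iv2 D197088)
theorem F443496 : act 1 n207141 = n197087 := d15_0 (iv0 D197087) (iv7 F209087) D207141
theorem F443497 : act 1 n178934 = n207141 := d15_0 F443496 (iv7 F443491) (iv2 F443489)
def n207142 : Q := act 4 n130518
theorem D207142 : act 4 n130518 = n207142 := rfl
theorem F443498 : act 2 n207142 = n147290 := d1_1 D207142 (iv4 D147290) (iv2 F355447)
theorem F443499 : act 3 n207142 = n193693 := d5_1 D207142 F390706 F180035 (iv4 F170804) (iv3 F355448)
theorem F443500 : act 5 n207142 = n190006 := d9_2 (iv5 F355449) D207142 (iv4 F399704) F399705 F230929 F105274 (iv4 F105267) (iv5 F355455) (iv4 F399755) (iv5 D196182) F164513 F77982 F105226 (iv5 D69019) (iv4 F105215)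
theorem F443501 : act 6 n207142 = n198360 := d10_2 (iv6 F355450) D207142 F407757
theorem F443502 : act 7 n207142 = n190445 := d11_2 (iv7 F355451) D207142 F379782
theorem F443503 : act 0 n207142 = n194311 := d18_2 D130518 D207142 F392785 (iv5 F350203) (iv4 F382182) (iv0 D191090) F350636 (iv0 F355476) F166373
theorem F443504 : act 1 n207142 = n190350 := d18_6 F339809 (iv4 D117393) (iv1 F190195) (iv4 F105215) (iv5 F355449) D207142 F379497 (iv0 D125003) (iv5 F192196)
def n207143 : Q := act 3 n130525
theorem D207143 : act 3 n130525 = n207143 := rfl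
theorem F443505 : act 4 n207143 = n156340 := d5_2 D130525 D207143 (iv3 D156340) (iv4 D74363) (iv3 F111315)
theorem F443506 : act 5 n207143 = n144573 := d6_2 F331929 D207143 F364970
theorem F443507 : act 6 n207143 = n198852 := d7_2 F438937 D207143 (iv3 F438936)
theorem F443508 : act 7 n207143 = n197099 := d8_2 (iv7 F209099) D207143 (iv3 D197099)
def n207144 : Q := act 3 n130527
theorem D207144 : act 3 n130527 = n207144 := rfl
theorem F443509 : act 2 n207144 = n193696 := d0_1 D207144 F390710 (iv2 F385807) F385808 F390595
theorem F443510 : act 7 n207144 = n193690 := d8_2 F390596 D207144 F390698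
theorem F443511 : act 1 n193694 = n207144 := d15_1 D193694 F443510 F390697
theorem F443512 : act 1 n207144 = n193693 := d15_0 (iv0 D193693) D193696 (iv2 F443509)
def n207145 : Q := act 4 n130527
theorem D207145 : act 4 n130527 = n207145 := rfl
theorem F443513 : act 0 n207145 = n201289 := d17_0 (iv5 D201289) F251382 F352978 (iv4 D113072) D113073 F416287 F416284 F214375 D207145
theorem F443514 : act 0 n156473 = n207145 := d20_10 (iv4 D207145) (iv1 F214375) (iv4 F245964) F245963 F356547 F338215 (iv4 D85400) (iv1 F92237) F312354 D156473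
def n207146 : Q := act 4 n130528
theorem D207146 : act 4 n130528 = n207146 := rfl
theorem F443515 : act 6 n207146 = n192156 := d10_2 (iv6 F390593) D207146 (iv4 D192156)
theorem F443516 : act 1 n207146 = n201289 := d18_8 F251382 (iv4 D159595) F193481 F336380 (iv5 D138276) F100735 D130528 D207146 (iv5 D201289)
theorem F443517 : act 0 n207146 = n156473 := d20_1 D207146 F366642 (iv3 D178827) (iv1 F200775) (iv3 F390583) (iv4 F396964) (iv1 F403767) F403764 (iv3 F214373) (iv1 F214377)
theorem F443518 : act 3 n156458 = n207146 := d20_5 (iv4 D49734) D49733 F78594 D74406 D156458 (iv4 D207146) (iv1 D130528) (iv4 F100735) (iv3 D64952) (iv1 F78601)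
def n207147 : Q := act 4 n130530
theorem D207147 : act 4 n130530 = n207147 := rfl
theorem F443519 : act 3 n207147 = n130607 := d5_1 D207147 (iv4 D130607) F95761 (iv4 F95707) (iv3 F209106)
theorem F443520 : act 7 n207147 = n189320 := d11_2 F210023 D207147 F376400
theorem F443521 : act 5 n207147 = n201286 := d16_1 D207147 (iv4 D201286) (iv5 D114262) (iv4 F178098) F356544 F245964 (iv5 F416284) F416286 F377577
theorem F443522 : act 1 n207147 = n189411 := d18_8 D189409 (iv4 F395458) (iv1 F395453) (iv4 F376619) (iv5 F416289) (iv4 D200396) (iv0 F366395) D207147 (iv5 D189411)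
def n207148 : Q := act 0 n130532
theorem D207148 : act 0 n130532 = n207148 := rfl
def n207149 : Q := act 1 n130532
theorem D207149 : act 1 n130532 = n207149 := rfl
theorem F443523 : act 4 n207149 = n133393 := d17_9 (iv1 D133393) (iv5 F114714) D159860 (iv5 F415875) F415874 F382487 (iv0 F377870) (iv5 F377869) D207149
def n207150 : Q := act 3 n130540
theorem D207150 : act 3 n130540 = n207150 := rfl
theorem F443524 : act 2 n207150 = n198464 := d0_1 D207150 F408099 F171075 F349528 (iv2 F211355)
theorem F443525 : act 4 n207150 = n198873 := d5_2 D130540 D207150 F409686 F402980 F214317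
theorem F443526 : act 5 n207150 = n190694 := d6_2 F349537 D207150 F380629
theorem F443527 : act 6 n207150 = n144061 := d7_2 (iv6 F209128) D207150 (iv3 D144061)
theorem F443528 : act 7 n207150 = n202400 := d8_2 F211360 D207150 F423868
theorem F443529 : act 0 n207150 = n130564 := d20_4 F182962 (iv1 F97600) D130540 D207150 F318272 F130578 D85284 D178884 F347164 (iv1 F209111)
def n207151 : Q := act 6 n130542
theorem D207151 : act 6 n130542 = n207151 := rfl
theorem F443530 : act 2 n207151 = n202814 := d3_1 D207151 F425702 (iv2 F379505)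
theorem F443531 : act 3 n207151 = n187355 := d7_1 D207151 (iv6 F369944) F366548
theorem F443532 : act 7 n207151 = n194305 := d14_2 F379503 D207151 (iv6 D194305) F379462 (iv6 F379502)
theorem F443533 : act 0 n202813 = n207151 := d21_4 (iv5 F365093) (iv1 F425698) (iv5 D202812) D202813 (iv6 D207151) F361834 (iv1 D113119) (iv5 D52210) (iv6 F82538) (iv1 F347194)
theorem F443534 : act 5 n187353 = n207151 := d6_0 F443531 (iv5 D187355) D187353
theorem F443535 : act 0 n207151 = n157241 := d20_4 F354134 F355435 (iv4 F369943) (iv3 F443531) (iv3 D157241) F112212 (iv1 F82460) (iv4 F97613) (iv3 F354128) F354133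
def n207152 : Q := act 6 n130543
theorem D207152 : act 6 n130543 = n207152 := rfl
theorem F443536 : act 2 n207152 = n130545 := d3_1 D207152 (iv6 D130545) D130543
theorem F443537 : act 3 n207152 = n200725 := d7_1 D207152 F417652 F214373
theorem F443538 : act 4 n207152 = n195447 := d10_1 D207152 F403772 F403764
theorem F443539 : act 7 n207152 = n136291 := d14_2 F214388 D207152 (iv6 D136291) F99672 (iv6 F344603)
theorem F443540 : act 0 n207152 = n194373 := d21_4 D113108 D200433 F416411 D207152 F392967 (iv5 F382423) (iv1 F382425) (iv5 D113100) F82538 D52207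
theorem F443541 : act 0 n194367 = n207152 := d21_4 F349217 (iv1 F369968) F369965 D194367 (iv6 D207152) (iv5 F416411) (iv1 F416427) (iv5 D113113) (iv6 F355171) D103209
theorem F443542 : act 5 n207152 = n203837 := d17_3 (iv1 F425857) F395194 F443541 F430041 F351059 (iv0 D177498) (iv5 F341340) D199646 (iv4 F425855)
def n207153 : Q := act 5 n130545
theorem D207153 : act 5 n130545 = n207153 := rfl
theorem F443543 : act 2 n207153 = n203837 := d2_1 D207153 (iv5 F443542) F443536
theorem F443544 : act 3 n207153 = n130547 := d6_1 D207153 (iv5 D130547) (iv3 F209131)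
theorem F443545 : act 7 n207153 = n202846 := d13_2 F209132 D207153 (iv5 D202846)
def n207154 : Q := act 5 n130546
theorem D207154 : act 5 n130546 = n207154 := rfl
theorem F443546 : act 2 n207154 = n200727 := d2_1 D207154 F417661 F210024
theorem F443547 : act 6 n207154 = n130547 := d12_2 D130546 D207154 (iv5 D130547) (iv6 D61252) D61251
theorem F443548 : act 1 n207154 = n186310 := d17_8 F396536 F95267 D128666 (iv5 F395669) (iv4 F413953) (iv5 F419773) (iv0 F419774) D207154 F395747
theorem F443549 : act 1 n206583 = n207154 := d15_0 F443548 (iv7 F408180) (iv2 F441427)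
def n207155 : Q := act 7 n130546
theorem D207155 : act 7 n130546 = n207155 := rfl
theorem F443550 : act 4 n207155 = n130606 := d11_1 D207155 (iv7 D130606) (iv4 F209133)
def n207156 : Q := act 3 n130548
theorem D207156 : act 3 n130548 = n207156 := rfl
theorem F443551 : act 5 n207156 = n200374 := d6_2 (iv5 F405865) D207156 (iv3 D200374)
theorem F443552 : act 4 n207156 = n156454 := d20_6 (iv4 D24359) (iv1 F37576) (iv4 F46630) D61253 D130548 D207156 (iv1 D156454) F111654 (iv3 D62582) F47501
theorem F443553 : act 1 n130566 = n207156 := d18_6 (iv1 F419862) (iv4 F411552) F369507 F251185 D201289 F419877 F443552 F245967 (iv5 F419860)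
theorem F443554 : act 0 n178827 = n207156 := d20_10 F443552 (iv1 D156454) F111654 (iv3 D62582) F47501 D49957 F79009 (iv1 F311908) D85247 D178827
def n207157 : Q := act 4 n130548
theorem D207157 : act 4 n130548 = n207157 := rfl
theorem F443555 : act 7 n207157 = n193311 := d11_2 (iv7 F415167) D207157 F397743
theorem F443556 : act 5 n207157 = n201365 := d16_1 D207157 F420197 F376588 (iv4 F440578) (iv5 D206395) (iv4 F365011) (iv5 F415163) (iv7 F415168) (iv2 F415169)
theorem F443557 : act 0 n207157 = n138508 := d17_0 (iv5 F375324) (iv1 F415700) (iv5 D200248) (iv4 D112884) D112885 (iv0 F415677) F415675 F214409 D207157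
theorem F443558 : act 1 n207157 = n196765 := d18_8 (iv1 F415666) (iv4 F420336) F420337 (iv4 F401141) F401142 F245635 F214409 D207157 (iv5 F411082)
def n207158 : Q := act 3 n130549
theorem D207158 : act 3 n130549 = n207158 := rfl
theorem F443559 : act 5 n207158 = n200376 := d6_2 (iv5 F415163) D207158 (iv3 D200376)
theorem F443560 : act 6 n207158 = n184217 := d7_2 (iv6 F415164) D207158 F397747
theorem F443561 : act 0 n207158 = n199086 := d21_4 (iv5 F368496) F368498 F350623 (iv6 F443560) (iv6 F410603) (iv5 D112223) D112220 (iv5 F413992) F413993 F378703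
theorem F443562 : act 1 n207158 = n193657 := d15_1 (iv0 F443561) (iv7 F415747) F415744
def n207159 : Q := act 4 n130549
theorem D207159 : act 4 n130549 = n207159 := rfl
theorem F443563 : act 2 n207159 = n193311 := d1_1 D207159 F397743 F415165
theorem F443564 : act 5 n207159 = n192670 := d9_2 (iv5 F415163) D207159 F387436 (iv5 F376587) (iv4 F416111) (iv5 F416112) (iv4 F340022) (iv5 F405865) D207157 F443556 F420197 F376588 (iv4 F440578) (iv5 D206395) (iv4 F365011)
theorem F443565 : act 6 n207159 = n193308 := d10_2 (iv6 F415164) D207159 F397746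
theorem F443566 : act 0 n207159 = n196765 := d17_0 (iv5 F411082) (iv1 F415666) (iv5 D200238) (iv4 D112879) D112880 F415641 (iv5 D130551) D130549 D207159
theorem F443567 : act 1 n207159 = n138508 := d18_6 (iv1 F420316) F226902 (iv1 F206814) (iv4 F365011) (iv5 F415163) D207159 (iv4 F404366) (iv0 F404370) (iv5 F420312)
theorem F443568 : act 3 n207159 = n138445 := d19_3 (iv1 F176109) (iv5 F415163) D207159 (iv1 F222769) (iv5 F388594) (iv4 D193051) F388441 (iv1 D192987) (iv5 D101072) (iv4 F233079) F233078 F87798 (iv5 F87813) (iv4 F347835) F347834 (iv1 F351354) D198548 F408313 F175961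
def n207160 : Q := act 5 n130550
theorem D207160 : act 5 n130550 = n207160 := rfl
theorem F443569 : act 2 n207160 = n130551 := d2_1 D207160 (iv5 D130551) D130550
theorem F443570 : act 6 n207160 = n190393 := d12_2 F395725 D207160 F379655 F362851 D195090
theorem F443571 : act 7 n207160 = n200241 := d13_2 F214408 D207160 F415675
theorem F443572 : act 0 n207160 = n200233 := d17_2 (iv1 F214406) D207160 (iv5 D200233) F357661 (iv5 F387341) F410884 F401773 (iv0 F397744) F397743
theorem F443573 : act 4 n207160 = n190394 := d18_5 F404369 (iv4 F390754) (iv1 F245633) F221653 D207160 (iv0 F379759) F379758 D190436 (iv5 F404371)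
theorem F443574 : act 0 n200244 = n207160 := d21_1 (iv5 F415688) (iv5 D207160) (iv6 F395725) (iv1 F401485) (iv6 F401487) (iv5 D143995) (iv1 D67458) D67459 F331499 (iv1 F357651)
def n207161 : Q := act 6 n130551
theorem D207161 : act 6 n130551 = n207161 := rfl
theorem F443575 : act 2 n207161 = n190393 := d3_1 D207161 (iv6 F443570) F443569
theorem F443576 : act 3 n207161 = n130553 := d7_1 D207161 (iv6 D130553) (iv3 F209136)
theorem F443577 : act 4 n207161 = n189491 := d10_1 D207161 F377269 F377263
theorem F443578 : act 5 n207161 = n191355 := d12_1 D207161 F395709 F395708 (iv6 D130552) D130551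
theorem F443579 : act 7 n207161 = n190262 := d14_2 F210040 D207161 (iv6 F440620) (iv7 F440622) (iv6 F439003)
theorem F443580 : act 0 n187399 = n207161 := d17_0 F443578 (iv1 F383178) (iv5 F358390) (iv4 F370145) (iv5 D187393) F294944 D97415 F365033 D187399
def n207162 : Q := act 1 n130553
theorem D207162 : act 1 n130553 = n207162 := rfl
theorem F443581 : act 1 n207162 = n191354 := d15_1 D207162 F383174 F210037
theorem F443582 : act 4 n207162 = n130610 := d17_9 (iv1 D130610) (iv5 F106073) D148744 F383190 (iv4 D191359) (iv5 D98135) D98133 F332879 D207162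
theorem F443583 : act 3 n157363 = n130610 := d20_5 (iv4 D190531) F147780 (iv4 F377249) F377248 (iv1 F349264) (iv4 F443582) (iv1 D207162) F209138 (iv3 F209170) (iv1 F380008)
theorem F443584 : act 5 n176718 = n207162 := d21_0 (iv1 D207162) (iv5 F332879) F364791 (iv1 F344592) F358194 (iv5 F390526) F390529 (iv5 F408278) F408279 (iv1 F276091)
theorem F443585 : act 2 n207162 = n176719 := d2_1 F443584 (iv5 D176719) D176718
def n207163 : Q := act 7 n130553
theorem D207163 : act 7 n130553 = n207163 := rfl
theorem F443586 : act 2 n207163 = n191354 := d4_1 D207163 F383174 F210037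
theorem F443587 : act 3 n207163 = n190262 := d8_1 D207163 (iv7 F443579) F443576
theorem F443588 : act 4 n207163 = n130601 := d11_1 D207163 (iv7 D130601) (iv4 F209138)
theorem F443589 : act 5 n207163 = n186082 := d13_1 D207163 (iv7 F288738) F332879
theorem F443590 : act 1 n176719 = n207163 := d15_1 F332876 (iv7 D207163) (iv2 F210037)
theorem F443591 : act 4 n207148 = n133392 := d18_1 D207148 (iv1 F214464) (iv4 F443588) F443589 (iv4 F381082) (iv0 F436050) F436048 (iv0 F377870) (iv5 F377869)
theorem F443592 : act 3 n207148 = n176832 := d20_3 F210038 D133392 (iv4 F443591) (iv1 D176832) F129373 F59903 (iv1 F63863) (iv4 F129326) (iv3 F276097) (iv1 F332876)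
def n207164 : Q := act 6 n130555
theorem D207164 : act 6 n130555 = n207164 := rfl
theorem F443593 : act 2 n207164 = n149199 := d3_1 D207164 (iv6 F414404) (iv2 F245139)
theorem F443594 : act 3 n207164 = n193653 := d7_1 D207164 F414386 F403770
theorem F443595 : act 0 n207164 = n204923 := d21_4 D52152 D112991 F245134 D207164 F434195 (iv5 D190582) F176036 (iv5 F366637) (iv6 D112989) (iv1 D52150)
theorem F443596 : act 5 n149061 = n207164 := d21_2 D206059 (iv1 F439054) (iv6 D207164) (iv1 F211375) F408070 F408066 (iv1 F174566) (iv5 F180010) (iv6 F366574) F385990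
theorem F443597 : act 7 n207164 = n149180 := d13_2 (iv7 F234417) F443596 (iv5 D149180)
theorem F443598 : act 1 n207164 = n130586 := d15_1 (iv0 F443595) (iv7 F415560) (iv2 F434193)
def n207165 : Q := act 6 n130556
theorem D207165 : act 6 n130556 = n207165 := rfl
theorem F443599 : act 2 n207165 = n144089 := d3_1 D207165 F365083 F245140
theorem F443600 : act 3 n207165 = n144550 := d7_1 D207165 F361614 (iv3 F318267)
theorem F443601 : act 0 n144084 = n207165 := d21_4 D128569 (iv1 F365097) (iv5 D144083) D144084 (iv6 D207165) F245141 (iv1 D112992) (iv5 D52152) (iv6 F46324) D60470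
theorem F443602 : act 3 n144177 = n193731 := d20_9 (iv4 F390798) (iv1 F424075) (iv4 F425559) F425558 F443601 F443600 F361613 (iv1 F341118) F324368 (iv1 D193731)
theorem F443603 : act 7 n193731 = n144171 := d8_2 D144177 F443602 F226872
theorem E103923 : n193730 = n193678 := ((c15_4 (iv0 D193730) D193731 F443603 (iv2 F390667))).symm
theorem F443604 : act 1 n193678 = n102263 := (sb E103923 (iv0 D193730))
theorem F443605 : act 0 n207165 = n144092 := d20_4 (iv4 F223812) F344473 (iv4 F361613) (iv3 F443600) F226808 F103410 (iv1 F53927) (iv4 F112217) (iv3 F247451) (iv1 F341117)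
theorem F443606 : act 7 n144090 = n207165 := d15_2 (iv0 D144089) D144090 F443599
theorem F443607 : act 3 n202860 = n144090 := d8_3 F443606 F443600 (iv7 F425910)
theorem F443608 : act 6 n203485 = n144090 := d14_5 F443606 (iv6 D207165) F245142 F414404 (iv7 F428503)
def n207166 : Q := act 4 n130557
theorem D207166 : act 4 n130557 = n207166 := rfl
theorem F443609 : act 2 n207166 = n130558 := d1_1 D207166 (iv4 D130558) D130557
theorem F443610 : act 3 n207166 = n156051 := d5_1 D207166 F245184 (iv3 F245634) F245635 F214407
theorem F443611 : act 6 n207166 = n202173 := d10_2 F425875 D207166 (iv4 F425874)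
theorem F443612 : act 7 n207166 = n156046 := d11_2 F211374 D207166 F245175
theorem F443613 : act 5 n207166 = n156952 := d17_5 D52149 D112983 D200324 F415999 D207166 F320434 (iv5 F320582) (iv0 D112963) F82421
theorem F443614 : act 0 n207166 = n156045 := d17_0 F332268 (iv1 F351353) F336199 F111143 F82441 D112943 (iv5 F245143) F211376 D207166
theorem F443615 : act 1 n207166 = n156044 := d18_8 F416799 F415899 (iv1 F402923) (iv4 F355511) F355512 (iv4 F355483) F211376 D207166 F416801
def n207167 : Q := act 1 n130558
theorem D207167 : act 1 n130558 = n207167 := rfl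
theorem F443616 : act 1 n207167 = n156046 := d15_1 D207167 (iv7 F443612) F443609
theorem F443617 : act 7 n207167 = n156045 := d15_2 (iv0 F390704) D207167 (iv2 F390702)
theorem F443618 : act 4 n207167 = n207144 := d17_9 (iv1 F443511) F415909 F382166 (iv5 F393227) F393226 F247036 F320436 (iv5 F320576) D207167
theorem F443619 : act 5 n207167 = n200303 := d18_9 (iv1 D200303) F175917 (iv1 D107640) (iv4 F166055) (iv5 F245130) (iv4 F245132) (iv0 D130555) D130558 D207167
theorem F443620 : act 2 n156044 = n207167 := d2_3 F443619 (iv2 F416796) (iv5 F416801)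
theorem F443621 : act 3 n178767 = n207167 := d6_3 F443619 (iv3 F415914) F278653
def n207168 : Q := act 6 n130559
theorem D207168 : act 6 n130559 = n207168 := rfl
theorem F443622 : act 3 n207168 = n130560 := d7_1 D207168 (iv6 D130560) (iv3 F209143)
theorem F443623 : act 4 n207168 = n178870 := d10_1 D207168 F429339 F429337
theorem F443624 : act 5 n207168 = n164152 := d12_1 D207168 F414176 F414173 F182968 D130559
theorem F443625 : act 0 n198710 = n207168 := d17_2 (iv1 D198709) D198710 F443624 (iv4 D164152) (iv5 F323614) F306314 D161333 F345378 (iv4 F408953)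
def n207169 : Q := act 1 n130560
theorem D207169 : act 1 n130560 = n207169 := rfl
theorem F443626 : act 7 n207169 = n201389 := d15_2 (iv0 F399723) D207169 F420296
theorem F443627 : act 5 n207169 = n206596 := d17_7 D128926 (iv5 F400021) (iv1 F400022) (iv5 F207286) (iv4 F425881) F425882 D207169 (iv0 D206596) (iv4 D128928)
theorem F443628 : act 4 n207169 = n130605 := d18_7 (iv1 F250875) D201780 (iv1 F421783) F179170 F114335 (iv4 F209144) D207169 F210032 (iv5 F250872)
theorem F443629 : act 3 n189692 = n207169 := d20_3 F129375 D102872 (iv4 F377424) (iv1 D207169) (iv3 F443622) F443623 F278740 D204995 F434513 (iv1 D176840)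
def n207170 : Q := act 7 n130560
theorem D207170 : act 7 n130560 = n207170 := rfl
theorem F443630 : act 4 n207170 = n130597 := d11_1 D207170 (iv7 D130597) (iv4 F209144)
theorem F443631 : act 6 n207170 = n191354 := d14_1 D207170 F383174 (iv6 D131134) (iv7 F96047) D130560
theorem F443632 : act 0 n201389 = n207170 := d21_4 (iv5 D60462) D60459 (iv5 F331511) D201389 F443631 (iv5 D191354) (iv1 F288744) (iv5 F415854) (iv6 D200292) F331482
def n207171 : Q := act 7 n130564
theorem D207171 : act 7 n130564 = n207171 := rfl
theorem F443633 : act 3 n207171 = n178883 := d8_1 D207171 (iv7 D178883) (iv3 F318272)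
theorem F443634 : act 4 n207171 = n177700 := d11_1 D207171 F313877 (iv4 F318273)
theorem F443635 : act 5 n207171 = n200003 := d13_1 D207171 F414571 F408577
theorem F443636 : act 1 n198464 = n207171 := d15_1 (iv0 F408101) (iv7 D207171) F366162
theorem F443637 : act 1 n207171 = n202400 := d15_1 F443636 (iv7 F443528) F443524
def n207172 : Q := act 0 n130566
theorem D207172 : act 0 n130566 = n207172 := rfl
theorem F443638 : act 4 n207172 = n156453 := d20_0 (iv1 F245962) F221476 (iv3 F214387) (iv1 F214391) (iv3 F366548) (iv4 D178930) (iv1 F200788) F323572 D130566 D207172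
theorem F443639 : act 1 n178827 = n207172 := d15_0 (iv0 D207172) F366277 (iv2 F366283)
def n207173 : Q := act 5 n130566
theorem D207173 : act 5 n130566 = n207173 := rfl
theorem F443640 : act 3 n207173 = n130568 := d6_1 D207173 (iv5 D130568) D130566
theorem F443641 : act 6 n207173 = n164121 := d12_2 (iv6 F348122) D207173 (iv5 D164121) (iv6 F300449) D162754
theorem F443642 : act 0 n207173 = n187379 := d17_2 (iv1 F443553) D207173 (iv5 F388004) F388003 (iv5 F411572) (iv0 F411574) F329102 D156454 (iv4 F443552)
theorem F443643 : act 1 n207173 = n200235 := d17_6 F222100 D200392 F416271 D201289 F419877 D207173 (iv5 D200235) (iv0 F246814) F246812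
def n207174 : Q := act 7 n130569
theorem D207174 : act 7 n130569 = n207174 := rfl
theorem F443644 : act 3 n207174 = n158830 := d8_1 D207174 F302220 F348123
theorem F443645 : act 4 n207174 = n205946 := d11_1 D207174 F438531 F392970
theorem F443646 : act 5 n207174 = n158829 := d13_1 D207174 F358408 (iv5 F348124)
theorem F443647 : act 1 n187376 = n207174 := d15_1 (iv0 F370068) (iv7 D207174) (iv2 F366411)
theorem F443648 : act 1 n207174 = n193460 := d15_1 F443647 F389920 (iv2 F370063)
def n207175 : Q := act 4 n130570
theorem D207175 : act 4 n130570 = n207175 := rfl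
theorem F443649 : act 2 n207175 = n130574 := d1_1 D207175 (iv4 D130574) (iv2 F209148)
theorem F443650 : act 5 n207175 = n147299 := d9_2 D130570 D207175 (iv4 F253034) (iv5 F433947) F433946 (iv5 D133331) F97569 D62594 D133368 F335864 F312028 D148501 (iv4 F335863) (iv5 F335862) F209088
theorem F443651 : act 7 n207175 = n159593 := d11_2 F214416 D207175 (iv4 F364333)
theorem F443652 : act 0 n207175 = n201233 := d17_0 (iv5 D201233) (iv1 F398373) F398370 F348077 (iv5 D103322) D103321 F354256 F214421 D207175
theorem F443653 : act 3 n159981 = n207175 := d8_3 F443651 (iv3 F430446) F430448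
def n207176 : Q := act 3 n130573
theorem D207176 : act 3 n130573 = n207176 := rfl
theorem F443654 : act 5 n207176 = n199302 := d6_2 (iv5 F355413) D207176 (iv3 F411565)
theorem F443655 : act 0 n200374 = n207176 := d20_4 F182959 D128557 (iv4 F340022) D200374 (iv3 D207176) (iv4 F376556) (iv1 F429284) F429280 (iv3 F425827) (iv1 D202843)
theorem F443656 : act 6 n189640 = n207176 := d12_0 F443654 (iv6 F425179) F425178 (iv6 D189641) D189640
def n207177 : Q := act 6 n130573
theorem D207177 : act 6 n130573 = n207177 := rfl
theorem F443657 : act 3 n207177 = n189640 := d7_1 D207177 F443656 (iv3 D207176)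
theorem F443658 : act 5 n207177 = n132135 := d12_1 D207177 F373557 (iv5 F355416) (iv6 F355415) (iv5 F355413)
theorem F443659 : act 7 n207177 = n190504 := d14_2 F355412 D207177 (iv6 D190504) F378585 F378583
theorem F443660 : act 0 n207177 = n200342 := d21_10 F416067 (iv1 D191220) F150156 (iv6 D96056) (iv1 F70459) D96131 (iv5 F158316) F331334 (iv5 F355413) D207177
theorem F443661 : act 1 n207177 = n200358 := d15_1 (iv0 F443660) F416133 (iv2 F416065)
def n207178 : Q := act 1 n130574
theorem D207178 : act 1 n130574 = n207178 := rfl
theorem F443662 : act 1 n207178 = n159593 := d15_1 D207178 (iv7 F443651) F443649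
theorem F443663 : act 7 n207178 = n201233 := d15_2 F419740 D207178 (iv2 F419735)
theorem F443664 : act 5 n207178 = n195828 := d17_7 (iv1 D140785) D140786 (iv1 F355139) (iv5 D166282) (iv4 F190446) (iv5 F335872) D207178 F398361 F379808
theorem F443665 : act 4 n207178 = n190349 := d17_9 (iv1 D190349) D190350 (iv1 F443504) F443500 (iv4 F399704) F399705 F230931 (iv5 F335872) D207178
theorem F443666 : act 3 n159598 = n207178 := d20_3 D120121 F402822 F402820 (iv1 D207178) F209150 (iv4 D76400) (iv1 F76751) D105415 (iv3 F341604) F178921
theorem F443667 : act 6 n207178 = n196002 := d7_2 F251390 F443666 (iv3 D196002)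
def n207179 : Q := act 6 n130574
theorem D207179 : act 6 n130574 = n207179 := rfl
theorem F443668 : act 3 n207179 = n159686 := d7_1 D207179 F251570 (iv3 F209150)
theorem F443669 : act 4 n207179 = n130575 := d10_1 D207179 (iv6 D130575) D130574
theorem F443670 : act 5 n207179 = n183112 := d12_1 D207179 (iv6 F362979) (iv5 D166281) F190447 (iv5 F335872)
theorem F443671 : act 0 n207179 = n190343 := d21_10 F379467 (iv1 F383116) F383113 (iv6 D106727) (iv1 D49320) D49322 F77982 D76350 (iv5 F335872) D207179
theorem F443672 : act 0 n190345 = n207179 := d17_0 F443670 (iv1 D183112) D183114 (iv4 F356674) F147147 F70150 D44774 D95918 D190345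
def n207180 : Q := act 6 n130577
theorem D207180 : act 6 n130577 = n207180 := rfl
theorem F443673 : act 2 n207180 = n177683 := d3_1 D207180 F361897 F361892
theorem F443674 : act 3 n207180 = n193474 := d7_1 D207180 (iv6 F389984) F387993
theorem F443675 : act 4 n207180 = n177682 := d10_1 D207180 F392764 F392760
theorem F443676 : act 5 n207180 = n193510 := d12_1 D207180 F390129 (iv5 F353228) F147271 (iv5 F346794)
theorem F443677 : act 7 n207180 = n189822 := d14_2 (iv7 F361893) D207180 (iv6 D189822) (iv7 D95296) (iv6 F146939)
theorem F443678 : act 0 n192122 = n207180 := d21_4 F361852 (iv1 F344705) (iv5 F408662) F408663 (iv6 D207180) F346794 (iv1 F147253) (iv5 F339832) D193628 (iv1 F390498)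
theorem F443679 : act 1 n193511 = n207180 := d15_0 (iv0 F443678) F385654 D193511
def n207181 : Q := act 3 n130580
theorem D207181 : act 3 n130580 = n207181 := rfl
theorem F443680 : act 5 n207181 = n201190 := d6_2 F340444 D207181 F419377
theorem F443681 : act 0 n200377 = n207181 := d20_4 D191094 F382199 (iv4 F380320) (iv3 F416197) (iv3 D207181) (iv4 F259103) (iv1 F176101) (iv4 F340417) F150035 (iv1 F150027)
def n207182 : Q := act 6 n130580
theorem D207182 : act 6 n130580 = n207182 := rfl
theorem F443682 : act 4 n207182 = n190467 := d10_1 D207182 (iv6 F398808) F259103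
theorem F443683 : act 0 n207182 = n200344 := d20_1 (iv4 F443682) (iv4 F420342) F420341 (iv1 D190417) (iv3 D96021) (iv4 D44806) (iv1 F70169) (iv4 F70382) (iv3 F147653) D190467
def n207183 : Q := act 3 n130581
theorem D207183 : act 3 n130581 = n207183 := rfl
theorem F443684 : act 0 n207183 = n200334 := d20_4 F340417 (iv1 F176096) F258978 D207183 F429330 F429325 (iv1 F189738) D131355 (iv3 F360262) F360265
def n207184 : Q := act 6 n130581
theorem D207184 : act 6 n130581 = n207184 := rfl
theorem F443685 : act 2 n207184 = n191358 := d3_1 D207184 F399048 (iv2 F331588)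
theorem F443686 : act 4 n207184 = n200373 := d10_1 D207184 (iv6 D200373) F258978
theorem F443687 : act 5 n207184 = n158092 := d12_1 D207184 (iv6 F408279) F408278 D206142 F439443
theorem F443688 : act 3 n188495 = n207184 := d6_3 F443687 F249043 D188495
theorem F443689 : act 7 n191357 = n207184 := d13_0 F443687 (iv7 F258688) (iv5 F415858)
theorem F443690 : act 1 n189387 = n207184 := d17_6 (iv1 F358999) (iv5 F380839) (iv1 F380840) (iv5 D189818) (iv4 F151334) (iv5 F376507) F443687 (iv0 D158092) (iv4 F132082)
theorem F443691 : act 1 n207184 = n158121 := d15_1 F443690 F249058 (iv2 F376505)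
theorem F443692 : act 6 n207183 = n188495 := d7_0 F443688 (iv6 D207184) D207183
def n207185 : Q := act 2 n130586
theorem D207185 : act 2 n130586 = n207185 := rfl
theorem F443693 : act 7 n207185 = n204923 := d4_2 F415560 D207185 F434193
theorem F443694 : act 1 n207185 = n149180 := d15_0 F415564 F415560 D207185
theorem F443695 : act 1 n149199 = n207185 := d15_0 F443694 (iv7 F443597) F443593
theorem F443696 : act 5 n149211 = n207185 := d17_5 (iv1 D154885) (iv5 D73458) (iv1 F190741) (iv5 F199529) (iv4 F234594) F443694 (iv5 D149180) D149178 (iv4 F346254)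
def n207186 : Q := act 5 n130586
theorem D207186 : act 5 n130586 = n207186 := rfl
theorem F443697 : act 2 n207186 = n149211 := d2_1 D207186 F443696 (iv2 D207185)
theorem F443698 : act 3 n207186 = n130587 := d6_1 D207186 (iv5 D130587) D130586
theorem F443699 : act 7 n207186 = n149212 := d13_2 F415560 D207186 (iv5 F415558)
theorem F443700 : act 4 n207186 = n204917 := d16_4 D204921 F434184 F220801 D207186 F434158 F199497 (iv5 F388334) (iv7 D192957) (iv2 F199506)
theorem F443701 : act 1 n207186 = n149063 := d17_6 F440594 F440591 (iv1 F434185) F434184 F220801 D207186 (iv5 F408124) F439042 F439040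
theorem F443702 : act 6 n207186 = n149211 := d21_9 D149223 F385990 D206059 (iv6 F439055) F346184 F366432 (iv5 F428502) F428506 D207186 (iv1 F234595)
theorem F443703 : act 0 n207186 = n149065 := d21_4 D149180 (iv1 F443694) (iv5 F443696) (iv6 F443702) F361276 F173668 D112105 (iv5 F205299) (iv6 F346255) (iv1 D149178)
def n207187 : Q := act 6 n130586
theorem D207187 : act 6 n130586 = n207187 := rfl
theorem F443704 : act 3 n207187 = n130588 := d7_1 D207187 (iv6 D130588) D130586
theorem F443705 : act 7 n207187 = n144291 := d14_2 F415560 D207187 (iv6 D144291) (iv7 F226727) (iv6 F415559)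
theorem F443706 : act 0 n207187 = n202413 := d21_10 F423906 (iv1 D200340) D200341 F416059 (iv1 F182825) D128572 F408124 (iv1 F443701) (iv5 D207186) D207187
theorem F443707 : act 0 n202362 = n207187 := d21_4 (iv5 D198446) (iv1 F174075) (iv5 F180024) D202362 (iv6 D207187) D207186 F443703 (iv5 F408119) (iv6 D198468) (iv1 F408035)
def n207188 : Q := act 5 n130588
theorem D207188 : act 5 n130588 = n207188 := rfl
theorem F443708 : act 7 n207188 = n144296 := d13_2 (iv7 F209160) D207188 (iv5 D144296)
theorem F443709 : act 0 n207188 = n200263 := d17_2 F357414 D207188 (iv5 D200263) (iv4 F175815) D113087 (iv0 F176172) F165075 (iv0 F176250) F357411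
theorem F443710 : act 1 n207188 = n138260 := d17_6 D52108 (iv5 F103385) F103384 D67602 (iv4 F209159) D207188 (iv5 D138260) (iv0 F168119) F82366
def n207189 : Q := act 2 n130593
theorem D207189 : act 2 n130593 = n207189 := rfl
theorem F443711 : act 3 n207189 = n186988 := d0_2 D130593 D207189 F368770 (iv3 F357174) (iv2 F167278)
theorem F443712 : act 5 n207189 = n155963 := d2_2 (iv5 F335529) D207189 (iv2 F357195)
theorem F443713 : act 6 n207189 = n192134 := d3_2 F407903 D207189 (iv2 F407907)
theorem F443714 : act 7 n207189 = n190973 := d4_2 (iv7 F226934) D207189 F381774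
theorem F443715 : act 1 n207189 = n193714 := d15_0 F390766 (iv7 F226934) D207189
theorem F443716 : act 1 n190340 = n207189 := d15_0 F443715 (iv7 D193714) (iv2 F379459)
def n207190 : Q := act 3 n130595
theorem D207190 : act 3 n130595 = n207190 := rfl
theorem F443717 : act 2 n207190 = n196145 := d0_1 D207190 (iv3 D196145) F205549 F364646 F209168
theorem F443718 : act 6 n207190 = n142713 := d7_2 (iv6 F209167) D207190 F364978
theorem F443719 : act 7 n207190 = n196168 := d8_2 F214479 D207190 (iv3 F414519)
theorem F443720 : act 0 n207190 = n196169 := d20_4 (iv4 F210025) F413982 (iv4 F413981) D207190 F399683 F238197 (iv1 F210501) F210502 F341585 (iv1 D131131)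
theorem F443721 : act 0 n196163 = n207190 := d21_4 F77984 F77964 (iv5 F164477) D196163 F443718 (iv5 D142713) (iv1 F318361) D106290 F163354 (iv1 F82411)
def n207191 : Q := act 5 n130595
theorem D207191 : act 5 n130595 = n207191 := rfl
theorem F443722 : act 2 n207191 = n201269 := d2_1 D207191 (iv5 D201269) F209168
theorem F443723 : act 6 n207191 = n159464 := d12_2 (iv6 F209167) D207191 F251103 (iv6 D105394) D105393
theorem F443724 : act 7 n207191 = n206380 := d13_2 F214479 D207191 F440509
theorem F443725 : act 0 n206592 = n207191 := d21_10 (iv5 D207191) (iv1 F214485) (iv5 F398555) F398556 (iv1 F398562) (iv6 F398564) F372401 (iv1 F372398) F251985 (iv6 F441471)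
def n207192 : Q := act 4 n130596
theorem D207192 : act 4 n130596 = n207192 := rfl
theorem F443726 : act 2 n207192 = n198530 := d1_1 D207192 F413983 (iv2 F214480)
theorem F443727 : act 3 n207192 = n190776 := d5_1 D207192 (iv4 F400095) (iv3 D196262) F364643 (iv3 F364648)
theorem F443728 : act 7 n207192 = n201268 := d11_2 (iv7 F209169) D207192 F419772
theorem F443729 : act 0 n207155 = n207192 := d20_1 (iv4 F443550) (iv4 D207192) F364648 (iv1 D106703) (iv3 F112349) (iv4 F364636) F425981 F425978 F420283 (iv1 F210029)
theorem F443730 : act 1 n207155 = n199886 := d15_1 (iv0 F443729) F413980 (iv2 F443726)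
theorem F443731 : act 1 n131130 = n207192 := d15_0 (iv0 F443729) (iv7 D207155) (iv2 F210024)
theorem F443732 : act 5 n194959 = n207192 := d21_6 F414109 F204367 F350486 (iv6 D155969) (iv1 F169472) (iv6 F395187) (iv1 F443731) (iv5 F417661) (iv6 D200727) (iv1 F414112)
theorem F443733 : act 6 n190775 = n207192 := d14_5 F443728 (iv6 D201268) (iv7 F382318) (iv6 D191123) (iv7 F381007)
def n207193 : Q := act 6 n130596
theorem D207193 : act 6 n130596 = n207193 := rfl
theorem F443734 : act 2 n207193 = n201266 := d3_1 D207193 F419763 (iv2 F214480)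
theorem F443735 : act 3 n207193 = n164417 := d7_1 D207193 (iv6 F259066) (iv3 F364648)
theorem F443736 : act 4 n207193 = n190775 := d10_1 D207193 F443733 (iv4 D207192)
theorem F443737 : act 5 n207193 = n164411 := d12_1 D207193 (iv6 F419549) F419548 D201322 F420015
theorem F443738 : act 7 n207193 = n164410 := d14_2 (iv7 F209169) D207193 F290530 F178234 D114238
theorem F443739 : act 0 n186230 = n207193 := d21_4 (iv5 D186181) (iv1 F288941) (iv5 F136052) D186230 (iv6 D207193) (iv5 F420015) (iv1 F441469) F441470 (iv6 D189737) (iv1 F331398)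
theorem F443740 : act 1 n201177 = n207193 := d15_0 (iv0 F443739) F331424 (iv2 F419335)
def n207194 : Q := act 7 n130598
theorem D207194 : act 7 n130598 = n207194 := rfl
theorem F443741 : act 3 n207194 = n130601 := d8_1 D207194 (iv7 D130601) (iv3 F209170)
theorem F443742 : act 4 n207194 = n190261 := d11_1 D207194 F379228 F377272
theorem F443743 : act 5 n207194 = n187670 := d13_1 D207194 F374720 F233576
theorem F443744 : act 0 n186261 = n207194 := d17_0 F443743 (iv1 F374721) F374711 (iv4 F365425) (iv5 D95548) (iv0 F70176) D89105 (iv0 F357561) F352841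
def n207195 : Q := act 4 n130599
theorem D207195 : act 4 n130599 = n207195 := rfl
theorem F443745 : act 2 n207195 = n207148 := d1_1 D207195 F443591 (iv2 F399664)
theorem F443746 : act 3 n207195 = n188463 := d5_1 D207195 F373571 F203005 (iv4 F332825) (iv3 F377276)
theorem F443747 : act 6 n207195 = n188460 := d10_2 F439874 D207195 (iv4 F439871)
theorem F443748 : act 7 n207195 = n207149 := d11_2 F399668 D207195 F443523
theorem F443749 : act 0 n207195 = n189730 := d17_0 F377574 (iv1 F435911) F435913 F415862 F233582 (iv0 F328780) F328783 F214466 D207195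
theorem F443750 : act 1 n207195 = n131125 := d18_8 F362514 (iv4 F395232) F395234 (iv4 D191353) D191354 F383175 F214466 D207195 (iv5 F362513)
def n207196 : Q := act 5 n130599
theorem D207196 : act 5 n130599 = n207196 := rfl
theorem F443751 : act 3 n207196 = n195672 := d6_1 D207196 F397803 (iv3 F377276)
theorem F443752 : act 0 n207196 = n133221 := d17_2 D130599 D207196 (iv5 F416183) (iv4 F443686) F443687 (iv0 D158092) (iv5 F249014) F363219 F209138
def n207197 : Q := act 3 n130600
theorem D207197 : act 3 n130600 = n207197 := rfl
theorem F443753 : act 2 n207197 = n196143 := d0_1 D207197 (iv3 D196143) (iv2 F349628) (iv3 F399667) F399666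
theorem F443754 : act 7 n207197 = n196161 := d8_2 F399665 D207197 (iv3 F399662)
theorem F443755 : act 1 n207197 = n196162 := d15_0 (iv0 F439316) (iv7 F399599) (iv2 F443753)
theorem F443756 : act 1 n195758 = n207197 := d15_0 F443755 (iv7 D196162) (iv2 F398057)
theorem F443757 : act 1 n195989 = n195758 := d15_0 F443756 F443754 (iv2 F399661)
def n207198 : Q := act 4 n130600
theorem D207198 : act 4 n130600 = n207198 := rfl
theorem F443758 : act 2 n207198 = n207149 := d1_1 D207198 F443523 F399666
theorem F443759 : act 7 n207198 = n207148 := d11_2 F399665 D207198 F443591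
theorem F443760 : act 0 n207198 = n131125 := d17_0 (iv5 F362513) F362514 F160670 F294060 (iv5 F331441) F331439 F106102 D130600 D207198
theorem F443761 : act 3 n207198 = n189724 := d19_3 F418684 F418683 D207198 (iv1 D189724) F292432 (iv4 F327004) F170386 (iv1 F327001) D56645 (iv4 F116161) (iv3 F326854) F336753 F336676 F171654 F80612 (iv1 F170669) F170671 F170691 D133221
theorem F443762 : act 7 n189724 = n176832 := d8_2 (iv7 F443759) F443761 (iv3 F443592)
theorem F443763 : act 2 n176832 = n189723 := d15_3 (iv0 D189723) D189724 F443762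
theorem F443764 : act 2 n189724 = n176831 := d15_3 (iv0 D176831) D176832 (iv7 F443762)
theorem F443765 : act 7 n176831 = n189723 := d4_2 (iv7 F443762) F443764 (iv2 F443763)
theorem F443766 : act 1 n207198 = n189730 := d15_1 (iv0 F443760) (iv7 F377564) (iv2 F210014)
def n207199 : Q := act 6 n130600
theorem D207199 : act 6 n130600 = n207199 := rfl
theorem F443767 : act 0 n207199 = n195679 := d21_4 F416183 F418684 F418683 D207199 F397829 (iv5 D106190) D106188 F163180 D113051 F416185
theorem F443768 : act 1 n207199 = n196937 := d15_1 (iv0 F443767) F402363 F398528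
def n207200 : Q := act 5 n130602
theorem D207200 : act 5 n130602 = n207200 := rfl
theorem F443769 : act 2 n207200 = n197029 := d2_1 D207200 (iv5 D197029) (iv2 F209171)
theorem F443770 : act 7 n207200 = n197025 := d13_2 (iv7 F209172) D207200 (iv5 D197025)
theorem F443771 : act 4 n207200 = n151948 := d16_2 D130602 D207200 (iv5 D151948) (iv4 D71640) F52354 (iv4 F78497) (iv5 F108009) F108012 (iv2 F95747)
theorem F443772 : act 0 n207200 = n203373 := d17_2 (iv1 F209174) D207200 F428085 F238203 (iv5 D107895) F78785 D49845 F78824 D71654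
theorem F443773 : act 1 n207200 = n193396 := d17_6 (iv1 F78520) F78518 F46645 D61279 D130602 D207200 F389702 (iv0 D151450) (iv4 D71395)
theorem F443774 : act 6 n207200 = n187618 := d21_3 F238585 (iv1 F209174) D207200 (iv1 F373009) (iv6 F373013) (iv5 D146401) D146399 (iv5 F351274) (iv6 D152054) (iv1 F238584)
def n207201 : Q := act 6 n130602
theorem D207201 : act 6 n130602 = n207201 := rfl
theorem F443775 : act 2 n207201 = n197030 := d3_1 D207201 (iv6 D197030) (iv2 F209171)
theorem F443776 : act 4 n207201 = n130603 := d10_1 D207201 (iv6 D130603) D130602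
theorem F443777 : act 0 n131287 = n207201 := d21_4 (iv5 D105872) (iv1 F77200) D61612 D131287 (iv6 D207201) D207200 F443772 F428085 F334833 (iv1 F162597)
def n207202 : Q := act 0 n130603
theorem D207202 : act 0 n130603 = n207202 := rfl
theorem F443778 : act 6 n207202 = n151442 := d21_5 F78518 F46645 D61279 D130603 D207202 (iv5 D151442) (iv1 D71391) D71392 F107885 (iv1 F78520)
theorem F443779 : act 2 n151650 = n207202 := d15_3 (iv0 D207202) (iv0 F398870) F398869
theorem F443780 : act 7 n207202 = n197031 := d4_2 F398869 F443779 F402754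
theorem F443781 : act 1 n197032 = n207202 := d15_1 F402756 F443780 F402754
def n207203 : Q := act 7 n130603
theorem D207203 : act 7 n130603 = n207203 := rfl
theorem F443782 : act 2 n207203 = n197032 := d4_1 D207203 (iv7 D197032) (iv2 F209175)
theorem F443783 : act 3 n207203 = n130606 := d8_1 D207203 (iv7 D130606) (iv3 F209176)
theorem F443784 : act 5 n207203 = n201770 := d13_1 D207203 (iv7 D201770) (iv5 F209177)
theorem F443785 : act 6 n207203 = n197028 := d14_1 D207203 (iv7 D197028) (iv6 D107545) (iv7 F95749) D130603
theorem F443786 : act 1 n197031 = n207203 := d15_1 D197031 (iv7 D207203) F209175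
theorem F443787 : act 1 n207203 = n151650 := d15_1 F443786 (iv7 F398869) (iv2 F402754)
def n207204 : Q := act 3 n130605
theorem D207204 : act 3 n130605 = n207204 := rfl
theorem F443788 : act 4 n207204 = n194172 := d5_2 F443628 D207204 (iv3 D194172) (iv4 F377424) F443629
theorem F443789 : act 7 n207204 = n201385 := d8_2 (iv7 F209180) D207204 F420283
theorem F443790 : act 0 n207204 = n130614 := d19_4 D206596 (iv5 F443627) F443628 D207204 F209192 (iv4 F420936) (iv3 F443295) F443297 (iv5 D194711) (iv4 F311929) F311928 (iv1 D82503) D82504 (iv4 F316696) (iv3 D128877) (iv1 D60612) D60614 D128885 (iv3 F207153)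
def n207205 : Q := act 6 n130605
theorem D207205 : act 6 n130605 = n207205 := rfl
theorem F443791 : act 2 n207205 = n201384 := d3_1 D207205 F420279 (iv2 F210028)
theorem F443792 : act 5 n207205 = n203921 := d12_1 D207205 F430410 F421070 D201766 F421731
theorem F443793 : act 7 n207205 = n195204 := d14_2 (iv7 F209180) D207205 (iv6 D195204) F161737 D114408
theorem F443794 : act 0 n207205 = n201244 := d21_10 (iv5 D201244) (iv1 F177961) (iv5 F176001) F176002 (iv1 F175842) D130636 (iv5 F375208) F421732 F421731 D207205
theorem F443795 : act 1 n207205 = n189250 := d15_1 (iv0 F443794) (iv7 F376229) (iv2 F419624)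
def n207206 : Q := act 5 n130607
theorem D207206 : act 5 n130607 = n207206 := rfl
theorem F443796 : act 2 n207206 = n189316 := d2_1 D207206 (iv5 D189316) (iv2 F209182)
theorem F443797 : act 3 n207206 = n201286 := d6_1 D207206 (iv5 F443521) F443519
theorem F443798 : act 4 n207206 = n189655 := d9_1 D207206 (iv5 D189655) F214472 (iv5 D133395) F97629 D92819 D188817 (iv5 F376604) (iv4 F377264) (iv5 D189652) F145403 (iv5 D61277) (iv4 F46649) D61284 D130607
theorem F443799 : act 7 n207206 = n189321 := d13_2 (iv7 F209183) D207206 (iv5 D189321)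
def n207207 : Q := act 6 n130607
theorem D207207 : act 6 n130607 = n207207 := rfl
theorem F443800 : act 2 n207207 = n189317 := d3_1 D207207 (iv6 D189317) (iv2 F209182)
theorem F443801 : act 4 n207207 = n130608 := d10_1 D207207 (iv6 D130608) D130607
def n207208 : Q := act 0 n130608
theorem D207208 : act 0 n130608 = n207208 := rfl
def n207209 : Q := act 1 n130608
theorem D207209 : act 1 n130608 = n207209 := rfl
theorem F443802 : act 1 n207209 = n185906 := d15_1 D207209 F288404 (iv2 F209184)
theorem F443803 : act 4 n207209 = n189454 := d17_9 (iv1 D189454) (iv5 F144858) D189530 F376823 (iv4 D185911) (iv5 D88543) D88542 (iv5 F209186) D207209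
def n207210 : Q := act 7 n130608
theorem D207210 : act 7 n130608 = n207210 := rfl
theorem F443804 : act 2 n207210 = n185906 := d4_1 D207210 F288404 (iv2 F209184)
theorem F443805 : act 3 n207210 = n130611 := d8_1 D207210 (iv7 D130611) (iv3 F209185)
theorem F443806 : act 5 n207210 = n185862 := d13_1 D207210 F288300 (iv5 F209186)
theorem F443807 : act 6 n207210 = n189324 := d14_1 D207210 (iv7 D189324) (iv6 D93883) (iv7 F95762) D130608
theorem F443808 : act 1 n185906 = n207208 := d15_0 (iv0 D207208) D207210 F443804
theorem F443809 : act 1 n189319 = n207210 := d15_1 D189319 (iv7 D207210) F209184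
theorem F443810 : act 3 n189319 = n189645 := d20_5 D207195 F443749 F377563 (iv3 F443805) (iv1 F443809) (iv4 F377246) F377274 F377272 F209170 D130599
theorem F443811 : act 1 n207210 = n189318 := d15_0 (iv0 D189318) (iv7 F288404) (iv2 F443804)
def n207211 : Q := act 5 n130609
theorem D207211 : act 5 n130609 = n207211 := rfl
theorem F443812 : act 3 n207211 = n135808 := d6_1 D207211 (iv5 F370288) F390841
theorem F443813 : act 7 n207211 = n135800 := d13_2 F390842 D207211 (iv5 F364693)
def n207212 : Q := act 6 n130609
theorem D207212 : act 6 n130609 = n207212 := rfl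
theorem F443814 : act 2 n207212 = n189428 := d3_1 D207212 (iv6 F376589) (iv2 F390843)
theorem F443815 : act 3 n207212 = n157391 := d7_1 D207212 (iv6 F370286) F390841
theorem F443816 : act 4 n207212 = n206413 := d10_1 D207212 F440669 (iv4 F390840)
theorem F443817 : act 7 n207212 = n189427 := d14_2 F390842 D207212 (iv6 F419092) F419093 F364695
theorem F443818 : act 5 n207212 = n157746 := d21_6 (iv5 D25330) (iv1 F23067) D29013 D61285 D130609 D207212 (iv1 D157746) F112704 (iv6 D52804) (iv1 F40532)
theorem F443819 : act 0 n189429 = n207212 := d21_10 F443818 (iv1 D157746) F112704 (iv6 D52804) (iv1 F40532) D52161 F82469 D78998 D164492 (iv6 F376591)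
theorem F443820 : act 1 n189424 = n207212 := d15_0 (iv0 F443819) (iv7 D189429) (iv2 F376581)
def n207213 : Q := act 6 n130612
theorem D207213 : act 6 n130612 = n207213 := rfl
theorem F443821 : act 2 n207213 = n196164 := d3_1 D207213 (iv6 D196164) (iv2 F209187)
theorem F443822 : act 3 n207213 = n130614 := d7_1 D207213 (iv6 D130614) (iv3 F209188)
theorem F443823 : act 4 n207213 = n194995 := d10_1 D207213 (iv6 D194995) F363604
theorem F443824 : act 5 n207213 = n201553 := d12_1 D207213 (iv6 D201553) F178879 F139450 D130612
def n207214 : Q := act 3 n130613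
theorem D207214 : act 3 n130613 = n207214 := rfl
theorem F443825 : act 2 n207214 = n203660 := d0_1 D207214 F429286 F378415 (iv3 F361789) F210000
theorem F443826 : act 4 n207214 = n194993 := d5_2 D130613 D207214 (iv3 D194993) F363604 F209188
theorem F443827 : act 6 n207214 = n201467 := d7_2 F429875 D207214 (iv3 F429871)
theorem F443828 : act 0 n203877 = n194151 := d19_0 (iv5 F395336) (iv4 F443826) (iv3 D207214) (iv1 F247867) (iv5 F420660) F420661 F357932 F152496 (iv5 D46464) (iv4 F57350) F57349 D36518 (iv5 F302049) (iv4 F321437) (iv3 F174733) (iv1 F358808) F358811 D121151 D203877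
theorem E103924 : n194150 = n189723 := (c21_7 (iv5 D198618) (iv1 F219356) (iv5 F220406) (iv6 F430194) F443828 (iv6 D194151) D194150 (iv1 F377544) (iv5 D176829) D176830 (iv1 F408557))
theorem F443829 : act 5 n189723 = n102783 := (sb E103924 (iv5 D194150))
theorem E103925 : n194147 = n164084 := (c2_2 F443829 D194147 (iv5 F382167) F443763)
theorem F443830 : act 2 n164084 = n102783 := (sb E103925 (iv2 D194147))
theorem F443831 : act 7 n164084 = n102784 := (sb E103925 (iv7 F392194))
theorem E103926 : n194152 = n164083 := (c13_3 F443765 F443829 D194152 (iv5 F414784))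
theorem F443832 : act 2 n164083 = n102784 := (sb E103926 F392198)
theorem F443833 : act 7 n164083 = n102783 := (sb E103926 (iv7 D194152))
theorem F443834 : act 0 n198743 = n194159 := d21_7 (iv5 F443829) (iv1 F377544) (iv5 D176829) D176830 (iv1 F408557) F408559 (iv5 F409044) (iv5 D194159) (iv6 D102786) D102783
theorem E103927 : n194155 = n189724 := (c2_3 F414784 F443832 D194155 F443764)
theorem F443835 : act 5 n189724 = n102784 := (sb E103927 (iv5 D194155))
theorem E103928 : n194156 = n160617 := (c3_3 (iv6 F414785) F443832 D194156 (iv2 F370045))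
theorem F443836 : act 6 n160617 = n102784 := (sb E103928 (iv6 D194156))
theorem F443837 : act 5 n194153 = n207198 := d6_2 F443835 D194153 F443761
theorem F443838 : act 5 n201540 = n207214 := d12_5 F443827 (iv5 D201467) F334443 F334442 D201540
def n207215 : Q := act 5 n130613
theorem D207215 : act 5 n130613 = n207215 := rfl
theorem F443839 : act 2 n207215 = n204318 := d2_1 D207215 F432017 F210000
theorem F443840 : act 3 n207215 = n201540 := d6_1 D207215 F443838 (iv3 D207214)
theorem F443841 : act 6 n207215 = n155475 := d12_2 F429875 D207215 (iv5 D155475) (iv6 F334452) D203800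
theorem F443842 : act 7 n207215 = n204512 := d13_2 F209996 D207215 F432768
theorem F443843 : act 4 n207215 = n130870 := d16_2 D130613 D207215 F209467 (iv4 F97875) F96131 F79129 D61289 F96026 (iv2 F96024)
theorem F443844 : act 0 n207215 = n164231 := d17_2 F210614 D207215 (iv5 D164231) (iv4 D78895) (iv5 D35915) F54426 D34299 (iv0 F96259) D131398
theorem F443845 : act 1 n207215 = n203444 := d17_6 F83543 (iv5 D29017) D29014 D61287 D130613 D207215 (iv5 D203444) F321168 F319095
theorem F443846 : act 0 n201540 = n205094 := d20_10 (iv4 D205094) F432879 F432877 F374356 D188669 (iv3 F374363) F209196 (iv1 F209466) (iv4 F443843) F443840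
def n207216 : Q := act 7 n130614
theorem D207216 : act 7 n130614 = n207216 := rfl
theorem F443847 : act 4 n207216 = n164514 := d11_1 D207216 (iv7 F429872) F429873
theorem F443848 : act 5 n207216 = n201558 := d13_1 D207216 (iv7 D201558) (iv5 F209192)
theorem F443849 : act 0 n201385 = n207216 := d17_0 F443848 (iv1 F431432) F431430 (iv4 D152451) (iv5 D71912) D71911 D152447 (iv0 F425980) F425978
def n207217 : Q := act 5 n130615
theorem D207217 : act 5 n130615 = n207217 := rfl
theorem F443850 : act 2 n207217 = n204512 := d2_1 D207217 F432768 F209995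
theorem F443851 : act 3 n207217 = n184730 := d6_1 D207217 (iv5 F376170) F376168
theorem F443852 : act 4 n207217 = n130869 := d9_1 D207217 F209464 F97872 (iv5 D49843) (iv4 F46652) D61287 D130613 D207215 F443843 F209467 (iv4 F97875) F96131 F79129 D61289 D130615
theorem F443853 : act 6 n207217 = n188617 := d12_2 (iv6 F376164) D207217 (iv5 D188617) (iv6 F361055) (iv5 F376161)
theorem F443854 : act 7 n207217 = n204318 := d13_2 F210001 D207217 F432017
theorem F443855 : act 0 n207217 = n203444 := d17_2 F247866 D207217 (iv5 D203444) (iv4 D119102) F86726 F54422 D62690 F112346 D157391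
theorem F443856 : act 1 n207217 = n164231 := d17_6 (iv1 F87974) (iv5 D55615) (iv1 F46656) D61289 D130615 D207217 (iv5 D164231) F178690 F178689
def n207218 : Q := act 7 n130616
theorem D207218 : act 7 n130616 = n207218 := rfl
theorem F443857 : act 3 n207218 = n201075 := d8_1 D207218 (iv7 D201075) (iv3 F209193)
theorem F443858 : act 4 n207218 = n131121 := d11_1 D207218 (iv7 F376162) F376163
theorem F443859 : act 5 n207218 = n201071 := d13_1 D207218 (iv7 D201071) (iv5 F209194)
theorem F443860 : act 1 n135807 = n207218 := d15_1 (iv0 F363754) (iv7 D207218) (iv2 F209999)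
theorem F443861 : act 1 n207218 = n188565 := d15_1 F443860 F373991 (iv2 F218417)
def n207219 : Q := act 1 n130617
theorem D207219 : act 1 n130617 = n207219 := rfl
theorem F443862 : act 1 n207219 = n189749 := d15_1 D207219 (iv7 F377603) F375384
theorem F443863 : act 7 n207219 = n189298 := d15_2 (iv0 F340024) D207219 F376365
theorem F443864 : act 4 n207219 = n193697 := d17_9 (iv1 F416320) F416316 (iv1 F385810) (iv5 F353357) F276238 (iv5 F292045) F374368 F374362 D207219
theorem F443865 : act 6 n186170 = n207219 := d21_9 (iv5 F374362) (iv1 F374368) F292045 D186262 (iv1 F289015) D194176 (iv5 F392260) (iv1 F343300) F343305 (iv1 D207219)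
theorem F443866 : act 2 n207219 = n200368 := d3_1 F443865 (iv6 D200368) (iv2 F343306)
def n207220 : Q := act 6 n130617
theorem D207220 : act 6 n130617 = n207220 := rfl
theorem F443867 : act 3 n207220 = n130619 := d7_1 D207220 (iv6 D130619) D130617
theorem F443868 : act 4 n207220 = n130626 := d10_1 D207220 (iv6 D130626) (iv4 F209195)
theorem F443869 : act 5 n207220 = n189547 := d12_1 D207220 (iv6 D189547) D189546 (iv6 F376833) F374362
theorem F443870 : act 7 n207220 = n189753 := d14_2 F214504 D207220 (iv6 D189753) F377610 (iv6 F374371)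
def n207221 : Q := act 6 n130618
theorem D207221 : act 6 n130618 = n207221 := rfl
theorem F443871 : act 3 n207221 = n189546 := d7_1 D207221 (iv6 F376833) (iv3 F374363)
theorem F443872 : act 4 n207221 = n203807 := d10_1 D207221 (iv6 D203807) (iv4 F209196)
theorem F443873 : act 5 n207221 = n186402 := d21_6 (iv5 D90489) (iv1 F138962) D187561 (iv6 F398973) F398976 D207221 (iv1 D186402) (iv5 F154813) (iv6 D100706) (iv1 F351317)
theorem F443874 : act 0 n152397 = n207221 := d21_4 (iv5 F86802) F83810 (iv5 F108387) D152397 (iv6 D207221) (iv5 D130618) F187378 (iv5 F394182) F394180 F335354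
def n207222 : Q := act 5 n130619
theorem D207222 : act 5 n130619 = n207222 := rfl
theorem F443875 : act 2 n207222 = n205317 := d2_1 D207222 F435918 F420648
theorem F443876 : act 3 n207222 = n189547 := d6_1 D207222 (iv5 F443869) F443867
theorem F443877 : act 6 n207222 = n186402 := d12_2 D130619 D207222 (iv5 F443873) (iv6 D207221) (iv5 D130618)
theorem F443878 : act 4 n207222 = n136269 := d16_2 (iv4 F209197) D207222 (iv5 D136269) F99661 F93106 (iv4 F166220) D197081 F402965 F178686
theorem F443879 : act 0 n207222 = n199860 := d17_2 F379828 D207222 F413843 (iv4 F345024) F216450 F179243 (iv5 F209269) (iv0 F218307) F379827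
theorem F443880 : act 1 n207222 = n199857 := d15_1 (iv0 F443879) (iv7 F414678) F414677
def n207223 : Q := act 7 n130619
theorem D207223 : act 7 n130619 = n207223 := rfl
theorem F443881 : act 3 n207223 = n189753 := d8_1 D207223 (iv7 F443870) F443867
theorem F443882 : act 4 n207223 = n130622 := d11_1 D207223 (iv7 D130622) (iv4 F209197)
theorem F443883 : act 6 n207223 = n189750 := d14_1 D207223 F377614 (iv6 D133406) F97659 D130619
def n207224 : Q := act 6 n130621
theorem D207224 : act 6 n130621 = n207224 := rfl
theorem F443884 : act 3 n207224 = n200440 := d7_1 D207224 F416437 F378529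
theorem F443885 : act 4 n207224 = n133407 := d10_1 D207224 F378540 F378536
theorem F443886 : act 0 n152451 = n207224 := d21_4 (iv5 F432017) F432018 (iv5 D201178) (iv6 F239640) (iv6 D207224) F363783 F168418 (iv5 F218426) F362432 (iv1 F210003)
def n207225 : Q := act 6 n130625
theorem D207225 : act 6 n130625 = n207225 := rfl
theorem F443887 : act 2 n207225 = n130626 := d3_1 D207225 (iv6 D130626) D130625
theorem F443888 : act 3 n207225 = n189617 := d7_1 D207225 (iv6 F377130) F214415
theorem F443889 : act 0 n207225 = n190521 := d21_4 (iv5 F352935) (iv1 F329297) F329300 D207225 (iv6 D190521) F356265 (iv1 F283182) F352885 (iv6 D131140) (iv1 F352939)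
def n207226 : Q := act 1 n130626
theorem D207226 : act 1 n130626 = n207226 := rfl
theorem F443890 : act 7 n207226 = n190521 := d15_2 (iv0 F382684) D207226 (iv2 F382680)
theorem F443891 : act 4 n189484 = n207226 := d11_3 F443890 F379986 (iv7 F376670)
theorem F443892 : act 5 n207226 = n163288 := d17_5 (iv1 D92348) F293659 D93983 D189484 F443891 (iv0 D163288) (iv5 F297237) (iv0 F373811) (iv4 D188525)
theorem F443893 : act 7 n163288 = n190924 := d13_2 (iv7 F443890) F443892 F381563
def n207227 : Q := act 5 n130626
theorem D207227 : act 5 n130626 = n207227 := rfl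
theorem F443894 : act 3 n207227 = n130629 := d6_1 D207227 (iv5 D130629) (iv3 F209200)
theorem F443895 : act 6 n207227 = n193677 := d12_2 D130626 D207227 F390664 F329599 (iv5 F95778)
theorem F443896 : act 4 n194912 = n207227 := d10_3 F443895 F390663 D194912
def n207228 : Q := act 7 n130626
theorem D207228 : act 7 n130626 = n207228 := rfl
theorem F443897 : act 3 n207228 = n130630 := d8_1 D207228 (iv7 D130630) (iv3 F209200)
theorem F443898 : act 4 n207228 = n189753 := d11_1 D207228 (iv7 F443870) F443868
theorem F443899 : act 6 n207228 = n189751 := d14_1 D207228 F377618 (iv6 D133418) F97670 D130626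
theorem F443900 : act 0 n190521 = n207228 := d21_4 (iv5 D185956) (iv1 F283181) (iv5 F356265) D190521 F443899 F377619 (iv1 D186758) D186759 F367905 F294894
def n207229 : Q := act 3 n130627
theorem D207229 : act 3 n130627 = n207229 := rfl
theorem F443901 : act 4 n207229 = n190486 := d5_2 F365039 D207229 (iv3 F380433) (iv4 F380437) F377650
theorem F443902 : act 6 n207229 = n190495 := d7_2 (iv6 F365037) D207229 (iv3 D190495)
theorem F443903 : act 0 n190210 = n207229 := d18_2 (iv1 F294041) D190210 F443901 F379879 (iv4 F373598) F370206 (iv4 D185626) (iv0 D88427) D88430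
def n207230 : Q := act 5 n130627
theorem D207230 : act 5 n130627 = n207230 := rfl
theorem F443904 : act 2 n207230 = n190044 := d2_1 D207230 F378634 F365038
theorem F443905 : act 6 n207230 = n159818 := d12_2 (iv6 F365037) D207230 F251859 F251860 (iv5 F251775)
def n207231 : Q := act 3 n130628
theorem D207231 : act 3 n130628 = n207231 := rfl
theorem F443906 : act 6 n207231 = n206569 := d7_2 F441495 D207231 (iv3 F441493)
theorem F443907 : act 0 n207231 = n200375 := d21_4 D206405 F440634 D206569 (iv6 F443906) (iv6 D200375) (iv5 F405865) (iv1 F214409) (iv5 F415675) F440626 (iv1 D206404)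
def n207232 : Q := act 5 n130628
theorem D207232 : act 5 n130628 = n207232 := rfl
theorem F443908 : act 6 n207232 = n190258 := d12_2 F441495 D207232 F395244 (iv6 F395243) D206597
theorem F443909 : act 7 n207232 = n190044 := d13_2 (iv7 F365040) D207232 F378634
def n207233 : Q := act 0 n130629
theorem D207233 : act 0 n130629 = n207233 := rfl
def n207234 : Q := act 1 n130629
theorem D207234 : act 1 n130629 = n207234 := rfl
def n207235 : Q := act 4 n130629
theorem D207235 : act 4 n130629 = n207235 := rfl
theorem F443910 : act 2 n207235 = n198742 := d1_1 D207235 F409039 F214429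
theorem F443911 : act 3 n207235 = n187229 := d5_1 D207235 F369569 (iv3 F394973) F443896 F443894
theorem F443912 : act 6 n207235 = n187268 := d10_2 (iv6 F209201) D207235 (iv4 F369663)
theorem F443913 : act 5 n207235 = n166679 := d16_3 (iv4 F95779) D130629 D207235 (iv4 F262325) (iv5 F415231) F415230 (iv5 F175841) (iv7 D112911) F82381
theorem F443914 : act 7 n187277 = n207235 := d13_0 F443913 F262326 (iv5 F369686)
theorem F443915 : act 1 n163249 = n207235 := d17_6 (iv1 F377835) (iv5 F417072) (iv1 F417074) (iv5 F364802) F146893 D163249 F443913 F262330 (iv4 F267335)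
def n207236 : Q := act 7 n130629
theorem D207236 : act 7 n130629 = n207236 := rfl
theorem F443916 : act 4 n207236 = n187277 := d11_1 D207236 F443914 (iv4 D207235)
theorem F443917 : act 5 n207236 = n130630 := d13_1 D207236 (iv7 D130630) D130629
def n207237 : Q := act 5 n130631
theorem D207237 : act 5 n130631 = n207237 := rfl
theorem F443918 : act 2 n207237 = n194769 := d2_1 D207237 F394388 F238573
theorem F443919 : act 3 n207237 = n130633 := d6_1 D207237 (iv5 D130633) D130631
theorem F443920 : act 6 n207237 = n187740 := d12_2 (iv6 F372534) D207237 F371382 F369176 D188166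
theorem F443921 : act 7 n207237 = n201148 := d13_2 F238574 D207237 F419271
theorem F443922 : act 4 n193999 = n207237 := d11_3 F443921 F419270 (iv7 F391718)
theorem F443923 : act 0 n207237 = n135634 := d20_1 F443922 (iv4 F396069) F396071 (iv1 D148745) (iv3 F143117) F324721 F323386 F157536 (iv3 F157530) D193999
theorem F443924 : act 0 n201092 = n207237 := d20_1 (iv4 F419061) (iv4 F443922) (iv3 F398065) (iv1 F398066) (iv3 D113690) D113691 F288401 F93399 (iv3 F161550) F371386
def n207238 : Q := act 5 n130632
theorem D207238 : act 5 n130632 = n207238 := rfl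
theorem F443925 : act 2 n207238 = n190280 := d2_1 D207238 F379263 F376515
theorem F443926 : act 3 n207238 = n190237 := d6_1 D207238 F379152 F364268
theorem F443927 : act 6 n207238 = n159771 := d12_2 F331412 D207238 (iv5 D159771) F292587 D186066
theorem F443928 : act 7 n207238 = n198736 := d13_2 F415757 D207238 (iv5 F415758)
theorem F443929 : act 4 n207238 = n166681 := d16_2 D130632 D207238 (iv5 D166681) (iv4 F146925) F364714 (iv4 F364708) (iv5 D130635) F157673 F157672
theorem F443930 : act 1 n190280 = n194765 := d15_0 (iv0 F409026) (iv7 F443928) F443925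
def n207239 : Q := act 3 n130634
theorem D207239 : act 3 n130634 = n207239 := rfl
def n207240 : Q := act 5 n130634
theorem D207240 : act 5 n130634 = n207240 := rfl
theorem F443931 : act 2 n207240 = n198736 := d2_1 D207240 (iv5 F415758) F415756
theorem F443932 : act 7 n207240 = n190280 := d13_2 (iv7 F376518) D207240 F379263
def n207241 : Q := act 6 n130634
theorem D207241 : act 6 n130634 = n207241 := rfl
theorem F443933 : act 4 n207241 = n130636 := d10_1 D207241 (iv6 D130636) D130634
theorem F443934 : act 5 n198529 = n207241 := d21_2 F419773 (iv1 F413956) (iv6 D207241) F376519 (iv6 D74768) (iv5 D34258) (iv1 F46627) D61251 D130546 F419774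
theorem F443935 : act 0 n200450 = n207241 := d19_0 (iv5 F443934) (iv4 F436617) (iv3 D205480) (iv1 F202830) F330428 F206818 (iv3 D62497) (iv1 F93594) F93592 (iv4 F93637) (iv3 F203427) (iv1 F203431) F203411 (iv4 F399846) (iv3 F399847) (iv1 F213162) D132908 (iv4 F370124) (iv3 F416464)
def n207242 : Q := act 0 n130636
theorem D207242 : act 0 n130636 = n207242 := rfl
theorem F443936 : act 5 n207242 = n159352 := d21_2 F375208 D207242 (iv6 F396528) (iv1 F396530) (iv6 D114911) (iv5 F87469) (iv1 F178447) (iv5 F179099) D201714 F421516
theorem F443937 : act 2 n201778 = n207242 := d15_3 (iv0 D207242) (iv0 F421546) (iv7 F421776)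
theorem F443938 : act 7 n207242 = n201781 := d4_2 (iv7 F421776) F443937 F421785
def n207243 : Q := act 6 n130642
theorem D207243 : act 6 n130642 = n207243 := rfl
theorem F443939 : act 2 n207243 = n130644 := d3_1 D207243 (iv6 D130644) D130642
theorem F443940 : act 4 n207243 = n206895 := d10_1 D207243 (iv6 D206895) (iv4 F209216)
theorem F443941 : act 5 n207243 = n201533 := d12_1 D207243 (iv6 D201533) (iv5 D114792) D114793 (iv5 F335150)
def n207244 : Q := act 0 n130644
theorem D207244 : act 0 n130644 = n207244 := rfl
theorem F443942 : act 5 n207244 = n201561 := d19_1 D207244 F431378 (iv3 F431377) (iv1 F394107) F394102 F338492 F125590 (iv1 F315254) F103942 (iv4 F205880) F315783 (iv1 D65622) (iv5 D30746) F24230 (iv3 F24025) F48446 F48445 (iv4 F95786) (iv3 F209218)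
theorem F443943 : act 6 n207244 = n201870 := d21_5 F338624 (iv1 F233096) F322396 D130644 D207244 (iv5 D201870) (iv1 F179444) F179441 (iv6 F179294) (iv1 F179296)
theorem F443944 : act 3 n201792 = n207244 := d6_3 F443942 F431379 D201792
def n207245 : Q := act 1 n130644
theorem D207245 : act 1 n130644 = n207245 := rfl
theorem F443945 : act 3 n187744 = n207245 := d20_3 (iv4 D90535) D90533 D187744 (iv1 D207245) F209218 F95786 D61301 D130650 F371403 (iv1 D187751)
theorem F443946 : act 6 n202949 = n207245 := d21_3 F422101 (iv1 F384611) (iv5 F426332) (iv1 D207245) (iv6 D130644) (iv5 F322396) F338622 F328238 D115142 D201861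
theorem F443947 : act 5 n207245 = n201562 := d12_1 F443946 F431373 (iv5 F377300) (iv6 F384609) (iv5 F426332)
def n207246 : Q := act 5 n130644
theorem D207246 : act 5 n130644 = n207246 := rfl
theorem F443948 : act 2 n207246 = n201533 := d2_1 D207246 (iv5 F443941) F443939
theorem F443949 : act 3 n207246 = n130648 := d6_1 D207246 (iv5 D130648) (iv3 F209218)
theorem F443950 : act 6 n207246 = n201456 := d12_2 D130644 D207246 (iv5 D201456) F355270 F322396
theorem F443951 : act 1 n207246 = n135650 := d17_6 (iv1 D205615) F345882 F442548 (iv5 D206898) (iv4 F209219) D207246 (iv5 D135650) D135649 F437231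
def n207247 : Q := act 7 n130644
theorem D207247 : act 7 n130644 = n207247 := rfl
theorem F443952 : act 3 n207247 = n130649 := d8_1 D207247 (iv7 D130649) (iv3 F209218)
theorem F443953 : act 4 n207247 = n206899 := d11_1 D207247 (iv7 D206899) (iv4 F209219)
theorem F443954 : act 6 n207247 = n130952 := d14_1 D207247 F209561 F179794 F97676 D130644
def n207248 : Q := act 5 n130646
theorem D207248 : act 5 n130646 = n207248 := rfl
theorem F443955 : act 2 n207248 = n201063 := d2_1 D207248 F418952 (iv2 F214585)
theorem F443956 : act 3 n207248 = n157729 := d6_1 D207248 (iv5 F396419) F396418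
theorem F443957 : act 6 n207248 = n157726 := d12_2 F338635 D207248 (iv5 D157726) (iv6 F338634) F338630
theorem F443958 : act 7 n207248 = n201064 := d13_2 (iv7 F214584) D207248 F418956
theorem F443959 : act 0 n207248 = n135570 := d17_2 D130646 D207248 (iv5 D135570) (iv4 D63744) D63745 (iv0 F99550) F99548 (iv0 D61301) (iv4 F95786)
theorem F443960 : act 1 n207248 = n135573 := d17_6 (iv1 F203337) (iv5 F397227) F397229 F328415 (iv4 F209220) D207248 (iv5 D135573) F100272 (iv4 F203336)
def n207249 : Q := act 3 n130647
theorem D207249 : act 3 n130647 = n207249 := rfl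
theorem F443961 : act 2 n207249 = n188776 := d0_1 D207249 (iv3 F395902) F395901 (iv3 F363899) F214587
theorem F443962 : act 4 n207249 = n187770 := d5_2 (iv4 F214589) D207249 F371450 F217069 (iv3 F216204)
theorem F443963 : act 6 n207249 = n185771 := d7_2 (iv6 F214590) D207249 (iv3 F363904)
theorem F443964 : act 5 n151345 = n207249 := d12_5 F443963 F376461 (iv6 D189356) F360969 (iv6 F238058)
def n207250 : Q := act 5 n130647
theorem D207250 : act 5 n130647 = n207250 := rfl
theorem F443965 : act 2 n207250 = n201064 := d2_1 D207250 F418956 F214587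
theorem F443966 : act 3 n207250 = n151345 := d6_1 D207250 F443964 (iv3 D207249)
theorem F443967 : act 7 n207250 = n201063 := d13_2 (iv7 F214586) D207250 F418952
theorem F443968 : act 0 n207250 = n135573 := d17_2 (iv1 F214596) D207250 (iv5 D135573) (iv4 D63748) (iv5 F48900) (iv0 F99924) F99923 F97696 (iv4 F214594)
theorem F443969 : act 1 n207250 = n135570 := d17_6 D106579 D196047 F441153 (iv5 D206513) (iv4 F214589) D207250 (iv5 D135570) F100274 (iv4 F77813)
theorem F443970 : act 6 n207250 = n151351 := d21_3 F218379 (iv1 F214596) D207250 (iv1 F388813) F432771 F432768 F209997 (iv5 F387421) F387424 (iv1 F218377)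
def n207251 : Q := act 4 n130648
theorem D207251 : act 4 n130648 = n207251 := rfl
theorem F443971 : act 2 n207251 = n148533 := d1_1 D207251 F339350 F214591
theorem F443972 : act 6 n207251 = n148518 := d10_2 F339349 D207251 F339221
theorem F443973 : act 5 n207251 = n193672 := d16_1 D207251 (iv4 D193672) (iv5 D102211) (iv4 F328996) (iv5 F97693) (iv4 F214594) (iv5 F218379) F218378 F214591
theorem F443974 : act 0 n207251 = n131161 := d18_2 (iv1 F209221) D207251 F352115 F218006 F99104 F48350 D63549 F100304 D63850
theorem F443975 : act 1 n207251 = n135231 := d18_6 (iv1 F214634) (iv4 D130651) (iv1 D61302) (iv4 F95786) D130648 D207251 (iv4 D135231) D135230 F217414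
theorem F443976 : act 4 n204228 = n204538 := d20_6 (iv4 D207251) F218056 (iv4 F387433) F387432 D192672 F431567 (iv1 F432828) (iv4 F431510) F431509 (iv1 F443975)
theorem F443977 : act 2 n204538 = n204642 := d1_1 F443976 (iv4 D204642) F431564
theorem F443978 : act 7 n204538 = n204646 := d11_2 (iv7 F431566) F443976 (iv4 D204646)
theorem F443979 : act 2 n204646 = n204539 := d15_3 F432823 F432828 F443978
theorem F443980 : act 7 n204642 = n204539 := d4_2 (iv7 F443978) F443977 (iv2 F443979)
theorem F443981 : act 1 n204642 = n204211 := d15_0 F433117 (iv7 F443978) F443977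
theorem F443982 : act 1 n204541 = n204642 := d15_0 F443981 F431499 (iv2 F432824)
theorem F443983 : act 4 n204539 = n199079 := d11_1 F443980 (iv7 F410565) D204642
theorem F443984 : act 6 n199077 = n204539 := d10_0 F443983 (iv6 D199079) D199077
def n207252 : Q := act 4 n130652
theorem D207252 : act 4 n130652 = n207252 := rfl
theorem F443985 : act 2 n207252 = n191130 := d1_1 D207252 F382344 F216632
theorem F443986 : act 3 n207252 = n186976 := d5_1 D207252 (iv4 D186976) (iv3 F368701) (iv4 F418852) F418851
theorem F443987 : act 5 n207252 = n163474 := d9_2 (iv5 F335834) D207252 F332552 F332547 F204884 (iv5 F106608) (iv4 F335815) (iv5 F335820) (iv4 F442065) F442066 (iv4 F361102) (iv5 F332543) F204926 F313240 (iv4 F348999)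
theorem F443988 : act 7 n207252 = n191132 := d11_2 (iv7 F216633) D207252 F382348
theorem F443989 : act 0 n207252 = n200738 := d17_0 F417721 F382199 (iv5 D132071) (iv4 F211592) F321099 D176368 (iv5 F363737) F214573 D207252
theorem F443990 : act 1 n207252 = n196110 := d18_6 (iv1 F382149) F382147 (iv1 F150007) (iv4 F348999) (iv5 F335834) D207252 (iv4 F418626) (iv0 D200985) (iv5 F177505)
theorem F443991 : act 6 n207252 = n190553 := d21_5 (iv5 D126192) (iv1 F93351) D113390 (iv6 F399454) (iv1 F443990) F380124 F380018 F364570 (iv6 D126280) (iv1 F358831)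
def n207253 : Q := act 6 n130652
theorem D207253 : act 6 n130652 = n207253 := rfl
theorem F443992 : act 3 n207253 = n190552 := d7_1 D207253 (iv6 F418853) F418851
theorem F443993 : act 4 n207253 = n190553 := d10_1 D207253 (iv6 F443991) (iv4 D207252)
theorem F443994 : act 0 n207253 = n190401 := d21_4 D53157 D115214 (iv5 F335834) D207253 (iv6 F379744) (iv5 D190421) D190420 (iv5 F379739) (iv6 D115210) (iv1 D53155)
theorem F443995 : act 0 n130714 = n207253 := d21_4 (iv5 F335843) (iv1 D142853) D142854 (iv6 F365567) (iv6 D207253) F335834 F348998 F338620 (iv6 F218499) (iv1 F218502)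
def n207254 : Q := act 6 n130654
theorem D207254 : act 6 n130654 = n207254 := rfl
theorem F443996 : act 2 n207254 = n130656 := d3_1 D207254 (iv6 D130656) D130654
theorem F443997 : act 3 n207254 = n135787 := d7_1 D207254 (iv6 F355277) F214558
theorem F443998 : act 4 n207254 = n196702 := d10_1 D207254 F401534 F398774
theorem F443999 : act 0 n207254 = n135823 := d21_4 D115204 D201885 F422213 D207254 (iv6 D135823) (iv5 D63865) (iv1 F48432) (iv5 D30129) (iv6 F40735) D53154
theorem F444000 : act 1 n207254 = n200735 := d15_1 (iv0 F443999) F417706 F417292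
def n207255 : Q := act 5 n130656
theorem D207255 : act 5 n130656 = n207255 := rfl
theorem F444001 : act 3 n207255 = n130659 := d6_1 D207255 (iv5 D130659) (iv3 F209226)
theorem F444002 : act 7 n207255 = n183144 := d13_2 F218238 D207255 F416547
theorem F444003 : act 4 n207255 = n183148 := d16_4 (iv4 F353615) F342868 (iv4 F209227) D207255 F359699 (iv4 F231386) (iv5 F436397) F436398 F416543
def n207256 : Q := act 5 n130657
theorem D207256 : act 5 n130657 = n207256 := rfl
theorem F444004 : act 2 n207256 = n202241 := d2_1 D207256 F423367 F214566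
theorem F444005 : act 6 n207256 = n130659 := d12_2 D130657 D207256 (iv5 D130659) (iv6 D61306) D61305
theorem F444006 : act 0 n207256 = n203340 := d17_2 F412736 D207256 (iv5 D203340) (iv4 F347793) (iv5 F403532) F403534 (iv5 F403010) (iv0 F403011) D199576
def n207257 : Q := act 5 n130658
theorem D207257 : act 5 n130658 = n207257 := rfl
theorem F444007 : act 2 n207257 = n202239 := d2_1 D207257 (iv5 D202239) F209231
theorem F444008 : act 3 n207257 = n201150 := d6_1 D207257 F419278 F418806
theorem F444009 : act 4 n207257 = n199017 := d9_1 D207257 F410339 (iv4 F401339) F401337 F245028 F167005 (iv4 F203473) D205709 F437514 (iv5 D141416) (iv4 F224446) F330542 F245179 F211298 (iv4 F209230)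
theorem F444010 : act 7 n207257 = n131869 := d13_2 (iv7 F209229) D207257 (iv5 D131869)
theorem F444011 : act 0 n207257 = n201080 := d17_2 (iv1 F209228) D207257 (iv5 D201080) F363759 F99243 F99214 F99212 F48394 D61439
theorem F444012 : act 1 n207257 = n201082 := d17_6 (iv1 F419008) F419011 F211300 F211298 (iv4 F209230) D207257 (iv5 D201082) F363779 F218157
theorem F444013 : act 6 n207257 = n201550 := d21_3 (iv5 D130953) (iv1 F209228) D207257 (iv1 D201550) (iv6 D114804) (iv5 D52974) (iv1 F40631) D33285 D72091 (iv1 F363795)
def n207258 : Q := act 4 n130659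
theorem D207258 : act 4 n130659 = n207258 := rfl
theorem F444014 : act 2 n207258 = n202240 := d1_1 D207258 (iv4 D202240) (iv2 F209232)
theorem F444015 : act 7 n207258 = n202225 := d11_2 F218240 D207258 F423311
theorem F444016 : act 5 n207258 = n202226 := d16_1 D207258 F423314 F179782 F84118 F48393 D61439 D130953 F209562 (iv2 F209232)
def n207259 : Q := act 4 n130661
theorem D207259 : act 4 n130661 = n207259 := rfl
theorem F444017 : act 5 n207259 = n193824 := d9_2 F347381 D207259 F391106 (iv5 F333215) (iv4 F389530) F389531 F177706 D114107 (iv4 F418855) (iv5 F418856) F391103 (iv5 D133454) (iv4 F98314) (iv5 F329683) F198027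
theorem F444018 : act 7 n207259 = n201284 := d11_2 (iv7 F347371) D207259 (iv4 D201284)
theorem F444019 : act 0 n207259 = n201287 := d17_0 (iv5 D201287) (iv1 F419852) F419851 F374658 F143000 (iv0 F355356) (iv5 D130664) D130661 D207259
theorem F444020 : act 1 n207259 = n190736 := d18_6 (iv1 F364190) (iv4 F419395) (iv1 F419400) F198027 F347381 D207259 (iv4 F418766) F418769 (iv5 F251178)
theorem F444021 : act 3 n207259 = n201657 := d20_3 F216162 (iv1 F214609) D207259 F421268 F328676 (iv4 F328677) F326569 F94007 (iv3 F100516) (iv1 F347386)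
theorem F444022 : act 6 n183482 = n207259 := d7_0 F444021 F421266 F367651
def n207260 : Q := act 6 n130661
theorem D207260 : act 6 n130661 = n207260 := rfl
theorem F444023 : act 2 n207260 = n189565 := d3_1 D207260 F376904 (iv2 F355684)
theorem F444024 : act 4 n207260 = n183482 := d10_1 D207260 F444022 (iv4 D207259)
theorem F444025 : act 5 n207260 = n189275 := d12_1 D207260 F399866 F399861 (iv6 F178093) F347381
theorem F444026 : act 7 n207260 = n187656 := d14_2 (iv7 F347371) D207260 (iv6 D187656) (iv7 F142972) (iv6 F178091)
theorem F444027 : act 0 n207260 = n130701 := d21_4 (iv5 F336942) F336935 F347381 D207260 (iv6 F214060) (iv5 F367058) F365434 (iv5 F371154) F371155 (iv1 F217439)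
def n207261 : Q := act 4 n130664
theorem D207261 : act 4 n130664 = n207261 := rfl
theorem F444028 : act 2 n207261 = n193824 := d1_1 D207261 F391106 F357123
theorem F444029 : act 3 n207261 = n158963 := d5_1 D207261 (iv4 F403150) (iv3 D197124) F166302 (iv3 F209235)
theorem F444030 : act 6 n207261 = n201656 := d10_2 (iv6 F357122) D207261 F421260
theorem F444031 : act 7 n207261 = n193823 := d11_2 F214611 D207261 F391103
theorem F444032 : act 0 n207261 = n187448 := d18_2 (iv1 F374126) D207261 F370374 F145319 (iv4 F159998) F364200 (iv4 F98897) D135245 (iv5 F374124)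
theorem F444033 : act 1 n207261 = n193825 := d18_8 F374659 F374658 F332260 (iv4 F394445) F394444 F370355 (iv0 F355356) D207261 F391112
def n207262 : Q := act 4 n130668
theorem D207262 : act 4 n130668 = n207262 := rfl
theorem F444034 : act 1 n207262 = n135598 := d18_6 (iv1 F214581) F214582 (iv1 F329389) F329391 D130668 D207262 (iv4 D135598) D135597 (iv5 F218054)
theorem F444035 : act 3 n207262 = n204955 := d20_9 (iv4 F434326) F434328 (iv4 F394059) F394058 (iv1 F431513) F431509 (iv4 D135231) (iv1 F209237) D207262 (iv1 D204955)
def n207263 : Q := act 0 n130674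
theorem D207263 : act 0 n130674 = n207263 := rfl
theorem F444036 : act 5 n207263 = n197808 := d17_3 (iv1 F205616) (iv5 F333213) D207263 (iv4 D197808) (iv5 F405453) (iv0 D197706) (iv5 F169064) (iv0 F405796) (iv4 F405798)
theorem F444037 : act 3 n207263 = n202946 := d20_5 (iv4 F203479) (iv1 F203481) (iv4 F95796) (iv3 F209240) D207263 F426313 (iv1 F426317) F401536 (iv3 D135727) (iv1 F179793)
theorem F444038 : act 6 n207263 = n130922 := d21_5 (iv5 D114088) D114086 F333212 D130674 D207263 F326586 (iv1 F342936) F332609 (iv6 F332587) (iv1 F177666)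
theorem F444039 : act 1 n201340 = n207263 := d15_0 (iv0 D207263) (iv7 F218225) (iv2 F420072)
theorem F444040 : act 2 n200995 = n207263 := d3_3 F444038 (iv2 F343653) D200995
def n207264 : Q := act 1 n130674
theorem D207264 : act 1 n130674 = n207264 := rfl
theorem F444041 : act 1 n207264 = n201340 := d15_1 D207264 F420073 F419321
theorem F444042 : act 7 n207264 = n200995 := d15_2 (iv0 D207263) D207264 F444040
theorem F444043 : act 3 n201000 = n207264 := d20_3 F418800 D205413 F436295 (iv1 D207264) F209240 F95796 F93937 (iv4 F96460) (iv3 F324335) D201027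
theorem F444044 : act 5 n197812 = n207264 := d21_0 (iv1 D207264) F333213 (iv6 F205416) (iv1 D127776) D127778 F205420 F205514 F205513 D201356 F420131
theorem F444045 : act 6 n207196 = n207264 := d21_3 F106102 D130599 D207196 (iv1 D207264) (iv6 D130674) (iv5 F333212) (iv1 F179026) F358366 F358368 (iv1 D148780)
def n207265 : Q := act 5 n130680
theorem D207265 : act 5 n130680 = n207265 := rfl
theorem F444046 : act 3 n207265 = n200924 := d6_1 D207265 F418409 F418320
theorem F444047 : act 1 n207265 = n132789 := d17_6 (iv1 F442899) F354971 (iv1 D86329) D86330 (iv4 F318981) D207265 (iv5 D132789) D132788 (iv4 F442897)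
def n207266 : Q := act 5 n130684
theorem D207266 : act 5 n130684 = n207266 := rfl
theorem F444048 : act 3 n207266 = n203471 := d6_1 D207266 (iv5 F428443) (iv3 F367913)
theorem F444049 : act 6 n207266 = n192786 := d12_2 D130684 D207266 F387769 F355114 (iv5 F316622)
theorem F444050 : act 4 n207266 = n140558 := d16_2 (iv4 F209254) D207266 (iv5 D140558) (iv4 F182481) (iv5 F411111) F411110 (iv5 F438815) F438816 (iv2 F317509)
theorem F444051 : act 0 n207266 = n200967 := d17_2 F365176 D207266 (iv5 D200967) F354327 (iv5 F322267) (iv0 D126719) F330915 D130805 (iv4 F365175)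
def n207267 : Q := act 7 n130684
theorem D207267 : act 7 n130684 = n207267 := rfl
theorem F444052 : act 2 n207267 = n130938 := d4_1 D207267 F365180 F214643
theorem F444053 : act 3 n207267 = n135221 := d8_1 D207267 F371311 (iv3 F367913)
theorem F444054 : act 4 n207267 = n132479 := d11_1 D207267 (iv7 F359751) (iv4 F209254)
theorem F444055 : act 6 n207267 = n187728 := d14_1 D207267 F371336 (iv6 D133469) F209658 D130684
theorem F444056 : act 1 n130941 = n207267 := d15_1 F366069 (iv7 D207267) (iv2 F214643)
theorem F444057 : act 1 n207267 = n130935 := d15_1 F444056 (iv7 F365177) (iv2 F365178)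
def n207268 : Q := act 4 n130691
theorem D207268 : act 4 n130691 = n207268 := rfl
theorem F444058 : act 2 n207268 = n132344 := d1_1 D207268 (iv4 F418537) (iv2 F418538)
theorem F444059 : act 6 n207268 = n206797 := d10_2 (iv6 F398490) D207268 (iv4 F442223)
theorem F444060 : act 7 n207268 = n158796 := d11_2 (iv7 F397820) D207268 (iv4 F397817)
theorem F444061 : act 0 n207268 = n158798 := d18_2 D130691 D207268 (iv4 F374849) F374850 (iv4 F369378) F289102 (iv4 F369288) F369291 F365939
theorem F444062 : act 5 n207268 = n204708 := d18_4 (iv1 D61365) (iv4 F95802) D130691 D207268 (iv4 D204708) (iv0 D124242) F299011 F330896 (iv5 D130820)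
theorem F444063 : act 0 n158220 = n207268 := d20_10 (iv4 D207268) (iv1 F366055) F366056 (iv3 F214234) (iv1 F214237) D133276 F344346 (iv1 F218994) (iv4 F327314) F365901
def n207269 : Q := act 5 n130691
theorem D207269 : act 5 n130691 = n207269 := rfl
theorem F444064 : act 2 n207269 = n207093 := d2_1 D207269 F443283 (iv2 F418538)
theorem F444065 : act 3 n207269 = n200351 := d6_1 D207269 F416103 (iv3 F365046)
theorem F444066 : act 7 n207269 = n207092 := d13_2 (iv7 F397820) D207269 F443277
theorem F444067 : act 0 n207269 = n207086 := d17_2 D130691 D207269 (iv5 D207086) F208636 D130130 (iv0 F330894) F330889 (iv0 D61364) (iv4 F95802)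
theorem F444068 : act 1 n207269 = n207095 := d17_6 (iv1 F366376) (iv5 F363808) (iv1 F433341) (iv5 F444062) (iv4 D207268) D207269 F443292 F377697 F377695
theorem F444069 : act 6 n207269 = n188164 := d21_3 F365939 D130691 D207269 (iv1 D188164) (iv6 D90995) (iv5 D42622) F291179 D20986 D44144 D94453
def n207270 : Q := act 5 n130692
theorem D207270 : act 5 n130692 = n207270 := rfl
theorem F444070 : act 2 n207270 = n207092 := d2_1 D207270 F443277 F397815
theorem F444071 : act 7 n207270 = n207093 := d13_2 F418536 D207270 F443283
theorem F444072 : act 0 n207270 = n207095 := d17_2 (iv1 F366057) D207270 F443292 F208661 F324233 F330896 (iv5 D130820) F209367 (iv4 F366056)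
theorem F444073 : act 1 n207270 = n207086 := d17_6 F366373 F377699 (iv1 D165937) D165939 F366058 D207270 (iv5 D207086) (iv0 F366225) (iv4 F288116)
def n207271 : Q := act 7 n130696
theorem D207271 : act 7 n130696 = n207271 := rfl
theorem F444074 : act 2 n207271 = n201257 := d4_1 D207271 F419702 F214666
theorem F444075 : act 4 n207271 = n197619 := d11_1 D207271 (iv7 D197619) (iv4 F209263)
theorem F444076 : act 5 n207271 = n147403 := d13_1 D207271 F231127 (iv5 F326630)
theorem F444077 : act 1 n164342 = n207271 := d15_1 F346156 (iv7 D207271) (iv2 F214666)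
theorem F444078 : act 1 n207271 = n164337 := d15_1 F444077 F347677 F359852
def n207272 : Q := act 4 n130699
theorem D207272 : act 4 n130699 = n207272 := rfl
theorem F444079 : act 2 n207272 = n197163 := d1_1 D207272 F403343 (iv2 F327119)
theorem F444080 : act 5 n207272 = n204195 := d9_2 D130699 D207272 (iv4 D204195) F344173 (iv4 F332318) (iv5 D152437) F108418 D71912 D152451 (iv5 F431430) (iv4 D204193) F344170 D171092 F332323 F166374
theorem F444081 : act 6 n207272 = n130708 := d10_2 (iv6 F209264) D207272 (iv4 D130708)
theorem F444082 : act 7 n207272 = n164228 := d11_2 (iv7 F327120) D207272 (iv4 D164228)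
theorem F444083 : act 1 n207272 = n207224 := d18_6 D79005 (iv4 F283772) (iv1 F325425) F166374 D130699 D207272 F443885 (iv0 D133407) F97662
theorem F444084 : act 3 n207242 = n207272 := d8_3 F444082 (iv3 F421786) (iv7 F443938)
def n207273 : Q := act 2 n130701
theorem D207273 : act 2 n130701 = n207273 := rfl
theorem F444085 : act 3 n207273 = n159574 := d0_2 D130701 D207273 F399936 (iv3 F399937) F179241
theorem F444086 : act 4 n207273 = n189092 := d1_2 F365734 D207273 F375718
theorem F444087 : act 6 n207273 = n207089 := d3_2 F214060 D207273 (iv2 F443268)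
theorem F444088 : act 1 n207273 = n189565 := d15_0 (iv0 F422026) F422025 D207273
theorem F444089 : act 1 n187656 = n207273 := d15_0 F444088 F376903 (iv2 F371122)
def n207274 : Q := act 5 n130701
theorem D207274 : act 5 n130701 = n207274 := rfl
theorem F444090 : act 3 n207274 = n130702 := d6_1 D207274 (iv5 D130702) D130701
theorem F444091 : act 1 n207274 = n189349 := d17_8 D189368 F376482 (iv1 F376897) (iv5 F376895) F376894 (iv5 F376294) (iv0 F367056) D207274 F376452
def n207275 : Q := act 5 n130703
theorem D207275 : act 5 n130703 = n207275 := rfl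
theorem F444092 : act 3 n207275 = n130704 := d6_1 D207275 (iv5 D130704) D130703
theorem F444093 : act 1 n207275 = n195992 := d17_8 (iv1 F440983) (iv5 D206470) (iv1 F206945) (iv5 F96583) (iv4 F164570) D196213 (iv0 F399922) D207275 (iv4 F436883)
def n207276 : Q := act 4 n130706
theorem D207276 : act 4 n130706 = n207276 := rfl
theorem F444094 : act 2 n207276 = n190464 := d1_1 D207276 (iv4 F379827) F218305
theorem F444095 : act 7 n207276 = n189555 := d11_2 F327570 D207276 F376872
theorem F444096 : act 5 n207276 = n199863 := d16_1 D207276 (iv4 D199863) F174532 (iv4 F174543) (iv5 F174540) F171904 (iv5 F209268) (iv7 F218306) F218305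
theorem F444097 : act 0 n207276 = n201475 := d17_0 (iv5 F435918) F435919 F428321 F428319 (iv5 D130704) F179250 F327027 F345014 D207276
theorem F444098 : act 1 n207276 = n207223 := d18_6 F168171 F48424 D61928 F168378 (iv5 F209267) D207276 F443882 F363788 (iv5 D135773)
theorem F444099 : act 6 n164226 = n207276 := d21_5 (iv5 D34299) (iv1 F54426) D35915 (iv6 F120064) D164226 F444096 F413852 (iv5 F210617) (iv6 D131399) F96259
def n207277 : Q := act 6 n130706
theorem D207277 : act 6 n130706 = n207277 := rfl
theorem F444100 : act 2 n207277 = n196021 := d3_1 D207277 F399098 F218305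
theorem F444101 : act 3 n207277 = n189270 := d7_1 D207277 F376274 (iv3 F365736)
theorem F444102 : act 4 n207277 = n164226 := d10_1 D207277 F444099 (iv4 D207276)
theorem F444103 : act 7 n207277 = n189264 := d14_2 F327570 D207277 (iv6 D189264) F144623 D94046
theorem F444104 : act 0 n133406 = n207277 := d21_4 D157393 (iv1 F314240) F314242 D133406 (iv6 D207277) F209267 (iv1 F99241) (iv5 F218328) F333580 F215038
def n207278 : Q := act 4 n130707
theorem D207278 : act 4 n130707 = n207278 := rfl
theorem F444105 : act 2 n207278 = n189555 := d1_1 D207278 F376872 F327568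
theorem F444106 : act 3 n207278 = n190460 := d5_1 D207278 (iv4 F399992) (iv3 D196232) (iv4 F354467) F365943
theorem F444107 : act 5 n207278 = n196935 := d9_2 (iv5 F209268) D207278 (iv4 F402359) F174554 (iv4 F174552) F174553 F168378 (iv5 F209267) D207276 F444096 (iv4 D199863) F174532 (iv4 F174543) (iv5 F174540) F171904
theorem F444108 : act 6 n207278 = n189554 := d10_2 (iv6 F345015) D207278 (iv4 D189554)
theorem F444109 : act 7 n207278 = n190464 := d11_2 F218306 D207278 (iv4 F379827)
theorem F444110 : act 0 n207278 = n207223 := d18_2 (iv1 F345013) D207278 F443882 (iv5 F328440) (iv4 D125760) (iv0 F170821) F170823 F179250 F327027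
theorem F444111 : act 1 n207278 = n201475 := d18_6 F168173 (iv4 F203500) (iv1 F203502) F171904 (iv5 F209268) D207278 F420649 F363755 (iv5 D135770)
def n207279 : Q := act 3 n130708
theorem D207279 : act 3 n130708 = n207279 := rfl
theorem F444112 : act 6 n207279 = n207242 := d7_2 F444081 D207279 F444084
theorem F444113 : act 7 n207279 = n201399 := d8_2 F379727 D207279 F420341
theorem F444114 : act 5 n195972 = n207279 := d13_3 F444113 F420343 F410116
theorem F444115 : act 0 n207279 = n133427 := d17_2 F398917 F444114 F398820 (iv4 F398819) (iv5 F347544) F365832 F294907 D97396 (iv4 F373521)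
def n207280 : Q := act 5 n130708
theorem D207280 : act 5 n130708 = n207280 := rfl
theorem F444116 : act 2 n207280 = n189685 := d2_1 D207280 (iv5 F379723) (iv2 F379725)
theorem F444117 : act 3 n207280 = n195972 := d6_1 D207280 F444114 (iv3 D207279)
theorem F444118 : act 4 n207280 = n189690 := d9_1 D207280 F377408 F174529 (iv5 F83843) (iv4 F179249) F327027 (iv4 F414704) (iv5 D200034) (iv4 D112262) (iv5 D51779) F39558 (iv5 F23075) (iv4 F46673) D61322 D130708
theorem F444119 : act 7 n207280 = n190438 := d13_2 F379727 D207280 (iv5 F379767)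
theorem F444120 : act 0 n207280 = n189997 := d17_2 (iv1 F379732) D207280 F378507 F364661 (iv5 D130713) (iv0 F171521) D197081 F402967 (iv4 F379730)
theorem F444121 : act 1 n207280 = n190439 := d17_6 (iv1 F209266) (iv5 D130704) (iv1 D61321) D61322 D130708 D207280 F379769 F333576 (iv4 D135767)
theorem F444122 : act 6 n207280 = n195970 := d21_3 (iv5 F379731) (iv1 F379732) D207280 F410030 (iv6 D198951) F171439 (iv1 F83699) D54589 (iv6 F333570) (iv1 F379667)
def n207281 : Q := act 3 n130710
theorem D207281 : act 3 n130710 = n207281 := rfl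

end Cfsg.Agent.Helper17.ONTC
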