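import Cfsg.Agent.Helper17.ONTC.Facts52

set_option autoImplicit false
set_option linter.all false

noncomputable section

namespace Cfsg.Agent.Helper17.ONTC

theorem F444123 : act 4 n207281 = n130712 := d5_2 D130710 D207281 (iv3 D130712) (iv4 D61326) D61325
theorem F444124 : act 5 n207281 = n183404 := d6_2 F212995 D207281 F366039
theorem F444125 : act 6 n207281 = n205616 := d7_2 (iv6 F209271) D207281 (iv3 D205616)
theorem F444126 : act 7 n207281 = n132251 := d8_2 (iv7 F209272) D207281 (iv3 D132251)
theorem F444127 : act 0 n207281 = n200978 := d19_4 (iv1 F172578) (iv5 F172580) D130710 D207281 (iv5 F418599) (iv4 F384108) F384106 F294438 (iv5 D87055) F61539 (iv3 D40448) (iv1 F31695) D42110 F65031 (iv3 F125361) (iv1 F328078) (iv5 F328123) F161118 (iv3 F161104)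
theorem F444128 : act 1 n207281 = n206894 := d15_1 (iv0 F444127) F442539 (iv2 F418597)
theorem F444129 : act 2 n206970 = n207281 := d4_3 F444126 (iv2 F383961) F442784
theorem F444130 : act 1 n206894 = n191608 := d15_1 F444128 F442784 F444129
def n207282 : Q := act 6 n130713
theorem D207282 : act 6 n130713 = n207282 := rfl
theorem F444131 : act 2 n207282 = n133644 := d3_1 D207282 (iv6 F364667) (iv2 F218097)
theorem F444132 : act 3 n207282 = n190397 := d7_1 D207282 F379668 F378482
theorem F444133 : act 4 n207282 = n135622 := d10_1 D207282 F364667 F364661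
theorem F444134 : act 5 n207282 = n199869 := d12_1 D207282 (iv6 F413884) (iv5 D133230) F97485 D130713
theorem F444135 : act 7 n207282 = n133645 := d14_2 (iv7 F218094) D207282 F333579 F104645 (iv6 F329186)
theorem F444136 : act 0 n207282 = n133647 := d21_4 (iv5 D197081) F171521 D130713 D207282 F215055 (iv5 F251929) (iv1 F251931) D189224 (iv6 F376147) (iv1 F402967)
theorem F444137 : act 0 n133640 = n207282 := d21_4 F83588 F54269 D62728 D133640 (iv6 D207282) (iv5 D130713) F328438 F103895 (iv6 D61291) F83589
def n207283 : Q := act 2 n130714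
theorem D207283 : act 2 n130714 = n207283 := rfl
theorem F444138 : act 4 n207283 = n207117 := d1_2 F398798 D207283 F443401
theorem F444139 : act 5 n207283 = n190402 := d2_2 F365568 D207283 F379679
theorem F444140 : act 6 n207283 = n204927 := d3_2 (iv6 F365567) D207283 F434211
theorem F444141 : act 7 n207283 = n190401 := d4_2 F413910 D207283 F413912
def n207284 : Q := act 3 n130717
theorem D207284 : act 3 n130717 = n207284 := rfl
theorem F444142 : act 4 n207284 = n132209 := d5_2 F214728 D207284 (iv3 F213633) F213632 (iv3 F214729)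
theorem F444143 : act 7 n207284 = n206776 := d8_2 F217691 D207284 (iv3 D206776)
theorem F444144 : act 0 n207284 = n137816 := d20_4 (iv4 D133532) D133529 F214728 D207284 F347282 D206476 F441009 F418056 F380084 F214808
theorem F444145 : act 2 n206860 = n207284 := d1_3 F444142 F217710 D206860
def n207285 : Q := act 3 n130718
theorem D207285 : act 3 n130718 = n207285 := rfl
theorem F444146 : act 7 n207285 = n206777 := d8_2 (iv7 F217694) D207285 (iv3 D206777)
theorem F444147 : act 0 n207285 = n196108 := d19_4 F213530 (iv5 F212106) F212107 D207285 F399444 (iv4 F420930) F420929 D201556 (iv5 F431341) F403343 (iv3 F340668) (iv1 F215214) (iv5 F215272) (iv4 D133735) (iv3 F313465) (iv1 F105064) F105061 (iv4 F113449) (iv3 F315435)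
theorem F444148 : act 1 n207285 = n137700 := d15_1 (iv0 F444147) (iv7 F398843) (iv2 F399441)
def n207286 : Q := act 6 n130718
theorem D207286 : act 6 n130718 = n207286 := rfl
theorem F444149 : act 2 n207286 = n136693 := d3_1 D207286 (iv6 F326904) (iv2 F217698)
theorem F444150 : act 7 n207286 = n136688 := d14_2 (iv7 F217694) D207286 F364601 (iv7 F442162) (iv6 D206778)
theorem F444151 : act 0 n207286 = n130831 := d21_4 D63511 D135137 F217346 D207286 F333871 (iv5 F333869) (iv1 F295243) (iv5 F337814) (iv6 D135126) F213166
theorem F444152 : act 5 n207286 = n135934 := d21_6 (iv5 F76834) F76835 F48875 D64741 (iv1 F327499) D207286 (iv1 D135934) F99414 (iv6 D30193) D30191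
theorem F444153 : act 0 n206809 = n207286 := d17_0 F444152 (iv1 D135934) F99414 (iv4 F94030) F322422 D120971 F346121 F346125 D206809
theorem F444154 : act 3 n189896 = n207286 := d20_3 (iv4 F284338) (iv1 F384161) (iv4 F417196) F444151 (iv3 D130831) (iv4 D61373) F164312 (iv4 F98715) (iv3 F217111) F332741
theorem F444155 : act 6 n207285 = n189896 := d7_0 F444154 (iv6 D207286) D207285
def n207287 : Q := act 5 n130719
theorem D207287 : act 5 n130719 = n207287 := rfl
theorem F444156 : act 2 n207287 = n130720 := d2_1 D207287 (iv5 D130720) D130719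
theorem F444157 : act 3 n207287 = n187866 := d6_1 D207287 (iv5 F371718) F217056
theorem F444158 : act 7 n207287 = n135118 := d13_2 (iv7 F327504) D207287 F327501
theorem F444159 : act 0 n207287 = n132921 := d17_2 (iv1 F209285) D207287 (iv5 D132921) (iv4 D62378) D62379 (iv0 F317513) (iv5 F319747) F214793 F209357
theorem F444160 : act 1 n207287 = n135121 := d17_6 (iv1 F207213) (iv5 F98962) (iv1 F314807) F314809 (iv4 F209283) D207287 F217339 F213167 F48187
theorem F444161 : act 4 n207287 = n187886 := d18_5 (iv1 F330959) (iv4 D129276) (iv1 F95825) (iv4 F209283) D207287 (iv0 F405145) F373058 (iv0 F347401) (iv5 D136865)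
theorem F444162 : act 6 n187864 = n207287 := d10_0 F444161 (iv6 D187886) (iv4 F371715)
def n207288 : Q := act 4 n130720
theorem D207288 : act 4 n130720 = n207288 := rfl
theorem F444163 : act 2 n207288 = n187886 := d1_1 D207288 (iv4 F444161) F444156
theorem F444164 : act 3 n207288 = n204562 := d5_1 D207288 F432864 F221647 F100834 (iv3 F209288)
theorem F444165 : act 7 n207288 = n206779 := d11_2 (iv7 F209289) D207288 (iv4 D206779)
theorem F444166 : act 5 n207288 = n204560 := d16_1 D207288 F432860 (iv5 D191806) F318138 F212144 (iv4 F326902) (iv5 F327501) (iv7 F444158) F444156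
theorem F444167 : act 0 n207288 = n135302 := d18_2 (iv1 F212148) D207288 (iv4 D135302) (iv5 D63608) (iv4 D30030) (iv0 D14254) (iv4 F23762) D29991 D63508
theorem F444168 : act 1 n207288 = n135357 := d18_6 (iv1 F330933) (iv4 D130737) (iv1 D61338) (iv4 F95809) D130720 D207288 (iv4 D135357) F217540 F330936
theorem F444169 : act 6 n207288 = n187884 := d21_5 F372889 (iv1 F301263) (iv5 F373054) F373053 (iv1 F444168) (iv5 F429732) (iv1 D198181) (iv5 F372896) (iv6 D188265) D188264
def n207289 : Q := act 6 n130720
theorem D207289 : act 6 n130720 = n207289 := rfl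
theorem F444170 : act 2 n207289 = n187864 := d3_1 D207289 F444162 F444156
theorem F444171 : act 3 n207289 = n130722 := d7_1 D207289 (iv6 D130722) (iv3 F209288)
theorem F444172 : act 4 n207289 = n187884 := d10_1 D207289 (iv6 F444169) (iv4 D207288)
theorem F444173 : act 0 n206220 = n207289 := d18_2 (iv1 D206225) (iv4 F439775) F444172 (iv5 F429732) (iv4 F421823) (iv0 D159491) (iv4 F178308) D201332 (iv5 F439801)
def n207290 : Q := act 5 n130721
theorem D207290 : act 5 n130721 = n207290 := rfl
theorem F444174 : act 3 n207290 = n130725 := d6_1 D207290 (iv5 D130725) (iv3 F209290)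
theorem F444175 : act 4 n207290 = n204033 := d9_1 D207290 F430855 F302804 (iv5 F302807) (iv4 F340118) F352079 F203906 D136834 F352111 (iv5 D131164) F96059 (iv5 F87988) (iv4 F192373) F314429 (iv4 F209291)
theorem F444176 : act 7 n207290 = n137731 := d13_2 (iv7 F326707) D207290 (iv5 D137731)
theorem F444177 : act 1 n207290 = n207103 := d17_6 F337693 (iv5 F321849) (iv1 F323532) F314429 (iv4 F209291) D207290 (iv5 D207103) (iv0 F438118) F438116
def n207291 : Q := act 0 n130722
theorem D207291 : act 0 n130722 = n207291 := rfl
theorem F444178 : act 4 n207291 = n194715 := d20_2 F221650 D207291 (iv3 D194715) F159720 F345144 (iv4 F185980) F185981 (iv4 F206501) (iv3 F436709) (iv1 F436711)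
theorem F444179 : act 6 n207291 = n204134 := d21_5 (iv5 D60509) (iv1 F46676) D61332 D130722 D207291 (iv5 D204134) F356495 (iv5 F98635) (iv6 D63349) (iv1 F95129)
theorem F444180 : act 3 n187856 = n207291 := d7_3 F444179 F431156 F372581
theorem F444181 : act 5 n179810 = n207291 := d12_5 F444179 (iv5 D204134) (iv6 D122712) D122711 (iv6 F366919)
theorem F444182 : act 7 n192605 = n207291 := d14_0 F444179 F431157 F343182 D138330 (iv6 F387225)
theorem F444183 : act 0 n207291 = n205497 := d20_7 (iv4 F374386) (iv1 F374388) (iv4 F339936) (iv3 F345141) (iv1 F159721) D194715 (iv4 F444178) (iv4 D205497) F202860 D126164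
theorem F444184 : act 0 n139627 = n194715 := d18_0 (iv4 F444178) F444183 (iv4 D205497) (iv5 D126162) (iv4 F169284) D198394 (iv4 F407866) (iv0 F393814) F223768
def n207292 : Q := act 1 n130722
theorem D207292 : act 1 n130722 = n207292 := rfl
theorem F444185 : act 1 n207292 = n205497 := d15_1 D207292 F436712 F217061
theorem F444186 : act 6 n199271 = n207292 := d21_3 (iv5 D138325) (iv1 F172359) (iv5 F411407) (iv1 D207292) (iv6 D130722) (iv5 D61332) (iv1 F79321) (iv5 F98626) (iv6 F343168) (iv1 F221521)
theorem F444187 : act 2 n207292 = n192605 := d3_1 F444186 F387225 (iv2 F411404)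
theorem F444188 : act 5 n207292 = n179811 := d12_1 F444186 (iv6 F356534) (iv5 D139431) (iv6 F172357) (iv5 F411407)
def n207293 : Q := act 5 n130722
theorem D207293 : act 5 n130722 = n207293 := rfl
theorem F444189 : act 6 n207293 = n130725 := d12_2 D130722 D207293 (iv5 D130725) (iv6 D61333) D61332
theorem F444190 : act 0 n207293 = n204006 := d21_1 D207293 F430803 (iv6 F351155) (iv1 F144529) (iv6 F343169) (iv5 D138325) (iv1 F172359) (iv5 F411407) F444186 (iv1 D207292)
def n207294 : Q := act 7 n130722
theorem D207294 : act 7 n130722 = n207294 := rfl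
theorem F444191 : act 2 n207294 = n205497 := d4_1 D207294 F436712 F217061
theorem F444192 : act 4 n207294 = n202612 := d11_1 D207294 F424745 F221650
theorem F444193 : act 1 n192605 = n207294 := d15_1 (iv0 F387226) (iv7 D207294) (iv2 F217061)
def n207295 : Q := act 3 n130723
theorem D207295 : act 3 n130723 = n207295 := rfl
theorem F444194 : act 7 n207295 = n187770 := d8_2 F217068 D207295 F371450
theorem F444195 : act 0 n207295 = n187772 := d20_4 F98706 D128653 (iv4 F217066) D207295 (iv3 F374942) (iv4 F417474) (iv1 F442077) F442072 (iv3 F329397) F217084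
theorem F444196 : act 0 n187773 = n207295 := d20_4 F143024 (iv1 F68276) (iv4 F139365) (iv3 F371451) (iv3 D207295) F217066 (iv1 F216215) (iv4 F328199) (iv3 D92752) D92750
theorem F444197 : act 5 n207295 = n204104 := d19_1 F444196 (iv4 D204104) F196540 D122713 F356509 (iv4 D89518) F64457 D41801 F64459 F62994 F32675 F35610 (iv5 D9122) D9121 (iv3 F17847) (iv1 F66729) (iv5 F65458) (iv4 F139365) (iv3 F371451)
def n207296 : Q := act 5 n130723
theorem D207296 : act 5 n130723 = n207296 := rfl
theorem F444198 : act 2 n207296 = n204017 := d2_1 D207296 F430827 F217065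
theorem F444199 : act 3 n207296 = n204104 := d6_1 D207296 (iv5 F444197) (iv3 D207295)
theorem F444200 : act 6 n207296 = n204014 := d12_2 F431894 D207296 F430824 F421402 (iv5 F431893)
theorem F444201 : act 7 n207296 = n179823 := d13_2 F217068 D207296 (iv5 F365580)
theorem F444202 : act 0 n207296 = n134256 := d17_2 D130723 D207296 (iv5 D134256) (iv4 D63068) D63069 (iv0 F101817) F101816 (iv0 D61334) (iv4 F95813)
theorem F444203 : act 1 n207296 = n134258 := d17_6 F166286 (iv5 F171836) (iv1 F410193) F410190 (iv4 F217066) D207296 (iv5 D134258) F211400 F211398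
theorem F444204 : act 4 n207296 = n204141 := d19_2 D130723 D207296 (iv3 D204141) D204139 F431185 (iv4 D191477) (iv3 F367607) F367609 F283689 (iv4 F135491) (iv3 D88503) (iv1 F63635) F69395 (iv4 F327762) (iv3 F129063) (iv1 F323532) F314429 (iv4 F209291) F209290
def n207297 : Q := act 4 n130725
theorem D207297 : act 4 n130725 = n207297 := rfl
theorem F444205 : act 3 n207297 = n204034 := d5_1 D207297 (iv4 D204034) D204033 (iv4 F444175) F444174
def n207298 : Q := act 3 n130727
theorem D207298 : act 3 n130727 = n207298 := rfl
theorem F444206 : act 4 n207298 = n200690 := d5_2 D130727 D207298 (iv3 F417505) F211189 F164598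
theorem F444207 : act 5 n207298 = n187052 := d6_2 F363078 D207298 F368931
theorem F444208 : act 6 n207298 = n183532 := d7_2 F216415 D207298 (iv3 F366837)
theorem F444209 : act 7 n207298 = n154231 := d8_2 F217083 D207298 (iv3 F329397)
theorem F444210 : act 2 n189784 = n207298 := d4_3 F444209 (iv2 F432236) F432239
def n207299 : Q := act 6 n130736
theorem D207299 : act 6 n130736 = n207299 := rfl
theorem F444211 : act 2 n207299 = n206781 := d3_1 D207299 (iv6 D206781) F214116
theorem F444212 : act 3 n207299 = n130739 := d7_1 D207299 (iv6 D130739) D130736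
theorem F444213 : act 5 n207299 = n203816 := d12_1 D207299 F429948 F355886 (iv6 D152167) F211941
theorem F444214 : act 7 n207299 = n206796 := d14_2 (iv7 F214115) D207299 F442219 (iv7 F398761) F398760
theorem F444215 : act 0 n207299 = n206797 := d21_4 (iv5 F212575) F217586 F211941 D207299 (iv6 F444059) F444062 (iv1 F433343) (iv5 F377699) (iv6 D135343) F207245
theorem F444216 : act 0 n205459 = n207299 := d21_4 (iv5 D101766) (iv1 F272689) D172448 (iv6 F436537) (iv6 D207299) (iv5 F211941) (iv1 F313637) F313638 (iv6 F339470) (iv1 F270520)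
def n207300 : Q := act 5 n130737
theorem D207300 : act 5 n130737 = n207300 := rfl
theorem F444217 : act 2 n207300 = n206772 := d2_1 D207300 (iv5 D206772) F214181
theorem F444218 : act 3 n207300 = n197625 := d6_1 D207300 F405077 F217095
theorem F444219 : act 7 n207300 = n206774 := d13_2 (iv7 F214184) D207300 (iv5 D206774)
theorem F444220 : act 1 n207300 = n207078 := d17_6 F207212 D30040 (iv1 F52400) (iv5 F211940) D130737 D207300 (iv5 D207078) (iv0 F208414) F98958
theorem F444221 : act 4 n207300 = n198328 := d18_5 F327500 F326902 (iv1 F95826) D130737 D207300 (iv0 F407626) (iv4 D135139) D135138 F217349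
theorem F444222 : act 6 n198327 = n207300 := d10_0 F444221 (iv6 D198328) D198327
def n207301 : Q := act 6 n130737
theorem D207301 : act 6 n130737 = n207301 := rfl
theorem F444223 : act 2 n207301 = n190544 := d3_1 D207301 F380048 F214181
theorem F444224 : act 4 n207301 = n130739 := d10_1 D207301 (iv6 D130739) D130737
theorem F444225 : act 7 n207301 = n206808 := d14_2 (iv7 F214184) D207301 F442264 F442147 (iv6 D206775)
theorem F444226 : act 0 n207301 = n137585 := d21_4 D207078 (iv1 F444220) (iv5 D207300) D207301 (iv6 D137585) (iv5 F338481) (iv1 F136860) (iv5 F136878) F339504 F208414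
theorem F444227 : act 5 n207301 = n205096 := d21_6 (iv5 D30152) D30149 (iv5 F48831) D64583 (iv1 F330933) D207301 (iv1 D205096) F201782 (iv6 D110739) F80503
theorem F444228 : act 6 n193006 = n205096 := d12_4 (iv6 D207301) D207300 (iv6 F444222) (iv5 F424022) (iv5 F444227)
def n207302 : Q := act 4 n130744
theorem D207302 : act 4 n130744 = n207302 := rfl
theorem F444229 : act 2 n207302 = n206787 := d1_1 D207302 (iv4 D206787) (iv2 F358025)
theorem F444230 : act 3 n207302 = n132291 := d5_1 D207302 (iv4 D132291) (iv3 D62065) (iv4 F95835) D130744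
theorem F444231 : act 6 n207302 = n167349 := d10_2 (iv6 F309524) D207302 (iv4 D167349)
theorem F444232 : act 7 n207302 = n206689 := d11_2 (iv7 F209303) D207302 F441871
theorem F444233 : act 0 n207302 = n206717 := d20_1 D207302 F441956 F438221 D205879 F442098 F442097 (iv1 F299383) (iv4 F348875) F212544 (iv1 F348914)
theorem F444234 : act 0 n132403 = n207302 := d20_7 F95354 (iv1 F47407) (iv4 F95338) D129214 F352105 (iv3 F209344) (iv4 F212460) (iv4 D207302) (iv3 D130744) (iv1 F95839)
theorem E103929 : n206787 = n206715 := (c15_4 (iv0 D206715) (iv0 F441947) (iv7 F444232) F444229)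
theorem F444235 : act 2 n206715 = n207302 := (sb E103929 (iv2 F444229))
theorem F444236 : act 4 n206715 = n129305 := (sb E103929 (iv4 D206787))
def n207303 : Q := act 4 n130746
theorem D207303 : act 4 n130746 = n207303 := rfl
theorem F444237 : act 2 n207303 = n206904 := d1_1 D207303 F442562 (iv2 F363458)
theorem F444238 : act 3 n207303 = n132206 := d5_1 D207303 (iv4 D132206) F166335 (iv4 F95830) D130746
theorem F444239 : act 6 n207303 = n206689 := d10_2 (iv6 F209308) D207303 F441871
theorem F444240 : act 7 n207303 = n206767 := d11_2 (iv7 F209309) D207303 F442111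
theorem F444241 : act 0 n207303 = n132228 := d17_0 F345876 (iv1 D129156) D129157 F362143 (iv5 F408323) (iv0 F408326) F342214 (iv0 F371341) D207303
theorem F444242 : act 1 n207303 = n187784 := d18_8 (iv1 F362150) (iv4 F345881) (iv1 F363941) (iv4 F418326) F418327 F212123 (iv0 F371341) D207303 F371482
theorem F444243 : act 5 n206897 = n207303 := d17_5 (iv1 F363939) (iv5 F418396) (iv1 F418397) F372222 F442543 F444242 F371482 (iv0 D129155) (iv4 F99188)
def n207304 : Q := act 2 n130749
theorem D207304 : act 2 n130749 = n207304 := rfl
theorem F444244 : act 3 n207304 = n130752 := d0_2 D130749 D207304 (iv2 D130752) (iv3 D61348) (iv2 F95847)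
theorem F444245 : act 4 n207304 = n137735 := d1_2 (iv4 F209315) D207304 F365740
theorem F444246 : act 5 n207304 = n151593 := d2_2 F216330 D207304 (iv2 F329094)
theorem F444247 : act 6 n207304 = n137734 := d3_2 F217179 D207304 F333082
theorem F444248 : act 7 n207304 = n134094 := d4_2 (iv7 F209316) D207304 (iv2 D134094)
theorem F444249 : act 1 n207304 = n134092 := d15_0 (iv0 D134092) (iv7 F209316) D207304
theorem F444250 : act 1 n134093 = n207304 := d15_0 F444249 (iv7 F421267) F421265
def n207305 : Q := act 0 n130775
theorem D207305 : act 0 n130775 = n207305 := rfl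
def n207306 : Q := act 1 n130775
theorem D207306 : act 1 n130775 = n207306 := rfl
theorem F444251 : act 1 n207306 = n205875 := d15_1 D207306 (iv7 F441946) F441942
theorem F444252 : act 3 n188788 = n207306 := d20_9 (iv4 F212460) F444234 (iv4 D207302) (iv3 D130744) (iv1 F95839) (iv3 F207476) (iv4 F337861) D195614 F397617 (iv1 D207306)
theorem F444253 : act 4 n207306 = n206785 := d20_6 F142944 (iv1 D43413) D43414 D92795 D188788 F444252 (iv1 D206785) F207504 F322860 (iv1 F142942)
def n207307 : Q := act 7 n130775
theorem D207307 : act 7 n130775 = n207307 := rfl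
theorem F444254 : act 2 n207307 = n205875 := d4_1 D207307 (iv7 F441946) F441942
theorem F444255 : act 3 n207307 = n130791 := d8_1 D207307 (iv7 D130791) (iv3 F209344)
theorem F444256 : act 5 n207307 = n198551 := d13_1 D207307 F408327 (iv5 F366571)
theorem F444257 : act 6 n207307 = n131006 := d14_1 D207307 F362002 (iv6 D133516) (iv7 F214743) D130775
theorem F444258 : act 1 n205875 = n207305 := d15_0 (iv0 D207305) D207307 F444254
def n207308 : Q := act 6 n130793
theorem D207308 : act 6 n130793 = n207308 := rfl
theorem F444259 : act 3 n207308 = n166753 := d7_1 D207308 (iv6 F351663) (iv3 F214100)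
theorem F444260 : act 4 n207308 = n136693 := d10_1 D207308 (iv6 F326904) (iv4 F209357)
theorem F444261 : act 0 n207308 = n200084 := d21_4 F316616 (iv1 F315462) F217674 D207308 F414954 F348609 F429941 F429936 (iv6 D132932) F213150
theorem F444262 : act 1 n207308 = n130818 := d15_1 (iv0 F444261) F438641 F438637
def n207309 : Q := act 0 n130801
theorem D207309 : act 0 n130801 = n207309 := rfl
theorem F444263 : act 5 n207309 = n187542 := d17_1 D207309 (iv1 D187542) F138933 (iv4 F288113) F336039 F163560 (iv5 F323658) (iv0 F330912) (iv4 F209362)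
theorem F444264 : act 4 n207309 = n196829 := d18_3 (iv1 D130805) (iv4 F209362) D207309 (iv5 D196829) (iv4 D107374) (iv0 D49599) D49601 D107382 (iv5 F336037)
theorem F444265 : act 6 n207309 = n130976 := d21_5 (iv5 F327292) (iv1 F317531) (iv5 D130800) D130801 D207309 (iv5 F212512) (iv1 F326351) (iv5 F326370) (iv6 F324325) (iv1 F326529)
theorem F444266 : act 1 n131007 = n207309 := d15_0 (iv0 D207309) (iv7 F438613) F438610
theorem F444267 : act 3 n135823 = n207309 := d19_19 (iv1 F444266) (iv5 F346550) (iv4 D140440) F101620 (iv1 F98546) (iv5 D63315) F48053 (iv3 D23808) (iv1 D11161) (iv5 D5098) (iv4 F4826) F4825 D5076 D11104 D23715 D48639 D105185 F231075 F359051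
theorem F444268 : act 7 n207309 = n187945 := d8_2 F417272 F444267 (iv3 F417275)
theorem F444269 : act 2 n207309 = n187950 := d15_3 F371913 (iv0 F371904) (iv7 F444268)
def n207310 : Q := act 1 n130801
theorem D207310 : act 1 n130801 = n207310 := rfl
theorem F444270 : act 1 n207310 = n131007 := d15_1 D207310 F346551 (iv2 F214779)
theorem F444271 : act 7 n207310 = n187950 := d15_2 (iv0 D207309) D207310 (iv2 F444269)
theorem F444272 : act 5 n207310 = n187541 := d17_7 D106917 F225650 (iv1 F180056) D202431 F423967 (iv5 F420462) D207310 (iv0 D187541) F336041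
theorem F444273 : act 4 n207310 = n141796 := d18_7 F415047 (iv4 D145333) (iv1 D68140) (iv4 F93859) F330915 (iv4 F209362) D207310 F359761 (iv5 F415046)
theorem F444274 : act 2 n187945 = n207310 := d1_3 F444273 (iv2 F398742) F398743
def n207311 : Q := act 4 n130808
theorem D207311 : act 4 n130808 = n207311 := rfl
theorem F444275 : act 2 n207311 = n130814 := d1_1 D207311 (iv4 D130814) (iv2 F334620)
theorem F444276 : act 7 n207311 = n130819 := d11_2 (iv7 F334623) D207311 (iv4 D130819)
theorem F444277 : act 0 n207311 = n188779 := d17_0 F374850 (iv1 D94331) (iv5 F135586) (iv4 F323385) (iv5 F334634) (iv0 D165708) (iv5 F321980) F209366 D207311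
theorem F444278 : act 1 n207311 = n189680 := d18_8 (iv1 F369386) F369382 (iv1 F276112) (iv4 F369277) (iv5 F369274) F325310 F209366 D207311 (iv5 D189680)
theorem F444279 : act 3 n207311 = n200142 := d20_3 F209257 D130808 D207311 (iv1 D200142) F175386 (iv4 F175390) F397824 F397822 (iv3 F397816) F397818
def n207312 : Q := act 4 n130809
theorem D207312 : act 4 n130809 = n207312 := rfl
theorem F444280 : act 2 n207312 = n130819 := d1_1 D207312 (iv4 D130819) (iv2 F334617)
theorem F444281 : act 3 n207312 = n159657 := d5_1 D207312 F441995 (iv3 D206731) (iv4 F351674) (iv3 F351675)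
theorem F444282 : act 6 n207312 = n188786 := d10_2 (iv6 F342171) D207312 F374871
theorem F444283 : act 7 n207312 = n130814 := d11_2 (iv7 F334619) D207312 (iv4 D130814)
theorem F444284 : act 0 n207312 = n189680 := d17_0 (iv5 D189680) (iv1 F369386) F369383 F331842 (iv5 F336025) F336024 (iv5 D130810) D130809 D207312
theorem F444285 : act 1 n207312 = n188779 := d18_8 (iv1 D94331) F292790 D176738 F369283 F369268 F209257 D130809 D207312 F374850
theorem F444286 : act 0 n159572 = n206731 := d20_1 (iv4 F251336) (iv4 F441995) (iv3 F444281) F444284 F377376 F380118 (iv1 F380116) (iv4 F444086) F444085 (iv1 D159574)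
theorem F444287 : act 7 n148770 = n159657 := d8_2 F444283 F365181 (iv3 F444281)
theorem F444288 : act 2 n159657 = n148769 := d15_3 (iv0 D148769) D148770 F444287
theorem F444289 : act 2 n148770 = n159658 := d15_3 F251524 F251523 (iv7 F444287)
theorem F444290 : act 7 n159658 = n148769 := d4_2 (iv7 F444287) F444289 (iv2 F444288)
def n207313 : Q := act 1 n130818
theorem D207313 : act 1 n130818 = n207313 := rfl
def n207314 : Q := act 2 n130818
theorem D207314 : act 2 n130818 = n207314 := rfl
theorem F444291 : act 3 n207314 = n200059 := d0_2 D130818 D207314 F414834 (iv3 F351675) F334617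
theorem F444292 : act 7 n207314 = n200084 := d4_2 (iv7 F438641) D207314 (iv2 F438637)
theorem E103930 : n207313 = n206811 := (c15_1 D207313 (iv0 F442276) (iv7 F444292) (iv2 D207314))
theorem F444293 : act 0 n206811 = n130818 := (sb E103930 (iv1 D207313))
theorem F444294 : act 5 n198491 = n207314 := d13_3 F444292 (iv5 D200084) (iv7 F408142)
theorem F444295 : act 6 n152705 = n207314 := d14_5 F444292 F414954 (iv7 F344357) D205966 (iv7 F438636)
def n207315 : Q := act 4 n130818
theorem D207315 : act 4 n130818 = n207315 := rfl
theorem F444296 : act 7 n207315 = n186798 := d11_2 (iv7 F438641) D207315 (iv4 F438639)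
theorem F444297 : act 1 n207315 = n191691 := d18_8 F411149 (iv4 F442335) (iv1 F442337) (iv4 D136692) D136693 (iv4 F444260) F444262 D207315 (iv5 F411147)
theorem F444298 : act 1 n207301 = n207315 := d15_0 F444297 F384163 (iv2 F444223)
def n207316 : Q := act 5 n130818
theorem D207316 : act 5 n130818 = n207316 := rfl
theorem F444299 : act 2 n207316 = n198491 := d2_1 D207316 F444294 (iv2 D207314)
theorem F444300 : act 3 n207316 = n130820 := d6_1 D207316 (iv5 D130820) D130818
theorem F444301 : act 7 n207316 = n157973 := d13_2 (iv7 F438641) D207316 (iv5 F438640)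
theorem F444302 : act 0 n207316 = n166743 := d17_2 F444293 D207316 (iv5 F359627) (iv4 D136231) D136232 (iv0 F442272) (iv5 D206810) (iv0 F407350) (iv4 F442275)
theorem F444303 : act 4 n207316 = n198490 := d18_5 D130833 F384164 (iv1 F444297) (iv4 D207315) D207316 F408139 (iv4 D188500) (iv0 D92200) F323398
theorem F444304 : act 6 n207316 = n174871 := d21_3 (iv5 F442274) F444293 D207316 F363197 F403261 (iv5 D197146) F166387 (iv5 F351045) (iv6 F407060) F407062
theorem F444305 : act 0 n163350 = n207316 := d21_4 (iv5 D180303) (iv1 F335281) (iv5 F392635) F392634 F444304 (iv5 F363198) (iv1 D118448) D118449 (iv6 F249644) F332000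
def n207317 : Q := act 6 n130818
theorem D207317 : act 6 n130818 = n207317 := rfl
theorem F444306 : act 2 n207317 = n152705 := d3_1 D207317 F444295 (iv2 D207314)
theorem F444307 : act 3 n207317 = n130821 := d7_1 D207317 (iv6 D130821) D130818
theorem F444308 : act 5 n207317 = n193411 := d12_1 D207317 (iv6 F389768) F363198 (iv6 F444304) (iv5 D207316)
theorem F444309 : act 7 n207317 = n152706 := d14_2 (iv7 F438641) D207317 (iv6 F347056) (iv7 F362653) D205967
theorem F444310 : act 0 n207317 = n152319 := d21_10 (iv5 D152319) (iv1 F191323) (iv5 F347049) F339489 (iv1 F208630) D130225 (iv5 F359632) F444305 (iv5 D207316) D207317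
theorem F444311 : act 0 n152313 = n207317 := d21_4 D207104 F443344 F438625 (iv6 F438624) (iv6 D207317) D207316 F444302 (iv5 F359627) (iv6 F443332) (iv1 F443333)
def n207318 : Q := act 5 n130819
theorem D207318 : act 5 n130819 = n207318 := rfl
theorem F444312 : act 3 n207318 = n189347 := d6_1 D207318 F396386 F396385
theorem F444313 : act 6 n207318 = n194141 := d12_2 (iv6 F371521) D207318 (iv5 D194141) F365210 F371519
theorem F444314 : act 0 n207318 = n194190 := d21_4 (iv5 F74939) D102777 D194141 (iv6 F444313) (iv6 D194190) D194189 F392308 F375034 (iv6 D103016) (iv1 D47760)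
def n207319 : Q := act 4 n130820
theorem D207319 : act 4 n130820 = n207319 := rfl
theorem F444315 : act 2 n207319 = n196485 := d1_1 D207319 F400807 F336090
theorem F444316 : act 6 n207319 = n174060 := d10_2 (iv6 F318969) D207319 F342039
theorem F444317 : act 7 n207319 = n157976 := d11_2 (iv7 F330886) D207319 F248862
theorem F444318 : act 1 n207319 = n197935 := d18_6 (iv1 F365899) (iv4 F371499) (iv1 F371502) (iv4 D130819) D130820 D207319 F406237 (iv0 F362638) (iv5 F362642)
theorem F444319 : act 3 n207319 = n197940 := d20_3 F341827 (iv1 F330893) D207319 (iv1 F406250) (iv3 F430258) F430259 (iv1 F380472) (iv4 F433333) (iv3 D204707) (iv1 F198741)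
theorem F444320 : act 1 n197936 = n207319 := d15_1 D197936 F444317 (iv2 F327947)
theorem E103931 : n197936 = n197869 := (c21_5 F400729 D197452 F404396 (iv6 F444316) (iv1 F444320) (iv6 D197869) D197868 F409812 F168709 (iv6 F358679) F400732)
theorem F444321 : act 0 n197869 = n108785 := (sb E103931 (iv1 D197936))
theorem F444322 : act 1 n197869 = n207319 := (sb E103931 F444320)
def n207320 : Q := act 0 n130831
theorem D207320 : act 0 n130831 = n207320 := rfl
theorem F444323 : act 5 n207320 = n135933 := d17_1 D207320 (iv1 F218655) F100040 F333835 D134620 F333837 F345360 (iv0 D130833) (iv4 F209387)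
theorem F444324 : act 6 n207320 = n199050 := d21_5 (iv5 D86919) F72625 F333869 (iv6 F333871) D207320 (iv5 D199050) F362374 (iv5 D138022) D138023 F341225
theorem F444325 : act 2 n136688 = n207320 := d15_3 (iv0 D207320) (iv0 F444151) F444150
theorem F444326 : act 1 n206809 = n207320 := d15_0 (iv0 D207320) F209389 (iv2 F442266)
theorem F444327 : act 7 n207320 = n136693 := d15_2 (iv0 F444153) F444326 (iv2 F444149)
def n207321 : Q := act 2 n130831
theorem D207321 : act 2 n130831 = n207321 := rfl
theorem F444328 : act 4 n207321 = n130835 := d1_2 (iv4 F209387) D207321 (iv2 D130835)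
theorem F444329 : act 5 n207321 = n183997 := d2_2 (iv5 F333870) D207321 (iv2 F364603)
theorem F444330 : act 6 n207321 = n136133 := d3_2 (iv6 F333871) D207321 (iv2 F333865)
theorem F444331 : act 7 n207321 = n206809 := d4_2 (iv7 F209389) D207321 F442266
theorem F444332 : act 1 n207321 = n136693 := d15_0 (iv0 F359076) (iv7 F209389) D207321
theorem F444333 : act 1 n136688 = n207321 := d15_0 F444332 (iv7 F444327) (iv2 F444325)
def n207322 : Q := act 4 n130832
theorem D207322 : act 4 n130832 = n207322 := rfl
theorem F444334 : act 2 n207322 = n199785 := d1_1 D207322 F413503 (iv2 F216352)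
theorem F444335 : act 6 n207322 = n138774 := d10_2 F350362 D207322 (iv4 F345076)
theorem F444336 : act 5 n207322 = n141972 := d16_1 D207322 F362795 (iv5 D108798) (iv4 D50230) D50231 D108799 D197961 F406291 (iv2 F216352)
theorem F444337 : act 0 n207322 = n197969 := d18_2 (iv1 F216354) D207322 (iv4 D197969) (iv5 D108809) (iv4 D50239) F163900 D63591 (iv0 F168434) (iv5 F216353)
theorem F444338 : act 1 n207322 = n197955 := d18_6 (iv1 D111598) (iv4 D51472) F164313 D61373 D130832 D207322 F406271 F406318 F406316
def n207323 : Q := act 3 n130833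
theorem D207323 : act 3 n130833 = n207323 := rfl
theorem F444339 : act 4 n207323 = n206510 := d5_2 (iv4 F384164) D207323 (iv3 F441141) (iv4 D191692) D191691
theorem F444340 : act 5 n207323 = n190664 := d6_2 F345360 D207323 F380488
theorem F444341 : act 6 n207323 = n200759 := d7_2 F359081 D207323 (iv3 F417816)
theorem F444342 : act 7 n207323 = n206771 := d8_2 (iv7 F359079) D207323 F442125
theorem F444343 : act 0 n207323 = n132349 := d20_4 F414955 F411148 (iv4 F384164) D207323 (iv3 D132349) D132350 (iv1 F443163) F443160 (iv3 F444259) F444261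
def n207324 : Q := act 6 n130837
theorem D207324 : act 6 n130837 = n207324 := rfl
theorem F444344 : act 2 n207324 = n137849 := d3_1 D207324 (iv6 D137849) (iv2 F333862)
theorem F444345 : act 3 n207324 = n130839 := d7_1 D207324 (iv6 D130839) D130837
theorem F444346 : act 4 n207324 = n130843 := d10_1 D207324 (iv6 D130843) (iv4 F209401)
theorem F444347 : act 5 n207324 = n185345 := d12_1 D207324 (iv6 D185345) (iv5 F295459) (iv6 D182631) (iv5 F324219)
theorem F444348 : act 7 n207324 = n204989 := d14_2 F333866 D207324 F434481 (iv7 F209389) F333871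
theorem F444349 : act 0 n152732 = n207324 := d21_4 D64915 D138201 (iv5 F397630) (iv6 F397634) (iv6 D207324) F324219 F295247 (iv5 F338416) (iv6 D138200) (iv1 D64914)
theorem F444350 : act 1 n152707 = n207324 := d18_6 (iv1 D33267) F25590 D16064 D33272 D72045 D152707 F444346 F305441 (iv5 D72024)
def n207325 : Q := act 1 n130860
theorem D207325 : act 1 n130860 = n207325 := rfl
theorem F444351 : act 1 n207325 = n157398 := d15_1 D207325 (iv7 D157398) (iv2 F209448)
theorem F444352 : act 7 n207325 = n144975 := d15_2 (iv0 F425999) D207325 (iv2 F425996)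
theorem F444353 : act 5 n152518 = n207325 := d21_6 (iv5 D33241) (iv1 D16047) D16048 (iv6 F52468) D71935 D152518 (iv1 D207325) (iv5 F239711) (iv6 D152531) (iv1 F108446)
theorem F444354 : act 3 n207325 = n194174 := d6_1 F444353 F392253 (iv3 F387473)
theorem F444355 : act 6 n194172 = n207325 := d21_5 (iv5 F291008) F291004 D186157 F345008 F399404 (iv5 F444353) F387472 (iv5 F376255) (iv6 D189264) F291015
theorem F444356 : act 2 n157396 = n207325 := d4_3 F444352 (iv2 F425996) (iv7 F426001)
def n207326 : Q := act 6 n130862
theorem D207326 : act 6 n130862 = n207326 := rfl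
theorem F444357 : act 2 n207326 = n157404 := d3_1 D207326 (iv6 D157404) (iv2 F209449)
theorem F444358 : act 4 n207326 = n187561 := d10_1 D207326 (iv6 F398973) F398975
theorem F444359 : act 7 n188098 = n207326 := d11_0 F444358 F370815 D188098
theorem F444360 : act 0 n188103 = n207326 := d18_2 (iv1 F376457) (iv4 F372331) F444358 (iv5 D187561) F138960 (iv0 F157735) (iv4 F143074) F157719 D187504
theorem F444361 : act 1 n188104 = n207326 := d18_6 F362397 (iv4 F154387) F367128 (iv4 F251832) (iv5 F420480) F420479 F444358 (iv0 F370817) F362399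
theorem F444362 : act 2 n152540 = n188104 := d15_3 F444361 (iv0 F444360) F372333
def n207327 : Q := act 5 n130863
theorem D207327 : act 5 n130863 = n207327 := rfl
theorem F444363 : act 2 n207327 = n154557 := d2_1 D207327 (iv5 D154557) F307077
theorem F444364 : act 3 n207327 = n149049 := d6_1 D207327 (iv5 D149049) (iv3 F307069)
theorem F444365 : act 7 n207327 = n149115 := d13_2 (iv7 F307070) D207327 (iv5 D149115)
def n207328 : Q := act 6 n130866
theorem D207328 : act 6 n130866 = n207328 := rfl
theorem F444366 : act 3 n207328 = n130868 := d7_1 D207328 (iv6 D130868) D130866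
theorem F444367 : act 4 n207328 = n197185 := d10_1 D207328 (iv6 D197185) (iv4 F209461)
theorem F444368 : act 5 n207328 = n179036 := d12_1 D207328 F366208 D202566 (iv6 F432778) F432777
theorem F444369 : act 7 n207328 = n153530 := d14_2 F214880 D207328 (iv6 D153530) (iv7 F143057) (iv6 F342640)
theorem F444370 : act 1 n149014 = n207328 := d15_1 (iv0 F374818) F444369 (iv2 F374814)
theorem F444371 : act 1 n207328 = n203991 := d15_1 F444370 F430733 F388784
def n207329 : Q := act 3 n130869
theorem D207329 : act 3 n130869 = n207329 := rfl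
theorem F444372 : act 2 n207329 = n191761 := d0_1 D207329 F388601 (iv2 F388602) (iv3 F314233) F314232
theorem F444373 : act 4 n207329 = n177826 := d5_2 F443852 D207329 (iv3 F364053) (iv4 F364049) (iv3 F443851)
theorem F444374 : act 5 n207329 = n133671 := d6_2 (iv5 F209464) D207329 (iv3 D133671)
theorem F444375 : act 7 n207329 = n191763 := d8_2 F314237 D207329 F384383
theorem F444376 : act 0 n204192 = n207329 := d17_2 F338835 (iv5 F431425) F444374 F215092 D197179 F403414 F389648 F387087 F252709
def n207330 : Q := act 6 n130869
theorem D207330 : act 6 n130869 = n207330 := rfl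
theorem F444377 : act 2 n207330 = n204513 := d3_1 D207330 (iv6 D204513) F314232
theorem F444378 : act 4 n207330 = n188617 := d10_1 D207330 (iv6 F443853) F443852
theorem F444379 : act 7 n207330 = n155510 := d14_2 F314237 D207330 (iv6 D155510) (iv7 F189205) (iv6 F356970)
theorem F444380 : act 0 n207330 = n188102 := d21_4 (iv5 D62742) D62740 (iv5 F209464) D207330 F372330 (iv5 D108902) D108899 D198072 F406659 F214901
theorem F444381 : act 1 n207330 = n188100 := d15_1 (iv0 F444380) (iv7 F387812) F387811
def n207331 : Q := act 3 n130871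
theorem D207331 : act 3 n130871 = n207331 := rfl
theorem F444382 : act 5 n207331 = n203806 := d6_2 (iv5 F209468) D207331 (iv3 D203806)
def n207332 : Q := act 6 n130871
theorem D207332 : act 6 n130871 = n207332 := rfl
theorem F444383 : act 2 n207332 = n204548 := d3_1 D207332 (iv6 D204548) F314241
theorem F444384 : act 4 n207332 = n130872 := d10_1 D207332 (iv6 D130872) D130871
theorem F444385 : act 3 n188296 = n207332 := d5_5 F444384 (iv3 F443446) F443447 (iv3 F374464) F374466
theorem F444386 : act 6 n207331 = n188296 := d7_0 F444385 (iv6 D207332) D207331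
def n207333 : Q := act 0 n130872
theorem D207333 : act 0 n130872 = n207333 := rfl
theorem F444387 : act 3 n207333 = n188175 := d20_5 (iv4 D183141) (iv1 F372559) (iv4 F443447) F443446 D207333 (iv4 D188175) (iv1 D91021) D91022 (iv3 F295267) F284747
theorem F444388 : act 7 n191788 = n207333 := d8_0 F444387 F372586 D191788
theorem F444389 : act 0 n207333 = n204550 := d20_4 (iv4 D98872) F294920 D188175 (iv3 F444387) F432838 F357728 (iv1 D111579) F81236 (iv3 F101827) (iv1 F338881)
theorem F444390 : act 2 n207333 = n204549 := d15_3 (iv0 D204549) (iv0 F384438) F444388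
def n207334 : Q := act 1 n130872
theorem D207334 : act 1 n130872 = n207334 := rfl
theorem F444391 : act 1 n207334 = n204550 := d15_1 D207334 (iv7 D204550) F366698
theorem F444392 : act 7 n207334 = n204549 := d15_2 (iv0 D207333) D207334 (iv2 F444390)
theorem F444393 : act 6 n134002 = n207334 := d21_3 (iv5 D62950) D62947 D134002 (iv1 D207334) (iv6 D130872) (iv5 D61401) D61400 (iv5 F314904) F356868 (iv1 D134009)
theorem F444394 : act 2 n207334 = n191788 := d3_1 F444393 F384437 F372575
def n207335 : Q := act 5 n130872
theorem D207335 : act 5 n130872 = n207335 := rfl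
theorem F444395 : act 2 n207335 = n134292 := d2_1 D207335 (iv5 F358468) F366698
theorem F444396 : act 3 n207335 = n193348 := d6_1 D207335 (iv5 F443448) F443446
theorem F444397 : act 6 n207335 = n130875 := d12_2 D130872 D207335 (iv5 D130875) (iv6 D61402) D61401
theorem F444398 : act 0 n207335 = n198982 := d21_1 D207335 (iv5 F427209) (iv6 D203156) (iv1 F331642) (iv6 D134011) (iv5 D62950) D62947 D134002 F444393 (iv1 D207334)
theorem F444399 : act 4 n207335 = n205788 := d20_6 (iv4 F48897) F340130 (iv4 F216580) (iv3 F364205) F389542 (iv3 F444396) (iv1 D205788) F364602 (iv3 D64908) (iv1 D30500)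
theorem F444400 : act 2 n205788 = n132683 := d1_1 F444399 (iv4 F216313) (iv2 F444395)
theorem F444401 : act 3 n205788 = n205684 := d5_1 F444399 (iv4 F437453) (iv3 F374719) (iv4 F389541) (iv3 F444396)
def n207336 : Q := act 7 n130872
theorem D207336 : act 7 n130872 = n207336 := rfl
theorem F444402 : act 2 n207336 = n204550 := d4_1 D207336 (iv7 D204550) F366698
theorem F444403 : act 1 n191788 = n207336 := d15_1 (iv0 F384438) (iv7 D207336) (iv2 F366698)
theorem F444404 : act 1 n207336 = n204549 := d15_1 F444403 (iv7 F444392) F444394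
def n207337 : Q := act 3 n130873
theorem D207337 : act 3 n130873 = n207337 := rfl
theorem F444405 : act 6 n207337 = n153534 := d7_2 F431273 D207337 F366853
def n207338 : Q := act 3 n130874
theorem D207338 : act 3 n130874 = n207338 := rfl
theorem F444406 : act 4 n207338 = n156542 := d5_2 (iv4 F439910) D207338 F342387 F340992 F439911
theorem F444407 : act 7 n207338 = n202572 := d8_2 (iv7 F431276) D207338 (iv3 F428390)
theorem F444408 : act 0 n193361 = n207338 := d20_4 F249130 D158533 (iv4 F249714) (iv3 F389573) (iv3 D207338) F439910 (iv1 D206247) (iv4 F311798) F154526 (iv1 F249713)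
theorem F444409 : act 1 n184549 = n207338 := d15_0 (iv0 F444408) F389575 F385167
def n207339 : Q := act 6 n130874
theorem D207339 : act 6 n130874 = n207339 := rfl
theorem F444410 : act 2 n207339 = n203758 := d3_1 D207339 F431278 F431277
theorem F444411 : act 7 n207339 = n203757 := d14_2 (iv7 F431276) D207339 (iv6 F429711) (iv7 F354033) F428392
theorem F444412 : act 0 n207339 = n203753 := d21_4 D123068 D204163 F439914 D207339 (iv6 D203753) (iv5 F355255) D206909 F442575 F364929 (iv1 D123067)
theorem F444413 : act 1 n207339 = n203760 := d15_1 (iv0 F444412) (iv7 D203760) (iv2 F429694)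
def n207340 : Q := act 0 n130875
theorem D207340 : act 0 n130875 = n207340 := rfl
theorem F444414 : act 5 n207340 = n181149 := d17_3 (iv1 D130874) D130875 D207340 (iv4 F383609) (iv5 F383611) (iv0 D145933) (iv5 F205733) D206247 (iv4 F439910)
theorem F444415 : act 2 n192059 = n207340 := d15_3 (iv0 D207340) F404695 F404693
theorem F444416 : act 6 n207340 = n190956 := d3_2 (iv6 F385383) F444415 F381690
theorem F444417 : act 7 n207340 = n204162 := d4_2 F404693 F444415 F431269
theorem F444418 : act 1 n203967 = n207340 := d15_1 (iv0 F430627) F444417 F431269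
def n207341 : Q := act 4 n130875
theorem D207341 : act 4 n130875 = n207341 := rfl
theorem F444419 : act 6 n207341 = n205788 := d10_2 F444397 D207341 (iv4 F444399)
theorem F444420 : act 5 n207341 = n206855 := d16_7 (iv4 F219604) F365607 F103915 F49870 (iv4 F95898) D130875 D207341 (iv7 D206855) (iv2 F211825)
theorem F444421 : act 1 n207341 = n195279 := d18_6 (iv1 F387298) (iv4 D130884) (iv1 D61404) (iv4 F95898) D130875 D207341 F396560 F367706 (iv5 F387296)
theorem F444422 : act 0 n201699 = n206855 := d19_0 (iv5 F444420) (iv4 D207341) (iv3 F366669) (iv1 D101482) (iv5 D47220) (iv4 F74491) (iv3 F127499) (iv1 F328940) (iv5 F346772) (iv4 F346779) F209153 (iv1 F175728) (iv5 F339730) F251085 F114329 (iv1 F177628) D53059 D114999 D201699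
theorem F444423 : act 7 n206854 = n207341 := d13_0 F444420 (iv7 D206855) D206854
def n207342 : Q := act 7 n130875
theorem D207342 : act 7 n130875 = n207342 := rfl
theorem F444424 : act 2 n207342 = n203967 := d4_1 D207342 F430626 (iv2 F358467)
theorem F444425 : act 3 n207342 = n136926 := d8_1 D207342 (iv7 F362200) F366669
theorem F444426 : act 4 n207342 = n206854 := d11_1 D207342 F444423 (iv4 D207341)
theorem F444427 : act 5 n207342 = n130876 := d13_1 D207342 (iv7 D130876) D130875
theorem F444428 : act 1 n204162 = n207342 := d15_1 (iv0 F431270) (iv7 D207342) F358467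
theorem F444429 : act 1 n207342 = n192059 := d15_1 F444428 (iv7 F404693) (iv2 F431269)
theorem F444430 : act 6 n136925 = n207342 := d21_3 (iv5 D67053) F100626 (iv5 F220109) (iv1 F444428) (iv6 F431271) F396572 F396573 F217226 (iv6 F216231) F347249
def n207343 : Q := act 4 n130880
theorem D207343 : act 4 n130880 = n207343 := rfl
theorem F444431 : act 2 n207343 = n134376 := d1_1 D207343 (iv4 F428399) F428395
theorem F444432 : act 3 n207343 = n146790 := d5_1 D207343 (iv4 F397437) (iv3 D195581) D195582 F397444
theorem F444433 : act 7 n207343 = n203099 := d11_2 (iv7 F237561) D207343 F426961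
theorem F444434 : act 5 n207343 = n138185 := d17_5 (iv1 D67863) F49870 D61403 D130880 D207343 (iv0 F221362) (iv5 F328433) F338169 (iv4 D144808)
theorem F444435 : act 6 n134365 = n207343 := d12_0 F444434 (iv6 D138185) (iv5 D64910) F333877 (iv5 F216368)
theorem F444436 : act 0 n203023 = n207343 := d20_4 (iv4 F353709) F363293 (iv4 F431041) F431040 F444432 (iv4 F397437) (iv1 F397438) F355578 F355572 (iv1 F363292)
def n207344 : Q := act 6 n130880
theorem D207344 : act 6 n130880 = n207344 := rfl
theorem F444437 : act 2 n207344 = n134375 := d3_1 D207344 (iv6 F428397) F428395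
theorem F444438 : act 4 n207344 = n134365 := d10_1 D207344 F444435 (iv4 D207343)
theorem F444439 : act 5 n207344 = n142446 := d12_1 D207344 (iv6 F383057) (iv5 D191325) F354314 D130880
theorem F444440 : act 7 n207344 = n134363 := d14_2 (iv7 F237561) D207344 F352596 F237567 D117672
theorem F444441 : act 0 n207344 = n202957 := d21_4 F49870 D61403 D130880 D207344 F426377 F183875 (iv1 F306157) (iv5 F308135) (iv6 F310167) (iv1 D67863)
theorem F444442 : act 0 n158977 = n207344 := d21_4 (iv5 D39411) D39409 (iv5 F199942) D158977 (iv6 D207344) (iv5 D130880) (iv1 F187524) (iv5 F227685) F227686 F199949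
def n207345 : Q := act 4 n130885
theorem D207345 : act 4 n130885 = n207345 := rfl
theorem F444443 : act 2 n207345 = n203099 := d1_1 D207345 F426961 (iv2 F237562)
theorem F444444 : act 6 n207345 = n202964 := d10_2 F209472 D207345 (iv4 D202964)
theorem F444445 : act 7 n207345 = n134376 := d11_2 F428398 D207345 (iv4 F428399)
theorem F444446 : act 0 n207345 = n203023 := d18_2 F354310 D207345 (iv4 F439491) F439492 (iv4 D183398) (iv0 D87546) (iv4 F134443) (iv0 F233189) D181684
def n207346 : Q := act 6 n130898
theorem D207346 : act 6 n130898 = n207346 := rfl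
theorem F444447 : act 2 n207346 = n130900 := d3_1 D207346 (iv6 D130900) D130898
theorem F444448 : act 3 n207346 = n157286 := d7_1 D207346 F361622 F214300
theorem F444449 : act 4 n207346 = n204109 := d10_1 D207346 F431100 F403501
theorem F444450 : act 5 n207346 = n157284 := d12_1 D207346 (iv6 F363470) F363469 D146350 (iv5 F328207)
theorem F444451 : act 7 n207346 = n202854 := d14_2 F247748 D207346 F425884 (iv7 F332485) F332484
theorem F444452 : act 0 n152066 = n207346 := d21_4 (iv5 D65350) D65348 (iv5 F333273) D152066 (iv6 D207346) F328207 F333263 (iv5 F332507) (iv6 F332515) (iv1 D139228)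
def n207347 : Q := act 3 n130899
theorem D207347 : act 3 n130899 = n207347 := rfl
theorem F444453 : act 4 n207347 = n130901 := d5_2 D130899 D207347 (iv3 D130901) (iv4 D61413) D61412
theorem F444454 : act 5 n207347 = n191499 := d6_2 (iv5 F433172) D207347 F433180
theorem F444455 : act 7 n207347 = n192302 := d8_2 F332476 D207347 F386367
theorem F444456 : act 0 n207347 = n152040 := d20_10 (iv4 F366445) F428489 F428488 F241553 F306416 (iv3 F286663) F348246 (iv1 D130897) D130899 D207347
theorem F444457 : act 0 n191908 = n207347 := d20_4 (iv4 F272670) F338069 F155513 (iv3 F384790) (iv3 D207347) (iv4 D130899) (iv1 F247740) (iv4 F108159) (iv3 F239018) (iv1 F338068)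
def n207348 : Q := act 6 n130899
theorem D207348 : act 6 n130899 = n207348 := rfl
theorem F444458 : act 2 n207348 = n204109 := d3_1 D207348 F431100 (iv2 F403502)
theorem F444459 : act 4 n207348 = n130900 := d10_1 D207348 (iv6 D130900) D130899
theorem F444460 : act 7 n207348 = n203987 := d14_2 F332476 D207348 (iv6 D203987) F332490 D122687
theorem F444461 : act 0 n207348 = n203783 := d21_4 D149044 (iv1 F433169) (iv5 F433172) D207348 (iv6 D203783) F315991 F342611 (iv5 D124074) (iv6 F316781) F317084
theorem F444462 : act 0 n138046 = n207348 := d21_4 (iv5 D138055) (iv1 D64874) D64875 (iv6 F221299) (iv6 D207348) F433172 (iv1 D204660) (iv5 D124178) D124179 (iv1 F339052)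
theorem F444463 : act 1 n170675 = n203987 := d15_1 (iv0 F431101) (iv7 F444460) F444458
def n207349 : Q := act 7 n130900
theorem D207349 : act 7 n130900 = n207349 := rfl
theorem F444464 : act 2 n207349 = n202854 := d4_1 D207349 (iv7 F444451) F444447
theorem F444465 : act 3 n207349 = n130904 := d8_1 D207349 (iv7 D130904) (iv3 F209483)
theorem F444466 : act 4 n207349 = n203987 := d11_1 D207349 (iv7 F444460) F444459
theorem F444467 : act 5 n207349 = n202544 := d13_1 D207349 F424428 F233352
theorem F444468 : act 6 n207349 = n151798 := d14_1 D207349 (iv7 F305595) F305594 (iv7 F105937) D130900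
theorem F444469 : act 1 n152066 = n207349 := d15_1 (iv0 F444452) (iv7 D207349) (iv2 F444447)
def n207350 : Q := act 6 n130908
theorem D207350 : act 6 n130908 = n207350 := rfl
theorem F444470 : act 2 n207350 = n135834 := d3_1 D207350 (iv6 D135834) F209508
theorem F444471 : act 0 n207350 = n135532 := d21_4 (iv5 F48431) (iv1 F207229) F209509 D207350 (iv6 F413909) F413908 (iv1 F379998) F379996 (iv6 D135828) F207228
def n207351 : Q := act 4 n130917
theorem D207351 : act 4 n130917 = n207351 := rfl
theorem F444472 : act 2 n207351 = n132785 := d1_1 D207351 (iv4 D132785) F209524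
theorem F444473 : act 5 n207351 = n204524 := d9_2 F209525 D207351 (iv4 D204524) (iv5 D123962) F312602 (iv5 D28951) D28950 D61097 D130137 (iv5 F431489) (iv4 D204207) (iv5 D123136) F300839 (iv5 F317260) D62315
theorem F444474 : act 7 n207351 = n207084 := d11_2 (iv7 F209523) D207351 (iv4 D207084)
theorem F444475 : act 0 n207351 = n207087 := d18_2 F323239 D207351 F443257 (iv5 D133260) (iv4 D62538) F47419 (iv4 F95930) F97460 (iv5 F323242)
theorem F444476 : act 1 n207351 = n188803 := d18_6 (iv1 F208568) (iv4 D61084) (iv1 F47276) D62315 F209525 D207351 F374951 F319150 (iv5 D135829)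
theorem F444477 : act 3 n207351 = n134871 := d20_3 F371200 F323239 D207351 (iv1 F365743) F220987 F326902 (iv1 F95826) D130737 (iv3 F217095) F371203
def n207352 : Q := act 6 n130917
theorem D207352 : act 6 n130917 = n207352 := rfl
theorem F444478 : act 2 n207352 = n132786 := d3_1 D207352 (iv6 D132786) F209524
theorem F444479 : act 5 n207352 = n192543 := d21_6 (iv5 D43383) (iv1 F32590) (iv5 F65314) D90455 F323239 D207352 (iv1 D192543) (iv5 F374653) (iv6 D188739) (iv1 D92737)
theorem F444480 : act 1 n130946 = n207352 := d17_6 (iv1 F412195) (iv5 D199437) (iv1 D111327) D111329 D199443 (iv5 F412228) F444479 (iv0 F413448) (iv4 D199777)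
def n207353 : Q := act 3 n130922
theorem D207353 : act 3 n130922 = n207353 := rfl
theorem F444481 : act 2 n207353 = n195128 := d0_1 D207353 (iv3 D195128) F343642 D113722 F343653
theorem F444482 : act 4 n207353 = n205481 := d5_2 F418819 D207353 (iv3 F436626) F421759 F421757
theorem F444483 : act 5 n207353 = n135682 := d6_2 (iv5 F326586) D207353 (iv3 F342935)
theorem F444484 : act 6 n207353 = n202946 := d7_2 F444038 D207353 (iv3 F444037)
theorem F444485 : act 7 n207353 = n195728 := d8_2 F343657 D207353 F397967
theorem F444486 : act 0 n207353 = n135507 := d19_4 (iv1 F442574) (iv5 F421752) F418819 D207353 (iv5 F364324) (iv4 F397960) F397959 (iv1 D134079) (iv5 F206934) D206464 F440948 (iv1 F270656) (iv5 D82566) (iv4 F155439) D88954 (iv1 F233106) D182024 (iv4 F355253) D206908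
theorem F444487 : act 0 n195729 = n207353 := d20_4 F203310 F380870 F380869 (iv3 F397969) (iv3 D207353) (iv4 F418819) (iv1 D201032) (iv4 D113768) (iv3 F104877) (iv1 F319932)
theorem E103932 : n200922 = n189584 := ((c21_8 F441515 F218184 (iv5 F444483) F444484 (iv1 D202946) (iv6 F377048) (iv5 D189586) D189584 (iv5 D200922) (iv6 F342937) (iv1 F441517))).symm
theorem F444488 : act 3 n189584 = n113630 := (sb E103932 F418403)
theorem F444489 : act 4 n189584 = n183135 := (sb E103932 F443396)
theorem F444490 : act 5 n189584 = n113628 := (sb E103932 (iv5 D200922))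
def n207354 : Q := act 6 n130923
theorem D207354 : act 6 n130923 = n207354 := rfl
theorem F444491 : act 2 n207354 = n201002 := d3_1 D207354 (iv6 D201002) (iv2 F343658)
theorem F444492 : act 3 n207354 = n195127 := d7_1 D207354 (iv6 D195127) F343651
theorem F444493 : act 7 n207354 = n207196 := d14_2 (iv7 F343652) D207354 F444045 F444042 (iv6 D200995)
theorem F444494 : act 5 n207354 = n133393 := d21_6 (iv5 D49044) F37704 (iv5 F55149) D76338 (iv1 F326587) D207354 (iv1 D133393) (iv5 F114714) (iv6 D76526) (iv1 F77426)
theorem F444495 : act 0 n207354 = n135524 := d21_10 F415871 (iv1 D200294) F233582 (iv6 F358368) (iv1 F332583) F332587 (iv5 F332609) D195642 F397709 D207354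
def n207355 : Q := act 6 n130934
theorem D207355 : act 6 n130934 = n207355 := rfl
theorem F444496 : act 2 n207355 = n130937 := d3_1 D207355 (iv6 D130937) (iv2 F209549)
theorem F444497 : act 0 n207355 = n135225 := d21_10 F374722 (iv1 D188051) (iv5 F143019) (iv6 D92747) (iv1 F68182) D90455 F323242 (iv1 F97460) D130934 D207355
theorem F444498 : act 0 n159853 = n207355 := d21_4 (iv5 D52674) F76603 D76522 D159853 (iv6 D207355) (iv5 D130934) F97464 (iv5 F97465) (iv6 F325470) F85423
def n207356 : Q := act 5 n130937
theorem D207356 : act 5 n130937 = n207356 := rfl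
theorem F444499 : act 3 n207356 = n130944 := d6_1 D207356 (iv5 D130944) (iv3 F209555)
theorem F444500 : act 6 n207356 = n130940 := d12_2 D130937 D207356 (iv5 D130940) (iv6 D61433) D61432
theorem F444501 : act 4 n207356 = n196356 := d16_4 (iv4 F331860) D153967 F358068 D207356 F401956 F401947 (iv5 D173352) (iv7 F331910) F331908
theorem F444502 : act 0 n207356 = n201671 := d17_2 (iv1 F358069) D207356 F421325 F374727 (iv5 D101479) F156284 (iv5 F389502) F389505 F328115
def n207357 : Q := act 7 n130937
theorem D207357 : act 7 n130937 = n207357 := rfl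
theorem F444503 : act 3 n207357 = n130945 := d8_1 D207357 (iv7 D130945) (iv3 F209555)
theorem F444504 : act 4 n207357 = n174722 := d11_1 D207357 (iv7 F364935) F358068
theorem F444505 : act 1 n159853 = n207357 := d15_1 (iv0 F444498) (iv7 D207357) (iv2 F444496)
theorem F444506 : act 1 n207357 = n135225 := d15_1 F444505 (iv7 F217994) F362199
def n207358 : Q := act 3 n130938
theorem D207358 : act 3 n130938 = n207358 := rfl
theorem F444507 : act 2 n207358 = n200998 := d0_1 D207358 F418677 F371312 (iv3 F444053) F444052
theorem F444508 : act 4 n207358 = n200570 := d5_2 F438817 D207358 F438823 (iv4 D206010) D206009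
theorem F444509 : act 6 n207358 = n201016 := d7_2 (iv6 F374598) D207358 (iv3 F418752)
theorem F444510 : act 7 n207358 = n200988 := d8_2 (iv7 F365180) D207358 F418639
theorem F444511 : act 0 n195129 = n207358 := d20_4 F209227 D196700 (iv4 F409941) F409943 (iv3 D207358) (iv4 F438817) (iv1 F438820) F398743 (iv3 F417275) F417274
theorem F444512 : act 5 n207358 = n195805 := d17_1 F444511 (iv1 F398261) F251160 (iv4 F163233) (iv5 F201985) F201988 D125924 (iv0 F417744) F417743
theorem F444513 : act 0 n207358 = n201000 := d21_1 (iv5 F444512) (iv5 F421915) (iv6 D201822) (iv1 D115078) (iv6 D53099) (iv5 D25755) (iv1 F37420) D49111 (iv6 F163322) D195805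
def n207359 : Q := act 5 n130938
theorem D207359 : act 5 n130938 = n207359 := rfl
theorem F444514 : act 3 n207359 = n195805 := d6_1 D207359 (iv5 F444512) (iv3 D207358)
theorem F444515 : act 4 n207359 = n196794 := d9_1 D207359 (iv5 F424103) F424102 F202852 F343453 (iv5 F317510) (iv4 F209254) D207266 F444050 (iv5 D140558) (iv4 F182481) (iv5 F411111) F411110 (iv5 F438815) F438817
theorem F444516 : act 1 n207359 = n200967 := d17_6 F288118 (iv5 F336045) (iv1 F343466) (iv5 F438815) F438817 D207359 (iv5 D200967) (iv0 F176876) (iv4 F288117)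
def n207360 : Q := act 0 n130944
theorem D207360 : act 0 n130944 = n207360 := rfl
def n207361 : Q := act 1 n130944
theorem D207361 : act 1 n130944 = n207361 := rfl
theorem F444517 : act 1 n207361 = n200917 := d15_1 D207361 F418389 F218216
def n207362 : Q := act 4 n130944
theorem D207362 : act 4 n130944 = n207362 := rfl
theorem F444518 : act 2 n207362 = n207007 := d1_1 D207362 F442947 F218216
theorem F444519 : act 6 n207362 = n130950 := d10_2 (iv6 F209559) D207362 (iv4 D130950)
theorem F444520 : act 5 n207362 = n206998 := d16_1 D207362 (iv4 D206998) (iv5 D129707) (iv4 F207832) F362146 (iv4 F366029) D200917 F418389 F218216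
theorem F444521 : act 3 n192761 = n207362 := d7_3 F444519 (iv3 F350406) D192761
def n207363 : Q := act 7 n130944
theorem D207363 : act 7 n130944 = n207363 := rfl
theorem F444522 : act 2 n207363 = n200917 := d4_1 D207363 F418389 F218216
theorem F444523 : act 5 n207363 = n130945 := d13_1 D207363 (iv7 D130945) D130944
theorem F444524 : act 6 n207363 = n152577 := d14_1 D207363 (iv7 F428985) (iv6 F428986) (iv7 D130951) (iv6 F209559)
theorem F444525 : act 1 n200917 = n207360 := d15_0 (iv0 D207360) D207363 F444522
def n207364 : Q := act 0 n130946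
theorem D207364 : act 0 n130946 = n207364 := rfl
theorem F444526 : act 5 n207364 = n192542 := d19_1 D207364 F412282 (iv3 F412281) (iv1 F360060) (iv5 D110225) (iv4 D50822) F324433 D89645 F296276 (iv4 F325200) D109324 F408038 F408039 (iv4 D111011) F165195 (iv1 F179877) F179874 (iv4 F99198) D130946
theorem F444527 : act 3 n207364 = n135224 := d20_5 F96460 D61880 (iv4 F99198) D130946 D207364 (iv4 F437661) (iv1 F437664) F211850 (iv3 D115495) F96461
theorem F444528 : act 6 n207091 = n207364 := d7_0 F444527 F217412 (iv3 F443274)
theorem F444529 : act 7 n132786 = n207364 := d8_0 F444527 (iv7 D135224) (iv3 F213269)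
def n207365 : Q := act 2 n130946
theorem D207365 : act 2 n130946 = n207365 := rfl
theorem F444530 : act 3 n207365 = n201340 := d0_2 D130946 D207365 F420072 (iv3 D135721) F99197
theorem F444531 : act 5 n207365 = n201301 := d2_2 (iv5 F412228) D207365 (iv2 F419920)
theorem F444532 : act 6 n207365 = n187678 := d3_2 (iv6 F374734) D207365 F374731
theorem F444533 : act 1 n207365 = n132786 := d15_0 (iv0 F355687) (iv7 F214613) D207365
def n207366 : Q := act 6 n130947
theorem D207366 : act 6 n130947 = n207366 := rfl
theorem F444534 : act 4 n207366 = n202296 := d10_1 D207366 (iv6 D202296) F349535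
def n207367 : Q := act 3 n130949
theorem D207367 : act 3 n130949 = n207367 := rfl
theorem F444535 : act 5 n207367 = n195631 := d6_2 F218312 D207367 F397671
theorem F444536 : act 7 n207367 = n206234 := d8_2 (iv7 F218314) D207367 F439842
theorem F444537 : act 6 n206213 = n207367 := d14_5 F444536 (iv6 D206234) F205638 (iv6 F420024) (iv7 F439736)
theorem F444538 : act 1 n197808 = n207367 := d15_1 (iv0 F420128) F444536 F439841
theorem F444539 : act 0 n197812 = n207367 := d21_4 F375328 (iv1 F439872) (iv5 D206240) F405855 (iv6 F444537) F439737 (iv1 F399931) (iv5 F399614) (iv6 F416213) F416216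
def n207368 : Q := act 6 n130949
theorem D207368 : act 6 n130949 = n207368 := rfl
theorem F444540 : act 3 n207368 = n206213 := d7_1 D207368 F444537 (iv3 D207367)
theorem F444541 : act 4 n207368 = n184493 := d10_1 D207368 (iv6 F410335) F410337
theorem F444542 : act 5 n207368 = n196021 := d12_1 D207368 F399098 (iv5 D135763) D135764 F218312
theorem F444543 : act 7 n207368 = n184492 := d14_2 (iv7 F218314) D207368 F286434 F345128 (iv6 F354421)
theorem F444544 : act 0 n207368 = n152518 := d21_10 F444353 (iv1 D207325) (iv5 F239711) (iv6 D152531) (iv1 F108446) D71945 (iv5 F327479) F218315 F218312 D207368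
theorem F444545 : act 0 n197047 = n132082 := d19_8 (iv1 F134994) (iv5 F286437) (iv4 F444541) F444540 (iv1 D206213) F205545 F364642 D197047 F359028 (iv4 D134986) D134985 (iv1 F332708) (iv5 D93222) F295367 (iv3 F72941) D98899 F338885 F268814 (iv3 D171091)
def n207369 : Q := act 1 n130950
theorem D207369 : act 1 n130950 = n207369 := rfl
theorem F444546 : act 1 n207369 = n202286 := d15_1 D207369 F423493 F218232
theorem F444547 : act 7 n207369 = n192709 := d15_2 (iv0 F413518) D207369 F413517
theorem F444548 : act 4 n207369 = n201080 := d18_7 (iv1 D130658) F95791 F46669 (iv4 F46723) D61436 D130950 D207369 (iv0 F444011) (iv5 D207257)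
theorem F444549 : act 6 n192650 = n207369 := d14_5 F444547 (iv6 D192709) (iv7 F371260) (iv6 F383368) (iv7 F387354)
def n207370 : Q := act 7 n130950
theorem D207370 : act 7 n130950 = n207370 := rfl
theorem F444550 : act 2 n207370 = n202286 := d4_1 D207370 F423493 F218232
theorem F444551 : act 3 n207370 = n139325 := d8_1 D207370 F361317 F350406
theorem F444552 : act 4 n207370 = n130951 := d11_1 D207370 (iv7 D130951) D130950
theorem F444553 : act 5 n207370 = n141124 := d13_1 D207370 F361309 F330532
theorem F444554 : act 1 n207370 = n192709 := d15_0 (iv0 F442948) (iv7 F423493) (iv2 F444550)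
def n207371 : Q := act 4 n130953
theorem D207371 : act 4 n130953 = n207371 := rfl
theorem F444555 : act 2 n207371 = n202225 := d1_1 D207371 F423311 F218239
theorem F444556 : act 5 n207371 = n141165 := d9_2 D130953 D207371 (iv4 F330550) (iv5 D107183) F78278 (iv5 F46668) (iv4 F95791) D130659 D207258 F444016 F423314 F179782 F84118 F48393 D61439
theorem F444557 : act 7 n207371 = n202240 := d11_2 (iv7 F209562) D207371 (iv4 D202240)
theorem F444558 : act 3 n207371 = n141166 := d19_3 (iv1 F203475) D130953 D207371 F224190 F101831 F84346 (iv3 D30306) (iv1 D14384) D14386 F45794 D59612 (iv1 F161454) (iv5 F161455) (iv4 F100667) (iv3 F333117) F333115 D136150 (iv4 F437506) F437505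
def n207372 : Q := act 6 n130953
theorem D207372 : act 6 n130953 = n207372 := rfl
theorem F444559 : act 2 n207372 = n183143 := d3_1 D207372 F416555 F218239
theorem F444560 : act 5 n207372 = n201443 := d12_1 D207372 (iv6 F420527) (iv5 F218054) F209223 D130953
def n207373 : Q := act 3 n130956
theorem D207373 : act 3 n130956 = n207373 := rfl
theorem F444561 : act 2 n207373 = n202617 := d0_1 D207373 (iv3 F440603) (iv2 F440605) F404263 F218245
theorem F444562 : act 4 n207373 = n196291 := d5_2 D130956 D207373 F400244 F207058 F165687
theorem F444563 : act 5 n207373 = n202040 := d6_2 F423290 D207373 (iv3 F423292)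
theorem F444564 : act 6 n207373 = n139664 := d7_2 (iv6 F209566) D207373 (iv3 D139664)
theorem F444565 : act 7 n207373 = n202620 := d8_2 F218242 D207373 F424783
theorem F444566 : act 0 n202052 = n207373 := d20_4 D202361 F423755 (iv4 D202053) D202052 (iv3 D207373) (iv4 D130956) (iv1 D61441) D61442 D130959 F404292
def n207374 : Q := act 1 n130959
theorem D207374 : act 1 n130959 = n207374 := rfl
theorem F444567 : act 1 n207374 = n178671 := d15_1 D207374 (iv7 D178671) (iv2 F313717)
theorem F444568 : act 7 n207374 = n178668 := d15_2 (iv0 F404292) D207374 (iv2 F408060)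
theorem F444569 : act 4 n207374 = n145056 := d17_9 F349451 (iv5 F360613) (iv1 F432621) F432619 F423673 F336234 (iv0 F181516) (iv5 F360884) D207374
theorem F444570 : act 3 n197426 = n207374 := d19_19 (iv1 D207374) F360884 F179841 D195477 (iv1 F424302) F424299 F228675 F104443 (iv1 F313986) (iv5 D31664) F318671 (iv3 F76980) (iv1 F76982) (iv5 F101363) D65630 D139806 (iv1 F226827) (iv5 F416360) (iv4 F416361)
theorem F444571 : act 2 n207374 = n178669 := d0_1 F444570 F408057 (iv2 F180013) D115653 F404254
theorem F444572 : act 6 n139642 = n207374 := d10_0 F444569 F424574 F424577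
def n207375 : Q := act 1 n130963
theorem D207375 : act 1 n130963 = n207375 := rfl
theorem F444573 : act 7 n207375 = n202408 := d15_2 (iv0 F423827) D207375 F423889
theorem F444574 : act 3 n156296 = n207375 := d20_9 (iv4 F404079) F423080 F397212 (iv3 D156300) F168138 (iv3 F179755) (iv4 F182829) D202778 F425546 (iv1 D207375)
def n207376 : Q := act 6 n130975
theorem D207376 : act 6 n130975 = n207376 := rfl
theorem F444575 : act 4 n207376 = n207299 := d10_1 D207376 (iv6 D207299) (iv4 F209679)
theorem F444576 : act 5 n207376 = n189319 := d21_6 (iv5 D92787) F68244 (iv5 F106079) F321201 D130975 D207376 (iv1 D189319) F288293 (iv6 F288292) (iv1 F161517)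
def n207377 : Q := act 6 n131092
theorem D207377 : act 6 n131092 = n207377 := rfl
theorem F444577 : act 2 n207377 = n192649 := d3_1 D207377 F387349 F357454
theorem F444578 : act 3 n207377 = n131094 := d7_1 D207377 (iv6 D131094) D131092
theorem F444579 : act 4 n207377 = n191940 := d10_1 D207377 (iv6 F384924) F351958
theorem F444580 : act 5 n207377 = n203953 := d12_1 D207377 (iv6 D203953) (iv5 D121723) D121724 (iv5 F345835)
theorem F444581 : act 7 n207377 = n149674 := d14_2 (iv7 F209940) D207377 (iv6 D149674) (iv7 F151713) (iv6 F351954)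
theorem F444582 : act 0 n207377 = n152437 := d21_4 (iv5 F430571) (iv1 D203955) (iv5 F345835) D207377 (iv6 F330229) F330228 D173768 F330226 F323007 (iv1 F351766)
theorem F444583 : act 0 n171092 = n207377 := d21_4 F332358 F167730 D197606 F404999 (iv6 D207377) F345835 D203954 F430563 (iv6 D128228) D128224
def n207378 : Q := act 3 n131113
theorem D207378 : act 3 n131113 = n207378 := rfl
theorem F444584 : act 2 n207378 = n190363 := d0_1 D207378 (iv3 D190363) (iv2 F376167) F376168 (iv2 F209995)
theorem F444585 : act 6 n207378 = n203283 := d7_2 F383012 D207378 (iv3 F427657)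
theorem F444586 : act 7 n207378 = n207214 := d8_2 (iv7 F209996) D207378 (iv3 D207214)
def n207379 : Q := act 7 n131114
theorem D207379 : act 7 n131114 = n207379 := rfl
theorem F444587 : act 2 n207379 = n207218 := d4_1 D207379 (iv7 D207218) (iv2 F209999)
theorem F444588 : act 4 n207379 = n201473 := d11_1 D207379 F420646 (iv4 F383014)
theorem F444589 : act 5 n207379 = n201867 := d13_1 D207379 F422132 F418961
theorem F444590 : act 6 n207379 = n207216 := d14_1 D207379 (iv7 D207216) (iv6 D130614) (iv7 F96029) D131114
theorem F444591 : act 1 n135619 = n207379 := d15_1 (iv0 F363793) (iv7 D207379) F209999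
theorem F444592 : act 1 n207379 = n187427 := d15_1 F444591 F370287 F218417
def n207380 : Q := act 1 n131116
theorem D207380 : act 1 n131116 = n207380 := rfl
theorem F444593 : act 1 n207380 = n207216 := d15_1 D207380 (iv7 D207216) (iv2 F210004)
theorem F444594 : act 7 n207380 = n145007 := d15_2 (iv0 F420284) D207380 (iv2 F420282)
theorem F444595 : act 3 n151940 = n207380 := d20_3 F187368 (iv1 F187370) D151940 (iv1 D207380) F210005 (iv4 F361788) (iv1 D114422) (iv4 F108021) (iv3 D71488) D71486
theorem F444596 : act 5 n204186 = n207380 := d21_6 (iv5 D52582) (iv1 F77236) D105900 (iv6 F259238) (iv1 F431407) F431400 (iv1 D207380) (iv5 F419034) (iv6 D201084) (iv1 D113891)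
theorem F444597 : act 2 n207380 = n207204 := d0_1 F444595 (iv3 D207204) F210028 (iv3 F341585) (iv2 F238924)
def n207381 : Q := act 7 n131116
theorem D207381 : act 7 n131116 = n207381 := rfl
theorem F444598 : act 2 n207381 = n207216 := d4_1 D207381 (iv7 D207216) (iv2 F210004)
theorem F444599 : act 3 n207381 = n198950 := d8_1 D207381 (iv7 D198950) (iv3 F210005)
theorem F444600 : act 4 n207381 = n203801 := d11_1 D207381 F429878 F379491
theorem F444601 : act 6 n207381 = n207218 := d14_1 D207381 (iv7 D207218) (iv6 D130616) F96026 D131116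
theorem F444602 : act 1 n207204 = n207381 := d15_1 (iv0 F443790) (iv7 D207381) F210004
theorem F444603 : act 1 n207381 = n145007 := d15_1 F444602 (iv7 F444594) F444597
def n207382 : Q := act 2 n131124
theorem D207382 : act 2 n131124 = n207382 := rfl
theorem F444604 : act 3 n207382 = n189736 := d0_2 D131124 D207382 F377577 F209106 (iv2 F96031)
theorem F444605 : act 4 n207382 = n186402 := d1_2 F402727 D207382 (iv2 F402726)
theorem F444606 : act 5 n207382 = n133347 := d2_2 (iv5 F210012) D207382 (iv2 D133347)
theorem F444607 : act 6 n207382 = n136269 := d3_2 F362511 D207382 F219332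
theorem F444608 : act 7 n207382 = n200433 := d4_2 (iv7 F210013) D207382 (iv2 F416412)
theorem F444609 : act 1 n207382 = n200436 := d15_0 (iv0 F416428) (iv7 F210013) D207382
theorem F444610 : act 1 n200426 = n207382 := d15_0 F444609 (iv7 D200436) (iv2 F416378)
def n207383 : Q := act 7 n131125
theorem D207383 : act 7 n131125 = n207383 := rfl
theorem F444611 : act 2 n207383 = n189730 := d4_1 D207383 (iv7 F377564) (iv2 F210014)
theorem F444612 : act 3 n207383 = n200035 := d8_1 D207383 F414709 (iv3 F362512)
theorem F444613 : act 4 n207383 = n131128 := d11_1 D207383 (iv7 D131128) (iv4 F210015)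
theorem F444614 : act 5 n207383 = n189814 := d13_1 D207383 F377855 F362513
theorem F444615 : act 6 n207383 = n207155 := d14_1 D207383 (iv7 D207155) (iv6 D130546) (iv7 F96032) D131125
theorem F444616 : act 1 n207149 = n207383 := d15_1 D207149 (iv7 D207383) F210014
theorem F444617 : act 1 n207383 = n207148 := d15_1 F444616 (iv7 F443759) F443758
def n207384 : Q := act 3 n131126
theorem D207384 : act 3 n131126 = n207384 := rfl
theorem F444618 : act 2 n207384 = n157362 := d0_1 D207384 F398984 F373989 F390841 F390843
theorem F444619 : act 7 n207384 = n157363 := d8_2 F390845 D207384 F443583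
theorem F444620 : act 5 n201663 = n207384 := d2_0 F444618 (iv5 F398985) (iv2 F421293)
theorem F444621 : act 0 n207384 = n157364 := d18_0 (iv4 F349257) F372535 F364269 (iv5 D135518) (iv4 F179235) (iv0 F421291) F421289 D201663 F444620
theorem F444622 : act 0 n131301 = n207384 := d19_0 (iv5 F444620) F421294 (iv3 F204746) F379623 (iv5 D190383) (iv4 D95971) F70362 D44790 F70364 F36738 F17930 (iv1 F293029) (iv5 F294008) D21239 D44630 (iv1 F295193) D189080 F375666 (iv3 F210441)
def n207385 : Q := act 4 n131126
theorem D207385 : act 4 n131126 = n207385 := rfl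
theorem F444623 : act 2 n207385 = n158068 := d1_1 D207385 (iv4 F390840) F390843
theorem F444624 : act 6 n207385 = n206395 := d10_2 (iv6 F376589) D207385 F440578
theorem F444625 : act 7 n207385 = n207162 := d11_2 F390845 D207385 F443582
theorem F444626 : act 0 n207385 = n207163 := d17_0 F443589 (iv1 D186082) (iv5 F249057) (iv4 F396247) F396248 F251356 F233520 F210019 D207385
theorem F444627 : act 5 n207385 = n158094 := d18_4 F443760 F210015 D131126 D207385 (iv4 F280642) F283863 (iv4 F413861) (iv0 F417179) F443837
theorem F444628 : act 1 n207385 = n131134 := d18_8 (iv1 F151335) F151334 (iv1 F248680) (iv4 F270248) (iv5 F377574) F377563 F210019 D207385 F332878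
theorem F444629 : act 3 n191719 = n207385 := d6_3 F444627 (iv3 F276076) (iv5 F384252)
def n207386 : Q := act 5 n131126
theorem D207386 : act 5 n131126 = n207386 := rfl
theorem F444630 : act 2 n207386 = n207211 := d2_1 D207386 (iv5 D207211) F390843
theorem F444631 : act 3 n207386 = n201663 := d6_1 D207386 F444620 (iv3 D207384)
theorem F444632 : act 6 n207386 = n202942 := d12_2 (iv6 F376589) D207386 F426297 (iv6 F419088) F376588
theorem F444633 : act 7 n207386 = n201030 := d13_2 F390845 D207386 F418811
def n207387 : Q := act 7 n131130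
theorem D207387 : act 7 n131130 = n207387 := rfl
theorem F444634 : act 2 n207387 = n207155 := d4_1 D207387 (iv7 D207155) (iv2 F210024)
theorem F444635 : act 3 n207387 = n164110 := d8_1 D207387 (iv7 F430206) F430204
theorem F444636 : act 4 n207387 = n131132 := d11_1 D207387 (iv7 D131132) (iv4 F210025)
theorem F444637 : act 5 n207387 = n164109 := d13_1 D207387 (iv7 F417662) F417661
theorem F444638 : act 6 n207387 = n189730 := d14_1 D207387 (iv7 F377564) (iv6 D130532) (iv7 F96039) D131130
theorem F444639 : act 1 n198530 = n207387 := d15_1 (iv0 F416145) (iv7 D207387) F210024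
theorem F444640 : act 1 n207387 = n201268 := d15_1 F444639 (iv7 F443728) F443726
def n207388 : Q := act 4 n131131
theorem D207388 : act 4 n131131 = n207388 := rfl
theorem F444641 : act 2 n207388 = n207169 := d1_1 D207388 F443628 F210028
theorem F444642 : act 3 n207388 = n196170 := d5_1 D207388 (iv4 D196170) (iv3 F210498) F210502 F341585
theorem F444643 : act 7 n207388 = n196176 := d11_2 (iv7 F210027) D207388 F399720
theorem F444644 : act 0 n207388 = n131136 := d18_2 (iv1 F210026) D207388 F210042 (iv5 F163521) (iv4 F250891) (iv0 F441451) F441452 F250870 (iv5 F209181)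
theorem F444645 : act 0 n207170 = n207388 := d20_1 (iv4 F443630) (iv4 D207388) (iv3 F341585) (iv1 D107553) (iv3 F322881) (iv4 F324327) D107562 (iv4 F364645) F364646 (iv1 F214481)
def n207389 : Q := act 2 n131133
theorem D207389 : act 2 n131133 = n207389 := rfl
theorem F444646 : act 3 n207389 = n207160 := d0_2 D131133 D207389 F443569 F209136 F96046
theorem F444647 : act 5 n207389 = n131918 := d2_2 (iv5 F210034) D207389 (iv2 D131918)
theorem F444648 : act 6 n207389 = n159307 := d3_2 (iv6 F359171) D207389 F254481
theorem F444649 : act 7 n207389 = n200324 := d4_2 (iv7 F210035) D207389 (iv2 F416000)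
theorem F444650 : act 1 n207389 = n200325 := d15_0 (iv0 F416006) (iv7 F210035) D207389
theorem F444651 : act 1 n200319 = n207389 := d15_0 F444650 (iv7 D200325) (iv2 F415978)
def n207390 : Q := act 4 n131133
theorem D207390 : act 4 n131133 = n207390 := rfl
theorem F444652 : act 3 n207390 = n133290 := d5_1 D207390 (iv4 D133290) F97537 (iv4 F96044) D131133
theorem F444653 : act 6 n207390 = n180682 := d10_2 (iv6 F359171) D207390 (iv4 D180682)
theorem F444654 : act 7 n207390 = n203670 := d11_2 (iv7 F210035) D207390 F429337
theorem F444655 : act 0 n207390 = n203793 := d17_0 (iv5 D203793) (iv1 F408320) (iv5 F415813) F415812 (iv5 F175947) (iv0 D112980) D112983 (iv0 F210036) D207390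
theorem F444656 : act 5 n190611 = n207390 := d6_0 F444652 (iv5 F365206) F427668
def n207391 : Q := act 7 n131136
theorem D207391 : act 7 n131136 = n207391 := rfl
theorem F444657 : act 2 n207391 = n207170 := d4_1 D207391 (iv7 D207170) (iv2 F210041)
theorem F444658 : act 3 n207391 = n206403 := d8_1 D207391 (iv7 F440622) F439000
theorem F444659 : act 4 n207391 = n133399 := d11_1 D207391 (iv7 D133399) (iv4 F210042)
theorem F444660 : act 5 n207391 = n206466 := d13_1 D207391 F440960 (iv5 F343930)
theorem F444661 : act 6 n207391 = n207163 := d14_1 D207391 (iv7 D207163) (iv6 D130553) (iv7 F96049) D131136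
theorem F444662 : act 1 n207169 = n207391 := d15_1 D207169 (iv7 D207391) F210041
theorem F444663 : act 1 n207391 = n196176 := d15_1 F444662 (iv7 F444643) F444641
def n207392 : Q := act 6 n131149
theorem D207392 : act 6 n131149 = n207392 := rfl
theorem F444664 : act 2 n207392 = n197161 := d3_1 D207392 (iv6 D197161) (iv2 F210052)
theorem F444665 : act 3 n207392 = n204147 := d7_1 D207392 F431195 F366496
theorem F444666 : act 4 n207392 = n195841 := d10_1 D207392 (iv6 F398408) F247870
theorem F444667 : act 5 n207392 = n155488 := d12_1 D207392 F357701 F196843 (iv6 F311649) D131149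
theorem F444668 : act 0 n207392 = n148516 := d21_4 (iv5 D157401) (iv1 F112355) D131149 D207392 F355597 (iv5 D99378) F73377 D48203 (iv6 F159693) F307756
theorem F444669 : act 1 n207392 = n146792 := d15_1 (iv0 F444668) (iv7 F355594) F355596
def n207393 : Q := act 3 n131160
theorem D207393 : act 3 n131160 = n207393 := rfl
def n207394 : Q := act 0 n131161
theorem D207394 : act 0 n131161 = n207394 := rfl
theorem F444670 : act 4 n207394 = n135790 := d18_3 (iv1 F218008) (iv4 F352115) D207394 F218379 F214594 F97697 D130650 F214096 D130668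
theorem F444671 : act 1 n135231 = n207394 := d15_0 (iv0 D207394) F352116 F218004
theorem F444672 : act 7 n207394 = n148533 := d15_2 F443975 F444671 (iv2 F443971)
theorem F444673 : act 3 n191777 = n207394 := d20_9 (iv4 D135231) (iv1 F209237) D207262 F444035 (iv1 D204955) (iv3 F434316) F434317 F338899 (iv4 F384414) (iv1 F444671)
theorem F444674 : act 6 n207394 = n191775 := d7_2 D191777 F444673 (iv3 D191775)
def n207395 : Q := act 3 n131162
theorem D207395 : act 3 n131162 = n207395 := rfl
theorem F444675 : act 0 n207395 = n204949 := d20_4 F403322 D206245 F439900 D207395 F434307 F200485 D124815 (iv4 F278979) D179752 (iv1 F403325)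
def n207396 : Q := act 5 n131162
theorem D207396 : act 5 n131162 = n207396 := rfl
theorem F444676 : act 2 n207396 = n204086 := d2_1 D207396 F431030 F385413
theorem F444677 : act 7 n207396 = n204087 := d13_2 F428386 D207396 F431032
theorem F444678 : act 4 n207396 = n203217 := d16_2 F439900 D207396 (iv5 F427446) F348577 (iv5 F370560) (iv4 F424266) (iv5 F432083) F432084 F439903
theorem F444679 : act 0 n207396 = n170646 := d17_2 D131162 D207396 (iv5 D170646) F297180 F319981 F184499 F315547 (iv0 D61533) (iv4 F96059)
theorem F444680 : act 0 n204082 = n207396 := d21_1 D204082 (iv5 D207396) F385414 (iv1 F385407) (iv6 D124030) D124029 D204592 F432970 (iv6 F429711) (iv1 F268091)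
theorem F444681 : act 6 n203216 = n207396 := d10_0 F444678 (iv6 D203217) D203216
def n207397 : Q := act 7 n131164
theorem D207397 : act 7 n131164 = n207397 := rfl
theorem F444682 : act 2 n207397 = n204033 := d4_1 D207397 F430856 (iv2 F352112)
theorem F444683 : act 5 n207397 = n131165 := d13_1 D207397 (iv7 D131165) D131164
def n207398 : Q := act 4 n131179
theorem D207398 : act 4 n131179 = n207398 := rfl
theorem F444684 : act 2 n207398 = n197025 := d1_1 D207398 F402731 (iv2 F210120)
theorem F444685 : act 5 n207398 = n151673 := d9_2 D131179 D207398 (iv4 D151673) F108009 F78497 (iv5 F52354) D71640 D151948 (iv4 F443771) (iv5 D207200) (iv4 D130602) (iv5 D61279) F46643 (iv5 F46805) D61541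
theorem F444686 : act 7 n207398 = n197029 := d11_2 (iv7 F210121) D207398 F402745
theorem F444687 : act 0 n207398 = n193396 := d17_0 F389702 (iv1 F238198) (iv5 F238378) (iv4 D151510) (iv5 D71426) (iv0 F78844) D107930 (iv0 F210122) D207398
theorem F444688 : act 1 n207398 = n203373 := d18_6 F78812 (iv4 D33133) (iv1 F52347) D61541 D131179 D207398 F428084 F238359 (iv5 D107904)
theorem F444689 : act 3 n189006 = n207398 := d8_3 F444686 F402744 F376839
theorem F444690 : act 6 n207398 = n189003 := d7_2 D189006 F444689 (iv3 D189003)
theorem F444691 : act 0 n189006 = n204197 := d20_4 F371587 (iv1 F210123) D207398 (iv3 F444689) (iv3 D204197) (iv4 D123117) D123115 D204193 F431428 F385403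
def n207399 : Q := act 6 n131179
theorem D207399 : act 6 n131179 = n207399 := rfl
theorem F444692 : act 2 n207399 = n134792 := d3_1 D207399 F386974 (iv2 F210120)
theorem F444693 : act 4 n207399 = n189003 := d10_1 D207399 (iv6 F444690) (iv4 D207398)
theorem F444694 : act 5 n207399 = n134789 := d12_1 D207399 F411665 F361492 F307626 D131179
theorem F444695 : act 7 n207399 = n134797 := d14_2 (iv7 F210121) D207399 (iv6 F411674) F384665 F374474
theorem F444696 : act 0 n187866 = n207399 := d17_0 F444694 F410156 (iv5 F216919) (iv4 F351267) F186827 D151710 (iv5 F371719) (iv0 D187867) (iv4 F371717)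
theorem F444697 : act 1 n135077 = n207399 := d17_6 (iv1 F355339) F355340 (iv1 F329093) F216330 F209315 (iv5 F217302) F444694 F410157 F98619
def n207400 : Q := act 1 n131287
theorem D207400 : act 1 n131287 = n207400 := rfl
theorem F444698 : act 7 n207400 = n197030 := d15_2 (iv0 F443777) D207400 (iv2 F443775)
theorem F444699 : act 3 n188062 = n207400 := d8_3 F444698 F402749 (iv7 F376845)
theorem F444700 : act 4 n197032 = n207400 := d11_3 F444698 F402750 D197032
theorem F444701 : act 5 n207400 = n188060 := d6_2 D188062 F444699 (iv3 D188060)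
def n207401 : Q := act 6 n131293
theorem D207401 : act 6 n131293 = n207401 := rfl
theorem F444702 : act 2 n207401 = n131306 := d3_1 D207401 (iv6 D131306) (iv2 F210417)
theorem F444703 : act 4 n207401 = n131294 := d10_1 D207401 (iv6 D131294) D131293
theorem F444704 : act 0 n207401 = n186142 := d21_4 F335870 (iv1 F314149) F215272 D207401 (iv6 D186142) (iv5 D88681) D88678 (iv5 F355754) (iv6 F355756) (iv1 F215147)
theorem F444705 : act 5 n194043 = n207401 := d9_0 F444703 (iv5 F333572) (iv4 D94292) (iv5 D44079) F62855 D87571 D183466 F379797 F379795 (iv5 F238560) F369345 F369341 (iv4 F294940) (iv5 F157818) D194043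
def n207402 : Q := act 0 n131294
theorem D207402 : act 0 n131294 = n207402 := rfl
theorem F444706 : act 5 n207402 = n189497 := d17_3 (iv1 D189663) F333572 D207402 (iv4 D189497) (iv5 D93997) D93995 D189494 F377659 F377657
theorem F444707 : act 1 n131309 = n207402 := d15_0 (iv0 D207402) (iv7 F392286) F392283
theorem F444708 : act 2 n131307 = n207402 := d2_3 F444706 F392293 (iv5 F392294)
theorem F444709 : act 7 n131308 = n207402 := d13_0 F444706 F376714 F367591
theorem F444710 : act 3 n207402 = n188505 := d8_1 F444709 F373810 (iv3 F377164)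
def n207403 : Q := act 1 n131294
theorem D207403 : act 1 n131294 = n207403 := rfl
theorem F444711 : act 1 n207403 = n131309 := d15_1 D207403 (iv7 D131309) (iv2 F210418)
theorem F444712 : act 7 n207403 = n131307 := d15_2 (iv0 D207402) D207403 F444708
theorem F444713 : act 5 n207403 = n189684 := d17_7 (iv1 F331370) (iv5 D94226) (iv1 F157561) D44079 D94292 F333572 D207403 (iv0 F392278) (iv4 D194180)
theorem F444714 : act 3 n195947 = n207403 := d19_19 (iv1 D207403) (iv5 F333572) (iv4 D94292) F69422 (iv1 F292603) F59917 (iv4 D19474) F14244 F14246 F17502 D9646 (iv3 F15017) (iv1 F14931) D17338 D35780 D78538 (iv1 F365832) F347544 F398819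
theorem F444715 : act 2 n207403 = n131308 := d0_1 F444714 F377164 (iv2 F373805) F373751 (iv2 F398821)
theorem F444716 : act 4 n207403 = n201112 := d5_2 F398819 F444714 F419133 F332867 (iv3 F347542)
def n207404 : Q := act 7 n131299
theorem D207404 : act 7 n131299 = n207404 := rfl
theorem F444717 : act 2 n207404 = n195964 := d4_1 D207404 (iv7 D195964) (iv2 F210437)
theorem F444718 : act 3 n207404 = n189639 := d8_1 D207404 (iv7 D189639) (iv3 F210438)
theorem F444719 : act 4 n207404 = n207202 := d11_1 D207404 F443780 F402755
theorem F444720 : act 6 n207404 = n191322 := d14_1 D207404 F383037 F355638 (iv7 F96181) D131299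
theorem F444721 : act 1 n195963 = n207404 := d15_1 D195963 (iv7 D207404) F210437
theorem F444722 : act 1 n207404 = n195962 := d15_1 F444721 (iv7 F428333) F428330
def n207405 : Q := act 1 n131301
theorem D207405 : act 1 n131301 = n207405 := rfl
theorem F444723 : act 1 n207405 = n157364 := d15_1 D207405 (iv7 D157364) (iv2 F210440)
theorem F444724 : act 7 n207405 = n157362 := d15_2 (iv0 F444622) D207405 (iv2 F444618)
theorem F444725 : act 3 n135619 = n207405 := d20_3 (iv4 D195019) (iv1 F289006) F344974 (iv1 D207405) F210441 (iv4 F375666) F375667 F352841 F352840 F395443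
theorem F444726 : act 5 n135612 = n207405 := d21_0 (iv1 D207405) (iv5 F229748) (iv6 D146418) (iv1 F104857) D68656 F104869 (iv1 F259135) D53034 D114939 F336809
theorem F444727 : act 6 n135615 = n207405 := d21_3 F376440 (iv1 D135614) D135615 (iv1 D207405) (iv6 D131301) F96183 F54396 D52115 D112909 (iv1 F376439)
theorem F444728 : act 4 n207405 = n191709 := d10_1 F444727 (iv6 D191709) (iv4 F376441)
theorem F444729 : act 2 n157363 = n207405 := d16_9 F444728 (iv5 F391682) (iv4 F394471) F394472 F238570 (iv5 F183732) (iv4 F421294) F444620 F444619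
def n207406 : Q := act 3 n131303
theorem D207406 : act 3 n131303 = n207406 := rfl
theorem F444730 : act 2 n207406 = n175980 := d0_1 D207406 (iv3 F365940) F327119 (iv3 F340668) (iv2 F215215)
theorem F444731 : act 5 n207406 = n173657 := d6_2 (iv5 F363494) D207406 F355327
theorem F444732 : act 7 n207406 = n200356 := d8_2 F215218 D207406 F416122
theorem F444733 : act 0 n200370 = n207406 := d20_4 (iv4 F95737) D130580 (iv4 F259103) D200370 (iv3 D207406) F210443 (iv1 F162601) (iv4 F247670) (iv3 F396347) (iv1 D113007)
theorem E103933 : n200370 = n200362 := (c15_1 (iv0 F444733) (iv0 D200362) (iv7 F365941) (iv2 F444730))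
theorem F444734 : act 0 n200362 = n207406 := (sb E103933 F444733)
theorem F444735 : act 3 n200362 = n113038 := (sb E103933 (iv3 D200370))
theorem F444736 : act 7 n200362 = n196009 := (sb E103933 F416167)
theorem F444737 : act 6 n187162 = n207406 := d14_5 F444732 (iv6 D200356) F176065 F145636 F369270
theorem F444738 : act 1 n200363 = n207406 := d15_1 D200363 F444732 F416121
theorem F444739 : act 2 n196009 = n200363 := d15_3 F444738 (iv0 F444734) F444736
theorem F444740 : act 6 n200363 = n186409 := d21_5 F443277 F397818 (iv5 F369268) F444737 (iv1 F444738) (iv5 F367060) F419536 D207090 F443270 D207092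
theorem F444741 : act 3 n200278 = n200363 := d7_3 F444740 F367061 F415807
def n207407 : Q := act 6 n131303
theorem D207407 : act 6 n131303 = n207407 := rfl
theorem F444742 : act 2 n207407 = n201844 := d3_1 D207407 F422022 (iv2 F215215)
theorem F444743 : act 3 n207407 = n187162 := d7_1 D207407 F444737 (iv3 D207406)
theorem F444744 : act 4 n207407 = n159992 := d10_1 D207407 (iv6 D159992) (iv4 F210443)
theorem F444745 : act 5 n207407 = n201842 := d12_1 D207407 (iv6 D201842) (iv5 F336870) F335188 (iv5 F363494)
theorem F444746 : act 7 n207407 = n189770 := d14_2 F215218 D207407 F377687 F166718 (iv6 F334831)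
theorem F444747 : act 0 n191709 = n207407 := d21_4 (iv5 F292999) (iv1 F293121) D98698 D191709 (iv6 D207407) F363494 (iv1 D148459) (iv5 F335869) F355756 (iv1 F238938)
def n207408 : Q := act 0 n131306
theorem D207408 : act 0 n131306 = n207408 := rfl
theorem F444748 : act 4 n207408 = n190523 := d18_3 (iv1 D131308) (iv4 F210445) D207408 F379990 F379791 F331373 D189683 F377388 F367591
theorem F444749 : act 6 n207408 = n186137 := d21_5 F335871 (iv1 F312070) (iv5 D131305) D131306 D207408 (iv5 D186137) (iv1 F140084) F349276 (iv6 F349279) F247666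
theorem F444750 : act 2 n186142 = n207408 := d3_3 F444749 F288872 D186142
def n207409 : Q := act 1 n131306
theorem D207409 : act 1 n131306 = n207409 := rfl
theorem F444751 : act 7 n207409 = n186142 := d15_2 (iv0 D207408) D207409 F444750
theorem F444752 : act 4 n207409 = n190018 := d18_7 (iv1 F364665) (iv4 F369306) F369304 F360285 F108015 (iv4 F210445) D207409 (iv0 F378576) F376717
theorem F444753 : act 3 n186150 = n207409 := d19_19 (iv1 D207409) (iv5 F367657) (iv4 D186681) F294941 (iv1 D44567) (iv5 D21200) (iv4 D10108) (iv3 F16849) F31146 (iv5 D19475) (iv4 F15059) F15058 (iv1 F17588) F293253 (iv4 F34011) (iv3 F64244) F70176 D95548 F365425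
theorem F444754 : act 6 n207409 = n200367 := d7_2 F291599 F444753 (iv3 D200367)
def n207410 : Q := act 3 n131326
theorem D207410 : act 3 n131326 = n207410 := rfl
theorem F444755 : act 4 n207410 = n143103 := d5_2 D131326 D207410 F347290 (iv4 D85106) F312191
theorem F444756 : act 5 n207410 = n203930 := d6_2 F215190 D207410 F430450
theorem F444757 : act 6 n207410 = n143118 := d7_2 F226046 D207410 (iv3 F361806)
theorem F444758 : act 7 n207410 = n203299 := d8_2 F215273 D207410 F427751
theorem F444759 : act 0 n207410 = n134069 := d19_4 (iv1 D61627) D61628 D131326 D207410 (iv5 F402766) F402765 F165934 D189308 F376388 F376937 (iv3 D170725) (iv1 F305169) F191991 F304405 (iv3 F114074) (iv1 F306464) (iv5 D123382) (iv4 F197753) F312064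
theorem F444760 : act 0 n202888 = n207410 := d20_4 F331605 (iv1 F183346) D117202 D202888 (iv3 D207410) (iv4 D131326) F309948 (iv4 F183779) F331611 F331608
def n207411 : Q := act 5 n131353
theorem D207411 : act 5 n131353 = n207411 := rfl
theorem F444761 : act 2 n207411 = n131362 := d2_1 D207411 (iv5 D131362) (iv2 F210552)
theorem F444762 : act 3 n207411 = n149257 := d6_1 D207411 (iv5 F403375) F403373
theorem F444763 : act 4 n207411 = n170728 := d9_1 D207411 F346273 F219923 F100091 F175455 (iv5 F351646) F213643 (iv5 F438248) (iv4 D205882) (iv5 D126717) F93858 F48645 (iv4 F81150) D111446 F351639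
theorem F444764 : act 6 n207411 = n131354 := d12_2 D131353 D207411 (iv5 D131354) (iv6 D61650) D61649
theorem F444765 : act 7 n207411 = n170463 := d13_2 F344132 D207411 F344130
theorem F444766 : act 0 n207411 = n140719 := d17_2 (iv1 F344136) D207411 F324345 F125432 F328004 (iv0 D51022) D51024 (iv0 F332099) (iv4 F344124)
theorem F444767 : act 1 n207411 = n149582 := d17_6 F381148 (iv5 D112724) F82222 D111446 F351639 D207411 F337163 (iv0 F340792) (iv4 F381146)
def n207412 : Q := act 7 n131366
theorem D207412 : act 7 n131366 = n207412 := rfl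
theorem F444768 : act 2 n207412 = n203539 := d4_1 D207412 F428791 F228252
theorem F444769 : act 3 n207412 = n152251 := d8_1 D207412 (iv7 F389722) F389720
theorem F444770 : act 4 n207412 = n131369 := d11_1 D207412 (iv7 D131369) (iv4 F210577)
theorem F444771 : act 6 n207412 = n152249 := d14_1 D207412 F337609 (iv6 D145263) F104233 D131366
theorem F444772 : act 1 n155153 = n207412 := d15_1 F344088 (iv7 D207412) (iv2 F228252)
theorem F444773 : act 1 n207412 = n133751 := d15_1 F444772 (iv7 F344034) F344086
def n207413 : Q := act 5 n131367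
theorem D207413 : act 5 n131367 = n207413 := rfl
theorem F444774 : act 2 n207413 = n170600 := d2_1 D207413 (iv5 D170600) (iv2 F314275)
theorem F444775 : act 3 n207413 = n154036 := d6_1 D207413 F242061 F232770
theorem F444776 : act 6 n207413 = n154034 := d12_2 (iv6 F232769) D207413 F242058 (iv6 D75060) D75059
theorem F444777 : act 7 n207413 = n203136 := d13_2 F238915 D207413 F427107
theorem F444778 : act 1 n207413 = n190797 := d17_6 F312087 F319575 D129691 F344118 F344119 D207413 (iv5 D190797) F300242 (iv4 D80312)
theorem F444779 : act 0 n207413 = n154887 := d18_0 (iv4 F359292) (iv1 D127616) F94399 D59964 (iv4 F344033) D203539 F428792 F238923 D207413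
def n207414 : Q := act 5 n131381
theorem D207414 : act 5 n131381 = n207414 := rfl
theorem F444780 : act 3 n207414 = n131389 := d6_1 D207414 (iv5 D131389) (iv3 F210590)
theorem F444781 : act 6 n207414 = n132349 := d12_2 D131381 D207414 F366150 (iv6 F355020) (iv5 D131380)
theorem F444782 : act 7 n207414 = n206803 := d13_2 F213662 D207414 F442252
theorem F444783 : act 0 n207414 = n204875 := d17_2 F347127 D207414 F433973 F344389 (iv5 F275818) (iv0 D176502) (iv5 D84158) D84157 (iv4 F243933)
theorem F444784 : act 1 n207414 = n152663 := d17_6 F353879 F353999 (iv1 F354042) (iv5 F341892) F213665 D207414 (iv5 D152663) (iv0 F316780) (iv4 F249087)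
def n207415 : Q := act 4 n131389
theorem D207415 : act 4 n131389 = n207415 := rfl
theorem F444785 : act 2 n207415 = n206753 := d1_1 D207415 F442058 F350896
theorem F444786 : act 6 n207415 = n132350 := d10_2 (iv6 F350901) D207415 (iv4 D132350)
theorem F444787 : act 7 n207415 = n206806 := d11_2 F350902 D207415 F442255
def n207416 : Q := act 5 n131392
theorem D207416 : act 5 n131392 = n207416 := rfl
theorem F444788 : act 2 n207416 = n133090 := d2_1 D207416 F359264 F215288
theorem F444789 : act 3 n207416 = n193412 := d6_1 D207416 (iv5 D193412) (iv3 F344084)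
theorem F444790 : act 6 n207416 = n205870 := d12_2 F344065 D207416 (iv5 D205870) (iv6 F389763) (iv5 D193408)
theorem F444791 : act 7 n207416 = n158472 := d13_2 F344085 D207416 (iv5 F347023)
theorem F444792 : act 0 n207416 = n132754 := d17_2 F233103 D207416 F321680 (iv4 F249673) (iv5 F346214) (iv0 F444779) (iv5 D207413) (iv0 D131367) (iv4 F210577)
theorem F444793 : act 1 n207416 = n158448 := d17_6 F333618 (iv5 D127721) (iv1 F205323) F317386 D131392 D207416 (iv5 D158448) D158447 F344399
def n207417 : Q := act 5 n131396
theorem D207417 : act 5 n131396 = n207417 := rfl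
theorem F444794 : act 2 n207417 = n149266 := d2_1 D207417 (iv5 D149266) (iv2 F210604)
theorem F444795 : act 6 n207417 = n189941 := d12_2 (iv6 F210605) D207417 (iv5 D189941) (iv6 D95490) (iv5 F96256)
def n207418 : Q := act 7 n131396
theorem D207418 : act 7 n131396 = n207418 := rfl
theorem F444796 : act 2 n207418 = n149267 := d4_1 D207418 (iv7 D149267) (iv2 F210604)
theorem F444797 : act 3 n207418 = n190842 := d8_1 D207418 F381295 F284868
theorem F444798 : act 4 n207418 = n131397 := d11_1 D207418 (iv7 D131397) D131396
theorem F444799 : act 6 n207418 = n149267 := d14_1 D207418 (iv7 D149267) (iv6 D70063) (iv7 F96255) (iv6 F210605)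
theorem F444800 : act 1 n149265 = n207418 := d15_1 D149265 (iv7 D207418) F210604
theorem F444801 : act 1 n207418 = n149264 := d15_1 F444800 (iv7 F378620) F378618
def n207419 : Q := act 3 n131398
theorem D207419 : act 3 n131398 = n207419 := rfl
theorem F444802 : act 5 n207419 = n155578 := d6_2 F420666 D207419 F421662
theorem F444803 : act 7 n207419 = n194187 := d8_2 (iv7 F210613) D207419 (iv3 F392299)
theorem F444804 : act 0 n207419 = n194188 := d20_4 F210006 F97799 D131398 D207419 F392303 (iv4 F352931) (iv1 D131138) (iv4 F352833) (iv3 F352834) D131117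
theorem F444805 : act 0 n194181 = n207419 := d20_4 F398987 D200745 (iv4 F417748) (iv3 F392281) (iv3 D207419) (iv4 D131398) F96259 D74851 D157392 F398989
theorem F444806 : act 2 n207419 = n194186 := d15_3 (iv0 D194186) D194187 (iv7 F444803)
def n207420 : Q := act 0 n131399
theorem D207420 : act 0 n131399 = n207420 := rfl
theorem F444807 : act 5 n207420 = n199857 := d17_1 D207420 (iv1 F443880) (iv5 D207222) F209197 (iv5 F103895) (iv0 F328438) D130713 F218099 (iv4 F344964)
theorem F444808 : act 4 n207420 = n134502 := d18_3 (iv1 F329182) (iv4 F344964) D207420 F216454 F179237 F169869 (iv4 F166220) (iv0 F169228) (iv5 F328843)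
theorem F444809 : act 6 n207420 = n134502 := d21_5 F86722 F46900 D61673 D131399 D207420 F216454 (iv1 F179240) (iv5 F209269) F327030 (iv1 F120072)
theorem F444810 : act 2 n203440 = n207420 := d15_3 (iv0 D207420) (iv0 F345025) F428317
theorem F444811 : act 1 n135809 = n207420 := d15_0 (iv0 D207420) F344965 (iv2 F218424)
theorem F444812 : act 7 n207420 = n203441 := d15_2 F345026 F444811 F428322
theorem F444813 : act 3 n195945 = n207420 := d8_3 F444812 F428323 F398814
def n207421 : Q := act 6 n131401
theorem D207421 : act 6 n131401 = n207421 := rfl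
theorem F444814 : act 2 n207421 = n203459 := d3_1 D207421 (iv6 D203459) (iv2 F210619)
theorem F444815 : act 3 n207421 = n191805 := d7_1 D207421 F384500 (iv3 F357932)
theorem F444816 : act 5 n207421 = n191801 := d12_1 D207421 (iv6 D191801) (iv5 D98939) F321532 D131401
def n207422 : Q := act 0 n131425
theorem D207422 : act 0 n131425 = n207422 := rfl
theorem F444817 : act 5 n207422 = n187073 := d17_1 D207422 F369036 (iv5 D161656) (iv4 F319557) (iv5 F374034) (iv0 F374036) (iv5 D133841) F278615 (iv4 F210649)
theorem F444818 : act 4 n207422 = n170569 := d18_1 D207422 (iv1 F337068) (iv4 F428726) F428728 (iv4 D191411) (iv0 D98314) D98316 D191415 (iv5 F383417)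
theorem F444819 : act 6 n207422 = n166946 := d21_5 D77667 (iv1 F317511) (iv5 D131424) D131425 D207422 (iv5 F443483) (iv1 F443487) (iv5 D131389) (iv6 D61665) F314518
theorem F444820 : act 2 n131472 = n207422 := d15_3 (iv0 D207422) (iv0 F408199) F408198
theorem F444821 : act 1 n131475 = n207422 := d15_0 (iv0 D207422) (iv7 F356993) (iv2 F356991)
theorem F444822 : act 7 n207422 = n131473 := d15_2 F408200 F444821 (iv2 F408201)
theorem F444823 : act 3 n167343 = n207422 := d20_9 F210744 F278613 D197511 F404639 (iv1 F429149) F429144 F274050 F425463 (iv4 F425464) (iv1 F444821)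
def n207423 : Q := act 0 n131442
theorem D207423 : act 0 n131442 = n207423 := rfl
theorem F444824 : act 5 n207423 = n203279 := d17_3 F333737 (iv5 F354797) D207423 F427641 F186385 F313893 (iv5 D73724) D73722 D155232
theorem F444825 : act 4 n207423 = n162790 := d18_1 D207423 (iv1 D162790) F305662 F315912 (iv4 F244130) (iv0 D155224) D155227 F333752 (iv5 F354797)
theorem F444826 : act 2 n131552 = n207423 := d1_3 F444825 (iv2 F409732) F409735
theorem F444827 : act 6 n165662 = n207423 := d10_0 F444825 F359983 D165662
theorem F444828 : act 7 n131553 = n207423 := d11_0 F444825 (iv7 F409478) F409476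
theorem F444829 : act 1 n131555 = n207423 := d17_8 (iv1 D162790) D162792 (iv1 F351388) (iv5 D121090) D121089 F359991 F342335 (iv5 F342338) F444825
theorem F444830 : act 3 n160492 = n207423 := d20_5 (iv4 D39055) F29892 D35156 D76947 D160492 F444825 (iv1 D162790) F305662 (iv3 D77223) (iv1 F60056)
def n207424 : Q := act 1 n131442
theorem D207424 : act 1 n131442 = n207424 := rfl
theorem F444831 : act 1 n207424 = n131555 := d15_1 D207424 (iv7 D131555) (iv2 F210690)
theorem F444832 : act 7 n207424 = n131552 := d15_2 (iv0 D207423) D207424 F444826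
theorem F444833 : act 4 n207424 = n162789 := d17_9 F409580 (iv5 F430119) (iv1 F430121) (iv5 D121095) D121094 (iv5 F354799) F333752 (iv5 F354797) D207424
theorem F444834 : act 6 n163842 = n207424 := d21_3 F205186 D147049 F354823 (iv1 D207424) (iv6 D131442) (iv5 D61689) D61686 D131430 (iv6 F416609) F416612
theorem F444835 : act 5 n203280 = n207424 := d21_6 (iv5 F120307) F128413 F128411 (iv6 F306207) F306204 D203280 (iv1 D207424) F354797 (iv6 D82974) F120306
theorem F444836 : act 3 n207424 = n203282 := d6_1 F444835 (iv5 D203282) (iv3 F427642)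
theorem F444837 : act 2 n131553 = n207424 := d0_5 F444836 F427651 (iv3 F348193) F342125 (iv3 F389863)
def n207425 : Q := act 7 n131442
theorem D207425 : act 7 n131442 = n207425 := rfl
theorem F444838 : act 2 n207425 = n131555 := d4_1 D207425 (iv7 D131555) (iv2 F210690)
theorem F444839 : act 3 n207425 = n173411 := d8_1 D207425 (iv7 D173411) (iv3 F354796)
theorem F444840 : act 4 n207425 = n203843 := d11_1 D207425 F430075 F210805
theorem F444841 : act 5 n207425 = n173388 := d13_1 D207425 (iv7 D173388) (iv5 F354797)
theorem F444842 : act 6 n207425 = n206032 := d14_1 D207425 F438925 (iv6 D131551) F96330 D131442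
theorem F444843 : act 1 n131553 = n207425 := d15_1 D131553 (iv7 D207425) F210690
theorem F444844 : act 1 n207425 = n131552 := d15_1 F444843 (iv7 F444832) (iv2 F444837)
def n207426 : Q := act 6 n131454
theorem D207426 : act 6 n131454 = n207426 := rfl
theorem F444845 : act 2 n207426 = n197106 := d3_1 D207426 F403067 (iv2 F355024)
theorem F444846 : act 3 n207426 = n131456 := d7_1 D207426 (iv6 D131456) D131454
theorem F444847 : act 4 n207426 = n131468 := d10_1 D207426 (iv6 D131468) (iv4 F210716)
theorem F444848 : act 5 n207426 = n179064 := d12_1 D207426 (iv6 D179064) D179063 F345981 F349801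
theorem F444849 : act 7 n207426 = n206295 := d14_2 (iv7 F210717) D207426 (iv6 D206295) (iv7 D128156) (iv6 F311887)
def n207427 : Q := act 6 n131455
theorem D207427 : act 6 n131455 = n207427 := rfl
theorem F444850 : act 2 n207427 = n191082 := d3_1 D207427 F382151 (iv2 F210718)
theorem F444851 : act 3 n207427 = n179063 := d7_1 D207427 F345981 (iv3 F349802)
theorem F444852 : act 4 n207427 = n190768 := d10_1 D207427 (iv6 F380978) F378436
theorem F444853 : act 5 n207427 = n179061 := d12_1 D207427 (iv6 F428876) F428875 (iv6 D131456) D131455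
theorem F444854 : act 7 n207427 = n190961 := d14_2 (iv7 F210719) D207427 (iv6 D190961) F149793 (iv6 F336408)
theorem F444855 : act 0 n207427 = n197096 := d21_10 F403024 (iv1 D107670) D107672 D197120 F403140 (iv6 F354562) (iv5 D118484) (iv1 F96291) D131455 D207427
theorem F444856 : act 0 n197095 = n207427 := d21_4 F393601 (iv1 F346959) (iv5 F417673) (iv6 F417675) (iv6 D207427) (iv5 D131455) F96292 (iv5 F186484) (iv6 F368253) F393605
def n207428 : Q := act 1 n131456
theorem D207428 : act 1 n131456 = n207428 := rfl
theorem F444857 : act 1 n207428 = n203286 := d15_1 D207428 (iv7 D203286) (iv2 F210722)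
theorem F444858 : act 7 n207428 = n198860 := d15_2 (iv0 F337065) D207428 F409602
theorem F444859 : act 4 n207428 = n133321 := d17_9 (iv1 F237488) (iv5 D117248) F131205 D73967 (iv4 F305947) (iv5 F438309) F438312 F428875 D207428
theorem F444860 : act 5 n207428 = n198861 := d18_9 (iv1 F415328) F415332 (iv1 D139646) (iv4 F170771) (iv5 F383332) F383331 (iv0 D131457) (iv4 F210723) D207428
theorem F444861 : act 2 n133322 = n207428 := d2_3 F444860 (iv2 F415334) F415336
def n207429 : Q := act 6 n131458
theorem D207429 : act 6 n131458 = n207429 := rfl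
theorem F444862 : act 2 n207429 = n206946 := d3_1 D207429 (iv6 F442690) (iv2 F337048)
theorem F444863 : act 3 n207429 = n138563 := d7_1 D207429 F312839 (iv3 F337049)
theorem F444864 : act 4 n207429 = n158754 := d10_1 D207429 F273423 (iv4 F337050)
theorem F444865 : act 5 n207429 = n138561 := d12_1 D207429 (iv6 F424201) (iv5 F433936) (iv6 D204868) (iv5 F337051)
theorem F444866 : act 7 n207429 = n140722 := d14_2 (iv7 F337052) D207429 F324356 F125433 D81720
theorem F444867 : act 0 n207429 = n170277 := d21_4 D190575 F380175 (iv5 F337051) D207429 (iv6 D170277) (iv5 F316292) (iv1 F351934) (iv5 F351929) F380171 (iv1 D190574)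
def n207430 : Q := act 0 n131468
theorem D207430 : act 0 n131468 = n207430 := rfl
theorem F444868 : act 3 n207430 = n172264 := d20_5 (iv4 D131483) (iv1 D61705) (iv4 F96302) (iv3 F210733) D207430 (iv4 F271106) (iv1 F156855) (iv4 F308601) (iv3 F428725) (iv1 F428730)
theorem F444869 : act 2 n152664 = n207430 := d0_5 F444868 F338111 F338070 F239415 (iv3 F239876)
theorem F444870 : act 6 n152662 = n207430 := d7_0 F444868 (iv6 D172264) (iv3 F344385)
theorem F444871 : act 4 n158324 = n207430 := d20_8 F154049 D100120 (iv4 F308609) F263627 F303227 (iv3 F255136) (iv4 F263844) F347334 F444868 (iv1 F274983)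
def n207431 : Q := act 1 n131468
theorem D207431 : act 1 n131468 = n207431 := rfl
theorem F444872 : act 7 n207431 = n152664 := d15_2 (iv0 D207430) D207431 F444869
theorem F444873 : act 4 n207431 = n189189 := d17_9 (iv1 F376015) (iv5 F342727) (iv1 D174435) (iv5 D83376) D83375 (iv5 F308263) D153215 (iv5 F343515) D207431
theorem F444874 : act 5 n203627 = n207431 := d21_0 (iv1 D207431) F343515 (iv6 F359775) (iv1 D176494) (iv6 D84155) (iv5 D38789) F155162 D83355 (iv6 F271054) F429119
theorem F444875 : act 6 n147190 = n207431 := d21_3 F343961 (iv1 F356291) (iv5 F356292) (iv1 D207431) (iv6 D131468) D131467 (iv1 F440793) F440790 F249450 (iv1 F343959)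
theorem F444876 : act 3 n207431 = n152674 := d7_1 F444875 F244465 F356293
def n207432 : Q := act 3 n131473
theorem D207432 : act 3 n131473 = n207432 := rfl
theorem F444877 : act 2 n207432 = n167354 := d0_1 D207432 F263488 F323508 D198519 F408201
theorem F444878 : act 5 n207432 = n203939 := d6_2 F391580 D207432 F430492
theorem F444879 : act 7 n207432 = n167343 := d8_2 F444822 D207432 F444823
theorem F444880 : act 0 n207432 = n147170 := d19_4 D201516 F420814 F337040 D207432 (iv5 D147170) (iv4 F110938) F319384 (iv1 D47769) D47770 D103042 (iv3 F359352) (iv1 D119565) (iv5 D55008) (iv4 D26595) D26594 D54998 (iv5 F240207) (iv4 F340866) (iv3 F355219)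
theorem F444881 : act 0 n167351 = n207432 := d20_4 (iv4 F249127) F274584 (iv4 F154049) F357028 (iv3 D207432) (iv4 F337040) (iv1 D151991) (iv4 F210665) F357116 (iv1 D158522)
theorem F444882 : act 6 n207432 = n131473 := d21_5 D77748 D161888 F357019 (iv6 F357026) F444881 (iv5 F391580) (iv1 F430491) (iv5 D203938) F333717 (iv1 D77745)
def n207433 : Q := act 6 n131483
theorem D207433 : act 6 n131483 = n207433 := rfl
theorem F444883 : act 4 n207433 = n131485 := d10_1 D207433 (iv6 D131485) D131483
theorem F444884 : act 0 n207433 = n175073 := d21_4 D38580 D83696 (iv5 F354872) D207433 (iv6 D175073) F332184 F169187 F332183 (iv6 D83695) (iv1 D38579)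
def n207434 : Q := act 4 n131484
theorem D207434 : act 4 n131484 = n207434 := rfl
theorem F444885 : act 2 n207434 = n201431 := d1_1 D207434 F420493 (iv2 F323852)
theorem F444886 : act 3 n207434 = n187451 := d5_1 D207434 F370390 F182219 F114318 (iv3 F323853)
theorem F444887 : act 5 n207434 = n159791 := d9_2 D131484 D207434 F349297 (iv5 F360954) (iv4 D175277) (iv5 F333658) (iv4 D131478) D131479 (iv4 F339764) (iv5 F339763) (iv4 F372842) F372840 (iv4 D175272) (iv5 F354872) (iv4 D131483)
theorem F444888 : act 6 n207434 = n195593 := d10_2 F325097 D207434 (iv4 D195593)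
theorem F444889 : act 7 n207434 = n201430 := d11_2 (iv7 F323854) D207434 F420485
theorem F444890 : act 0 n207434 = n146379 := d17_0 (iv5 F339774) (iv1 F339773) (iv5 D114655) F311529 F317472 F274275 (iv5 F333654) F264353 D207434
theorem F444891 : act 1 n207434 = n175224 := d18_6 (iv1 F337068) (iv4 F428726) (iv1 F428730) (iv4 D131483) D131484 D207434 (iv4 D175224) D175223 (iv5 F335002)
def n207435 : Q := act 6 n131487
theorem D207435 : act 6 n131487 = n207435 := rfl
theorem F444892 : act 2 n207435 = n136579 := d3_1 D207435 (iv6 F362507) (iv2 F210751)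
theorem F444893 : act 3 n207435 = n188126 := d7_1 D207435 F372392 (iv3 F366759)
theorem F444894 : act 0 n135929 = n207435 := d21_4 (iv5 F283713) (iv1 F352756) F352758 F362779 (iv6 D207435) (iv5 D131487) F307755 D104167 F159693 (iv1 F154632)
theorem F444895 : act 5 n207435 = n135893 := d17_1 F444894 (iv1 F218592) D136581 (iv4 F367389) F154813 D186402 (iv5 F443873) (iv0 F443874) (iv4 F343926)
theorem F444896 : act 1 n136674 = n207435 := d15_0 (iv0 F444894) F218647 D136674
theorem F444897 : act 7 n136574 = n207435 := d13_0 F444895 F391937 D136574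
def n207436 : Q := act 5 n131488
theorem D207436 : act 5 n131488 = n207436 := rfl
theorem F444898 : act 2 n207436 = n136580 := d2_1 D207436 F362499 (iv2 F210755)
theorem F444899 : act 3 n207436 = n191948 := d6_1 D207436 (iv5 D191948) (iv3 F338813)
theorem F444900 : act 6 n207436 = n135893 := d12_2 D131488 D207436 (iv5 F444895) (iv6 D207435) (iv5 D131487)
theorem F444901 : act 7 n207436 = n136094 := d13_2 F312489 D207436 F362510
theorem F444902 : act 0 n207436 = n137788 := d17_2 F308200 D207436 F362505 (iv4 D120233) (iv5 D55328) (iv0 F130957) D33258 D71997 (iv4 F308201)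
theorem F444903 : act 1 n207436 = n136239 := d17_6 F383601 (iv5 D150080) (iv1 D70616) (iv5 F96308) (iv4 F210756) D207436 F351865 F366234 (iv4 F383600)
def n207437 : Q := act 0 n131500
theorem D207437 : act 0 n131500 = n207437 := rfl
theorem F444904 : act 5 n207437 = n161394 := d17_3 F314258 D131500 D207437 (iv4 F309800) (iv5 D149007) (iv0 D69880) D69882 (iv0 F311822) F71178
theorem F444905 : act 3 n207437 = n161882 := d20_5 D175700 (iv1 F389936) (iv4 D193463) (iv3 F342406) D207437 (iv4 F440614) (iv1 F440616) F422832 F415268 (iv1 D175699)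
theorem F444906 : act 6 n207437 = n150602 := d21_5 F350836 (iv1 F202673) F352282 (iv6 F330813) D207437 (iv5 F360755) (iv1 F244837) (iv5 D74132) D74133 (iv1 F350834)
theorem F444907 : act 2 n145635 = n207437 := d15_3 (iv0 D207437) F342405 D145635
theorem F444908 : act 1 n145632 = n207437 := d15_0 (iv0 D207437) (iv7 F342404) (iv2 F342402)
theorem F444909 : act 7 n207437 = n145633 := d15_2 D145632 F444908 (iv2 D145633)
def n207438 : Q := act 4 n131500
theorem D207438 : act 4 n131500 = n207438 := rfl
theorem F444910 : act 2 n207438 = n192384 := d1_1 D207438 F386619 F234313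
theorem F444911 : act 6 n207438 = n199243 := d10_2 (iv6 F330813) D207438 F411296
theorem F444912 : act 5 n207438 = n145296 := d16_1 D207438 F357676 F234298 F106312 (iv5 F106319) F319020 (iv5 F342400) (iv7 F342403) F234313
theorem F444913 : act 0 n207438 = n196626 := d18_2 (iv1 F342405) D207438 F438550 F438548 (iv4 D150096) D150095 F337583 (iv0 D77723) F325025
def n207439 : Q := act 0 n131522
theorem D207439 : act 0 n131522 = n207439 := rfl
theorem F444914 : act 5 n207439 = n205956 := d17_1 D207439 F438582 (iv5 F409826) (iv4 D198905) (iv5 F348465) F348464 (iv5 D86266) D86265 (iv4 F348466)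
theorem F444915 : act 4 n207439 = n197211 := d18_3 (iv1 F323159) (iv4 F348466) D207439 F403553 F182018 F184079 (iv4 F355560) (iv0 F355561) F169908
theorem F444916 : act 3 n207439 = n147698 := d20_5 F381047 F395685 (iv4 F176670) (iv3 F342143) D207439 (iv4 F351984) (iv1 F169199) (iv4 F105266) F105265 (iv1 F381046)
theorem F444917 : act 6 n207439 = n163723 := d21_5 F96327 (iv1 F79183) D61720 D131522 D207439 (iv5 F262497) (iv1 D166754) (iv5 D80041) F330855 (iv1 F96329)
theorem F444918 : act 2 n197066 = n207439 := d15_3 (iv0 D207439) (iv0 F361330) (iv7 F402893)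
theorem F444919 : act 1 n180600 = n207439 := d15_0 (iv0 D207439) (iv7 F437074) F437071
def n207440 : Q := act 5 n131522
theorem D207440 : act 5 n131522 = n207440 := rfl
theorem F444920 : act 3 n207440 = n174982 := d6_1 D207440 (iv5 F342141) (iv3 F342143)
theorem F444921 : act 6 n207440 = n131525 := d12_2 D131522 D207440 (iv5 D131525) (iv6 D61721) D61720
theorem F444922 : act 4 n207440 = n196790 := d17_4 D205968 F438642 F361330 D207440 (iv5 D196790) D196789 (iv5 F416616) (iv0 F416618) F400258
def n207441 : Q := act 4 n131525
theorem D207441 : act 4 n131525 = n207441 := rfl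
theorem F444923 : act 2 n207441 = n140384 := d1_1 D207441 F223502 (iv2 F364726)
theorem F444924 : act 3 n207441 = n140666 := d5_1 D207441 (iv4 F390077) F390076 F362960 (iv3 F316001)
theorem F444925 : act 5 n207441 = n196787 := d9_2 D131525 D207441 F401796 (iv5 F331760) F155724 (iv5 F234292) F311821 (iv5 F357113) F204058 D140677 F357114 (iv5 D70656) (iv4 F85852) D118069 (iv4 F185491)
theorem F444926 : act 6 n207441 = n196790 := d10_2 F444921 D207441 (iv4 F444922)
theorem F444927 : act 7 n207441 = n140676 := d11_2 F428722 D207441 (iv4 F428723)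
theorem F444928 : act 0 n207441 = n140675 := d18_2 F389753 D207441 F342418 F324095 (iv4 F132663) (iv0 F312347) (iv4 F359259) (iv0 F359262) D193408
theorem F444929 : act 1 n207441 = n140460 := d18_6 (iv1 D84940) F311824 F232784 (iv4 F185491) D131525 D207441 F354203 (iv0 F356995) (iv5 D178492)
def n207442 : Q := act 5 n131533
theorem D207442 : act 5 n131533 = n207442 := rfl
theorem F444930 : act 2 n207442 = n161611 := d2_1 D207442 F303678 (iv2 F314731)
theorem F444931 : act 3 n207442 = n131534 := d6_1 D207442 (iv5 D131534) D131533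
theorem F444932 : act 4 n207442 = n206435 := d9_1 D207442 F440782 (iv4 F347325) F345951 (iv4 F206331) F336902 F123621 D161314 (iv4 F437083) F437084 (iv4 F347318) F339695 (iv4 F199534) (iv5 F342736) F216613
theorem F444933 : act 6 n207442 = n197063 := d12_2 F334214 D207442 (iv5 F438538) (iv6 D205947) (iv5 F334209)
theorem F444934 : act 7 n207442 = n147692 := d13_2 (iv7 F216677) D207442 F348426
theorem F444935 : act 0 n207442 = n200055 := d17_2 (iv1 F314730) D207442 F414813 F323687 (iv5 F342767) (iv0 D128143) (iv5 F311886) D203287 F427685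
theorem F444936 : act 1 n207442 = n166169 := d17_6 D83067 D173694 (iv1 F336897) (iv5 F342736) F216613 D207442 (iv5 F342757) (iv0 D163534) (iv4 F323696)
def n207443 : Q := act 0 n131540
theorem D207443 : act 0 n131540 = n207443 := rfl
theorem F444937 : act 5 n207443 = n187389 := d17_1 D207443 (iv1 F370127) F340303 (iv4 F340307) F340275 F199926 (iv5 F320328) F345780 D131540
theorem F444938 : act 4 n207443 = n191811 := d18_3 F334268 D131540 D207443 (iv5 D191811) F315983 F213169 D130059 (iv0 F216509) (iv5 F334270)
theorem F444939 : act 6 n207443 = n194160 := d21_5 F408566 (iv1 F394846) F394783 (iv6 F393498) D207443 (iv5 F392216) F399763 F399761 (iv6 F336532) F408565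
theorem F444940 : act 1 n196179 = n207443 := d15_0 (iv0 D207443) (iv7 F213720) (iv2 F399735)
theorem F444941 : act 3 n194162 = n207443 := d19_19 (iv1 F444940) (iv5 D196179) F164511 (iv3 D49329) (iv1 F77868) F77870 (iv4 D24056) (iv3 F23807) F46711 F46709 (iv4 D25057) D25056 (iv1 F39322) F37713 (iv4 F46348) D60492 D128617 D206445 F440842
theorem F444942 : act 2 n207443 = n187420 := d0_1 F444941 (iv3 F409390) F409389 F365689 (iv2 F392229)
theorem F444943 : act 7 n207443 = n187423 := d8_2 F441430 F444941 (iv3 F441428)
def n207444 : Q := act 1 n131540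
theorem D207444 : act 1 n131540 = n207444 := rfl
theorem F444944 : act 1 n207444 = n196179 := d15_1 D207444 F399738 F211644
theorem F444945 : act 7 n207444 = n187420 := d15_2 (iv0 D207443) D207444 (iv2 F444942)
theorem F444946 : act 5 n207444 = n187390 := d17_7 F211620 F211618 F211585 D61982 D132103 F211639 D207444 F370131 (iv4 F340298)
theorem F444947 : act 4 n207444 = n198884 := d17_9 F409744 (iv5 D173210) (iv1 F319328) D131671 (iv4 F366591) (iv5 F381009) (iv0 F381012) F211639 D207444
theorem F444948 : act 3 n198382 = n207444 := d20_3 (iv4 D112527) F169245 (iv4 F407828) (iv1 D207444) (iv3 F434456) F434455 (iv1 F427630) F427631 F413839 F348115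
theorem F444949 : act 2 n207444 = n187423 := d0_1 F444948 (iv3 F441428) F441427 F408179 (iv2 F407827)
theorem F444950 : act 6 n207444 = n163324 := d7_2 D198382 F444948 F363504
def n207445 : Q := act 5 n131553
theorem D207445 : act 5 n131553 = n207445 := rfl
theorem F444951 : act 2 n207445 = n203280 := d2_1 D207445 F444835 (iv2 F444837)
theorem F444952 : act 3 n207445 = n153324 := d6_1 D207445 F300660 (iv3 F389863)
theorem F444953 : act 4 n207445 = n197157 := d9_1 D207445 F403308 (iv4 F429023) F429024 (iv4 D198882) D198883 F409735 F336417 F186486 F86288 (iv4 F108580) D152879 (iv4 F351510) (iv5 F409477) F409476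
theorem F444954 : act 6 n207445 = n153323 := d12_2 (iv6 F389864) D207445 (iv5 F343328) (iv6 D147370) D147369
theorem F444955 : act 7 n207445 = n203279 := d13_2 (iv7 F444828) D207445 (iv5 F444824)
theorem F444956 : act 0 n207445 = n131688 := d17_2 (iv1 F444843) D207445 (iv5 F430112) F430111 (iv5 F402908) (iv0 F423107) F423105 F430076 (iv4 F444840)
theorem F444957 : act 1 n207445 = n203294 := d17_6 D121086 (iv5 F409517) (iv1 F409518) (iv5 F409477) F409476 D207445 (iv5 F430103) (iv0 D203852) (iv4 D121089)
def n207446 : Q := act 1 n131556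
theorem D207446 : act 1 n131556 = n207446 := rfl
theorem F444958 : act 1 n207446 = n206032 := d15_1 D207446 F438925 (iv2 F210804)
theorem F444959 : act 7 n207446 = n152926 := d15_2 (iv0 F428494) D207446 (iv2 F428490)
theorem F444960 : act 4 n207446 = n166501 := d17_9 F330741 F316538 F129629 (iv5 F330713) (iv4 F193280) (iv5 F423604) (iv0 F428809) F428808 D207446
theorem F444961 : act 5 n207446 = n200471 := d18_9 (iv1 D200471) F176294 D115685 (iv4 F409503) F409500 (iv4 F444825) (iv0 D207423) (iv4 F210805) D207446
theorem F444962 : act 2 n174136 = n207446 := d2_3 F444961 (iv2 F423104) F423105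
theorem F444963 : act 3 n162799 = n207446 := d6_3 F444961 (iv3 F416591) F342327
theorem F444964 : act 6 n200057 = n207446 := d12_0 F444961 (iv6 F438337) F438334 (iv6 F438648) F438647
def n207447 : Q := act 6 n131572
theorem D207447 : act 6 n131572 = n207447 := rfl
theorem F444965 : act 3 n207447 = n152609 := d7_1 D207447 (iv6 D152609) (iv3 F333433)
theorem F444966 : act 5 n207447 = n200054 := d12_1 D207447 F414808 (iv5 D197093) D197094 (iv5 F403019)
theorem F444967 : act 7 n207447 = n175073 := d14_2 (iv7 F333435) D207447 (iv6 D175073) (iv7 F332193) F339016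
def n207448 : Q := act 4 n131598
theorem D207448 : act 4 n131598 = n207448 := rfl
theorem F444968 : act 2 n207448 = n203294 := d1_1 D207448 F427726 (iv2 F359902)
theorem F444969 : act 3 n207448 = n131695 := d5_1 D207448 F358071 F273371 F333408 D131598
theorem F444970 : act 7 n207448 = n131688 := d11_2 (iv7 F359900) D207448 (iv4 F351476)
theorem F444971 : act 5 n207448 = n160953 := d17_5 (iv1 D174103) D174104 F404601 F404596 D207448 F425414 (iv5 D174825) (iv0 F342340) (iv4 F324290)
theorem F444972 : act 0 n207448 = n203280 := d18_2 (iv1 F359904) D207448 F427643 F186435 (iv4 F239979) (iv0 F429011) F429009 F359938 F311407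
theorem F444973 : act 1 n207448 = n203279 := d18_6 (iv1 F112046) (iv4 F245486) (iv1 F245488) (iv4 F404599) F404596 D207448 F427641 F208108 F318410
def n207449 : Q := act 6 n131598
theorem D207449 : act 6 n131598 = n207449 := rfl
theorem F444974 : act 3 n207449 = n131601 := d7_1 D207449 (iv6 D131601) D131598
theorem F444975 : act 7 n207449 = n170277 := d14_2 (iv7 F359900) D207449 (iv6 D170277) (iv7 F316294) F351473
theorem F444976 : act 5 n207449 = n177050 := d21_6 (iv5 D61649) (iv1 F94590) (iv5 F106305) D149006 (iv1 F359904) D207449 (iv1 F344485) F236017 (iv6 D133726) (iv1 F97953)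
theorem F444977 : act 0 n140722 = n207449 := d21_4 D207411 F444766 F324345 (iv6 F324356) (iv6 D207449) (iv5 F404596) F404598 F351497 (iv6 F344125) (iv1 F344136)
theorem F444978 : act 1 n206946 = n207449 := d15_0 (iv0 F444977) (iv7 F444866) F444862
def n207450 : Q := act 4 n131617
theorem D207450 : act 4 n131617 = n207450 := rfl
theorem F444979 : act 2 n207450 = n152005 := d1_1 D207450 (iv4 F337888) F340983
theorem F444980 : act 6 n207450 = n207338 := d10_2 (iv6 F342391) D207450 F444406
theorem F444981 : act 7 n207450 = n152004 := d11_2 F340985 D207450 F338076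
theorem F444982 : act 0 n207450 = n146536 := d17_0 F338136 (iv1 F338139) (iv5 D154241) (iv4 F197416) (iv5 F396315) F396318 F204903 (iv0 F247736) D207450
theorem F444983 : act 1 n207450 = n152007 := d18_8 (iv1 F390241) (iv4 F392113) (iv1 F430345) F430347 (iv5 D152036) (iv4 F166706) (iv0 F247736) D207450 (iv5 F390239)
theorem F444984 : act 3 n207450 = n207339 := d20_9 F429696 F424189 F424190 F424192 F243629 (iv3 F403494) F403495 F247734 D207450 F444412
theorem F444985 : act 5 n175489 = n207450 := d17_7 F328585 F328207 F333263 (iv5 F332507) F162844 D153836 F310355 F444983 F239027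
theorem F444986 : act 6 n175489 = n191285 := d21_3 F390239 (iv1 F444983) (iv5 F444985) (iv1 D191285) (iv6 F354908) (iv5 D154385) (iv1 F354931) (iv5 F431644) F431643 (iv1 F390242)
theorem F444987 : act 6 n183782 = n154471 := d3_2 F444986 F428214 F382953
def n207451 : Q := act 5 n131617
theorem D207451 : act 5 n131617 = n207451 := rfl
theorem F444988 : act 2 n207451 = n197203 := d2_1 D207451 (iv5 D197203) F340983
theorem F444989 : act 3 n207451 = n131619 := d6_1 D207451 (iv5 D131619) D131617
theorem F444990 : act 6 n207451 = n139968 := d12_2 (iv6 F342391) D207451 F223188 (iv6 F341097) D156542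
theorem F444991 : act 7 n207451 = n170427 := d13_2 F340985 D207451 F338078
theorem F444992 : act 0 n207451 = n204656 := d17_2 F247734 D207451 (iv5 D204656) F198631 D124178 D204660 (iv5 F433172) F403497 F403495
theorem F444993 : act 4 n207451 = n201585 := d17_4 (iv1 F396317) F229408 F247734 D207451 F421033 F364430 (iv5 D114853) F324270 (iv4 F396314)
theorem F444994 : act 1 n207451 = n202883 := d17_6 (iv1 D83796) D83797 D175489 F444985 (iv4 D207450) D207451 F426024 (iv0 F348238) (iv4 D175486)
def n207452 : Q := act 3 n131618
theorem D207452 : act 3 n131618 = n207452 := rfl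
theorem F444995 : act 4 n207452 = n207339 := d5_2 D131618 D207452 (iv3 F444984) (iv4 D207450) (iv3 D131617)
theorem F444996 : act 6 n207452 = n206247 := d7_2 F341022 D207452 (iv3 F439911)
def n207453 : Q := act 1 n131666
theorem D207453 : act 1 n131666 = n207453 := rfl
theorem F444997 : act 7 n207453 = n203482 := d15_2 (iv0 F384812) D207453 F428486
theorem F444998 : act 4 n207453 = n184953 := d17_9 (iv1 F366851) F430909 (iv1 D204052) (iv5 D122559) F89929 D82392 D172029 (iv5 F366650) D207453
theorem F444999 : act 3 n203094 = n207453 := d20_3 (iv4 D117661) D117660 D203094 (iv1 D207453) F211024 (iv4 F211028) (iv1 F392663) F392661 F426948 (iv1 D203096)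
theorem F445000 : act 6 n197108 = n207453 := d21_3 (iv5 F332371) F428753 F428749 (iv1 D207453) (iv6 D131666) (iv5 F211042) F214803 F315308 (iv6 D83451) F317288
theorem F445001 : act 5 n207453 = n205911 := d12_1 F445000 (iv6 D205911) (iv5 F396868) (iv6 F428750) F428749
def n207454 : Q := act 7 n131666
theorem D207454 : act 7 n131666 = n207454 := rfl
theorem F445002 : act 3 n207454 = n131682 := d8_1 D207454 (iv7 D131682) (iv3 F211024)
theorem F445003 : act 4 n207454 = n191908 := d11_1 D207454 F384791 F217749
theorem F445004 : act 5 n207454 = n203493 := d13_1 D207454 (iv7 F428545) (iv5 F366650)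
theorem F445005 : act 6 n207454 = n191906 := d14_1 D207454 F384785 F323430 (iv7 F217664) D131666
theorem F445006 : act 0 n203482 = n207454 := d21_4 (iv5 F348176) D199577 F412739 D203482 F445005 (iv5 F384787) (iv1 D174174) (iv5 D83256) D83257 (iv1 F351635)
def n207455 : Q := act 5 n131668
theorem D207455 : act 5 n131668 = n207455 := rfl
theorem F445007 : act 3 n207455 = n152630 := d6_1 D207455 F239839 (iv3 F317033)
theorem F445008 : act 7 n207455 = n152626 := d13_2 F317451 D207455 (iv5 D152626)
theorem F445009 : act 0 n207455 = n198884 := d17_2 D131668 D207455 F409742 (iv4 D132910) (iv5 D62373) F213157 D29514 F47328 D61785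
theorem F445010 : act 1 n207455 = n191811 := d17_6 (iv1 F317956) (iv5 D132095) F211551 F317036 (iv4 F317034) D207455 (iv5 D191811) (iv0 F337630) (iv4 D176535)
theorem F445011 : act 6 n207455 = n204840 := d21_3 (iv5 D131671) D131668 D207455 F433788 F415419 (iv5 D167760) (iv1 F123755) D150666 (iv6 F436512) (iv1 F436514)
theorem F445012 : act 4 n203870 = n207455 := d18_7 (iv1 F348713) (iv4 D176540) (iv1 D84170) (iv4 F299931) F322747 (iv4 F193207) D203870 F445010 (iv5 D191811)
theorem F445013 : act 6 n162757 = n203870 := d10_0 F445012 F445011 F433785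
def n207456 : Q := act 6 n131686
theorem D207456 : act 6 n131686 = n207456 := rfl
theorem F445014 : act 2 n207456 = n131688 := d3_1 D207456 (iv6 D131688) D131686
theorem F445015 : act 3 n207456 = n192328 := d7_1 D207456 F386450 F217672
theorem F445016 : act 4 n207456 = n170282 := d10_1 D207456 (iv6 D170282) (iv4 F317697)
theorem F445017 : act 0 n207456 = n203279 := d21_4 F215122 (iv1 F214099) F217650 D207456 (iv6 D203279) F344949 F344952 (iv5 F189740) F213497 (iv1 F215123)
theorem F445018 : act 0 n203280 = n207456 := d21_4 (iv5 F334543) F334539 (iv5 F186392) D203280 (iv6 D207456) (iv5 F217650) (iv1 D133244) (iv5 F208665) F335252 F241961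
theorem F445019 : act 7 n207456 = n203294 := d15_2 F444973 (iv0 F445017) (iv2 F444968)
def n207457 : Q := act 3 n131788
theorem D207457 : act 3 n131788 = n207457 := rfl
theorem F445020 : act 5 n207457 = n173418 := d6_2 F377958 D207457 F377960
theorem F445021 : act 6 n207457 = n173421 := d7_2 F354694 D207457 (iv3 F366746)
theorem F445022 : act 4 n207457 = n134156 := d20_6 F47968 (iv1 D29303) D29304 D61839 D131788 D207457 (iv1 D134156) F98332 (iv3 D29818) (iv1 F47967)
theorem F445023 : act 0 n191582 = n207457 := d18_0 F445022 (iv1 D134156) F98332 D63036 F331622 F200963 (iv4 F391636) F391638 (iv5 F391593)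
theorem F445024 : act 0 n207457 = n137887 := d21_4 F442817 F344998 D173421 (iv6 F445021) (iv6 D137887) (iv5 D64807) (iv1 F219213) D137781 F383797 (iv1 F442820)
def n207458 : Q := act 4 n131788
theorem D207458 : act 4 n131788 = n207458 := rfl
theorem F445025 : act 2 n207458 = n191555 := d1_1 D207458 F383793 (iv2 F354695)
theorem F445026 : act 6 n207458 = n186693 := d10_2 F354694 D207458 (iv4 D186693)
theorem F445027 : act 0 n190535 = n207458 := d20_10 (iv4 D207458) (iv1 F245956) F245953 F163837 (iv1 F325763) (iv3 F395656) F395657 F209547 F209333 F380021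
def n207459 : Q := act 6 n131789
theorem D207459 : act 6 n131789 = n207459 := rfl
theorem F445028 : act 2 n207459 = n191546 := d3_1 D207459 F383757 F354698
theorem F445029 : act 5 n207459 = n192381 := d12_1 D207459 F386614 (iv5 F356538) F361770 (iv5 F361767)
theorem F445030 : act 7 n207459 = n186692 := d14_2 (iv7 F354697) D207459 (iv6 D186692) F268272 D98544
theorem F445031 : act 1 n191544 = n207459 := d15_1 D191544 F445030 F367695
theorem F445032 : act 1 n207459 = n191543 := d15_1 F445031 (iv7 F383733) (iv2 F383754)
def n207460 : Q := act 4 n131797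
theorem D207460 : act 4 n131797 = n207460 := rfl
theorem F445033 : act 2 n207460 = n206505 := d1_1 D207460 F441121 (iv2 F399124)
theorem F445034 : act 3 n207460 = n200990 := d5_1 D207460 (iv4 D200990) (iv3 D113717) D113718 (iv3 F349616)
theorem F445035 : act 6 n207460 = n189774 := d10_2 F399466 D207460 (iv4 F399467)
theorem F445036 : act 7 n207460 = n206497 := d11_2 F399127 D207460 F441091
theorem F445037 : act 0 n207460 = n206421 := d17_0 (iv5 F441303) F441306 (iv5 D196081) (iv4 D106631) D106632 (iv0 F358254) (iv5 D131799) D131797 D207460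
theorem F445038 : act 1 n207460 = n205595 := d18_8 F413285 (iv4 F409330) F409332 F393711 (iv5 D128675) (iv4 F96402) D131797 D207460 F437150
def n207461 : Q := act 0 n131800
theorem D207461 : act 0 n131800 = n207461 := rfl
theorem F445039 : act 5 n207461 = n204882 := d17_3 (iv1 F441535) F348750 D207461 F434004 (iv5 D176479) (iv0 F278521) (iv5 F345773) (iv0 F345777) (iv4 F441532)
theorem F445040 : act 2 n201019 = n207461 := d15_3 (iv0 D207461) (iv0 F417546) (iv7 F418758)
theorem F445041 : act 1 n198756 = n207461 := d15_0 (iv0 D207461) (iv7 F349571) (iv2 F409102)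
theorem F445042 : act 7 n207461 = n205542 := d15_2 F417547 F445041 (iv2 F436917)
def n207462 : Q := act 5 n131806
theorem D207462 : act 5 n131806 = n207462 := rfl
theorem F445043 : act 2 n207462 = n206558 := d2_1 D207462 F441325 (iv2 F211195)
theorem F445044 : act 3 n207462 = n200583 := d6_1 D207462 F417062 (iv3 F363887)
theorem F445045 : act 6 n207462 = n200581 := d12_2 F211708 D207462 F417047 (iv6 F397908) (iv5 F366018)
theorem F445046 : act 7 n207462 = n206557 := d13_2 (iv7 F211196) D207462 F441320
theorem F445047 : act 0 n207462 = n194804 := d17_2 (iv1 F211206) D207462 (iv5 F394536) F206852 D135678 (iv0 F399440) (iv5 D196107) (iv0 D106655) (iv4 F96426)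
theorem F445048 : act 1 n207462 = n206427 := d17_6 (iv1 F95072) (iv5 F103320) F162266 F162265 D131806 D207462 (iv5 D206427) F206857 F95219
theorem F445049 : act 4 n207462 = n205285 := d18_5 (iv1 D131803) F96408 D61848 D131806 D207462 F435774 (iv4 F358204) F358185 (iv5 F358168)
def n207463 : Q := act 5 n131808
theorem D207463 : act 5 n131808 = n207463 := rfl
theorem F445050 : act 2 n207463 = n206557 := d2_1 D207463 F441320 (iv2 F211201)
theorem F445051 : act 7 n207463 = n206558 := d13_2 (iv7 F211203) D207463 F441325
theorem F445052 : act 0 n207463 = n206427 := d17_2 (iv1 F211205) D207463 (iv5 D206427) F206859 (iv5 F176254) (iv0 F176255) F176158 F164284 (iv4 F207041)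
theorem F445053 : act 1 n207463 = n194804 := d17_6 F168073 D62238 (iv1 F168145) F165793 D131808 D207463 (iv5 F394536) (iv0 D128603) F95069
def n207464 : Q := act 6 n131809
theorem D207464 : act 6 n131809 = n207464 := rfl
theorem F445054 : act 2 n207464 = n190534 := d3_1 D207464 F380022 (iv2 F216663)
theorem F445055 : act 4 n207464 = n158788 := d10_1 D207464 (iv6 D158788) (iv4 F317045)
theorem F445056 : act 7 n207464 = n193646 := d14_2 (iv7 F216634) D207464 F438803 (iv7 F441074) F441071
theorem F445057 : act 0 n207464 = n193645 := d21_10 F436974 F436973 (iv5 D129016) (iv6 D60661) (iv1 D28792) (iv6 F23243) D29354 D61983 F211212 D207464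
theorem F445058 : act 1 n207464 = n131860 := d15_1 (iv0 F445057) F211271 (iv2 F390548)
def n207465 : Q := act 3 n131810
theorem D207465 : act 3 n131810 = n207465 := rfl
theorem F445059 : act 4 n207465 = n136041 := d5_2 F211209 D207465 F218914 F326900 D129245
theorem F445060 : act 5 n207465 = n132110 := d6_2 (iv5 F212088) D207465 (iv3 D132110)
theorem F445061 : act 6 n207465 = n136040 := d7_2 F438057 D207465 (iv3 F438056)
theorem F445062 : act 7 n207465 = n190535 := d8_2 F216662 D207465 (iv3 F380021)
theorem F445063 : act 0 n191555 = n207465 := d18_2 F157839 (iv4 F383793) F445059 (iv5 F367298) (iv4 F408298) F408301 F368711 F354732 (iv5 F157838)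
def n207466 : Q := act 6 n131815
theorem D207466 : act 6 n131815 = n207466 := rfl
theorem F445064 : act 5 n207466 = n206762 := d12_1 D207466 (iv6 D206762) (iv5 F400093) (iv6 F400097) F382327
theorem F445065 : act 0 n207466 = n131852 := d21_4 D106795 (iv1 F171465) F382327 D207466 (iv6 F332785) (iv5 D113592) D113590 F399974 (iv6 D196225) F358354
theorem F445066 : act 0 n207117 = n207466 := d17_2 (iv1 F418088) D207117 F445064 F442088 F336577 F122328 F333902 F333898 (iv4 F418084)
def n207467 : Q := act 6 n131816
theorem D207467 : act 6 n131816 = n207467 := rfl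
theorem F445067 : act 2 n207467 = n131818 := d3_1 D207467 (iv6 D131818) D131816
theorem F445068 : act 0 n207467 = n195052 := d21_4 (iv5 F380993) (iv1 F399081) (iv5 F399084) D207467 (iv6 F436993) (iv5 D205559) (iv1 F389070) F389067 (iv6 D106800) (iv1 F358355)
def n207468 : Q := act 0 n131818
theorem D207468 : act 0 n131818 = n207468 := rfl
theorem F445069 : act 5 n207468 = n195049 := d21_2 F436859 D207468 (iv6 D195049) (iv1 F161130) (iv6 F349673) (iv5 D81500) (iv1 F297443) D166080 (iv6 F443399) (iv1 F443400)
theorem F445070 : act 2 n195052 = n207468 := d2_3 F445069 F395575 D195052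
theorem F445071 : act 3 n200636 = n207468 := d6_3 F445069 F395576 D200636
def n207469 : Q := act 1 n131818
theorem D207469 : act 1 n131818 = n207469 := rfl
theorem F445072 : act 7 n207469 = n195052 := d15_2 (iv0 D207468) D207469 F445070
theorem F445073 : act 3 n195057 = n207469 := d8_3 F445072 F395580 D195057
theorem F445074 : act 5 n195053 = n207469 := d13_3 F445072 (iv5 D195052) D195053
theorem F445075 : act 6 n206499 = n207469 := d21_5 (iv5 F398114) F436206 F436203 F418619 (iv1 F441097) (iv5 F445074) (iv1 F435658) F435656 (iv6 D201060) F177125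
theorem F445076 : act 3 n206662 = n206499 := d7_3 F445075 (iv3 F445073) F441789
def n207470 : Q := act 7 n131818
theorem D207470 : act 7 n131818 = n207470 := rfl
theorem F445077 : act 3 n207470 = n131820 := d8_1 D207470 (iv7 D131820) (iv3 F211230)
theorem F445078 : act 5 n207470 = n207113 := d13_1 D207470 (iv7 F443388) F436859
theorem F445079 : act 6 n207470 = n196703 := d14_1 D207470 (iv7 D196703) F165248 F163709 D131818
theorem F445080 : act 0 n195052 = n207470 := d21_4 F330397 (iv1 F345929) D205559 F436993 F445079 F401537 (iv1 F416552) (iv5 F419146) F419150 (iv1 F398125)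
def n207471 : Q := act 0 n131819
theorem D207471 : act 0 n131819 = n207471 := rfl
theorem F445081 : act 4 n207471 = n195945 := d18_1 D207471 (iv1 F398805) F287995 F135433 F122676 D160676 F435887 (iv0 F436856) F436855
def n207472 : Q := act 1 n131819
theorem D207472 : act 1 n131819 = n207472 := rfl
theorem F445082 : act 4 n207472 = n195946 := d17_9 (iv1 D195946) F163715 D107479 (iv5 F379816) (iv4 F399992) (iv5 F435885) (iv0 F436856) F436855 D207472
def n207473 : Q := act 7 n131819
theorem D207473 : act 7 n131819 = n207473 := rfl
theorem F445083 : act 3 n207473 = n191185 := d8_1 D207473 (iv7 F382790) F382789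
theorem F445084 : act 4 n207473 = n133665 := d11_1 D207473 (iv7 D133665) (iv4 F211231)
theorem F445085 : act 6 n207473 = n194194 := d14_1 D207473 F392336 (iv6 D131953) (iv7 F96514) D131819
def n207474 : Q := act 6 n131821
theorem D207474 : act 6 n131821 = n207474 := rfl
theorem F445086 : act 3 n207474 = n206762 := d7_1 D207474 (iv6 D206762) (iv3 F211237)
theorem F445087 : act 0 n131853 = n207474 := d20_4 F163711 (iv1 F77884) (iv4 F165573) D131853 F445086 F442088 F336575 (iv4 F207568) (iv3 D129394) F164046
def n207475 : Q := act 3 n131822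
theorem D207475 : act 3 n131822 = n207475 := rfl
theorem F445088 : act 2 n207475 = n206759 := d0_1 D207475 (iv3 D206759) F217720 (iv3 F214453) F217725
theorem F445089 : act 5 n207475 = n196264 := d6_2 F358291 D207475 (iv3 D196264)
theorem F445090 : act 0 n131829 = n207475 := d21_1 F373502 F445089 (iv6 F400106) F382467 (iv6 D97437) (iv5 F294069) F63589 D42870 D91693 D188443
def n207476 : Q := act 6 n131823
theorem D207476 : act 6 n131823 = n207476 := rfl
theorem F445091 : act 2 n207476 = n131825 := d3_1 D207476 (iv6 D131825) D131823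
theorem F445092 : act 3 n207476 = n196702 := d7_1 D207476 F401534 F398773
theorem F445093 : act 4 n207476 = n206881 := d10_1 D207476 (iv6 D206881) (iv4 F211238)
theorem F445094 : act 5 n207476 = n205174 := d12_1 D207476 F435300 (iv5 D132149) D132150 F343682
theorem F445095 : act 0 n207476 = n205571 := d21_4 D106836 (iv1 F370129) F343682 D207476 (iv6 D205571) (iv5 F395807) F395808 (iv5 D106814) F78025 D49364
theorem F445096 : act 0 n200879 = n207476 := d21_4 (iv5 D125777) (iv1 F328127) D189818 (iv6 F418266) (iv6 D207476) (iv5 F343682) (iv1 F370130) (iv5 D106841) D106842 (iv1 F359015)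
theorem F445097 : act 7 n207476 = n205172 := d15_2 F437038 (iv0 F445095) F435287
def n207477 : Q := act 1 n131829
theorem D207477 : act 1 n131829 = n207477 := rfl
theorem F445098 : act 7 n207477 = n206759 := d15_2 (iv0 F445090) D207477 (iv2 F445088)
theorem F445099 : act 4 n207477 = n207285 := d17_9 F444147 F399444 (iv1 F377017) F377013 F362904 (iv5 F373544) F373547 F373502 D207477
theorem F445100 : act 3 n132294 = n207477 := d20_3 F96417 D62067 D132294 (iv1 D207477) (iv3 D131829) D131830 F352507 (iv4 F445059) (iv3 D207465) (iv1 D131810)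
theorem F445101 : act 6 n191690 = n207477 := d21_9 (iv5 F373502) (iv1 F373547) F373544 F362903 (iv1 F389057) (iv6 F389058) F384103 (iv1 F380134) (iv5 F384162) (iv1 D207477)
def n207478 : Q := act 6 n131829
theorem D207478 : act 6 n131829 = n207478 := rfl
theorem F445102 : act 3 n207478 = n131832 := d7_1 D207478 (iv6 D131832) D131829
theorem F445103 : act 7 n207478 = n193357 := d14_2 F352495 D207478 F389563 F220915 F352475
def n207479 : Q := act 4 n131831
theorem D207479 : act 4 n131831 = n207479 := rfl
def n207480 : Q := act 6 n131831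
theorem D207480 : act 6 n131831 = n207480 := rfl
theorem F445104 : act 3 n207480 = n191161 := d7_1 D207480 F435369 (iv3 F373503)
def n207481 : Q := act 4 n131836
theorem D207481 : act 4 n131836 = n207481 := rfl
theorem F445105 : act 6 n207481 = n191212 := d10_2 (iv6 F352533) D207481 (iv4 D191212)
def n207482 : Q := act 4 n131838
theorem D207482 : act 4 n131838 = n207482 := rfl
theorem F445106 : act 2 n207482 = n131842 := d1_1 D207482 (iv4 D131842) (iv2 F211248)
theorem F445107 : act 3 n207482 = n196012 := d5_1 D207482 F399059 F163786 (iv4 F96439) (iv3 F364671)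
theorem F445108 : act 6 n207482 = n131842 := d10_2 (iv6 F364672) D207482 (iv4 D131842)
def n207483 : Q := act 3 n131840
theorem D207483 : act 3 n131840 = n207483 := rfl
theorem F445109 : act 5 n207483 = n131933 := d6_2 (iv5 F367308) D207483 (iv3 D131933)
theorem F445110 : act 2 n132082 = n207483 := d2_3 F445109 F355039 (iv5 F359028)
theorem F445111 : act 1 n196264 = n207483 := d18_8 (iv1 F213566) F337806 D182392 F363958 F349640 (iv4 F379861) (iv0 F382469) (iv4 F400104) F445109
theorem F445112 : act 6 n132066 = n207483 := d21_5 F119746 (iv1 D35808) D35810 D78613 (iv1 F357665) F445109 (iv1 F213566) F359025 (iv6 D91872) (iv1 F119745)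
def n207484 : Q := act 4 n131840
theorem D207484 : act 4 n131840 = n207484 := rfl
def n207485 : Q := act 6 n131840
theorem D207485 : act 6 n131840 = n207485 := rfl
theorem F445113 : act 3 n207485 = n132066 := d7_1 D207485 F445112 (iv3 D207483)
theorem F445114 : act 5 n207485 = n132064 := d12_1 D207485 (iv6 F384057) F440834 (iv6 D131936) (iv5 F367308)
theorem F445115 : act 0 n196025 = n207485 := d21_4 (iv5 D113504) (iv1 F361883) (iv5 F382780) (iv6 F399106) (iv6 D207485) F367308 (iv1 F164178) D196065 F417989 (iv1 D200807)
theorem F445116 : act 7 n132093 = n207485 := d13_0 F445114 F211547 D132093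
def n207486 : Q := act 3 n131841
theorem D207486 : act 3 n131841 = n207486 := rfl
theorem F445117 : act 5 n207486 = n131938 := d6_2 (iv5 F354693) D207486 (iv3 D131938)
theorem F445118 : act 6 n185728 = n207486 := d12_0 F445117 F354702 (iv5 F441134) F441136 F382700
theorem F445119 : act 0 n198969 = n207486 := d17_0 F445117 F211631 F358317 F348084 (iv5 F358248) (iv0 D112968) F164264 F382220 (iv4 F410100)
def n207487 : Q := act 4 n131841
theorem D207487 : act 4 n131841 = n207487 := rfl
def n207488 : Q := act 6 n131841
theorem D207488 : act 6 n131841 = n207488 := rfl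
theorem F445120 : act 3 n207488 = n185728 := d7_1 D207488 F445118 (iv3 D207486)
theorem F445121 : act 5 n207488 = n206509 := d12_1 D207488 (iv6 D206509) F332809 F354700 (iv5 F354693)
theorem F445122 : act 0 n207488 = n196266 := d21_4 (iv5 D196065) (iv1 F164180) (iv5 F354693) D207488 F400110 F382778 (iv1 D113503) D113504 F362895 (iv1 F399272)
def n207489 : Q := act 0 n131842
theorem D207489 : act 0 n131842 = n207489 := rfl
theorem F445123 : act 4 n207489 = n131947 := d20_8 F398938 (iv1 F164409) (iv4 F325498) F78054 (iv1 F46961) (iv3 F96437) D131842 D207489 F211421 D131956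
theorem F445124 : act 3 n195996 = n207489 := d5_5 F445123 F211421 F96520 (iv3 F163771) (iv4 F399010)
theorem F445125 : act 6 n131946 = n207489 := d10_0 F445123 (iv6 D131947) D131946
def n207490 : Q := act 1 n131842
theorem D207490 : act 1 n131842 = n207490 := rfl
def n207491 : Q := act 5 n131842
theorem D207491 : act 5 n131842 = n207491 := rfl
theorem F445126 : act 3 n207491 = n189335 := d6_1 D207491 F376424 (iv3 F211250)
def n207492 : Q := act 6 n131849
theorem D207492 : act 6 n131849 = n207492 := rfl
theorem F445127 : act 3 n207492 = n194193 := d7_1 D207492 F392329 (iv3 F363065)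
theorem F445128 : act 4 n207492 = n196135 := d10_1 D207492 (iv6 D196135) (iv4 F343659)
theorem F445129 : act 5 n207492 = n206524 := d12_1 D207492 (iv6 D206524) F355245 F342926 (iv5 F342925)
theorem F445130 : act 0 n207492 = n190462 := d21_4 (iv5 D61934) D61931 (iv5 F342925) D207492 (iv6 F379825) F202087 F165571 D105242 F333546 (iv1 D131983)
theorem F445131 : act 0 n190465 = n207492 := d21_4 F399400 (iv1 F164363) F341613 (iv6 F379830) (iv6 D207492) F342925 (iv1 F164143) D196049 F399195 (iv1 F399402)
def n207493 : Q := act 2 n131852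
theorem D207493 : act 2 n131852 = n207493 := rfl
theorem F445132 : act 4 n207493 = n190401 := d1_2 F413907 D207493 F413912
theorem F445133 : act 5 n207493 = n200824 := d2_2 (iv5 F364797) D207493 F418066
theorem F445134 : act 6 n207493 = n200885 := d3_2 F332785 D207493 F418282
theorem F445135 : act 7 n207493 = n207117 := d4_2 F398799 D207493 F443401
def n207494 : Q := act 1 n131853
theorem D207494 : act 1 n131853 = n207494 := rfl
theorem F445136 : act 3 n191689 = n207494 := d20_3 F377811 D189895 (iv4 F417182) (iv1 D207494) (iv3 D131853) F165573 (iv1 D49284) (iv4 F77883) (iv3 F164299) F377813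
def n207495 : Q := act 2 n131853
theorem D207495 : act 2 n131853 = n207495 := rfl
theorem F445137 : act 3 n207495 = n207117 := d0_2 D131853 D207495 F443401 (iv3 D195943) F165630
theorem F445138 : act 5 n207495 = n206668 := d2_2 F439307 D207495 F441809
theorem F445139 : act 6 n206483 = n207495 := d12_0 F445138 (iv6 D206668) (iv5 F400124) F400122 D206483
def n207496 : Q := act 4 n131853
theorem D207496 : act 4 n131853 = n207496 := rfl
theorem F445140 : act 3 n207496 = n132183 := d5_1 D207496 F211749 F165574 (iv4 F165573) D131853
theorem F445141 : act 7 n207496 = n132249 := d11_2 F398797 D207496 (iv4 F398794)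
theorem F445142 : act 0 n207496 = n206877 := d20_1 D207496 F442483 (iv3 F395882) D195940 F398788 F377811 D189895 (iv4 F417182) F445136 (iv1 D207494)
def n207497 : Q := act 6 n131853
theorem D207497 : act 6 n131853 = n207497 := rfl
theorem F445143 : act 2 n207497 = n206483 := d3_1 D207497 F445139 (iv2 D207495)
theorem F445144 : act 3 n207497 = n131854 := d7_1 D207497 (iv6 D131854) D131853
theorem F445145 : act 5 n207497 = n132269 := d12_1 D207497 (iv6 F400015) F400016 (iv6 F439308) F439307
theorem F445146 : act 7 n207497 = n206484 := d14_2 F398797 D207497 F441038 F380842 (iv6 F398796)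
theorem F445147 : act 0 n131972 = n207497 := d17_2 (iv1 F164227) D131972 F445145 F211944 F209493 (iv0 F164850) F78359 F78044 (iv4 F164225)
theorem F445148 : act 1 n131969 = n207497 := d17_6 D62056 F96701 F96703 (iv5 D61922) D61921 D131969 F445145 (iv0 D132269) F96700
def n207498 : Q := act 3 n131855
theorem D207498 : act 3 n131855 = n207498 := rfl
theorem F445149 : act 4 n207498 = n206014 := d5_2 F398484 D207498 (iv3 F442221) (iv4 F442223) F398489
theorem F445150 : act 5 n207498 = n201118 := d6_2 F342920 D207498 F419152
theorem F445151 : act 6 n207498 = n190668 := d7_2 (iv6 F332870) D207498 F397828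
theorem F445152 : act 7 n207498 = n206575 := d8_2 F211261 D207498 F441395
theorem F445153 : act 0 n207498 = n206812 := d20_4 F343624 (iv1 F398488) F398484 D207498 F442277 F394026 (iv1 F378152) (iv4 F441404) F441402 F207141
theorem F445154 : act 0 n206762 = n207498 := d21_4 (iv5 F429316) F429319 F400093 D206762 F445151 F380503 (iv1 D180344) (iv5 F338319) (iv6 D132952) F213154
def n207499 : Q := act 3 n131856
theorem D207499 : act 3 n131856 = n207499 := rfl
theorem F445155 : act 5 n207499 = n205254 := d6_2 (iv5 F211263) D207499 (iv3 D205254)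
theorem F445156 : act 6 n207499 = n195671 := d7_2 F349625 D207499 (iv3 D195671)
theorem F445157 : act 7 n207499 = n206573 := d8_2 (iv7 F211262) D207499 F441391
def n207500 : Q := act 0 n131859
theorem D207500 : act 0 n131859 = n207500 := rfl
theorem F445158 : act 5 n207500 = n182776 := d17_1 D207500 (iv1 F399462) (iv5 F440921) F440922 (iv5 F436035) F436038 (iv5 F417180) (iv0 D200609) F328353
theorem F445159 : act 4 n207500 = n189775 := d18_1 D207500 (iv1 D189775) (iv4 F147848) (iv5 F152021) F336400 (iv0 F395426) (iv4 F417164) (iv0 D200605) F360821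
theorem F445160 : act 6 n207500 = n205539 := d21_5 F399475 (iv1 D113267) D113268 F328354 D207500 F436903 (iv1 D205367) (iv5 F398172) (iv6 F436028) F436030
theorem F445161 : act 1 n206607 = n207500 := d15_0 (iv0 D207500) (iv7 F399131) (iv2 F441548)
theorem F445162 : act 3 n191593 = n207500 := d20_5 F327401 (iv1 D46083) D46084 D98581 D191593 F445159 (iv1 D189775) (iv4 F147848) (iv3 D96162) F327926
def n207501 : Q := act 2 n131859
theorem D207501 : act 2 n131859 = n207501 := rfl
theorem F445163 : act 3 n207501 = n193645 := d0_2 D131859 D207501 F390548 (iv3 D129394) F164048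
theorem F445164 : act 4 n207501 = n200599 := d1_2 F328353 D207501 F417137
theorem F445165 : act 5 n207501 = n200597 := d2_2 F360821 D207501 F417128
theorem F445166 : act 6 n207501 = n200599 := d3_2 F328354 D207501 F417137
theorem F445167 : act 7 n207501 = n206607 := d4_2 F399131 D207501 F441548
def n207502 : Q := act 2 n131860
theorem D207502 : act 2 n131860 = n207502 := rfl
theorem F445168 : act 3 n207502 = n206607 := d0_2 D131860 D207502 F441548 (iv3 D196032) F163831
theorem F445169 : act 4 n207502 = n132376 := d1_2 (iv4 F211270) D207502 (iv2 D132376)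
theorem F445170 : act 5 n207502 = n206605 := d2_2 F436988 D207502 F441537
theorem F445171 : act 7 n207502 = n193645 := d4_2 (iv7 F211271) D207502 F390548
theorem F445172 : act 1 n207502 = n193646 := d15_0 F390549 (iv7 F211271) D207502
theorem F445173 : act 1 n190534 = n207502 := d15_0 F445172 (iv7 F445056) F445054
def n207503 : Q := act 6 n131860
theorem D207503 : act 6 n131860 = n207503 := rfl
theorem F445174 : act 3 n207503 = n131861 := d7_1 D207503 (iv6 D131861) D131860
theorem F445175 : act 4 n207503 = n132377 := d10_1 D207503 (iv6 D132377) (iv4 F211270)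
theorem F445176 : act 7 n207503 = n206512 := d14_2 (iv7 F211271) D207503 (iv6 D206512) (iv7 F212371) F212370
theorem F445177 : act 0 n204888 = n207503 := d21_4 (iv5 D165605) F122171 (iv5 F199313) D204888 (iv6 D207503) (iv5 F436988) (iv1 F436990) F368095 F368091 (iv1 F341754)
def n207504 : Q := act 0 n131869
theorem D207504 : act 0 n131869 = n207504 := rfl
theorem F445178 : act 5 n207504 = n134484 := d17_1 D207504 (iv1 F363781) F177045 (iv4 F239986) (iv5 F363775) (iv0 F180757) (iv5 F215943) (iv0 F423533) F423531
theorem F445179 : act 4 n207504 = n192709 := d18_1 D207504 (iv1 F444554) F444552 F209560 F95935 F48388 D63817 F99203 D131869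
theorem F445180 : act 1 n202239 = n207504 := d15_0 (iv0 D207504) (iv7 F444010) F444007
theorem F445181 : act 2 n201082 = n207504 := d1_3 F445179 F413517 (iv4 F419029)
theorem F445182 : act 6 n187509 = n207504 := d10_0 F445179 (iv6 D192709) (iv4 F370630)
theorem F445183 : act 7 n201080 = n207504 := d11_0 F445179 (iv7 F444547) F444548
theorem F445184 : act 3 n207504 = n187510 := d20_3 D135725 F442948 (iv4 F445179) F429613 (iv3 D188904) (iv4 F395004) F395002 D111725 F354329 (iv1 D135724)
def n207505 : Q := act 1 n131869
theorem D207505 : act 1 n131869 = n207505 := rfl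
theorem F445185 : act 1 n207505 = n202239 := d15_1 D207505 (iv7 F437513) F437510
theorem F445186 : act 7 n207505 = n201082 := d15_2 (iv0 D207504) D207505 F445181
theorem F445187 : act 5 n207505 = n134508 := d17_7 F418881 (iv5 F330588) F330586 (iv5 D61881) (iv4 F96460) D131869 D207505 F363780 (iv4 F418878)
theorem F445188 : act 2 n201080 = n207505 := d2_3 F445187 (iv2 F363758) D201080
def n207506 : Q := act 5 n131871
theorem D207506 : act 5 n131871 = n207506 := rfl
theorem F445189 : act 2 n207506 = n201077 := d2_1 D207506 F419011 F211296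
theorem F445190 : act 3 n207506 = n131931 := d6_1 D207506 (iv5 F216108) (iv3 F217195)
theorem F445191 : act 4 n207506 = n201850 := d9_1 D207506 F422055 (iv4 F354330) F215943 (iv4 F176277) F176278 D115674 F330588 (iv4 F218310) F218312 (iv4 F410337) (iv5 D199016) (iv4 F222796) F330573 F217196
theorem F445192 : act 6 n207506 = n131929 := d12_2 (iv6 F226976) D207506 (iv5 F415245) (iv6 D200148) (iv5 F226974)
theorem F445193 : act 7 n207506 = n131974 := d13_2 F403730 D207506 (iv5 F403732)
theorem F445194 : act 0 n207506 = n201047 := d17_2 D131871 D207506 F418879 F179866 F330597 D202131 F423002 (iv0 F218244) F111079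
theorem F445195 : act 1 n207506 = n132165 := d17_6 (iv1 F179511) D115491 (iv1 F330594) F330573 F217196 D207506 F211700 (iv0 F179213) (iv4 F179509)
def n207507 : Q := act 5 n131884
theorem D207507 : act 5 n131884 = n207507 := rfl
theorem F445196 : act 2 n207507 = n131891 := d2_1 D207507 (iv5 D131891) (iv2 F211317)
theorem F445197 : act 7 n207507 = n200843 := d13_2 (iv7 F391967) D207507 F418124
theorem F445198 : act 1 n207507 = n195099 := d17_6 D52617 D114006 D201149 F419272 F395900 D207507 (iv5 D195099) (iv0 D105263) F76556
theorem F445199 : act 0 n207507 = n195103 := d21_1 D207507 (iv5 D195103) D195104 (iv1 F395762) (iv6 D128601) D128600 (iv1 F362260) (iv5 D128769) D128770 (iv1 F391985)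
def n207508 : Q := act 3 n131890
theorem D207508 : act 3 n131890 = n207508 := rfl
theorem F445200 : act 4 n207508 = n136760 := d5_2 F418640 D207508 F361872 F366068 (iv3 F418639)
theorem F445201 : act 6 n207508 = n205023 := d7_2 F362256 D207508 F434660
theorem F445202 : act 7 n207508 = n206010 := d8_2 F417003 D207508 (iv3 F438823)
theorem F445203 : act 2 n206008 = n207508 := d3_3 F445201 F434659 (iv6 F438812)
theorem F445204 : act 0 n207508 = n206761 := d21_4 (iv5 F343565) F406703 (iv5 F434662) (iv6 F445201) (iv6 D206761) D206760 F442085 F429316 F354047 (iv1 D130197)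
theorem F445205 : act 0 n206769 = n207508 := d18_2 (iv1 F212650) D206769 F445200 (iv5 D136760) D136759 (iv0 F367007) (iv4 F393006) (iv0 F437962) F437960
def n207509 : Q := act 3 n131894
theorem D207509 : act 3 n131894 = n207509 := rfl
theorem F445206 : act 4 n207509 = n144546 := d5_2 (iv4 F338514) D207509 F227407 D144548 F338515
theorem F445207 : act 5 n207509 = n205238 := d6_2 (iv5 F342977) D207509 F435559
theorem F445208 : act 6 n207509 = n163607 := d7_2 F377356 D207509 (iv3 F377355)
theorem F445209 : act 7 n207509 = n205237 := d8_2 F342976 D207509 F435555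
theorem F445210 : act 0 n207509 = n198970 := d21_4 (iv5 D163460) (iv1 F140959) (iv5 F257876) (iv6 F445208) (iv6 D198970) (iv5 F335829) (iv1 F398777) F398775 F382201 F341796
def n207510 : Q := act 0 n131895
theorem D207510 : act 0 n131895 = n207510 := rfl
theorem F445211 : act 5 n207510 = n196100 := d17_1 D207510 F435610 (iv5 D205251) (iv4 F435186) F435187 F202192 D195027 (iv0 F413739) F366349
theorem F445212 : act 4 n207510 = n205359 := d18_3 F395492 F366349 D207510 (iv5 D205359) F202350 (iv0 D74181) (iv4 F76483) D105175 D195031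
theorem F445213 : act 6 n207510 = n196125 := d21_5 (iv5 D131901) (iv1 D61890) D61891 (iv6 F211323) D207510 (iv5 D196125) D196123 (iv5 F436267) (iv6 F441828) F441830
theorem F445214 : act 2 n205361 = n207510 := d3_3 F445213 (iv2 F435861) (iv6 F436075)
theorem F445215 : act 3 n196103 = n207510 := d7_3 F445213 F399515 (iv6 F399421)
def n207511 : Q := act 1 n131895
theorem D207511 : act 1 n131895 = n207511 := rfl
theorem F445216 : act 7 n207511 = n205361 := d15_2 (iv0 D207510) D207511 F445214
theorem F445217 : act 4 n205362 = n207511 := d20_6 F92912 (iv1 F92970) F92968 (iv3 F169387) F202360 (iv3 F436078) (iv1 D207511) (iv4 F366349) F202048 F92982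
def n207512 : Q := act 5 n131906
theorem D207512 : act 5 n131906 = n207512 := rfl
theorem F445218 : act 2 n207512 = n205376 := d2_1 D207512 (iv5 F438834) (iv2 F438832)
theorem F445219 : act 3 n207512 = n131907 := d6_1 D207512 (iv5 D131907) D131906
theorem F445220 : act 7 n207512 = n206494 := d13_2 (iv7 F211340) D207512 (iv5 D206494)
theorem F445221 : act 0 n207512 = n205380 := d17_2 F438059 D207512 (iv5 F441652) F441651 F418552 F218789 D136755 F333079 D205834
theorem F445222 : act 1 n207512 = n206028 := d17_6 F438521 (iv5 D194383) F367032 (iv5 D132508) (iv4 F211339) D207512 (iv5 D206028) (iv0 F436959) (iv4 F438518)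
theorem F445223 : act 4 n207512 = n205378 := d19_2 F438059 D207512 (iv3 F436152) (iv1 D125902) D125903 (iv4 F332823) F359236 (iv1 F399734) F399731 F223879 (iv3 F180778) F318768 F320903 F102542 (iv3 F102544) (iv1 D63965) D63967 D136040 (iv3 F438056)
theorem F445224 : act 6 n205407 = n207512 := d21_9 (iv5 F441652) (iv1 F441654) F436958 (iv6 D205472) (iv1 F202749) D126088 F366132 D205060 (iv5 F436337) F445221
def n207513 : Q := act 6 n131906
theorem D207513 : act 6 n131906 = n207513 := rfl
theorem F445225 : act 2 n207513 = n204886 := d3_1 D207513 (iv6 F443419) (iv2 F438832)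
theorem F445226 : act 3 n207513 = n131908 := d7_1 D207513 (iv6 D131908) D131906
theorem F445227 : act 4 n207513 = n132286 := d10_1 D207513 F212070 (iv4 F211339)
theorem F445228 : act 7 n207513 = n132268 := d14_2 (iv7 F211340) D207513 (iv6 D132268) F96698 D128690
theorem F445229 : act 0 n207513 = n189780 := d21_4 D206028 (iv1 F445222) (iv5 D207512) D207513 F377713 (iv5 D124520) F122173 D165605 F436960 F436959
theorem F445230 : act 1 n207513 = n204887 := d15_1 (iv0 F445229) (iv7 D204887) (iv2 F377712)
def n207514 : Q := act 3 n131919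
theorem D207514 : act 3 n131919 = n207514 := rfl
theorem F445231 : act 2 n207514 = n205012 := d0_1 D207514 F434595 (iv2 F336982) (iv3 D134336) (iv2 F354729)
theorem F445232 : act 5 n207514 = n193986 := d6_2 (iv5 F354715) D207514 (iv3 D193986)
theorem F445233 : act 7 n207514 = n134332 := d8_2 (iv7 F354730) D207514 (iv3 D134332)
theorem F445234 : act 4 n207514 = n134261 := d20_6 (iv4 D24856) (iv1 F38927) D29330 D61901 D131919 D207514 (iv1 D134261) F98385 (iv3 D29836) (iv1 F38931)
theorem F445235 : act 1 n134060 = n207514 := d15_1 (iv0 F373075) F445233 F354752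
def n207515 : Q := act 4 n131919
theorem D207515 : act 4 n131919 = n207515 := rfl
theorem F445236 : act 2 n207515 = n132007 := d1_1 D207515 F211508 (iv2 F354729)
theorem F445237 : act 7 n207515 = n132089 := d11_2 (iv7 F354730) D207515 F211626
theorem F445238 : act 5 n207515 = n131947 := d17_5 (iv1 D131789) (iv5 F327938) D102556 (iv5 F354715) D207515 F399832 F399830 F399499 F399498
theorem F445239 : act 1 n207515 = n132064 := d18_6 (iv1 D186579) (iv4 F367292) F391645 (iv4 D193987) (iv5 F354715) D207515 (iv4 F211605) D134539 F367294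
theorem F445240 : act 0 n207515 = n132091 := d20_1 D207515 (iv4 F410175) (iv3 D198985) (iv1 D110806) (iv3 D51085) (iv4 D24856) (iv1 F38927) D29330 D61901 D131919
theorem F445241 : act 3 n207515 = n131958 := d20_3 (iv4 F96498) D131919 D207515 (iv1 F398939) (iv3 F330448) (iv4 F399349) (iv1 F441299) F441296 (iv3 D131938) (iv1 D61908)
theorem F445242 : act 6 n131950 = n207515 := d7_0 F445241 F211432 (iv3 F211422)
def n207516 : Q := act 6 n131919
theorem D207516 : act 6 n131919 = n207516 := rfl
theorem F445243 : act 2 n207516 = n134338 := d3_1 D207516 (iv6 D134338) (iv2 F354729)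
theorem F445244 : act 4 n207516 = n131950 := d10_1 D207516 F445242 (iv4 D207515)
theorem F445245 : act 7 n207516 = n206542 := d14_2 (iv7 F354730) D207516 (iv6 D206542) F354761 F354728
theorem F445246 : act 0 n207516 = n195145 := d21_4 (iv5 F327938) D102556 (iv5 F354715) D207516 (iv6 D195145) D195144 (iv1 F411382) (iv5 F445029) (iv6 D207459) (iv1 D131789)
theorem F445247 : act 0 n134447 = n207516 := d21_4 (iv5 F438477) (iv1 F438482) F383812 (iv6 F383814) (iv6 D207516) F354715 (iv1 F354716) (iv5 F245954) (iv6 F333139) (iv1 F386018)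
def n207517 : Q := act 5 n131921
theorem D207517 : act 5 n131921 = n207517 := rfl
theorem F445248 : act 2 n207517 = n131922 := d2_1 D207517 (iv5 D131922) D131921
theorem F445249 : act 3 n207517 = n134311 := d6_1 D207517 (iv5 D134311) (iv3 F211379)
theorem F445250 : act 7 n207517 = n134339 := d13_2 (iv7 F211381) D207517 (iv5 D134339)
theorem F445251 : act 1 n207517 = n134341 := d17_6 D61859 D131831 (iv1 F362893) (iv5 D131942) (iv4 F211380) D207517 F377958 (iv0 D131788) F96394
theorem F445252 : act 0 n207517 = n134342 := d18_0 (iv4 F377976) F380332 F380329 (iv5 F368377) (iv4 D132092) (iv0 F216344) F211508 F211384 D207517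
theorem F445253 : act 4 n189947 = n207517 := d20_6 F334523 (iv1 D45228) F33982 (iv3 F70140) D95498 D189947 F445252 (iv4 F377976) F377975 (iv1 F148022)
theorem F445254 : act 0 n164486 = n189947 := d18_2 F432169 (iv4 F259227) F445253 (iv5 D207517) F211380 F164174 F216519 (iv0 F410177) (iv5 F432167)
def n207518 : Q := act 0 n131922
theorem D207518 : act 0 n131922 = n207518 := rfl
theorem F445255 : act 4 n207518 = n190672 := d18_1 D207518 (iv1 F380520) (iv4 F432166) F432167 F410175 (iv0 F445240) (iv4 D207515) (iv0 D131919) D131922
theorem F445256 : act 5 n207518 = n156448 := d21_2 D131922 D207518 (iv6 F383757) (iv1 F383758) (iv6 F404656) F404655 (iv1 F357792) (iv5 F354667) (iv6 F354691) (iv1 D131920)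
theorem F445257 : act 2 n134342 = n207518 := d15_3 (iv0 D207518) F377963 F377955
theorem F445258 : act 1 n134339 = n207518 := d15_0 (iv0 D207518) F211386 (iv2 F216345)
theorem F445259 : act 7 n207518 = n134341 := d15_2 (iv0 F383864) F445258 (iv2 F377956)
theorem F445260 : act 1 n154189 = n190742 := d18_6 (iv1 F327933) F327935 (iv1 F163840) (iv4 F336391) F308420 (iv4 F242307) F383865 F445258 F445256
theorem F445261 : act 6 n186599 = n207518 := d21_9 (iv5 D134339) (iv1 F211383) F354692 F354738 D146911 (iv6 F343209) (iv5 D111129) D111126 F380326 (iv1 F445258)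
def n207519 : Q := act 4 n131922
theorem D207519 : act 4 n131922 = n207519 := rfl
theorem F445262 : act 2 n207519 = n189947 := d1_1 D207519 F445253 F445248
theorem F445263 : act 3 n207519 = n186598 := d5_1 D207519 F367380 F335712 (iv4 F96502) (iv3 F211385)
theorem F445264 : act 7 n207519 = n134343 := d11_2 (iv7 F211386) D207519 (iv4 D134343)
theorem F445265 : act 1 n207519 = n154189 := d18_6 F211630 (iv4 D131939) (iv1 D61908) (iv4 F96498) D131922 D207519 F242307 D154191 (iv5 F368377)
theorem F445266 : act 6 n207519 = n186597 := d21_5 F106463 F71417 (iv5 F109577) D154189 (iv1 F445265) F367377 F365460 (iv5 F357189) (iv6 F306780) F147486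
def n207520 : Q := act 6 n131922
theorem D207520 : act 6 n131922 = n207520 := rfl
theorem F445267 : act 3 n207520 = n131924 := d7_1 D207520 (iv6 D131924) (iv3 F211385)
theorem F445268 : act 4 n207520 = n186597 := d10_1 D207520 (iv6 F445266) (iv4 D207519)
theorem F445269 : act 5 n207520 = n191465 := d12_1 D207520 F384059 (iv5 D191651) F377967 D131922
theorem F445270 : act 7 n207520 = n187070 := d14_2 (iv7 F211386) D207520 F391605 (iv7 F391607) (iv6 D134344)
theorem F445271 : act 0 n207520 = n193962 := d21_4 (iv5 F354692) (iv1 D131920) D131922 D207520 (iv6 D193962) (iv5 D102504) (iv1 F153715) F324393 (iv6 F333145) (iv1 F333149)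
theorem F445272 : act 0 n187090 = n207520 := d21_4 F386445 F369060 (iv5 D187089) D187090 (iv6 D207520) (iv5 D131922) D131919 F354715 D193988 F391648
def n207521 : Q := act 1 n131924
theorem D207521 : act 1 n131924 = n207521 := rfl
theorem F445273 : act 1 n207521 = n134326 := d15_1 D207521 (iv7 D134326) (iv2 F211389)
theorem F445274 : act 7 n207521 = n134323 := d15_2 (iv0 F431067) D207521 (iv2 F431062)
theorem F445275 : act 4 n207521 = n186841 := d17_9 (iv1 D186841) (iv5 D89242) (iv1 F289540) (iv5 F297097) F87722 D120376 D203718 (iv5 F429533) D207521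
theorem F445276 : act 5 n204130 = n207521 := d21_0 (iv1 D207521) F429533 F429535 F211396 (iv6 F444189) (iv5 D207293) D207291 (iv5 F444181) F366919 (iv1 F431147)
theorem F445277 : act 6 n138630 = n207521 := d21_3 F300527 D177929 F364406 (iv1 D207521) (iv6 D131924) (iv5 D61902) F46990 (iv5 F48009) D63146 (iv1 F350262)
theorem F445278 : act 2 n207521 = n134324 := d3_1 F445277 F411526 (iv2 F411442)
def n207522 : Q := act 3 n131925
theorem D207522 : act 3 n131925 = n207522 := rfl
theorem F445279 : act 2 n207522 = n138032 := d0_1 D207522 (iv3 F438115) F438114 F212882 F211394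
theorem F445280 : act 4 n207522 = n137870 := d5_2 (iv4 F211393) D207522 (iv3 F356299) F325790 (iv3 F168229)
theorem F445281 : act 6 n207522 = n137869 := d7_2 F360534 D207522 (iv3 F350304)
theorem F445282 : act 7 n207522 = n134255 := d8_2 (iv7 F211392) D207522 (iv3 D134255)
theorem F445283 : act 0 n207522 = n134058 := d20_4 F98380 (iv1 F98250) (iv4 F211393) D207522 (iv3 F336947) (iv4 D90436) (iv1 F69118) D94057 (iv3 F359592) (iv1 F216034)
theorem F445284 : act 0 n138037 = n207522 := d18_2 (iv1 F368074) F357352 F445280 F356283 F268169 F357373 D202572 F424560 F385170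
def n207523 : Q := act 5 n131925
theorem D207523 : act 5 n131925 = n207523 := rfl
theorem F445285 : act 2 n207523 = n134258 := d2_1 D207523 (iv5 D134258) F211394
theorem F445286 : act 6 n207523 = n156494 := d12_2 F360534 D207523 F246035 (iv6 D141149) D141148
theorem F445287 : act 7 n207523 = n134256 := d13_2 (iv7 F211392) D207523 (iv5 D134256)
theorem F445288 : act 0 n207523 = n204017 := d17_2 (iv1 F211391) D207523 F430827 F217062 F211960 (iv0 F211963) (iv5 D131930) F171533 F171530
theorem F445289 : act 1 n207523 = n179823 := d17_6 (iv1 F98696) (iv5 F111913) F111915 F101083 (iv4 F211393) D207523 (iv5 F365580) F217067 F209293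
def n207524 : Q := act 1 n131926
theorem D207524 : act 1 n131926 = n207524 := rfl
theorem F445290 : act 1 n207524 = n134330 := d15_1 D207524 (iv7 D134330) (iv2 F211395)
theorem F445291 : act 7 n207524 = n134327 := d15_2 (iv0 F211396) D207524 (iv2 F216335)
theorem F445292 : act 5 n207524 = n134879 := d17_7 (iv1 F216215) F216212 (iv1 F98348) F50022 (iv4 F96505) D131926 D207524 F217076 F217066
theorem F445293 : act 2 n134328 = n207524 := d2_3 F445292 F217072 F216337
theorem F445294 : act 3 n191461 = n207524 := d6_3 F445292 F365739 F411704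
def n207525 : Q := act 4 n131926
theorem D207525 : act 4 n131926 = n207525 := rfl
theorem F445295 : act 2 n207525 = n134329 := d1_1 D207525 (iv4 D134329) (iv2 F211395)
theorem F445296 : act 6 n207525 = n204438 := d10_2 F429535 D207525 F432537
def n207526 : Q := act 7 n131926
theorem D207526 : act 7 n131926 = n207526 := rfl
theorem F445297 : act 2 n207526 = n134330 := d4_1 D207526 (iv7 D134330) (iv2 F211395)
theorem F445298 : act 5 n207526 = n131927 := d13_1 D207526 (iv7 D131927) D131926
theorem F445299 : act 1 n134328 = n207526 := d15_1 D134328 (iv7 D207526) F211395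
theorem F445300 : act 1 n207526 = n134327 := d15_1 F445299 (iv7 F445291) (iv2 F445293)
def n207527 : Q := act 6 n131933
theorem D207527 : act 6 n131933 = n207527 := rfl
theorem F445301 : act 2 n207527 = n132086 := d3_1 D207527 (iv6 F359029) (iv2 F355039)
theorem F445302 : act 3 n207527 = n131936 := d7_1 D207527 (iv6 D131936) D131933
theorem F445303 : act 4 n207527 = n199574 := d10_1 D207527 (iv6 D199574) (iv4 F211414)
theorem F445304 : act 5 n207527 = n132067 := d12_1 D207527 (iv6 D132067) D132066 F445112 F445109
theorem F445305 : act 7 n207527 = n206548 := d14_2 F355034 D207527 (iv6 D206548) (iv7 F355025) F355001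
theorem F445306 : act 0 n207120 = n207527 := d19_0 F445304 (iv4 F211606) F98469 D63233 D134568 F361226 (iv3 F317889) F321822 (iv5 F321825) F59986 (iv3 F299483) F299482 (iv5 F297961) (iv4 F300371) D167490 F345776 (iv5 D130393) D130392 D207120
def n207528 : Q := act 3 n131934
theorem D207528 : act 3 n131934 = n207528 := rfl
theorem F445307 : act 2 n207528 = n197972 := d0_1 D207528 (iv3 D197972) F354988 D134219 (iv2 F355059)
theorem F445308 : act 4 n207528 = n199572 := d5_2 D131934 D207528 (iv3 D199572) (iv4 F211414) (iv3 D131933)
theorem F445309 : act 5 n207528 = n186972 := d6_2 F367305 D207528 (iv3 D186972)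
theorem F445310 : act 0 n207528 = n134796 := d19_4 D131840 F367308 D131934 D207528 F347361 F253051 (iv3 F312185) F312182 (iv5 F334830) F215219 F164487 F163359 (iv5 D106292) F77574 F77573 F37524 (iv5 F37558) (iv4 F46959) (iv3 F96437)
theorem F445311 : act 0 n197520 = n199572 := d20_1 (iv4 F404680) (iv4 F445308) (iv3 D207528) F211629 F211627 F98475 F211577 (iv4 F48002) (iv3 F98264) (iv1 F355339)
theorem F445312 : act 6 n183784 = n207528 := d12_0 F445309 F368718 F354925 F310353 D183784
theorem F445313 : act 0 n134791 = n207528 := d17_2 D151557 F355353 F445309 (iv4 F368719) (iv5 F420248) F420251 (iv5 D151564) (iv0 D71448) (iv4 F107992)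
def n207529 : Q := act 6 n131934
theorem D207529 : act 6 n131934 = n207529 := rfl
theorem F445314 : act 3 n207529 = n183784 := d7_1 D207529 F445312 (iv3 D207528)
theorem F445315 : act 4 n207529 = n131936 := d10_1 D207529 (iv6 D131936) D131934
theorem F445316 : act 5 n207529 = n183783 := d12_1 D207529 F368366 (iv5 F368363) F368358 F367305
theorem F445317 : act 7 n207529 = n206550 := d14_2 (iv7 F355055) D207529 (iv6 D206550) F355045 (iv6 F355062)
theorem F445318 : act 0 n183784 = n137996 := d20_10 F221264 (iv1 F411666) (iv4 F216921) F216920 (iv1 F98644) D134447 F216409 (iv1 F367310) (iv4 F445315) F445314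
def n207530 : Q := act 4 n131942
theorem D207530 : act 4 n131942 = n207530 := rfl
theorem F445319 : act 2 n207530 = n131946 := d1_1 D207530 (iv4 D131946) (iv2 F211418)
theorem F445320 : act 1 n207530 = n189533 := d15_0 (iv0 F376850) F376404 (iv2 F445319)
def n207531 : Q := act 6 n131942
theorem D207531 : act 6 n131942 = n207531 := rfl
theorem F445321 : act 2 n207531 = n131947 := d3_1 D207531 (iv6 D131947) (iv2 F211418)
theorem F445322 : act 3 n207531 = n132009 := d7_1 D207531 (iv6 F399195) F399194
theorem F445323 : act 5 n132007 = n207531 := d6_0 F445322 (iv5 D132009) D132007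
theorem F445324 : act 0 n207531 = n132110 := d19_4 D34885 D76356 (iv4 F341602) (iv3 F445322) (iv5 F445060) F445059 F218914 (iv1 F327491) (iv5 F216529) F339491 (iv3 F313441) (iv1 F314049) (iv5 F314055) F110652 D54097 (iv1 F190195) D69019 (iv4 F105226) F55179
def n207532 : Q := act 5 n131943
theorem D207532 : act 5 n131943 = n207532 := rfl
theorem F445325 : act 2 n207532 = n131950 := d2_1 D207532 (iv5 D131950) (iv2 F211419)
theorem F445326 : act 3 n207532 = n132010 := d6_1 D207532 (iv5 F363271) F391696
theorem F445327 : act 6 n207532 = n132007 := d12_2 D131943 D207532 F445323 (iv6 D207531) (iv5 D131942)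
theorem F445328 : act 7 n207532 = n206578 := d13_2 F384051 D207532 F441410
theorem F445329 : act 0 n207532 = n206629 := d21_1 D207532 (iv5 F441657) (iv6 D206422) (iv1 D128591) D128594 (iv5 F345757) (iv1 F176430) F352467 D113517 F352572
theorem F445330 : act 4 n134338 = n207532 := d11_3 F445328 F441409 (iv7 F354755)
def n207533 : Q := act 4 n131944
theorem D207533 : act 4 n131944 = n207533 := rfl
theorem F445331 : act 2 n207533 = n207481 := d1_1 D207533 (iv4 D207481) F362890
theorem F445332 : act 6 n207533 = n200808 := d10_2 F362895 D207533 (iv4 D200808)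
theorem F445333 : act 7 n207533 = n207479 := d11_2 F362891 D207533 (iv4 D207479)
def n207534 : Q := act 4 n131945
theorem D207534 : act 4 n131945 = n207534 := rfl
theorem F445334 : act 2 n207534 = n207479 := d1_1 D207534 (iv4 D207479) (iv2 F362888)
theorem F445335 : act 7 n207534 = n207481 := d11_2 (iv7 F362889) D207534 (iv4 D207481)
def n207535 : Q := act 6 n131945
theorem D207535 : act 6 n131945 = n207535 := rfl
theorem F445336 : act 2 n207535 = n207480 := d3_1 D207535 (iv6 D207480) (iv2 F362888)
theorem F445337 : act 3 n207535 = n203883 := d7_1 D207535 (iv6 F430229) F382602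
theorem F445338 : act 5 n207535 = n203882 := d12_1 D207535 (iv6 F430222) F383883 (iv6 F352530) F362887
def n207536 : Q := act 0 n131946
theorem D207536 : act 0 n131946 = n207536 := rfl
theorem F445339 : act 3 n207536 = n189537 := d20_5 F376395 (iv1 D106507) D106508 (iv3 F211420) D207536 F376827 (iv1 F376270) (iv4 F376398) (iv3 D189315) D189314
theorem F445340 : act 7 n189533 = n207536 := d8_0 F445339 (iv7 D189537) (iv3 F376825)
def n207537 : Q := act 1 n131946
theorem D207537 : act 1 n131946 = n207537 := rfl
theorem F445341 : act 4 n196025 = n207537 := d20_6 F96510 F47563 (iv4 F77854) (iv3 F164235) F319139 D196025 (iv1 D207537) (iv4 D131946) F96507 D61912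
theorem F445342 : act 3 n207537 = n196024 := d5_1 F445341 (iv4 D196024) (iv3 D106541) D106542 D196025
theorem F445343 : act 6 n207537 = n189532 := d10_2 (iv6 F399106) F445341 F382783
theorem F445344 : act 2 n189533 = n207537 := d3_3 F445343 (iv2 D189532) D189533
def n207538 : Q := act 5 n131946
theorem D207538 : act 5 n131946 = n207538 := rfl
theorem F445345 : act 3 n207538 = n189331 := d6_1 D207538 F376408 (iv3 F211420)
def n207539 : Q := act 7 n131947
theorem D207539 : act 7 n131947 = n207539 := rfl
theorem F445346 : act 3 n207539 = n131959 := d8_1 D207539 (iv7 D131959) (iv3 F211421)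
theorem F445347 : act 5 n207539 = n132089 := d13_1 D207539 (iv7 F445237) F445238
theorem F445348 : act 6 n207539 = n200792 := d14_1 D207539 F417916 F382600 F164182 D131947
theorem F445349 : act 0 n132110 = n207539 := d17_2 F445063 F445060 F445347 F211626 D134333 F354722 (iv5 F111642) (iv0 F328331) (iv4 F383793)
def n207540 : Q := act 3 n131949
theorem D207540 : act 3 n131949 = n207540 := rfl
theorem F445350 : act 2 n207540 = n205473 := d0_1 D207540 F436601 (iv2 F389048) F389053 (iv2 F362897)
theorem F445351 : act 4 n207540 = n205553 := d5_2 F368083 D207540 F436968 F395417 (iv3 F368082)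
theorem F445352 : act 5 n207540 = n204888 := d6_2 (iv5 F383724) D207540 F434023
theorem F445353 : act 6 n207540 = n195004 := d7_2 F362896 D207540 F395371
theorem F445354 : act 7 n207540 = n206632 := d8_2 F367836 D207540 (iv3 F441673)
theorem F445355 : act 0 n206610 = n207540 := d21_4 F294455 D169907 F364793 (iv6 F441561) F445353 F395373 F347421 (iv5 F417890) (iv6 F417895) (iv1 D189775)
theorem F445356 : act 0 n207540 = n132123 := d21_4 (iv5 D198928) F323045 (iv5 F395373) (iv6 F445353) F358319 F358317 F357664 (iv5 F436616) (iv6 D205479) (iv1 F409948)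
def n207541 : Q := act 1 n131950
theorem D207541 : act 1 n131950 = n207541 := rfl
theorem F445357 : act 1 n207541 = n206578 := d15_1 D207541 (iv7 F445328) F445325
theorem F445358 : act 7 n207541 = n206629 := d15_2 F441117 D207541 F441656
theorem F445359 : act 3 n132122 = n207541 := d19_19 (iv1 D207541) (iv5 D131950) (iv4 F377966) F377965 F100230 D135241 (iv4 F431036) (iv3 D204089) (iv1 F383250) F383252 (iv4 D167442) (iv3 F308588) F152502 (iv5 D98971) (iv4 F152501) (iv3 F384516) F384518 F347126 F217754
theorem F445360 : act 4 n207541 = n135969 := d5_2 F217754 F445359 F218739 F327364 D135437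
theorem F445361 : act 6 n207541 = n135968 := d7_2 F438121 F445359 (iv3 F438120)
theorem F445362 : act 0 n206550 = n135969 := d20_1 (iv4 F441287) (iv4 F445360) (iv3 F445359) (iv1 D132122) F96576 F47016 D29360 D62000 D132161 (iv1 F399266)
def n207542 : Q := act 7 n131950
theorem D207542 : act 7 n131950 = n207542 := rfl
theorem F445363 : act 2 n207542 = n206578 := d4_1 D207542 (iv7 F445328) F445325
theorem F445364 : act 3 n207542 = n131967 := d8_1 D207542 (iv7 D131967) (iv3 F211422)
theorem F445365 : act 4 n207542 = n206542 := d11_1 D207542 (iv7 F445245) F445244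
theorem F445366 : act 5 n207542 = n131951 := d13_1 D207542 (iv7 D131951) D131950
theorem F445367 : act 6 n207542 = n206541 := d14_1 D207542 F441248 (iv6 F354754) (iv7 F445237) (iv6 F445242)
theorem F445368 : act 0 n206629 = n207542 := d21_4 (iv5 D200484) D200482 F416651 F441658 F445367 F441247 F384494 (iv5 F418053) (iv6 F418055) F417285
def n207543 : Q := act 0 n131953
theorem D207543 : act 0 n131953 = n207543 := rfl
theorem F445369 : act 5 n207543 = n186308 := d17_1 D207543 (iv1 F364568) (iv5 F376767) F376766 (iv5 D187171) F137499 D102927 F293784 (iv4 F211427)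
theorem F445370 : act 4 n207543 = n159608 := d18_1 D207543 (iv1 F372200) F372205 F358223 F254499 F250175 D176847 (iv0 F343684) F342869
theorem F445371 : act 6 n207543 = n132014 := d21_5 (iv5 D49246) (iv1 F77681) (iv5 F96509) D131953 D207543 (iv5 D132014) (iv1 D61949) F322879 (iv6 D49695) (iv1 F77795)
theorem F445372 : act 2 n189551 = n207543 := d15_3 (iv0 D207543) (iv0 F372209) (iv7 F376865)
theorem F445373 : act 1 n132142 = n207543 := d15_0 (iv0 D207543) (iv7 F392336) F392335
theorem F445374 : act 7 n207543 = n131985 := d15_2 F372211 F445373 (iv2 F372207)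
theorem F445375 : act 3 n131993 = n207543 := d20_3 (iv4 F332825) (iv1 F164436) (iv4 F211483) (iv1 F445373) (iv3 D132142) (iv4 F341789) (iv1 F171498) F165963 (iv3 F343622) F328931
def n207544 : Q := act 2 n131954
theorem D207544 : act 2 n131954 = n207544 := rfl
theorem F445376 : act 3 n207544 = n196017 := d0_2 D131954 D207544 (iv2 F399083) F211229 F96519
theorem F445377 : act 4 n207544 = n187181 := d1_2 F238557 D207544 F369395
theorem F445378 : act 5 n207544 = n133391 := d2_2 (iv5 F211428) D207544 (iv2 D133391)
theorem F445379 : act 6 n207544 = n187180 := d3_2 F382502 D207544 F382503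
theorem F445380 : act 7 n207544 = n132150 := d4_2 (iv7 F211429) D207544 (iv2 F343681)
theorem F445381 : act 1 n207544 = n132995 := d15_0 (iv0 F361707) (iv7 F211429) D207544
theorem F445382 : act 1 n196253 = n207544 := d15_0 F445381 F213649 (iv2 F400068)
def n207545 : Q := act 0 n131955
theorem D207545 : act 0 n131955 = n207545 := rfl
theorem F445383 : act 4 n207545 = n195000 := d20_0 (iv1 F395351) F376732 (iv3 F324247) F324245 (iv3 F377355) (iv4 D189676) (iv1 F369390) (iv4 F382500) (iv3 F382501) D207545
theorem F445384 : act 2 n207471 = n207545 := d1_3 F445383 (iv2 F398815) (iv4 F445081)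
theorem F445385 : act 7 n207472 = n207545 := d11_0 F445383 (iv7 F398816) (iv4 F445082)
theorem F445386 : act 1 n207473 = n207545 := d18_6 D113014 (iv4 F409403) (iv1 F409404) F215067 (iv5 F215071) (iv4 F445084) F445383 (iv0 D195000) F348091
theorem F445387 : act 0 n189500 = n189366 := d20_1 (iv4 F376722) F376480 F376262 (iv1 D151686) (iv3 F163717) (iv4 F211431) D207545 F445383 (iv3 F399008) (iv1 D189502)
def n207546 : Q := act 1 n131955
theorem D207546 : act 1 n131955 = n207546 := rfl
theorem F445388 : act 1 n207546 = n207473 := d15_1 D207546 (iv7 D207473) (iv2 F211430)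
theorem F445389 : act 7 n207546 = n207471 := d15_2 (iv0 D207545) D207546 F445384
theorem F445390 : act 4 n207546 = n195001 := d18_7 (iv1 F176046) F409411 (iv1 D198822) F170572 (iv5 F163718) (iv4 F211431) D207546 F395352 F376733
theorem F445391 : act 6 n205248 = n207546 := d21_3 (iv5 D125635) D125633 D205248 (iv1 D207546) (iv6 D131955) F96517 F47529 D49246 D106574 F356965
theorem F445392 : act 2 n207472 = n207546 := d1_3 F445390 F398810 (iv4 F445082)
def n207547 : Q := act 5 n131955
theorem D207547 : act 5 n131955 = n207547 := rfl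
theorem F445393 : act 2 n207547 = n205529 := d2_1 D207547 F436855 (iv2 F211430)
theorem F445394 : act 3 n207547 = n160997 := d6_1 D207547 (iv5 F382499) (iv3 F382501)
theorem F445395 : act 6 n207547 = n133388 := d12_2 D131955 D207547 (iv5 D133388) F97623 (iv5 F96517)
theorem F445396 : act 4 n207547 = n194878 := d18_5 D185723 F398819 (iv1 D195947) (iv4 F211431) D207547 (iv0 F394844) F176642 (iv0 F358155) (iv5 F135433)
theorem F445397 : act 0 n195697 = n207547 := d21_7 (iv5 D29333) (iv1 F37708) (iv5 F38885) D51069 (iv1 F177656) (iv6 F379830) F397884 (iv5 D207547) (iv6 D131955) (iv1 D61913)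
def n207548 : Q := act 7 n131955
theorem D207548 : act 7 n131955 = n207548 := rfl
theorem F445398 : act 2 n207548 = n207473 := d4_1 D207548 (iv7 D207473) (iv2 F211430)
theorem F445399 : act 3 n207548 = n132145 := d8_1 D207548 (iv7 F382498) (iv3 F382501)
theorem F445400 : act 4 n207548 = n189672 := d11_1 D207548 F377332 (iv4 F211431)
theorem F445401 : act 6 n207548 = n132142 := d14_1 D207548 F343677 (iv6 D131826) (iv7 F96516) D131955
theorem F445402 : act 1 n207472 = n207548 := d15_1 D207472 (iv7 D207548) F211430
theorem F445403 : act 1 n207548 = n207471 := d15_1 F445402 (iv7 F445389) (iv2 F445392)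
def n207549 : Q := act 6 n131956
theorem D207549 : act 6 n131956 = n207549 := rfl
theorem F445404 : act 3 n207549 = n191242 := d7_1 D207549 F382725 (iv3 F398937)
theorem F445405 : act 4 n207549 = n196138 := d10_1 D207549 (iv6 D196138) (iv4 F398938)
theorem F445406 : act 5 n207549 = n207511 := d21_6 (iv5 D24093) (iv1 F23239) D29333 D61914 D131956 D207549 (iv1 D207511) (iv5 D131895) (iv6 D61888) F46976
theorem F445407 : act 0 n205251 = n207549 := d17_0 F445406 (iv1 D207511) (iv5 D131895) F96472 F77748 F290558 D114235 (iv0 F397788) (iv4 F435609)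
theorem F445408 : act 0 n207549 = n205248 := d20_7 (iv4 F318220) F318217 (iv4 F104584) (iv3 F226879) (iv1 F425212) (iv3 F425213) (iv4 F445405) F435599 F419767 F227883
def n207550 : Q := act 4 n131958
theorem D207550 : act 4 n131958 = n207550 := rfl
theorem F445409 : act 2 n207550 = n196254 := d1_1 D207550 F400074 F399215
theorem F445410 : act 3 n207550 = n134261 := d5_1 D207550 (iv4 F445234) (iv3 D207514) D207515 F445241
theorem F445411 : act 6 n207550 = n131966 := d10_2 (iv6 F211432) D207550 (iv4 D131966)
theorem F445412 : act 7 n207550 = n196255 := d11_2 F399334 D207550 (iv4 F400078)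
theorem F445413 : act 1 n207550 = n195277 := d18_6 (iv1 F165954) (iv4 F364642) (iv1 D106512) (iv4 F96520) D131958 D207550 F396558 F213173 D106844
theorem F445414 : act 0 n207550 = n132986 := d20_1 D207550 F213628 (iv3 D62404) (iv1 F97276) F208647 (iv4 F208646) F395839 (iv4 F417361) F417360 F396126
def n207551 : Q := act 5 n131960
theorem D207551 : act 5 n131960 = n207551 := rfl
theorem F445415 : act 3 n207551 = n131961 := d6_1 D207551 (iv5 D131961) D131960
theorem F445416 : act 6 n207551 = n200650 := d12_2 (iv6 F211434) D207551 (iv5 F417356) F441396 (iv5 D206575)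
theorem F445417 : act 4 n200646 = n207551 := d10_3 F445416 (iv4 D200650) (iv6 F417346)
def n207552 : Q := act 0 n131961
theorem D207552 : act 0 n131961 = n207552 := rfl
theorem F445418 : act 5 n207552 = n132275 := d17_3 D61915 D131961 D207552 (iv4 D132275) (iv5 F201802) (iv0 F201805) (iv5 D61922) (iv0 D29335) (iv4 F46996)
theorem F445419 : act 1 n131963 = n207552 := d15_0 (iv0 D207552) (iv7 F399244) F399243
theorem F445420 : act 2 n206489 = n207552 := d2_3 F445418 F211978 D206489
theorem F445421 : act 3 n200836 = n207552 := d6_3 F445418 (iv3 F417843) F418110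
theorem F445422 : act 7 n206487 = n207552 := d13_0 F445418 F211980 D206487
def n207553 : Q := act 1 n131961
theorem D207553 : act 1 n131961 = n207553 := rfl
theorem F445423 : act 1 n207553 = n131963 := d15_1 D207553 (iv7 F399237) F399234
theorem F445424 : act 7 n207553 = n206489 := d15_2 (iv0 D207552) D207553 F445420
theorem F445425 : act 5 n207553 = n132273 := d17_7 D106968 F164878 F164880 (iv5 D106822) (iv4 F165525) D131961 D207553 F211971 (iv4 D106970)
theorem F445426 : act 6 n186716 = n207553 := d21_3 (iv5 F440867) (iv1 F440869) F367789 (iv1 D207553) F396117 F396115 (iv1 F396416) (iv5 F419177) F419180 (iv1 F417210)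
theorem F445427 : act 3 n207553 = n186717 := d7_1 F445426 (iv6 D186717) D186716
theorem F445428 : act 2 n206487 = n207553 := d0_5 F445427 F367777 (iv3 F383977) F439173 (iv3 F441048)
def n207554 : Q := act 4 n131961
theorem D207554 : act 4 n131961 = n207554 := rfl
theorem F445429 : act 3 n207554 = n200658 := d5_1 D207554 (iv4 D200658) (iv3 F417345) F445417 F445415
theorem F445430 : act 6 n207554 = n200667 := d10_2 (iv6 F396117) D207554 F417402
def n207555 : Q := act 4 n131962
theorem D207555 : act 4 n131962 = n207555 := rfl
theorem F445431 : act 3 n207555 = n132529 := d5_1 D207555 (iv4 F212719) F168151 (iv4 F104284) D131962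
theorem F445432 : act 6 n207555 = n195709 := d10_2 F365421 D207555 (iv4 F397911)
theorem F445433 : act 7 n207555 = n132557 := d11_2 F399229 D207555 (iv4 F399228)
theorem F445434 : act 5 n207555 = n201620 := d16_1 D207555 F421162 F251103 F161725 (iv5 F163170) (iv4 F396428) (iv5 F400082) (iv7 F421355) F421354
theorem F445435 : act 0 n207555 = n136333 := d17_0 F360965 (iv1 F251158) (iv5 F398201) (iv4 D195793) (iv5 D106265) F177630 (iv5 F365928) (iv0 F364239) D207555
theorem F445436 : act 1 n207555 = n201727 := d18_6 F179038 (iv4 D106186) (iv1 F163171) (iv4 F396434) (iv5 F396437) D207555 F421579 F396101 (iv5 F384035)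
def n207556 : Q := act 4 n131963
theorem D207556 : act 4 n131963 = n207556 := rfl
def n207557 : Q := act 1 n131966
theorem D207557 : act 1 n131966 = n207557 := rfl
theorem F445437 : act 4 n207557 = n132032 := d18_7 (iv1 F164227) (iv4 D61925) (iv1 D29336) (iv4 F46996) D61917 D131966 D207557 F399295 F399293
theorem F445438 : act 5 n205104 = n207557 := d16_1 D205104 F445437 F211525 F211343 F96482 D67709 D144490 F227333 (iv2 F201795)
theorem F445439 : act 3 n205792 = n207557 := d20_5 (iv4 D126619) (iv1 D59404) (iv4 F93747) (iv3 F203649) D205792 F445437 (iv1 D132032) D132033 F327164 F203679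
def n207558 : Q := act 3 n131966
theorem D207558 : act 3 n131966 = n207558 := rfl
theorem F445440 : act 6 n207558 = n134261 := d7_2 F445411 D207558 (iv3 F445410)
theorem F445441 : act 0 n207558 = n205807 := d20_4 F442730 (iv1 D131965) D131966 D207558 (iv3 D205807) (iv4 F203673) F102161 (iv4 F95444) (iv3 F207824) D206954
theorem F445442 : act 7 n205766 = n207558 := d14_0 F445440 F396474 F396471 (iv7 F437757) D205766
theorem F445443 : act 1 n205653 = n205807 := d15_0 (iv0 F445441) (iv7 F445442) F437782
def n207559 : Q := act 5 n131966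
theorem D207559 : act 5 n131966 = n207559 := rfl
theorem F445444 : act 4 n207559 = n196913 := d16_2 D131966 D207559 F402263 F165761 F78392 (iv4 F164157) (iv5 F399251) (iv7 D196060) F164155
theorem F445445 : act 7 n207559 = n196912 := d16_8 (iv4 D145309) (iv5 D68124) F50024 F24580 (iv4 F46996) D61917 D131966 D207559 F402260
def n207560 : Q := act 7 n131966
theorem D207560 : act 7 n131966 = n207560 := rfl
theorem F445446 : act 3 n207560 = n205766 := d8_1 D207560 F445442 (iv3 D207558)
theorem F445447 : act 4 n207560 = n131967 := d11_1 D207560 (iv7 D131967) D131966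
theorem F445448 : act 5 n207560 = n196912 := d13_1 D207560 (iv7 F445445) (iv5 D207559)
theorem F445449 : act 6 n207560 = n205763 := d14_1 D207560 F437767 F437353 (iv7 F445412) F445411
theorem F445450 : act 0 n205766 = n205697 := d20_4 F397654 F362922 (iv4 F445447) F445446 (iv3 D205697) F203453 F102163 (iv4 F96946) (iv3 F327164) F397655
def n207561 : Q := act 5 n131968
theorem D207561 : act 5 n131968 = n207561 := rfl
theorem F445451 : act 3 n207561 = n131969 := d6_1 D207561 (iv5 D131969) D131968
theorem F445452 : act 4 n207561 = n206814 := d9_1 D207561 F442283 F306365 F320006 (iv4 F260877) (iv5 F436963) F436962 D205552 (iv4 F442107) F442108 F306363 (iv5 F354002) (iv4 F418489) F418488 (iv4 F211442)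
theorem F445453 : act 0 n207561 = n195677 := d21_1 D207561 (iv5 F419203) F436920 (iv1 F436918) F348755 F348756 (iv1 F382568) (iv5 F382571) D196076 F399333
def n207562 : Q := act 0 n131969
theorem D207562 : act 0 n131969 = n207562 := rfl
theorem F445454 : act 5 n207562 = n132270 := d17_3 (iv1 F103752) D131969 D207562 F211953 (iv5 F209500) (iv0 F165328) (iv5 D106770) (iv0 D49336) (iv4 F47001)
theorem F445455 : act 6 n207562 = n190731 := d21_5 F396437 (iv1 D195242) D195244 F396442 D207562 (iv5 F380844) (iv1 D180337) F295378 (iv6 F347557) F347558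
theorem F445456 : act 2 n206484 = n207562 := d15_3 (iv0 D207562) F445148 F445146
theorem F445457 : act 1 n131972 = n207562 := d15_0 (iv0 D207562) (iv7 F399255) F399254
theorem F445458 : act 7 n207562 = n206483 := d15_2 (iv0 F445147) F445457 (iv2 F445143)
def n207563 : Q := act 4 n131969
theorem D207563 : act 4 n131969 = n207563 := rfl
theorem F445459 : act 2 n207563 = n207008 := d1_1 D207563 (iv4 D207008) (iv2 F211444)
theorem F445460 : act 6 n207563 = n201740 := d10_2 F396442 D207563 F421635
def n207564 : Q := act 3 n131970
theorem D207564 : act 3 n131970 = n207564 := rfl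
theorem F445461 : act 4 n207564 = n188392 := d5_2 D131970 D207564 (iv3 F415739) (iv4 D128865) (iv3 F168129)
theorem F445462 : act 5 n207564 = n190204 := d6_2 F228384 D207564 (iv3 F401259)
theorem F445463 : act 6 n207564 = n205315 := d7_2 (iv6 F211446) D207564 (iv3 D205315)
theorem F445464 : act 7 n207564 = n196854 := d8_2 (iv7 F211447) D207564 F402045
theorem F445465 : act 0 n199164 = n207564 := d21_4 (iv5 D154760) (iv1 F252893) (iv5 F363393) D199164 F445463 F435908 F402485 (iv5 D196970) D196971 (iv1 F402489)
theorem F445466 : act 1 n194621 = n207564 := d15_0 (iv0 F445465) F410963 (iv2 F393853)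
theorem F445467 : act 0 n198476 = n195295 := d20_1 D198476 F396612 (iv3 F410923) (iv1 F410929) F415739 (iv4 F445461) (iv1 F445466) F393854 (iv3 F393846) (iv1 F393849)
theorem F445468 : act 0 n196974 = n193235 := d21_1 D196974 (iv5 F435908) (iv6 F445463) (iv1 F445466) (iv6 D194621) F293231 (iv1 F140342) F292871 D103820 (iv1 F359489)
theorem F445469 : act 4 n194732 = n196974 := d17_9 F445468 (iv5 F435908) F435910 F401749 (iv4 F406420) (iv5 F406421) (iv0 D184337) (iv5 F159846) D194732
theorem F445470 : act 1 n198476 = n195402 := d15_1 (iv0 F445467) (iv7 D195402) (iv2 F396611)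
def n207565 : Q := act 1 n131971
theorem D207565 : act 1 n131971 = n207565 := rfl
theorem F445471 : act 1 n207565 = n132084 := d15_1 D207565 (iv7 F436953) F436950
theorem F445472 : act 7 n207565 = n132067 := d15_2 (iv0 F354356) D207565 F211554
theorem F445473 : act 5 n207565 = n206548 := d17_7 D138065 (iv5 F354901) F377736 (iv5 F353763) (iv4 F358614) F359031 D207565 (iv0 F441282) F221307
theorem F445474 : act 3 n206551 = n207565 := d20_3 (iv4 F152106) D191701 (iv4 F441293) (iv1 D207565) (iv3 D131971) (iv4 D61925) (iv1 D29336) (iv4 F46996) (iv3 F96508) (iv1 F362886)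
theorem F445475 : act 4 n134533 = n207565 := d20_6 F23381 D14246 (iv4 F48982) D60947 (iv1 F337691) (iv3 F216515) (iv1 D207565) F211450 (iv3 D62247) F49205
theorem F445476 : act 2 n207565 = n132087 := d1_1 F445475 F354361 F346114
theorem F445477 : act 6 n207565 = n132102 := d10_2 F438919 F445475 (iv4 F438917)
def n207566 : Q := act 4 n131972
theorem D207566 : act 4 n131972 = n207566 := rfl
theorem F445478 : act 7 n207566 = n207008 := d11_2 (iv7 F211452) D207566 (iv4 D207008)
def n207567 : Q := act 6 n131972
theorem D207567 : act 6 n131972 = n207567 := rfl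
theorem F445479 : act 5 n207567 = n194803 := d12_1 D207567 (iv6 F414099) F414098 (iv6 D131973) D131972
theorem F445480 : act 0 n207567 = n206529 := d21_4 F399293 (iv1 F164227) D131972 D207567 (iv6 D206529) (iv5 F342904) F362951 (iv5 F439131) F439132 (iv1 F399296)
def n207568 : Q := act 1 n131981
theorem D207568 : act 1 n131981 = n207568 := rfl
theorem F445481 : act 1 n207568 = n131989 := d15_1 D207568 (iv7 D131989) (iv2 F211469)
theorem F445482 : act 7 n207568 = n131986 := d15_2 (iv0 F365771) D207568 F395779
theorem F445483 : act 6 n200661 = n207568 := d21_3 (iv5 F417062) (iv1 F417063) D200661 (iv1 D207568) (iv6 D131981) D131980 (iv1 F211473) (iv5 D131881) (iv6 F362293) (iv1 F204754)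
theorem F445484 : act 2 n207568 = n131987 := d3_1 F445483 F391729 (iv2 F417386)
theorem F445485 : act 3 n207568 = n200663 := d7_1 F445483 (iv6 D200663) (iv3 F417387)
theorem F445486 : act 4 n207568 = n200369 := d10_1 F445483 F416165 (iv4 F417389)
def n207569 : Q := act 3 n131983
theorem D207569 : act 3 n131983 = n207569 := rfl
theorem F445487 : act 2 n207569 = n132943 := d0_1 D207569 (iv3 F361705) (iv2 F177801) (iv3 F358219) F327333
theorem F445488 : act 5 n207569 = n195070 := d6_2 F325764 D207569 F395656
theorem F445489 : act 6 n207569 = n195073 := d7_2 F333546 D207569 F395662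
theorem F445490 : act 7 n207569 = n132944 := d8_2 (iv7 F211474) D207569 (iv3 F213569)
theorem F445491 : act 0 n207569 = n132947 := d20_4 F417751 F398928 F398926 D207569 F347527 (iv4 F141184) D188447 (iv4 F373548) (iv3 F436877) (iv1 F436879)
theorem F445492 : act 4 n191233 = n207569 := d19_2 (iv1 F380618) (iv5 F382676) (iv3 D207569) (iv1 D131983) (iv5 D61934) (iv4 F48419) (iv3 D30123) (iv1 D14299) D14301 D30131 D63877 (iv1 F99346) (iv5 F217904) (iv4 F395784) (iv3 F395787) D197012 (iv5 F435216) (iv4 F440631) F440630
theorem F445493 : act 1 n207569 = n132908 := d18_6 D190699 F380652 F358080 (iv4 F380615) (iv5 F382676) F445492 (iv4 F370124) (iv0 D187389) F291969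
def n207570 : Q := act 0 n132001
theorem D207570 : act 0 n132001 = n207570 := rfl
theorem F445494 : act 2 n132102 = n207570 := d15_3 (iv0 D207570) F340133 D132102
theorem F445495 : act 1 n132100 = n207570 := d15_0 (iv0 D207570) F211499 F359049
theorem F445496 : act 7 n207570 = n132088 := d15_2 D132100 F445495 F211625
theorem F445497 : act 6 n132087 = n207570 := d14_5 F445496 (iv6 D132088) (iv7 D61975) D61974 D132087
def n207571 : Q := act 2 n132001
theorem D207571 : act 2 n132001 = n207571 := rfl
theorem F445498 : act 3 n207571 = n205350 := d0_2 D132001 D207571 F436027 F202337 (iv2 F327444)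
theorem F445499 : act 4 n207571 = n132741 := d1_2 (iv4 F211498) D207571 (iv2 D132741)
theorem F445500 : act 5 n207571 = n165724 := d2_2 F341942 D207571 (iv2 F341937)
theorem F445501 : act 7 n207571 = n132100 := d4_2 (iv7 F211499) D207571 (iv2 F359049)
theorem F445502 : act 1 n207571 = n132088 := d15_0 F358979 (iv7 F211499) D207571
theorem F445503 : act 1 n132102 = n207571 := d15_0 F445502 (iv7 F445496) (iv2 F445494)
def n207572 : Q := act 6 n132008
theorem D207572 : act 6 n132008 = n207572 := rfl
theorem F445504 : act 4 n207572 = n132010 := d10_1 D207572 (iv6 D132010) D132008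
theorem F445505 : act 7 n207572 = n206582 := d14_2 F399304 D207572 (iv6 D206582) (iv7 F440837) F440836
def n207573 : Q := act 4 n132012
theorem D207573 : act 4 n132012 = n207573 := rfl
theorem F445506 : act 2 n207573 = n196255 := d1_1 D207573 (iv4 F400078) F399337
theorem F445507 : act 3 n207573 = n205733 := d5_1 D207573 (iv4 D205733) (iv3 F211510) (iv4 D132013) D132012
theorem F445508 : act 6 n207573 = n205778 := d10_2 F396539 D207573 F437838
theorem F445509 : act 7 n207573 = n196254 := d11_2 (iv7 F399218) D207573 F400074
theorem F445510 : act 1 n207573 = n132986 := d18_6 D107562 (iv4 F364645) (iv1 F164446) (iv4 F399223) F399224 D207573 F213628 (iv0 F97291) (iv5 F78521)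
theorem F445511 : act 0 n207573 = n195277 := d20_1 D207573 F396558 (iv3 F213558) (iv1 F217215) (iv3 F440884) F440883 F435627 F399349 F330448 (iv1 F399220)
def n207574 : Q := act 4 n132022
theorem D207574 : act 4 n132022 = n207574 := rfl
theorem F445512 : act 2 n207574 = n206670 := d1_1 D207574 F441818 (iv2 F400007)
theorem F445513 : act 7 n207574 = n206669 := d11_2 F400010 D207574 F441814
theorem F445514 : act 0 n207574 = n206472 := d18_2 D132022 D207574 (iv4 D206472) (iv5 D128651) F95110 F47018 D62000 F103575 F325499
theorem F445515 : act 1 n207574 = n132159 := d18_6 F400020 F211272 F96588 D132163 (iv5 F362882) D207574 (iv4 D132159) D132158 (iv5 F400019)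
def n207575 : Q := act 4 n132023
theorem D207575 : act 4 n132023 = n207575 := rfl
theorem F445516 : act 2 n207575 = n206669 := d1_1 D207575 F441814 (iv2 F400012)
theorem F445517 : act 7 n207575 = n206670 := d11_2 (iv7 F400008) D207575 F441818
theorem F445518 : act 0 n207575 = n132159 := d18_2 (iv1 F366019) D207575 (iv4 D132159) (iv5 D61997) F47016 D29361 D62004 F102067 D128825
theorem F445519 : act 1 n207575 = n206472 := d18_6 (iv1 F417222) F417219 F176764 D132169 F366018 D207575 (iv4 D206472) F211678 (iv5 F400016)
def n207576 : Q := act 3 n132032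
theorem D207576 : act 3 n132032 = n207576 := rfl
theorem F445520 : act 2 n207576 = n207120 := d0_1 D207576 (iv3 D207120) F359268 F399284 (iv2 F399285)
theorem F445521 : act 5 n207576 = n207513 := d6_2 (iv5 F211525) D207576 F445226
theorem F445522 : act 6 n207576 = n205060 := d7_2 F436282 D207576 F436338
theorem F445523 : act 0 n206548 = n207576 := d21_4 (iv5 F359799) F441133 F441130 D206548 F445522 (iv5 F436337) F436281 (iv5 F437145) (iv6 F437146) (iv1 D189903)
theorem F445524 : act 1 n132086 = n207576 := d15_0 (iv0 F445523) (iv7 F445305) F445301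
def n207577 : Q := act 1 n132033
theorem D207577 : act 1 n132033 = n207577 := rfl
theorem F445525 : act 1 n207577 = n135848 := d15_1 D207577 F399289 F399286
theorem F445526 : act 7 n207577 = n206500 := d15_2 (iv0 F397655) D207577 F441100
theorem F445527 : act 4 n207577 = n196058 := d18_7 (iv1 F164152) F165530 (iv1 D49337) (iv4 F47001) D61957 D132033 D207577 F399245 F211441
theorem F445528 : act 2 n206954 = n207577 := d1_3 F445527 (iv2 F399248) (iv4 F442730)
theorem F445529 : act 5 n196424 = n207577 := d16_1 D196424 F445527 F399247 F206990 F163729 (iv4 F165755) D196910 F402253 F228334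
def n207578 : Q := act 5 n132033
theorem D207578 : act 5 n132033 = n207578 := rfl
theorem F445530 : act 3 n207578 = n132539 := d6_1 D207578 (iv5 D132539) (iv3 F327164)
theorem F445531 : act 4 n207578 = n196426 := d9_1 D207578 (iv5 D196426) (iv4 D106967) F78361 (iv4 F164225) (iv5 F399293) F399292 F364319 (iv4 D145342) (iv5 D68143) F50032 F39772 (iv4 F47001) D61957 D132033
theorem F445532 : act 7 n207578 = n196560 := d13_2 (iv7 F327166) D207578 F401086
def n207579 : Q := act 3 n132037
theorem D207579 : act 3 n132037 = n207579 := rfl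
theorem F445533 : act 2 n207579 = n135063 := d0_1 D207579 (iv3 D135063) (iv2 F363964) F363961 (iv2 F363959)
theorem F445534 : act 4 n207579 = n132757 := d5_2 D132037 D207579 F213206 (iv4 F211528) (iv3 D132036)
theorem F445535 : act 6 n207579 = n194781 := d7_2 F339691 D207579 F394452
theorem F445536 : act 7 n207579 = n201145 := d8_2 F363972 D207579 F419258
theorem F445537 : act 0 n207579 = n134790 := d19_4 (iv1 F359038) (iv5 D132038) D132037 D207579 (iv5 F432847) (iv4 D204553) F358060 (iv1 F314235) (iv5 D123518) (iv4 F312999) F166708 F78780 (iv5 D29202) F26985 F37533 (iv1 D24005) D24007 (iv4 F47014) D61990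
theorem F445538 : act 0 n133209 = n207579 := d20_4 (iv4 F207826) F208386 D205720 F437559 (iv3 D207579) (iv4 D132037) (iv1 F164214) F164212 (iv3 F216853) (iv1 F216857)
theorem F445539 : act 5 n207579 = n204526 := d19_1 F445538 (iv4 F434254) F434255 (iv1 F387355) (iv5 F366728) (iv4 D173447) F313372 D132961 (iv5 F347338) F347337 D204924 F434202 (iv5 F380821) F380822 F380823 (iv1 D126554) D126556 D205720 F437559
def n207580 : Q := act 5 n132037
theorem D207580 : act 5 n132037 = n207580 := rfl
theorem F445540 : act 3 n207580 = n204526 := d6_1 D207580 (iv5 F445539) (iv3 D207579)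
theorem F445541 : act 1 n207580 = n135146 := d17_6 (iv1 D106474) (iv5 F96581) (iv1 F359038) (iv5 D132038) D132037 D207580 (iv5 F442151) F442154 (iv4 D195953)
def n207581 : Q := act 5 n132042
theorem D207581 : act 5 n132042 = n207581 := rfl
theorem F445542 : act 3 n207581 = n135060 := d6_1 D207581 (iv5 D135060) F211530
theorem F445543 : act 4 n207581 = n187512 := d16_2 D132042 D207581 (iv5 F376145) F379212 F416334 F416332 (iv5 D132038) (iv7 F218394) F218393
theorem F445544 : act 6 n207581 = n185514 := d21_9 F373591 F329952 (iv5 F284725) (iv6 D183107) (iv1 F283433) (iv6 F377014) F377013 (iv1 F363955) D207581 (iv1 F373594)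
def n207582 : Q := act 1 n132044
theorem D207582 : act 1 n132044 = n207582 := rfl
theorem F445545 : act 1 n207582 = n195182 := d15_1 D207582 F396137 F365925
theorem F445546 : act 7 n207582 = n200603 := d15_2 F362096 D207582 F417155
theorem F445547 : act 4 n207582 = n154409 := d17_9 F412732 F412730 (iv1 F358618) F310362 D189785 F394695 (iv0 D132948) (iv5 F347515) D207582
theorem F445548 : act 6 n182519 = n207582 := d21_3 F435339 F436220 F436218 (iv1 D207582) (iv6 D132044) D132043 F359036 F96581 D106476 D195956
theorem F445549 : act 2 n207582 = n132154 := d3_1 F445548 (iv6 F436231) F436225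
theorem F445550 : act 3 n206584 = n207582 := d0_0 F445549 (iv3 D132154) (iv2 F102155) D129083 F441434
def n207583 : Q := act 6 n132047
theorem D207583 : act 6 n132047 = n207583 := rfl
theorem F445551 : act 2 n207583 = n205241 := d3_1 D207583 F435573 (iv2 F373553)
theorem F445552 : act 3 n207583 = n206650 := d7_1 D207583 (iv6 F441740) F436877
theorem F445553 : act 4 n207583 = n194767 := d10_1 D207583 F394380 (iv4 F373548)
theorem F445554 : act 7 n207583 = n205242 := d14_2 F373563 D207583 F436874 (iv7 D205533) F373570
theorem F445555 : act 0 n207583 = n205244 := d21_4 F164267 D106658 (iv5 F360832) D207583 (iv6 F435581) (iv5 D163458) (iv1 D78552) D78554 D163465 F349639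
def n207584 : Q := act 0 n132049
theorem D207584 : act 0 n132049 = n207584 := rfl
theorem F445556 : act 4 n207584 = n188452 := d18_3 (iv1 D132048) D132049 D207584 F373530 (iv4 D134898) (iv0 D63396) (iv4 F77880) D106659 (iv5 F349650)
theorem F445557 : act 3 n207584 = n200261 := d20_5 (iv4 F293656) F86647 D106486 (iv3 F211533) D207584 F415729 F415637 (iv4 F439005) F439004 F293657
theorem F445558 : act 1 n191221 = n207584 := d15_0 (iv0 D207584) (iv7 F377253) (iv2 F382633)
theorem F445559 : act 5 n200260 = n207584 := d21_0 (iv1 F445558) F382636 (iv6 F380315) (iv1 F380316) (iv6 F411198) (iv5 D199218) (iv1 F172275) F340514 D190504 (iv1 F416134)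
theorem F445560 : act 2 n207584 = n191219 := d2_1 F445559 F439760 F416131
theorem F445561 : act 7 n207584 = n191220 := d13_2 F416068 F445559 (iv5 F416067)
def n207585 : Q := act 1 n132049
theorem D207585 : act 1 n132049 = n207585 := rfl
theorem F445562 : act 1 n207585 = n191221 := d15_1 D207585 (iv7 D191221) (iv2 F360833)
theorem F445563 : act 7 n207585 = n191219 := d15_2 (iv0 D207584) D207585 (iv2 F445560)
theorem F445564 : act 4 n207585 = n188453 := d18_7 F211415 F211414 (iv1 D111436) F81135 D61962 D132049 D207585 F373533 (iv5 D132940)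
theorem F445565 : act 6 n158061 = n207585 := d21_3 (iv5 D176733) (iv1 F250131) F348777 (iv1 D207585) F360834 F133290 (iv1 F61370) D42066 D90006 F354478
theorem F445566 : act 5 n196167 = n207585 := d21_6 (iv5 D47874) F66341 (iv5 F70410) D96076 (iv1 F363520) D196167 (iv1 D207585) (iv5 F378562) (iv6 D190015) F147187
theorem F445567 : act 2 n207585 = n191220 := d2_1 F445566 (iv5 F416067) F416065
def n207586 : Q := act 6 n132071
theorem D207586 : act 6 n132071 = n207586 := rfl
theorem F445568 : act 3 n207586 = n132082 := d7_1 D207586 (iv6 D132082) (iv3 F211555)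
theorem F445569 : act 4 n207586 = n200376 := d10_1 D207586 (iv6 F416192) F380320
theorem F445570 : act 0 n207586 = n198969 := d21_10 F437155 (iv1 D205597) F352535 (iv6 D97394) (iv1 D45479) (iv6 F71706) D97308 F356955 D132071 D207586
theorem F445571 : act 5 n206453 = n207586 := d21_2 (iv5 F358317) D206453 (iv6 D207586) (iv1 F382193) F382198 (iv5 D166634) F193291 D203883 (iv6 F430229) (iv1 F382604)
def n207587 : Q := act 0 n132072
theorem D207587 : act 0 n132072 = n207587 := rfl
theorem F445572 : act 3 n207587 = n184751 := d20_5 F439120 F439116 F211610 (iv3 F211556) D207587 F287227 (iv1 D181992) (iv4 F295106) F338592 F439122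
theorem F445573 : act 6 n207587 = n206605 := d21_5 F417721 F382199 (iv5 D132071) D132072 D207587 (iv5 F445170) (iv1 F445173) (iv5 F380124) (iv6 F443991) F443989
theorem F445574 : act 2 n200647 = n207587 := d15_3 (iv0 D207587) F354357 D200647
theorem F445575 : act 1 n188764 = n207587 := d15_0 (iv0 D207587) F354359 (iv2 F374772)
theorem F445576 : act 7 n207587 = n200634 := d15_2 F374774 F445575 F417300
def n207588 : Q := act 5 n132072
theorem D207588 : act 5 n132072 = n207588 := rfl
theorem F445577 : act 3 n207588 = n132086 := d6_1 D207588 (iv5 D132086) (iv3 F211556)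
theorem F445578 : act 6 n207588 = n206453 := d12_2 D132072 D207588 F445571 (iv6 D207586) (iv5 D132071)
theorem F445579 : act 0 n207588 = n205581 := d17_2 (iv1 F354357) D207588 F437091 (iv4 F439347) (iv5 F439351) (iv0 F288045) F399959 (iv0 F422106) F391665
def n207589 : Q := act 0 n132077
theorem D207589 : act 0 n132077 = n207589 := rfl
theorem F445580 : act 5 n207589 = n186839 := d17_3 (iv1 F206354) F336894 D207589 F368207 F136964 (iv0 F355063) (iv5 D153827) F109247 (iv4 F109619)
theorem F445581 : act 4 n207589 = n206077 := d18_1 D207589 (iv1 F439152) F213575 (iv5 F213607) (iv4 F354974) (iv0 D72763) (iv4 F94833) D128222 F336894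
theorem F445582 : act 3 n207589 = n206999 := d20_5 (iv4 F323375) (iv1 F63677) (iv4 F327293) (iv3 F321346) D207589 F442917 (iv1 F391691) F391687 (iv3 D102576) (iv1 F321691)
theorem F445583 : act 6 n207589 = n206613 := d21_5 F318038 (iv1 D84170) (iv5 F319330) D132077 D207589 F441576 F429966 (iv5 F438845) F438846 F212532
theorem F445584 : act 2 n134530 = n207589 := d15_3 (iv0 D207589) (iv0 F439116) (iv7 F394692)
theorem F445585 : act 1 n134533 = n207589 := d15_0 (iv0 D207589) (iv7 F346105) F346114
theorem F445586 : act 7 n207589 = n134531 := d15_2 F439117 F445585 (iv2 F394696)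
def n207590 : Q := act 6 n132078
theorem D207590 : act 6 n132078 = n207590 := rfl
theorem F445587 : act 2 n207590 = n132096 := d3_1 D207590 (iv6 D132096) (iv2 F211611)
theorem F445588 : act 3 n207590 = n134585 := d7_1 D207590 (iv6 D134585) (iv3 F211612)
theorem F445589 : act 4 n207590 = n132088 := d10_1 D207590 (iv6 D132088) (iv4 F211613)
theorem F445590 : act 5 n207590 = n165948 := d12_1 D207590 (iv6 F334348) F303730 F129197 (iv5 F317498)
theorem F445591 : act 0 n132716 = n207590 := d21_4 (iv5 D204856) (iv1 F354282) (iv5 F354285) (iv6 F354292) (iv6 D207590) F317498 (iv1 F317945) F216510 (iv6 F348871) (iv1 F433873)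
def n207591 : Q := act 5 n132081
theorem D207591 : act 5 n132081 = n207591 := rfl
theorem F445592 : act 2 n207591 = n176714 := d2_1 D207591 (iv5 F382668) (iv2 F382670)
theorem F445593 : act 3 n207591 = n206528 := d6_1 D207591 (iv5 F441198) F440580
theorem F445594 : act 4 n207591 = n133069 := d9_1 D207591 F334267 F334271 (iv5 D132095) (iv4 D61977) D61978 D132097 (iv5 F334274) F193207 (iv5 F322747) F299931 (iv5 F319330) (iv4 D61972) D61973 D132081
theorem F445595 : act 6 n207591 = n176712 := d12_2 (iv6 F440576) D207591 (iv5 F384252) F384253 (iv5 F440574)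
theorem F445596 : act 7 n207591 = n203867 := d13_2 F382673 D207591 F430176
theorem F445597 : act 1 n207591 = n174265 := d17_6 (iv1 D61984) (iv5 D29354) D29351 D61973 D132081 D207591 F273059 F380613 (iv4 D132111)
theorem F445598 : act 0 n207591 = n203870 := d18_0 F445012 F445009 (iv4 F444947) F444946 (iv4 F370134) (iv0 F445491) (iv4 F445492) F382679 D207591
def n207592 : Q := act 0 n132082
theorem D207592 : act 0 n132082 = n207592 := rfl
theorem F445599 : act 3 n207592 = n206760 := d20_5 D196016 (iv1 F416193) (iv4 F445569) F445568 D207592 F442083 (iv1 F382306) (iv4 D132103) (iv3 F164256) (iv1 F164258)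
theorem F445600 : act 5 n207592 = n206759 := d21_0 F442081 F373535 F373537 (iv1 D132119) (iv6 D61986) (iv5 D29354) D29351 D61973 D132082 D207592
theorem F445601 : act 2 n196264 = n207592 := d15_3 (iv0 D207592) (iv0 F444545) F402818
theorem F445602 : act 0 n207581 = n135146 := d17_2 (iv1 F363955) D207581 (iv5 F442151) F442150 (iv5 F445600) (iv0 D207592) F359028 F217215 (iv4 F362904)
def n207593 : Q := act 7 n132082
theorem D207593 : act 7 n132082 = n207593 := rfl
theorem F445603 : act 4 n207593 = n206409 := d11_1 D207593 F440655 F440575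
theorem F445604 : act 5 n207593 = n132938 := d13_1 D207593 (iv7 F355031) (iv5 F359028)
theorem F445605 : act 6 n200741 = n207593 := d12_0 F445604 (iv6 F354706) D207106 F443354 (iv5 F417729)
theorem F445606 : act 0 n196264 = n207593 := d17_0 F445604 (iv1 D132938) D132940 (iv4 F373510) (iv5 F378473) F378476 D190477 (iv0 F382469) (iv4 F400104)
def n207594 : Q := act 6 n132083
theorem D207594 : act 6 n132083 = n207594 := rfl
theorem F445607 : act 2 n207594 = n132098 := d3_1 D207594 (iv6 D132098) (iv2 F211617)
theorem F445608 : act 3 n207594 = n185727 := d7_1 D207594 (iv6 F422224) F422220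
theorem F445609 : act 5 n207594 = n166776 := d12_1 D207594 (iv6 F395551) F395547 (iv6 D132088) (iv5 F211618)
theorem F445610 : act 7 n207594 = n200741 := d14_2 D132083 D207594 F445605 (iv7 D207593) (iv6 D132082)
theorem F445611 : act 0 n207594 = n166634 := d21_4 F77996 (iv1 F211586) (iv5 F211618) D207594 (iv6 F382198) (iv5 F399453) (iv1 F443990) F443987 (iv6 F363608) (iv1 D106750)
theorem F445612 : act 0 n166642 = n207594 := d21_4 F382592 (iv1 F262176) F382533 F382531 (iv6 D207594) F211618 F211585 D61982 D132104 (iv1 F382594)
def n207595 : Q := act 7 n132086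
theorem D207595 : act 7 n132086 = n207595 := rfl
theorem F445613 : act 2 n207595 = n206548 := d4_1 D207595 (iv7 F445305) F445301
theorem F445614 : act 4 n207595 = n134222 := d11_1 D207595 (iv7 F355002) (iv4 F359030)
theorem F445615 : act 5 n207595 = n132087 := d13_1 D207595 (iv7 D132087) D132086
theorem F445616 : act 6 n207595 = n134220 := d14_1 D207595 F355042 F354706 (iv7 F355031) F359029
theorem F445617 : act 1 n207120 = n207595 := d15_1 (iv0 F445306) (iv7 D207595) (iv2 F445301)
def n207596 : Q := act 5 n132091
theorem D207596 : act 5 n132091 = n207596 := rfl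
theorem F445618 : act 2 n207596 = n132093 := d2_1 D207596 (iv5 D132093) D132091
theorem F445619 : act 0 n207596 = n196025 := d17_2 F445240 D207596 F399105 F383793 (iv5 F377954) (iv0 F383864) (iv5 D134339) F211378 D207515
def n207597 : Q := act 0 n132093
theorem D207597 : act 0 n132093 = n207597 := rfl
theorem F445620 : act 5 n207597 = n207458 := d17_3 F216344 D132093 D207597 (iv4 D207458) (iv5 F377958) (iv0 D134341) (iv5 D63112) D63110 (iv4 F211508)
theorem F445621 : act 4 n207597 = n189533 := d18_1 D207597 (iv1 F445320) (iv4 D207530) (iv5 D131942) (iv4 F211380) F211382 (iv4 F211626) (iv0 D132089) D132093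
theorem F445622 : act 3 n207597 = n189513 := d20_5 (iv4 F445492) (iv1 F382678) (iv4 D132097) (iv3 F211632) D207597 F376777 D189514 (iv4 F399076) (iv3 F213504) (iv1 F445493)
theorem F445623 : act 2 n196025 = n207597 := d15_3 (iv0 D207597) (iv0 F399878) F399877
theorem F445624 : act 6 n207597 = n189511 := d3_2 (iv6 F399106) F445623 (iv2 F382782)
def n207598 : Q := act 4 n132093
theorem D207598 : act 4 n132093 = n207598 := rfl
theorem F445625 : act 3 n207598 = n203876 := d5_1 D207598 (iv4 D203876) (iv3 F364578) (iv4 D132097) (iv3 F211632)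
theorem F445626 : act 0 n207598 = n207534 := d18_2 F399878 D207598 (iv4 D207534) (iv5 F362887) (iv4 F336391) (iv0 F156325) (iv4 F380020) F399499 (iv5 F399876)
theorem F445627 : act 1 n207598 = n207533 := d18_6 D61907 D131934 F211629 (iv4 D132092) D132093 D207598 (iv4 D207533) (iv0 D131944) (iv5 D61910)
def n207599 : Q := act 6 n132093
theorem D207599 : act 6 n132093 = n207599 := rfl
theorem F445628 : act 3 n207599 = n132098 := d7_1 D207599 (iv6 D132098) (iv3 F211632)
theorem F445629 : act 5 n207599 = n166778 := d12_1 D207599 F358984 (iv5 F358981) (iv6 D132094) D132093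
theorem F445630 : act 0 n196266 = n207599 := d21_4 F257751 (iv1 F327272) (iv5 F382778) (iv6 F400110) (iv6 D207599) (iv5 D132093) D132089 (iv5 F445347) F445348 F417917
def n207600 : Q := act 1 n132096
theorem D207600 : act 1 n132096 = n207600 := rfl
theorem F445631 : act 5 n207600 = n203826 := d17_7 (iv1 F260953) D190666 (iv1 F380495) F378165 (iv4 F373723) F373721 D207600 F429984 (iv4 F416731)
theorem F445632 : act 4 n207600 = n204878 := d17_9 F433990 F338319 D180343 (iv5 F380496) F380497 F366150 (iv0 F407806) F373721 D207600
theorem F445633 : act 3 n185797 = n207600 := d20_3 (iv4 F208661) (iv1 F366226) (iv4 F288116) (iv1 D207600) F211636 (iv4 F216533) F340134 (iv4 F219892) F336032 (iv1 F208642)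
theorem F445634 : act 6 n185796 = n207600 := d21_3 (iv5 D124561) D124558 F348861 (iv1 D207600) (iv6 D132096) D132095 F317955 (iv5 F318038) D132451 (iv1 F348877)
theorem F445635 : act 2 n207600 = n132716 := d3_1 F445634 F354292 (iv2 F337858)
def n207601 : Q := act 6 n132097
theorem D207601 : act 6 n132097 = n207601 := rfl
theorem F445636 : act 3 n207601 = n203873 := d7_1 D207601 F430184 (iv3 F364578)
theorem F445637 : act 4 n207601 = n132098 := d10_1 D207601 (iv6 D132098) D132097
theorem F445638 : act 5 n207601 = n203869 := d12_1 D207601 (iv6 D203869) (iv5 D121143) D121144 F334274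
def n207602 : Q := act 7 n132098
theorem D207602 : act 7 n132098 = n207602 := rfl
theorem F445639 : act 2 n207602 = n200741 := d4_1 D207602 (iv7 F445610) F445607
theorem F445640 : act 5 n207602 = n163816 := d13_1 D207602 F258257 (iv5 F358969)
theorem F445641 : act 1 n166642 = n207602 := d15_1 (iv0 F445612) (iv7 D207602) (iv2 F445607)
theorem F445642 : act 1 n207602 = n166634 := d15_1 F445641 F262254 (iv2 F262269)
def n207603 : Q := act 3 n132103
theorem D207603 : act 3 n132103 = n207603 := rfl
theorem F445643 : act 2 n207603 = n157231 := d0_1 D207603 F247448 F175881 F164514 (iv2 F211638)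
theorem F445644 : act 4 n207603 = n157229 := d5_2 D132103 D207603 (iv3 F382216) F382217 F164256
theorem F445645 : act 5 n207603 = n204985 := d6_2 (iv5 F211639) D207603 F434456
theorem F445646 : act 6 n207603 = n158900 := d7_2 F394780 D207603 (iv3 F394777)
theorem F445647 : act 0 n207603 = n179101 := d19_4 F211585 D61982 D132103 D207603 F395059 F395058 (iv3 F362309) F259406 F305098 (iv4 F135085) F305095 (iv1 F92498) (iv5 F155147) D145929 (iv3 F422215) (iv1 F422217) (iv5 D115209) D115208 F211587
def n207604 : Q := act 0 n132107
theorem D207604 : act 0 n132107 = n207604 := rfl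
theorem F445648 : act 5 n207604 = n203870 := d17_1 D207604 (iv1 D203870) F334274 (iv4 D132097) (iv5 D61978) F96565 (iv5 F164544) F164546 D132107
theorem F445649 : act 4 n207604 = n196084 := d18_1 D207604 (iv1 F442086) F442083 F382305 F352021 (iv0 F380604) F380601 (iv0 F363611) F363610
theorem F445650 : act 1 n132111 = n207604 := d15_0 (iv0 D207604) (iv7 F399825) F399823
theorem F445651 : act 6 n187381 = n207604 := d10_0 F445649 (iv6 D196084) F370082
def n207605 : Q := act 4 n132110
theorem D207605 : act 4 n132110 = n207605 := rfl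
theorem F445652 : act 0 n207605 = n207487 := d18_2 F445324 D207605 (iv4 D207487) F354693 D131939 (iv0 F211630) (iv4 D132092) (iv0 F216344) F445323
theorem F445653 : act 1 n207605 = n207484 := d18_6 D61859 D131830 F352507 (iv4 F445059) F445060 D207605 (iv4 D207484) (iv0 D131840) (iv5 D61862)
def n207606 : Q := act 6 n132110
theorem D207606 : act 6 n132110 = n207606 := rfl
theorem F445654 : act 3 n207606 = n132113 := d7_1 D207606 (iv6 D132113) D132110
def n207607 : Q := act 5 n132113
theorem D207607 : act 5 n132113 = n207607 := rfl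
def n207608 : Q := act 0 n132117
theorem D207608 : act 0 n132117 = n207608 := rfl
theorem F445655 : act 6 n207608 = n194762 := d21_5 D187423 F370273 (iv5 D132116) D132117 D207608 (iv5 D194762) (iv1 F381906) F381902 (iv6 F370137) (iv1 F370138)
theorem F445656 : act 1 n176887 = n207608 := d15_0 (iv0 D207608) (iv7 F382581) F382578
def n207609 : Q := act 4 n132121
theorem D207609 : act 4 n132121 = n207609 := rfl
theorem F445657 : act 2 n207609 = n134686 := d1_1 D207609 F216695 F366775
theorem F445658 : act 5 n207609 = n176499 := d9_2 F335847 D207609 (iv4 D176499) (iv5 F347496) (iv4 F437131) (iv5 D205591) (iv4 F437123) (iv5 F437124) (iv4 F217754) (iv5 F347126) F243933 (iv5 F344720) (iv4 F430232) F430233 F389567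
theorem F445659 : act 6 n207609 = n206075 := d10_2 (iv6 F407326) D207609 F439139
theorem F445660 : act 7 n207609 = n193462 := d11_2 F366777 D207609 F389932
theorem F445661 : act 1 n207609 = n132690 := d18_6 (iv1 F443417) (iv4 F441034) (iv1 F437128) F389567 F335847 D207609 (iv4 F213556) (iv0 F337579) D207121
theorem F445662 : act 0 n207609 = n172245 := d20_1 D207609 (iv4 F396093) (iv3 D195174) (iv1 F161573) (iv3 F328647) (iv4 D62004) (iv1 D29361) (iv4 F47016) (iv3 F96576) D132121
theorem F445663 : act 3 n207609 = n172270 := d20_3 (iv4 F96577) D132121 D207609 (iv1 F339472) F207873 (iv4 F207876) D206991 F442880 (iv3 D133090) (iv1 D62443)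
def n207610 : Q := act 0 n132123
theorem D207610 : act 0 n132123 = n207610 := rfl
theorem F445664 : act 4 n207610 = n191571 := d18_3 F440749 F358320 D207610 (iv5 F417307) F417304 F275819 (iv4 F434004) F435690 (iv5 F440746)
theorem F445665 : act 3 n207610 = n193175 := d20_5 D207575 F445518 (iv4 D132159) (iv3 F211651) D207610 (iv4 D193175) (iv1 D101273) D101274 F339641 (iv1 F366019)
theorem F445666 : act 2 n206632 = n207610 := d15_3 (iv0 D207610) (iv0 F445356) F445354
theorem F445667 : act 1 n206610 = n207610 := d15_0 (iv0 D207610) F211652 (iv2 F441558)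
theorem F445668 : act 7 n207610 = n205473 := d15_2 (iv0 F445355) F445667 (iv2 F445350)
def n207611 : Q := act 4 n132134
theorem D207611 : act 4 n132134 = n207611 := rfl
theorem F445669 : act 2 n207611 = n132135 := d1_1 D207611 (iv4 D132135) D132134
theorem F445670 : act 3 n207611 = n142408 := d5_1 D207611 F426043 F426038 (iv4 F399399) F399398
theorem F445671 : act 6 n207611 = n142405 := d10_2 (iv6 F382458) D207611 F382457
theorem F445672 : act 1 n207611 = n206394 := d18_8 (iv1 D190492) (iv4 F379892) F379895 F379219 D190477 F379861 F399280 D207611 F440574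
def n207612 : Q := act 1 n132135
theorem D207612 : act 1 n132135 = n207612 := rfl
theorem F445673 : act 5 n207612 = n191715 := d18_9 F384242 (iv4 F379716) F379718 F379212 F416334 F416332 F359038 D132135 D207612
theorem F445674 : act 4 n207483 = n207612 := d20_6 (iv4 F37695) (iv1 F37697) (iv4 F46959) (iv3 F96437) D131840 D207483 (iv1 D207612) (iv4 D132135) (iv3 D61990) (iv1 D29357)
theorem F445675 : act 2 n207612 = n206394 := d1_1 F445674 F440575 F445110
theorem F445676 : act 6 n207612 = n191231 := d10_2 F445112 F445674 F382669
theorem F445677 : act 3 n207612 = n191716 := d19_3 F211415 (iv5 F445109) F445674 F384245 (iv5 D189636) (iv4 D94265) (iv3 F96180) F96182 (iv5 D34909) F27760 (iv3 D13447) (iv1 F10641) D13830 (iv4 F46456) (iv3 F95335) F212099 (iv5 D29505) D29504 D62384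
def n207613 : Q := act 5 n132136
theorem D207613 : act 5 n132136 = n207613 := rfl
theorem F445678 : act 3 n207613 = n132139 := d6_1 D207613 (iv5 D132139) (iv3 F211660)
theorem F445679 : act 6 n207613 = n195957 := d12_2 D132136 D207613 (iv5 D195957) (iv6 D106476) (iv5 F96581)
theorem F445680 : act 4 n207613 = n200535 := d16_2 F373556 D207613 F438900 F438898 (iv5 F322389) F204410 (iv5 F355424) (iv7 F355422) (iv2 F355417)
def n207614 : Q := act 0 n132139
theorem D207614 : act 0 n132139 = n207614 := rfl
theorem F445681 : act 4 n207614 = n195027 := d18_3 F437012 F435226 D207614 (iv5 D195027) D195026 (iv0 F414271) F414272 F408239 (iv5 F437010)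
theorem F445682 : act 6 n205203 = n207614 := d10_0 F445681 (iv6 F395483) D205203
def n207615 : Q := act 1 n132139
theorem D207615 : act 1 n132139 = n207615 := rfl
theorem F445683 : act 4 n207615 = n195031 := d17_9 F395492 (iv5 D125600) D125597 F366352 (iv4 F93156) D125903 F360462 D132139 D207615
theorem F445684 : act 5 n197046 = n207615 := d21_0 (iv1 D207615) (iv5 D132139) (iv6 D61991) (iv1 D29357) D29358 F47015 D60677 D129072 D206652 F441747
theorem F445685 : act 6 n200844 = n207615 := d21_3 D125919 D205409 F436283 (iv1 D207615) F211661 (iv5 D106477) F96479 D131907 F360463 (iv1 D125918)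
def n207616 : Q := act 7 n132139
theorem D207616 : act 7 n132139 = n207616 := rfl
theorem F445686 : act 5 n207616 = n132140 := d13_1 D207616 (iv7 D132140) D132139
def n207617 : Q := act 5 n132142
theorem D207617 : act 5 n132142 = n207617 := rfl
theorem F445687 : act 2 n207617 = n166599 := d2_1 D207617 (iv5 F392337) F392335
theorem F445688 : act 3 n207617 = n132144 := d6_1 D207617 (iv5 D132144) D132142
theorem F445689 : act 4 n207617 = n180635 := d9_1 D207617 F379231 (iv4 D190262) (iv5 D95782) F70308 (iv5 F97674) (iv4 F211427) (iv5 F342869) F343686 (iv5 F379655) (iv4 D190393) (iv5 D95996) (iv4 F144800) D94314 F343676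
theorem F445690 : act 7 n207617 = n195088 := d13_2 (iv7 F343677) D207617 F395717
theorem F445691 : act 0 n207617 = n176852 := d17_2 (iv1 F445373) D207617 (iv5 F376288) (iv4 D189272) (iv5 D93825) (iv0 F205502) (iv5 F372202) F372200 (iv4 F445370)
theorem F445692 : act 1 n207617 = n176847 := d17_6 (iv1 F369390) F369388 F294538 D94314 F343676 D207617 (iv5 F376749) (iv0 F377358) (iv4 D189676)
theorem F445693 : act 6 n207617 = n195087 := d21_3 (iv5 F445369) (iv1 F445373) D207617 (iv1 F435756) (iv6 D205282) (iv5 D125693) F175695 D200208 F415512 F289082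
def n207618 : Q := act 1 n132144
theorem D207618 : act 1 n132144 = n207618 := rfl
theorem F445694 : act 1 n207618 = n132149 := d15_1 D207618 F341808 F341805
theorem F445695 : act 7 n207618 = n205522 := d15_2 F417610 D207618 F436823
theorem F445696 : act 3 n166592 = n207618 := d20_3 (iv4 F172727) D199414 F412069 (iv1 D207618) (iv3 F445688) F445689 (iv1 F379232) F360299 (iv3 F365640) (iv1 D126232)
theorem F445697 : act 6 n205519 = n207618 := d21_9 (iv5 D132144) (iv1 F164281) (iv5 F206944) (iv6 F207307) (iv1 F207316) (iv6 F417548) (iv5 D200699) (iv1 F202979) (iv5 F436808) (iv1 D207618)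
theorem F445698 : act 2 n207618 = n206609 := d3_1 F445697 (iv6 D206609) (iv2 F436806)
def n207619 : Q := act 4 n132147
theorem D207619 : act 4 n132147 = n207619 := rfl
theorem F445699 : act 3 n207619 = n176740 := d5_1 D207619 (iv4 F293809) F171504 F341792 D132147
theorem F445700 : act 6 n207619 = n190071 := d10_2 F382201 D207619 (iv4 F382200)
theorem F445701 : act 7 n207619 = n176737 := d11_2 (iv7 F341800) D207619 F341802
theorem F445702 : act 5 n207619 = n190070 := d16_1 D207619 F378772 (iv5 D163276) (iv4 F254085) (iv5 D86281) F122740 D166600 F262191 (iv2 F341798)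
theorem F445703 : act 1 n207619 = n207601 := d18_6 (iv1 F328090) F328092 F254300 F254299 (iv5 F341799) D207619 F445637 F358968 (iv5 D163649)
theorem E103934 : n189970 = n176915 := ((c20_4 F369281 (iv1 D94454) (iv4 F291652) (iv3 F276271) (iv1 F378386) F373504 (iv4 D188442) (iv1 F341797) D207619 F445699 (iv1 F276116))).symm
theorem F445704 : act 0 n176915 = n188445 := (sb E103934 (iv1 F378386))
theorem F445705 : act 1 n176915 = n95513 := (sb E103934 (iv0 D189970))
theorem F445706 : act 7 n189971 = n190763 := d15_2 F445705 D189971 (iv2 F380958)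
theorem F445707 : act 2 n190764 = n189971 := d4_3 F445706 (iv2 F380958) (iv7 F380957)
def n207620 : Q := act 6 n132151
theorem D207620 : act 6 n132151 = n207620 := rfl
theorem F445708 : act 2 n207620 = n200601 := d3_1 D207620 (iv6 F441173) F441171
theorem F445709 : act 3 n207620 = n132153 := d7_1 D207620 (iv6 D132153) D132151
theorem F445710 : act 4 n207620 = n206098 := d10_1 D207620 (iv6 F439248) F437933
theorem F445711 : act 5 n207620 = n200678 := d12_1 D207620 F417442 F362262 D206417 F440689
theorem F445712 : act 7 n196692 = n207620 := d13_0 F445711 F417443 (iv5 F401499)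
theorem F445713 : act 0 n195636 = n207620 := d17_2 F412426 F402673 F445711 F417441 (iv5 F393641) F393643 (iv5 D137278) D137276 (iv4 F395563)
def n207621 : Q := act 0 n132152
theorem D207621 : act 0 n132152 = n207621 := rfl
theorem F445714 : act 5 n207621 = n196033 := d17_3 D61995 D132152 D207621 F399133 (iv5 F176762) (iv0 F176765) (iv5 D62001) (iv0 D29360) (iv4 F47016)
theorem F445715 : act 2 n206663 = n207621 := d15_3 (iv0 D207621) (iv0 F417414) (iv7 F441792)
theorem F445716 : act 1 n132155 = n207621 := d15_0 (iv0 D207621) F211667 (iv2 F211673)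
theorem F445717 : act 7 n207621 = n206662 := d15_2 F417415 F445716 F441790
theorem F445718 : act 6 n205562 = n207621 := d21_9 (iv5 D132155) (iv1 D61996) D61997 (iv6 F164552) F399192 F399190 F396108 (iv1 F203071) (iv5 F437001) (iv1 F445716)
def n207622 : Q := act 4 n132152
theorem D207622 : act 4 n132152 = n207622 := rfl
theorem F445719 : act 2 n207622 = n206666 := d1_1 D207622 (iv4 D206666) (iv2 F211666)
theorem F445720 : act 6 n207622 = n201832 := d10_2 (iv6 F440684) D207622 (iv4 F440682)
theorem F445721 : act 7 n207622 = n206664 := d11_2 (iv7 F211667) D207622 (iv4 D206664)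
theorem F445722 : act 5 n207622 = n207003 := d16_1 D207622 F442932 (iv5 F400019) (iv4 D196240) (iv5 D106806) F102072 D132155 F211674 (iv2 F211666)
theorem F445723 : act 0 n207622 = n206873 := d18_2 F417414 D207622 F442475 F419156 F211257 F164668 D196269 F400132 (iv5 F417413)
theorem F445724 : act 3 n207004 = n207622 := d6_3 F445722 (iv3 D207003) D207004
def n207623 : Q := act 5 n132154
theorem D207623 : act 5 n132154 = n207623 := rfl
theorem F445725 : act 3 n207623 = n132155 := d6_1 D207623 (iv5 D132155) D132154
theorem F445726 : act 7 n207623 = n154350 := d13_2 (iv7 F211672) D207623 F358582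
theorem F445727 : act 4 n207623 = n154351 := d16_4 D153831 (iv5 F349424) F216411 D207623 F242432 F109619 (iv5 F109623) (iv7 D73137) (iv2 F109248)
theorem F445728 : act 0 n207623 = n201702 := d17_2 (iv1 F365927) D207623 (iv5 D201702) F364817 (iv5 F135224) D185378 (iv5 F365552) (iv0 F441522) F441520
def n207624 : Q := act 4 n132155
theorem D207624 : act 4 n132155 = n207624 := rfl
theorem F445729 : act 2 n207624 = n206664 := d1_1 D207624 (iv4 D206664) (iv2 F211673)
theorem F445730 : act 3 n207624 = n206943 := d5_1 D207624 F442674 F350862 (iv4 F445727) F445725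
theorem F445731 : act 7 n207624 = n206666 := d11_2 (iv7 F211674) D207624 (iv4 D206666)
theorem F445732 : act 1 n207624 = n206873 := d18_6 (iv1 F329383) F164628 (iv1 F78037) F102072 D132155 D207624 F442475 (iv0 D201119) (iv5 D113945)
def n207625 : Q := act 6 n132155
theorem D207625 : act 6 n132155 = n207625 := rfl
theorem F445733 : act 2 n207625 = n206665 := d3_1 D207625 (iv6 D206665) (iv2 F211673)
theorem F445734 : act 5 n207625 = n205187 := d12_1 D207625 (iv6 F435335) F360473 (iv6 D132156) D132155
theorem F445735 : act 0 n201169 = n207625 := d17_2 (iv1 F435997) (iv5 F435419) F445734 (iv4 F435334) F417057 (iv0 F417056) (iv5 F435434) F435432 (iv4 F435994)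
def n207626 : Q := act 4 n132157
theorem D207626 : act 4 n132157 = n207626 := rfl
theorem F445736 : act 2 n207626 = n205755 := d1_1 D207626 F437719 (iv2 F399093)
theorem F445737 : act 3 n207626 = n200915 := d5_1 D207626 F418386 F176809 (iv4 F176705) F358252
theorem F445738 : act 5 n207626 = n207624 := d9_2 F400016 D207626 (iv4 D207624) (iv5 D132155) (iv4 F102072) D106806 D196240 F400019 (iv4 F442932) (iv5 F445722) (iv4 D207622) (iv5 D132152) (iv4 F102050) D106805 D196239
theorem F445739 : act 7 n207626 = n200834 := d11_2 (iv7 F358251) D207626 F418102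
theorem F445740 : act 0 n207626 = n205757 := d18_2 D132157 D207626 F437727 (iv5 F362878) F164628 F78038 F102050 (iv0 D61995) D61997
theorem F445741 : act 1 n207626 = n196238 := d18_6 F398803 F398801 F164595 D196239 F400016 D207626 (iv4 D196238) D196237 F400011
def n207627 : Q := act 5 n132161
theorem D207627 : act 5 n132161 = n207627 := rfl
theorem F445742 : act 2 n207627 = n195172 := d2_1 D207627 (iv5 D195172) (iv2 F365453)
theorem F445743 : act 3 n207627 = n132162 := d6_1 D207627 (iv5 D132162) D132161
theorem F445744 : act 6 n207627 = n200794 := d12_2 F365452 D207627 (iv5 D200794) (iv6 D113473) (iv5 F161561)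
theorem F445745 : act 7 n207627 = n206672 := d13_2 (iv7 F211684) D207627 (iv5 D206672)
def n207628 : Q := act 0 n132162
theorem D207628 : act 0 n132162 = n207628 := rfl
theorem F445746 : act 5 n207628 = n195944 := d17_3 (iv1 F103575) D132162 D207628 F398801 (iv5 F176484) (iv0 F176487) (iv5 D106854) (iv0 D49371) (iv4 F78058)
theorem F445747 : act 6 n207628 = n206084 := d21_5 D128620 (iv1 F395672) F395669 F381086 D207628 F439181 (iv1 F204679) D200835 (iv6 F418107) (iv1 D128618)
theorem F445748 : act 2 n201119 = n207628 := d15_3 (iv0 D207628) (iv0 F418522) F419160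
theorem F445749 : act 1 n132167 = n207628 := d15_0 (iv0 D207628) F211686 (iv2 F211703)
theorem F445750 : act 7 n207628 = n201120 := d15_2 F418523 F445749 F419164
theorem F445751 : act 3 n154021 = n207628 := d19_19 (iv1 F445749) (iv5 D132167) (iv4 D62004) D62003 F102068 F93605 (iv4 F98862) (iv3 F217407) F363750 F230217 F311750 (iv3 F311749) D158388 (iv5 F361268) F361267 (iv3 F307566) (iv1 F242091) F242088 F242089
def n207629 : Q := act 4 n132162
theorem D207629 : act 4 n132162 = n207629 := rfl
theorem F445752 : act 2 n207629 = n201121 := d1_1 D207629 (iv4 D201121) F329387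
theorem F445753 : act 6 n207629 = n206477 := d10_2 F381086 D207629 (iv4 D206477)
theorem F445754 : act 7 n207629 = n206673 := d11_2 (iv7 F211686) D207629 (iv4 D206673)
theorem F445755 : act 5 n207629 = n207575 := d16_1 D207629 (iv4 D207575) (iv5 F366018) (iv4 D132169) (iv5 D62005) D62004 D132167 (iv7 F329388) F329387
def n207630 : Q := act 4 n132167
theorem D207630 : act 4 n132167 = n207630 := rfl
theorem F445756 : act 2 n207630 = n206673 := d1_1 D207630 (iv4 D206673) (iv2 F211703)
theorem F445757 : act 5 n207630 = n207574 := d9_2 D132167 D207630 (iv4 D207574) F362882 (iv4 D132163) (iv5 D62001) D62000 D132162 D207629 F445755 (iv4 D207575) (iv5 F366018) (iv4 D132169) (iv5 D62005) D62004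
theorem F445758 : act 7 n207630 = n201121 := d11_2 F329388 D207630 (iv4 D201121)
def n207631 : Q := act 6 n132167
theorem D207631 : act 6 n132167 = n207631 := rfl
theorem F445759 : act 2 n207631 = n196123 := d3_1 D207631 F399514 (iv2 F211703)
theorem F445760 : act 3 n207631 = n201138 := d7_1 D207631 (iv6 D201138) (iv3 F365451)
theorem F445761 : act 5 n207631 = n205185 := d12_1 D207631 (iv6 F436278) F436275 (iv6 D132168) D132167
theorem F445762 : act 7 n207631 = n196124 := d14_2 F329388 D207631 (iv6 F403295) F395751 F395750
theorem F445763 : act 0 n196122 = n207631 := d21_4 D132009 (iv1 F399402) F399400 D196122 (iv6 D207631) (iv5 D132167) F102066 F325499 (iv6 D61952) D61948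
theorem F445764 : act 4 n201174 = n207631 := d18_3 (iv1 F441170) F419317 D201174 F445761 (iv4 D205185) F202402 (iv4 F435711) (iv0 F435715) (iv5 F441169)
theorem F445765 : act 5 n201174 = n195708 := d16_7 (iv4 F397911) (iv5 F415203) F415204 (iv5 F405916) D205185 (iv5 F445761) (iv4 F445764) (iv7 F397915) (iv2 F397914)
theorem F445766 : act 6 n207630 = n201174 := d10_0 F445764 (iv6 D207631) D207630
theorem F445767 : act 0 n207631 = n196126 := d20_1 F445764 (iv4 F442424) (iv3 D206856) (iv1 D129430) F328246 (iv4 D52511) (iv1 F40378) D52630 D114036 D201174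
theorem F445768 : act 3 n205722 = n201174 := d20_5 F95390 F46494 (iv4 F93673) (iv3 F203530) D205722 F445764 F445767 (iv4 F442424) (iv3 D206856) (iv1 D129430)
def n207632 : Q := act 6 n132170
theorem D207632 : act 6 n132170 = n207632 := rfl
theorem F445769 : act 2 n207632 = n195267 := d3_1 D207632 (iv6 D195267) F211719
theorem F445770 : act 3 n207632 = n201866 := d7_1 D207632 (iv6 D201866) (iv3 F211711)
theorem F445771 : act 4 n207632 = n201026 := d10_1 D207632 (iv6 D201026) F326365
theorem F445772 : act 5 n207632 = n190795 := d12_1 D207632 (iv6 F417908) (iv5 F440504) F440505 F421889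
theorem F445773 : act 0 n207632 = n207065 := d21_10 (iv5 F443169) (iv1 D205672) F343669 (iv6 D148768) (iv1 F106097) F327834 D129427 F421890 F421889 D207632
theorem F445774 : act 1 n207632 = n206981 := d15_1 (iv0 F445773) (iv7 F442833) D207065
def n207633 : Q := act 6 n132171
theorem D207633 : act 6 n132171 = n207633 := rfl
theorem F445775 : act 2 n207633 = n195264 := d3_1 D207633 (iv6 D195264) (iv2 F211720)
theorem F445776 : act 4 n207633 = n135626 := d10_1 D207633 (iv6 D135626) F211713
theorem F445777 : act 5 n207633 = n159363 := d12_1 D207633 (iv6 D159363) (iv5 F114236) D159374 F333529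
theorem F445778 : act 0 n159854 = n207633 := d21_4 (iv5 F106096) (iv1 F106097) (iv5 F114705) D159854 (iv6 D207633) (iv5 F333529) F333536 (iv5 D129427) (iv6 F327834) F82912
theorem F445779 : act 0 n207633 = n132567 := d20_1 (iv4 F445776) (iv4 F217988) (iv3 D135561) (iv1 F99105) (iv3 F213271) F213272 (iv1 F213255) (iv4 F330898) F251337 (iv1 F325507)
def n207634 : Q := act 5 n132172
theorem D207634 : act 5 n132172 = n207634 := rfl
theorem F445780 : act 2 n207634 = n132173 := d2_1 D207634 (iv5 D132173) D132172
theorem F445781 : act 3 n207634 = n206818 := d6_1 D207634 (iv5 D206818) (iv3 F211722)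
theorem F445782 : act 4 n207634 = n195968 := d9_1 D207634 (iv5 D195968) D195967 F398881 (iv4 F332600) F332601 F93655 D105486 D195270 (iv5 F396527) D195971 F398906 (iv4 F208646) (iv5 F216441) F216440
theorem F445783 : act 7 n207634 = n195268 := d13_2 (iv7 F211723) D207634 (iv5 D195268)
theorem F445784 : act 0 n207634 = n188039 := d17_2 (iv1 F211724) D207634 (iv5 F372198) (iv4 F207603) (iv5 D63756) D63754 F213200 F218104 F218101
theorem F445785 : act 1 n207634 = n195269 := d17_6 D113726 (iv5 F398222) (iv1 F398225) (iv5 F216441) F216440 D207634 F396525 (iv0 D129424) F327335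
def n207635 : Q := act 0 n132173
theorem D207635 : act 0 n132173 = n207635 := rfl
theorem F445786 : act 5 n207635 = n132195 := d17_1 D207635 (iv1 F211778) (iv5 F421676) (iv4 D201752) D201753 (iv0 F421684) (iv5 F421224) F421227 F399549
theorem F445787 : act 4 n207635 = n188029 := d18_3 F399550 F399549 D207635 F372182 (iv4 D131984) D131983 (iv4 F398926) (iv0 F398928) F258819
theorem F445788 : act 3 n207635 = n195275 := d20_5 D62041 F96687 (iv4 F96599) (iv3 F211726) D207635 F396553 (iv1 D136696) F179230 F179227 F83832
theorem F445789 : act 2 n188039 = n207635 := d15_3 (iv0 D207635) (iv0 F421619) F421617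
theorem F445790 : act 1 n195268 = n207635 := d15_0 (iv0 D207635) F211727 (iv2 F396524)
theorem F445791 : act 7 n207635 = n195269 := d15_2 F421620 F445790 (iv2 F421615)
theorem F445792 : act 6 n188028 = n207635 := d14_5 F445791 F396526 F193515 D201731 (iv7 F421600)
def n207636 : Q := act 6 n132173
theorem D207636 : act 6 n132173 = n207636 := rfl
theorem F445793 : act 3 n207636 = n132175 := d7_1 D207636 (iv6 D132175) (iv3 F211726)
def n207637 : Q := act 1 n132174
theorem D207637 : act 1 n132174 = n207637 := rfl
theorem F445794 : act 1 n207637 = n205676 := d15_1 D207637 F437429 F397666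
theorem F445795 : act 7 n207637 = n201010 := d15_2 F430435 D207637 (iv2 F430432)
theorem F445796 : act 4 n135859 = n207637 := d20_0 (iv1 D207637) (iv4 F216447) F216446 F101883 (iv3 F213920) (iv4 D133160) (iv1 F310732) D75626 (iv3 F327791) F362725
theorem F445797 : act 2 n207637 = n205687 := d1_1 F445796 F437458 F390806
def n207638 : Q := act 5 n132174
theorem D207638 : act 5 n132174 = n207638 := rfl
theorem F445798 : act 3 n207638 = n132176 := d6_1 D207638 (iv5 D132176) (iv3 F211728)
theorem F445799 : act 7 n207638 = n205688 := d13_2 (iv7 F211729) D207638 (iv5 D205688)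
def n207639 : Q := act 5 n132175
theorem D207639 : act 5 n132175 = n207639 := rfl
theorem F445800 : act 2 n207639 = n206827 := d2_1 D207639 (iv5 D206827) (iv2 F211730)
theorem F445801 : act 6 n207639 = n132176 := d12_2 D132175 D207639 (iv5 D132176) (iv6 D62010) D62009
def n207640 : Q := act 7 n132175
theorem D207640 : act 7 n132175 = n207640 := rfl
theorem F445802 : act 2 n207640 = n206828 := d4_1 D207640 (iv7 D206828) (iv2 F211730)
theorem F445803 : act 4 n207640 = n205097 := d11_1 D207640 (iv7 D205097) (iv4 F211731)
theorem F445804 : act 6 n207640 = n195276 := d14_1 D207640 (iv7 D195276) (iv6 D105489) (iv7 F96598) D132175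
theorem F445805 : act 1 n206826 = n207640 := d15_1 D206826 (iv7 D207640) F211730
theorem F445806 : act 1 n207640 = n206825 := d15_1 F445805 F442332 F442328
def n207641 : Q := act 4 n132176
theorem D207641 : act 4 n132176 = n207641 := rfl
theorem F445807 : act 2 n207641 = n206829 := d1_1 D207641 (iv4 D206829) (iv2 F211732)
theorem F445808 : act 7 n207641 = n205703 := d11_2 (iv7 F211733) D207641 (iv4 D205703)
theorem F445809 : act 5 n207641 = n205811 := d16_1 D207641 (iv4 D205811) (iv5 D126618) F93747 F45642 (iv4 F93747) D126618 (iv7 F207595) (iv2 F211732)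
def n207642 : Q := act 3 n132177
theorem D207642 : act 3 n132177 = n207642 := rfl
theorem F445810 : act 4 n207642 = n195096 := d5_2 F437799 D207642 F395749 D195107 F437796
theorem F445811 : act 7 n207642 = n206478 := d8_2 (iv7 F437792) D207642 F441013
theorem F445812 : act 2 n206477 = n207642 := d1_3 F445810 F395748 D206477
theorem F445813 : act 6 n201121 = n207642 := d10_0 F445810 F395750 D201121
theorem F445814 : act 0 n207642 = n206878 := d20_1 (iv4 F445810) (iv4 F442486) (iv3 F437120) F437151 F437148 (iv4 F378170) (iv1 F215994) (iv4 F216090) F216089 (iv1 F400025)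
def n207643 : Q := act 6 n132177
theorem D207643 : act 6 n132177 = n207643 := rfl
theorem F445815 : act 2 n207643 = n206834 := d3_1 D207643 (iv6 D206834) F437791
theorem F445816 : act 3 n207643 = n201121 := d7_1 D207643 F445813 (iv3 D207642)
theorem F445817 : act 4 n207643 = n201137 := d10_1 D207643 (iv6 F437798) F437799
theorem F445818 : act 5 n207643 = n206726 := d21_6 F437648 (iv1 F414833) F414830 (iv6 D132181) D132177 D207643 (iv1 D206726) D206727 F441983 (iv1 F437647)
theorem F445819 : act 0 n206875 = n207643 := d20_4 F211800 (iv1 F96647) D129442 D206875 F445816 (iv4 D201121) D201119 (iv4 F442475) (iv3 D206873) (iv1 F211804)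
def n207644 : Q := act 3 n132178
theorem D207644 : act 3 n132178 = n207644 := rfl
theorem F445820 : act 6 n207644 = n205729 := d7_2 F442980 D207644 F437618
theorem F445821 : act 7 n207644 = n206832 := d8_2 F437789 D207644 (iv3 D206832)
def n207645 : Q := act 5 n132179
theorem D207645 : act 5 n132179 = n207645 := rfl
theorem F445822 : act 2 n207645 = n132180 := d2_1 D207645 (iv5 D132180) D132179
theorem F445823 : act 3 n207645 = n132231 := d6_1 D207645 (iv5 D132231) (iv3 F211735)
theorem F445824 : act 7 n207645 = n206835 := d13_2 (iv7 F211737) D207645 (iv5 D206835)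
theorem F445825 : act 0 n207645 = n206838 := d17_2 (iv1 F211738) D207645 F442358 (iv4 F437347) F437448 (iv0 D126498) D126501 D205660 F437374
theorem F445826 : act 1 n207645 = n206837 := d17_6 D126563 F336995 F437206 (iv5 D205610) (iv4 F211736) D207645 F442352 (iv0 D129809) F95513
def n207646 : Q := act 0 n132180
theorem D207646 : act 0 n132180 = n207646 := rfl
theorem F445827 : act 5 n207646 = n132522 := d17_3 (iv1 D132178) D132180 D207646 (iv4 F437780) (iv5 D205765) F203615 D205657 F437784 F437783
theorem F445828 : act 1 n206835 = n207646 := d15_0 (iv0 D207646) F211742 (iv2 F442345)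
theorem F445829 : act 2 n206838 = n207646 := d2_3 F445827 (iv2 F437764) (iv5 F442358)
theorem F445830 : act 7 n206837 = n207646 := d13_0 F445827 (iv7 F437765) (iv5 F442352)
def n207647 : Q := act 1 n132180
theorem D207647 : act 1 n132180 = n207647 := rfl
theorem F445831 : act 1 n207647 = n206835 := d15_1 D207647 (iv7 F445824) F445822
theorem F445832 : act 7 n207647 = n206838 := d15_2 (iv0 D207646) D207647 F445829
theorem F445833 : act 5 n207647 = n132523 := d17_7 (iv1 F203551) (iv5 F216363) F212954 (iv5 D126476) (iv4 F96603) D132180 D207647 F212704 F208154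
theorem F445834 : act 3 n206907 = n207647 := d19_19 (iv1 D207647) (iv5 D132180) F96603 (iv3 D59340) (iv1 F47127) F95313 (iv4 F95903) (iv3 D61415) (iv1 F77761) F77759 (iv4 F93733) D126609 F437745 (iv5 F437747) D205762 F437750 (iv1 D135113) D135115 (iv4 F442570)
theorem F445835 : act 6 n207647 = n206906 := d7_2 D206907 F445834 (iv3 D206906)
theorem F445836 : act 2 n206837 = n207647 := d2_3 F445833 F437759 (iv5 F442352)
theorem F445837 : act 0 n205715 = n206836 := d21_4 D126486 D205627 F437272 D205715 (iv6 D206836) D206835 (iv1 F445831) F445833 F437760 (iv1 D126484)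
theorem F445838 : act 1 n205715 = n206702 := d15_1 (iv0 F445837) F441910 (iv2 F442349)
def n207648 : Q := act 4 n132180
theorem D207648 : act 4 n132180 = n207648 := rfl
theorem F445839 : act 3 n207648 = n136431 := d5_1 D207648 (iv4 D136431) F99852 (iv4 F96606) (iv3 F211741)
theorem F445840 : act 7 n207648 = n206839 := d11_2 (iv7 F211742) D207648 (iv4 D206839)
def n207649 : Q := act 6 n132180
theorem D207649 : act 6 n132180 = n207649 := rfl
theorem F445841 : act 3 n207649 = n132182 := d7_1 D207649 (iv6 D132182) (iv3 F211741)
def n207650 : Q := act 0 n132182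
theorem D207650 : act 0 n132182 = n207650 := rfl
def n207651 : Q := act 1 n132182
theorem D207651 : act 1 n132182 = n207651 := rfl
theorem F445842 : act 1 n207651 = n132248 := d15_1 D207651 (iv7 D132248) (iv2 F211745)
theorem F445843 : act 5 n207651 = n205607 := d21_8 D205718 F437553 F216363 (iv6 F437760) (iv1 D132523) D132526 F361173 (iv1 F445842) (iv6 D205607) (iv1 F203525)
theorem F445844 : act 2 n132246 = n207651 := d2_3 F445843 (iv2 F437547) F437548
def n207652 : Q := act 5 n132182
theorem D207652 : act 5 n132182 = n207652 := rfl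
theorem F445845 : act 2 n207652 = n132247 := d2_1 D207652 (iv5 D132247) (iv2 F211745)
theorem F445846 : act 6 n207652 = n132184 := d12_2 D132182 D207652 (iv5 D132184) (iv6 D62013) D62012
theorem F445847 : act 4 n206727 = n207652 := d10_3 F445846 F361168 (iv6 F441983)
def n207653 : Q := act 7 n132182
theorem D207653 : act 7 n132182 = n207653 := rfl
theorem F445848 : act 2 n207653 = n132248 := d4_1 D207653 (iv7 D132248) (iv2 F211745)
theorem F445849 : act 4 n207653 = n136440 := d11_1 D207653 (iv7 D136440) (iv4 F211746)
theorem F445850 : act 6 n207653 = n194679 := d14_1 D207653 F394067 (iv6 D129422) (iv7 F96607) D132182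
theorem F445851 : act 1 n132248 = n207650 := d15_0 (iv0 D207650) D207653 F445848
theorem F445852 : act 1 n132246 = n207653 := d15_1 D132246 (iv7 D207653) F211745
theorem F445853 : act 7 n207650 = n132246 := d15_2 F445842 F445851 F445844
theorem F445854 : act 3 n206921 = n207650 := d20_9 (iv4 F388490) (iv1 F388492) F421485 (iv3 D201706) F179086 D201645 (iv4 F431196) F431197 (iv4 F442615) (iv1 F445851)
theorem F445855 : act 6 n207650 = n206919 := d7_2 D206921 F445854 (iv3 D206919)
theorem F445856 : act 5 n206919 = n206911 := d21_6 (iv5 D60833) (iv1 F47032) D62012 D132182 D207650 F445855 (iv1 F442597) (iv5 D132555) (iv6 D62188) (iv1 F95395)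
theorem F445857 : act 3 n206911 = n206920 := d6_1 F445856 (iv5 D206920) D206919
theorem F445858 : act 2 n207650 = n132245 := d15_3 (iv0 D132245) D132246 (iv7 F445853)
theorem F445859 : act 7 n132245 = n207651 := d4_2 (iv7 F445853) F445858 (iv2 F445844)
theorem F445860 : act 1 n207653 = n132245 := d15_1 F445852 F445859 (iv2 F445844)
def n207654 : Q := act 1 n132186
theorem D207654 : act 1 n132186 = n207654 := rfl
theorem F445861 : act 1 n207654 = n136356 := d15_1 D207654 (iv7 F332970) F353361
theorem F445862 : act 7 n207654 = n136355 := d15_2 (iv0 F433557) D207654 (iv2 F433552)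
theorem F445863 : act 5 n207654 = n135924 := d17_7 (iv1 F424125) (iv5 D197823) (iv1 D108690) (iv5 F81064) (iv4 F171825) F332961 D207654 F341520 (iv4 F424122)
theorem F445864 : act 3 n187110 = n207654 := d20_3 F352817 (iv1 F362573) (iv4 F369115) (iv1 D207654) (iv3 D132186) (iv4 D62015) (iv1 D29367) D29368 F329011 D99792
theorem F445865 : act 2 n136354 = n207654 := d2_3 F445863 (iv2 F386309) F359222
def n207655 : Q := act 0 n132187
theorem D207655 : act 0 n132187 = n207655 := rfl
theorem F445866 : act 3 n207655 = n138341 := d20_5 (iv4 D58734) (iv1 F80350) (iv4 F96623) D132187 D207655 (iv4 D138341) (iv1 D64983) (iv4 F99793) (iv3 D64111) (iv1 F92799)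
theorem F445867 : act 4 n207655 = n179012 := d20_8 (iv4 D64998) (iv1 D30531) (iv4 F48916) (iv3 D30521) D30519 D64959 (iv4 F211759) D207655 (iv3 D179012) (iv1 F314743)
theorem F445868 : act 1 n136377 = n207655 := d15_0 (iv0 D207655) F211760 D136377
theorem F445869 : act 7 n136375 = n207655 := d11_0 F445867 (iv7 F434403) F434401
theorem F445870 : act 6 n207655 = n136883 := d14_1 F445869 (iv7 F385516) (iv6 D192089) (iv7 F385368) F385367
def n207656 : Q := act 1 n132187
theorem D207656 : act 1 n132187 = n207656 := rfl
def n207657 : Q := act 2 n132187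
theorem D207657 : act 2 n132187 = n207657 := rfl
theorem F445871 : act 3 n207657 = n136371 := d0_2 D132187 D207657 (iv2 D136371) (iv3 D64113) F96625
theorem F445872 : act 4 n207657 = n138290 := d1_2 (iv4 F211759) D207657 (iv2 D138290)
theorem F445873 : act 6 n207657 = n143125 := d3_2 (iv6 F333087) D207657 F225973
theorem F445874 : act 7 n207657 = n136377 := d4_2 (iv7 F211760) D207657 (iv2 D136377)
theorem F445875 : act 1 n207657 = n136375 := d15_0 (iv0 D136375) (iv7 F211760) D207657
theorem F445876 : act 1 n207656 = n136377 := d15_1 D207656 (iv7 F445874) (iv2 D207657)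
theorem F445877 : act 2 n136375 = n207656 := d15_3 F445876 F445868 (iv7 F445869)
theorem F445878 : act 7 n136376 = n207656 := d15_2 (iv0 D136375) D136376 (iv2 F445877)
theorem F445879 : act 2 n207655 = n136376 := d4_3 F445878 (iv2 F445877) F445869
theorem F445880 : act 1 n136376 = n207657 := d15_0 F445875 F445869 F445879
theorem F445881 : act 1 n204974 = n154256 := d18_8 D154254 F349066 (iv1 F193605) (iv4 F252174) (iv5 F365415) (iv4 F445872) F445875 (iv4 F434401) (iv5 D154256)
def n207658 : Q := act 6 n132196
theorem D207658 : act 6 n132196 = n207658 := rfl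
theorem F445882 : act 2 n207658 = n206849 := d3_1 D207658 (iv6 D206849) (iv2 F211782)
theorem F445883 : act 4 n207658 = n135800 := d10_1 D207658 (iv6 D135800) F211779
theorem F445884 : act 0 n207658 = n132259 := d21_4 D195268 (iv1 F421620) (iv5 F421618) D207658 F211902 D206748 F442044 (iv5 F445772) (iv6 D207632) (iv1 F211712)
def n207659 : Q := act 5 n132197
theorem D207659 : act 5 n132197 = n207659 := rfl
theorem F445885 : act 2 n207659 = n132198 := d2_1 D207659 (iv5 D132198) D132197
theorem F445886 : act 3 n207659 = n206862 := d6_1 D207659 (iv5 D206862) (iv3 F211785)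
theorem F445887 : act 4 n207659 = n159341 := d9_1 D207659 (iv5 F377480) (iv4 F377478) (iv5 D113467) F82743 D52508 (iv4 F327335) D129427 (iv4 F377475) (iv5 F377473) F377472 (iv5 D131881) (iv4 F323238) (iv5 F324648) (iv4 F211786)
theorem F445888 : act 7 n207659 = n201752 := d13_2 (iv7 F211787) D207659 F421676
theorem F445889 : act 0 n207659 = n159374 := d17_2 (iv1 F211788) D207659 F333529 (iv4 F211713) F324334 F161494 F321195 (iv0 F321188) F321191
theorem F445890 : act 1 n207659 = n201816 := d17_6 (iv1 F349619) (iv5 D113719) (iv1 F161485) (iv5 F324648) (iv4 F211786) D207659 F421889 (iv0 D132170) (iv4 F98445)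
def n207660 : Q := act 6 n132198
theorem D207660 : act 6 n132198 = n207660 := rfl
theorem F445891 : act 3 n207660 = n132200 := d7_1 D207660 (iv6 D132200) (iv3 F211790)
theorem F445892 : act 4 n207660 = n201150 := d10_1 D207660 (iv6 F419277) F398911
def n207661 : Q := act 5 n132199
theorem D207661 : act 5 n132199 = n207661 := rfl
theorem F445893 : act 3 n207661 = n132203 := d6_1 D207661 (iv5 D132203) (iv3 F211792)
theorem F445894 : act 4 n207661 = n191559 := d9_1 D207661 F383805 (iv4 D103679) (iv5 D48018) F36276 D42280 D90424 D187651 (iv4 F439187) (iv5 D206085) (iv4 F393445) F393446 F159104 (iv5 F326591) (iv4 F211793)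
def n207662 : Q := act 5 n132200
theorem D207662 : act 5 n132200 = n207662 := rfl
theorem F445895 : act 2 n207662 = n206871 := d2_1 D207662 (iv5 D206871) (iv2 F211794)
theorem F445896 : act 6 n207662 = n132203 := d12_2 D132200 D207662 (iv5 D132203) (iv6 D62022) D62021
theorem F445897 : act 4 n207662 = n191558 := d16_2 F219600 D207662 F383801 F361822 F172103 (iv4 F181238) D202673 F425025 (iv2 F219599)
def n207663 : Q := act 7 n132200
theorem D207663 : act 7 n132200 = n207663 := rfl
theorem F445898 : act 2 n207663 = n206872 := d4_1 D207663 (iv7 D206872) (iv2 F211794)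
theorem F445899 : act 4 n207663 = n193049 := d11_1 D207663 F388588 F219600
theorem F445900 : act 6 n207663 = n206855 := d14_1 D207663 (iv7 D206855) (iv6 D129429) (iv7 F96640) D132200
theorem F445901 : act 1 n206870 = n207663 := d15_1 D206870 (iv7 D207663) F211794
theorem F445902 : act 1 n207663 = n206869 := d15_1 F445901 (iv7 F442463) F442466
def n207664 : Q := act 3 n132201
theorem D207664 : act 3 n132201 = n207664 := rfl
theorem F445903 : act 4 n207664 = n204165 := d5_2 (iv4 F211795) D207664 (iv3 D204165) F329056 F209211
theorem F445904 : act 7 n207664 = n204358 := d8_2 (iv7 F214087) D207664 F432199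
theorem F445905 : act 5 n132201 = n207664 := d13_3 F445904 F432200 (iv7 F214087)
theorem F445906 : act 2 n207664 = n206874 := d15_3 F442477 (iv0 F432201) (iv7 F445904)
theorem F445907 : act 0 n207664 = n205645 := d17_2 D132201 F445905 (iv5 D205645) (iv4 D126493) D126494 (iv0 F203787) F203786 (iv0 D62023) (iv4 F96642)
theorem F445908 : act 1 n207664 = n205647 := d17_6 (iv1 F99068) F163999 (iv1 F217855) (iv5 F209210) (iv4 F211795) F445905 (iv5 D205647) F203608 F203606
def n207665 : Q := act 6 n132201
theorem D207665 : act 6 n132201 = n207665 := rfl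
theorem F445909 : act 2 n207665 = n206754 := d3_1 D207665 (iv6 F442062) (iv2 F214090)
theorem F445910 : act 4 n207665 = n134457 := d10_1 D207665 F216417 (iv4 F211795)
theorem F445911 : act 7 n207665 = n206683 := d14_2 (iv7 F214087) D207665 (iv6 D206683) (iv7 F213968) F214086
theorem F445912 : act 0 n207665 = n132264 := d21_4 D205647 (iv1 F445908) (iv5 F445905) D207665 (iv6 D132264) D132263 (iv1 F437426) F437423 (iv6 F203607) (iv1 F203608)
theorem F445913 : act 5 n207665 = n205701 := d21_6 D105481 F161922 (iv5 D62021) D62022 D132201 D207665 (iv1 F437490) (iv5 D129416) (iv6 D60819) (iv1 F76790)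
theorem F445914 : act 0 n198887 = n207665 := d21_4 D195262 F396509 F362156 D198887 (iv6 D207665) F445905 F445907 (iv5 D205645) F203381 F170830
theorem F445915 : act 2 n205701 = n205809 := d2_1 F445913 (iv5 F442059) (iv2 F445909)
theorem F445916 : act 7 n205701 = n205810 := d13_2 (iv7 F445911) F445913 (iv5 F441861)
theorem F445917 : act 2 n205810 = n205702 := d15_3 F437491 F437490 F445916
theorem F445918 : act 7 n205809 = n205702 := d4_2 (iv7 F445916) F445915 (iv2 F445917)
def n207666 : Q := act 3 n132202
theorem D207666 : act 3 n132202 = n207666 := rfl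
theorem F445919 : act 4 n207666 = n200963 := d5_2 (iv4 F211972) D207666 F418520 F206975 F211346
theorem F445920 : act 6 n207666 = n200962 := d7_2 (iv6 F213976) D207666 F418515
theorem F445921 : act 7 n207666 = n206873 := d8_2 F214091 D207666 (iv3 D206873)
theorem F445922 : act 0 n207666 = n206666 := d20_4 (iv4 F214367) (iv1 F214370) (iv4 F211972) D207666 F441799 F207678 (iv1 F363457) (iv4 F442111) (iv3 D206767) (iv1 F211842)
theorem F445923 : act 1 n207666 = n206664 := d15_1 (iv0 F445922) (iv7 F445721) F445719
def n207667 : Q := act 5 n132202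
theorem D207667 : act 5 n132202 = n207667 := rfl
theorem F445924 : act 2 n207667 = n204358 := d2_1 D207667 F432200 (iv2 F214085)
theorem F445925 : act 4 n207667 = n204169 := d9_1 D207667 (iv5 F431308) F430873 (iv5 F344426) F344425 (iv5 F209210) (iv4 F211795) F445905 F445903 F431281 F429861 (iv5 F271855) F332380 F220486 (iv4 F211972)
theorem F445926 : act 7 n207667 = n206874 := d13_2 F214091 D207667 (iv5 D206874)
theorem F445927 : act 0 n207667 = n205647 := d17_2 (iv1 F211796) D207667 (iv5 D205647) (iv4 D126496) (iv5 F94033) (iv0 F166339) (iv5 F166336) F96643 (iv4 F207612)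
theorem F445928 : act 1 n207667 = n205645 := d17_6 D63693 D135481 (iv1 F220489) F220486 (iv4 F211972) D207667 (iv5 D205645) (iv0 F203383) F93628
def n207668 : Q := act 3 n132205
theorem D207668 : act 3 n132205 = n207668 := rfl
theorem F445929 : act 4 n207668 = n206687 := d5_2 D132205 D207668 (iv3 D206687) (iv4 D129110) (iv3 F166342)
theorem F445930 : act 7 n207668 = n206875 := d8_2 (iv7 F211806) D207668 (iv3 D206875)
theorem F445931 : act 0 n205717 = n206687 := d20_7 (iv4 F209213) (iv1 F214088) (iv4 F214084) (iv3 F432199) F432201 (iv3 F442861) F442863 (iv4 F445929) (iv3 D207668) F211807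
def n207669 : Q := act 5 n132205
theorem D207669 : act 5 n132205 = n207669 := rfl
theorem F445932 : act 2 n207669 = n206768 := d2_1 D207669 (iv5 D206768) (iv2 F211805)
theorem F445933 : act 7 n207669 = n206876 := d13_2 (iv7 F211806) D207669 (iv5 D206876)
theorem F445934 : act 0 n207669 = n205637 := d17_2 (iv1 F211813) D207669 (iv5 D205637) F203365 D135233 (iv0 F217420) (iv5 F214355) (iv0 D133337) (iv4 F97581)
theorem F445935 : act 1 n207669 = n205639 := d17_6 (iv1 F93623) (iv5 F94033) F203788 F203786 D132205 D207669 (iv5 D205639) F203371 F95453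
def n207670 : Q := act 5 n132206
theorem D207670 : act 5 n132206 = n207670 := rfl
theorem F445936 : act 2 n207670 = n206876 := d2_1 D207670 (iv5 D206876) (iv2 F211808)
theorem F445937 : act 3 n207670 = n206897 := d6_1 D207670 F444243 F444238
theorem F445938 : act 7 n207670 = n206768 := d13_2 (iv7 F211810) D207670 (iv5 D206768)
theorem F445939 : act 0 n207670 = n205639 := d17_2 F211812 D207670 (iv5 D205639) (iv4 F203374) D135489 (iv0 F405005) F405003 F214088 F209213
theorem F445940 : act 1 n207670 = n205637 := d17_6 D59347 D126494 F203387 (iv5 F166336) D132206 D207670 (iv5 D205637) (iv0 D126489) F93620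
def n207671 : Q := act 0 n132207
theorem D207671 : act 0 n132207 = n207671 := rfl
theorem F445941 : act 5 n207671 = n197527 := d17_1 D207671 (iv1 F405390) F405388 F217202 D206818 F442305 (iv5 F442310) (iv0 D132208) (iv4 F211814)
theorem F445942 : act 1 n134884 = n207671 := d15_0 (iv0 D207671) F211815 D134884
theorem F445943 : act 7 n134882 = n207671 := d13_0 F445941 F442295 (iv5 F405382)
def n207672 : Q := act 1 n132207
theorem D207672 : act 1 n132207 = n207672 := rfl
theorem F445944 : act 3 n159922 = n207672 := d20_3 (iv4 F419310) (iv1 D159921) D159922 (iv1 D207672) (iv3 D132207) (iv4 D62026) F47050 D50057 D108407 D197512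
theorem F445945 : act 4 n206892 = n207672 := d20_6 (iv4 D30205) F46663 F46662 D60835 D129451 D206892 (iv1 D207672) F211814 (iv3 D62028) (iv1 F48589)
theorem F445946 : act 6 n207672 = n159925 := d10_2 (iv6 F442533) F445945 F252189
theorem F445947 : act 5 n197528 = n207672 := d19_1 (iv1 F405392) (iv4 F445945) (iv3 D206892) (iv1 F211846) F355287 (iv4 D124148) F91142 F329526 F329236 (iv4 F112742) F112741 (iv1 F90015) F296749 (iv4 F117282) D122358 F195690 D150108 (iv4 F404962) (iv3 F405387)
theorem F445948 : act 0 n134884 = n207672 := d20_7 (iv4 F214559) (iv1 F214563) (iv4 F442393) (iv3 D206848) (iv1 F211788) F211785 (iv4 F217086) (iv4 F445945) (iv3 D206892) (iv1 F211846)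
theorem F445949 : act 2 n134882 = n207672 := d15_3 (iv0 F445948) F445942 (iv7 F445943)
theorem F445950 : act 7 n134883 = n207672 := d15_2 (iv0 D134882) D134883 (iv2 F445949)
theorem F445951 : act 2 n207671 = n134883 := d4_3 F445950 (iv2 F445949) F445943
theorem F445952 : act 5 n197692 = n134883 := d13_3 F445950 (iv5 F445947) (iv7 F442292)
def n207673 : Q := act 2 n132207
theorem D207673 : act 2 n132207 = n207673 := rfl
theorem F445953 : act 3 n207673 = n134891 := d0_2 D132207 D207673 (iv2 D134891) (iv3 D63393) (iv2 F96649)
theorem F445954 : act 4 n207673 = n132210 := d1_2 (iv4 F211814) D207673 (iv2 D132210)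
theorem F445955 : act 6 n207673 = n136897 := d3_2 F216231 D207673 (iv2 F347250)
theorem F445956 : act 7 n207673 = n134884 := d4_2 (iv7 F211815) D207673 (iv2 D134884)
theorem F445957 : act 1 n207673 = n134882 := d15_0 (iv0 D134882) (iv7 F211815) D207673
theorem F445958 : act 1 n134883 = n207673 := d15_0 F445957 F445943 F445951
def n207674 : Q := act 3 n132208
theorem D207674 : act 3 n132208 = n207674 := rfl
theorem F445959 : act 2 n207674 = n206933 := d0_1 D207674 (iv3 D206933) (iv2 F217702) F214798 F217709
theorem F445960 : act 7 n207674 = n206859 := d8_2 F217711 D207674 (iv3 D206859)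
theorem F445961 : act 4 n207674 = n133390 := d20_6 (iv4 D28850) (iv1 F23271) D29372 D62028 D132208 D207674 (iv1 D133390) F97625 (iv3 D62031) (iv1 F47055)
def n207675 : Q := act 4 n132208
theorem D207675 : act 4 n132208 = n207675 := rfl
theorem F445962 : act 2 n207675 = n206776 := d1_1 D207675 F442148 F217709
theorem F445963 : act 7 n207675 = n206860 := d11_2 F217711 D207675 (iv4 D206860)
theorem F445964 : act 1 n207675 = n137816 := d15_0 (iv0 F444144) F444143 (iv2 F445962)
def n207676 : Q := act 6 n132208
theorem D207676 : act 6 n132208 = n207676 := rfl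
theorem F445965 : act 2 n207676 = n206861 := d3_1 D207676 (iv6 D206861) F217709
def n207677 : Q := act 6 n132209
theorem D207677 : act 6 n132209 = n207677 := rfl
theorem F445966 : act 2 n207677 = n206693 := d3_1 D207677 F442314 (iv2 F217710)
theorem F445967 : act 3 n207677 = n206790 := d7_1 D207677 F442193 F213633
theorem F445968 : act 0 n206692 = n207677 := d21_4 D126595 (iv1 F203636) (iv5 F207346) D206692 (iv6 D207677) (iv5 F396571) (iv1 D195283) (iv5 D105493) F76795 D59392
theorem F445969 : act 0 n207677 = n206696 := d19_4 D126821 D205952 (iv4 F442192) (iv3 F445967) F441884 (iv4 D196309) F164749 (iv1 F84218) (iv5 D53375) (iv4 D25862) F24011 (iv1 D14373) (iv5 D6874) (iv4 D3099) D3098 D6866 D14360 (iv4 F45768) D59515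
theorem F445970 : act 7 n206694 = n207677 := d15_2 (iv0 D206693) D206694 F445966
def n207678 : Q := act 5 n132210
theorem D207678 : act 5 n132210 = n207678 := rfl
theorem F445971 : act 2 n207678 = n132211 := d2_1 D207678 (iv5 D132211) D132210
theorem F445972 : act 3 n207678 = n201752 := d6_1 D207678 F421676 (iv3 F211817)
theorem F445973 : act 7 n207678 = n206862 := d13_2 (iv7 F211818) D207678 (iv5 D206862)
theorem F445974 : act 4 n207678 = n197691 := d17_4 D206820 F442313 (iv1 F211819) D207678 (iv5 F405382) (iv0 D134882) D134885 (iv0 F404700) (iv4 F404702)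
theorem F445975 : act 0 n207678 = n195280 := d21_7 (iv5 F437482) (iv1 D205695) F365382 F365379 F329378 F347264 D207678 (iv5 D195280) (iv6 F383948) (iv1 F383951)
theorem F445976 : act 0 n195278 = n207678 := d21_1 D195278 (iv5 D207678) (iv6 F347264) (iv1 F233558) (iv6 F361795) (iv5 F208392) F208390 (iv5 D59395) (iv6 F76795) D105490
theorem E103935 : n206927 = n197678 := (c20_4 F396519 (iv1 F250924) D201821 (iv3 F442631) (iv1 D197678) D197679 F405327 D197691 (iv4 F445974) F445972 F421677)
theorem F445977 : act 2 n197678 = n207030 := (sb E103935 (iv2 F443037))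
theorem F445978 : act 3 n197678 = n201821 := (sb E103935 F442631)
theorem F445979 : act 6 n197678 = n129484 := (sb E103935 (iv6 D206927))
def n207679 : Q := act 0 n132213
theorem D207679 : act 0 n132213 = n207679 := rfl
def n207680 : Q := act 1 n132213
theorem D207680 : act 1 n132213 = n207680 := rfl
theorem F445980 : act 1 n207680 = n206855 := d15_1 D207680 (iv7 D206855) (iv2 F211825)
theorem F445981 : act 2 n206853 = n207680 := d15_3 F445980 (iv0 F444422) (iv7 F442416)
theorem F445982 : act 7 n207680 = n206852 := d4_2 (iv7 F442416) F445981 (iv2 F442415)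
theorem E103936 : n207679 = n201699 := ((c15_4 (iv0 D207679) D207680 F445982 (iv2 F442415))).symm
theorem F445983 : act 1 n201699 = n132213 := (sb E103936 (iv0 D207679))
def n207681 : Q := act 7 n132213
theorem D207681 : act 7 n132213 = n207681 := rfl
theorem F445984 : act 2 n207681 = n206855 := d4_1 D207681 (iv7 D206855) (iv2 F211825)
theorem F445985 : act 6 n207681 = n206872 := d14_1 D207681 (iv7 D206872) (iv6 D129437) (iv7 F96659) D132213
theorem F445986 : act 1 n206853 = n207681 := d15_1 D206853 (iv7 D207681) F211825
theorem F445987 : act 1 n207681 = n206852 := d15_1 F445986 (iv7 F445982) (iv2 F445981)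
def n207682 : Q := act 3 n132214
theorem D207682 : act 3 n132214 = n207682 := rfl
theorem F445988 : act 4 n207682 = n134952 := d5_2 (iv4 F211828) D207682 F217163 F98751 (iv3 F98743)
theorem F445989 : act 5 n207682 = n202315 := d6_2 (iv5 F361829) D207682 F423606
theorem F445990 : act 6 n207682 = n205789 := d7_2 F211830 D207682 F437872
theorem F445991 : act 7 n207682 = n134931 := d8_2 (iv7 F211827) D207682 F217130
theorem F445992 : act 0 n206982 = n207682 := d20_4 F165903 F383737 D195691 (iv3 F442836) (iv3 D207682) F211828 (iv1 F98744) F98329 (iv3 F207622) F365647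
def n207683 : Q := act 4 n132215
theorem D207683 : act 4 n132215 = n207683 := rfl
theorem F445993 : act 2 n207683 = n136925 := d1_1 D207683 (iv4 F328625) (iv2 F211831)
theorem F445994 : act 3 n207683 = n203968 := d5_1 D207683 F430629 F212801 (iv4 F212802) F347256
theorem F445995 : act 6 n207683 = n203967 := d10_2 (iv6 F347260) D207683 F430624
theorem F445996 : act 7 n207683 = n143080 := d11_2 (iv7 F361831) D207683 (iv4 F344612)
theorem F445997 : act 5 n207683 = n137344 := d16_1 D207683 F220536 (iv5 F344611) F162188 F93682 D62131 D132424 F212492 (iv2 F211831)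
def n207684 : Q := act 5 n132216
theorem D207684 : act 5 n132216 = n207684 := rfl
theorem F445998 : act 2 n207684 = n136341 := d2_1 D207684 (iv5 F358293) (iv2 F418669)
theorem F445999 : act 7 n207684 = n136340 := d13_2 F418668 D207684 (iv5 F417741)
theorem F446000 : act 0 n207684 = n136339 := d17_2 D132216 D207684 (iv5 D136339) F99708 D106844 F165950 F343683 (iv0 D133389) F97625
theorem F446001 : act 1 n207684 = n132241 := d17_6 F399238 (iv5 D196052) (iv1 F398952) (iv5 F418666) F418665 D207684 F211881 D132536 (iv4 F212742)
def n207685 : Q := act 6 n132216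
theorem D207685 : act 6 n132216 = n207685 := rfl
theorem F446002 : act 2 n207685 = n206880 := d3_1 D207685 (iv6 D206880) (iv2 F418669)
theorem F446003 : act 0 n207685 = n206925 := d21_4 (iv5 F211881) (iv1 F446001) (iv5 D207684) D207685 F442627 (iv5 D159480) F179001 (iv5 F419191) F419192 (iv1 D132536)
theorem F446004 : act 0 n132392 = n207685 := d21_4 (iv5 F212430) (iv1 F343597) F343600 D132392 (iv6 D207685) D207684 F446000 (iv5 D136339) F99709 (iv1 F207822)
theorem F446005 : act 5 n201153 = n207685 := d21_6 F114205 (iv1 F114685) (iv5 F177684) (iv6 F374521) F374523 (iv6 F419284) F446003 F442626 (iv6 D159496) F114339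
theorem F446006 : act 7 n206924 = n207685 := d15_2 (iv0 F442493) F442623 F446002
def n207686 : Q := act 3 n132217
theorem D207686 : act 3 n132217 = n207686 := rfl
theorem F446007 : act 7 n207686 = n206878 := d8_2 (iv7 F418671) D207686 (iv3 D206878)
theorem F446008 : act 1 n206477 = n207686 := d15_1 (iv0 F441012) F446007 F442484
theorem F446009 : act 1 n207686 = n206478 := d15_1 F446008 (iv7 F445811) (iv2 F445812)
def n207687 : Q := act 4 n132217
theorem D207687 : act 4 n132217 = n207687 := rfl
theorem F446010 : act 2 n207687 = n200743 := d1_1 D207687 F417740 F418670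
theorem F446011 : act 7 n207687 = n206879 := d11_2 (iv7 F418671) D207687 (iv4 D206879)
theorem F446012 : act 5 n207687 = n195981 := d18_4 (iv1 F214454) F211238 (iv1 F211836) D207687 (iv4 D195981) F164410 (iv4 F362908) F165950 F343683
theorem F446013 : act 3 n207687 = n196030 := d20_3 F211238 (iv1 F211836) D207687 (iv1 F399123) F211171 F207406 (iv1 F96739) D132298 (iv3 F214453) (iv1 F214454)
theorem F446014 : act 1 n196120 = n207687 := d17_6 (iv1 F164439) (iv5 F178299) D201325 F420023 (iv4 F399906) F399907 F446012 F398951 F211433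
theorem F446015 : act 1 n200996 = n196120 := d15_0 F446014 F446011 F442488
def n207688 : Q := act 5 n132217
theorem D207688 : act 5 n132217 = n207688 := rfl
theorem F446016 : act 2 n207688 = n136340 := d2_1 D207688 (iv5 F417741) F418670
theorem F446017 : act 7 n207688 = n136341 := d13_2 (iv7 F418671) D207688 (iv5 F358293)
theorem F446018 : act 0 n207688 = n132241 := d17_2 (iv1 F211836) D207688 F211881 F96943 (iv5 F78521) D107563 (iv5 F358297) F214459 F211238
theorem F446019 : act 1 n207688 = n136339 := d17_8 D204569 F432900 F401659 (iv5 F172793) (iv4 F364006) F208193 D132217 D207688 (iv4 F366023)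
theorem F446020 : act 6 n199477 = n136337 := d21_5 (iv5 D207688) (iv1 D132217) (iv5 F208193) (iv6 F364005) D199477 (iv5 D136337) (iv1 D64097) D64099 (iv6 F219423) (iv1 F446019)
def n207689 : Q := act 6 n132217
theorem D207689 : act 6 n132217 = n207689 := rfl
theorem F446021 : act 2 n207689 = n206877 := d3_1 D207689 (iv6 D206877) F418670
def n207690 : Q := act 6 n132218
theorem D207690 : act 6 n132218 = n207690 := rfl
theorem F446022 : act 2 n207690 = n132219 := d3_1 D207690 (iv6 D132219) D132218
theorem F446023 : act 3 n207690 = n206895 := d7_1 D207690 (iv6 D206895) (iv3 F211833)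
theorem F446024 : act 5 n185789 = n207690 := d6_0 F446023 (iv5 F442542) (iv3 F362149)
def n207691 : Q := act 0 n132219
theorem D207691 : act 0 n132219 = n207691 := rfl
theorem F446025 : act 5 n207691 = n187783 := d17_3 F442800 F442796 D207691 F371477 F204785 (iv0 F353184) D187148 F369244 D187640
theorem F446026 : act 4 n207691 = n200701 := d18_1 D207691 F417552 (iv4 F442829) (iv5 D206980) F371078 (iv0 D187637) D187638 (iv0 F442798) F442796
theorem F446027 : act 3 n207691 = n187783 := d20_5 F214084 (iv1 F214089) (iv4 F97581) (iv3 F211838) D207691 F371477 (iv1 F204788) (iv4 F233554) (iv3 F365667) (iv1 F211803)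
theorem F446028 : act 6 n207556 = n207691 := d10_0 F446026 F417551 D207556
def n207692 : Q := act 1 n132219
theorem D207692 : act 1 n132219 = n207692 := rfl
theorem F446029 : act 5 n207692 = n187782 := d17_7 D90563 F353200 (iv1 F377347) F377344 (iv4 F442797) F442796 D207692 (iv0 D187782) (iv4 D90565)
theorem F446030 : act 4 n201134 = n207692 := d20_0 (iv1 D207692) (iv4 F214447) (iv3 D133387) (iv1 F211198) (iv3 F383696) (iv4 D191537) (iv1 D98525) D98526 D191541 F419212
theorem F446031 : act 6 n207692 = n201133 := d10_2 D201134 F446030 (iv4 D201133)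
def n207693 : Q := act 7 n132219
theorem D207693 : act 7 n132219 = n207693 := rfl
theorem F446032 : act 3 n207693 = n132220 := d8_1 D207693 (iv7 D132220) (iv3 F211838)
theorem F446033 : act 4 n207693 = n206529 := d11_1 D207693 F441202 F214447
theorem F446034 : act 6 n207693 = n132417 := d14_1 D207693 F212488 (iv6 D129448) (iv7 F96662) D132219
def n207694 : Q := act 3 n132221
theorem D207694 : act 3 n132221 = n207694 := rfl
theorem F446035 : act 7 n207694 = n206892 := d8_2 F355268 D207694 (iv3 D206892)
theorem F446036 : act 4 n207694 = n134883 := d20_6 (iv4 D53106) F47567 F47566 D62033 D132221 D207694 (iv1 D134883) F98703 (iv3 D60826) (iv1 F83821)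
def n207695 : Q := act 6 n132221
theorem D207695 : act 6 n132221 = n207695 := rfl
theorem F446037 : act 2 n207695 = n206894 := d3_1 D207695 (iv6 D206894) (iv2 F355399)
theorem F446038 : act 4 n207695 = n200980 := d10_1 D207695 F418608 F347376
theorem F446039 : act 7 n207695 = n200978 := d14_2 F355268 D207695 (iv6 D200978) F176916 (iv6 F355267)
theorem F446040 : act 0 n207695 = n206970 := d21_4 D115095 D201838 F421992 D207695 (iv6 D206970) D206969 F442779 (iv5 F439245) (iv6 D201837) (iv1 D115094)
theorem F446041 : act 1 n207695 = n132251 := d15_1 (iv0 F446040) (iv7 F444126) (iv2 F444129)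
def n207696 : Q := act 3 n132222
theorem D207696 : act 3 n132222 = n207696 := rfl
theorem F446042 : act 6 n207696 = n200974 := d7_2 (iv6 F347374) D207696 (iv3 D200974)
theorem F446043 : act 7 n207696 = n206893 := d8_2 (iv7 F355400) D207696 (iv3 D206893)
theorem F446044 : act 0 n132226 = n207696 := d20_4 F207663 F212288 (iv4 D132227) D132226 (iv3 D207696) (iv4 F347372) (iv1 F347378) F209253 (iv3 D129517) D129515
theorem F446045 : act 1 n134172 = n207696 := d15_0 (iv0 F446044) F211852 (iv2 F216216)
theorem F446046 : act 2 n206900 = n207696 := d3_3 F446042 (iv2 F418582) (iv6 F442554)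
def n207697 : Q := act 5 n132224
theorem D207697 : act 5 n132224 = n207697 := rfl
theorem F446047 : act 3 n207697 = n132225 := d6_1 D207697 (iv5 D132225) (iv3 F211849)
def n207698 : Q := act 1 n132225
theorem D207698 : act 1 n132225 = n207698 := rfl
theorem F446048 : act 1 n207698 = n132418 := d15_1 D207698 F212489 (iv2 F211851)
theorem F446049 : act 7 n207698 = n206890 := d15_2 F438971 D207698 (iv2 F442529)
theorem F446050 : act 5 n207698 = n205814 := d17_7 F217254 (iv5 D115439) (iv1 D53252) D53253 (iv4 F96666) D132225 D207698 (iv0 F437953) (iv4 F217252)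
theorem F446051 : act 2 n206891 = n207698 := d2_3 F446050 F437949 (iv5 F442532)
def n207699 : Q := act 1 n132226
theorem D207699 : act 1 n132226 = n207699 := rfl
theorem F446052 : act 7 n207699 = n206900 := d15_2 (iv0 F446044) D207699 F446046
theorem F446053 : act 2 n206893 = n207699 := d4_3 F446052 F446046 F446043
theorem F446054 : act 1 n207699 = n134172 := d15_0 F446045 F446043 F446053
def n207700 : Q := act 2 n132226
theorem D207700 : act 2 n132226 = n207700 := rfl
theorem F446055 : act 3 n207700 = n201034 := d0_2 D132226 D207700 F418822 (iv3 D129465) (iv2 F209633)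
theorem F446056 : act 4 n207700 = n134022 := d1_2 (iv4 F211853) D207700 (iv2 F215981)
theorem F446057 : act 5 n207700 = n197678 := d2_2 F443038 D207700 F445977
theorem F446058 : act 6 n207700 = n205639 := d3_2 (iv6 F363933) D207700 F437300
theorem F446059 : act 7 n207700 = n134172 := d4_2 (iv7 F211852) D207700 F216216
theorem F446060 : act 1 n207700 = n206893 := d15_0 (iv0 F442535) (iv7 F211852) D207700
theorem F446061 : act 1 n206900 = n207700 := d15_0 F446060 (iv7 F446043) (iv2 F446046)
def n207701 : Q := act 6 n132227
theorem D207701 : act 6 n132227 = n207701 := rfl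
theorem F446062 : act 2 n207701 = n133245 := d3_1 D207701 (iv6 D133245) (iv2 F211854)
theorem F446063 : act 3 n207701 = n164264 := d7_1 D207701 F349325 F327898
theorem F446064 : act 4 n207701 = n132228 := d10_1 D207701 (iv6 D132228) D132227
theorem F446065 : act 5 n207701 = n164261 := d12_1 D207701 (iv6 D164261) (iv5 F188743) F304077 (iv5 F211856)
theorem F446066 : act 7 n207701 = n187799 := d14_2 (iv7 F211855) D207701 F371530 F220096 F347270
theorem F446067 : act 0 n207701 = n187798 := d21_4 D62402 (iv1 F210247) (iv5 F211856) D207701 (iv6 F371525) (iv5 D152703) F305382 (iv5 F321680) (iv6 D132754) F208599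
theorem F446068 : act 0 n187797 = n207701 := d20_4 F374624 (iv1 F380161) (iv4 F380162) (iv3 F381032) F446063 (iv4 F349324) (iv1 F442123) (iv4 D206770) (iv3 F433869) F433872
def n207702 : Q := act 0 n132228
theorem D207702 : act 0 n132228 = n207702 := rfl
theorem F446069 : act 4 n207702 = n132308 := d18_1 D207702 (iv1 F212128) (iv4 F442674) F442675 F418386 F363939 F99188 D129156 (iv5 F345876)
theorem F446070 : act 2 n206767 = n207702 := d15_3 (iv0 D207702) (iv0 F444241) F444240
theorem F446071 : act 7 n207702 = n206904 := d4_2 F444240 F446070 (iv2 F444237)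
theorem F446072 : act 1 n187784 = n207702 := d15_1 F444242 F446071 (iv2 F444237)
theorem F446073 : act 5 n206896 = n207702 := d21_0 (iv1 F446072) F371482 D206734 F442002 (iv6 D201837) (iv5 F388473) (iv1 F388474) (iv5 D129454) D129455 D206896
def n207703 : Q := act 7 n132228
theorem D207703 : act 7 n132228 = n207703 := rfl
theorem F446074 : act 2 n207703 = n187784 := d4_1 D207703 F371481 (iv2 F211860)
theorem F446075 : act 3 n207703 = n205637 := d8_1 D207703 F437295 F363934
theorem F446076 : act 4 n207703 = n187799 := d11_1 D207703 (iv7 F446066) F446064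
theorem F446077 : act 5 n207703 = n205614 := d13_1 D207703 F437228 (iv5 F345876)
theorem F446078 : act 6 n207703 = n132409 := d14_1 D207703 F347267 (iv6 D129463) (iv7 F209634) D132228
theorem F446079 : act 1 n206904 = n207703 := d15_1 D206904 (iv7 D207703) F211860
theorem F446080 : act 1 n207703 = n206767 := d15_1 F446079 (iv7 F444240) F444237
def n207704 : Q := act 1 n132230
theorem D207704 : act 1 n132230 = n207704 := rfl
theorem F446081 : act 1 n207704 = n132409 := d15_1 D207704 F347267 (iv2 F211863)
theorem F446082 : act 7 n207704 = n132405 := d15_2 (iv0 F347268) D207704 F212467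
theorem F446083 : act 5 n207704 = n205738 := d17_7 (iv1 D134950) D134951 F365268 (iv5 F395935) F395934 (iv5 F325510) D207704 (iv0 F437643) F418831
theorem F446084 : act 4 n207704 = n132321 := d18_7 F423874 F423875 F437993 (iv4 D205821) F220092 (iv4 F325509) D207704 (iv0 F359747) D132481
theorem F446085 : act 3 n205742 = n207704 := d20_3 (iv4 F443069) (iv1 F443067) (iv4 F443064) (iv1 D207704) F325508 (iv4 D69716) (iv1 D32359) D32360 D69720 D148762
theorem F446086 : act 6 n205451 = n207704 := d21_3 (iv5 F437648) (iv1 D205740) (iv5 F436488) (iv1 D207704) (iv6 D132230) F209664 (iv1 D129834) (iv5 D60984) D60985 D129837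
theorem F446087 : act 2 n207704 = n132412 := d3_1 F446086 (iv6 F324947) (iv2 F436486)
def n207705 : Q := act 3 n132233
theorem D207705 : act 3 n132233 = n207705 := rfl
theorem F446088 : act 5 n207705 = n132540 := d6_2 (iv5 F212269) D207705 (iv3 D132540)
theorem F446089 : act 7 n207705 = n206906 := d8_2 F212268 D207705 (iv3 D206906)
def n207706 : Q := act 3 n132234
theorem D207706 : act 3 n132234 = n207706 := rfl
theorem F446090 : act 4 n207706 = n190373 := d5_2 F384475 D207706 F379598 F356679 (iv3 F384474)
theorem F446091 : act 5 n207706 = n132543 := d6_2 F212264 D207706 (iv3 D132543)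
theorem F446092 : act 7 n207706 = n206908 := d8_2 (iv7 F212266) D207706 (iv3 D206908)
theorem F446093 : act 0 n207706 = n201642 := d19_4 D98935 D191797 F384475 D207706 (iv5 F421221) (iv4 D201001) (iv3 F397967) (iv1 F397971) (iv5 F397970) (iv4 F437095) F437092 (iv1 D128762) (iv5 F95269) D129055 F207292 (iv1 F354765) (iv5 D98945) (iv4 D46294) D46293
def n207707 : Q := act 6 n132234
theorem D207707 : act 6 n132234 = n207707 := rfl
theorem F446094 : act 2 n207707 = n206907 := d3_1 D207707 (iv6 D206907) (iv2 F212265)
theorem F446095 : act 5 n207707 = n206723 := d12_1 D207707 (iv6 D206723) F207388 F325489 F212264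
def n207708 : Q := act 6 n132235
theorem D207708 : act 6 n132235 = n207708 := rfl
theorem F446096 : act 2 n207708 = n146945 := d3_1 D207708 (iv6 F429509) F429506
theorem F446097 : act 4 n207708 = n132236 := d10_1 D207708 (iv6 D132236) D132235
theorem F446098 : act 5 n207708 = n144444 := d12_1 D207708 (iv6 F432091) F432086 (iv6 F429501) F429505
theorem F446099 : act 0 n146826 = n207708 := d21_4 F105682 (iv1 F85264) D68834 D146826 (iv6 D207708) (iv5 F429505) (iv1 F429504) F314111 (iv6 D69402) D69399
theorem F446100 : act 7 n146946 = n207708 := d13_0 F446098 (iv7 F425009) F425008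
theorem F446101 : act 1 n146948 = n207708 := d15_1 F365824 (iv7 F446100) F398424
def n207709 : Q := act 2 n132241
theorem D207709 : act 2 n132241 = n207709 := rfl
theorem F446102 : act 3 n207709 = n136345 := d0_2 D132241 D207709 F219425 (iv3 D64237) F96680
theorem F446103 : act 5 n207709 = n132537 := d2_2 (iv5 F211881) D207709 (iv2 D132537)
theorem F446104 : act 7 n207709 = n136339 := d4_2 (iv7 F211882) D207709 F219421
theorem F446105 : act 1 n207709 = n136340 := d15_0 (iv0 D136340) (iv7 F211882) D207709
theorem F446106 : act 1 n136341 = n207709 := d15_0 F446105 (iv7 F445999) F445998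
theorem F446107 : act 4 n203797 = n207709 := d11_3 F446104 (iv4 F366023) (iv7 F429860)
def n207710 : Q := act 4 n132241
theorem D207710 : act 4 n132241 = n207710 := rfl
theorem F446108 : act 2 n207710 = n203797 := d1_1 D207710 F446107 (iv2 D207709)
theorem F446109 : act 3 n207710 = n135925 := d5_1 D207710 (iv4 D135925) F99403 (iv4 F96683) D132241
theorem F446110 : act 7 n207710 = n136342 := d11_2 (iv7 F211882) D207710 (iv4 D136342)
theorem F446111 : act 0 n207710 = n204570 := d17_0 F432902 (iv1 F405879) (iv5 F366892) (iv4 F433085) F433086 F211832 D207684 F446001 D207710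
theorem F446112 : act 6 n199756 = n207710 := d7_0 F446109 (iv6 F357730) D199756
theorem F446113 : act 1 n207710 = n204569 := d15_0 (iv0 D204569) (iv7 F429860) (iv2 F446108)
def n207711 : Q := act 6 n132241
theorem D207711 : act 6 n132241 = n207711 := rfl
theorem F446114 : act 3 n207711 = n132242 := d7_1 D207711 (iv6 D132242) D132241
theorem F446115 : act 4 n207711 = n199756 := d10_1 D207711 F446112 (iv4 D207710)
def n207712 : Q := act 0 n132242
theorem D207712 : act 0 n132242 = n207712 := rfl
theorem F446116 : act 4 n207712 = n199203 := d18_3 (iv1 D135934) (iv4 F211884) D207712 F411147 (iv4 F384164) (iv0 D130833) (iv4 F209387) (iv0 F444151) F444152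
theorem F446117 : act 6 n207712 = n199202 := d21_5 (iv5 D29436) D29434 (iv5 F96679) D132242 D207712 F411143 F221246 F338277 (iv6 D129456) F95397
theorem F446118 : act 0 n207712 = n136681 := d21_4 D199068 (iv1 F410528) (iv5 F411143) (iv6 F446117) (iv6 D136681) F100038 D129819 D207021 (iv6 F443008) (iv1 D199066)
def n207713 : Q := act 1 n132242
theorem D207713 : act 1 n132242 = n207713 := rfl
theorem F446119 : act 1 n207713 = n136681 := d15_1 D207713 F219817 (iv2 F211883)
theorem F446120 : act 4 n207713 = n205096 := d18_7 (iv1 D134602) F98486 F333830 F94030 (iv5 F99414) (iv4 F211884) D207713 F434957 F388448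
def n207714 : Q := act 5 n132242
theorem D207714 : act 5 n132242 = n207714 := rfl
theorem F446121 : act 2 n207714 = n136684 := d2_1 D207714 (iv5 D136684) (iv2 F211883)
theorem F446122 : act 6 n207714 = n132539 := d12_2 D132242 D207714 (iv5 D132539) (iv6 D62182) (iv5 F96679)
def n207715 : Q := act 7 n132242
theorem D207715 : act 7 n132242 = n207715 := rfl
theorem F446123 : act 2 n207715 = n136681 := d4_1 D207715 F219817 (iv2 F211883)
theorem F446124 : act 4 n207715 = n135935 := d11_1 D207715 (iv7 D135935) (iv4 F211884)
theorem F446125 : act 6 n207715 = n136345 := d14_1 D207715 (iv7 D136345) (iv6 D64100) (iv7 F96682) D132242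
theorem F446126 : act 1 n136683 = n207715 := d15_1 D136683 (iv7 D207715) F211883
theorem F446127 : act 1 n207715 = n136682 := d15_0 (iv0 D136682) (iv7 F219817) (iv2 F446123)
def n207716 : Q := act 6 n132243
theorem D207716 : act 6 n132243 = n207716 := rfl
theorem F446128 : act 3 n207716 = n132244 := d7_1 D207716 (iv6 D132244) D132243
theorem F446129 : act 0 n202515 = n207716 := d21_4 (iv5 F357459) (iv1 D115926) D115928 D202515 (iv6 D207716) F211885 (iv1 F328531) (iv5 F354511) (iv6 F356110) (iv1 F222487)
def n207717 : Q := act 1 n132244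
theorem D207717 : act 1 n132244 = n207717 := rfl
theorem F446130 : act 1 n207717 = n136440 := d15_1 D207717 (iv7 D136440) (iv2 F211887)
theorem F446131 : act 7 n207717 = n136437 := d15_2 (iv0 F420900) D207717 (iv2 F421489)
theorem F446132 : act 6 n199200 = n207717 := d21_3 (iv5 F402166) F402168 (iv5 F411134) (iv1 D207717) (iv6 D132244) F96685 (iv1 F96627) (iv5 F99870) D136487 F388478
theorem F446133 : act 3 n207717 = n202569 := d7_1 F446132 (iv6 D202569) F411135
theorem F446134 : act 2 n136438 = n207717 := d4_3 F446131 (iv2 F421489) F421487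
def n207718 : Q := act 5 n132244
theorem D207718 : act 5 n132244 = n207718 := rfl
theorem F446135 : act 2 n207718 = n136439 := d2_1 D207718 (iv5 D136439) (iv2 F211887)
theorem F446136 : act 6 n207718 = n135881 := d12_2 D132244 D207718 (iv5 D135881) (iv6 D63895) (iv5 F96685)
def n207719 : Q := act 3 n132245
theorem D207719 : act 3 n132245 = n207719 := rfl
theorem F446137 : act 4 n207719 = n196897 := d20_6 (iv4 F365822) F446099 F446097 F211876 D132245 D207719 F402206 (iv4 F441484) F441483 F219404
theorem F446138 : act 5 n206088 = n207719 := d16_1 D206088 F446137 (iv5 D196897) F165719 (iv5 F82733) (iv4 F176600) F204685 F204686 F204687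
theorem F446139 : act 1 n201638 = n207719 := d18_6 (iv1 F176532) (iv4 D113329) (iv1 F82690) D106985 F375140 (iv4 F421203) F446137 F402207 (iv5 D196432)
def n207720 : Q := act 4 n132245
theorem D207720 : act 4 n132245 = n207720 := rfl
theorem F446140 : act 3 n207720 = n139479 := d5_1 D207720 (iv4 F412378) F412377 (iv4 F446137) (iv3 D207719)
theorem F446141 : act 0 n135932 = n207720 := d20_1 F396548 (iv4 D207720) D207719 (iv1 F446139) (iv3 D201638) (iv4 D114907) (iv1 F83770) D115008 D201706 F421488
theorem F446142 : act 1 n136680 = n207720 := d15_0 (iv0 F446141) (iv7 F393978) F393975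
theorem F446143 : act 7 n136678 = n207720 := d8_0 F446140 (iv7 D139479) (iv3 F364001)
theorem F446144 : act 4 n207651 = n136678 := d11_3 F446143 (iv4 D207720) F445859
theorem F446145 : act 2 n207720 = n136677 := d15_3 (iv0 D136677) D136678 F446143
theorem F446146 : act 4 n136677 = n207650 := d1_2 D207720 F446145 F445858
theorem F446147 : act 6 n139470 = n207651 := d10_0 F446144 F364002 D139470
theorem F446148 : act 3 n188145 = n153704 := d20_5 (iv4 F446144) (iv1 D207651) F211746 (iv3 F219533) (iv1 F372473) (iv4 D153704) D153702 (iv4 F364624) (iv3 F393976) F393979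
theorem F446149 : act 7 n194680 = n188145 := d8_0 F446148 F373366 (iv3 F394073)
theorem F446150 : act 2 n188145 = n194681 := d15_3 F394074 F394071 F446149
theorem F446151 : act 2 n194680 = n188144 := d15_3 (iv0 D188144) D188145 (iv7 F446149)
theorem F446152 : act 7 n188144 = n194681 := d4_2 (iv7 F446149) F446151 (iv2 F446150)
def n207721 : Q := act 5 n132245
theorem D207721 : act 5 n132245 = n207721 := rfl
theorem F446153 : act 3 n207721 = n206088 := d6_1 D207721 F446138 (iv3 D207719)
theorem F446154 : act 7 n207721 = n205607 := d13_2 (iv7 F445859) D207721 (iv5 F445843)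
theorem F446155 : act 6 n206841 = n207721 := d14_5 F446154 (iv6 D205607) (iv7 F380828) D205715 (iv7 F443068)
theorem F446156 : act 0 n206687 = n207721 := d20_4 F95285 D60696 D129110 D206687 F446153 (iv4 D206088) (iv1 F204690) (iv4 F418516) F418515 (iv1 D129107)
def n207722 : Q := act 6 n132245
theorem D207722 : act 6 n132245 = n207722 := rfl
theorem F446157 : act 2 n207722 = n206919 := d3_1 D207722 (iv6 F445855) F445858
def n207723 : Q := act 3 n132246
theorem D207723 : act 3 n132246 = n207723 := rfl
theorem F446158 : act 5 n207723 = n206963 := d6_2 F437548 D207723 F442761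
theorem F446159 : act 7 n207723 = n206921 := d8_2 F445853 D207723 F445854
def n207724 : Q := act 4 n132246
theorem D207724 : act 4 n132246 = n207724 := rfl
theorem F446160 : act 2 n207724 = n136678 := d1_1 D207724 (iv4 F446144) (iv2 F445844)
theorem F446161 : act 7 n207724 = n136677 := d11_2 F445853 D207724 F446146
theorem F446162 : act 1 n135932 = n207724 := d15_1 (iv0 F446141) F446161 (iv2 F446145)
theorem F446163 : act 1 n207724 = n136680 := d15_1 F446162 (iv7 D136680) (iv2 F218651)
theorem F446164 : act 6 n139466 = n207724 := d21_3 F410509 (iv1 F180521) D139466 (iv1 F446162) (iv6 D135932) F99411 (iv1 F97752) (iv5 F100013) (iv6 F338255) (iv1 F410507)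
def n207725 : Q := act 6 n132246
theorem D207725 : act 6 n132246 = n207725 := rfl
theorem F446165 : act 2 n207725 = n139470 := d3_1 D207725 F446147 (iv2 F445844)
theorem F446166 : act 4 n207725 = n139466 := d10_1 D207725 F446164 (iv4 D207724)
theorem F446167 : act 5 n207725 = n136857 := d12_1 D207725 F365140 (iv5 F380826) D205717 F437548
theorem F446168 : act 0 n199202 = n207725 := d17_0 F446167 F418583 (iv5 F443104) F443105 F402183 F402181 (iv5 F411134) (iv0 D199200) D199202
theorem F446169 : act 1 n199223 = n207725 := d17_8 (iv1 F224265) (iv5 D110895) (iv1 D51135) D51137 D110902 D199068 (iv0 F418340) (iv5 F418342) F446166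
def n207726 : Q := act 0 n132247
theorem D207726 : act 0 n132247 = n207726 := rfl
theorem F446170 : act 3 n207726 = n200676 := d20_5 (iv4 D62195) F96942 (iv4 F212724) F361172 D207726 (iv4 D200676) F352200 (iv4 F207152) F207151 F203328
theorem F446171 : act 5 n207726 = n204635 := d21_8 F388473 (iv1 D115094) D115095 F179228 F83832 D62042 D132247 D207726 (iv6 D204635) (iv1 F388475)
def n207727 : Q := act 1 n132247
theorem D207727 : act 1 n132247 = n207727 := rfl
theorem F446172 : act 6 n205740 = n207727 := d21_3 (iv5 D129839) D129837 (iv5 F437648) (iv1 D207727) F211889 (iv5 D62045) D62043 D132250 (iv6 F443089) (iv1 D207042)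
def n207728 : Q := act 0 n132249
theorem D207728 : act 0 n132249 = n207728 := rfl
def n207729 : Q := act 1 n132249
theorem D207729 : act 1 n132249 = n207729 := rfl
def n207730 : Q := act 2 n132249
theorem D207730 : act 2 n132249 = n207730 := rfl
theorem F446173 : act 3 n207730 = n206970 := d0_2 D132249 D207730 F444129 (iv3 D207281) F209270
theorem F446174 : act 6 n207730 = n206737 := d3_2 (iv6 F211891) D207730 (iv2 D206737)
theorem F446175 : act 1 n207730 = n206877 := d15_0 (iv0 F445142) F445141 D207730
def n207731 : Q := act 5 n132249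
theorem D207731 : act 5 n132249 = n207731 := rfl
theorem F446176 : act 3 n207731 = n132250 := d6_1 D207731 (iv5 D132250) D132249
def n207732 : Q := act 4 n132250
theorem D207732 : act 4 n132250 = n207732 := rfl
theorem F446177 : act 2 n207732 = n206800 := d1_1 D207732 F442241 (iv2 F212996)
theorem F446178 : act 6 n207732 = n132260 := d10_2 F443089 D207732 (iv4 F443087)
theorem F446179 : act 7 n207732 = n206805 := d11_2 (iv7 F212993) D207732 F442253
theorem F446180 : act 5 n207732 = n203965 := d16_1 D207732 (iv4 D203965) (iv5 D121789) (iv4 F327231) F168988 F168991 D132252 (iv7 F212994) (iv2 F212996)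
theorem F446181 : act 0 n207732 = n205674 := d17_0 F443203 (iv1 F443205) D207075 F443210 (iv5 D205744) (iv0 D126569) D126571 (iv0 F211892) D207732
def n207733 : Q := act 4 n132252
theorem D207733 : act 4 n132252 = n207733 := rfl
theorem F446182 : act 2 n207733 = n206805 := d1_1 D207733 F442253 (iv2 F212992)
theorem F446183 : act 5 n207733 = n205460 := d9_2 D132252 D207733 (iv4 D205460) F327266 (iv4 F327265) (iv5 F165661) (iv4 F164308) D132250 D207732 F446180 (iv4 D203965) (iv5 D121789) (iv4 F327231) F168988 F168991
theorem F446184 : act 7 n207733 = n206800 := d11_2 F212994 D207733 F442241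
theorem F446185 : act 1 n207733 = n205674 := d18_6 (iv1 F219397) F219394 (iv1 F168986) F168991 D132252 D207733 (iv4 D205674) (iv0 F414978) (iv5 D200091)
def n207734 : Q := act 6 n132252
theorem D207734 : act 6 n132252 = n207734 := rfl
def n207735 : Q := act 3 n132254
theorem D207735 : act 3 n132254 = n207735 := rfl
theorem F446186 : act 5 n207735 = n132672 := d6_2 (iv5 F211895) D207735 (iv3 D132672)
theorem F446187 : act 6 n207735 = n206670 := d7_2 F437276 D207735 (iv3 F441819)
theorem F446188 : act 4 n207735 = n206449 := d20_6 (iv4 D60995) F95525 (iv4 F208167) F345872 D132254 D207735 (iv1 D206449) (iv4 F396504) F396503 F173088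
def n207736 : Q := act 4 n132254
theorem D207736 : act 4 n132254 = n207736 := rfl
theorem F446189 : act 2 n207736 = n207075 := d1_1 D207736 F443210 F437667
theorem F446190 : act 7 n207736 = n207077 := d11_2 F437682 D207736 F443214
theorem F446191 : act 5 n207736 = n200079 := d16_1 D207736 (iv4 D200079) (iv5 F175192) (iv4 F168169) (iv5 F100099) F168155 (iv5 F211896) (iv7 F437669) F437667
theorem F446192 : act 0 n207736 = n205796 := d17_0 F437893 (iv1 F436543) (iv5 F446183) (iv4 D207733) (iv5 D132252) F211755 (iv5 F442971) F442973 D207736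
def n207737 : Q := act 4 n132255
theorem D207737 : act 4 n132255 = n207737 := rfl
theorem F446193 : act 2 n207737 = n207077 := d1_1 D207737 F443214 F437681
theorem F446194 : act 3 n207737 = n205770 := d5_1 D207737 F437804 F367811 D190722 F380807
theorem F446195 : act 5 n207737 = n200077 := d9_2 (iv5 F211896) D207737 (iv4 D200077) F175191 (iv4 F168163) F161107 (iv4 F168170) (iv5 F211895) D207736 F446191 (iv4 D200079) (iv5 F175192) (iv4 F168169) (iv5 F100099) F168155
theorem F446196 : act 7 n207737 = n207075 := d11_2 F437669 D207737 F443210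
theorem F446197 : act 1 n207737 = n205796 := d18_8 (iv1 F436543) (iv4 D205460) F324943 (iv4 F207387) (iv5 F361171) (iv4 D132256) D132255 D207737 F437893
def n207738 : Q := act 6 n132255
theorem D207738 : act 6 n132255 = n207738 := rfl
theorem F446198 : act 5 n207738 = n207035 := d21_6 D206830 (iv1 F442965) (iv5 D207014) D207015 F442972 D207738 (iv1 F443073) (iv5 D206842) (iv6 D129421) D129417
def n207739 : Q := act 0 n132256
theorem D207739 : act 0 n132256 = n207739 := rfl
theorem F446199 : act 5 n207739 = n200082 := d17_1 D207739 (iv1 D200082) D200083 (iv4 F437210) (iv5 F437212) F203571 (iv5 F211895) (iv0 D132254) D132256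
theorem F446200 : act 4 n207739 = n132681 := d18_3 (iv1 D132255) D132256 D207739 (iv5 D132681) (iv4 D62263) (iv0 D29461) (iv4 F47235) D62258 (iv5 F211896)
theorem F446201 : act 1 n205463 = n207739 := d15_0 (iv0 D207739) F361166 (iv2 F436553)
theorem F446202 : act 2 n205740 = n207739 := d1_3 F446200 (iv2 F437690) F437692
theorem F446203 : act 7 n205739 = n207739 := d11_0 F446200 (iv7 F437709) F437708
def n207740 : Q := act 1 n132256
theorem D207740 : act 1 n132256 = n207740 := rfl
theorem F446204 : act 1 n207740 = n205463 := d15_1 D207740 F436555 F361169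
theorem F446205 : act 7 n207740 = n205740 := d15_2 (iv0 D207739) D207740 F446202
theorem F446206 : act 5 n207740 = n200081 := d17_7 D112602 F175191 F323881 F320258 (iv4 F207387) (iv5 F361171) D207740 (iv0 D200081) (iv4 D112604)
theorem F446207 : act 4 n207740 = n132684 := d17_9 (iv1 F219392) (iv5 D136321) (iv1 F175226) D132260 (iv4 F443087) F443086 F436548 (iv5 F361171) D207740
theorem F446208 : act 2 n205739 = n207740 := d1_3 F446207 (iv2 F437707) F437708
def n207741 : Q := act 5 n132258
theorem D207741 : act 5 n132258 = n207741 := rfl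
theorem F446209 : act 3 n207741 = n205802 := d6_1 D207741 (iv5 F437924) (iv3 F383898)
theorem F446210 : act 7 n207741 = n198168 := d13_2 (iv7 F211900) D207741 (iv5 D198168)
theorem F446211 : act 4 n207741 = n205682 := d16_2 (iv4 F211898) D207741 (iv5 F442237) F442232 (iv5 D197065) F165982 F79700 D64090 (iv2 F168995)
theorem F446212 : act 0 n207741 = n132684 := d17_2 D132258 D207741 (iv5 D132684) (iv4 D62267) F93426 F93217 (iv5 F96614) (iv0 F96618) D62049
theorem F446213 : act 1 n207741 = n132681 := d17_6 (iv1 F168421) F98451 (iv1 F168429) (iv5 F168997) (iv4 F211898) D207741 (iv5 D132681) F179351 F93631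
theorem F446214 : act 6 n207741 = n205681 := d21_3 (iv5 D132260) D132258 D207741 F437447 F437762 (iv5 F437747) (iv1 F203610) D205657 (iv6 F437424) (iv1 F437425)
def n207742 : Q := act 0 n132259
theorem D207742 : act 0 n132259 = n207742 := rfl
theorem F446215 : act 4 n207742 = n207386 := d18_3 F444495 F217930 D207742 (iv5 D207386) D207385 F444628 F210038 D133393 (iv5 F444494)
theorem F446216 : act 5 n207742 = n196260 := d19_1 D207742 F400087 F359001 (iv1 F112731) F70736 F70734 (iv3 F33929) (iv1 D18003) (iv5 D8492) (iv4 F13096) F13095 (iv1 F16975) D12950 (iv4 F324969) (iv3 F39696) (iv1 F81978) (iv5 F81979) D62049 D132259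
theorem F446217 : act 3 n207742 = n200982 := d20_5 F47060 D29379 D62049 D132259 D207742 F418615 F379623 (iv4 F379624) (iv3 D132251) (iv1 D62044)
theorem F446218 : act 6 n200981 = n207742 := d7_0 F446217 (iv6 D200982) D200981
theorem F446219 : act 7 n206849 = n207742 := d8_0 F446217 F418617 (iv3 F442399)
def n207743 : Q := act 2 n132259
theorem D207743 : act 2 n132259 = n207743 := rfl
theorem F446220 : act 6 n207743 = n206747 := d3_2 (iv6 F211902) D207743 (iv2 D206747)
theorem F446221 : act 1 n207743 = n206849 := d15_0 (iv0 F442402) F414963 D207743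
def n207744 : Q := act 5 n132259
theorem D207744 : act 5 n132259 = n207744 := rfl
theorem F446222 : act 3 n207744 = n132260 := d6_1 D207744 (iv5 D132260) D132259
theorem F446223 : act 0 n207744 = n189820 := d21_1 D207744 F437442 (iv6 D205680) (iv1 F203431) (iv6 F161927) D195268 (iv1 F421620) (iv5 F421618) D207658 F445884
def n207745 : Q := act 0 n132262
theorem D207745 : act 0 n132262 = n207745 := rfl
def n207746 : Q := act 1 n132262
theorem D207746 : act 1 n132262 = n207746 := rfl
theorem F446224 : act 3 n134266 = n207746 := d20_3 (iv4 F345861) (iv1 F430213) F430211 (iv1 D207746) (iv3 D132262) (iv4 D62052) (iv1 D29380) (iv4 F47060) (iv3 F96677) (iv1 F345875)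
theorem F446225 : act 5 n207746 = n134264 := d6_2 D134266 F446224 F216288
theorem F446226 : act 7 n207746 = n206861 := d8_2 F443161 F446224 F443165
theorem F446227 : act 6 n206694 = n207746 := d14_5 F446226 (iv6 D206861) (iv7 F217708) D207677 (iv7 F445970)
theorem E103937 : n207745 = n207676 := ((c15_4 (iv0 D207745) D207746 F446226 (iv2 F445965))).symm
theorem F446228 : act 1 n207676 = n132262 := (sb E103937 (iv0 D207745))
def n207747 : Q := act 2 n132262
theorem D207747 : act 2 n132262 = n207747 := rfl
def n207748 : Q := act 5 n132262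
theorem D207748 : act 5 n132262 = n207748 := rfl
theorem F446229 : act 3 n207748 = n132263 := d6_1 D207748 (iv5 D132263) D132262
theorem F446230 : act 0 n205789 = n207748 := d20_4 F203347 F167942 (iv4 F207401) (iv3 F437872) F446229 (iv4 F443080) (iv1 F443081) F211744 F203344 D126479
def n207749 : Q := act 6 n132262
theorem D207749 : act 6 n132262 = n207749 := rfl
theorem F446231 : act 3 n207749 = n132264 := d7_1 D207749 (iv6 D132264) D132262
theorem F446232 : act 7 n207749 = n206752 := d14_2 F414975 D207749 (iv6 D206752) (iv7 F409757) (iv6 F414974)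
def n207750 : Q := act 6 n132263
theorem D207750 : act 6 n132263 = n207750 := rfl
def n207751 : Q := act 0 n132264
theorem D207751 : act 0 n132264 = n207751 := rfl
theorem F446233 : act 5 n207751 = n205702 := d17_1 D207751 (iv1 D205702) (iv5 D126538) F93642 F45597 F101896 D62484 (iv0 F101903) (iv4 F211910)
theorem F446234 : act 4 n207751 = n135483 := d18_3 F203461 (iv4 F211910) D207751 (iv5 D135483) F203456 F203455 F95383 F93643 D126540
theorem F446235 : act 2 n206683 = n207751 := d15_3 (iv0 D207751) (iv0 F445912) F445911
theorem F446236 : act 1 n198887 = n207751 := d15_0 (iv0 D207751) F211911 (iv2 F409754)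
theorem F446237 : act 7 n207751 = n206754 := d15_2 (iv0 F445914) F446236 (iv2 F445909)
theorem F446238 : act 6 n132385 = n207751 := d14_5 F446237 (iv6 F442062) F214091 F213976 F213971
theorem F446239 : act 3 n207751 = n200837 := d7_1 F446238 F418111 (iv3 F358206)
def n207752 : Q := act 5 n132264
theorem D207752 : act 5 n132264 = n207752 := rfl
theorem F446240 : act 7 n207752 = n206755 := d13_2 (iv7 F211911) D207752 (iv5 D206755)
theorem F446241 : act 0 n207752 = n205806 := d17_2 F445912 D207752 (iv5 D205806) F203667 D135500 (iv0 F217909) (iv5 F219399) (iv0 F219402) (iv4 F445910)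
theorem F446242 : act 1 n207752 = n205808 := d17_6 (iv1 F93749) D126620 F203683 (iv5 F96695) (iv4 F211910) D207752 (iv5 D205808) F203671 F96601
def n207753 : Q := act 6 n132266
theorem D207753 : act 6 n132266 = n207753 := rfl
theorem F446243 : act 2 n207753 = n206491 := d3_1 D207753 (iv6 D206491) (iv2 F214144)
theorem F446244 : act 3 n207753 = n157826 := d7_1 D207753 F418058 (iv3 F418057)
theorem F446245 : act 4 n207753 = n206771 := d10_1 D207753 (iv6 D206771) F211918
theorem F446246 : act 5 n207753 = n157825 := d12_1 D207753 (iv6 F430125) (iv5 F441607) (iv6 D206619) F211929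
theorem F446247 : act 7 n207753 = n206510 := d14_2 (iv7 F214150) D207753 (iv6 F441142) F438957 F436929
theorem F446248 : act 0 n207753 = n132369 := d21_4 D60664 D129018 F211929 D207753 F212370 F364570 D205557 F436982 (iv6 D129003) F207220
theorem F446249 : act 0 n206511 = n207753 := d17_0 F446246 F341941 F341942 F211498 F322724 D79597 (iv5 F337766) F337765 (iv4 F441143)
def n207754 : Q := act 6 n132267
theorem D207754 : act 6 n132267 = n207754 := rfl
theorem F446250 : act 2 n207754 = n132268 := d3_1 D207754 (iv6 D132268) D132267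
theorem F446251 : act 3 n207754 = n206481 := d7_1 D207754 (iv6 D206481) (iv3 F211930)
theorem F446252 : act 4 n207754 = n132283 := d10_1 D207754 (iv6 D132283) (iv4 F211931)
theorem F446253 : act 5 n207754 = n138064 := d12_1 D207754 (iv6 D138064) (iv5 F176605) F348763 F246740
theorem F446254 : act 7 n207754 = n204886 := d14_2 (iv7 F211932) D207754 (iv6 F443419) F438830 F436935
theorem F446255 : act 0 n207754 = n204887 := d21_10 F434022 (iv1 F377711) (iv5 F377714) (iv6 F213123) (iv1 F365893) (iv6 D129003) (iv5 F207252) (iv1 F246743) F246740 D207754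
theorem F446256 : act 0 n189780 = n207754 := d21_4 F341955 (iv1 D124518) D124520 (iv6 F377713) (iv6 D207754) (iv5 F246740) F246742 (iv5 D128980) D128981 F337859
def n207755 : Q := act 0 n132268
theorem D207755 : act 0 n132268 = n207755 := rfl
theorem F446257 : act 3 n207755 = n187792 := d20_5 (iv4 D132275) (iv1 D62057) (iv4 F96700) (iv3 F211942) D207755 (iv4 D187792) (iv1 F364339) D188616 F374198 (iv1 F211982)
theorem F446258 : act 4 n207755 = n154348 := d20_8 (iv4 D42360) D42358 D90501 F319947 (iv1 D62063) (iv3 F96712) (iv4 F211943) D207755 (iv3 F369517) (iv1 D90507)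
theorem F446259 : act 5 n207755 = n189781 := d21_0 (iv1 F377729) (iv5 F341760) (iv6 F361230) (iv1 D129015) (iv6 D60661) D60660 (iv1 F208791) F207160 D132268 D207755
theorem F446260 : act 2 n204887 = n207755 := d15_3 (iv0 D207755) (iv0 F361750) D204887
theorem F446261 : act 1 n204886 = n207755 := d15_0 (iv0 D207755) (iv7 F445228) F445225
theorem F446262 : act 7 n207755 = n189780 := d15_2 D204886 F446261 F377712
def n207756 : Q := act 5 n132268
theorem D207756 : act 5 n132268 = n207756 := rfl
theorem F446263 : act 2 n207756 = n138064 := d2_1 D207756 (iv5 F446253) F446250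
theorem F446264 : act 3 n207756 = n132271 := d6_1 D207756 (iv5 D132271) (iv3 F211942)
theorem F446265 : act 6 n207756 = n138060 := d12_2 D132268 D207756 F221304 (iv6 F348766) F207160
theorem F446266 : act 7 n207756 = n207576 := d13_2 F445228 D207756 F445521
theorem F446267 : act 0 n207756 = n207595 := d17_2 F361750 D207756 F445615 F354361 (iv5 D154341) (iv0 D73120) D73122 D154349 F348867
theorem F446268 : act 4 n207756 = n138061 := d17_4 (iv1 D180360) (iv5 F199312) F361750 D207756 (iv5 F365543) (iv0 D185377) F135224 D183492 F369419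
theorem F446269 : act 1 n207756 = n207527 := d17_6 F336586 D132914 F213521 F208549 (iv4 F211943) D207756 F445304 (iv0 F436954) F436952
def n207757 : Q := act 4 n132271
theorem D207757 : act 4 n132271 = n207757 := rfl
theorem F446270 : act 2 n207757 = n206485 := d1_1 D207757 (iv4 D206485) (iv2 F211956)
theorem F446271 : act 7 n207757 = n207557 := d11_2 (iv7 F211957) D207757 F445437
theorem F446272 : act 0 n207757 = n207560 := d18_2 (iv1 F211959) D207757 F445447 F211441 F96521 (iv0 F100246) D60959 (iv0 F164014) D106618
theorem F446273 : act 1 n207757 = n196059 := d18_6 (iv1 F211982) (iv4 D132275) (iv1 D62057) (iv4 F96700) D132271 D207757 (iv4 D196059) D196058 F399247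
theorem F446274 : act 3 n207757 = n206822 := d20_3 (iv4 D196068) (iv1 F211959) D207757 (iv1 F442323) F437832 F437428 (iv1 F259204) (iv4 F397660) (iv3 F442731) (iv1 F442732)
def n207758 : Q := act 3 n132273
theorem D207758 : act 3 n132273 = n207758 := rfl
theorem F446275 : act 2 n207758 = n191620 := d0_1 D207758 (iv3 F421350) F441045 (iv3 D206486) (iv2 F211967)
theorem F446276 : act 4 n207758 = n191625 := d5_2 D132273 D207758 F384032 F217062 (iv3 D132272)
theorem F446277 : act 5 n207758 = n186717 := d6_2 F445425 D207758 (iv3 F445427)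
theorem F446278 : act 6 n207758 = n190558 := d7_2 (iv6 F211968) D207758 F384027
theorem F446279 : act 7 n207758 = n206488 := d8_2 (iv7 F211969) D207758 (iv3 D206488)
theorem F446280 : act 0 n207758 = n206504 := d20_4 F96700 D62056 D132273 D207758 F441118 (iv4 D193172) (iv1 F308317) (iv4 F242048) (iv3 F365503) (iv1 D132270)
theorem F446281 : act 0 n206422 = n207758 := d20_4 (iv4 F419205) (iv1 F437137) (iv4 F441661) F441660 (iv3 D207758) (iv4 D132273) (iv1 F96704) (iv4 F206977) (iv3 F436912) (iv1 F436916)
def n207759 : Q := act 5 n132278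
theorem D207759 : act 5 n132278 = n207759 := rfl
theorem F446282 : act 2 n207759 = n200859 := d2_1 D207759 F418185 F212058
theorem F446283 : act 6 n207759 = n200873 := d12_2 (iv6 F359785) D207759 (iv5 D200873) (iv6 D113583) D113582
theorem F446284 : act 7 n207759 = n206625 := d13_2 F212057 D207759 F441635
theorem F446285 : act 4 n207759 = n139021 := d16_2 D132278 D207759 (iv5 D139021) F313040 F310807 (iv4 D62884) (iv5 F211928) (iv7 F211994) (iv2 F211996)
theorem F446286 : act 0 n207759 = n207099 := d17_2 F316697 D207759 (iv5 D207099) (iv4 F208708) (iv5 F212279) (iv0 F212281) (iv5 F311925) (iv0 D128270) D128272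
theorem F446287 : act 1 n207759 = n206525 := d17_6 F208360 (iv5 F23620) D29754 (iv5 F211920) D132278 D207759 F441192 F208712 (iv4 D61119)
def n207760 : Q := act 5 n132281
theorem D207760 : act 5 n132281 = n207760 := rfl
theorem F446288 : act 2 n207760 = n206625 := d2_1 D207760 F441635 (iv2 F212063)
theorem F446289 : act 3 n207760 = n195110 := d6_1 D207760 F395813 F343574
theorem F446290 : act 4 n207760 = n139018 := d9_1 D207760 (iv5 D139018) F313032 F310795 (iv4 D62879) (iv5 F211920) D132278 D207759 F446285 (iv5 D139021) F313040 F310807 (iv4 D62884) (iv5 F211928) D132281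
theorem F446291 : act 6 n207760 = n196641 := d12_2 F378168 D207760 F401298 (iv6 F366911) (iv5 F378167)
theorem F446292 : act 7 n207760 = n200859 := d13_2 (iv7 F212064) D207760 F418185
theorem F446293 : act 0 n207760 = n206525 := d17_2 (iv1 F212214) D207760 F441192 F316696 (iv5 D82504) D82503 (iv5 F302483) F311930 D132315
theorem F446294 : act 1 n207760 = n207099 := d17_6 (iv1 F208358) D28971 (iv1 F47846) (iv5 F211928) D132281 D207760 (iv5 D207099) F208707 F95648
def n207761 : Q := act 0 n132283
theorem D207761 : act 0 n132283 = n207761 := rfl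
theorem F446295 : act 5 n207761 = n207010 := d17_1 D207761 (iv1 D207010) (iv5 D129798) (iv4 F208143) F377714 F377711 (iv5 F434022) (iv0 F446255) F446252
theorem F446296 : act 6 n207010 = n174314 := d21_3 F342772 D207761 F446295 (iv1 D174314) (iv6 F342768) F342767 (iv1 F308028) D132962 F213596 (iv1 F342770)
theorem F446297 : act 6 n207761 = n206814 := d21_5 (iv5 F95652) (iv1 F310686) (iv5 F312960) D132283 D207761 F442283 (iv1 D130401) (iv5 D61190) (iv6 D28976) F208359
theorem F446298 : act 2 n132284 = n207761 := d3_3 F446297 (iv2 F442284) (iv6 F366859)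
theorem F446299 : act 0 n207761 = n132286 := d21_4 D132905 (iv1 F213492) (iv5 F442283) (iv6 F446297) F212070 D132508 (iv1 F438502) (iv5 F438505) (iv6 D130394) (iv1 F97260)
theorem F446300 : act 7 n132285 = n207761 := d15_2 (iv0 D132284) D132285 (iv2 F446298)
def n207762 : Q := act 1 n132283
theorem D207762 : act 1 n132283 = n207762 := rfl
theorem F446301 : act 1 n207762 = n132286 := d15_1 D207762 (iv7 D132286) (iv2 F212067)
theorem F446302 : act 7 n207762 = n132284 := d15_2 (iv0 D207761) D207762 F446298
theorem F446303 : act 3 n164290 = n207762 := d20_3 F438185 F397607 (iv4 F338555) (iv1 D207762) F212068 F342198 (iv1 F301894) (iv4 F433871) F433869 F438188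
theorem F446304 : act 5 n207009 = n207762 := d21_0 (iv1 D207762) (iv5 F342772) (iv6 D127899) (iv1 F94636) (iv6 F306547) D89255 F328291 (iv5 F130079) (iv6 F320514) D207009
theorem F446305 : act 6 n206764 = n207762 := d21_3 D132644 F354305 (iv5 F442096) (iv1 D207762) (iv6 D132283) F312960 F310685 (iv5 D61120) D61121 (iv1 F341753)
theorem F446306 : act 2 n207762 = n132285 := d3_1 F446305 F421475 F442099
def n207763 : Q := act 7 n132283
theorem D207763 : act 7 n132283 = n207763 := rfl
theorem F446307 : act 2 n207763 = n132286 := d4_1 D207763 (iv7 D132286) (iv2 F212067)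
theorem F446308 : act 3 n207763 = n204866 := d8_1 D207763 F433921 (iv3 F212068)
theorem F446309 : act 4 n207763 = n204886 := d11_1 D207763 (iv7 F446254) F446252
theorem F446310 : act 5 n207763 = n204865 := d13_1 D207763 F433915 F342772
theorem F446311 : act 6 n207763 = n132507 := d14_1 D207763 F212647 (iv6 D129233) (iv7 F96708) D132283
theorem F446312 : act 1 n132285 = n207763 := d15_1 D132285 (iv7 D207763) F212067
theorem F446313 : act 1 n207763 = n132284 := d15_1 F446312 (iv7 F446302) F446306
def n207764 : Q := act 4 n132284
theorem D207764 : act 4 n132284 = n207764 := rfl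
theorem F446314 : act 3 n207764 = n154232 := d5_1 D207764 F242342 F397632 F397631 F366860
theorem F446315 : act 0 n207764 = n207623 := d17_0 (iv5 D207623) F365454 (iv5 F365926) F213508 D132914 (iv0 F433916) (iv5 F446310) F446313 D207764
theorem F446316 : act 1 n207764 = n206315 := d18_8 F417156 (iv4 F441520) F441522 (iv4 F443408) F443411 (iv4 F446309) F446313 D207764 F440203
def n207765 : Q := act 5 n132284
theorem D207765 : act 5 n132284 = n207765 := rfl
theorem F446317 : act 2 n207765 = n207010 := d2_1 D207765 (iv5 F446295) (iv2 F446298)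
theorem F446318 : act 3 n207765 = n197617 := d6_1 D207765 F405036 F366860
theorem F446319 : act 7 n207765 = n207009 := d13_2 F446302 D207765 F446304
theorem F446320 : act 0 n207765 = n132968 := d17_2 D132284 D207765 (iv5 D132968) (iv4 F354354) F341760 F377729 (iv5 F446259) (iv0 D207755) F211943
theorem F446321 : act 4 n207765 = n185247 := d17_4 F213521 F208549 D132284 D207765 (iv5 F310884) (iv0 D153829) (iv5 D72765) D72764 (iv4 F354984)
theorem F446322 : act 0 n132651 = n207765 := d21_10 (iv5 D207765) (iv1 F446313) F446310 F433914 (iv1 F392923) F392919 F336296 F336300 (iv5 F192181) (iv6 F361987)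
def n207766 : Q := act 3 n132285
theorem D207766 : act 3 n132285 = n207766 := rfl
theorem F446323 : act 2 n207766 = n207306 := d0_1 D207766 (iv3 F444252) (iv2 F374887) F446303 F446306
theorem F446324 : act 6 n207766 = n187797 := d7_2 (iv6 F421475) D207766 F381032
theorem F446325 : act 0 n207766 = n206712 := d20_4 (iv4 F445727) F445728 F421474 D207766 F441943 F438242 (iv1 F220602) F352100 (iv3 F440194) (iv1 F440197)
theorem F446326 : act 0 n207307 = n207766 := d20_4 (iv4 F374866) (iv1 F374868) (iv4 F371513) (iv3 F444255) (iv3 D207766) (iv4 F421474) (iv1 F440204) (iv4 D206315) F206356 D180746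
theorem F446327 : act 7 n207305 = n207766 := d15_2 F444251 F444258 F446323
theorem F446328 : act 3 n207761 = n207305 := d8_3 F446327 (iv3 D207766) F446300
theorem F446329 : act 4 n206784 = n207305 := d20_2 (iv4 F207504) D206784 (iv3 F446328) F446299 F212069 F96728 (iv1 F47077) D60746 D129220 F358022
def n207767 : Q := act 5 n132285
theorem D207767 : act 5 n132285 = n207767 := rfl
theorem F446330 : act 2 n207767 = n207009 := d2_1 D207767 F446304 F446306
theorem F446331 : act 6 n207767 = n146759 := d12_2 (iv6 F421475) D207767 (iv5 F348852) (iv6 F433940) F433938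
theorem F446332 : act 7 n207767 = n207010 := d13_2 (iv7 F446300) D207767 (iv5 F446295)
theorem F446333 : act 4 n207767 = n157581 := d16_6 F337986 F135224 (iv4 F364817) D201702 F421474 D207767 F248344 F353689 F353692
theorem F446334 : act 0 n207767 = n132651 := d17_2 (iv1 F446312) D207767 (iv5 D132651) (iv4 F211450) (iv5 F359031) (iv0 D180359) (iv5 F199312) D204886 (iv4 F446309)
theorem F446335 : act 1 n207767 = n132968 := d17_6 D132948 (iv5 F394695) F377746 D201702 F421474 D207767 (iv5 D132968) (iv0 D62393) (iv4 F97277)
def n207768 : Q := act 5 n132287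
theorem D207768 : act 5 n132287 = n207768 := rfl
theorem F446336 : act 2 n207768 = n187489 := d2_1 D207768 F370547 F336053
theorem F446337 : act 3 n207768 = n132288 := d6_1 D207768 (iv5 D132288) D132287
theorem F446338 : act 6 n207768 = n156666 := d12_2 (iv6 F306715) D207768 F346427 (iv6 D75623) D75622
theorem F446339 : act 7 n207768 = n202771 := d13_2 (iv7 F212071) D207768 F425513
theorem F446340 : act 4 n207768 = n147806 := d17_4 (iv1 F330899) F319755 (iv1 F319754) D207768 (iv5 F409646) (iv0 D162584) (iv5 D78073) D78072 (iv4 F344838)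
theorem F446341 : act 0 n207768 = n132802 := d21_1 D207768 (iv5 D132802) D132803 F336067 (iv6 D62349) F312952 (iv1 F61164) (iv5 F315289) D62671 (iv1 F319754)
theorem F446342 : act 0 n132807 = n207768 := d21_1 D132807 (iv5 D207768) F306715 (iv1 F249704) (iv6 F342171) (iv5 F336091) F336089 F336086 (iv6 F321696) F321693
def n207769 : Q := act 5 n132291
theorem D207769 : act 5 n132291 = n207769 := rfl
theorem F446343 : act 2 n207769 = n206688 := d2_1 D207769 (iv5 D206688) (iv2 F212082)
theorem F446344 : act 7 n207769 = n206690 := d13_2 (iv7 F212083) D207769 (iv5 D206690)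
theorem F446345 : act 0 n207769 = n132558 := d17_2 F212084 D207769 (iv5 D132558) F164579 (iv5 F224328) (iv0 D141306) (iv5 F213964) (iv0 D133181) F97393
theorem F446346 : act 1 n207769 = n132560 := d17_6 (iv1 F96941) D62200 F170837 F162199 D132291 D207769 (iv5 D132560) F212726 F212724
def n207770 : Q := act 6 n132293
theorem D207770 : act 6 n132293 = n207770 := rfl
theorem F446347 : act 2 n207770 = n207308 := d3_1 D207770 (iv6 D207308) F217692
theorem F446348 : act 3 n207770 = n132295 := d7_1 D207770 (iv6 D132295) D132293
theorem F446349 : act 4 n207770 = n207286 := d10_1 D207770 (iv6 D207286) (iv4 F212107)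
theorem F446350 : act 5 n207770 = n165768 := d12_1 D207770 (iv6 F336531) (iv5 F364245) F323430 (iv5 F212106)
theorem F446351 : act 0 n207770 = n205967 := d21_10 F438640 (iv1 F359635) (iv5 D138182) (iv6 F333875) (iv1 F208592) (iv6 F325797) D132916 F213530 (iv5 F212106) D207770
theorem F446352 : act 0 n207314 = n207770 := d21_4 F347020 F239309 (iv5 F239912) F444295 (iv6 D207770) F212106 F317688 F315463 D132843 (iv1 F347019)
theorem F446353 : act 7 n206811 = n207770 := d13_0 F446350 F261159 (iv5 F442274)
def n207771 : Q := act 6 n132294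
theorem D207771 : act 6 n132294 = n207771 := rfl
theorem F446354 : act 2 n207771 = n206762 := d3_1 D207771 (iv6 D206762) (iv2 F217721)
theorem F446355 : act 3 n207771 = n191690 := d7_1 D207771 F445101 (iv3 F445100)
theorem F446356 : act 4 n207771 = n132295 := d10_1 D207771 (iv6 D132295) D132294
theorem F446357 : act 0 n206575 = n207771 := d21_4 (iv5 F348753) F417406 (iv5 F417356) F441396 (iv6 D207771) (iv5 F382294) F382295 (iv5 D132934) D132935 (iv1 F347124)
theorem F446358 : act 7 n206812 = n207771 := d11_0 F446356 F336582 D206812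
def n207772 : Q := act 6 n132298
theorem D207772 : act 6 n132298 = n207772 := rfl
theorem F446359 : act 2 n207772 = n206761 := d3_1 D207772 (iv6 D206761) F217720
theorem F446360 : act 3 n207772 = n205409 := d7_1 D207772 F436284 F214453
theorem F446361 : act 4 n207772 = n132299 := d10_1 D207772 (iv6 D132299) D132298
theorem F446362 : act 0 n207772 = n206010 := d21_10 F438822 F436149 F436146 F436148 F337579 (iv6 D132935) D132934 F402815 F402811 D207772
theorem F446363 : act 0 n206008 = n207772 := d21_4 D61132 (iv1 F355972) F355973 (iv6 F438812) (iv6 D207772) (iv5 F402811) F402813 (iv5 D132936) (iv6 F326943) (iv1 D61130)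
theorem F446364 : act 7 n206769 = n207772 := d11_0 F446361 (iv7 F217728) D206769
def n207773 : Q := act 0 n132302
theorem D207773 : act 0 n132302 = n207773 := rfl
theorem F446365 : act 5 n207773 = n204874 := d17_3 (iv1 D162571) (iv5 F315273) D207773 F433969 (iv5 F434077) (iv0 D174601) (iv5 F249568) F346568 F342202
theorem F446366 : act 4 n207773 = n187791 := d20_2 F214647 D207773 (iv3 F374913) (iv1 F374917) F439427 F439423 (iv1 F367371) (iv4 F371397) (iv3 F371398) (iv1 F362466)
theorem F446367 : act 6 n207773 = n152679 := d21_5 F315269 F296992 (iv5 F312898) D132302 D207773 (iv5 D152679) F309568 D82507 F127155 F316694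
theorem F446368 : act 2 n180746 = n207773 := d15_3 (iv0 D207773) (iv0 F374619) F374618
theorem F446369 : act 3 n207773 = n152684 := d0_2 F374622 F446368 F338706 (iv3 F433869) F433868
theorem F446370 : act 7 n207773 = n180747 := d4_2 F374618 F446368 (iv2 F374615)
theorem F446371 : act 1 n180749 = n207773 := d15_1 F374620 F446370 (iv2 F374615)
def n207774 : Q := act 7 n132302
theorem D207774 : act 7 n132302 = n207774 := rfl
theorem F446372 : act 2 n207774 = n180749 := d4_1 D207774 (iv7 D180749) (iv2 F315272)
theorem F446373 : act 3 n207774 = n132311 := d8_1 D207774 (iv7 D132311) (iv3 F212115)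
theorem F446374 : act 4 n207774 = n187728 := d11_1 D207774 F371336 F214647
theorem F446375 : act 5 n207774 = n162573 := d13_1 D207774 (iv7 D162573) (iv5 F315273)
theorem F446376 : act 6 n207774 = n132479 := d14_1 D207774 (iv7 F359751) (iv6 D129513) (iv7 F209653) D132302
theorem F446377 : act 1 n180747 = n207774 := d15_1 D180747 (iv7 D207774) F315272
theorem F446378 : act 1 n207774 = n180746 := d15_1 F446377 (iv7 F374618) F374615
def n207775 : Q := act 3 n132303
theorem D207775 : act 3 n132303 = n207775 := rfl
theorem F446379 : act 2 n207775 = n206859 := d0_1 D207775 (iv3 D206859) (iv2 F217710) (iv3 F213633) F217705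
theorem F446380 : act 4 n207775 = n133389 := d5_2 (iv4 F212116) D207775 F214453 (iv4 D132298) D132297
theorem F446381 : act 7 n207775 = n206933 := d8_2 F217707 D207775 (iv3 D206933)
def n207776 : Q := act 5 n132303
theorem D207776 : act 5 n132303 = n207776 := rfl
theorem F446382 : act 2 n207776 = n191821 := d2_1 D207776 (iv5 F384542) F217705
theorem F446383 : act 7 n207776 = n206934 := d13_2 F217707 D207776 (iv5 D206934)
theorem F446384 : act 4 n207776 = n191820 := d16_2 (iv4 F212116) D207776 (iv5 F384539) F247993 F351932 (iv4 F317697) (iv5 F217650) F217690 (iv2 F217704)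
theorem F446385 : act 0 n207776 = n132588 := d17_2 D132303 D207776 (iv5 D132588) (iv4 D62209) (iv5 F212261) F96751 (iv5 D60864) F47080 D62072
theorem F446386 : act 1 n207776 = n132580 := d17_6 (iv1 D132752) D132753 (iv1 F213620) (iv5 F212110) (iv4 F212116) D207776 (iv5 D132580) D132578 (iv4 F213142)
theorem F446387 : act 6 n207776 = n201809 := d21_9 (iv5 D115070) D115067 D201804 F421843 (iv1 D148135) (iv6 F351931) (iv5 D132306) D132303 D207776 (iv1 D201809)
theorem F446388 : act 6 n159364 = n191821 := d3_2 F446387 (iv2 F421863) (iv2 F446382)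
theorem F446389 : act 4 n191823 = n159364 := d10_3 F446388 (iv4 D191821) D191823
def n207777 : Q := act 6 n132303
theorem D207777 : act 6 n132303 = n207777 := rfl
theorem F446390 : act 2 n207777 = n206790 := d3_1 D207777 F442193 F217705
theorem F446391 : act 4 n207777 = n205874 := d10_1 D207777 F438220 (iv4 F212116)
theorem F446392 : act 7 n207777 = n206791 := d14_2 F217707 D207777 (iv6 F442197) (iv7 F442046) (iv6 F442049)
theorem F446393 : act 0 n132442 = n207777 := d21_4 (iv5 F212409) (iv1 D132382) F97401 D132442 (iv6 D207777) D207776 F446385 (iv5 D132588) F325148 (iv1 F207874)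
theorem F446394 : act 1 n206793 = n207777 := d15_0 (iv0 F446393) F354211 (iv2 F442200)
def n207778 : Q := act 5 n132304
theorem D207778 : act 5 n132304 = n207778 := rfl
theorem F446395 : act 2 n207778 = n206934 := d2_1 D207778 (iv5 D206934) (iv2 F217702)
theorem F446396 : act 3 n207778 = n206821 := d6_1 D207778 (iv5 F442320) (iv3 F214798)
theorem F446397 : act 4 n207778 = n186637 := d9_1 D207778 (iv5 F384744) F384743 F316292 (iv4 F316291) (iv5 F212110) (iv4 F212116) D207776 F446384 (iv5 F384539) F247993 F351932 (iv4 F317697) (iv5 F217650) (iv4 F214797)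
theorem F446398 : act 6 n207778 = n206685 := d12_2 F443164 D207778 F441866 (iv6 F212790) D207063
theorem F446399 : act 7 n207778 = n191821 := d13_2 (iv7 F217706) D207778 (iv5 F384542)
theorem F446400 : act 0 n207778 = n132580 := d17_2 (iv1 F212118) D207778 (iv5 D132580) (iv4 D62204) F316296 (iv0 F316295) (iv5 D29393) D29391 D62077
theorem F446401 : act 1 n207778 = n132588 := d17_6 D62398 D132982 F217651 (iv5 F217650) (iv4 F214797) D207778 (iv5 D132588) F207725 (iv4 D62401)
def n207779 : Q := act 1 n132305
theorem D207779 : act 1 n132305 = n207779 := rfl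
theorem F446402 : act 7 n207779 = n148698 := d15_2 (iv0 F363918) D207779 F233453
theorem F446403 : act 4 n207779 = n133435 := d18_7 F232608 F183354 D144934 F233065 (iv5 F335159) F214644 D207779 (iv0 D133435) F322394
theorem F446404 : act 5 n207779 = n195274 := d18_9 (iv1 F396550) (iv4 D192988) (iv1 F234566) (iv4 F347619) (iv5 F355266) F355265 (iv0 F355401) F214644 D207779
theorem F446405 : act 2 n206848 = n207779 := d2_3 F446404 F396578 (iv5 F442394)
theorem F446406 : act 0 n206935 = n207779 := d17_0 F446404 (iv1 F396550) F388444 F326071 F347613 F252143 (iv5 F418592) F418595 (iv4 F442648)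
def n207780 : Q := act 2 n132305
theorem D207780 : act 2 n132305 = n207780 := rfl
theorem F446407 : act 3 n207780 = n201832 := d0_2 D132305 D207780 (iv2 F421974) (iv3 D129537) (iv2 F209654)
theorem F446408 : act 4 n207780 = n200975 := d1_2 F214644 D207780 F418588
theorem F446409 : act 7 n207780 = n206935 := d4_2 (iv7 F212119) D207780 (iv2 D206935)
theorem F446410 : act 1 n207780 = n206848 := d15_0 (iv0 F442396) (iv7 F212119) D207780
theorem F446411 : act 1 n148698 = n207780 := d15_0 F446410 F442395 (iv2 F233453)
theorem F446412 : act 5 n192994 = n207780 := d17_5 (iv1 F280361) (iv5 D179989) (iv1 F280319) F280324 D192994 F446410 F442394 (iv0 D195286) (iv4 F347615)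
theorem F446413 : act 6 n207780 = n207004 := d21_5 F437482 (iv1 D183410) D183412 F442398 (iv1 F446410) (iv5 D207004) F442879 F442876 (iv6 F437909) (iv1 F437910)
def n207781 : Q := act 5 n132305
theorem D207781 : act 5 n132305 = n207781 := rfl
theorem F446414 : act 2 n207781 = n192994 := d2_1 D207781 F446412 (iv2 D207780)
theorem F446415 : act 3 n207781 = n132306 := d6_1 D207781 (iv5 D132306) D132305
theorem F446416 : act 7 n207781 = n192992 := d13_2 (iv7 F212119) D207781 F388460
theorem F446417 : act 4 n207781 = n150116 := d16_2 F214644 D207781 F236267 (iv4 F199605) (iv5 F199606) F229128 (iv5 F355405) (iv7 F418585) F418588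
theorem F446418 : act 0 n207781 = n201815 := d17_2 (iv1 D207779) D207781 (iv5 F421884) F355358 F335155 (iv0 F335143) (iv5 F335150) F214557 (iv4 F446403)
theorem F446419 : act 1 n207781 = n205801 := d17_6 (iv1 F397708) (iv5 D145927) D145925 (iv5 F335159) F214644 D207781 (iv5 D205801) F203660 (iv4 F397704)
theorem F446420 : act 6 n207781 = n148136 := d21_3 (iv5 F446404) (iv1 D207779) D207781 F442906 (iv6 D195261) (iv5 D105481) (iv1 D48770) D48772 D105489 D195274
def n207782 : Q := act 6 n132305
theorem D207782 : act 6 n132305 = n207782 := rfl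
theorem F446421 : act 2 n207782 = n207004 := d3_1 D207782 (iv6 F446413) (iv2 D207780)
theorem F446422 : act 3 n207782 = n132307 := d7_1 D207782 (iv6 D132307) D132305
theorem F446423 : act 5 n207782 = n206996 := d12_1 D207782 F442902 F418324 (iv6 F446420) (iv5 D207781)
theorem F446424 : act 7 n207782 = n207000 := d14_2 (iv7 F212119) D207782 F442922 F437814 F360184
def n207783 : Q := act 0 n132307
theorem D207783 : act 0 n132307 = n207783 := rfl
def n207784 : Q := act 1 n132307
theorem D207784 : act 1 n132307 = n207784 := rfl
theorem F446425 : act 1 n207784 = n206943 := d15_1 D207784 (iv7 D206943) (iv2 F212122)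
def n207785 : Q := act 7 n132307
theorem D207785 : act 7 n132307 = n207785 := rfl
theorem F446426 : act 2 n207785 = n206943 := d4_1 D207785 (iv7 D206943) (iv2 F212122)
theorem F446427 : act 3 n207785 = n207000 := d8_1 D207785 (iv7 F446424) F446422
theorem F446428 : act 4 n207785 = n132311 := d11_1 D207785 (iv7 D132311) (iv4 F212123)
theorem F446429 : act 5 n207785 = n205691 := d13_1 D207785 F437473 F418327
theorem F446430 : act 6 n207785 = n132480 := d14_1 D207785 (iv7 F359752) (iv6 D129519) (iv7 F209655) D132307
theorem F446431 : act 1 n206943 = n207783 := d15_0 (iv0 D207783) D207785 F446426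
theorem F446432 : act 1 n206942 = n207785 := d15_1 D206942 (iv7 D207785) F212122
theorem F446433 : act 0 n206941 = n207785 := d17_0 F446429 (iv1 F437474) (iv5 F437882) F437881 F315347 D175322 (iv5 F362053) D187798 (iv4 F442672)
def n207786 : Q := act 5 n132308
theorem D207786 : act 5 n132308 = n207786 := rfl
theorem F446434 : act 2 n207786 = n203940 := d2_1 D207786 F430498 F371344
theorem F446435 : act 3 n207786 = n206788 := d6_1 D207786 (iv5 D206788) F371345
theorem F446436 : act 6 n207786 = n187073 := d12_2 F443484 D207786 (iv5 F444817) F444819 (iv5 F443483)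
theorem F446437 : act 7 n207786 = n206944 := d13_2 (iv7 F371343) D207786 (iv5 D206944)
theorem F446438 : act 4 n207786 = n187074 := d16_2 F446069 D207786 F369039 (iv4 F372221) F372222 F442543 F444243 F444240 F446070
theorem F446439 : act 1 n207786 = n205005 := d17_6 F442548 (iv5 D206898) D206896 F446073 F446069 D207786 F434567 F207890 (iv4 F207838)
theorem F446440 : act 0 n207786 = n200189 := d21_1 D207786 F415473 F361186 (iv1 D61017) (iv6 D28923) D28922 D61012 F209583 D62074 D132308
def n207787 : Q := act 6 n132317
theorem D207787 : act 6 n132317 = n207787 := rfl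
theorem F446441 : act 3 n207787 = n132319 := d7_1 D207787 (iv6 D132319) D132317
theorem F446442 : act 0 n207787 = n205683 := d21_4 D128924 D206590 F441459 D207787 (iv6 D205683) (iv5 D126521) (iv1 D59357) D59359 D126525 F347620
theorem F446443 : act 1 n207787 = n206856 := d15_1 (iv0 F446442) F442425 (iv2 F437450)
def n207788 : Q := act 6 n132318
theorem D207788 : act 6 n132318 = n207788 := rfl
theorem F446444 : act 2 n207788 = n206937 := d3_1 D207788 (iv6 D206937) (iv2 F212224)
theorem F446445 : act 3 n207788 = n201713 := d7_1 D207788 (iv6 F441462) F441460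
theorem F446446 : act 7 n207788 = n206102 := d14_2 (iv7 F212225) D207788 (iv6 D206102) F204707 F357334
def n207789 : Q := act 5 n132319
theorem D207789 : act 5 n132319 = n207789 := rfl
theorem F446447 : act 2 n207789 = n206938 := d2_1 D207789 (iv5 D206938) (iv2 F212226)
theorem F446448 : act 4 n207789 = n200815 := d16_2 (iv4 F212227) D207789 F418031 (iv4 F386649) F357047 (iv4 F357044) (iv5 D132481) F359749 (iv2 F209651)
theorem F446449 : act 0 n207789 = n205901 := d17_2 F438601 D207789 (iv5 D205901) (iv4 D126739) (iv5 D59465) D59463 D126733 F220095 D205960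
theorem F446450 : act 3 n195634 = n207789 := d19_19 F446449 (iv5 D205901) (iv4 D126739) F93864 D59467 F93866 F45768 F23975 (iv1 F11242) F11194 (iv4 F23226) F23225 F10755 D11383 D24224 D49673 D107528 F361380 D195634
theorem F446451 : act 5 n207787 = n195634 := d6_0 F446450 (iv5 D207789) (iv3 F446441)
def n207790 : Q := act 3 n132345
theorem D207790 : act 3 n132345 = n207790 := rfl
theorem F446452 : act 4 n207790 = n200979 := d5_2 D132345 D207790 (iv3 F418605) F418537 (iv3 D132344)
theorem F446453 : act 5 n207790 = n198888 := d6_2 (iv5 F362157) D207790 (iv3 D198888)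
theorem F446454 : act 6 n207790 = n205664 := d7_2 (iv6 F361185) D207790 F437734
theorem F446455 : act 7 n207790 = n206751 := d8_2 (iv7 F362153) D207790 F442053
theorem F446456 : act 0 n207790 = n200982 := d19_4 F330781 (iv5 F330785) D132345 D207790 (iv5 F418616) (iv4 D182386) F133696 (iv1 F70885) (iv5 D45038) F33824 F31674 (iv1 F32427) (iv5 D20414) F15126 F12978 F12983 (iv5 F13020) (iv4 F28520) (iv3 F56501)
def n207791 : Q := act 2 n132349
theorem D207791 : act 2 n132349 = n207791 := rfl
theorem F446457 : act 3 n207791 = n158796 := d0_2 D132349 D207791 F365187 F261370 F324205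
theorem F446458 : act 4 n207791 = n189901 := d1_2 F380497 D207791 (iv2 F380500)
theorem F446459 : act 0 n207791 = n206771 := d20_7 F151974 D98583 D191599 F383931 F397824 F397826 (iv4 F446458) (iv4 F446245) F446244 (iv1 F354676)
def n207792 : Q := act 3 n132350
theorem D207792 : act 3 n132350 = n207792 := rfl
theorem F446460 : act 4 n207792 = n206657 := d5_2 D132350 D207792 F441768 F380497 (iv3 D132349)
theorem F446461 : act 5 n207792 = n198886 := d6_2 (iv5 F362156) D207792 (iv3 D198886)
theorem F446462 : act 7 n207792 = n206748 := d8_2 F362154 D207792 F442041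
def n207793 : Q := act 0 n132369
theorem D207793 : act 0 n132369 = n207793 := rfl
theorem F446463 : act 5 n207793 = n200536 := d17_1 D207793 F430021 F430018 F359047 (iv5 F338369) F194396 (iv5 F338375) (iv0 D132371) (iv4 F212369)
theorem F446464 : act 6 n207793 = n200622 := d21_5 D186813 F368100 (iv5 F364570) (iv6 F212370) D207793 (iv5 D200622) F408442 (iv5 F398169) F398180 (iv1 D186811)
theorem F446465 : act 2 n206510 = n207793 := d15_3 (iv0 D207793) (iv0 F446248) F446247
theorem F446466 : act 1 n206511 = n207793 := d15_0 (iv0 D207793) F212371 D206511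
theorem F446467 : act 7 n207793 = n206491 := d15_2 (iv0 F446249) F446466 (iv2 F446243)
theorem F446468 : act 3 n207793 = n200627 := d0_2 F441141 F446465 (iv2 F417710) F417711 (iv2 F384165)
def n207794 : Q := act 2 n132369
theorem D207794 : act 2 n132369 = n207794 := rfl
theorem F446469 : act 3 n207794 = n200599 := d0_2 D132369 D207794 F417137 F176466 (iv2 F328121)
theorem F446470 : act 4 n207794 = n132373 := d1_2 (iv4 F212369) D207794 (iv2 D132373)
theorem F446471 : act 5 n207794 = n165800 := d2_2 F334353 D207794 F338351
theorem F446472 : act 6 n207794 = n193645 := d3_2 (iv6 F212370) D207794 F390548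
theorem F446473 : act 7 n207794 = n206511 := d4_2 (iv7 F212371) D207794 (iv2 D206511)
theorem F446474 : act 1 n207794 = n206491 := d15_0 (iv0 F441063) (iv7 F212371) D207794
theorem F446475 : act 1 n206510 = n207794 := d15_0 F446474 (iv7 F446467) (iv2 F446465)
def n207795 : Q := act 4 n132375
theorem D207795 : act 4 n132375 = n207795 := rfl
theorem F446476 : act 2 n207795 = n206812 := d1_1 D207795 (iv4 D206812) (iv2 F336565)
theorem F446477 : act 6 n207795 = n206769 := d10_2 (iv6 F336573) D207795 (iv4 D206769)
theorem F446478 : act 7 n207795 = n206762 := d11_2 F336578 D207795 F442088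
theorem F446479 : act 0 n207795 = n206575 := d17_0 (iv5 D206575) F441268 F441267 F418084 (iv5 F334278) (iv0 D120957) (iv5 F322727) D132375 D207795
def n207796 : Q := act 6 n132376
theorem D207796 : act 6 n132376 = n207796 := rfl
theorem F446480 : act 2 n207796 = n132377 := d3_1 D207796 (iv6 D132377) D132376
theorem F446481 : act 3 n207796 = n206813 := d7_1 D207796 (iv6 D206813) (iv3 F212384)
theorem F446482 : act 7 n207796 = n206813 := d14_2 (iv7 F212385) D207796 (iv6 D206813) (iv7 F212379) F212378
theorem F446483 : act 0 n207796 = n206814 := d21_4 F334291 (iv1 F302175) (iv5 F336603) D207796 (iv6 F446297) F446295 (iv1 D207010) (iv5 D129798) (iv6 F97154) (iv1 F334293)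
theorem F446484 : act 0 n206766 = n207796 := d21_4 (iv5 F341960) (iv1 F267225) (iv5 F341970) D206766 (iv6 D207796) F336603 F302174 (iv5 F334282) (iv6 F337771) (iv1 D129803)
def n207797 : Q := act 1 n132377
theorem D207797 : act 1 n132377 = n207797 := rfl
theorem F446485 : act 1 n207797 = n206813 := d15_1 D207797 (iv7 F446482) F446480
theorem F446486 : act 7 n207797 = n206814 := d15_2 F354041 D207797 (iv2 F442284)
theorem F446487 : act 5 n207797 = n133095 := d17_7 (iv1 F249442) D158325 (iv1 F303729) F303730 (iv4 F263660) F346981 D207797 F213733 F305687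
theorem F446488 : act 6 n206763 = n207797 := d21_3 F341958 F354308 (iv5 F442089) (iv1 D207797) (iv6 D132377) F322727 D120957 F334278 F333896 F341751
theorem F446489 : act 2 n207797 = n206766 := d3_1 F446488 (iv6 D206766) (iv2 F442093)
theorem F446490 : act 3 n158464 = n207797 := d0_0 F446489 F442106 F239449 (iv3 F239910) F366829
def n207798 : Q := act 0 n132383
theorem D207798 : act 0 n132383 = n207798 := rfl
theorem F446491 : act 5 n207798 = n201699 := d17_1 D207798 F444422 (iv5 F444420) (iv4 D207341) (iv5 D130875) D130874 (iv5 F439914) (iv0 D204163) F329058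
theorem F446492 : act 4 n207798 = n154014 := d18_3 (iv1 D204164) F329058 D207798 F358464 (iv4 D130884) F187523 F358461 F358466 (iv5 F431272)
theorem F446493 : act 3 n207798 = n201135 := d20_5 (iv4 D132389) (iv1 D62116) (iv4 F96821) (iv3 F212412) D207798 F419217 (iv1 F397697) (iv4 F398427) F398426 (iv1 F212428)
def n207799 : Q := act 1 n132383
theorem D207799 : act 1 n132383 = n207799 := rfl
theorem F446494 : act 4 n207799 = n191549 := d18_7 (iv1 F233024) (iv4 F305760) (iv1 F306191) (iv4 F301406) D123068 F329058 D207799 F383767 (iv5 D183399)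
theorem F446495 : act 3 n206785 = n207799 := d20_3 F441956 (iv1 F444251) F444253 (iv1 D207799) F212412 F96821 (iv1 F101905) D132291 (iv3 F444230) F444233
theorem F446496 : act 5 n207680 = n207799 := d17_3 (iv1 F444421) F444420 (iv1 F445980) F446494 (iv5 F383768) (iv0 F387283) F387282 F383844 (iv4 F396560)
theorem F446497 : act 6 n207799 = n206866 := d21_3 F444420 (iv1 F445980) F446496 (iv1 D206866) (iv6 D129436) D129435 (iv1 F442299) (iv5 D195278) D195279 (iv1 F444421)
def n207800 : Q := act 5 n132383
theorem D207800 : act 5 n132383 = n207800 := rfl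
theorem F446498 : act 3 n207800 = n132387 := d6_1 D207800 (iv5 D132387) (iv3 F212412)
theorem F446499 : act 6 n207800 = n146943 := d12_2 D132383 D207800 (iv5 F365936) (iv6 D132442) (iv5 F97401)
theorem F446500 : act 0 n207800 = n201645 := d17_2 (iv1 D207799) D207800 F421228 (iv4 D183402) (iv5 D87548) (iv0 F232589) D98538 D191549 (iv4 F446494)
def n207801 : Q := act 7 n132383
theorem D207801 : act 7 n132383 = n207801 := rfl
theorem F446501 : act 3 n207801 = n132388 := d8_1 D207801 (iv7 D132388) (iv3 F212412)
theorem F446502 : act 4 n207801 = n203966 := d11_1 D207801 F430623 F329058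
theorem F446503 : act 6 n207801 = n206696 := d14_1 D207801 (iv7 D206696) (iv6 D129117) (iv7 F96814) D132383
def n207802 : Q := act 5 n132385
theorem D207802 : act 5 n132385 = n207802 := rfl
theorem F446504 : act 2 n207802 = n191840 := d2_1 D207802 (iv5 F404035) F213969
theorem F446505 : act 3 n207802 = n200961 := d6_1 D207802 (iv5 D200961) (iv3 F358206)
theorem F446506 : act 7 n207802 = n206684 := d13_2 F213971 D207802 (iv5 D206684)
theorem F446507 : act 4 n207802 = n191833 := d16_2 F217833 D207802 (iv5 F386763) F438416 (iv5 F438413) F438410 F219888 (iv7 F213966) F217835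
theorem F446508 : act 0 n207802 = n132568 := d17_2 D132385 D207802 (iv5 D132568) (iv4 D62195) D62196 (iv0 F162201) F162199 F101905 (iv4 F96821)
theorem F446509 : act 1 n207802 = n132574 := d17_6 (iv1 F179224) D136327 F219411 (iv5 F217834) F217833 D207802 (iv5 D132574) F212788 F212787
theorem F446510 : act 6 n191832 = n207802 := d10_0 F446507 (iv6 D191833) D191832
def n207803 : Q := act 3 n132386
theorem D207803 : act 3 n132386 = n207803 := rfl
theorem F446511 : act 4 n207803 = n204359 := d5_2 (iv4 F212416) D207803 F432203 F329435 D130728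
theorem F446512 : act 6 n207803 = n204358 := d7_2 (iv6 F214086) D207803 F432199
theorem F446513 : act 7 n207803 = n206682 := d8_2 (iv7 F213968) D207803 (iv3 D206682)
theorem F446514 : act 0 n201649 = n207803 := d20_4 (iv4 D201131) (iv1 F396135) F396132 (iv3 F421231) (iv3 D207803) F212416 (iv1 F213982) F99021 (iv3 F207369) (iv1 F419202)
def n207804 : Q := act 5 n132386
theorem D207804 : act 5 n132386 = n207804 := rfl
theorem F446515 : act 2 n207804 = n206684 := d2_1 D207804 (iv5 D206684) (iv2 F213970)
theorem F446516 : act 4 n207804 = n191843 := d9_1 D207804 (iv5 F386773) F404036 F403915 F396981 (iv5 F217834) F217833 D207802 F446507 (iv5 F386763) F438416 (iv5 F438413) F438410 F219888 (iv4 F212416)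
theorem F446517 : act 7 n207804 = n191840 := d13_2 (iv7 F213968) D207804 (iv5 F404035)
theorem F446518 : act 0 n207804 = n132574 := d17_2 (iv1 F212415) D207804 (iv5 D132574) (iv4 D62199) D62200 (iv0 F203986) F203987 F96822 (iv4 F207334)
theorem F446519 : act 1 n207804 = n132568 := d17_6 (iv1 F168153) D134478 F219890 F219888 (iv4 F212416) D207804 (iv5 D132568) (iv0 F203328) F99705
def n207805 : Q := act 0 n132387
theorem D207805 : act 0 n132387 = n207805 := rfl
theorem F446520 : act 5 n207805 = n136326 := d17_3 (iv1 D132386) D132387 D207805 F219406 F164863 (iv0 D106957) (iv5 F99022) F213982 (iv4 F212416)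
theorem F446521 : act 6 n207805 = n206934 := d21_5 (iv5 D146873) (iv1 F176908) F176906 (iv6 F365821) D207805 (iv5 D206934) (iv1 F207668) D129538 (iv6 F357334) (iv1 F230261)
theorem F446522 : act 2 n206685 = n207805 := d15_3 (iv0 D207805) (iv0 F396489) F441867
theorem F446523 : act 7 n207805 = n136325 := d4_2 F441867 F446522 (iv2 F396488)
theorem F446524 : act 1 n206686 = n207805 := d15_1 F441870 F446523 (iv2 F396488)
def n207806 : Q := act 7 n132387
theorem D207806 : act 7 n132387 = n207806 := rfl
theorem F446525 : act 2 n207806 = n206686 := d4_1 D207806 (iv7 D206686) (iv2 F212417)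
theorem F446526 : act 4 n207806 = n146948 := d11_1 D207806 (iv7 D146948) (iv4 F365820)
theorem F446527 : act 5 n207806 = n132388 := d13_1 D207806 (iv7 D132388) D132387
theorem F446528 : act 1 n136325 = n207806 := d15_1 (iv0 F219404) (iv7 D207806) F212417
theorem F446529 : act 1 n207806 = n206685 := d15_1 F446528 (iv7 F441867) F396488
def n207807 : Q := act 3 n132389
theorem D207807 : act 3 n132389 = n207807 := rfl
theorem F446530 : act 4 n207807 = n206875 := d5_2 D132389 D207807 (iv3 D206875) (iv4 D129442) (iv3 F101907)
theorem F446531 : act 6 n207807 = n206875 := d7_2 (iv6 F212425) D207807 (iv3 D206875)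
theorem F446532 : act 7 n207807 = n206687 := d8_2 (iv7 F212426) D207807 (iv3 D206687)
theorem F446533 : act 0 n207807 = n205607 := d20_4 F207334 (iv1 F96822) D132389 D207807 F437202 F417400 (iv1 D113665) D113666 (iv3 F358206) (iv1 F212421)
def n207808 : Q := act 5 n132389
theorem D207808 : act 5 n132389 = n207808 := rfl
theorem F446534 : act 2 n207808 = n206690 := d2_1 D207808 (iv5 D206690) (iv2 F212424)
theorem F446535 : act 7 n207808 = n206688 := d13_2 (iv7 F212426) D207808 (iv5 D206688)
theorem F446536 : act 0 n207808 = n132560 := d17_2 (iv1 F212428) D207808 (iv5 D132560) (iv4 F179219) (iv5 F180048) (iv0 F219987) F219986 F216197 F216194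
theorem F446537 : act 1 n207808 = n132558 := d17_6 D29438 D62196 F203988 F203987 D132389 D207808 (iv5 D132558) (iv0 D62189) F47185
theorem F446538 : act 4 n132560 = n191842 := d18_1 F446536 (iv1 D191842) (iv4 F384568) (iv5 F404035) F213967 (iv0 D133181) F97393 (iv0 F212427) D207808
def n207809 : Q := act 6 n132390
theorem D207809 : act 6 n132390 = n207809 := rfl
theorem F446539 : act 2 n207809 = n206705 := d3_1 D207809 (iv6 D206705) (iv2 F358345)
theorem F446540 : act 4 n207809 = n200855 := d10_1 D207809 (iv6 D200855) (iv4 F358342)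
theorem F446541 : act 7 n207809 = n206735 := d14_2 F358344 D207809 (iv6 F442005) (iv7 D159570) (iv6 F362911)
theorem F446542 : act 0 n205617 = n207809 := d20_1 (iv4 F437241) F446540 F418169 (iv1 F417074) F364803 F146895 (iv1 F70083) (iv4 F70028) (iv3 F146937) F363218
theorem F446543 : act 1 n206737 = n207809 := d15_0 (iv0 F446542) F437242 D206737
def n207810 : Q := act 3 n132391
theorem D207810 : act 3 n132391 = n207810 := rfl
theorem F446544 : act 2 n207810 = n201172 := d0_1 D207810 (iv3 D201172) F177517 (iv3 F362910) F358346
theorem F446545 : act 4 n207810 = n200791 := d5_2 F349611 D207810 (iv3 F441019) (iv4 D206479) F349610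
theorem F446546 : act 5 n207810 = n205601 := d6_2 (iv5 F343603) D207810 F437172
theorem F446547 : act 6 n207810 = n201176 := d7_2 F362914 D207810 F419334
theorem F446548 : act 7 n207810 = n206704 := d8_2 (iv7 F358347) D207810 (iv3 D206704)
theorem F446549 : act 0 n207810 = n196118 := d19_4 (iv1 F203106) F203105 F349611 D207810 F399503 F326566 F325730 (iv1 F317505) F113581 (iv4 F113622) F319549 (iv1 F319547) (iv5 D83355) (iv4 F113291) F113290 (iv1 F155165) D98945 D191802 F384491
theorem F446550 : act 0 n196121 = n207810 := d20_4 D205661 F437376 (iv4 D205606) (iv3 F399510) (iv3 D207810) (iv4 F349611) (iv1 F202201) (iv4 F418181) F437373 (iv1 D205660)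
def n207811 : Q := act 1 n132392
theorem D207811 : act 1 n132392 = n207811 := rfl
theorem F446551 : act 1 n207811 = n206925 := d15_1 D207811 F442628 F418901
theorem F446552 : act 7 n207811 = n206880 := d15_2 (iv0 F446004) D207811 (iv2 F446002)
theorem F446553 : act 3 n200785 = n207811 := d20_3 F230267 (iv1 F204752) D200785 (iv1 D207811) F212433 (iv4 F98726) F98728 (iv4 F179209) (iv3 F417899) (iv1 F417900)
theorem F446554 : act 2 n206924 = n207811 := d4_3 F446552 (iv2 F446002) (iv7 F446006)
theorem F446555 : act 5 n201151 = n207811 := d17_5 (iv1 D114014) (iv5 D52619) D52617 D114006 D201151 F446551 F442626 (iv0 F419292) (iv4 D201158)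
def n207812 : Q := act 5 n132392
theorem D207812 : act 5 n132392 = n207812 := rfl
theorem F446556 : act 3 n207812 = n132393 := d6_1 D207812 (iv5 D132393) (iv3 F212433)
theorem F446557 : act 4 n207812 = n159482 := d9_1 D207812 F251160 (iv4 F163233) (iv5 F201985) (iv4 F202410) D205420 (iv4 F442625) F442626 F251172 (iv5 D106279) F77535 F45431 (iv4 F93161) D125919 F343578
theorem F446558 : act 6 n207812 = n159481 := d12_2 D132392 D207812 (iv5 F398201) F398200 F343600
theorem F446559 : act 7 n207812 = n159497 := d13_2 F212435 D207812 (iv5 F362931)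
theorem F446560 : act 1 n207812 = n201155 := d17_8 (iv1 F179012) F179009 (iv1 F161582) D114011 D201153 F446005 (iv0 F446004) D207812 (iv4 D201155)
theorem F446561 : act 1 n201158 = n207812 := d15_1 (iv0 F419292) F446559 F251173
theorem F446562 : act 0 n201157 = n199710 := d20_4 (iv4 F446557) (iv1 F446561) (iv4 D201158) D201157 F413210 (iv4 D196795) D196794 (iv4 F444515) F444514 (iv1 F398261)
theorem F446563 : act 1 n201157 = n199712 := d15_1 (iv0 F446562) F413215 (iv2 F413209)
def n207813 : Q := act 4 n132393
theorem D207813 : act 4 n132393 = n207813 := rfl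
theorem F446564 : act 2 n207813 = n206709 := d1_1 D207813 (iv4 D206709) (iv2 F212436)
theorem F446565 : act 3 n207813 = n197788 := d5_1 D207813 (iv4 F405798) (iv3 F251159) (iv4 F446557) F446556
theorem F446566 : act 5 n207813 = n197787 := d9_2 D132393 D207813 F405790 F220482 F100487 (iv5 F97745) (iv4 F207377) (iv5 F441937) F441936 (iv5 D206019) (iv4 D126951) (iv5 D59580) (iv4 F48810) (iv5 F98727) F98726
theorem F446567 : act 7 n207813 = n197800 := d11_2 (iv7 F212437) D207813 F405834
theorem F446568 : act 1 n207813 = n198248 := d18_6 (iv1 F207348) F207350 (iv1 F98729) F98726 D132393 D207813 (iv4 F441906) F441903 (iv5 D129489)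
def n207814 : Q := act 4 n132394
theorem D207814 : act 4 n132394 = n207814 := rfl
theorem F446569 : act 2 n207814 = n206706 := d1_1 D207814 (iv4 D206706) (iv2 F212438)
theorem F446570 : act 6 n207814 = n148788 := d10_2 F441924 D207814 (iv4 F441926)
theorem F446571 : act 5 n207814 = n192477 := d21_6 (iv5 D88362) D88361 F152561 (iv6 F346314) (iv1 F233608) (iv6 F446570) (iv1 D192477) F154147 (iv6 D98992) F135324
theorem F446572 : act 2 n192477 = n206300 := d2_1 F446571 (iv5 F441921) (iv2 F446569)
def n207815 : Q := act 5 n132400
theorem D207815 : act 5 n132400 = n207815 := rfl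
theorem F446573 : act 2 n207815 = n206719 := d2_1 D207815 (iv5 D206719) F214762
theorem F446574 : act 3 n207815 = n207725 := d6_1 D207815 F446167 (iv3 F330969)
theorem F446575 : act 6 n207815 = n207723 := d12_2 D132400 D207815 F446158 (iv6 D206963) F212967
theorem F446576 : act 7 n207815 = n206915 := d13_2 F354194 D207815 (iv5 D206915)
def n207816 : Q := act 6 n132402
theorem D207816 : act 6 n132402 = n207816 := rfl
theorem F446577 : act 3 n207816 = n132403 := d7_1 D207816 (iv6 D132403) D132402
theorem F446578 : act 4 n207816 = n148729 := d10_1 D207816 (iv6 D148729) (iv4 F326566)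
def n207817 : Q := act 1 n132403
theorem D207817 : act 1 n132403 = n207817 := rfl
theorem F446579 : act 1 n207817 = n206717 := d15_1 D207817 (iv7 D206717) (iv2 F214761)
theorem F446580 : act 7 n207817 = n206715 := d15_2 (iv0 F444234) D207817 F444235
theorem F446581 : act 4 n207817 = n132455 := d18_7 F348908 (iv4 F348890) F361182 F284870 (iv5 F366571) (iv4 F212460) D207817 (iv0 F324316) F348912
theorem F446582 : act 2 n206689 = n207817 := d1_3 F446581 (iv2 F358028) (iv4 F441871)
theorem F446583 : act 6 n206904 = n207817 := d10_0 F446581 (iv6 F363460) (iv4 F442562)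
def n207818 : Q := act 5 n132403
theorem D207818 : act 5 n132403 = n207818 := rfl
theorem F446584 : act 2 n207818 = n206716 := d2_1 D207818 (iv5 D206716) (iv2 F214761)
def n207819 : Q := act 7 n132403
theorem D207819 : act 7 n132403 = n207819 := rfl
theorem F446585 : act 2 n207819 = n206717 := d4_1 D207819 (iv7 D206717) (iv2 F214761)
theorem F446586 : act 4 n207819 = n207307 := d11_1 D207819 (iv7 D207307) (iv4 F212460)
theorem F446587 : act 6 n207819 = n206720 := d14_1 D207819 (iv7 D206720) (iv6 D129144) (iv7 F214752) D132403
theorem F446588 : act 1 n206689 = n207819 := d15_1 (iv0 F441947) (iv7 D207819) F214761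
theorem F446589 : act 1 n207819 = n206715 := d15_1 F446588 (iv7 F446580) (iv2 F446582)
def n207820 : Q := act 6 n132404
theorem D207820 : act 6 n132404 = n207820 := rfl
theorem F446590 : act 2 n207820 = n132408 := d3_1 D207820 (iv6 D132408) (iv2 F212461)
theorem F446591 : act 3 n207820 = n191576 := d7_1 D207820 (iv6 F437555) F437550
def n207821 : Q := act 6 n132406
theorem D207821 : act 6 n132406 = n207821 := rfl
theorem F446592 : act 2 n207821 = n206723 := d3_1 D207821 (iv6 D206723) F212471
theorem F446593 : act 3 n207821 = n132523 := d7_1 D207821 F437760 F216362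
theorem F446594 : act 4 n207821 = n135113 := d10_1 D207821 F363953 (iv4 F336985)
theorem F446595 : act 5 n207821 = n206907 := d12_1 D207821 (iv6 D206907) F211869 (iv6 F326346) (iv5 F212470)
theorem F446596 : act 0 n197525 = n207821 := d19_0 F446595 F442570 F217332 D135118 F327501 F326902 (iv3 F95854) (iv1 F95858) F209328 (iv4 F321349) (iv3 D80431) (iv1 D36655) D36656 D80436 (iv3 F335157) (iv1 D144944) D144945 F347618 (iv3 F404697)
theorem F446597 : act 1 n197521 = n207821 := d15_0 (iv0 F446596) (iv7 F421986) (iv2 F421988)
theorem F446598 : act 7 n207821 = n207012 := d15_2 (iv0 F441425) F446597 F442959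
def n207822 : Q := act 6 n132407
theorem D207822 : act 6 n132407 = n207822 := rfl
theorem F446599 : act 2 n207822 = n206722 := d3_1 D207822 (iv6 D206722) F212479
theorem F446600 : act 3 n207822 = n207572 := d7_1 D207822 (iv6 D207572) F212477
def n207823 : Q := act 0 n132408
theorem D207823 : act 0 n132408 = n207823 := rfl
theorem F446601 : act 6 n207823 = n205728 := d21_5 F207833 (iv1 D62122) D62124 D132408 D207823 (iv5 D205728) (iv1 F203536) (iv5 F212490) F361807 (iv1 F212968)
theorem F446602 : act 5 n206976 = n207823 := d12_5 F446601 (iv5 D205728) (iv6 F207626) F207849 D206976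
theorem F446603 : act 3 n207823 = n207740 := d6_1 F446602 F446206 (iv3 F442807)
def n207824 : Q := act 1 n132408
theorem D207824 : act 1 n132408 = n207824 := rfl
def n207825 : Q := act 5 n132408
theorem D207825 : act 5 n132408 = n207825 := rfl
theorem F446604 : act 3 n207825 = n132415 := d6_1 D207825 (iv5 D132415) (iv3 F212480)
theorem F446605 : act 6 n207825 = n132411 := d12_2 D132408 D207825 (iv5 D132411) (iv6 D62125) D62124
theorem F446606 : act 4 n191587 = n207825 := d5_0 F446604 F384116 (iv3 D191678) D191679 (iv3 F384129)
def n207826 : Q := act 7 n132408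
theorem D207826 : act 7 n132408 = n207826 := rfl
theorem F446607 : act 3 n207826 = n132416 := d8_1 D207826 (iv7 D132416) (iv3 F212480)
theorem F446608 : act 6 n207826 = n206728 := d14_1 D207826 (iv7 D206728) (iv6 D129150) (iv7 F96843) D132408
def n207827 : Q := act 3 n132409
theorem D207827 : act 3 n132409 = n207827 := rfl
theorem F446609 : act 2 n207827 = n148747 := d0_1 D207827 (iv3 D148747) F114437 D159565 F347266
theorem F446610 : act 6 n207827 = n205637 := d7_2 F446078 D207827 (iv3 F446075)
theorem F446611 : act 7 n207827 = n201037 := d8_2 (iv7 F347267) D207827 F418830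
theorem F446612 : act 0 n207827 = n201036 := d19_4 (iv1 F203717) F220098 (iv4 F347265) D207827 (iv5 F423587) F212468 F96872 (iv1 F350882) (iv5 F442206) F442205 (iv3 D140360) (iv1 D65882) D65884 D140368 F345617 (iv1 D184595) (iv5 F143965) F329618 F203699
theorem F446613 : act 0 n201035 = n207827 := d20_4 (iv4 F216230) F347249 (iv4 F347241) (iv3 F418828) (iv3 D207827) F347265 (iv1 D126839) D126840 F204084 (iv1 F347252)
theorem F446614 : act 5 n207827 = n206746 := d17_3 (iv1 F350879) (iv5 F418826) F446613 F442034 (iv5 D202313) F179898 D126836 F204082 (iv4 F251327)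
def n207828 : Q := act 5 n132409
theorem D207828 : act 5 n132409 = n207828 := rfl
theorem F446615 : act 2 n207828 = n159581 := d2_1 D207828 F251351 F347266
theorem F446616 : act 3 n207828 = n206746 := d6_1 D207828 (iv5 F446614) (iv3 D207827)
theorem F446617 : act 6 n207828 = n206745 := d12_2 F446078 D207828 F442030 (iv6 F437227) (iv5 F446077)
theorem F446618 : act 7 n207828 = n206902 := d13_2 (iv7 F347267) D207828 (iv5 D206902)
def n207829 : Q := act 4 n132411
theorem D207829 : act 4 n132411 = n207829 := rfl
theorem F446619 : act 3 n207829 = n143100 := d5_1 D207829 F225956 (iv3 F345908) (iv4 D132421) (iv3 F212481)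
theorem F446620 : act 6 n207829 = n191587 := d10_2 F446605 D207829 F446606
theorem F446621 : act 7 n207829 = n143098 := d11_2 (iv7 F418829) D207829 (iv4 F418827)
def n207830 : Q := act 3 n132413
theorem D207830 : act 3 n132413 = n207830 := rfl
theorem F446622 : act 2 n207830 = n132672 := d0_1 D207830 (iv3 D132672) F203558 (iv3 F437572) (iv2 F437573)
theorem F446623 : act 4 n206572 = n207830 := d20_2 F443378 (iv1 F441390) (iv3 D207830) (iv1 F437590) F437585 (iv4 F345002) F344982 D98606 D191634 F443379
theorem F446624 : act 6 n195708 = n207830 := d3_0 F446622 (iv6 F397651) F397913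
theorem F446625 : act 1 n207830 = n206952 := d15_0 (iv0 F442723) F437680 (iv2 F446622)
def n207831 : Q := act 6 n132413
theorem D207831 : act 6 n132413 = n207831 := rfl
theorem F446626 : act 3 n207831 = n195708 := d7_1 D207831 F446624 (iv3 D207830)
theorem F446627 : act 4 n207831 = n202894 := d10_1 D207831 F426083 F384124
theorem F446628 : act 5 n207831 = n205722 := d21_6 (iv5 F95313) (iv1 D29410) D29412 D62126 D132413 D207831 (iv1 F437658) (iv5 D205742) (iv6 D126568) (iv1 F95314)
theorem F446629 : act 0 n146853 = n207831 := d21_10 F446628 (iv1 F437658) (iv5 D205742) (iv6 D126568) (iv1 F95314) D129132 D206707 F441927 (iv5 D146852) D146853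
def n207832 : Q := act 6 n132414
theorem D207832 : act 6 n132414 = n207832 := rfl
theorem F446630 : act 3 n207832 = n132528 := d7_1 D207832 F212713 (iv3 F384119)
theorem F446631 : act 4 n207832 = n134479 := d10_1 D207832 (iv6 F365388) (iv4 F384120)
theorem F446632 : act 7 n132559 = n207832 := d11_0 F446631 (iv7 F422066) F422064
theorem F446633 : act 0 n188735 = n207832 := d20_1 D188735 F446631 (iv3 D134479) (iv1 F179289) (iv3 F349138) F362285 F377921 (iv4 F398257) F398256 (iv1 D188734)
def n207833 : Q := act 5 n132417
theorem D207833 : act 5 n132417 = n207833 := rfl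
theorem F446634 : act 3 n207833 = n132418 := d6_1 D207833 (iv5 D132418) D132417
theorem F446635 : act 7 n207833 = n206886 := d13_2 (iv7 F212488) D207833 (iv5 D206886)
theorem F446636 : act 0 n207833 = n195618 := d17_2 (iv1 F402682) D207833 F397648 F163125 (iv5 F77469) (iv0 F381058) D195685 (iv0 F402679) (iv4 F402681)
def n207834 : Q := act 6 n132418
theorem D207834 : act 6 n132418 = n207834 := rfl
theorem F446637 : act 2 n207834 = n207823 := d3_1 D207834 F446601 F437595
theorem F446638 : act 4 n207834 = n137774 := d10_1 D207834 (iv6 D137774) (iv4 F345906)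
theorem F446639 : act 0 n207820 = n207834 := d21_4 (iv5 D129139) (iv1 F96839) D132404 D207820 (iv6 D207834) (iv5 D132418) (iv1 F203542) (iv5 F345903) (iv6 D132663) (iv1 F207830)
theorem F446640 : act 7 n207824 = n207834 := d15_2 (iv0 D207823) D207824 F446637
theorem F446641 : act 4 n191566 = n207824 := d11_3 F446640 F446638 (iv7 F383847)
theorem F446642 : act 6 n191565 = n207824 := d14_5 F446640 (iv6 D207834) F212489 (iv6 F442524) F442525
def n207835 : Q := act 5 n132419
theorem D207835 : act 5 n132419 = n207835 := rfl
theorem F446643 : act 2 n207835 = n132561 := d2_1 D207835 (iv5 F437598) (iv2 F437601)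
theorem F446644 : act 3 n207835 = n195709 := d6_1 D207835 (iv5 F419332) (iv3 F419333)
theorem F446645 : act 7 n207835 = n132673 := d13_2 F437604 D207835 (iv5 F437605)
theorem F446646 : act 4 n207835 = n136328 := d16_2 (iv4 F347280) D207835 F219415 (iv4 F217146) F401184 F401183 (iv5 D137820) (iv7 F386027) F386026
theorem F446647 : act 1 n207835 = n133171 := d17_6 F360512 (iv5 F162008) (iv1 F361810) (iv5 D137815) (iv4 F347280) D207835 (iv5 F442532) F442530 F437596
theorem F446648 : act 6 n207835 = n132529 := d21_3 D62128 D132419 D207835 (iv1 D132529) (iv6 D62177) D62176 F96931 F95537 D62034 F96667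
theorem F446649 : act 1 n195428 = n207835 := d15_0 F446647 (iv7 F213945) (iv2 F396984)
def n207836 : Q := act 6 n132419
theorem D207836 : act 6 n132419 = n207836 := rfl
theorem F446650 : act 2 n207836 = n207644 := d3_1 D207836 F445820 (iv2 F437601)
theorem F446651 : act 4 n207836 = n137816 := d10_1 D207836 (iv6 D137816) (iv4 F347280)
def n207837 : Q := act 3 n132420
theorem D207837 : act 3 n132420 = n207837 := rfl
theorem F446652 : act 7 n207837 = n205723 := d8_2 (iv7 F437602) D207837 (iv3 F437618)
theorem F446653 : act 0 n207837 = n132670 := d19_4 F360520 (iv5 D137820) (iv4 F345905) D207837 (iv5 D132670) (iv4 F99100) (iv3 F217977) F426283 F426280 (iv4 F371019) F371018 D188291 F372975 (iv4 F223821) (iv3 F220855) (iv1 F400489) F400488 (iv4 F406413) F406412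
theorem F446654 : act 0 n205719 = n207837 := d20_4 F207665 F350854 (iv4 F212468) (iv3 F437557) (iv3 D207837) F345905 (iv1 D64768) D64769 (iv3 F204084) F367915
theorem F446655 : act 2 n205722 = n207837 := d15_3 (iv0 F446654) (iv0 F442342) (iv7 F442982)
def n207838 : Q := act 6 n132420
theorem D207838 : act 6 n132420 = n207838 := rfl
theorem F446656 : act 4 n207838 = n137821 := d10_1 D207838 (iv6 D137821) (iv4 F345905)
def n207839 : Q := act 1 n132421
theorem D207839 : act 1 n132421 = n207839 := rfl
theorem F446657 : act 1 n207839 = n143082 := d15_1 D207839 (iv7 F437610) F437608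
theorem F446658 : act 7 n207839 = n134195 := d15_2 (iv0 F345907) D207839 F347250
theorem F446659 : act 4 n207839 = n205732 := d18_7 (iv1 D132214) F96661 F47054 (iv4 F47131) D62128 D132421 D207839 (iv0 F437619) (iv5 F361829)
theorem F446660 : act 3 n134033 = n207839 := d19_19 (iv1 D207839) F345909 (iv4 F162230) (iv3 D105630) (iv1 D48834) D48836 D105636 D195503 F397174 (iv5 F350213) (iv4 F378070) (iv3 F408092) (iv1 F408098) F377935 (iv4 D105664) D105663 (iv1 F206706) F206703 (iv4 F216008)
theorem F446661 : act 2 n207839 = n137368 := d0_1 F446660 (iv3 D137368) (iv2 F106589) (iv3 F327702) F216009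
theorem F446662 : act 6 n207839 = n187691 := d7_2 F217092 F446660 F371191
def n207840 : Q := act 4 n132424
theorem D207840 : act 4 n132424 = n207840 := rfl
theorem F446663 : act 2 n207840 = n143080 := d1_1 D207840 (iv4 F344612) (iv2 F328421)
theorem F446664 : act 3 n207840 = n136003 := d5_1 D207840 F218804 F106100 D69727 (iv3 F328422)
theorem F446665 : act 5 n207840 = n136063 := d9_2 D132424 D207840 F218961 (iv5 F344609) F161974 F76815 (iv4 F96661) D132215 D207683 F445997 F220536 (iv5 F344611) F162188 F93682 D62131
theorem F446666 : act 7 n207840 = n136925 := d11_2 (iv7 F212492) D207840 (iv4 F328625)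
def n207841 : Q := act 6 n132424
theorem D207841 : act 6 n132424 = n207841 := rfl
theorem F446667 : act 2 n207841 = n205748 := d3_1 D207841 (iv6 F437688) (iv2 F328421)
theorem F446668 : act 3 n207841 = n148778 := d7_1 D207841 (iv6 D148778) (iv3 F328422)
theorem F446669 : act 7 n207841 = n205788 := d14_2 (iv7 F212492) D207841 (iv6 F444419) (iv7 F444423) F442421
theorem F446670 : act 0 n205785 = n207841 := d21_4 F95908 D129300 (iv5 F208379) D205785 (iv6 D207841) (iv5 D132424) (iv1 F211826) F361829 (iv6 F361795) (iv1 D129115)
theorem F446671 : act 1 n205790 = n207841 := d15_1 (iv0 F437879) F446669 F444400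
def n207842 : Q := act 3 n132429
theorem D207842 : act 3 n132429 = n207842 := rfl
theorem F446672 : act 6 n207842 = n200197 := d7_2 (iv6 F212499) D207842 (iv3 D200197)
def n207843 : Q := act 5 n132431
theorem D207843 : act 5 n132431 = n207843 := rfl
theorem F446673 : act 2 n207843 = n198389 := d2_1 D207843 F407847 (iv2 F228679)
theorem F446674 : act 3 n207843 = n197432 := d6_1 D207843 (iv5 D197432) (iv3 F404224)
theorem F446675 : act 4 n207843 = n137815 := d9_1 D207843 (iv5 D137815) (iv4 F347280) D207835 F446646 F219415 (iv4 F217146) F401184 F401183 (iv5 D137820) (iv4 F345905) (iv5 F437675) F437673 F217133 F217137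
theorem F446676 : act 7 n207843 = n205933 := d13_2 F228682 D207843 F438485
theorem F446677 : act 0 n207843 = n195429 := d17_2 (iv1 F228661) D207843 (iv5 D195429) (iv4 D105586) F101894 (iv0 F203579) F203577 F104423 (iv4 F228659)
theorem F446678 : act 1 n207843 = n139824 := d17_6 D106411 D195896 F398646 F217133 F217137 D207843 F336173 (iv0 F162192) (iv4 F77648)
def n207844 : Q := act 0 n132432
theorem D207844 : act 0 n132432 = n207844 := rfl
theorem F446679 : act 4 n207844 = n204976 := d18_3 (iv1 D132514) (iv4 F212500) D207844 F434409 F229695 (iv0 F319126) F313961 F104060 (iv5 F316355)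
theorem F446680 : act 1 n205032 = n207844 := d15_0 (iv0 D207844) (iv7 F228676) (iv2 F434701)
theorem F446681 : act 2 n205030 = n207844 := d1_3 F446679 F434408 (iv4 F434695)
theorem F446682 : act 6 n203257 = n207844 := d10_0 F446679 F434410 (iv4 F427539)
theorem F446683 : act 7 n205031 = n207844 := d11_0 F446679 F434411 (iv4 F434700)
def n207845 : Q := act 1 n132432
theorem D207845 : act 1 n132432 = n207845 := rfl
theorem F446684 : act 1 n207845 = n205032 := d15_1 D207845 (iv7 D205032) (iv2 F353529)
theorem F446685 : act 7 n207845 = n205030 := d15_2 (iv0 D207844) D207845 F446681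
theorem F446686 : act 4 n148003 = n207845 := d20_6 F313906 (iv1 F46744) (iv4 F49362) (iv3 F101774) F314625 (iv3 F231825) (iv1 D207845) F212500 (iv3 D62171) (iv1 F313905)
theorem F446687 : act 2 n207845 = n205031 := d1_1 F446686 F434700 F420711
theorem F446688 : act 3 n207845 = n200014 := d5_1 F446686 (iv4 F427036) F427035 (iv4 D148014) (iv3 F231825)
theorem F446689 : act 6 n207845 = n139830 := d10_2 (iv6 F364528) F446686 (iv4 F364530)
def n207846 : Q := act 1 n132442
theorem D207846 : act 1 n132442 = n207846 := rfl
theorem F446690 : act 1 n207846 = n206793 := d15_1 D207846 (iv7 D206793) (iv2 F212515)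
theorem F446691 : act 7 n207846 = n206790 := d15_2 (iv0 F446393) D207846 (iv2 F446390)
theorem F446692 : act 4 n205873 = n207846 := d20_0 (iv1 D207846) F212517 (iv3 F325471) (iv1 D126959) F94005 F45784 D30393 (iv4 F93855) (iv3 F203930) D205873
theorem F446693 : act 6 n134266 = n207846 := d21_3 (iv5 D206983) (iv1 F207858) D134266 (iv1 D207846) (iv6 D132442) (iv5 F97401) F208828 (iv5 D130290) D130291 (iv1 F442843)
theorem F446694 : act 5 n134265 = n207846 := d21_6 F421228 F442423 (iv5 D206854) (iv6 D129429) (iv1 F98388) D134265 (iv1 D207846) F365936 (iv6 F446499) F446500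
theorem F446695 : act 2 n207846 = n206791 := d2_1 F446694 F442198 F396505
theorem F446696 : act 1 n203121 = n134265 := d17_6 (iv1 F350885) F322574 F204206 F350886 (iv4 F439224) F439225 F446694 F446690 F442202
theorem F446697 : act 3 n207846 = n206694 := d7_1 F446693 F446227 (iv3 F446224)
def n207847 : Q := act 4 n132445
theorem D207847 : act 4 n132445 = n207847 := rfl
theorem F446698 : act 2 n207847 = n196276 := d1_1 D207847 F400159 (iv2 F212519)
theorem F446699 : act 6 n207847 = n178507 := d10_2 (iv6 F348505) D207847 (iv4 D178507)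
theorem F446700 : act 7 n207847 = n206949 := d11_2 F354198 D207847 (iv4 D206949)
theorem F446701 : act 1 n207847 = n205869 := d18_6 D205873 F446692 (iv1 D207846) F212517 D132445 D207847 (iv4 D205869) (iv0 D126711) D126714
theorem F446702 : act 0 n207847 = n202452 := d20_1 D207847 F424063 F367015 F367032 F212651 F320137 (iv1 F320135) (iv4 F320410) D141807 F337580
def n207848 : Q := act 0 n132453
theorem D207848 : act 0 n132453 = n207848 := rfl
def n207849 : Q := act 1 n132453
theorem D207849 : act 1 n132453 = n207849 := rfl
theorem F446703 : act 1 n207849 = n187724 := d15_1 D207849 F371323 (iv2 F212551)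
theorem F446704 : act 4 n207849 = n207766 := d18_7 F408328 (iv4 D190977) (iv1 D97111) (iv4 F149847) F325473 (iv4 F212552) D207849 (iv0 F446326) F444256
theorem F446705 : act 3 n201136 = n207849 := d20_3 F398427 (iv1 F397696) (iv4 F419220) (iv1 D207849) (iv3 F417396) (iv4 D200664) (iv1 D113323) D113324 D200667 F417403
theorem F446706 : act 5 n207849 = n201674 := d6_2 F419221 F446705 (iv3 D201674)
theorem F446707 : act 7 n207849 = n206784 := d8_2 F421633 F446705 F442778
theorem F446708 : act 2 n206784 = n207848 := d15_3 (iv0 D207848) D207849 F446707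
theorem F446709 : act 7 n206785 = n207848 := d15_2 (iv0 D206784) D206785 (iv2 F446708)
theorem F446710 : act 2 n207849 = n206785 := d4_3 F446709 (iv2 F446708) (iv7 F446707)
theorem F446711 : act 1 n187724 = n207848 := d15_1 F446703 (iv7 F446709) (iv2 F446710)
theorem F446712 : act 6 n206942 = n207849 := d10_0 F446704 F446324 (iv4 F442673)
def n207850 : Q := act 5 n132453
theorem D207850 : act 5 n132453 = n207850 := rfl
theorem F446713 : act 2 n207850 = n206786 := d2_1 D207850 (iv5 D206786) (iv2 F212551)
theorem F446714 : act 0 n201644 = n207850 := d19_0 (iv5 D207850) F212552 (iv3 F212544) (iv1 F348877) (iv5 D124561) (iv4 D58135) (iv3 F85742) (iv1 F308902) (iv5 D108006) F104782 D65366 (iv1 F313937) F320145 (iv4 F225624) F317995 (iv1 F178184) (iv5 F177629) (iv4 F179004) D201644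
def n207851 : Q := act 7 n132453
theorem D207851 : act 7 n132453 = n207851 := rfl
theorem F446715 : act 2 n207851 = n187724 := d4_1 D207851 F371323 (iv2 F212551)
theorem F446716 : act 3 n207851 = n200959 := d8_1 D207851 (iv7 F418506) F417396
theorem F446717 : act 4 n207851 = n132457 := d11_1 D207851 (iv7 D132457) (iv4 F212552)
theorem F446718 : act 6 n207851 = n206793 := d14_1 D207851 (iv7 D206793) (iv6 D129317) (iv7 F97409) D132453
theorem F446719 : act 1 n206785 = n207851 := d15_1 D206785 (iv7 D207851) F212551
theorem F446720 : act 1 n207851 = n206784 := d15_1 F446719 (iv7 F446707) F446710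
def n207852 : Q := act 5 n132455
theorem D207852 : act 5 n132455 = n207852 := rfl
theorem F446721 : act 2 n207852 = n145779 := d2_1 D207852 (iv5 F358024) F358028
theorem F446722 : act 3 n207852 = n206944 := d6_1 D207852 (iv5 D206944) F363459
theorem F446723 : act 6 n207852 = n145778 := d12_2 F363460 D207852 (iv5 F425522) F442681 (iv5 D206944)
theorem F446724 : act 7 n207852 = n206788 := d13_2 (iv7 F358027) D207852 (iv5 D206788)
theorem F446725 : act 0 n207852 = n132606 := d21_1 D207852 (iv5 D132606) D132607 F359980 F359758 (iv5 F223102) (iv1 F354196) (iv5 D129570) F348915 F324316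
theorem F446726 : act 0 n132601 = n207852 := d21_10 (iv5 D207852) (iv1 D132455) (iv5 F325473) (iv6 D97109) (iv1 F147251) (iv6 F347917) (iv5 D166150) D166147 F330774 (iv6 F348894)
def n207853 : Q := act 5 n132480
theorem D207853 : act 5 n132480 = n207853 := rfl
theorem F446727 : act 7 n207853 = n206938 := d13_2 F359752 D207853 (iv5 D206938)
theorem F446728 : act 1 n207853 = n205901 := d17_6 F359980 (iv5 F224815) F354187 (iv5 D132481) D132480 D207853 (iv5 D205901) D205900 (iv4 F438343)
theorem F446729 : act 6 n207853 = n205770 := d21_3 F445989 F423609 D207853 (iv1 F437806) F344983 (iv5 D126581) F203290 D129678 D206982 F445992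
def n207854 : Q := act 3 n132505
theorem D207854 : act 3 n132505 = n207854 := rfl
theorem F446730 : act 5 n207854 = n195309 := d6_2 F364107 D207854 F396666
theorem F446731 : act 6 n207854 = n206811 := d7_2 (iv6 F336574) D207854 (iv3 D206811)
theorem F446732 : act 7 n207854 = n206758 := d8_2 (iv7 F217729) D207854 F442078
theorem F446733 : act 4 n207854 = n141325 := d20_6 F23322 D13995 D29427 D62165 D132505 D207854 (iv1 D141325) F102208 (iv3 D31038) F46536
theorem F446734 : act 1 n133258 = n207854 := d17_8 (iv1 D141325) (iv5 F329081) (iv1 D138114) (iv5 D64892) (iv4 F93869) D126749 F438277 (iv5 F438275) F446733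
theorem F446735 : act 0 n205961 = n207854 := d20_10 F446733 (iv1 D141325) F102208 (iv3 D31038) F46536 (iv3 F47145) (iv4 F96845) D132409 F347265 D205961
def n207855 : Q := act 4 n132505
theorem D207855 : act 4 n132505 = n207855 := rfl
theorem F446736 : act 2 n207855 = n206769 := d1_1 D207855 (iv4 D206769) F217730
theorem F446737 : act 6 n207855 = n206812 := d10_2 (iv6 F336574) D207855 (iv4 D206812)
theorem F446738 : act 7 n207855 = n206761 := d11_2 (iv7 F217729) D207855 F442087
theorem F446739 : act 0 n207855 = n206008 := d17_0 F438813 F436017 F435544 F417797 (iv5 D194383) (iv0 F355178) F354110 F212645 D207855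
theorem F446740 : act 1 n207855 = n206010 := d18_6 (iv1 F203810) D126926 (iv1 F392742) F392739 F364107 D207855 (iv4 D206010) (iv0 F438054) (iv5 D205833)
def n207856 : Q := act 3 n132513
theorem D207856 : act 3 n132513 = n207856 := rfl
theorem F446741 : act 2 n207856 = n202361 := d0_1 D207856 (iv3 F439487) F439486 F228026 (iv2 F316350)
theorem F446742 : act 5 n207856 = n144960 := d6_2 (iv5 F316351) D207856 (iv3 D144960)
theorem F446743 : act 6 n207856 = n177189 := d7_2 (iv6 F316352) D207856 (iv3 F359934)
theorem F446744 : act 7 n207856 = n145056 := d8_2 (iv7 F316353) D207856 F228001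
theorem F446745 : act 4 n207856 = n178668 := d20_6 (iv4 F316118) (iv1 D29429) D29430 D62171 D132513 D207856 (iv1 F360886) F360865 F180849 (iv1 F313607)
theorem F446746 : act 1 n202969 = n207856 := d17_8 (iv1 F360886) F224074 F339868 F336232 (iv4 F179978) D202334 (iv0 F423671) D202969 F446745
theorem F446747 : act 0 n206340 = n207856 := d20_10 F446745 (iv1 F360886) F360865 F180849 (iv1 F313607) (iv3 F184332) D203133 (iv1 F427097) (iv4 F361195) (iv3 F440328)
def n207857 : Q := act 4 n132513
theorem D207857 : act 4 n132513 = n207857 := rfl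
theorem F446748 : act 2 n207857 = n139397 := d1_1 D207857 F347169 (iv2 F316350)
theorem F446749 : act 3 n207857 = n199339 := d5_1 D207857 F411768 (iv3 F408061) (iv4 F446745) (iv3 D207856)
theorem F446750 : act 5 n207857 = n139396 := d9_2 (iv5 F316351) D207857 F222606 D139410 F357970 (iv5 D119207) (iv4 F319720) (iv5 F316355) (iv4 F396788) (iv5 D195346) F162054 D108902 (iv4 F354594) (iv5 D119204) F316464
theorem F446751 : act 6 n207857 = n203259 := d10_2 (iv6 F316352) D207857 (iv4 D203259)
theorem F446752 : act 7 n207857 = n145066 := d11_2 (iv7 F316353) D207857 (iv4 D145066)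
def n207858 : Q := act 6 n132522
theorem D207858 : act 6 n132522 = n207858 := rfl
theorem F446753 : act 2 n207858 = n207013 := d3_1 D207858 (iv6 D207013) F437764
theorem F446754 : act 7 n207858 = n205622 := d14_2 F437765 D207858 (iv6 D205622) F336994 F396541
def n207859 : Q := act 5 n132524
theorem D207859 : act 5 n132524 = n207859 := rfl
theorem F446755 : act 2 n207859 = n132525 := d2_1 D207859 (iv5 D132525) D132524
theorem F446756 : act 3 n207859 = n132545 := d6_1 D207859 (iv5 D132545) (iv3 F212700)
theorem F446757 : act 7 n207859 = n207014 := d13_2 (iv7 F212702) D207859 (iv5 D207014)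
theorem F446758 : act 4 n207859 = n203767 := d16_2 (iv4 F212701) D207859 F429750 (iv4 F432806) (iv5 F437639) (iv4 D205737) (iv5 D126566) F93684 D126485
theorem F446759 : act 0 n207859 = n207017 := d17_2 (iv1 F212703) D207859 F442979 (iv4 F437783) F437787 (iv0 D135473) (iv5 F203447) F437435 F437357
theorem F446760 : act 1 n207859 = n207016 := d17_6 D126473 F365160 F437265 (iv5 D205625) (iv4 F212701) D207859 F442975 (iv0 D132177) F96603
def n207860 : Q := act 6 n132524
theorem D207860 : act 6 n132524 = n207860 := rfl
theorem F446761 : act 2 n207860 = n132526 := d3_1 D207860 (iv6 D132526) D132524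
theorem F446762 : act 3 n207860 = n132546 := d7_1 D207860 (iv6 D132546) (iv3 F212700)
theorem F446763 : act 4 n207860 = n205626 := d10_1 D207860 (iv6 D205626) (iv4 F212701)
theorem F446764 : act 7 n207860 = n207652 := d14_2 (iv7 F212702) D207860 F445846 (iv7 F442974) (iv6 D207015)
theorem F446765 : act 0 n207860 = n207727 := d21_4 (iv5 F442975) (iv1 F446760) (iv5 D207859) D207860 (iv6 F446172) F437648 (iv1 F414833) F414830 (iv6 D132181) D132177
theorem F446766 : act 5 n207860 = n207653 := d21_6 D126556 F217260 (iv5 F336995) F396541 (iv1 F212703) D207860 (iv1 F445852) (iv5 F437548) (iv6 D205717) (iv1 D126554)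
theorem F446767 : act 0 n207726 = n207860 := d21_7 D206920 F442613 (iv5 D192972) (iv6 F236269) (iv1 F355370) D204635 (iv5 F446171) F446766 F445850 F394068
def n207861 : Q := act 4 n132525
theorem D207861 : act 4 n132525 = n207861 := rfl
theorem F446768 : act 2 n207861 = n203767 := d1_1 D207861 (iv4 F446758) F446755
theorem F446769 : act 3 n207861 = n136522 := d5_1 D207861 (iv4 D136522) F99919 (iv4 F96929) (iv3 F212706)
theorem F446770 : act 7 n207861 = n198017 := d11_2 (iv7 F212707) D207861 F406528
theorem F446771 : act 5 n204536 = n207861 := d13_3 F446770 (iv5 F412802) (iv7 F432819)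
theorem F446772 : act 0 n196363 = n207861 := d20_4 (iv4 F164798) F364229 (iv4 F164790) (iv3 F400476) F446769 (iv4 D136522) D136520 F405899 (iv3 D197822) (iv1 D108690)
def n207862 : Q := act 0 n132526
theorem D207862 : act 0 n132526 = n207862 := rfl
theorem F446773 : act 3 n207862 = n206086 := d20_5 (iv4 D132534) (iv1 D62179) (iv4 F96934) (iv3 F212708) D207862 (iv4 D206086) (iv1 F352193) (iv4 F441486) F441485 (iv1 F219407)
theorem F446774 : act 5 n207862 = n207053 := d21_2 (iv5 F361173) D207862 (iv6 D207053) (iv1 F361181) (iv6 F442588) (iv5 D206913) D206911 (iv5 F445856) (iv6 F445855) (iv1 F445851)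
theorem F446775 : act 6 n207862 = n207739 := d21_5 D206833 F442344 (iv5 D132525) D132526 D207862 F446199 (iv1 D200082) D200083 (iv6 F414952) (iv1 F211740)
theorem F446776 : act 1 n207652 = n207862 := d15_0 (iv0 D207862) (iv7 F361167) (iv2 F445845)
theorem F446777 : act 2 n207727 = n207862 := d3_3 F446775 (iv2 F446202) F446172
theorem F446778 : act 7 n207726 = n207862 := d15_2 (iv0 F446765) (iv0 F446767) (iv2 F446777)
def n207863 : Q := act 1 n132526
theorem D207863 : act 1 n132526 = n207863 := rfl
theorem F446779 : act 1 n207863 = n207652 := d15_1 D207863 (iv7 F446764) F446761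
theorem F446780 : act 7 n207863 = n207727 := d15_2 (iv0 D207862) D207863 F446777
theorem F446781 : act 4 n206867 = n207863 := d20_6 F203365 F163864 (iv4 F203406) (iv3 F344989) (iv1 F207611) (iv3 F442453) (iv1 D207863) F212709 F203362 D126489
theorem F446782 : act 6 n207697 = n207863 := d21_3 (iv5 F437662) (iv1 F437664) D207697 (iv1 D207863) (iv6 D132526) D132525 (iv1 F442341) (iv5 D206830) D206831 F442342
theorem F446783 : act 5 n207046 = n207863 := d21_6 (iv5 F442381) (iv1 D193044) (iv5 D101116) (iv6 F155750) (iv1 F347624) D207046 (iv1 D207863) F361173 F211890 (iv1 F442376)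
theorem F446784 : act 2 n207863 = n207726 := d2_1 F446783 F446171 (iv2 F443109)
theorem F446785 : act 3 n207863 = n207049 := d6_1 F446783 (iv5 D207049) (iv3 F443110)
def n207864 : Q := act 1 n132527
theorem D207864 : act 1 n132527 = n207864 := rfl
theorem F446786 : act 1 n207864 = n132556 := d15_1 D207864 (iv7 D132556) (iv2 F212710)
theorem F446787 : act 7 n207864 = n132553 := d15_2 F441477 D207864 (iv2 F388561)
theorem F446788 : act 2 n132554 = n207864 := d4_3 F446787 (iv2 F388561) F388560
theorem F446789 : act 4 n136592 = n207864 := d11_3 F446787 F441481 (iv7 F375578)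
def n207865 : Q := act 5 n132528
theorem D207865 : act 5 n132528 = n207865 := rfl
theorem F446790 : act 2 n207865 = n132558 := d2_1 D207865 (iv5 D132558) F212714
theorem F446791 : act 6 n207865 = n207035 := d12_2 (iv6 F212713) D207865 (iv5 F446198) (iv6 D207738) F211896
theorem F446792 : act 7 n207865 = n132560 := d13_2 F212715 D207865 (iv5 D132560)
theorem F446793 : act 0 n207865 = n206690 := d17_2 D132528 D207865 (iv5 D206690) (iv4 D129112) (iv5 F103857) (iv0 F212736) (iv5 D132533) (iv0 D62178) (iv4 F96934)
theorem F446794 : act 1 n207865 = n206688 := d17_6 D135472 F217834 F217256 (iv5 D134478) (iv4 F212712) D207865 (iv5 D206688) F211973 (iv4 F99021)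
def n207866 : Q := act 5 n132529
theorem D207866 : act 5 n132529 = n207866 := rfl
theorem F446795 : act 2 n207866 = n132560 := d2_1 D207866 (iv5 D132560) (iv2 F212720)
theorem F446796 : act 3 n207866 = n201620 := d6_1 D207866 (iv5 F445434) F445431
theorem F446797 : act 7 n207866 = n132558 := d13_2 (iv7 F212718) D207866 (iv5 D132558)
theorem F446798 : act 0 n207866 = n206688 := d17_2 (iv1 F212717) D207866 (iv5 D206688) (iv4 D129110) D129111 (iv0 F207340) F162248 F96937 (iv4 F96959)
theorem F446799 : act 1 n207866 = n206690 := d17_6 (iv1 F213981) (iv5 F219888) F219889 (iv5 D136327) F212719 D207866 (iv5 D206690) F212441 (iv4 F213978)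
def n207867 : Q := act 3 n132532
theorem D207867 : act 3 n132532 = n207867 := rfl
theorem F446800 : act 4 n207867 = n135012 := d5_2 D132532 D207867 (iv3 D135012) F168017 (iv3 F168016)
theorem F446801 : act 6 n207867 = n132683 := d7_2 (iv6 F212729) D207867 (iv3 D132683)
theorem F446802 : act 7 n207867 = n132573 := d8_2 (iv7 F212730) D207867 (iv3 D132573)
theorem F446803 : act 0 n207867 = n183402 := d20_4 F96934 D62178 D132532 D207867 (iv3 F419238) (iv4 D201141) F347558 D207555 F445431 (iv1 D132529)
theorem F446804 : act 5 n207681 = n207867 := d17_1 (iv1 F445987) F446803 (iv5 F421228) (iv4 F431196) (iv5 D204147) (iv0 F410277) F410275 D199071 (iv4 F442414)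
theorem F446805 : act 2 n207867 = n207341 := d2_1 F446804 F444420 (iv2 F445984)
theorem F446806 : act 1 n207867 = n206817 := d15_0 (iv0 F442422) F444423 (iv2 F446805)
def n207868 : Q := act 5 n132532
theorem D207868 : act 5 n132532 = n207868 := rfl
theorem F446807 : act 2 n207868 = n132568 := d2_1 D207868 (iv5 D132568) (iv2 F212728)
theorem F446808 : act 3 n207868 = n207681 := d6_1 D207868 F446804 (iv3 D207867)
theorem F446809 : act 7 n207868 = n132574 := d13_2 (iv7 F212730) D207868 (iv5 D132574)
theorem F446810 : act 0 n207868 = n206684 := d17_2 F212731 D207868 (iv5 D206684) F213975 (iv5 F219986) F224330 F224328 (iv0 F168431) (iv4 F161916)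
theorem F446811 : act 1 n207868 = n191840 := d17_6 D60696 D129111 F212737 (iv5 D132533) D132532 D207868 (iv5 F404035) (iv0 D129106) F95285
def n207869 : Q := act 4 n132533
theorem D207869 : act 4 n132533 = n207869 := rfl
theorem F446812 : act 2 n207869 = n132569 := d1_1 D207869 (iv4 D132569) (iv2 F212732)
theorem F446813 : act 6 n207869 = n205432 := d10_2 (iv6 F212734) D207869 (iv4 D205432)
theorem F446814 : act 7 n207869 = n132576 := d11_2 (iv7 F212735) D207869 (iv4 D132576)
theorem F446815 : act 0 n207869 = n197357 := d17_0 F404028 F404031 (iv5 D144447) (iv4 D67686) F49730 D60697 (iv5 F103857) (iv0 F212736) D207869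
theorem F446816 : act 1 n207869 = n141304 := d18_6 (iv1 D115091) (iv4 F161916) F212731 (iv4 D132532) D132533 D207869 F224325 (iv0 F216199) F180048
def n207870 : Q := act 5 n132534
theorem D207870 : act 5 n132534 = n207870 := rfl
theorem F446817 : act 2 n207870 = n132574 := d2_1 D207870 (iv5 D132574) (iv2 F212738)
theorem F446818 : act 6 n207870 = n207678 := d12_2 F347261 D207870 (iv5 D207678) (iv6 F347264) (iv5 F233571)
theorem F446819 : act 7 n207870 = n132568 := d13_2 (iv7 F212739) D207870 (iv5 D132568)
theorem F446820 : act 0 n207870 = n191840 := d17_2 (iv1 F219407) D207870 (iv5 F404035) F213967 F213964 (iv0 F216199) F180048 F179215 (iv4 F219406)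
theorem F446821 : act 1 n207870 = n206684 := d17_6 (iv1 F96827) (iv5 F103857) F162249 F162248 D132534 D207870 (iv5 D206684) F212422 F212419
def n207871 : Q := act 4 n132535
theorem D207871 : act 4 n132535 = n207871 := rfl
theorem F446822 : act 2 n207871 = n136336 := d1_1 D207871 (iv4 D136336) (iv2 F330452)
theorem F446823 : act 3 n207871 = n196088 := d5_1 D207871 F399362 (iv3 F397712) D205711 F437527
theorem F446824 : act 7 n207871 = n136331 := d11_2 (iv7 F330453) D207871 (iv4 D136331)
theorem F446825 : act 0 n207871 = n196077 := d17_0 F399335 (iv1 F398951) (iv5 F446012) (iv4 D207687) D207688 F446019 (iv5 D136339) F212741 D207871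
theorem F446826 : act 1 n207871 = n196052 := d18_8 (iv1 F398952) (iv4 D195978) (iv1 F164411) (iv4 F362908) (iv5 D106844) (iv4 F99708) F212741 D207871 (iv5 D196052)
def n207872 : Q := act 6 n132535
theorem D207872 : act 6 n132535 = n207872 := rfl
theorem F446827 : act 2 n207872 = n136338 := d3_1 D207872 (iv6 D136338) (iv2 F330452)
theorem F446828 : act 7 n207872 = n207055 := d14_2 (iv7 F330453) D207872 (iv6 F443144) F419182 (iv6 D136333)
def n207873 : Q := act 0 n132539
theorem D207873 : act 0 n132539 = n207873 := rfl
theorem F446829 : act 5 n207873 = n205815 := d17_3 (iv1 F102051) D132539 D207873 (iv4 D205815) (iv5 D126620) F93749 F47027 F101876 D61229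
theorem F446830 : act 2 n206956 = n207873 := d15_3 (iv0 D207873) (iv0 F443480) F443479
theorem F446831 : act 1 n132655 = n207873 := d15_0 (iv0 D207873) F212753 (iv2 F212951)
theorem F446832 : act 7 n207873 = n206955 := d15_2 F443481 F446831 (iv2 F443478)
def n207874 : Q := act 4 n132539
theorem D207874 : act 4 n132539 = n207874 := rfl
theorem F446833 : act 2 n207874 = n207024 := d1_1 D207874 (iv4 D207024) (iv2 F212752)
theorem F446834 : act 7 n207874 = n206957 := d11_2 (iv7 F212753) D207874 (iv4 D206957)
def n207875 : Q := act 2 n132540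
theorem D207875 : act 2 n132540 = n207875 := rfl
theorem F446835 : act 3 n207875 = n207026 := d0_2 D132540 D207875 (iv2 D207026) (iv3 D129829) (iv2 F208626)
theorem F446836 : act 4 n207875 = n134035 := d1_2 (iv4 F212755) D207875 (iv2 F216017)
theorem F446837 : act 7 n207875 = n134269 := d4_2 (iv7 F212754) D207875 F216299
theorem F446838 : act 1 n207875 = n207022 := d15_0 (iv0 F443012) (iv7 F212754) D207875
theorem F446839 : act 1 n207025 = n207875 := d15_0 F446838 F443011 F443019
def n207876 : Q := act 6 n132540
theorem D207876 : act 6 n132540 = n207876 := rfl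
theorem F446840 : act 3 n207876 = n132542 := d7_1 D207876 (iv6 D132542) D132540
theorem F446841 : act 4 n207876 = n134274 := d10_1 D207876 (iv6 D134274) (iv4 F212755)
theorem F446842 : act 7 n207876 = n206958 := d14_2 (iv7 F212754) D207876 (iv6 D206958) (iv7 F212953) (iv6 F347105)
def n207877 : Q := act 6 n132541
theorem D207877 : act 6 n132541 = n207877 := rfl
theorem F446843 : act 2 n207877 = n132754 := d3_1 D207877 (iv6 D132754) (iv2 F212756)
theorem F446844 : act 3 n207877 = n136965 := d7_1 D207877 F339489 (iv3 F212759)
theorem F446845 : act 4 n207877 = n132542 := d10_1 D207877 (iv6 D132542) D132541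
theorem F446846 : act 5 n207877 = n158449 := d12_1 D207877 F300207 (iv5 F249068) (iv6 F335253) (iv5 F212758)
theorem F446847 : act 7 n207877 = n158448 := d14_2 (iv7 F212757) D207877 F249649 (iv7 F315439) F325488
theorem F446848 : act 0 n207877 = n158472 := d21_4 (iv5 F211038) D131684 (iv5 F212758) D207877 F347024 (iv5 D126632) D126629 F220092 F324340 (iv1 F212289)
theorem F446849 : act 1 n207877 = n133090 := d15_1 (iv0 F446848) (iv7 F359265) (iv2 F347043)
def n207878 : Q := act 0 n132542
theorem D207878 : act 0 n132542 = n207878 := rfl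
theorem F446850 : act 4 n207878 = n132582 := d18_3 (iv1 F446849) F446845 D207878 F337662 F337663 F238914 (iv4 F444770) F444773 (iv5 F359264)
theorem F446851 : act 2 n133169 = n207878 := d15_3 (iv0 D207878) F365933 (iv7 F213942)
theorem F446852 : act 1 n132659 = n207878 := d15_0 (iv0 D207878) F365931 (iv2 F212961)
theorem F446853 : act 7 n207878 = n206959 := d15_2 (iv0 F347022) F446852 (iv2 F442743)
def n207879 : Q := act 5 n132542
theorem D207879 : act 5 n132542 = n207879 := rfl
theorem F446854 : act 2 n207879 = n207028 := d2_1 D207879 (iv5 D207028) (iv2 F212762)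
theorem F446855 : act 7 n207879 = n206960 := d13_2 (iv7 F365931) D207879 (iv5 D206960)
def n207880 : Q := act 2 n132543
theorem D207880 : act 2 n132543 = n207880 := rfl
theorem F446856 : act 3 n207880 = n134269 := d0_2 D132543 D207880 F216299 (iv3 D129825) (iv2 F208595)
theorem F446857 : act 4 n207880 = n135582 := d1_2 F325504 D207880 F326367
theorem F446858 : act 6 n207880 = n148713 := d3_2 (iv6 F365772) D207880 (iv2 F327300)
theorem F446859 : act 7 n207880 = n207026 := d4_2 (iv7 F212764) D207880 (iv2 D207026)
theorem F446860 : act 1 n207880 = n200992 := d15_0 F418658 (iv7 F212764) D207880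
theorem F446861 : act 1 n136330 = n207880 := d15_0 F446860 F421668 F421665
def n207881 : Q := act 6 n132545
theorem D207881 : act 6 n132545 = n207881 := rfl
theorem F446862 : act 2 n207881 = n132548 := d3_1 D207881 (iv6 D132548) (iv2 F212767)
theorem F446863 : act 4 n207881 = n203766 := d10_1 D207881 (iv6 D203766) F352314
def n207882 : Q := act 1 n132546
theorem D207882 : act 1 n132546 = n207882 := rfl
theorem F446864 : act 1 n207882 = n132552 := d15_1 D207882 (iv7 D132552) (iv2 F212771)
theorem F446865 : act 7 n207882 = n132549 := d15_2 (iv0 F442028) D207882 (iv2 F442024)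
theorem F446866 : act 6 n205897 = n207882 := d21_3 D132411 (iv1 F418833) (iv5 F438339) (iv1 D207882) (iv6 D132546) D132545 (iv1 F212770) (iv5 F209664) D132230 F347268
theorem F446867 : act 2 n207882 = n132550 := d3_1 F446866 (iv6 F423590) (iv2 F438338)
theorem F446868 : act 4 n207882 = n205898 := d10_1 F446866 (iv6 D205898) D205897
def n207883 : Q := act 5 n132546
theorem D207883 : act 5 n132546 = n207883 := rfl
theorem F446869 : act 2 n207883 = n132551 := d2_1 D207883 (iv5 D132551) (iv2 F212771)
theorem F446870 : act 3 n207883 = n207653 := d6_1 D207883 (iv5 F446766) F446762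
theorem F446871 : act 0 n207883 = n207818 := d21_1 D207883 (iv5 D207818) (iv6 D132403) (iv1 D62122) D62125 D132411 (iv1 F418833) (iv5 F438339) F446866 (iv1 D207882)
theorem F446872 : act 6 n159492 = n207883 := d7_0 F446870 F445850 F394066
theorem F446873 : act 7 n207649 = n207883 := d8_0 F446870 (iv7 D207653) (iv3 F445841)
theorem F446874 : act 5 n207881 = n159492 := d12_5 F446872 (iv5 D207883) (iv6 D132546) D132545 D207881
def n207884 : Q := act 7 n132546
theorem D207884 : act 7 n132546 = n207884 := rfl
theorem F446875 : act 2 n207884 = n132552 := d4_1 D207884 (iv7 D132552) (iv2 F212771)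
theorem F446876 : act 3 n207884 = n207652 := d8_1 D207884 (iv7 F446764) F446762
theorem F446877 : act 4 n207884 = n132597 := d11_1 D207884 (iv7 D132597) (iv4 F212772)
theorem F446878 : act 5 n207884 = n207649 := d13_1 D207884 F446873 (iv5 D207883)
theorem F446879 : act 6 n207884 = n200058 := d14_1 D207884 F414831 (iv6 D129832) (iv7 F96951) D132546
theorem F446880 : act 1 n132550 = n207884 := d15_1 D132550 (iv7 D207884) F212771
theorem F446881 : act 1 n207884 = n132549 := d15_1 F446880 (iv7 F446865) F446867
theorem F446882 : act 0 n206716 = n207649 := d21_7 (iv5 F437645) (iv1 F437646) (iv5 D129153) (iv6 D60715) D60711 D129140 D206716 (iv5 F446878) F446879 F414832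
def n207885 : Q := act 6 n132547
theorem D207885 : act 6 n132547 = n207885 := rfl
theorem F446883 : act 2 n207885 = n203766 := d3_1 D207885 (iv6 D203766) (iv2 F352316)
theorem F446884 : act 4 n207885 = n132548 := d10_1 D207885 (iv6 D132548) D132547
def n207886 : Q := act 0 n132548
theorem D207886 : act 0 n132548 = n207886 := rfl
theorem F446885 : act 2 n159851 = n207886 := d15_3 (iv0 D207886) (iv0 F421648) F421647
def n207887 : Q := act 5 n132548
theorem D207887 : act 5 n132548 = n207887 := rfl
theorem F446886 : act 2 n207887 = n159492 := d2_1 D207887 (iv5 F446874) F446862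
theorem F446887 : act 3 n207887 = n132555 := d6_1 D207887 (iv5 D132555) (iv3 F212774)
theorem F446888 : act 6 n207887 = n132551 := d12_2 D132548 D207887 (iv5 D132551) (iv6 D62187) D62186
theorem F446889 : act 0 n159495 = n207887 := d21_7 (iv5 D129462) (iv1 F96672) D132231 (iv6 F361178) (iv1 F398422) F398417 (iv5 F251171) (iv5 D207887) (iv6 D132548) (iv1 F208676)
theorem F446890 : act 1 n159493 = n207887 := d15_0 (iv0 F446889) (iv7 D159495) D159493
theorem F446891 : act 7 n207887 = n159491 := d15_2 (iv0 F442369) F446890 (iv2 F442364)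
def n207888 : Q := act 7 n132548
theorem D207888 : act 7 n132548 = n207888 := rfl
theorem F446892 : act 3 n207888 = n132556 := d8_1 D207888 (iv7 D132556) (iv3 F212774)
theorem F446893 : act 5 n207888 = n159491 := d13_1 D207888 (iv7 F446891) (iv5 D207887)
theorem F446894 : act 6 n207888 = n207038 := d14_1 D207888 (iv7 D207038) (iv6 D129836) (iv7 F96956) D132548
theorem F446895 : act 0 n159851 = n207888 := d17_2 D193038 (iv5 F388573) F446893 F421823 F429732 F420155 (iv5 D193089) (iv0 D101172) (iv4 F155776)
def n207889 : Q := act 3 n132549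
theorem D207889 : act 3 n132549 = n207889 := rfl
def n207890 : Q := act 4 n132549
theorem D207890 : act 4 n132549 = n207890 := rfl
theorem F446896 : act 2 n207890 = n132800 := d1_1 D207890 (iv4 F442025) F442024
theorem F446897 : act 6 n207890 = n163725 := d10_2 (iv6 F437251) D207890 (iv4 F437247)
theorem F446898 : act 7 n207890 = n205898 := d11_2 F446865 D207890 (iv4 F446868)
theorem F446899 : act 1 n207890 = n132907 := d18_8 F408336 (iv4 D198553) (iv1 D109569) (iv4 F169520) F348891 (iv4 F446877) F446881 D207890 (iv5 F381792)
theorem F446900 : act 3 n207890 = n207100 := d20_3 (iv4 F96958) D132549 D207890 (iv1 F443321) F208745 (iv4 F208759) (iv1 F354303) F354299 (iv3 D132604) (iv1 D62219)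
def n207891 : Q := act 4 n132550
theorem D207891 : act 4 n132550 = n207891 := rfl
theorem F446901 : act 2 n207891 = n205898 := d1_1 D207891 (iv4 F446868) F446867
theorem F446902 : act 3 n207891 = n132780 := d5_1 D207891 (iv4 F330898) F251337 (iv4 F251342) (iv3 F423591)
theorem F446903 : act 6 n207891 = n202311 := d10_2 F423590 D207891 F423586
theorem F446904 : act 7 n207891 = n132800 := d11_2 F442026 D207891 (iv4 F442025)
theorem F446905 : act 0 n207891 = n132907 := d17_0 (iv5 F381792) F408336 (iv5 F441945) F441944 D206716 (iv0 F441955) (iv5 D132551) D132550 D207891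
def n207892 : Q := act 5 n132550
theorem D207892 : act 5 n132550 = n207892 := rfl
def n207893 : Q := act 1 n132551
theorem D207893 : act 1 n132551 = n207893 := rfl
theorem F446906 : act 1 n207893 = n207649 := d15_1 D207893 F446873 F446869
theorem F446907 : act 7 n207893 = n207818 := d15_2 (iv0 F441955) D207893 F446584
theorem F446908 : act 5 n207893 = n207819 := d17_7 (iv1 F212559) (iv5 F348926) (iv1 D132609) (iv5 D62220) (iv4 F96958) D132551 D207893 F446589 F444236
theorem F446909 : act 3 n201787 = n207893 := d20_3 F421836 (iv1 F398562) (iv4 F421801) (iv1 D207893) F212775 D132563 F365823 F365822 (iv3 F441850) F441855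
theorem F446910 : act 6 n206917 = n207893 := d21_9 (iv5 D132551) D132549 (iv5 F442634) (iv6 D206929) (iv1 D129485) (iv6 F207636) (iv5 D129480) D129478 D206917 (iv1 D207893)
def n207894 : Q := act 4 n132551
theorem D207894 : act 4 n132551 = n207894 := rfl
theorem F446911 : act 3 n207894 = n202671 := d5_1 D207894 (iv4 D202671) (iv3 F397026) (iv4 D132563) (iv3 F212775)
theorem F446912 : act 5 n207894 = n198557 := d16_1 D207894 (iv4 D198557) (iv5 D109570) (iv4 F169520) F348891 (iv4 F446877) F446878 F446873 F446869
def n207895 : Q := act 7 n132551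
theorem D207895 : act 7 n132551 = n207895 := rfl
theorem F446913 : act 2 n207895 = n207649 := d4_1 D207895 F446873 F446869
theorem F446914 : act 3 n207895 = n132564 := d8_1 D207895 (iv7 D132564) (iv3 F212775)
theorem F446915 : act 5 n207895 = n132552 := d13_1 D207895 (iv7 D132552) D132551
theorem F446916 : act 6 n207895 = n207645 := d14_1 D207895 F445824 (iv6 F442348) (iv7 F446891) F446888
theorem F446917 : act 0 n207818 = n207895 := d17_2 (iv1 D207817) D207818 F446915 F212777 F326082 (iv0 F348882) F325473 D132455 (iv4 F446581)
def n207896 : Q := act 5 n132553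
theorem D207896 : act 5 n132553 = n207896 := rfl
theorem F446918 : act 3 n207896 = n159849 := d6_1 D207896 (iv5 F421711) (iv3 F441482)
theorem F446919 : act 6 n159851 = n207896 := d7_0 F446918 F251987 D159851
theorem F446920 : act 0 n207881 = n159851 := d21_4 F211869 (iv1 F96952) D132545 D207881 F446919 (iv5 D207896) F442591 (iv5 D206913) (iv6 D129473) D129470
def n207897 : Q := act 4 n132554
theorem D207897 : act 4 n132554 = n207897 := rfl
theorem F446921 : act 2 n207897 = n136592 := d1_1 D207897 F446789 (iv2 F446788)
theorem F446922 : act 7 n207897 = n136591 := d11_2 F388560 D207897 (iv4 F441478)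
theorem F446923 : act 6 n138166 = n207897 := d14_5 F446922 F375576 F285847 D183997 (iv7 F364604)
theorem F446924 : act 1 n135906 = n207897 := d15_1 (iv0 F375556) F446922 (iv2 F375577)
theorem F446925 : act 1 n207897 = n136594 := d15_1 F446924 (iv7 D136594) (iv2 F218622)
theorem F446926 : act 1 n136594 = n183994 := d15_1 F446925 (iv7 F375578) (iv2 F446921)
def n207898 : Q := act 5 n132554
theorem D207898 : act 5 n132554 = n207898 := rfl
def n207899 : Q := act 6 n132554
theorem D207899 : act 6 n132554 = n207899 := rfl
theorem F446927 : act 4 n207899 = n138166 := d10_1 D207899 F446923 (iv4 D207897)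
def n207900 : Q := act 4 n132555
theorem D207900 : act 4 n132555 = n207900 := rfl
theorem F446928 : act 6 n207900 = n132563 := d10_2 (iv6 F212779) D207900 (iv4 D132563)
theorem F446929 : act 7 n207900 = n203756 := d11_2 F442567 D207900 (iv4 F442565)
theorem F446930 : act 0 n207900 = n159336 := d20_7 F114210 (iv1 F77612) (iv4 F114342) (iv3 F251169) F446889 F446887 D207900 F250834 (iv3 D76232) D76230
theorem F446931 : act 3 n202672 = n207900 := d20_3 F409201 (iv1 F407138) (iv4 F425020) F446930 (iv3 D159336) (iv4 D76219) D76217 (iv4 F366223) F366659 F409202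
def n207901 : Q := act 2 n132557
theorem D207901 : act 2 n132557 = n207901 := rfl
theorem F446932 : act 4 n207901 = n196258 := d1_2 F399228 D207901 (iv2 F400083)
theorem F446933 : act 5 n207901 = n201621 := d2_2 F421336 D207901 (iv2 F421334)
theorem F446934 : act 1 n207901 = n136333 := d15_0 (iv0 F445435) F445433 D207901
theorem F446935 : act 1 n201727 = n207901 := d15_0 F446934 (iv7 F419182) (iv2 F421578)
def n207902 : Q := act 6 n132558
theorem D207902 : act 6 n132558 = n207902 := rfl
theorem F446936 : act 2 n207902 = n207035 := d3_1 D207902 (iv6 F446791) F446790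
theorem F446937 : act 3 n207902 = n201828 := d7_1 D207902 F421947 (iv3 F421339)
theorem F446938 : act 0 n207029 = n207902 := d21_4 F212269 (iv1 F96948) D129831 D207029 (iv6 D207902) (iv5 D132558) (iv1 F212727) (iv5 F345874) (iv6 D132236) D132233
theorem F446939 : act 1 n207038 = n207902 := d15_0 (iv0 F446938) (iv7 F443036) (iv2 F443070)
theorem F446940 : act 7 n207036 = n207902 := d8_0 F446937 F421948 (iv3 F443190)
def n207903 : Q := act 2 n132559
theorem D207903 : act 2 n132559 = n207903 := rfl
def n207904 : Q := act 5 n132559
theorem D207904 : act 5 n132559 = n207904 := rfl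
theorem F446941 : act 3 n207904 = n132560 := d6_1 D207904 (iv5 D132560) D132559
def n207905 : Q := act 6 n132559
theorem D207905 : act 6 n132559 = n207905 := rfl
theorem F446942 : act 3 n207905 = n132561 := d7_1 D207905 (iv6 D132561) D132559
theorem F446943 : act 4 n207905 = n201081 := d10_1 D207905 (iv6 F422065) F422064
theorem F446944 : act 5 n205723 = n207905 := d21_2 D205742 (iv1 F437657) (iv6 D207905) F422068 (iv6 F371313) (iv5 F355366) (iv1 F355370) (iv5 F355287) F437651 (iv1 D205741)
theorem F446945 : act 6 n207904 = n207017 := d12_4 (iv6 F442980) F446944 (iv6 D207905) D207904 F442979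
def n207906 : Q := act 6 n132560
theorem D207906 : act 6 n132560 = n207906 := rfl
theorem F446946 : act 3 n207906 = n207017 := d7_1 D207906 (iv6 F446945) F446941
theorem F446947 : act 5 n207906 = n207644 := d12_1 D207906 F445820 F437598 (iv6 D132561) D132560
theorem F446948 : act 0 n207906 = n197529 := d21_4 F345874 (iv1 F212726) D132560 D207906 F404705 F231942 (iv1 F177078) D201053 F418904 (iv1 F361179)
def n207907 : Q := act 3 n132562
theorem D207907 : act 3 n132562 = n207907 := rfl
theorem F446949 : act 2 n207907 = n159479 := d0_1 D207907 (iv3 D159479) (iv2 F163407) D195843 F398419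
theorem F446950 : act 5 n207907 = n201055 := d6_2 (iv5 F212782) D207907 F418911
theorem F446951 : act 6 n207907 = n159493 := d7_2 F398576 D207907 (iv3 F398575)
theorem F446952 : act 7 n207907 = n206708 := d8_2 (iv7 F212781) D207907 F441929
def n207908 : Q := act 4 n132562
theorem D207908 : act 4 n132562 = n207908 := rfl
theorem F446953 : act 7 n207908 = n207814 := d11_2 (iv7 F212781) D207908 (iv4 D207814)
def n207909 : Q := act 4 n132565
theorem D207909 : act 4 n132565 = n207909 := rfl
theorem F446954 : act 2 n207909 = n137471 := d1_1 D207909 (iv4 F399182) F399180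
theorem F446955 : act 6 n207909 = n137626 := d10_2 (iv6 F212786) D207909 (iv4 F220779)
theorem F446956 : act 7 n207909 = n136241 := d11_2 F397228 D207909 (iv4 F397226)
theorem F446957 : act 0 n207909 = n136539 := d18_2 (iv1 F390639) D207909 F219638 F99923 D130651 F214634 F214632 F432211 F432206
theorem F446958 : act 1 n207909 = n136061 := d18_6 (iv1 D30082) (iv4 F48342) D63738 (iv4 F99107) D132565 D207909 F218955 (iv0 F99549) F48900
def n207910 : Q := act 3 n132566
theorem D207910 : act 3 n132566 = n207910 := rfl
theorem F446959 : act 6 n207910 = n207062 := d7_2 F212790 D207910 (iv3 D207062)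
theorem F446960 : act 7 n207910 = n195254 := d8_2 (iv7 F212789) D207910 F396483
def n207911 : Q := act 0 n132567
theorem D207911 : act 0 n132567 = n207911 := rfl
theorem F446961 : act 5 n207911 = n201801 := d19_1 D207911 F421836 F387791 (iv1 D192790) (iv5 F367264) (iv4 F371169) (iv3 F431097) (iv1 F431215) (iv5 D204151) F197123 F311027 (iv1 F309979) (iv5 F309982) F84472 (iv3 F162198) F162201 (iv5 D62196) D62195 D132567
theorem F446962 : act 4 n207911 = n159579 := d20_2 F217988 D207911 F419052 (iv1 D113898) F83101 (iv4 F82682) D113315 F395842 (iv3 F395841) (iv1 F328382)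
theorem F446963 : act 1 n159854 = n207911 := d15_0 (iv0 D207911) (iv7 F347263) (iv2 F252005)
theorem F446964 : act 7 n207911 = n195264 := d15_2 (iv0 F445778) F446963 (iv2 F445775)
theorem F446965 : act 4 n187780 = n206679 := d17_9 (iv1 D206679) D206680 F441855 (iv5 F446961) F446962 (iv5 F421535) (iv0 D201718) (iv5 F251501) (iv0 F371469)
theorem F446966 : act 6 n206679 = n187648 := d10_2 D187780 F446965 F371102
def n207912 : Q := act 2 n132567
theorem D207912 : act 2 n132567 = n207912 := rfl
theorem F446967 : act 3 n207912 = n207341 := d0_2 D132567 D207912 (iv2 F446805) (iv3 D207867) F212728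
theorem F446968 : act 4 n207912 = n159857 := d1_2 F217988 D207912 (iv2 F328383)
theorem F446969 : act 6 n207912 = n205684 := d3_2 F437702 D207912 F437706
theorem F446970 : act 7 n207912 = n159854 := d4_2 F347263 D207912 F252005
theorem F446971 : act 1 n207912 = n195264 := d15_0 (iv0 F419050) F347263 D207912
def n207913 : Q := act 5 n132567
theorem D207913 : act 5 n132567 = n207913 := rfl
theorem F446972 : act 3 n207913 = n132568 := d6_1 D207913 (iv5 D132568) D132567
theorem F446973 : act 4 n207913 = n201624 := d16_2 F217988 D207913 (iv5 F421174) (iv4 F396516) F396517 F179171 (iv5 F114708) D159857 (iv2 F328383)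
def n207914 : Q := act 4 n132568
theorem D207914 : act 4 n132568 = n207914 := rfl
theorem F446974 : act 5 n207914 = n202503 := d17_5 (iv1 F446528) (iv5 D136325) F203328 D132568 D207914 (iv0 F424305) F397025 F365824 (iv4 F446526)
theorem F446975 : act 3 n188693 = n207914 := d20_5 F359434 (iv1 D93306) F68574 (iv3 F142802) D188693 (iv4 D207914) (iv1 F446519) F446516 F384569 (iv1 F359436)
def n207915 : Q := act 6 n132568
theorem D207915 : act 6 n132568 = n207915 := rfl
def n207916 : Q := act 3 n132569
theorem D207916 : act 3 n132569 = n207916 := rfl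
theorem F446976 : act 6 n207916 = n205448 := d7_2 (iv6 F212791) D207916 (iv3 D205448)
theorem F446977 : act 7 n207916 = n203227 := d8_2 (iv7 F397235) D207916 F429382
theorem F446978 : act 0 n207916 = n203181 := d19_4 D29438 D62196 D132569 D207916 (iv5 D203181) (iv4 D118181) F85984 D55258 F311136 F112625 (iv3 F112623) (iv1 F187498) F317240 F334130 (iv3 D132631) (iv1 D62231) (iv5 D29449) F23348 (iv3 F23342)
theorem F446979 : act 0 n203231 = n207916 := d20_4 (iv4 F364907) (iv1 F364913) (iv4 F397135) (iv3 F427481) (iv3 D207916) (iv4 D132569) F203988 (iv4 F438398) F438397 (iv1 D195454)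
theorem F446980 : act 5 n207916 = n179940 := d17_3 (iv1 F427329) (iv5 F427482) F446979 F280254 (iv5 D153523) F109108 (iv5 F109140) F241297 (iv4 F427324)
theorem F446981 : act 2 n203228 = n207916 := d15_3 (iv0 F446979) (iv0 F427483) (iv7 F427478)
def n207917 : Q := act 5 n132569
theorem D207917 : act 5 n132569 = n207917 := rfl
theorem F446982 : act 3 n207917 = n179940 := d6_1 D207917 (iv5 F446980) (iv3 D207916)
theorem F446983 : act 1 n207917 = n195356 := d17_6 (iv1 D31436) F24480 D29438 D62196 D132569 D207917 (iv5 D195356) (iv0 F162069) (iv4 D67688)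
theorem F446984 : act 4 n207917 = n202669 := d18_5 (iv1 F404325) F396989 F162201 D132569 D207917 F425010 (iv4 D144444) D144443 (iv5 F404324)
def n207918 : Q := act 1 n132573
theorem D207918 : act 1 n132573 = n207918 := rfl
theorem F446985 : act 1 n207918 = n207341 := d15_1 D207918 (iv7 F444423) F442419
theorem F446986 : act 7 n207918 = n206817 := d15_2 (iv0 F421597) D207918 F442300
theorem F446987 : act 4 n207918 = n138197 := d17_9 F367705 (iv5 F387296) (iv1 F387298) (iv5 F358464) (iv4 F446492) F446491 F445983 (iv5 F347259) D207918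
theorem F446988 : act 2 n183402 = n207918 := d1_3 F446987 F338408 D183402
theorem F446989 : act 6 n183390 = n207918 := d10_0 F446987 F338410 D183390
def n207919 : Q := act 4 n132574
theorem D207919 : act 4 n132574 = n207919 := rfl
theorem F446990 : act 6 n207919 = n197528 := d10_2 (iv6 F347257) D207919 F442291
theorem F446991 : act 5 n207919 = n202669 := d16_1 D207919 (iv4 F446984) (iv5 D207917) (iv4 D132569) (iv5 D62196) D62195 D132568 (iv7 F446819) F446817
def n207920 : Q := act 0 n132575
theorem D207920 : act 0 n132575 = n207920 := rfl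
theorem F446992 : act 5 n207920 = n138093 := d17_1 D207920 F361830 (iv5 D132424) (iv4 D62131) (iv5 F93682) F162018 D59646 (iv0 F162115) (iv4 F212802)
theorem F446993 : act 4 n207920 = n195896 := d18_1 D207920 F398646 (iv4 F437673) F437675 F345905 F219054 (iv4 F442427) F442431 F347254
theorem F446994 : act 6 n207920 = n196687 := d21_5 D207804 F446518 (iv5 D132574) D132575 D207920 (iv5 F441899) (iv1 F441900) (iv5 D129489) (iv6 F207335) (iv1 F212415)
theorem F446995 : act 2 n138097 = n207920 := d15_3 (iv0 D207920) F228701 F360488
theorem F446996 : act 1 n132682 = n207920 := d15_0 (iv0 D207920) (iv7 F437697) F437694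
theorem F446997 : act 7 n207920 = n202191 := d15_2 F224327 F446996 F423178
def n207921 : Q := act 5 n132576
theorem D207921 : act 5 n132576 = n207921 := rfl
theorem F446998 : act 4 n207921 = n202503 := d9_1 D207921 (iv5 F446974) (iv4 D207914) (iv5 D132568) (iv4 D62195) D62196 D132569 D207917 F446984 (iv5 F446991) (iv4 D207919) (iv5 D132574) (iv4 D62199) D62200 D132576
theorem F446999 : act 6 n207921 = n202502 := d12_2 (iv6 F212803) D207921 F424299 (iv6 D145651) (iv5 F351842)
theorem F447000 : act 0 n207921 = n195356 := d17_2 F438412 D207921 (iv5 D195356) F162068 F78235 D64094 D136327 (iv0 F219889) (iv4 F438410)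
def n207922 : Q := act 6 n132578
theorem D207922 : act 6 n132578 = n207922 := rfl
theorem F447001 : act 2 n207922 = n207071 := d3_1 D207922 (iv6 D207071) F213174
theorem F447002 : act 3 n207922 = n206817 := d7_1 D207922 (iv6 D206817) F213143
theorem F447003 : act 0 n207922 = n132600 := d21_4 D129538 (iv1 F442651) F442653 D207922 F443002 (iv5 D207020) (iv1 F396515) (iv5 F442047) (iv6 F442049) (iv1 F207668)
theorem F447004 : act 1 n207922 = n132605 := d15_1 (iv0 F447003) F443184 F443181
def n207923 : Q := act 6 n132580
theorem D207923 : act 6 n132580 = n207923 := rfl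
theorem F447005 : act 2 n207923 = n191866 := d3_1 D207923 (iv6 F403371) (iv2 F212808)
theorem F447006 : act 3 n207923 = n206828 := d7_1 D207923 F442336 (iv3 F388446)
theorem F447007 : act 4 n207923 = n190208 := d10_1 D207923 F429708 (iv4 F429707)
theorem F447008 : act 7 n207923 = n191865 := d14_2 (iv7 F212809) D207923 F404703 F207592 F366065
theorem F447009 : act 0 n207923 = n191864 := d21_4 F442653 (iv1 D132578) D132580 D207923 F418381 (iv5 D200913) (iv1 D113619) D113620 F357334 (iv1 F442651)
theorem F447010 : act 1 n207923 = n186653 := d15_1 (iv0 F447009) F367564 (iv2 F384612)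
def n207924 : Q := act 1 n132581
theorem D207924 : act 1 n132581 = n207924 := rfl
theorem F447011 : act 1 n207924 = n132691 := d15_1 D207924 F365970 (iv2 F212810)
theorem F447012 : act 7 n207924 = n206992 := d15_2 F443424 D207924 (iv2 F443420)
theorem F447013 : act 4 n207924 = n207416 := d18_7 (iv1 F305383) (iv4 F324173) F210844 (iv4 F307905) F320713 (iv4 F212811) D207924 F444793 (iv5 D158448)
theorem F447014 : act 2 n206991 = n207924 := d1_3 F447013 F444788 (iv4 F442880)
theorem F447015 : act 5 n206161 = n207924 := d16_1 D206161 F447013 (iv5 D207416) (iv4 D131392) (iv5 F317386) (iv4 F439507) F439508 F381869 F379307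
theorem F447016 : act 3 n206823 = n207924 := d20_5 (iv4 D164475) F251279 (iv4 F437428) (iv3 F437832) (iv1 F442324) F447013 F444792 F213191 (iv3 F443026) F443029
def n207925 : Q := act 5 n132581
theorem D207925 : act 5 n132581 = n207925 := rfl
theorem F447017 : act 2 n207925 = n207073 := d2_1 D207925 (iv5 D207073) (iv2 F212810)
theorem F447018 : act 7 n207925 = n206993 := d13_2 (iv7 F365971) D207925 (iv5 D206993)
theorem F447019 : act 4 n207925 = n206190 := d16_2 (iv4 F212811) D207925 (iv5 D206190) (iv4 D127720) D127721 F333596 F320709 (iv7 F326064) F207722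
def n207926 : Q := act 5 n132594
theorem D207926 : act 5 n132594 = n207926 := rfl
theorem F447020 : act 2 n207926 = n132601 := d2_1 D207926 (iv5 D132601) (iv2 F348903)
theorem F447021 : act 3 n207926 = n147877 := d6_1 D207926 (iv5 F354285) F354293
theorem F447022 : act 6 n207926 = n147875 := d12_2 (iv6 F348905) D207926 F342274 (iv6 D120992) F326015
theorem F447023 : act 7 n207926 = n132606 := d13_2 (iv7 F348904) D207926 (iv5 D132606)
theorem F447024 : act 0 n207926 = n145779 := d21_1 D207926 (iv5 F358024) (iv6 F209308) F371341 (iv6 D62074) (iv5 F209583) (iv1 F96971) (iv5 D62212) D62213 D132594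
theorem F447025 : act 0 n206788 = n207926 := d21_1 D206788 (iv5 D207926) F348905 (iv1 D62279) (iv6 D29468) D29467 F95909 (iv5 D60773) D60774 D129305
def n207927 : Q := act 4 n132595
theorem D207927 : act 4 n132595 = n207927 := rfl
theorem F447026 : act 2 n207927 = n132605 := d1_1 D207927 (iv4 D132605) (iv2 F348901)
theorem F447027 : act 3 n207927 = n194001 := d5_1 D207927 (iv4 D194001) (iv3 D102572) (iv4 F135469) (iv3 F354296)
theorem F447028 : act 7 n207927 = n132600 := d11_2 (iv7 F348902) D207927 (iv4 D132600)
theorem F447029 : act 0 n207927 = n207071 := d17_0 (iv5 F443199) F446714 (iv5 D207850) F212552 (iv5 F325473) (iv0 F336920) (iv5 D132596) D132595 D207927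
def n207928 : Q := act 0 n132600
theorem D207928 : act 0 n132600 = n207928 := rfl
theorem F447030 : act 1 n132605 = n207928 := d15_0 (iv0 D207928) (iv7 F447028) F447026
theorem F447031 : act 7 n207928 = n207071 := d15_2 F447004 F447030 (iv2 F447001)
theorem F447032 : act 3 n201733 = n207928 := d20_9 (iv4 D132605) (iv1 D62219) (iv4 F96958) F96957 D62189 D132557 (iv4 F399228) (iv1 F399232) (iv4 F421613) (iv1 F447030)
theorem F447033 : act 5 n207928 = n201732 := d6_2 D201733 F447032 (iv3 D201732)
theorem F447034 : act 6 n207074 = n207928 := d14_5 F447031 (iv6 D207071) F213175 D132988 (iv7 F443208)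
def n207929 : Q := act 5 n132600
theorem D207929 : act 5 n132600 = n207929 := rfl
theorem F447035 : act 6 n207929 = n197712 := d12_2 (iv6 F443002) D207929 (iv5 F438661) F438662 D207020
theorem F447036 : act 0 n207929 = n201674 := d21_1 D207929 (iv5 F446706) (iv6 F446712) (iv1 D206942) (iv6 D129539) D129538 (iv1 F442651) F442653 D207922 F447003
theorem F447037 : act 4 n197713 = n207929 := d10_3 F447035 (iv4 D197712) D197713
def n207930 : Q := act 4 n132601
theorem D207930 : act 4 n132601 = n207930 := rfl
theorem F447038 : act 6 n207930 = n166517 := d10_2 (iv6 F348894) D207930 (iv4 D166517)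
def n207931 : Q := act 5 n132605
theorem D207931 : act 5 n132605 = n207931 := rfl
theorem F447039 : act 1 n207931 = n201674 := d17_6 F324316 D207852 F446725 (iv5 D132606) D132605 D207931 (iv5 F446706) F446703 F371321
def n207932 : Q := act 5 n132626
theorem D207932 : act 5 n132626 = n207932 := rfl
theorem F447040 : act 3 n207932 = n134258 := d6_1 D207932 (iv5 D134258) (iv3 F212882)
theorem F447041 : act 7 n207932 = n204088 := d13_2 (iv7 F212883) D207932 F431034
theorem F447042 : act 4 n207932 = n170646 := d16_2 D132626 D207932 (iv5 D170646) F297180 F319981 (iv4 F361226) (iv5 D134568) (iv7 F341746) F324673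
theorem F447043 : act 1 n207932 = n203193 := d17_6 F352077 (iv5 F370560) F370562 F320874 D132626 D207932 F427375 (iv0 D136832) (iv4 F203906)
def n207933 : Q := act 3 n132640
theorem D207933 : act 3 n132640 = n207933 := rfl
theorem F447044 : act 2 n207933 = n203647 := d0_1 D207933 (iv3 F429225) (iv2 F415742) (iv3 F415739) (iv2 F212918)
theorem F447045 : act 4 n207933 = n132647 := d5_2 D132640 D207933 (iv3 D132647) (iv4 D62241) (iv3 F97026)
theorem F447046 : act 6 n207933 = n199914 := d7_2 (iv6 F212919) D207933 F414123
theorem F447047 : act 7 n207933 = n143793 := d8_2 (iv7 F212920) D207933 F226443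
theorem F447048 : act 0 n207933 = n203270 := d19_4 F168073 D62238 D132640 D207933 F427592 F381831 (iv3 D190876) (iv1 F369620) F369617 (iv4 D101249) D101248 F352685 (iv5 D87959) (iv4 F134948) (iv3 F155620) F290190 F335800 (iv4 F93580) F93579
theorem F447049 : act 1 n207933 = n142503 := d15_1 (iv0 F447048) F344498 (iv2 F427590)
def n207934 : Q := act 3 n132649
theorem D207934 : act 3 n132649 = n207934 := rfl
theorem F447050 : act 4 n207934 = n207928 := d5_2 F439148 D207934 (iv3 F447032) F421613 (iv3 F439147)
theorem F447051 : act 5 n207934 = n154367 := d6_2 (iv5 F361986) D207934 (iv3 D154367)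
theorem F447052 : act 6 n207934 = n132994 := d7_2 (iv6 F338386) D207934 F213646
theorem F447053 : act 7 n207934 = n132907 := d8_2 (iv7 F338387) D207934 F213502
theorem F447054 : act 0 n207934 = n205898 := d20_4 (iv4 F394693) (iv1 F439142) F439148 D207934 F438340 (iv4 F380791) (iv1 D134549) F98473 (iv3 F98469) D134530
theorem F447055 : act 1 n207934 = n132800 := d15_1 (iv0 F447054) (iv7 F446904) F446901
theorem F447056 : act 0 n206786 = n201732 := d17_2 (iv1 D206785) D206786 (iv5 F447033) (iv4 F447050) F447051 (iv0 F346569) (iv5 F366571) D207306 F444253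
def n207935 : Q := act 5 n132650
theorem D207935 : act 5 n132650 = n207935 := rfl
theorem F447057 : act 2 n207935 = n132651 := d2_1 D207935 (iv5 D132651) D132650
theorem F447058 : act 3 n207935 = n170483 := d6_1 D207935 (iv5 F341958) (iv3 F212937)
theorem F447059 : act 6 n207935 = n154102 := d12_2 F336588 D207935 (iv5 F342707) F336324 F204050
theorem F447060 : act 7 n207935 = n132968 := d13_2 F338390 D207935 (iv5 D132968)
theorem F447061 : act 1 n207935 = n207009 := d17_6 F445229 (iv5 D189780) D189778 F436955 F436952 D207935 F446304 F446301 (iv4 F445227)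
theorem F447062 : act 4 n207935 = n154104 := d18_5 (iv1 F346115) (iv4 F354361) (iv1 F436956) F436952 D207935 (iv0 F369445) F369443 (iv0 F368157) (iv5 F359718)
theorem F447063 : act 0 n207935 = n207010 := d18_0 F442953 F353699 (iv4 F368207) (iv5 F445580) F445581 F439153 F213508 (iv0 F336586) D207935
theorem F447064 : act 0 n207124 = n167116 := d21_7 (iv5 D107691) D107688 F342707 (iv6 F447059) F447063 F446296 (iv5 F443430) (iv5 F348671) F348672 (iv1 F336346)
def n207936 : Q := act 4 n132655
theorem D207936 : act 4 n132655 = n207936 := rfl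
theorem F447065 : act 2 n207936 = n206957 := d1_1 D207936 (iv4 D206957) (iv2 F212951)
theorem F447066 : act 6 n207936 = n194976 := d10_2 F218149 D207936 F395269
theorem F447067 : act 7 n207936 = n207024 := d11_2 (iv7 F212952) D207936 (iv4 D207024)
theorem F447068 : act 5 n207936 = n207874 := d16_1 D207936 (iv4 D207874) (iv5 D132539) F96946 F48598 (iv4 F96946) D132539 F212753 (iv2 F212951)
def n207937 : Q := act 0 n132658
theorem D207937 : act 0 n132658 = n207937 := rfl
theorem F447069 : act 5 n207937 = n201172 := d17_1 D207937 F419325 F398781 F251294 (iv5 F114490) (iv0 F161792) (iv5 F327786) F327784 (iv4 F327790)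
theorem F447070 : act 4 n207937 = n135247 := d18_1 D207937 (iv1 F332583) F332586 F203411 (iv4 F399846) F399843 D196226 F399980 (iv5 F212958)
theorem F447071 : act 3 n207937 = n196226 := d20_5 F317568 (iv1 D75611) (iv4 F317690) D132658 D207937 (iv4 D196226) (iv1 F399843) F399846 F203409 (iv1 F207874)
theorem F447072 : act 2 n205601 = n207937 := d15_3 (iv0 D207937) (iv0 F217901) (iv7 F437173)
theorem F447073 : act 1 n148713 = n207937 := d15_0 (iv0 D207937) F212959 F327300
theorem F447074 : act 7 n207937 = n205600 := d15_2 (iv0 F363273) F447073 F437168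
def n207938 : Q := act 5 n132659
theorem D207938 : act 5 n132659 = n207938 := rfl
theorem F447075 : act 2 n207938 = n206960 := d2_1 D207938 (iv5 D206960) (iv2 F212961)
theorem F447076 : act 7 n207938 = n207028 := d13_2 (iv7 F365932) D207938 (iv5 D207028)
def n207939 : Q := act 5 n132668
theorem D207939 : act 5 n132668 = n207939 := rfl
theorem F447077 : act 6 n207939 = n205739 := d21_9 (iv5 D129153) D129151 D206730 F441991 (iv1 D132676) (iv6 F212988) (iv5 D132670) D132668 D207939 (iv1 F437646)
def n207940 : Q := act 6 n132668
theorem D207940 : act 6 n132668 = n207940 := rfl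
theorem F447078 : act 2 n207940 = n206899 := d3_1 D207940 F442552 F437591
theorem F447079 : act 5 n207940 = n206962 := d12_1 D207940 F442755 (iv5 F437645) (iv6 F447077) (iv5 D207939)
theorem F447080 : act 7 n207940 = n206895 := d14_2 F437650 D207940 (iv6 D206895) (iv7 F211845) F437651
theorem F447081 : act 1 n206897 = n207940 := d15_1 D206897 F447080 F442541
theorem F447082 : act 0 n206896 = n207940 := d17_2 D207702 (iv5 F446073) F447079 F442754 D207079 (iv0 F443222) (iv5 F371527) (iv0 F446067) F446064
def n207941 : Q := act 0 n132672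
theorem D207941 : act 0 n132672 = n207941 := rfl
theorem F447083 : act 3 n207941 = n200970 := d20_5 F93719 D63459 (iv4 F168170) D132672 D207941 (iv4 D200970) F331438 (iv4 F437701) (iv3 D205751) F203584
theorem F447084 : act 4 n207941 = n191641 := d20_8 F176470 (iv1 F161553) (iv4 F332853) F95226 D60617 D128895 (iv4 F212990) D207941 (iv3 F383994) F288399
theorem F447085 : act 7 n206952 = n207941 := d11_0 F447084 (iv7 F417207) (iv4 F442722)
theorem F447086 : act 6 n207941 = n206972 := d14_1 F447085 F442790 (iv6 D135495) (iv7 F358335) D206952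
def n207942 : Q := act 3 n132675
theorem D207942 : act 3 n132675 = n207942 := rfl
theorem F447087 : act 2 n207942 = n191607 := d0_1 D207942 (iv3 D191607) (iv2 F383953) F383956 F212992
theorem F447088 : act 5 n207942 = n207496 := d6_2 (iv5 F212991) D207942 F445140
theorem F447089 : act 7 n207942 = n207731 := d8_2 F212993 D207942 F446176
theorem F447090 : act 4 n207942 = n191616 := d20_6 (iv4 D60723) (iv1 F93616) (iv4 F203357) F326010 D132675 D207942 F441176 (iv4 F217874) F217873 (iv1 F170848)
def n207943 : Q := act 6 n132675
theorem D207943 : act 6 n132675 = n207943 := rfl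
theorem F447091 : act 2 n207943 = n207734 := d3_1 D207943 (iv6 D207734) F212992
def n207944 : Q := act 0 n132680
theorem D207944 : act 0 n132680 = n207944 := rfl
theorem F447092 : act 4 n207944 = n159583 := d18_3 F331443 (iv4 F365591) D207944 (iv5 F376509) F376508 F443690 F443686 (iv0 F416185) (iv5 F331446)
theorem F447093 : act 5 n207944 = n190726 := d19_1 D207944 F380817 (iv3 D96487) F70910 (iv5 F70838) (iv4 D45024) F33807 F29161 (iv5 F27392) F21531 (iv3 D8075) (iv1 F12861) (iv5 F324225) F19713 (iv3 F22250) D28048 (iv5 F93704) D62263 D132680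
theorem F447094 : act 3 n207944 = n190727 := d20_5 F47235 D29461 D62263 D132680 D207944 (iv4 F380820) (iv1 F218127) (iv4 F384120) F384119 (iv1 D62258)
theorem F447095 : act 2 n205686 = n207944 := d15_3 (iv0 D207944) F365589 D205686
theorem F447096 : act 1 n205684 = n207944 := d15_0 (iv0 D207944) (iv7 F437703) (iv2 F437706)
theorem F447097 : act 7 n207944 = n205680 := d15_2 D205684 F447096 F437438
theorem F447098 : act 6 n187778 = n207944 := d14_5 F447097 (iv6 D205680) (iv7 D126518) D126517 (iv7 F371464)
def n207945 : Q := act 5 n132680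
theorem D207945 : act 5 n132680 = n207945 := rfl
theorem F447099 : act 3 n207945 = n132681 := d6_1 D207945 (iv5 D132681) D132680
theorem F447100 : act 6 n207945 = n187651 := d12_2 (iv6 F365592) D207945 (iv5 D187651) F139170 (iv5 F114710)
theorem F447101 : act 0 n207945 = n196260 := d17_2 (iv1 F365589) D207945 (iv5 F446216) F446215 (iv5 D207386) (iv0 D131126) (iv5 F114463) D159584 F364740
def n207946 : Q := act 6 n132681
theorem D207946 : act 6 n132681 = n207946 := rfl
theorem F447102 : act 3 n207946 = n187651 := d7_1 D207946 (iv6 F447100) F447099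
theorem F447103 : act 4 n207946 = n207862 := d10_1 D207946 F446775 F446200
theorem F447104 : act 5 n207946 = n187650 := d12_1 D207946 F371107 (iv5 F328662) (iv6 D132682) D132681
def n207947 : Q := act 5 n132683
theorem D207947 : act 5 n132683 = n207947 := rfl
theorem F447105 : act 3 n207947 = n132684 := d6_1 D207947 (iv5 D132684) D132683
theorem F447106 : act 0 n134264 = n207947 := d20_4 (iv4 F163870) (iv1 D63079) (iv4 F98389) (iv3 F216288) F447105 (iv4 F446207) (iv1 D207740) (iv4 D132256) (iv3 F345872) (iv1 F208168)
def n207948 : Q := act 6 n132684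
theorem D207948 : act 6 n132684 = n207948 := rfl
def n207949 : Q := act 5 n132691
theorem D207949 : act 5 n132691 = n207949 := rfl
theorem F447107 : act 2 n207949 = n206993 := d2_1 D207949 (iv5 D206993) (iv2 F213018)
theorem F447108 : act 4 n207949 = n206194 := d9_1 D207949 (iv5 D206194) (iv4 D127725) (iv5 F320015) (iv4 F307905) F320713 (iv4 F212811) D207925 F447019 (iv5 D206190) (iv4 D127720) D127721 F333596 F320709 (iv4 F213019)
theorem F447109 : act 7 n207949 = n207073 := d13_2 (iv7 F365970) D207949 (iv5 D207073)
def n207950 : Q := act 6 n132711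
theorem D207950 : act 6 n132711 = n207950 := rfl
theorem F447110 : act 3 n207950 = n132714 := d7_1 D207950 (iv6 D132714) D132711
theorem F447111 : act 4 n207950 = n194002 := d10_1 D207950 F391721 F377695
theorem F447112 : act 7 n207950 = n185799 := d14_2 F366465 D207950 (iv6 D185799) F135591 (iv6 F366464)
theorem F447113 : act 0 n207950 = n138118 := d21_4 D158797 F366377 (iv5 F326012) D207950 (iv6 F344105) F344096 (iv1 F272685) D193466 F389944 (iv1 D158796)
theorem F447114 : act 5 n207950 = n195921 := d21_6 (iv5 F357922) F206390 F315350 D135343 (iv1 F366468) D207950 (iv1 F398738) D195931 F398760 F214128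
def n207951 : Q := act 6 n132741
theorem D207951 : act 6 n132741 = n207951 := rfl
theorem F447115 : act 2 n207951 = n132743 := d3_1 D207951 (iv6 D132743) D132741
theorem F447116 : act 3 n207951 = n205817 := d7_1 D207951 (iv6 F437970) (iv3 F213110)
theorem F447117 : act 5 n207951 = n205826 := d12_1 D207951 F438014 (iv5 D163043) F302615 (iv5 F324232)
theorem F447118 : act 7 n207951 = n205944 := d14_2 (iv7 F338371) D207951 F438520 F337776 F338370
theorem F447119 : act 0 n207951 = n133093 := d21_4 (iv5 F341928) (iv1 F194392) (iv5 F324232) D207951 (iv6 D133093) D133092 F346986 (iv5 F307466) (iv6 D129406) (iv1 F341925)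
theorem F447120 : act 0 n205818 = n207951 := d21_4 F324860 (iv1 D126623) D126625 D205818 (iv6 D207951) F324232 (iv1 F194397) F345638 (iv6 F345634) (iv1 D127096)
def n207952 : Q := act 6 n132752
theorem D207952 : act 6 n132752 = n207952 := rfl
theorem F447121 : act 2 n207952 = n132907 := d3_1 D207952 (iv6 D132907) F213144
theorem F447122 : act 3 n207952 = n132919 := d7_1 D207952 (iv6 D132919) F213146
theorem F447123 : act 4 n207952 = n207922 := d10_1 D207952 (iv6 D207922) (iv4 F213142)
theorem F447124 : act 0 n207952 = n132800 := d21_4 F211856 F354613 (iv5 F341988) D207952 (iv6 F364317) (iv5 D121216) (iv1 F193279) D203881 F430216 F212288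
theorem F447125 : act 0 n205898 = n207952 := d21_4 (iv5 F347030) (iv1 F179891) (iv5 F347037) D205898 (iv6 D207952) F341988 F341989 (iv5 D130973) (iv6 F324340) (iv1 F347026)
def n207953 : Q := act 6 n132755
theorem D207953 : act 6 n132755 = n207953 := rfl
theorem F447126 : act 2 n207953 = n207082 := d3_1 D207953 (iv6 D207082) (iv2 F213195)
theorem F447127 : act 3 n207953 = n135811 := d7_1 D207953 (iv6 D135811) (iv3 F213196)
theorem F447128 : act 4 n207953 = n206611 := d10_1 D207953 (iv6 D206611) F213194
theorem F447129 : act 0 n207953 = n132801 := d21_4 (iv5 F317740) D187775 F371454 D207953 (iv6 F363187) (iv5 F443806) (iv1 F443809) (iv5 F444576) (iv6 D207376) (iv1 F209680)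
theorem F447130 : act 0 n132806 = n207953 := d21_4 (iv5 D76298) D76297 D159501 (iv6 F342162) (iv6 D207953) (iv5 F371454) (iv1 F371456) F321200 (iv6 F321201) (iv1 F114382)
def n207954 : Q := act 1 n132758
theorem D207954 : act 1 n132758 = n207954 := rfl
theorem F447131 : act 1 n207954 = n132845 := d15_1 D207954 (iv7 F339467) (iv2 F213208)
theorem F447132 : act 7 n207954 = n158547 := d15_2 (iv0 F371491) D207954 (iv2 F371485)
theorem F447133 : act 5 n207954 = n201401 := d17_7 (iv1 F419437) (iv5 F390394) (iv1 D186886) D186888 F370417 F370412 D207954 F420357 (iv4 F419434)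
theorem F447134 : act 4 n207954 = n172270 := d17_9 (iv1 F339472) F339474 (iv1 F309569) D152679 (iv4 F374875) F374876 F370423 F370412 D207954
theorem F447135 : act 3 n135846 = n207954 := d20_3 F398012 F396150 (iv4 F335844) (iv1 D207954) F418725 (iv4 F443027) F443029 (iv4 D164475) (iv3 F163276) D195742
theorem F447136 : act 2 n207954 = n158546 := d0_1 F447135 F354876 (iv2 F354889) F363736 (iv2 F363733)
theorem F447137 : act 6 n207954 = n185794 := d7_2 F436756 F447135 (iv3 F436758)
def n207955 : Q := act 4 n132768
theorem D207955 : act 4 n132768 = n207955 := rfl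
theorem F447138 : act 2 n207955 = n201145 := d1_1 D207955 F419259 F326352
theorem F447139 : act 3 n207955 = n134781 := d5_1 D207955 (iv4 F422039) (iv3 D201847) F218078 F218062
theorem F447140 : act 5 n207955 = n204527 := d9_2 D132768 D207955 (iv4 F433065) F433062 (iv4 D132759) (iv5 D62308) D62307 D132757 (iv4 F445534) F445539 (iv4 F434254) F434253 (iv4 D132770) (iv5 D62313) D62312
theorem F447141 : act 6 n207955 = n175681 := d10_2 (iv6 F324702) D207955 (iv4 D175681)
theorem F447142 : act 7 n207955 = n135063 := d11_2 (iv7 F213232) D207955 (iv4 F217587)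
theorem F447143 : act 0 n207955 = n133209 := d18_2 (iv1 F218436) D207955 (iv4 D133209) (iv5 D62509) F47390 D29555 D62538 F214104 (iv5 F218432)
theorem F447144 : act 1 n207955 = n134790 := d18_6 (iv1 F97175) (iv4 D61092) (iv1 F47277) D62312 D132768 D207955 F216907 F209551 F203340
def n207956 : Q := act 5 n132776
theorem D207956 : act 5 n132776 = n207956 := rfl
theorem F447145 : act 2 n207956 = n132789 := d2_1 D207956 (iv5 D132789) (iv2 F213247)
theorem F447146 : act 6 n207956 = n192543 := d12_2 D132776 D207956 (iv5 F444479) (iv6 D207352) (iv5 F209525)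
def n207957 : Q := act 5 n132779
theorem D207957 : act 5 n132779 = n207957 := rfl
theorem F447147 : act 2 n207957 = n132802 := d2_1 D207957 (iv5 D132802) (iv2 F342152)
theorem F447148 : act 3 n207957 = n202745 := d6_1 D207957 (iv5 F425392) (iv3 F365522)
theorem F447149 : act 6 n207957 = n202744 := d12_2 (iv6 F342150) D207957 F425388 (iv6 F333815) (iv5 D132887)
theorem F447150 : act 7 n207957 = n132807 := d13_2 (iv7 F342153) D207957 (iv5 D132807)
theorem F447151 : act 0 n207957 = n202771 := d17_2 D132779 D207957 F425513 (iv4 F334643) (iv5 F143393) D188996 (iv5 F391742) (iv0 F391743) F213248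
theorem F447152 : act 0 n187489 = n207957 := d21_10 (iv5 D207957) (iv1 F213261) (iv5 F213296) (iv6 F409816) (iv1 D198902) (iv6 F332205) (iv5 F262964) (iv1 F273744) (iv5 F309538) (iv6 F370548)
def n207958 : Q := act 5 n132780
theorem D207958 : act 5 n132780 = n207958 := rfl
theorem F447153 : act 2 n207958 = n132807 := d2_1 D207958 (iv5 D132807) (iv2 F363183)
theorem F447154 : act 6 n207958 = n160595 := d12_2 (iv6 F330897) D207958 (iv5 F344810) (iv6 F344813) D137357
theorem F447155 : act 7 n207958 = n132802 := d13_2 (iv7 F363184) D207958 (iv5 D132802)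
theorem F447156 : act 1 n207958 = n202771 := d17_6 (iv1 D188783) (iv5 F374266) F374267 (iv5 F251338) F330898 D207958 F425513 F352106 F374863
theorem F447157 : act 0 n207958 = n187489 := d21_1 D207958 F370547 (iv6 F336052) F331836 (iv6 D130821) D130820 (iv1 F330896) (iv5 F324233) (iv6 F97194) (iv1 F213255)
def n207959 : Q := act 6 n132785
theorem D207959 : act 6 n132785 = n207959 := rfl
theorem F447158 : act 4 n207959 = n132786 := d10_1 D207959 (iv6 D132786) D132785
def n207960 : Q := act 5 n132787
theorem D207960 : act 5 n132787 = n207960 := rfl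
theorem F447159 : act 2 n207960 = n188996 := d2_1 D207960 (iv5 F391742) F391738
theorem F447160 : act 3 n207960 = n195125 := d6_1 D207960 F395873 F391693
theorem F447161 : act 7 n207960 = n187825 := d13_2 (iv7 F391692) D207960 F371623
theorem F447162 : act 0 n207960 = n188095 := d17_2 D132787 D207960 F372319 (iv4 F334642) (iv5 F373934) (iv0 F373937) (iv5 D132802) (iv0 D62326) (iv4 F97186)
theorem F447163 : act 0 n188997 = n207960 := d21_1 (iv5 F375359) (iv5 D207960) (iv6 F391694) (iv1 F176887) F324733 (iv5 F315836) (iv1 F128923) F317508 D133469 F371340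
def n207961 : Q := act 5 n132788
theorem D207961 : act 5 n132788 = n207961 := rfl
theorem F447164 : act 2 n207961 = n187825 := d2_1 D207961 F371623 (iv2 F366123)
theorem F447165 : act 3 n207961 = n200899 := d6_1 D207961 (iv5 D200899) (iv3 F366124)
theorem F447166 : act 6 n207961 = n187516 := d12_2 F366122 D207961 (iv5 D187516) F138876 D105299
theorem F447167 : act 7 n207961 = n188996 := d13_2 F391741 D207961 (iv5 F391742)
theorem F447168 : act 0 n207961 = n188997 := d17_2 (iv1 F391690) D207961 F375359 F371338 D207768 (iv0 F446342) (iv5 D132807) (iv0 F321693) (iv4 F391687)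
theorem F447169 : act 0 n188095 = n207961 := d21_10 (iv5 D207961) (iv1 D132788) D132789 (iv6 F413468) (iv1 F413465) (iv6 D188708) F142834 F290807 D90801 D188095
def n207962 : Q := act 1 n132789
theorem D207962 : act 1 n132789 = n207962 := rfl
theorem F447170 : act 5 n207962 = n187728 := d17_7 (iv1 F214822) F336056 (iv1 D132810) (iv5 D62328) (iv4 F97186) D132789 D207962 F374603 F374601
theorem F447171 : act 6 n188977 = n207962 := d21_5 (iv5 D20567) D20564 D43488 D92953 D188977 F447170 (iv1 D187728) (iv5 F143393) (iv6 D92976) (iv1 D43495)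
def n207963 : Q := act 4 n132789
theorem D207963 : act 4 n132789 = n207963 := rfl
theorem F447172 : act 3 n207963 = n200042 := d5_1 D207963 (iv4 F431510) F431509 (iv4 D135231) (iv3 F213270)
theorem F447173 : act 6 n207963 = n200040 := d10_2 F413468 D207963 F414739
theorem F447174 : act 0 n207963 = n196539 := d18_2 (iv1 D207962) D207963 (iv4 F421156) F421157 F209348 (iv0 F352105) (iv4 F334643) D187728 (iv5 F447170)
def n207964 : Q := act 7 n132789
theorem D207964 : act 7 n132789 = n207964 := rfl
theorem F447175 : act 3 n207964 = n135232 := d8_1 D207964 (iv7 D135232) (iv3 F213270)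
theorem F447176 : act 5 n207964 = n132790 := d13_1 D207964 (iv7 D132790) D132789
def n207965 : Q := act 4 n132793
theorem D207965 : act 4 n132793 = n207965 := rfl
theorem F447177 : act 2 n207965 = n204207 := d1_1 D207965 (iv4 D204207) F366657
theorem F447178 : act 5 n207965 = n207084 := d9_2 D132793 D207965 (iv4 D207084) (iv5 D130124) (iv4 D61092) F315286 (iv4 D57751) D57752 D123970 F366658 (iv4 D132785) (iv5 D62320) (iv4 D29482) D29483 D62324
theorem F447179 : act 7 n207965 = n204524 := d11_2 F315062 D207965 (iv4 D204524)
theorem F447180 : act 0 n207965 = n204527 := d17_0 (iv5 F447140) F447143 (iv5 F431515) (iv4 D204215) F304265 F205695 D99477 F357926 D207965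
theorem F447181 : act 1 n207965 = n204526 := d18_6 (iv1 F312100) F312101 F97474 D62324 D132793 D207965 (iv4 F434254) F434251 F387182
theorem F447182 : act 3 n134802 = n207965 := d20_5 F98588 (iv1 F98632) (iv4 D63348) (iv3 F98621) D134802 (iv4 D207965) (iv1 F357926) (iv4 F333442) (iv3 D108493) (iv1 F98591)
theorem F447183 : act 5 n206473 = n134802 := d6_0 F447182 F447178 F443251
def n207966 : Q := act 6 n132793
theorem D207966 : act 6 n132793 = n207966 := rfl
theorem F447184 : act 2 n207966 = n204208 := d3_1 D207966 (iv6 D204208) F366657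
theorem F447185 : act 3 n207966 = n133676 := d7_1 D207966 (iv6 D133676) (iv3 F213281)
theorem F447186 : act 0 n207966 = n188341 := d21_4 (iv5 D123583) F314250 D132793 D207966 (iv6 F373108) (iv5 D136476) (iv1 F179697) F344851 (iv6 D124002) (iv1 F354488)
def n207967 : Q := act 5 n132800
theorem D207967 : act 5 n132800 = n207967 := rfl
theorem F447187 : act 3 n207967 = n132802 := d6_1 D207967 (iv5 D132802) D132800
theorem F447188 : act 6 n207967 = n199652 := d12_2 F364317 D207967 F413013 (iv6 D121217) D121216
theorem F447189 : act 4 n199968 = n207967 := d10_3 F447188 F413014 D199968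
def n207968 : Q := act 5 n132805
theorem D207968 : act 5 n132805 = n207968 := rfl
theorem F447190 : act 2 n207968 = n207104 := d2_1 D207968 (iv5 D207104) F394436
theorem F447191 : act 3 n207968 = n132807 := d6_1 D207968 (iv5 D132807) D132805
theorem F447192 : act 7 n207968 = n202745 := d13_2 F365524 D207968 (iv5 F425392)
theorem F447193 : act 1 n207968 = n202710 := d17_8 F317781 D117822 F315553 D191325 (iv4 F443324) (iv5 D207101) F394443 D207968 F425228
theorem F447194 : act 0 n207968 = n203147 := d18_0 (iv4 D203147) (iv1 F184499) (iv4 F361226) (iv5 D134568) (iv4 F363251) (iv0 D134366) (iv4 F208734) F394443 D207968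
def n207969 : Q := act 5 n132811
theorem D207969 : act 5 n132811 = n207969 := rfl
theorem F447195 : act 2 n207969 = n162582 := d2_1 D207969 (iv5 D162582) (iv2 F342206)
theorem F447196 : act 3 n207969 = n147814 := d6_1 D207969 F231577 (iv3 F344836)
theorem F447197 : act 6 n207969 = n189188 := d12_2 (iv6 F344837) D207969 F376006 F365597 F344828
theorem F447198 : act 7 n207969 = n162577 := d13_2 (iv7 F342207) D207969 (iv5 D162577)
def n207970 : Q := act 6 n132840
theorem D207970 : act 6 n132840 = n207970 := rfl
theorem F447199 : act 2 n207970 = n132932 := d3_1 D207970 (iv6 D132932) F213371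
theorem F447200 : act 3 n207970 = n132985 := d7_1 D207970 (iv6 D132985) (iv3 F213369)
theorem F447201 : act 4 n207970 = n135126 := d10_1 D207970 (iv6 D135126) (iv4 F213370)
theorem F447202 : act 5 n207970 = n166749 := d12_1 D207970 (iv6 F409618) F409622 (iv6 F357800) (iv5 F354623)
theorem F447203 : act 0 n207970 = n186801 := d21_10 F368050 F261081 (iv5 F328565) (iv6 D126641) (iv1 F93862) (iv6 F330916) F315308 (iv1 F354618) (iv5 F354623) D207970
theorem F447204 : act 0 n132885 = n207970 := d21_4 (iv5 F438625) (iv1 F425393) (iv5 F425392) F365523 (iv6 D207970) F354623 F354617 (iv5 F319747) (iv6 F438244) (iv1 F438622)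
def n207971 : Q := act 3 n132856
theorem D207971 : act 3 n132856 = n207971 := rfl
theorem F447205 : act 2 n207971 = n186801 := d0_1 D207971 F368052 (iv2 F334328) (iv3 D132880) (iv2 F333820)
theorem F447206 : act 4 n207971 = n137194 := d5_2 (iv4 F347566) D207971 (iv3 F395948) F395949 (iv3 F288295)
theorem F447207 : act 5 n207971 = n177633 := d6_2 (iv5 F333821) D207971 F277093
theorem F447208 : act 6 n207971 = n137192 := d7_2 (iv6 F345848) D207971 F345851
theorem F447209 : act 7 n207971 = n132885 := d8_2 (iv7 F333822) D207971 (iv3 D132885)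
theorem F447210 : act 0 n132932 = n207971 := d17_0 F447207 (iv1 F378143) F330503 F93953 D64780 (iv0 F328552) D95411 F338302 (iv4 F213554)
def n207972 : Q := act 4 n132870
theorem D207972 : act 4 n132870 = n207972 := rfl
theorem F447211 : act 7 n207972 = n189365 := d11_2 F374589 D207972 F376479
def n207973 : Q := act 2 n132885
theorem D207973 : act 2 n132885 = n207973 := rfl
theorem F447212 : act 3 n207973 = n163725 := d0_2 D132885 D207973 F258083 (iv3 F336070) F336069
theorem F447213 : act 4 n207973 = n186795 := d1_2 F363996 D207973 (iv2 F368037)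
theorem F447214 : act 6 n207973 = n207100 := d3_2 F365523 D207973 (iv2 F443319)
theorem F447215 : act 7 n207973 = n186801 := d4_2 F447209 D207973 (iv2 F447205)
theorem F447216 : act 5 n163724 = n207973 := d13_3 F447215 F368050 (iv7 F258082)
theorem F447217 : act 1 n132932 = n207973 := d15_1 (iv0 F447210) F447215 (iv2 F447205)
def n207974 : Q := act 5 n132885
theorem D207974 : act 5 n132885 = n207974 := rfl
theorem F447218 : act 2 n207974 = n163724 := d2_1 D207974 F447216 (iv2 D207973)
theorem F447219 : act 3 n207974 = n132887 := d6_1 D207974 (iv5 D132887) D132885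
theorem F447220 : act 4 n207974 = n198255 := d9_1 D207974 (iv5 F407366) (iv4 F295440) (iv5 F338436) F338435 (iv5 F289984) D186801 F368050 (iv4 F280909) F363990 F338450 F338447 F293736 (iv5 F338449) F363996
theorem F447221 : act 6 n207974 = n178545 := d12_2 F365523 D207974 (iv5 F362044) D202745 (iv5 F425392)
theorem F447222 : act 7 n207974 = n177633 := d13_2 F447209 D207974 (iv5 F447207)
theorem F447223 : act 0 n207974 = n198162 := d17_2 (iv1 F363997) D207974 F407049 F204097 F328980 F133634 (iv5 F295085) F289978 D181983
theorem F447224 : act 1 n207974 = n165723 := d17_6 (iv1 D64665) F329339 D47417 (iv5 F338449) F363996 D207974 (iv5 F328565) (iv0 F338477) (iv4 D137583)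
def n207975 : Q := act 4 n132887
theorem D207975 : act 4 n132887 = n207975 := rfl
theorem F447225 : act 2 n207975 = n203882 := d1_1 D207975 F430220 (iv2 F337547)
theorem F447226 : act 3 n207975 = n163410 := d5_1 D207975 (iv4 F346875) D198255 (iv4 F447220) F447219
theorem F447227 : act 6 n207975 = n206554 := d10_2 (iv6 F333815) D207975 F441309
theorem F447228 : act 7 n207975 = n177636 := d11_2 (iv7 F333816) D207975 F277094
theorem F447229 : act 5 n207480 = n207975 := d12_5 F447227 F441308 (iv6 D131832) D131831 D207480
def n207976 : Q := act 4 n132889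
theorem D207976 : act 4 n132889 = n207976 := rfl
theorem F447230 : act 2 n207976 = n206509 := d1_1 D207976 F441138 F334669
theorem F447231 : act 3 n207976 = n163816 := d5_1 D207976 (iv4 D163816) (iv3 D78703) D78704 (iv3 F323706)
theorem F447232 : act 6 n207976 = n175432 := d10_2 (iv6 F317562) D207976 (iv4 D175432)
theorem F447233 : act 7 n207976 = n166778 := d11_2 (iv7 F323707) D207976 F262509
def n207977 : Q := act 0 n132919
theorem D207977 : act 0 n132919 = n207977 := rfl
theorem F447234 : act 5 n207977 = n197619 := d17_1 D207977 (iv1 F416516) F416518 F338555 F306411 (iv0 F314226) (iv5 D138190) (iv0 F337829) (iv4 F213537)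
theorem F447235 : act 4 n207977 = n136954 := d18_1 D207977 (iv1 F338465) F332705 (iv5 F217563) F337851 (iv0 D78910) (iv4 F120104) D164263 F338581
theorem F447236 : act 3 n207977 = n205466 := d20_5 D132605 (iv1 F447004) (iv4 F447123) F447122 D207977 F436570 (iv1 F362145) F362143 (iv3 F212838) (iv1 F212841)
theorem F447237 : act 6 n207977 = n205465 := d21_5 F317522 F319749 F318044 D132919 D207977 (iv5 D205465) F394704 (iv5 F446350) (iv6 D207770) F214794
theorem F447238 : act 2 n132928 = n207977 := d15_3 (iv0 D207977) (iv0 F338462) F342189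
theorem F447239 : act 1 n132931 = n207977 := d15_0 (iv0 D207977) (iv7 F338559) (iv2 F338560)
theorem F447240 : act 7 n207977 = n132929 := d15_2 F346155 F447239 F338563
def n207978 : Q := act 4 n132921
theorem D207978 : act 4 n132921 = n207978 := rfl
theorem F447241 : act 2 n207978 = n135119 := d1_1 D207978 (iv4 D135119) (iv2 F213540)
theorem F447242 : act 6 n207978 = n179730 := d10_2 (iv6 F337793) D207978 (iv4 D179730)
theorem F447243 : act 7 n207978 = n135131 := d11_2 (iv7 F213541) D207978 (iv4 D135131)
def n207979 : Q := act 3 n132929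
theorem D207979 : act 3 n132929 = n207979 := rfl
theorem F447244 : act 2 n207979 = n185791 := d0_1 D207979 (iv3 D185791) F323372 (iv3 F342188) (iv2 F338563)
theorem F447245 : act 4 n207979 = n206898 := d5_2 (iv4 F338564) D207979 F442546 F346164 F220120
theorem F447246 : act 5 n207979 = n197616 := d6_2 (iv5 F338565) D207979 F405035
theorem F447247 : act 6 n207979 = n134721 := d7_2 (iv6 F338566) D207979 F216737
theorem F447248 : act 7 n207979 = n205466 := d8_2 F447240 D207979 (iv3 F447236)
theorem F447249 : act 0 n207979 = n158497 := d19_4 (iv1 F363923) (iv5 D136953) (iv4 F338564) D207979 (iv5 F274136) (iv4 F431322) (iv3 F431319) (iv1 D149574) D149575 (iv4 F384386) F384385 F439782 (iv5 F439781) F394169 (iv3 F343424) (iv1 F428893) F428889 F428472 F427442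
theorem F447250 : act 0 n207011 = n207979 := d20_4 (iv4 F354288) F354286 F341950 D207011 (iv3 D207979) F338564 (iv1 F338557) F98956 (iv3 F98952) D135287
def n207980 : Q := act 4 n132934
theorem D207980 : act 4 n132934 = n207980 := rfl
theorem F447251 : act 2 n207980 = n207604 := d1_1 D207980 F445649 F399350
theorem F447252 : act 3 n207980 = n158072 := d5_1 D207980 F249016 F293801 D164205 (iv3 F363069)
theorem F447253 : act 6 n207980 = n181906 := d10_2 (iv6 F382572) D207980 F382570
theorem F447254 : act 7 n207980 = n158063 := d11_2 F429318 D207980 (iv4 F429315)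
theorem F447255 : act 0 n207980 = n196195 := d17_0 F399826 (iv1 F380618) (iv5 F382676) F445492 F445488 F395660 (iv5 F402811) (iv0 F402815) D207980
theorem F447256 : act 1 n207980 = n196198 := d18_6 F211584 F211582 (iv1 F211562) (iv4 F97275) D132934 D207980 (iv4 D196198) F164547 (iv5 D61982)
def n207981 : Q := act 4 n132936
theorem D207981 : act 4 n132936 = n207981 := rfl
theorem F447257 : act 2 n207981 = n158063 := d1_1 D207981 (iv4 F429315) F429314
theorem F447258 : act 6 n207981 = n158059 := d10_2 F436870 D207981 (iv4 F436869)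
theorem F447259 : act 7 n207981 = n207604 := d11_2 (iv7 F399353) D207981 F445649
theorem F447260 : act 0 n207981 = n196198 := d17_0 F399834 (iv1 D189876) F348710 (iv4 F284452) F347530 (iv0 F212543) (iv5 F382294) (iv0 F382296) D207981
theorem F447261 : act 1 n207981 = n196195 := d18_6 (iv1 F211586) (iv4 F211613) (iv1 F211614) (iv4 F207234) D132936 D207981 (iv4 D196195) (iv0 D106749) F77996
def n207982 : Q := act 4 n132943
theorem D207982 : act 4 n132943 = n207982 := rfl
theorem F447262 : act 2 n207982 = n191233 := d1_1 D207982 F445492 F445487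
theorem F447263 : act 3 n207982 = n197050 := d5_1 D207982 (iv4 D197050) (iv3 D107570) (iv4 F177618) F361705
theorem F447264 : act 5 n207982 = n189877 := d9_2 (iv5 F213573) D207982 (iv4 F436510) F436509 F216512 F216510 F212535 (iv5 F213568) F347520 F150176 (iv4 F380601) F380602 F320102 (iv5 F320105) D129312
theorem F447265 : act 6 n207982 = n191238 := d10_2 F382605 D207982 F382709
theorem F447266 : act 7 n207982 = n181932 := d11_2 (iv7 F361704) D207982 (iv4 F284452)
theorem F447267 : act 0 n207982 = n191232 := d18_2 D132943 D207982 F382674 F211618 (iv4 F211613) F211615 (iv4 F97275) (iv0 D62382) D62385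
theorem F447268 : act 1 n207982 = n191231 := d18_6 F211210 (iv4 F211209) F212538 D129312 (iv5 F213573) D207982 F382669 F357665 (iv5 F340304)
def n207983 : Q := act 0 n132952
theorem D207983 : act 0 n132952 = n207983 := rfl
theorem F447269 : act 5 n207983 = n165684 := d17_1 D207983 (iv1 F260953) D190666 F380493 (iv5 F345638) F194397 (iv5 F324232) F338307 (iv4 F213577)
theorem F447270 : act 4 n207983 = n206003 := d18_3 F338308 (iv4 F213577) D207983 F438792 F281097 F430020 F430017 (iv0 D121796) (iv5 F321983)
theorem F447271 : act 2 n132999 = n207983 := d15_3 (iv0 D207983) (iv0 F433990) F433989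
theorem F447272 : act 1 n133002 = n207983 := d15_0 (iv0 D207983) F338320 F338338
theorem F447273 : act 7 n207983 = n133000 := d15_2 F433991 F447272 (iv2 F433986)
theorem F447274 : act 3 n206658 = n207983 := d20_9 F213652 F338309 (iv4 F208335) (iv3 D129956) F168041 (iv3 F164237) (iv4 F203419) D205671 (iv4 F442835) (iv1 F447272)
theorem F447275 : act 6 n200840 = n207983 := d14_5 F447273 (iv6 F354290) F354291 D204877 F433984
def n207984 : Q := act 1 n132958
theorem D207984 : act 1 n132958 = n207984 := rfl
theorem F447276 : act 1 n207984 = n133004 := d15_1 D207984 (iv7 F409743) F409740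
theorem F447277 : act 7 n207984 = n173210 := d15_2 (iv0 F362188) D207984 F271507
theorem F447278 : act 5 n207984 = n133039 := d17_7 (iv1 D29516) (iv5 D14025) D14022 D29505 D62390 D132958 D207984 F213702 (iv4 D62432)
theorem F447279 : act 3 n166740 = n207984 := d20_3 (iv4 F342039) F358706 F333006 (iv1 D207984) F315981 D172432 F345748 F333035 F128615 D83534
theorem F447280 : act 2 n207984 = n207455 := d0_1 F447279 F445007 (iv2 F322705) F322706 (iv2 F330839)
theorem F447281 : act 6 n200178 = n207984 := d3_0 F447280 F445011 (iv2 F433786)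
def n207985 : Q := act 0 n132962
theorem D207985 : act 0 n132962 = n207985 := rfl
theorem F447282 : act 5 n207985 = n153251 := d17_1 D207985 (iv1 F349803) (iv5 F349801) F206276 (iv5 F347331) (iv0 D134027) D134030 F361708 (iv4 F339656)
theorem F447283 : act 4 n207985 = n158960 := d18_1 D207985 (iv1 F360618) (iv4 D176475) (iv5 D84150) (iv4 F129154) (iv0 F323681) (iv4 F342053) (iv0 D132961) D132962
theorem F447284 : act 3 n207985 = n147143 := d20_5 (iv4 F337701) F420800 F420796 (iv3 F338574) D207985 (iv4 F230706) F206466 (iv4 F230550) (iv3 F431409) F431412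
theorem F447285 : act 6 n207985 = n147627 := d21_5 (iv5 D132651) (iv1 F338384) D62395 (iv6 F213596) D207985 F231401 (iv1 F243368) F348852 (iv6 F446331) F446334
theorem F447286 : act 2 n148812 = n207985 := d15_3 (iv0 D207985) (iv0 F361709) (iv7 F363721)
theorem F447287 : act 1 n200620 = n207985 := d15_0 (iv0 D207985) (iv7 F338575) (iv2 F417243)
theorem F447288 : act 7 n207985 = n190704 := d15_2 (iv0 F417247) F447287 F380681
def n207986 : Q := act 5 n132986
theorem D207986 : act 5 n132986 = n207986 := rfl
theorem F447289 : act 2 n207986 = n196259 := d2_1 D207986 (iv5 D196259) (iv2 F213627)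
theorem F447290 : act 3 n207986 = n132987 := d6_1 D207986 (iv5 D132987) D132986
theorem F447291 : act 7 n207986 = n196256 := d13_2 (iv7 F213629) D207986 (iv5 D196256)
def n207987 : Q := act 6 n132986
theorem D207987 : act 6 n132986 = n207987 := rfl
theorem F447292 : act 2 n207987 = n196260 := d3_1 D207987 (iv6 D196260) (iv2 F213627)
theorem F447293 : act 3 n207987 = n132988 := d7_1 D207987 (iv6 D132988) D132986
theorem F447294 : act 4 n207987 = n132996 := d10_1 D207987 (iv6 D132996) (iv4 F213628)
def n207988 : Q := act 6 n132987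
theorem D207988 : act 6 n132987 = n207988 := rfl
theorem F447295 : act 0 n207988 = n207915 := d21_4 (iv5 D132580) F97288 D132987 D207988 (iv6 D207915) (iv5 D132568) D132566 (iv5 F441866) (iv6 F446398) F446400
theorem F447296 : act 0 n206864 = n207988 := d21_4 (iv5 F442320) (iv1 D129433) D129435 D206864 (iv6 D207988) (iv5 D132987) (iv1 F207725) D132588 (iv6 F396568) (iv1 F442317)
def n207989 : Q := act 4 n132995
theorem D207989 : act 4 n132995 = n207989 := rfl
theorem F447297 : act 2 n207989 = n189515 := d1_1 D207989 F395356 (iv2 F213647)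
theorem F447298 : act 6 n207989 = n190459 := d10_2 F373526 D207989 F379811
theorem F447299 : act 7 n207989 = n189514 := d11_2 (iv7 F213649) D207989 (iv4 F399076)
theorem F447300 : act 5 n207989 = n196003 := d17_5 (iv1 D107563) F78521 F97291 D132995 D207989 (iv0 D196003) (iv5 D106513) D106512 F364642
theorem F447301 : act 0 n207989 = n189506 := d17_0 (iv5 F420023) (iv1 F420025) (iv5 D196146) (iv4 F364644) F358291 F214460 (iv5 F445378) F445381 D207989
theorem F447302 : act 1 n207989 = n189517 := d18_8 (iv1 D201326) (iv4 F420018) F420020 F371938 (iv5 F369397) (iv4 F445377) F445381 D207989 (iv5 F420030)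
def n207990 : Q := act 4 n132999
theorem D207990 : act 4 n132999 = n207990 := rfl
theorem F447303 : act 2 n207990 = n206003 := d1_1 D207990 (iv4 F447270) (iv2 F447271)
theorem F447304 : act 3 n207990 = n135350 := d5_1 D207990 F369294 (iv3 F398240) F398241 F416709
theorem F447305 : act 6 n207990 = n200841 := d10_2 (iv6 F416710) D207990 (iv4 D200841)
theorem F447306 : act 7 n207990 = n207600 := d11_2 F433989 D207990 F445632
theorem F447307 : act 0 n207990 = n206031 := d17_0 F438918 F373728 D165952 (iv4 F378164) F378163 (iv0 D165783) (iv5 F248694) F345639 D207990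
theorem F447308 : act 0 n207590 = n207990 := d20_10 (iv4 D207990) (iv1 F345639) (iv4 F338361) F338360 (iv1 F363997) (iv3 D132885) F333826 (iv1 F288304) F334340 (iv3 F445588)
def n207991 : Q := act 0 n133022
theorem D207991 : act 0 n133022 = n207991 := rfl
theorem F447309 : act 5 n207991 = n207570 := d17_1 D207991 (iv1 F445495) (iv5 F430018) F430017 F341928 F341925 (iv5 F322746) F338347 D133022
theorem F447310 : act 3 n207991 = n190655 := d20_5 (iv4 D52287) (iv1 F76509) (iv4 F161118) (iv3 F338345) D207991 F418204 (iv1 D200865) F176734 F82774 (iv1 F165638)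
theorem F447311 : act 2 n180365 = n207991 := d15_3 (iv0 D207991) (iv0 F358970) F358975
theorem F447312 : act 1 n165800 = n207991 := d15_0 (iv0 D207991) F338314 (iv2 F338351)
theorem F447313 : act 7 n207991 = n195042 := d15_2 F358971 F447312 (iv2 F395548)
def n207992 : Q := act 6 n133049
theorem D207992 : act 6 n133049 = n207992 := rfl
theorem F447314 : act 2 n207992 = n133051 := d3_1 D207992 (iv6 D133051) D133049
theorem F447315 : act 3 n207992 = n158157 := d7_1 D207992 (iv6 D158157) (iv3 F319888)
theorem F447316 : act 5 n207992 = n205953 := d12_1 D207992 (iv6 D205953) D205952 F438566 (iv5 F217681)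
theorem F447317 : act 0 n207992 = n191386 := d21_4 (iv5 F211856) (iv1 F211858) (iv5 F217681) D207992 (iv6 D191386) F351643 (iv1 F175453) (iv5 F351646) (iv6 D132990) (iv1 F210247)
theorem E103938 : n205983 = n205953 := (c21_2 F364930 D205983 (iv5 F447316) (iv6 D207992) (iv1 F217679) F212299 F319079 (iv1 F187388) D203449 F428362 F362751)
theorem F447318 : act 1 n205953 = n126903 := (sb E103938 (iv0 D205983))
theorem F447319 : act 0 n205985 = n207992 := d21_4 (iv5 F409605) (iv1 F415339) F415336 F438701 (iv6 D207992) F217681 (iv1 D130971) D130973 F362982 F343387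
theorem F447320 : act 3 n205953 = n203494 := d6_1 F447316 (iv5 F428549) (iv3 F447315)
theorem F447321 : act 6 n203494 = n195312 := d7_2 D205953 F447320 F396678
theorem F447322 : act 4 n195314 = n203494 := d10_3 F447321 (iv4 D195312) D195314
theorem F447323 : act 1 n196719 = n195314 := d18_6 (iv1 F187741) F310882 F331891 F321380 (iv5 F438035) F438034 F447322 F428547 F270082
def n207993 : Q := act 1 n133051
theorem D207993 : act 1 n133051 = n207993 := rfl
theorem F447324 : act 7 n207993 = n191386 := d15_2 (iv0 F364618) D207993 F383293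
theorem F447325 : act 4 n157286 = n207993 := d20_0 (iv1 D207993) (iv4 F364617) (iv3 F364616) (iv1 D144475) F103731 D67707 (iv1 F315888) F315889 D139790 F361620
theorem F447326 : act 6 n207428 = n207993 := d21_3 (iv5 F415323) (iv1 F415333) (iv5 F444860) (iv1 D207993) (iv6 D133051) (iv5 F212110) (iv1 F213500) (iv5 F215122) (iv6 F438302) F438305
theorem F447327 : act 2 n207993 = n205985 := d3_1 F447326 (iv6 F438701) F444861
theorem F447328 : act 3 n158584 = n207993 := d0_0 F447327 (iv3 D205985) F438025 (iv3 F438026) (iv2 F351722)
def n207994 : Q := act 5 n133051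
theorem D207994 : act 5 n133051 = n207994 := rfl
theorem F447329 : act 2 n207994 = n205953 := d2_1 D207994 (iv5 F447316) F447314
theorem F447330 : act 3 n207994 = n133057 := d6_1 D207994 (iv5 D133057) (iv3 F213711)
theorem F447331 : act 6 n207994 = n134719 := d12_2 D133051 D207994 (iv5 F438218) F438220 F212110
theorem F447332 : act 0 n207994 = n205827 := d17_2 (iv1 D207993) D207994 F438019 F428764 F322334 (iv0 F340823) (iv5 F340820) (iv0 F340822) F447325
theorem F447333 : act 0 n205984 = n207994 := d21_1 (iv5 F438697) (iv5 D207994) (iv6 D133051) (iv1 F213619) (iv6 F214918) (iv5 F335248) (iv1 F187393) D120211 (iv6 F335263) F429336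
theorem F447334 : act 7 n194302 = n207994 := d8_0 F447330 (iv7 F358087) D194302
def n207995 : Q := act 7 n133051
theorem D207995 : act 7 n133051 = n207995 := rfl
theorem F447335 : act 3 n207995 = n133058 := d8_1 D207995 (iv7 D133058) (iv3 F213711)
theorem F447336 : act 4 n207995 = n207449 := d11_1 D207995 F444975 F364617
theorem F447337 : act 5 n207995 = n194302 := d13_1 D207995 F447334 (iv5 D207994)
theorem F447338 : act 6 n207995 = n207448 := d14_1 D207995 F444970 (iv6 D131688) (iv7 F217654) D133051
theorem F447339 : act 1 n205985 = n207995 := d15_1 (iv0 F447319) (iv7 D207995) (iv2 F447314)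
theorem F447340 : act 1 n207995 = n191386 := d15_1 F447339 (iv7 F447324) F447327
def n207996 : Q := act 4 n133055
theorem D207996 : act 4 n133055 = n207996 := rfl
theorem F447341 : act 2 n207996 = n207123 := d1_1 D207996 F443426 F354050
theorem F447342 : act 3 n207996 = n133840 := d5_1 D207996 (iv4 D133840) (iv3 D62851) (iv4 F102693) (iv3 F341648)
theorem F447343 : act 6 n207996 = n133095 := d10_2 (iv6 F341647) D207996 F305918
theorem F447344 : act 7 n207996 = n207130 := d11_2 (iv7 F341649) D207996 (iv4 D207130)
theorem F447345 : act 0 n207996 = n161168 := d17_0 F339821 (iv1 D146711) (iv5 F342755) (iv4 F429127) F429128 (iv0 F392472) F392469 F217717 D207996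
theorem F447346 : act 1 n207996 = n133067 := d18_6 D103199 (iv4 F346779) F346766 F346764 F341650 D207996 (iv4 F392799) (iv0 D194315) (iv5 D103202)
def n207997 : Q := act 4 n133056
theorem D207997 : act 4 n133056 = n207997 := rfl
theorem F447347 : act 2 n207997 = n207130 := d1_1 D207997 (iv4 D207130) F341651
theorem F447348 : act 7 n207997 = n207123 := d11_2 (iv7 F354052) D207997 F443426
theorem F447349 : act 5 n207997 = n203132 := d16_1 D207997 F427088 (iv5 F184335) (iv4 F314952) (iv5 F346767) F346764 F341650 F341649 F341651
theorem F447350 : act 0 n207997 = n133067 := d17_0 (iv5 F342759) F240602 (iv5 F334574) (iv4 F262995) (iv5 F390487) (iv0 F390489) (iv5 D133057) D133056 D207997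
theorem F447351 : act 1 n207997 = n161168 := d18_6 (iv1 D176622) (iv4 F328704) (iv1 F339715) (iv4 F346787) (iv5 F341653) D207997 (iv4 F264150) (iv0 F346785) (iv5 F346784)
def n207998 : Q := act 6 n133056
theorem D207998 : act 6 n133056 = n207998 := rfl
theorem F447352 : act 2 n207998 = n155708 := d3_1 D207998 (iv6 F320268) F341651
theorem F447353 : act 3 n207998 = n206171 := d7_1 D207998 F439559 (iv3 F341652)
theorem F447354 : act 5 n207998 = n155705 := d12_1 D207998 (iv6 D155705) F110816 D155658 (iv5 F341653)
theorem F447355 : act 7 n207998 = n206257 := d14_2 (iv7 F354052) D207998 (iv6 D206257) (iv7 F241421) F354049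
theorem F447356 : act 0 n207998 = n207426 := d21_4 (iv5 F379525) F379526 (iv5 F341653) D207998 (iv6 D207426) (iv5 F349801) (iv1 F347358) (iv5 F347353) D207081 F443234
theorem F447357 : act 0 n133080 = n207998 := d21_4 (iv5 D128148) F189933 F311890 D133080 (iv6 D207998) F341653 (iv1 F390797) (iv5 F440077) F440115 (iv1 D206294)
def n207999 : Q := act 6 n133065
theorem D207999 : act 6 n133065 = n207999 := rfl
theorem F447358 : act 2 n207999 = n161315 := d3_1 D207999 (iv6 D161315) (iv2 F312340)
theorem F447359 : act 3 n207999 = n133067 := d7_1 D207999 (iv6 D133067) D133065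
theorem F447360 : act 5 n207999 = n153645 := d12_1 D207999 F356773 F204835 D147692 F348426
theorem F447361 : act 7 n207999 = n206250 := d14_2 F216677 D207999 F439928 (iv7 F334210) F334214
theorem F447362 : act 0 n207999 = n207124 := d21_4 (iv5 F341922) F348428 F348426 D207999 (iv6 D207124) (iv5 F442283) (iv1 D206814) F307466 (iv6 D84128) F310246
def n208000 : Q := act 7 n133067
theorem D208000 : act 7 n133067 = n208000 := rfl
theorem F447363 : act 2 n208000 = n161168 := d4_1 D208000 (iv7 F314728) F216680
theorem F447364 : act 3 n208000 = n206250 := d8_1 D208000 (iv7 F447361) F447359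
theorem F447365 : act 5 n208000 = n202927 := d13_1 D208000 F426224 F342759
theorem F447366 : act 6 n208000 = n161166 := d14_1 D208000 (iv7 F314738) (iv6 D131535) (iv7 F216640) D133067
theorem F447367 : act 1 n207130 = n208000 := d15_1 (iv0 F443460) (iv7 D208000) (iv2 F216680)
theorem F447368 : act 1 n208000 = n207123 := d15_1 F447367 (iv7 F447348) F447347
def n208001 : Q := act 6 n133078
theorem D208001 : act 6 n133078 = n208001 := rfl
theorem F447369 : act 2 n208001 = n174419 := d3_1 D208001 (iv6 D174419) (iv2 F332025)
theorem F447370 : act 3 n208001 = n174044 := d7_1 D208001 F368277 (iv3 F368276)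
theorem F447371 : act 4 n208001 = n133080 := d10_1 D208001 (iv6 D133080) D133078
theorem F447372 : act 7 n208001 = n174035 := d14_2 (iv7 F332026) D208001 (iv6 D174035) (iv7 F272820) F343508
theorem F447373 : act 5 n208001 = n153214 := d21_6 D133004 (iv1 F447276) F447278 F316726 (iv1 F331994) D208001 (iv1 F240581) F348692 (iv6 F320103) (iv1 F213582)
theorem F447374 : act 1 n207431 = n208001 := d18_8 (iv1 F240581) F206337 (iv1 F240949) F342728 F339315 (iv4 F263844) F376015 (iv4 F444873) F447373
theorem F447375 : act 0 n207430 = n208001 := d18_2 F347334 F444871 F447371 (iv5 F403073) F403072 (iv0 F376033) (iv4 D174436) D174435 F342727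
def n208002 : Q := act 1 n133080
theorem D208002 : act 1 n133080 = n208002 := rfl
theorem F447376 : act 1 n208002 = n207426 := d15_1 D208002 F444849 F440117
theorem F447377 : act 7 n208002 = n155708 := d15_2 (iv0 F447357) D208002 (iv2 F447352)
theorem F447378 : act 4 n208002 = n207124 := d17_9 F447064 (iv5 F348671) F348667 F309748 (iv4 F206407) F354059 F403075 F403073 D208002
theorem F447379 : act 5 n208002 = n155709 := d18_9 F358767 (iv4 F358764) (iv1 D93445) (iv4 F144144) D189189 (iv4 F444873) F447374 F447371 D208002
theorem F447380 : act 3 n133145 = n208002 := d20_9 (iv4 F447371) (iv1 F447374) F444873 F376013 (iv1 F315969) F247129 F217792 (iv1 F210871) (iv4 F213873) (iv1 D208002)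
theorem F447381 : act 6 n158406 = n208002 := d21_3 D133008 F348160 (iv5 F320006) (iv1 D208002) (iv6 D133080) (iv5 F311890) (iv1 F189936) D128151 (iv6 F341917) (iv1 D133007)
theorem F447382 : act 2 n208002 = n206257 := d3_1 F447381 (iv6 D206257) (iv2 F353998)
def n208003 : Q := act 0 n133087
theorem D208003 : act 0 n133087 = n208003 := rfl
theorem F447383 : act 5 n208003 = n207796 := d17_1 D208003 F446483 F442283 F306365 F320006 (iv0 F348160) (iv5 D133008) D133007 F341920
theorem F447384 : act 4 n208003 = n176480 := d18_1 D208003 (iv1 F275786) (iv4 F243933) F347126 F217754 F211650 F207190 F97316 D133087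
theorem F447385 : act 3 n208003 = n176444 := d20_5 (iv4 D202739) F322169 D125001 F347000 D208003 F275747 D176477 (iv4 F434474) (iv3 D204988) (iv1 F425360)
theorem F447386 : act 6 n208003 = n175174 := d21_5 (iv5 F315035) F329830 D126800 (iv6 F346999) D208003 (iv5 F334267) (iv1 D133069) (iv5 D62437) D62438 (iv1 F334204)
theorem F447387 : act 2 n167490 = n208003 := d15_3 (iv0 D208003) F347001 (iv7 F263661)
theorem F447388 : act 1 n133092 = n208003 := d15_0 (iv0 D208003) (iv7 F346997) (iv2 F346987)
theorem F447389 : act 7 n208003 = n176444 := d15_2 (iv0 F346986) F447388 F275746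
def n208004 : Q := act 6 n133090
theorem D208004 : act 6 n133090 = n208004 := rfl
theorem F447390 : act 2 n208004 = n205870 := d3_1 D208004 (iv6 F444790) F444788
theorem F447391 : act 3 n208004 = n133093 := d7_1 D208004 (iv6 D133093) D133090
theorem F447392 : act 7 n208004 = n205871 := d14_2 F359265 D208004 F438208 (iv7 F438007) F438006
theorem F447393 : act 5 n208004 = n136746 := d21_6 (iv5 D75608) (iv1 D34582) D34583 (iv6 F113456) (iv1 F359263) D208004 (iv1 D136746) (iv5 F204088) (iv6 F330966) F315447
theorem F447394 : act 1 n134721 = n208004 := d17_6 (iv1 F180087) (iv5 F404824) (iv1 D134740) (iv5 D63320) (iv4 F98526) D134721 F447393 F219939 F203929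
theorem F447395 : act 0 n205467 = n208004 := d19_0 F447393 (iv4 F223666) (iv3 D140515) (iv1 F180116) (iv5 F224977) F339989 D201432 (iv1 F427817) (iv5 D203311) (iv4 F427016) F427017 (iv1 D120436) D120437 (iv4 F371901) (iv3 D187943) (iv1 F370745) F370741 F336094 (iv3 F436573)
def n208005 : Q := act 6 n133091
theorem D208005 : act 6 n133091 = n208005 := rfl
theorem F447396 : act 2 n208005 = n200839 := d3_1 D208005 F436148 F359268
theorem F447397 : act 3 n208005 = n205424 := d7_1 D208005 F436350 (iv3 F399284)
theorem F447398 : act 4 n208005 = n133093 := d10_1 D208005 (iv6 D133093) D133091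
theorem F447399 : act 5 n208005 = n205387 := d12_1 D208005 (iv6 D205387) (iv5 F360447) D205541 F436915
theorem F447400 : act 7 n208005 = n200756 := d14_2 (iv7 F359267) D208005 (iv6 D200756) (iv7 F204620) F347123
theorem F447401 : act 0 n200840 = n208005 := d21_4 F147041 D165684 (iv5 F447269) (iv6 F447275) (iv6 D208005) (iv5 F436915) (iv1 F436916) F419203 (iv6 F397827) (iv1 D189901)
theorem F447402 : act 1 n195102 = n208005 := d15_0 (iv0 F447401) (iv7 F433984) F433980
def n208006 : Q := act 3 n133124
theorem D208006 : act 3 n133124 = n208006 := rfl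
theorem F447403 : act 2 n208006 = n207453 := d0_1 D208006 (iv3 F444999) F426935 F233263 (iv2 F316626)
theorem F447404 : act 6 n208006 = n172567 := d7_2 (iv6 F316629) D208006 F270743
theorem F447405 : act 7 n208006 = n158346 := d8_2 (iv7 F316630) D208006 F249485
theorem F447406 : act 0 n207454 = n208006 := d20_4 F392808 F343372 F358083 (iv3 F445002) (iv3 D208006) F316627 (iv1 D75360) (iv4 F112987) (iv3 F249223) F392811
theorem F447407 : act 1 n158157 = n208006 := d15_0 (iv0 F447406) (iv7 D207454) F366446
def n208007 : Q := act 0 n133141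
theorem D208007 : act 0 n133141 = n208007 := rfl
theorem F447408 : act 5 n208007 = n159436 := d17_1 D208007 F346537 (iv5 D162624) (iv4 F302305) (iv5 F387886) (iv0 F387888) (iv5 F388030) (iv0 D192855) (iv4 F353802)
theorem F447409 : act 3 n208007 = n207428 := d20_5 F217784 (iv1 F209491) (iv4 F209011) (iv3 F213863) D208007 F444859 (iv1 F237488) (iv4 F383342) (iv3 F383343) (iv1 F217783)
theorem F447410 : act 6 n208007 = n158584 := d21_5 (iv5 D83117) (iv1 F118726) F313343 D133141 D208007 (iv5 F346540) (iv1 D176111) (iv5 D84010) F301546 F317071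
theorem F447411 : act 2 n191385 = n208007 := d15_3 (iv0 D208007) (iv0 F353794) D191385
theorem F447412 : act 7 n208007 = n191380 := d4_2 D191385 F447411 F383275
theorem F447413 : act 1 n167616 = n208007 := d15_1 F353800 F447412 F383275
def n208008 : Q := act 7 n133141
theorem D208008 : act 7 n133141 = n208008 := rfl
theorem F447414 : act 2 n208008 = n167616 := d4_1 D208008 F353798 (iv2 F315039)
theorem F447415 : act 3 n208008 = n133147 := d8_1 D208008 (iv7 D133147) (iv3 F213863)
theorem F447416 : act 4 n208008 = n192857 := d11_1 D208008 (iv7 D192857) (iv4 F353802)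
theorem F447417 : act 5 n208008 = n179602 := d13_1 D208008 (iv7 F344771) (iv5 F315040)
theorem F447418 : act 6 n208008 = n167614 := d14_1 D208008 (iv7 F344787) (iv6 D130484) (iv7 F209004) D133141
theorem F447419 : act 1 n191380 = n208008 := d15_1 (iv0 F383277) (iv7 D208008) F315039
theorem F447420 : act 1 n208008 = n191385 := d15_1 F447419 (iv7 D191385) (iv2 F383275)
def n208009 : Q := act 5 n133169
theorem D208009 : act 5 n133169 = n208009 := rfl
theorem F447421 : act 3 n208009 = n133170 := d6_1 D208009 (iv5 D133170) D133169
theorem F447422 : act 7 n208009 = n207131 := d13_2 (iv7 F213942) D208009 (iv5 D207131)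
def n208010 : Q := act 0 n133170
theorem D208010 : act 0 n133170 = n208010 := rfl
theorem F447423 : act 5 n208010 = n207136 := d17_3 F102061 D133170 D208010 F443468 F219399 (iv0 F217885) (iv5 D135215) F102162 (iv4 F95528)
theorem F447424 : act 2 n207133 = n208010 := d15_3 (iv0 D208010) (iv0 F442017) (iv7 F443466)
theorem F447425 : act 1 n205705 = n208010 := d15_0 (iv0 D208010) F213943 (iv2 F437494)
theorem F447426 : act 7 n208010 = n207132 := d15_2 F442018 F447425 (iv2 F443464)
def n208011 : Q := act 4 n133170
theorem D208011 : act 4 n133170 = n208011 := rfl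
theorem F447427 : act 7 n208011 = n207134 := d11_2 (iv7 F213943) D208011 (iv4 D207134)
def n208012 : Q := act 6 n133170
theorem D208012 : act 6 n133170 = n208012 := rfl
def n208013 : Q := act 0 n133184
theorem D208013 : act 0 n133184 = n208013 := rfl
theorem F447428 : act 5 n208013 = n189289 := d17_3 (iv1 F370575) (iv5 F363895) D208013 F376339 F365762 (iv0 F368974) (iv5 D102401) F139257 (iv4 F370572)
theorem F447429 : act 4 n208013 = n187723 := d18_1 D208013 (iv1 D187723) (iv4 D90493) (iv5 D42351) (iv4 F65393) D90487 (iv4 F288306) (iv0 F288309) (iv5 F363895)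
theorem F447430 : act 6 n208013 = n201526 := d21_5 (iv5 F93592) F93593 F97398 D133184 D208013 F420863 (iv1 D115227) F83945 (iv6 D30132) (iv1 F48356)
theorem F447431 : act 2 n187747 = n208013 := d15_3 (iv0 D208013) F426338 F426333
theorem F447432 : act 1 n148701 = n208013 := d15_0 (iv0 D208013) (iv7 F363897) (iv2 F233463)
theorem F447433 : act 7 n208013 = n187779 := d15_2 (iv0 F426337) F447432 (iv2 F426331)
theorem F447434 : act 3 n148750 = n208013 := d8_3 F447433 (iv3 D187779) F283560
def n208014 : Q := act 5 n133186
theorem D208014 : act 5 n133186 = n208014 := rfl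
theorem F447435 : act 2 n208014 = n189391 := d2_1 D208014 F376522 F363890
theorem F447436 : act 3 n208014 = n189356 := d6_1 D208014 (iv5 F376461) (iv3 F363904)
theorem F447437 : act 4 n208014 = n186714 := d9_1 D208014 (iv5 F375477) D192248 (iv5 F401399) F401397 F397287 (iv4 F213986) (iv5 F377201) F377200 F367773 D192250 F386206 (iv4 F438165) F438168 (iv4 F213992)
theorem F447438 : act 6 n208014 = n189355 := d12_2 F214590 D208014 F376456 (iv6 F443970) (iv5 D207250)
theorem F447439 : act 7 n208014 = n191408 := d13_2 F328058 D208014 F383387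
theorem F447440 : act 0 n208014 = n201853 := d17_2 F327038 D208014 (iv5 D201853) (iv4 D115118) (iv5 F84188) (iv0 F111493) F111491 F97426 (iv4 F327040)
theorem F447441 : act 1 n208014 = n189225 := d17_6 D126453 D205599 F438169 F438168 (iv4 F213992) D208014 F376152 (iv0 F179270) (iv4 F93580)
def n208015 : Q := act 1 n133195
theorem D208015 : act 1 n133195 = n208015 := rfl
theorem F447442 : act 1 n208015 = n134891 := d15_1 D208015 (iv7 F371201) F371198
theorem F447443 : act 7 n208015 = n134890 := d15_2 (iv0 F442135) D208015 F442137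
theorem F447444 : act 5 n208015 = n197595 := d17_7 F366656 (iv5 D132793) (iv1 F312599) D123959 (iv4 F357924) F217230 D208015 F405075 F405072
theorem F447445 : act 4 n208015 = n135829 := d17_9 (iv1 F319150) F319151 D133246 (iv5 F218432) F218434 D197623 F405069 F217230 D208015
theorem F447446 : act 6 n191695 = n208015 := d21_3 (iv5 F443448) (iv1 F443450) (iv5 F384176) (iv1 D208015) (iv6 F352103) (iv5 F292676) F292673 (iv5 D104411) D104412 F389542
theorem F447447 : act 3 n208015 = n191697 := d7_1 F447446 (iv6 D191697) D191695
theorem F447448 : act 2 n134889 = n208015 := d0_5 F447447 F384184 F380084 F214181 (iv3 F217095)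
def n208016 : Q := act 5 n133208
theorem D208016 : act 5 n133208 = n208016 := rfl
theorem F447449 : act 2 n208016 = n133213 := d2_1 D208016 (iv5 D133213) (iv2 F214050)
theorem F447450 : act 1 n208016 = n196141 := d17_6 (iv1 F336068) F336072 (iv1 F320964) (iv5 D133268) (iv4 F214051) D208016 F399585 F176888 F321704
theorem F447451 : act 0 n208016 = n189455 := d21_1 D208016 (iv5 F376623) (iv6 D113675) F139269 F327485 F363408 F357303 D106356 D195851 F398455
theorem F447452 : act 7 n196140 = n208016 := d15_2 (iv0 F391737) F399587 F447449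
def n208017 : Q := act 7 n133208
theorem D208017 : act 7 n133208 = n208017 := rfl
theorem F447453 : act 2 n208017 = n133214 := d4_1 D208017 (iv7 D133214) (iv2 F214050)
theorem F447454 : act 3 n208017 = n146456 := d8_1 D208017 F364328 F217916
theorem F447455 : act 4 n208017 = n133269 := d11_1 D208017 (iv7 D133269) (iv4 F214051)
theorem F447456 : act 5 n208017 = n196140 := d13_1 D208017 F447452 (iv5 D208016)
theorem F447457 : act 6 n208017 = n146454 := d14_1 D208017 F365177 (iv6 D130935) (iv7 F97471) D133208
theorem F447458 : act 1 n133212 = n208017 := d15_1 D133212 (iv7 D208017) F214050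
theorem F447459 : act 1 n208017 = n133211 := d15_1 F447458 (iv7 F398491) F398453
def n208018 : Q := act 0 n133210
theorem D208018 : act 0 n133210 = n208018 := rfl
theorem F447460 : act 5 n208018 = n189277 := d17_1 D208018 (iv1 F376302) (iv5 F371124) F371123 F350435 (iv0 D95396) (iv5 F294500) (iv0 F356269) (iv4 F366183)
theorem F447461 : act 4 n208018 = n172227 := d18_3 (iv1 F367662) (iv4 F366183) D208018 (iv5 F357389) (iv4 F370100) (iv0 F370102) F287961 F148559 (iv5 F367660)
theorem F447462 : act 2 n134498 = n208018 := d15_3 (iv0 D208018) (iv0 F366182) F326629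
theorem F447463 : act 3 n208018 = n196026 := d0_2 D134498 F447462 F399107 (iv3 D135762) F171900
theorem F447464 : act 7 n208018 = n188738 := d4_2 F326629 F447462 F374650
theorem F447465 : act 1 n189567 = n208018 := d15_1 D189567 F447464 F374650
def n208019 : Q := act 5 n133210
theorem D208019 : act 5 n133210 = n208019 := rfl
theorem F447466 : act 3 n208019 = n133217 := d6_1 D208019 (iv5 D133217) (iv3 F214053)
theorem F447467 : act 6 n208019 = n133213 := d12_2 D133210 D208019 (iv5 D133213) (iv6 D62510) D62509
theorem F447468 : act 1 n208019 = n207274 := d17_6 (iv1 F367647) (iv5 D186678) (iv1 F136707) D183479 (iv4 F366183) D208019 (iv5 D207274) (iv0 F444027) F444024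
def n208020 : Q := act 7 n133210
theorem D208020 : act 7 n133210 = n208020 := rfl
theorem F447469 : act 2 n208020 = n189567 := d4_1 D208020 F437201 F437197
theorem F447470 : act 3 n208020 = n133218 := d8_1 D208020 (iv7 D133218) (iv3 F214053)
theorem F447471 : act 4 n208020 = n190113 := d11_1 D208020 F378882 (iv4 F366183)
theorem F447472 : act 6 n208020 = n207357 := d14_1 D208020 (iv7 D207357) (iv6 D130937) (iv7 F97477) D133210
theorem F447473 : act 1 n188738 = n208020 := d15_1 (iv0 F437200) (iv7 D208020) (iv2 F437197)
theorem F447474 : act 1 n208020 = n134498 := d15_1 F447473 (iv7 F326629) (iv2 F374650)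
def n208021 : Q := act 5 n133211
theorem D208021 : act 5 n133211 = n208021 := rfl
theorem F447475 : act 2 n208021 = n189523 := d2_1 D208021 (iv5 F442229) F442225
theorem F447476 : act 3 n208021 = n190463 := d6_1 D208021 (iv5 F398485) (iv3 F398489)
theorem F447477 : act 6 n208021 = n190461 := d12_2 F398490 D208021 F379820 (iv6 F444069) (iv5 D207269)
theorem F447478 : act 7 n208021 = n189524 := d13_2 F398491 D208021 (iv5 F398456)
theorem F447479 : act 4 n208021 = n189559 := d16_2 (iv4 F442223) D208021 F376883 F417919 F417915 F334371 (iv5 F436536) F436538 D206797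
theorem F447480 : act 0 n208021 = n189525 := d17_2 D133211 D208021 F376801 F324732 D132858 F323702 F324228 (iv0 D62541) (iv4 F97479)
theorem F447481 : act 1 n208021 = n188725 := d17_6 F334331 D185902 (iv1 F414922) (iv5 F442222) (iv4 F442223) D208021 (iv5 D188725) (iv0 F176867) (iv4 F334333)
theorem F447482 : act 6 n196140 = n189569 := d21_3 (iv5 D208021) (iv1 F447459) F447456 (iv1 D189569) (iv6 D94061) (iv5 D43970) (iv1 F68947) D92716 (iv6 F374588) (iv1 F447481)
def n208022 : Q := act 5 n133212
theorem D208022 : act 5 n133212 = n208022 := rfl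
theorem F447483 : act 2 n208022 = n189524 := d2_1 D208022 (iv5 F398456) F398453
theorem F447484 : act 3 n208022 = n189263 := d6_1 D208022 F376250 (iv3 F371360)
theorem F447485 : act 4 n208022 = n189266 := d9_1 D208022 F376265 (iv4 F417992) F417987 (iv4 F414919) (iv5 F442222) (iv4 F442223) D208021 F447479 F376883 F417919 F417915 F334371 (iv5 F436536) F436539
theorem F447486 : act 6 n208022 = n196023 := d12_2 F371359 D208022 F399103 (iv6 D195847) (iv5 F371354)
theorem F447487 : act 7 n208022 = n189523 := d13_2 F442228 D208022 (iv5 F442229)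
theorem F447488 : act 0 n208022 = n188725 := d17_2 (iv1 F447458) D208022 (iv5 D188725) F321704 (iv5 F323673) (iv0 F334667) (iv5 D133278) F214237 (iv4 F447455)
theorem F447489 : act 1 n208022 = n189525 := d17_6 (iv1 F363985) F317500 (iv1 F334337) (iv5 F436536) F436539 D208022 F376801 F176887 (iv4 F363981)
def n208023 : Q := act 4 n133213
theorem D208023 : act 4 n133213 = n208023 := rfl
theorem F447490 : act 5 n208023 = n200808 := d16_1 D208023 (iv4 D200808) (iv5 D113504) (iv4 F176688) F342146 (iv4 F447455) F447456 F447452 F447449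
theorem F447491 : act 0 n208023 = n207207 := d18_2 F391737 D208023 F443801 F209186 F324721 (iv0 D62358) (iv4 F97233) (iv0 F324730) D194006
def n208024 : Q := act 7 n133213
theorem D208024 : act 7 n133213 = n208024 := rfl
theorem F447492 : act 2 n208024 = n196140 := d4_1 D208024 F447452 F447449
theorem F447493 : act 3 n208024 = n133227 := d8_1 D208024 (iv7 D133227) (iv3 F214054)
theorem F447494 : act 5 n208024 = n133214 := d13_1 D208024 (iv7 D133214) D133213
theorem F447495 : act 1 n196141 = n208024 := d15_1 F447450 (iv7 D208024) (iv2 F447449)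
theorem F447496 : act 1 n208024 = n189455 := d15_1 F447495 (iv7 F391735) (iv2 F399583)
theorem F447497 : act 6 n188069 = n208024 := d21_5 (iv5 D114100) D114099 (iv5 F395451) F395452 (iv1 F376920) F447494 F398458 F398456 (iv6 F398457) F357305
theorem F447498 : act 2 n189569 = n188069 := d3_3 F447497 F447492 F447482
theorem F447499 : act 7 n188068 = n189569 := d15_2 F376920 F376921 F447498
theorem F447500 : act 7 n189568 = n188069 := d15_2 F376914 F376919 (iv2 F447498)
theorem F447501 : act 2 n188068 = n189568 := d4_3 F447500 (iv2 F447498) (iv7 F447499)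
def n208025 : Q := act 0 n133217
theorem D208025 : act 0 n133217 = n208025 := rfl
theorem F447502 : act 5 n208025 = n146863 := d17_1 D208025 (iv1 F418610) F418607 F377673 (iv5 D95960) (iv0 D44785) D44788 D95970 F364265
theorem F447503 : act 4 n208025 = n183232 := d18_3 F360342 F364265 D208025 (iv5 D183232) D183231 (iv0 F284882) F147425 F157625 (iv5 F360329)
theorem F447504 : act 6 n208025 = n201255 := d21_5 (iv5 D133222) (iv1 D62513) D62514 (iv6 F214058) D208025 F419691 F398507 F330331 F357484 (iv1 F214062)
theorem F447505 : act 0 n208025 = n190378 := d21_10 F379614 (iv1 F217928) (iv5 F377651) (iv6 D189760) (iv1 F292460) (iv6 F330320) (iv5 F330318) F398508 (iv5 F419691) (iv6 F447504)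
theorem F447506 : act 3 n208025 = n207270 := d19_3 D87466 D183232 (iv4 F447503) F444072 F443292 F208661 F95618 (iv1 F79873) F320970 (iv4 D17511) (iv3 F28507) F28509 (iv5 D9170) F6044 (iv3 F6036) D9156 (iv5 F292888) (iv4 F30854) (iv3 F61809)
def n208026 : Q := act 1 n133217
theorem D208026 : act 1 n133217 = n208026 := rfl
theorem F447507 : act 1 n208026 = n190378 := d15_1 D208026 F379613 F217923
theorem F447508 : act 5 n208026 = n146864 := d17_7 F446040 F442783 (iv1 F437580) (iv5 D205725) F203532 D133217 D208026 F418609 (iv4 F446038)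
theorem F447509 : act 4 n208026 = n183234 := d17_9 (iv1 F366984) (iv5 D96297) D96294 D190642 F380430 F377676 (iv0 D133215) D133217 D208026
theorem F447510 : act 6 n196935 = n208026 := d21_3 F435918 (iv1 F444111) F444107 (iv1 D208026) F214058 (iv5 D62514) D62512 D133220 F414695 (iv1 F435920)
theorem F447511 : act 3 n208026 = n196937 := d7_1 F447510 (iv6 D196937) D196935
def n208027 : Q := act 7 n133217
theorem D208027 : act 7 n133217 = n208027 := rfl
theorem F447512 : act 2 n208027 = n190378 := d4_1 D208027 F379613 F217923
theorem F447513 : act 4 n208027 = n144185 := d11_1 D208027 (iv7 F360336) F364265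
theorem F447514 : act 5 n208027 = n133218 := d13_1 D208027 (iv7 D133218) D133217
def n208028 : Q := act 2 n133221
theorem D208028 : act 2 n133221 = n208028 := rfl
theorem F447515 : act 5 n208028 = n196010 := d2_2 F416183 D208028 (iv2 F416181)
theorem F447516 : act 6 n208028 = n164469 := d3_2 F363882 D208028 F366118
theorem F447517 : act 0 n208028 = n207354 := d21_4 (iv5 D78989) D78987 D164469 (iv6 F447516) (iv6 D207354) (iv5 F397709) (iv1 F397710) F203451 D134492 F332611
def n208029 : Q := act 4 n133222
theorem D208029 : act 4 n133222 = n208029 := rfl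
theorem F447518 : act 3 n208029 = n176904 := d5_1 D208029 F373702 F443688 F443686 F416182
theorem F447519 : act 5 n208029 = n198731 := d9_2 D133222 D208029 (iv4 D198731) F170702 (iv4 F169225) (iv5 F163800) F164105 D133220 (iv4 F414698) F414699 (iv4 D198734) F169916 (iv4 F169235) F170671 F170691
theorem F447520 : act 6 n208029 = n198965 := d10_2 (iv6 F416180) D208029 (iv4 F416176)
theorem F447521 : act 7 n208029 = n199858 := d11_2 F217466 D208029 (iv4 F413837)
theorem F447522 : act 1 n208029 = n144507 := d18_6 D135531 F217948 (iv1 F203325) F170691 D133222 D208029 F363063 (iv0 F217957) (iv5 D135533)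
def n208030 : Q := act 4 n133225
theorem D208030 : act 4 n133225 = n208030 := rfl
theorem F447523 : act 5 n208030 = n198499 := d9_2 (iv5 F214065) D208030 (iv4 D198499) F173734 F169876 F173732 (iv4 F173733) (iv5 F327996) (iv4 F429321) F429323 (iv4 D198502) F169865 (iv4 F170706) F173178 F173181
theorem F447524 : act 6 n208030 = n200019 := d10_2 (iv6 F362777) D208030 F414652
theorem F447525 : act 0 n208030 = n190645 := d17_0 (iv5 F381445) (iv1 F409018) (iv5 F414699) F414698 (iv5 D133220) (iv0 D62512) D62514 D133225 D208030
def n208031 : Q := act 3 n133226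
theorem D208031 : act 3 n133226 = n208031 := rfl
theorem F447526 : act 6 n208031 = n190380 := d7_2 (iv6 F364267) D208031 (iv3 D190380)
def n208032 : Q := act 5 n133226
theorem D208032 : act 5 n133226 = n208032 := rfl
theorem F447527 : act 2 n208032 = n190237 := d2_1 D208032 F379152 F217943
theorem F447528 : act 4 n208032 = n198700 := d9_1 D208032 F408929 F169862 F80030 (iv4 F99084) (iv5 F217945) (iv4 F409028) (iv5 D198737) (iv4 D109911) (iv5 D50686) F38674 (iv5 F23415) (iv4 F47393) D62514 D133226
theorem F447529 : act 6 n208032 = n187235 := d12_2 (iv6 F364267) D208032 F369595 F251256 F360338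
theorem F447530 : act 7 n208032 = n198699 := d16_8 (iv4 D109911) (iv5 D50686) F38674 (iv5 F23415) (iv4 F47393) D62514 D133226 D208032 F408925
theorem F447531 : act 0 n208032 = n194903 := d17_2 F420333 D208032 (iv5 F413887) F413886 (iv5 D133230) F203315 (iv5 F418987) F418985 (iv4 F420331)
theorem F447532 : act 1 n208032 = n198735 := d17_8 (iv1 F409035) (iv5 D198739) (iv1 F169927) D109921 (iv4 F408162) (iv5 F418993) F418995 D208032 F409021
def n208033 : Q := act 7 n133226
theorem D208033 : act 7 n133226 = n208033 := rfl
theorem F447533 : act 2 n208033 = n198737 := d4_1 D208033 F409027 F217943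
theorem F447534 : act 4 n208033 = n133227 := d11_1 D208033 (iv7 D133227) D133226
theorem F447535 : act 5 n208033 = n198699 := d13_1 D208033 (iv7 F447530) (iv5 D208032)
theorem F447536 : act 1 n200443 = n208033 := d15_1 (iv0 F416449) (iv7 D208033) (iv2 F217943)
theorem F447537 : act 1 n208033 = n198945 := d15_1 F447536 (iv7 F420332) F420330
def n208034 : Q := act 6 n133227
theorem D208034 : act 6 n133227 = n208034 := rfl
theorem F447538 : act 3 n208034 = n188069 := d7_1 D208034 F447497 F447493
theorem F447539 : act 5 n208034 = n203583 := d12_1 D208034 (iv6 F428986) F209560 (iv6 F97481) (iv5 F214066)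
theorem F447540 : act 0 n208034 = n186054 := d21_4 F217467 (iv1 F99085) (iv5 F214066) D208034 (iv6 D186054) (iv5 D88620) D88617 F295032 D186390 F359557
def n208035 : Q := act 5 n133229
theorem D208035 : act 5 n133229 = n208035 := rfl
theorem F447541 : act 2 n208035 = n190419 := d2_1 D208035 (iv5 F379736) (iv2 F344977)
theorem F447542 : act 3 n208035 = n133230 := d6_1 D208035 (iv5 D133230) D133229
theorem F447543 : act 6 n208035 = n190418 := d12_2 (iv6 F214071) D208035 F379731 F379668 (iv5 F378485)
theorem F447544 : act 4 n208035 = n189224 := d16_4 (iv4 F443152) F443153 F437235 D208035 (iv5 D189224) F144568 D182056 (iv7 F362419) F362417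
theorem F447545 : act 0 n208035 = n145025 := d17_2 (iv1 F370290) D208035 (iv5 F422114) (iv4 F437923) (iv5 F437924) (iv0 D191583) D191585 (iv0 F399492) F203603
def n208036 : Q := act 1 n133231
theorem D208036 : act 1 n133231 = n208036 := rfl
theorem F447546 : act 7 n208036 = n207350 := d15_2 (iv0 F365420) D208036 F444470
theorem F447547 : act 4 n200627 = n208036 := d20_6 (iv4 D58910) F164067 D62101 D132369 D207793 F446468 (iv1 D208036) (iv4 F417226) (iv3 D200616) F176481
theorem F447548 : act 6 n208036 = n200626 := d10_2 D200627 F447547 (iv4 D200626)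
theorem F447549 : act 0 n190421 = n208036 := d20_10 (iv4 F447547) F417339 (iv4 F398358) F398357 (iv1 F391774) F218290 F99232 D129662 F437238 (iv3 F379743)
def n208037 : Q := act 2 n133231
theorem D208037 : act 2 n133231 = n208037 := rfl
theorem F447550 : act 3 n208037 = n135618 := d0_2 D133231 D208037 (iv2 F370292) (iv3 D135534) F99989
theorem F447551 : act 6 n208037 = n154053 := d3_2 F365417 D208037 F242084
theorem F447552 : act 7 n208037 = n190421 := d4_2 F217954 D208037 F379742
theorem F447553 : act 5 n190422 = n208037 := d13_3 F447552 (iv5 D190421) D190422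
theorem F447554 : act 1 n207350 = n208037 := d15_1 (iv0 F444471) F447552 F379742
def n208038 : Q := act 5 n133231
theorem D208038 : act 5 n133231 = n208038 := rfl
theorem F447555 : act 2 n208038 = n190422 := d2_1 D208038 F447553 (iv2 D208037)
theorem F447556 : act 3 n208038 = n133232 := d6_1 D208038 (iv5 D133232) D133231
theorem F447557 : act 6 n208038 = n190442 := d12_2 F365417 D208038 F379780 (iv6 D114759) D114758
theorem F447558 : act 7 n208038 = n189998 := d13_2 F217954 D208038 (iv5 F378515)
theorem F447559 : act 1 n208038 = n190420 := d17_6 (iv1 D196229) D196230 F399987 (iv5 F417227) F417226 D208038 (iv5 F379739) D201888 (iv4 F422231)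
theorem F447560 : act 0 n208038 = n176932 := d21_7 (iv5 F370402) (iv1 D187453) (iv5 F139404) D187793 (iv1 F371517) F365417 D208038 (iv5 F374777) (iv6 D188765) (iv1 F288047)
theorem F447561 : act 4 n190001 = n208038 := d16_0 (iv5 D208038) (iv4 F417226) F417227 (iv4 F406279) (iv5 F406282) (iv4 D190432) (iv5 D96025) D96026 (iv2 F378517)
def n208039 : Q := act 4 n133232
theorem D208039 : act 4 n133232 = n208039 := rfl
theorem F447562 : act 3 n208039 = n202829 := d5_1 D208039 F425758 F425711 F447561 F447556
theorem F447563 : act 5 n208039 = n198735 := d9_2 D133232 D208039 F409021 (iv5 D198381) (iv4 D109265) (iv5 F79780) D62518 D133230 (iv4 F413886) F413887 (iv4 F408184) (iv5 D198380) (iv4 D109264) F79778 D62521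
theorem F447564 : act 6 n208039 = n201524 := d10_2 F365418 D208039 (iv4 D201524)
theorem F447565 : act 1 n208039 = n142484 := d18_6 (iv1 F99088) F99084 (iv1 F48337) D62521 D133232 D208039 (iv4 F357485) (iv0 F214061) (iv5 D133220)
def n208040 : Q := act 5 n133242
theorem D208040 : act 5 n133242 = n208040 := rfl
theorem F447566 : act 2 n208040 = n203465 := d2_1 D208040 F428422 (iv2 F214093)
theorem F447567 : act 3 n208040 = n188997 := d6_1 D208040 F375359 F371337
theorem F447568 : act 6 n208040 = n139414 := d12_2 F217827 D208040 F357966 D145063 (iv5 F338690)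
theorem F447569 : act 7 n208040 = n188993 := d13_2 (iv7 F214094) D208040 F375352
theorem F447570 : act 0 n208040 = n135226 := d17_2 F214095 D208040 (iv5 D135226) (iv4 F164154) D196047 (iv0 F399184) F328415 (iv0 F206980) (iv4 F97715)
theorem F447571 : act 1 n208040 = n135228 := d17_6 (iv1 F48349) D63554 (iv1 F99784) (iv5 F101980) D133242 D208040 (iv5 D135228) F99106 F99104
theorem F447572 : act 4 n208040 = n139415 := d18_5 (iv1 D133447) F97689 (iv1 F101978) D133242 D208040 (iv0 F420757) (iv4 D201065) D201064 F418956
def n208041 : Q := act 0 n133243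
theorem D208041 : act 0 n133243 = n208041 := rfl
def n208042 : Q := act 1 n133243
theorem D208042 : act 1 n133243 = n208042 := rfl
theorem F447573 : act 4 n208042 = n198752 := d18_7 D196812 (iv4 F423389) (iv1 F423397) (iv4 F424796) F424797 F221902 D208042 F409088 (iv5 D196814)
theorem F447574 : act 3 n193921 = n208042 := d19_19 (iv1 D208042) F365138 (iv4 F179570) F179569 D115305 (iv5 F359522) (iv4 F391128) (iv3 D193830) (iv1 F157185) (iv5 D88228) (iv4 F73663) F73662 (iv1 F73642) D90523 D187739 (iv3 F374458) (iv1 F374462) (iv5 F373088) (iv4 F391398)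
theorem F447575 : act 6 n198751 = n208042 := d21_3 F169147 D111715 (iv5 F409079) (iv1 D208042) (iv6 D133243) (iv5 D62530) (iv1 F79235) F79233 D63519 (iv1 F350360)
theorem F447576 : act 5 n193875 = n208042 := d21_6 (iv5 F350332) (iv1 F204273) (iv5 D64036) (iv6 F99402) (iv1 F410579) F433556 (iv1 D208042) F365138 (iv6 D64314) D64310
theorem F447577 : act 2 n208042 = n198766 := d2_1 F447576 F409143 (iv2 F433560)
theorem E103939 : n193920 = n193875 := (c6_4 F447576 (iv3 F447574) (iv5 D193921) D193920)
theorem F447578 : act 3 n193875 = n102480 := (sb E103939 (iv3 D193920))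
theorem E103940 : n194062 = n193922 := ((c7_3 F433556 F447578 D193922 (iv3 F413527))).symm
theorem F447579 : act 0 n193922 = n192667 := (sb E103940 (iv1 F391933))
theorem F447580 : act 1 n193922 = n102624 := (sb E103940 (iv0 D194062))
theorem F447581 : act 3 n193922 = n135910 := (sb E103940 (iv3 F413527))
theorem F447582 : act 7 n193922 = n135916 := (sb E103940 F413526)
def n208043 : Q := act 7 n133243
theorem D208043 : act 7 n133243 = n208043 := rfl
theorem F447583 : act 3 n208043 = n136816 := d8_1 D208043 (iv7 D136816) (iv3 F365137)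
theorem F447584 : act 4 n208043 = n198233 := d11_1 D208043 F407296 F221902
theorem F447585 : act 5 n208043 = n136804 := d13_1 D208043 (iv7 D136804) (iv5 F365138)
theorem F447586 : act 6 n208043 = n207294 := d14_1 D208043 (iv7 D207294) (iv6 D130722) (iv7 F97500) D133243
theorem F447587 : act 1 n198766 = n208043 := d15_1 (iv0 F409144) (iv7 D208043) (iv2 F217304)
def n208044 : Q := act 0 n133245
theorem D208044 : act 0 n133245 = n208044 := rfl
theorem F447588 : act 4 n208044 = n207783 := d18_1 D208044 (iv1 F446431) F442674 F350858 F350860 (iv0 F431316) F431311 (iv0 F363209) (iv5 F319156)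
theorem F447589 : act 3 n208044 = n206763 := d20_5 F142938 (iv1 F68257) F319152 (iv3 F214101) D208044 F442090 F331166 F176620 (iv3 D92723) D92721
theorem F447590 : act 6 n208044 = n158464 := d21_5 D132984 F213625 F208665 D133245 D208044 (iv5 D158464) (iv1 F249653) (iv5 F446846) (iv6 D207877) (iv1 F213180)
theorem F447591 : act 1 n187799 = n208044 := d15_0 (iv0 D208044) F319157 D187799
theorem F447592 : act 2 n187798 = n208044 := d3_3 F447590 (iv2 F366829) F371525
theorem F447593 : act 2 n207783 = n206941 := d1_3 F442672 F447592 F447588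
theorem F447594 : act 7 n187797 = n208044 := d15_2 (iv0 F446067) (iv0 F446068) (iv2 F447592)
theorem F447595 : act 7 n207783 = n206942 := d11_2 F447594 F447588 F442673
theorem F447596 : act 2 n206942 = n207784 := d15_3 F446425 F446431 F447595
theorem F447597 : act 7 n206941 = n207784 := d4_2 (iv7 F447595) F447593 (iv2 F447596)
theorem F447598 : act 6 n207784 = n206785 := d3_2 (iv6 F446712) F447596 (iv2 F446710)
theorem F447599 : act 3 n206866 = n207784 := d7_3 F447598 F446495 F446497
def n208045 : Q := act 1 n133245
theorem D208045 : act 1 n133245 = n208045 := rfl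
theorem F447600 : act 1 n208045 = n187799 := d15_1 D208045 (iv7 F446066) F446062
theorem F447601 : act 7 n208045 = n187798 := d15_2 (iv0 D208044) D208045 F447592
theorem F447602 : act 4 n208045 = n207784 := d17_9 (iv1 D207784) (iv5 F418327) F418328 D205795 (iv4 F442957) F442954 (iv0 F363209) (iv5 F319156) D208045
theorem F447603 : act 3 n205964 = n208045 := d20_3 F103653 D137729 F438620 (iv1 D208045) F214101 (iv4 F319152) (iv1 F68260) (iv4 F142944) (iv3 F352086) (iv1 D144343)
theorem F447604 : act 2 n208045 = n187797 := d0_1 F447603 F381032 F442099 (iv3 F442098) F438619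
theorem F447605 : act 6 n208045 = n207306 := d7_2 (iv6 F438617) F447603 (iv3 F444252)
def n208046 : Q := act 6 n133247
theorem D208046 : act 6 n133247 = n208046 := rfl
theorem F447606 : act 2 n208046 = n207376 := d3_1 D208046 (iv6 D207376) (iv2 F214111)
theorem F447607 : act 3 n208046 = n207350 := d7_1 D208046 (iv6 D207350) (iv3 F214107)
theorem F447608 : act 4 n208046 = n206781 := d10_1 D208046 (iv6 D206781) F214106
theorem F447609 : act 5 n208046 = n207209 := d21_6 (iv5 D90566) F68255 (iv5 F143123) F319944 (iv1 F214105) D208046 (iv1 D207209) F209186 (iv6 F143113) (iv1 F139389)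
theorem F447610 : act 0 n208046 = n133272 := d21_10 (iv5 F376470) F376472 F288408 F326538 F318970 F324703 D132768 (iv1 F218451) F218449 D208046
theorem F447611 : act 0 n133277 = n208046 := d21_4 F371488 F396297 F396298 (iv6 F374882) (iv6 D208046) (iv5 F218449) (iv1 F218450) (iv5 D132757) D132758 F371491
theorem E103941 : n189558 = n189360 := (c18_7 F447611 F447608 F442173 D206798 F442229 F376805 D189558 F376469 D189362 (iv5 F376474))
theorem F447612 : act 0 n189360 = n94050 := (sb E103941 (iv1 D189558))
theorem F447613 : act 2 n207209 = n189319 := d2_1 F447609 (iv5 F444576) (iv2 F447606)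
theorem F447614 : act 7 n189318 = n207209 := d15_2 F443809 F443811 F447613
theorem F447615 : act 7 n207208 = n189319 := d15_2 F443802 F443808 (iv2 F447613)
theorem F447616 : act 2 n189318 = n207208 := d4_3 F447615 (iv2 F447613) (iv7 F447614)
theorem F447617 : act 3 n194192 = n207208 := d8_3 F447615 F443810 F392327
theorem F447618 : act 6 n207208 = n187902 := d7_2 D194192 F447617 F399773
theorem F447619 : act 4 n189453 = n207208 := d19_2 D189444 (iv5 F400112) (iv3 F447617) F392325 F377250 F375702 F375700 F375704 (iv5 F379873) (iv4 F384213) F384212 (iv1 D188283) (iv5 D91148) F74984 (iv3 F291556) (iv1 F68120) D43951 F69093 D93972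
def n208047 : Q := act 0 n133258
theorem D208047 : act 0 n133258 = n208047 := rfl
theorem F447620 : act 4 n208047 = n141324 := d18_1 D208047 (iv1 F438181) (iv4 D205863) (iv5 D126702) (iv4 F162032) D195334 (iv4 F396735) F438277 (iv5 F438275)
theorem F447621 : act 5 n208047 = n195312 := d19_1 D208047 (iv4 D195312) D195311 F434693 F434690 (iv4 F424308) F424307 F330612 (iv5 F330620) (iv4 D105326) D105325 (iv1 F161517) (iv5 D92787) F68242 F65465 F68255 (iv5 F143123) F319943 (iv3 F214216)
theorem F447622 : act 3 n208047 = n205952 := d20_5 F139399 (iv1 F143125) F319943 (iv3 F214216) D208047 (iv4 F442192) F442194 (iv4 D129569) (iv3 F354209) F139278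
theorem F447623 : act 6 n208047 = n133529 := d21_5 D61126 (iv1 F216530) F208679 D133258 D208047 F319891 F317689 (iv5 D132916) F325797 (iv1 D61123)
theorem F447624 : act 2 n206758 = n208047 := d15_3 (iv0 D208047) F446734 F446732
theorem F447625 : act 1 n205961 = n208047 := d15_0 (iv0 D208047) (iv7 F374854) (iv2 F438603)
def n208048 : Q := act 4 n133266
theorem D208048 : act 4 n133266 = n208048 := rfl
theorem F447626 : act 2 n208048 = n133272 := d1_1 D208048 (iv4 D133272) (iv2 F334649)
theorem F447627 : act 3 n208048 = n194046 := d5_1 D208048 (iv4 F391859) F368041 F362656 (iv3 F362655)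
theorem F447628 : act 6 n208048 = n207311 := d10_2 (iv6 F334651) D208048 (iv4 D207311)
theorem F447629 : act 7 n208048 = n133277 := d11_2 (iv7 F334652) D208048 (iv4 D133277)
theorem F447630 : act 5 n208048 = n185909 := d17_5 F323386 F334633 F334632 (iv5 F334650) D208048 (iv0 D185909) (iv5 D88543) D88542 F324721
theorem F447631 : act 0 n207376 = n208048 := d20_1 (iv4 F444575) (iv4 D208048) F362655 (iv1 D126851) (iv3 F351668) D198165 (iv1 F436543) (iv4 D205460) D205459 F444216
theorem F447632 : act 6 n200142 = n194046 := d7_2 F447628 F444279 (iv3 F447627)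
def n208049 : Q := act 4 n133267
theorem D208049 : act 4 n133267 = n208049 := rfl
theorem F447633 : act 2 n208049 = n133277 := d1_1 D208049 (iv4 D133277) (iv2 F345853)
theorem F447634 : act 6 n208049 = n187794 := d10_2 (iv6 F345854) D208049 F374884
theorem F447635 : act 7 n208049 = n133272 := d11_2 (iv7 F345855) D208049 (iv4 D133272)
theorem F447636 : act 5 n208049 = n185910 := d17_5 (iv1 D62359) D62360 D132889 F345857 D208049 F376477 F376476 F288304 (iv4 F333826)
theorem F447637 : act 0 n208049 = n207376 := d17_0 F444576 (iv1 D189319) F288293 (iv4 F347566) F333821 (iv0 F337544) (iv5 D133268) D133267 D208049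
def n208050 : Q := act 0 n133272
theorem D208050 : act 0 n133272 = n208050 := rfl
theorem F447638 : act 5 n208050 = n207208 := d17_1 D208050 (iv1 F443808) (iv5 D185906) (iv4 F333826) D132887 F337546 F342146 F214238 D133272
theorem F447639 : act 4 n208050 = n206796 := d20_2 D133272 D208050 (iv3 F442220) (iv1 D129376) (iv3 D60796) F80084 (iv1 D14042) (iv4 F23425) (iv3 F47421) D62541
theorem F447640 : act 6 n208050 = n207310 := d21_5 (iv5 F392312) F392313 F373812 (iv6 F365182) D208050 F444272 (iv1 F370743) (iv5 F288353) F288354 (iv1 F288371)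
theorem F447641 : act 1 n133277 = n208050 := d15_0 (iv0 D208050) (iv7 F447635) F447633
theorem F447642 : act 7 n208050 = n207376 := d15_2 (iv0 F447611) F447641 (iv2 F447606)
def n208051 : Q := act 3 n133272
theorem D208051 : act 3 n133272 = n208051 := rfl
theorem F447643 : act 4 n208051 = n206738 := d5_2 D133272 D208051 F442008 F334302 F324227
theorem F447644 : act 6 n208051 = n148770 := d7_2 (iv6 F365182) D208051 (iv3 F365181)
theorem F447645 : act 0 n208051 = n207211 := d19_4 (iv1 F299413) F324228 D133272 D208051 (iv5 D207211) F390840 (iv3 D158068) (iv1 D75292) (iv5 D34471) (iv4 D16724) (iv3 F27416) F54637 (iv5 D34434) (iv4 F28084) F28083 D17143 (iv5 F296309) D35882 D78822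
theorem F447646 : act 1 n208051 = n201030 := d15_1 (iv0 F447645) (iv7 F444633) F444630
def n208052 : Q := act 3 n133277
theorem D208052 : act 3 n133277 = n208052 := rfl
theorem F447647 : act 4 n208052 = n137577 := d5_2 D133277 D208052 (iv3 D137577) (iv4 F344346) (iv3 D133276)
theorem F447648 : act 5 n208052 = n197043 := d6_2 (iv5 F376474) D208052 (iv3 F402804)
theorem F447649 : act 6 n208052 = n195214 := d7_2 (iv6 F374882) D208052 F396300
theorem F447650 : act 7 n208052 = n194046 := d8_2 F447629 D208052 (iv3 F447627)
theorem F447651 : act 0 n208052 = n194049 := d20_4 F447455 (iv1 F214237) D133277 D208052 F391869 F332832 D131855 (iv4 F398484) (iv3 F398489) (iv1 F447459)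
theorem F447652 : act 0 n194014 = n208052 := d20_4 (iv4 F164105) (iv1 F203326) (iv4 F217948) (iv3 F391771) (iv3 D208052) (iv4 D133277) (iv1 D62542) (iv4 F97479) F97478 D62512
theorem F447653 : act 2 n208052 = n194045 := d15_3 (iv0 D194045) D194046 (iv7 F447650)
def n208053 : Q := act 4 n133288
theorem D208053 : act 4 n133288 = n208053 := rfl
theorem F447654 : act 7 n208053 = n207322 := d11_2 (iv7 F214251) D208053 (iv4 D207322)
theorem F447655 : act 1 n208053 = n134296 := d18_6 (iv1 F173155) F173152 F164107 D62554 D133288 D208053 (iv4 D134296) D134295 F216316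
def n208054 : Q := act 6 n133288
theorem D208054 : act 6 n133288 = n208054 := rfl
theorem F447656 : act 3 n208054 = n136592 := d7_1 D208054 (iv6 F442273) F442269
theorem F447657 : act 7 n208054 = n139549 := d14_2 (iv7 F214251) D208054 (iv6 D139549) (iv7 F329836) F350362
theorem F447658 : act 0 n192731 = n208054 := d21_4 (iv5 F407448) F407450 F360066 (iv6 F387613) (iv6 D208054) (iv5 D133288) (iv1 F171522) F329463 (iv6 F343163) (iv1 F223798)
theorem F447659 : act 5 n177953 = n208054 := d21_8 F433105 (iv1 F216064) (iv5 F357707) (iv6 F357712) (iv1 F192004) D124070 F305165 D177953 (iv6 D208054) F433107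
def n208055 : Q := act 5 n133289
theorem D208055 : act 5 n133289 = n208055 := rfl
theorem F447660 : act 3 n208055 = n138079 := d6_1 D208055 (iv5 F434482) F434480
theorem F447661 : act 6 n208055 = n177953 := d12_2 D133289 D208055 F447659 (iv6 D208054) (iv5 D133288)
theorem F447662 : act 7 n208055 = n194081 := d13_2 (iv7 F214254) D208055 F392009
theorem F447663 : act 0 n208055 = n134445 := d17_2 F383566 D208055 (iv5 D134445) F167789 D197629 (iv0 F405100) (iv5 F211906) (iv0 F211908) (iv4 F383564)
theorem F447664 : act 1 n208055 = n134448 := d17_6 (iv1 F48102) D63158 (iv1 F164124) (iv5 F97534) (iv4 F214253) D208055 (iv5 D134448) F98644 F98642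
def n208056 : Q := act 6 n133290
theorem D208056 : act 6 n133290 = n208056 := rfl
theorem F447665 : act 2 n208056 = n203667 := d3_1 D208056 (iv6 D203667) (iv2 F214255)
theorem F447666 : act 3 n208056 = n180682 := d7_1 D208056 (iv6 F444653) F444652
theorem F447667 : act 4 n208056 = n133291 := d10_1 D208056 (iv6 D133291) D133290
theorem F447668 : act 7 n208056 = n208030 := d14_2 (iv7 F214256) D208056 F447524 F429345 (iv6 D203671)
def n208057 : Q := act 6 n133308
theorem D208057 : act 6 n133308 = n208057 := rfl
theorem F447669 : act 3 n208057 = n133311 := d7_1 D208057 (iv6 D133311) D133308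
theorem F447670 : act 4 n208057 = n167354 := d10_1 D208057 (iv6 F408197) F408195
theorem F447671 : act 5 n208057 = n181198 := d12_1 D208057 (iv6 F420846) F420841 F355316 F355318
theorem F447672 : act 7 n208057 = n159114 := d14_2 (iv7 F313103) D208057 F300259 (iv7 F299183) D81762
theorem F447673 : act 0 n208057 = n170091 := d21_4 D83684 D175222 F355318 D208057 (iv6 D170091) F317114 (iv1 D81579) (iv5 F312411) F319115 (iv1 D83683)
def n208058 : Q := act 3 n133334
theorem D208058 : act 3 n133334 = n208058 := rfl
theorem F447674 : act 2 n208058 = n173280 := d0_1 D208058 (iv3 F306086) (iv2 F341144) F221754 F214344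
theorem F447675 : act 4 n208058 = n195452 := d5_2 (iv4 F214343) D208058 F397028 F227203 (iv3 F112243)
theorem F447676 : act 5 n208058 = n155088 := d6_2 F383355 D208058 (iv3 F383353)
theorem F447677 : act 6 n208058 = n205867 := d7_2 (iv6 F214345) D208058 F438192
theorem F447678 : act 7 n208058 = n136704 := d8_2 (iv7 F214346) D208058 F219848
theorem F447679 : act 0 n208058 = n174514 := d19_4 (iv1 F93626) (iv5 F112244) (iv4 F214343) D208058 (iv5 F383271) F383268 F327820 (iv1 F300498) (iv5 F264158) F300831 (iv3 F356748) F369188 (iv5 D187126) (iv4 F369141) F369140 (iv1 F145644) F344371 F179264 (iv3 D60912)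
theorem F447680 : act 0 n205035 = n208058 := d21_4 (iv5 F113958) D159123 (iv5 F350997) D205035 F447677 F438193 F335780 (iv5 F355108) (iv6 D179229) (iv1 D85532)
def n208059 : Q := act 0 n133335
theorem D208059 : act 0 n133335 = n208059 := rfl
theorem F447681 : act 5 n208059 = n137315 := d17_1 D208059 (iv1 F332369) (iv5 F332363) (iv4 F306325) D193169 (iv0 F389023) (iv5 F303727) (iv0 F364881) (iv4 F332328)
theorem F447682 : act 3 n208059 = n172155 := d20_5 F439558 (iv1 F240753) F240749 (iv3 F332327) D208059 F345595 (iv1 F438032) (iv4 F439564) (iv3 D206172) D206171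
theorem F447683 : act 6 n208059 = n172152 := d21_5 F303104 (iv1 F334447) F332324 F332326 D208059 (iv5 F406492) F406493 (iv5 F348593) F429933 (iv1 D203813)
theorem F447684 : act 2 n205974 = n208059 := d15_3 (iv0 D208059) (iv0 F429240) (iv7 F438668)
theorem F447685 : act 1 n202755 = n208059 := d15_0 (iv0 D208059) F332329 (iv2 F425435)
theorem F447686 : act 4 n192304 = n208059 := d10_3 F447683 F354006 D192304
theorem F447687 : act 1 n191557 = n192304 := d17_8 (iv1 F447685) (iv5 D202755) (iv1 D116844) D116845 (iv4 F332397) D191524 (iv0 F383663) D191557 F447686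
def n208060 : Q := act 4 n133339
theorem D208060 : act 4 n133339 = n208060 := rfl
theorem F447688 : act 2 n208060 = n207146 := d1_1 D208060 (iv4 D207146) F390591
theorem F447689 : act 3 n208060 = n156241 := d5_1 D208060 F332265 F332267 (iv4 F390699) F390698
theorem F447690 : act 7 n208060 = n207145 := d11_2 (iv7 F390596) D208060 (iv4 D207145)
theorem F447691 : act 1 n208060 = n138305 := d18_8 F396189 (iv4 F349787) (iv1 F178112) (iv4 F419859) F419860 F221476 F214372 D208060 F396191
def n208061 : Q := act 4 n133340
theorem D208061 : act 4 n133340 = n208061 := rfl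
theorem F447692 : act 2 n208061 = n207145 := d1_1 D208061 (iv4 D207145) (iv2 F390595)
theorem F447693 : act 7 n208061 = n207146 := d11_2 F390594 D208061 (iv4 D207146)
theorem F447694 : act 0 n208061 = n138305 := d17_0 F396191 F396189 (iv5 F416281) F416280 (iv5 F416294) F416296 F210022 D133340 D208061
theorem F447695 : act 5 n208061 = n195850 := d18_4 (iv1 F245962) F221476 (iv1 F214376) D208061 F398452 D195852 (iv4 F411536) (iv0 F411538) (iv5 F411539)
theorem F447696 : act 5 n200404 = n196024 := d16_1 D200404 (iv4 D196024) F163789 (iv4 F398452) (iv5 F447695) (iv4 D208061) F396280 F396278 F396276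
theorem F447697 : act 3 n138288 = n208061 := d20_5 (iv4 D29798) D29796 (iv4 F48912) D64959 D138288 (iv4 D208061) (iv1 D133340) (iv4 F111654) (iv3 D74404) F53579
theorem F447698 : act 7 n156458 = n138288 := d8_0 F447697 F447693 (iv3 F443518)
theorem F447699 : act 2 n138288 = n156459 := d15_3 F245978 F245973 F447698
theorem F447700 : act 2 n156458 = n138289 := d15_3 F245979 F245977 (iv7 F447698)
theorem F447701 : act 7 n138289 = n156459 := d4_2 (iv7 F447698) F447700 (iv2 F447699)
def n208062 : Q := act 3 n133349
theorem D208062 : act 3 n133349 = n208062 := rfl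
theorem F447702 : act 5 n208062 = n187287 := d6_2 F414011 D208062 (iv3 F414012)
theorem F447703 : act 6 n208062 = n194472 := d7_2 F226658 D208062 (iv3 F406829)
theorem F447704 : act 7 n208062 = n190631 := d8_2 (iv7 F214395) D208062 F380383
theorem F447705 : act 0 n208062 = n194590 := d19_4 F206876 F206873 (iv4 F214396) D208062 F393772 (iv4 D190322) (iv3 F379379) F379382 (iv5 F174377) (iv4 D67038) F49539 D31224 (iv5 F103079) (iv4 F100285) (iv3 F218678) (iv1 F218682) (iv5 F350340) F326054 F207324
theorem F447706 : act 0 n200310 = n208062 := d20_4 F179941 (iv1 F179939) (iv4 F349837) (iv3 F415940) (iv3 D208062) F214396 (iv1 F163859) (iv4 F211366) F408075 (iv1 D198453)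
theorem F447707 : act 2 n194601 = n208062 := d15_3 (iv0 F447706) (iv0 F415942) F393790
def n208063 : Q := act 3 n133352
theorem D208063 : act 3 n133352 = n208063 := rfl
theorem F447708 : act 5 n208063 = n200251 := d6_2 F351307 D208063 (iv3 D200251)
theorem F447709 : act 6 n208063 = n192844 := d7_2 (iv6 F397742) D208063 (iv3 F389438)
theorem F447710 : act 7 n208063 = n207156 := d8_2 F415167 D208063 (iv3 D207156)
theorem F447711 : act 4 n208063 = n138274 := d20_6 (iv4 D16584) D16583 (iv4 F47513) D62590 D133352 D208063 (iv1 D138274) F100735 (iv3 D61243) F46620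
theorem F447712 : act 0 n157259 = n208063 := d20_4 F53914 D34262 D74774 D157259 (iv3 D208063) (iv4 F397743) F397744 (iv4 F247441) (iv3 D157227) (iv1 D74764)
theorem F447713 : act 1 n133360 = n208063 := d15_0 (iv0 F447712) F366284 F366283
theorem F447714 : act 2 n207172 = n208063 := d1_3 F447711 (iv2 F411595) (iv4 F443638)
def n208064 : Q := act 3 n133353
theorem D208064 : act 3 n133353 = n208064 := rfl
theorem F447715 : act 5 n208064 = n200253 := d6_2 (iv5 F364954) D208064 (iv3 D200253)
theorem F447716 : act 7 n208064 = n207158 := d8_2 (iv7 F415168) D208064 (iv3 D207158)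
theorem F447717 : act 0 n200265 = n208064 := d17_0 F447715 F415714 (iv5 D194633) F357666 D196460 (iv0 F400751) F164972 D125476 (iv4 F415748)
theorem F447718 : act 1 n205099 = n208064 := d17_6 (iv1 D106643) (iv5 D49274) D49271 D106632 F370082 (iv5 F434972) F447715 F415715 F393893
def n208065 : Q := act 4 n133353
theorem D208065 : act 4 n133353 = n208065 := rfl
theorem F447719 : act 2 n208065 = n207157 := d1_1 D208065 (iv4 D207157) F415169
theorem F447720 : act 7 n208065 = n207159 := d11_2 (iv7 F415168) D208065 (iv4 D207159)
theorem F447721 : act 5 n208065 = n193061 := d16_1 D208065 F388623 (iv5 F443818) F443816 (iv5 D206413) (iv4 F340029) F351307 (iv7 F415167) F415169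
theorem F447722 : act 1 n208065 = n156363 := d18_6 (iv1 D144208) F103444 D128580 (iv4 F365012) (iv5 F364954) D208065 (iv4 F247441) F404163 (iv5 F379763)
theorem F447723 : act 3 n208065 = n139613 := d19_3 (iv1 F176110) (iv5 F364954) D208065 (iv1 F222766) (iv5 F387337) F387338 F366710 (iv1 F280332) (iv5 D150113) F155410 (iv3 D55525) (iv1 D26802) D26803 D55531 D120583 (iv1 F408320) (iv5 F415813) F415812 (iv3 F176105)
theorem F447724 : act 0 n208065 = n196984 := d20_1 D208065 F402554 (iv3 D193662) F343228 (iv3 F157088) (iv4 F390703) (iv1 F390705) F245175 F211373 (iv1 F214410)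
def n208066 : Q := act 6 n133353
theorem D208066 : act 6 n133353 = n208066 := rfl
theorem F447725 : act 2 n208066 = n202781 := d3_1 D208066 F425560 F415169
theorem F447726 : act 0 n202780 = n208066 := d21_4 (iv5 F331511) (iv1 F419746) F419742 D202780 (iv6 D208066) F364954 (iv1 D112891) (iv5 D52104) (iv6 F46314) D60459
theorem F447727 : act 7 n202782 = n208066 := d15_2 (iv0 D202781) D202782 F447725
theorem F447728 : act 6 n193314 = n202782 := d14_5 F447727 (iv6 D208066) F415168 F415164 F397745
theorem F447729 : act 4 n202782 = n193316 := d10_1 F447728 (iv6 D193316) D193314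
def n208067 : Q := act 7 n133358
theorem D208067 : act 7 n133358 = n208067 := rfl
theorem F447730 : act 2 n208067 = n207174 := d4_1 D208067 (iv7 D207174) (iv2 F366411)
theorem F447731 : act 3 n208067 = n199915 := d8_1 D208067 F414130 F366412
theorem F447732 : act 4 n208067 = n161987 := d11_1 D208067 (iv7 F325017) (iv4 F366413)
theorem F447733 : act 5 n208067 = n194815 := d13_1 D208067 (iv7 F394664) F394666
theorem F447734 : act 6 n208067 = n207171 := d14_1 D208067 (iv7 D207171) (iv6 D130564) F320426 D133358
theorem F447735 : act 1 n184426 = n208067 := d15_1 (iv0 F355459) (iv7 D208067) F366411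
theorem F447736 : act 1 n208067 = n137073 := d15_1 F447735 (iv7 F370067) F370063
def n208068 : Q := act 0 n133360
theorem D208068 : act 0 n133360 = n208068 := rfl
theorem F447737 : act 4 n208068 = n138273 := d20_0 (iv1 F245966) F245964 F214373 (iv1 F214390) (iv3 F379500) F379497 (iv1 F200785) F323801 D133360 D208068
theorem F447738 : act 2 n207156 = n208068 := d15_3 (iv0 D208068) F447713 F447710
theorem F447739 : act 1 n157259 = n208068 := d15_0 (iv0 D208068) (iv7 F366277) (iv2 F247491)
theorem F447740 : act 7 n208068 = n207172 := d15_2 (iv0 F447712) F447739 F447714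
def n208069 : Q := act 4 n133360
theorem D208069 : act 4 n133360 = n208069 := rfl
theorem F447741 : act 2 n208069 = n156473 := d1_1 D208069 F366642 F366283
theorem F447742 : act 3 n208069 = n204915 := d5_1 D208069 F434149 F200694 F323801 D133360
theorem F447743 : act 7 n208069 = n201289 := d11_2 F366277 D208069 F419877
theorem F447744 : act 5 n208069 = n201290 := d18_4 (iv1 F245968) (iv4 F447711) (iv1 F447713) D208069 F419879 F376572 (iv4 F347687) (iv0 F347686) F356544
theorem F447745 : act 0 n208069 = n208061 := d20_1 D208069 (iv4 D208061) (iv3 F385808) (iv1 F385810) D193662 (iv4 F402554) (iv1 F402556) F397743 D208063 (iv1 F447713)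
theorem F447746 : act 0 n208060 = n208069 := d20_1 D208060 (iv4 D208069) (iv3 D133360) (iv1 D62592) (iv3 D29596) (iv4 D14057) D14055 D29591 D62582 D133339
def n208070 : Q := act 5 n133360
theorem D208070 : act 5 n133360 = n208070 := rfl
theorem F447747 : act 3 n208070 = n133362 := d6_1 D208070 (iv5 D133362) D133360
theorem F447748 : act 7 n208070 = n207173 := d13_2 F366277 D208070 (iv5 D207173)
theorem F447749 : act 0 n208070 = n199303 := d17_2 (iv1 F447713) D208070 (iv5 D199303) (iv4 D111170) D111171 F352981 (iv5 D138276) D138274 (iv4 F447711)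
theorem F447750 : act 1 n208070 = n199306 := d17_6 F416283 F416281 (iv1 F419882) (iv5 F447744) (iv4 D208069) D208070 (iv5 D199306) (iv0 F222060) (iv4 F246468)
theorem F447751 : act 6 n208070 = n189466 := d21_5 F356257 (iv1 F138234) D187377 (iv6 F411579) (iv1 F447750) (iv5 F430977) F436502 (iv5 F358420) (iv6 D97475) D97472
theorem F447752 : act 4 n189468 = n208070 := d10_3 F447751 (iv4 D189466) D189468
theorem F447753 : act 0 n189451 = n189468 := d18_2 (iv1 F416296) F416293 F447752 (iv5 D208070) D208069 (iv0 F447746) (iv4 D208060) (iv0 D133339) (iv5 F210022)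
def n208071 : Q := act 6 n133360
theorem D208071 : act 6 n133360 = n208071 := rfl
theorem F447754 : act 3 n208071 = n133363 := d7_1 D208071 (iv6 D133363) D133360
theorem F447755 : act 5 n208071 = n199693 := d12_1 D208071 F430979 F430977 (iv6 F447751) (iv5 D208070)
def n208072 : Q := act 4 n133362
theorem D208072 : act 4 n133362 = n208072 := rfl
theorem F447756 : act 2 n208072 = n190440 := d1_1 D208072 (iv4 F379773) (iv2 F366279)
theorem F447757 : act 5 n208072 = n201890 := d9_2 D133362 D208072 F422243 F313174 F324698 F192196 F319064 D133357 (iv4 F420410) (iv5 D201412) F178507 F115240 (iv4 F227726) F323954 F323801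
theorem F447758 : act 7 n208072 = n190441 := d11_2 F366278 D208072 F379775
theorem F447759 : act 0 n208072 = n190442 := d17_0 F379780 F355438 (iv5 F392349) (iv4 F392351) (iv5 F355248) (iv0 D112974) (iv5 F170570) (iv0 F363717) D208072
theorem F447760 : act 1 n208072 = n190005 := d18_6 F399757 F379497 (iv1 F200785) F323801 D133362 D208072 F378543 F372129 D196182
def n208073 : Q := act 6 n133362
theorem D208073 : act 6 n133362 = n208073 := rfl
theorem F447761 : act 2 n208073 = n191718 := d3_1 D208073 (iv6 F384250) (iv2 F366279)
theorem F447762 : act 3 n208073 = n189466 := d7_1 D208073 (iv6 F447751) F447747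
theorem F447763 : act 5 n208073 = n158041 := d12_1 D208073 F414605 F414600 (iv6 D133363) D133362
theorem F447764 : act 7 n208073 = n191717 := d14_2 F366278 D208073 F398292 (iv7 F399714) (iv6 F399717)
theorem F447765 : act 0 n208073 = n191719 := d21_10 F384252 (iv1 F363844) F363845 F363846 (iv1 F380295) F380293 (iv5 D130570) (iv1 F97606) D133362 D208073
theorem F447766 : act 1 n208073 = n158066 := d15_1 (iv0 F447765) (iv7 F292605) D191719
def n208074 : Q := act 7 n133363
theorem D208074 : act 7 n133363 = n208074 := rfl
theorem F447767 : act 2 n208074 = n207171 := d4_1 D208074 (iv7 D207171) F366162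
theorem F447768 : act 5 n208074 = n198637 := d13_1 D208074 (iv7 F414604) F414600
theorem F447769 : act 6 n208074 = n207174 := d14_1 D208074 (iv7 D207174) (iv6 D130569) (iv7 F322127) D133363
theorem F447770 : act 1 n207150 = n208074 := d15_1 (iv0 F443529) (iv7 D208074) (iv2 F366162)
theorem F447771 : act 1 n208074 = n198640 := d15_1 F447770 F408664 (iv2 F443524)
def n208075 : Q := act 6 n133366
theorem D208075 : act 6 n133366 = n208075 := rfl
theorem F447772 : act 2 n208075 = n207177 := d3_1 D208075 (iv6 D207177) (iv2 F355411)
theorem F447773 : act 3 n208075 = n179102 := d7_1 D208075 (iv6 D179102) (iv3 F339717)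
theorem F447774 : act 5 n208075 = n207611 := d12_1 D208075 F445671 (iv5 D142405) (iv6 F321153) (iv5 F339718)
theorem F447775 : act 0 n208075 = n196167 := d21_4 (iv5 D103322) (iv1 F331330) (iv5 F339718) D208075 (iv6 D196167) D196166 F399677 F399716 (iv6 F399717) (iv1 F355458)
theorem F447776 : act 1 n208075 = n200260 := d15_1 (iv0 F447775) (iv7 F416068) F416065
def n208076 : Q := act 3 n133367
theorem D208076 : act 3 n133367 = n208076 := rfl
theorem F447777 : act 5 n208076 = n194399 := d6_2 F354256 D208076 (iv3 D194399)
theorem F447778 : act 6 n208076 = n194067 := d7_2 F378583 D208076 F391947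
theorem F447779 : act 7 n208076 = n207176 := d8_2 (iv7 F355412) D208076 (iv3 D207176)
theorem F447780 : act 0 n200251 = n208076 := d21_1 F447708 F447777 F393051 F389957 F385656 (iv5 D121055) F300440 D158840 F348120 F447712
def n208077 : Q := act 4 n133367
theorem D208077 : act 4 n133367 = n208077 := rfl
theorem F447781 : act 2 n208077 = n194197 := d1_1 D208077 (iv4 F392351) F355407
theorem F447782 : act 5 n208077 = n167882 := d9_2 F354256 D208077 F264516 (iv5 F302678) F350198 F113820 (iv4 F130680) (iv5 F339718) F377434 F377436 F225111 D142087 (iv4 F429841) F429842 (iv4 F354246)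
theorem F447783 : act 6 n208077 = n190388 := d10_2 F378583 D208077 F379640
theorem F447784 : act 7 n208077 = n189414 := d11_2 (iv7 F355412) D208077 F376556
theorem F447785 : act 0 n208077 = n189231 := d17_0 (iv5 F420405) (iv1 D201411) D201412 F420410 (iv5 D133357) (iv0 D62591) D62594 D133367 D208077
theorem F447786 : act 1 n208077 = n190347 := d18_6 (iv1 F372116) F360550 (iv1 F200890) (iv4 F354246) F354256 D208077 F379486 D190349 (iv5 F379498)
theorem F447787 : act 3 n208077 = n189254 := d19_3 (iv1 F331331) F354256 D208077 (iv1 D189254) (iv5 F369505) F411552 F411548 (iv1 F367289) (iv5 F155573) (iv4 F385070) D197630 (iv1 F405105) (iv5 F407609) (iv4 F432363) F432362 (iv1 F373155) F373153 F218562 (iv3 F175930)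
def n208078 : Q := act 0 n133368
theorem D208078 : act 0 n133368 = n208078 := rfl
theorem F447788 : act 5 n208078 = n142099 := d17_1 D208078 F398311 F398310 (iv4 F380011) F380012 F319048 (iv5 F339718) (iv0 D133366) D133368
theorem F447789 : act 4 n208078 = n194335 := d18_1 D208078 F392863 (iv4 F429280) (iv5 D203659) F315728 (iv0 F315737) D69059 D147300 (iv5 F335864)
theorem F447790 : act 2 n207178 = n208078 := d15_3 (iv0 D208078) (iv0 F419566) (iv7 F443663)
theorem F447791 : act 1 n207175 = n208078 := d15_0 (iv0 D208078) F214423 (iv2 F443649)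
theorem F447792 : act 7 n208078 = n201262 := d15_2 (iv0 F443652) F447791 F419735
theorem F447793 : act 3 n201266 = n208078 := d8_3 F447792 F419736 D201266
theorem F447794 : act 6 n196168 = n208078 := d14_5 F447792 (iv6 D201262) F331569 (iv6 F443718) F443719
def n208079 : Q := act 5 n133369
theorem D208079 : act 5 n133369 = n208079 := rfl
theorem F447795 : act 3 n208079 = n133376 := d6_1 D208079 (iv5 D133376) (iv3 F214424)
theorem F447796 : act 6 n208079 = n133372 := d12_2 D133369 D208079 (iv5 D133372) (iv6 D62595) D62594
theorem F447797 : act 0 n208079 = n191320 := d17_2 (iv1 F373607) D208079 (iv5 D191320) (iv4 D98041) (iv5 D45757) D45755 (iv5 F295139) (iv0 D93792) D93794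
def n208080 : Q := act 6 n133370
theorem D208080 : act 6 n133370 = n208080 := rfl
theorem F447798 : act 3 n208080 = n202866 := d7_1 D208080 F425931 (iv3 F340950)
theorem F447799 : act 4 n208080 = n203161 := d10_1 D208080 F427237 F354111
theorem F447800 : act 7 n208080 = n202863 := d14_2 F340951 D208080 (iv6 D202863) F183078 D144547
theorem F447801 : act 0 n202804 = n208080 := d18_2 (iv1 F415297) (iv4 F425654) F447799 F427236 F205817 (iv0 F432330) (iv4 D204383) F198196 (iv5 F206346)
def n208081 : Q := act 3 n133371
theorem D208081 : act 3 n133371 = n208081 := rfl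
theorem F447802 : act 2 n208081 = n202858 := d0_1 D208081 F425901 (iv2 F183058) (iv3 F227408) F379193
theorem F447803 : act 6 n208081 = n202856 := d7_2 F379194 D208081 F425893
def n208082 : Q := act 3 n133374
theorem D208082 : act 3 n133374 = n208082 := rfl
theorem F447804 : act 4 n208082 = n186320 := d5_2 (iv4 F340442) D208082 F289097 (iv4 F137449) F291543
theorem F447805 : act 5 n208082 = n190832 := d6_2 F378634 D208082 F381272
theorem F447806 : act 6 n208082 = n186319 := d7_2 F340441 D208082 F289092
theorem F447807 : act 7 n208082 = n207231 := d8_2 F365040 D208082 (iv3 D207231)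
theorem F447808 : act 0 n200254 = n208082 := d20_4 (iv4 F288011) (iv1 F288013) (iv4 F380448) F416195 (iv3 D208082) F340442 (iv1 F176095) (iv4 F382235) F382234 F361259
theorem F447809 : act 2 n208082 = n191225 := d15_3 (iv0 F416189) (iv0 F443907) (iv7 F447807)
def n208083 : Q := act 3 n133375
theorem D208083 : act 3 n133375 = n208083 := rfl
theorem F447810 : act 4 n208083 = n190816 := d5_2 F365043 D208083 (iv3 F381229) (iv4 F415794) (iv3 F415795)
theorem F447811 : act 7 n208083 = n207229 := d8_2 (iv7 F365041) D208083 (iv3 D207229)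
theorem F447812 : act 0 n208083 = n190963 := d20_10 (iv4 D190963) F284560 D97368 F365808 (iv1 F361260) (iv3 F382234) F382235 (iv1 F176094) F365043 D208083
theorem F447813 : act 1 n208083 = n191141 := d15_1 (iv0 F447812) F382391 (iv2 F381727)
def n208084 : Q := act 5 n133375
theorem D208084 : act 5 n133375 = n208084 := rfl
theorem F447814 : act 2 n208084 = n207232 := d2_1 D208084 (iv5 D207232) F365042
theorem F447815 : act 7 n208084 = n207230 := d13_2 (iv7 F365041) D208084 (iv5 D207230)
def n208085 : Q := act 6 n133375
theorem D208085 : act 6 n133375 = n208085 := rfl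
theorem F447816 : act 2 n208085 = n206597 := d3_1 D208085 F441495 F365042
theorem F447817 : act 4 n208085 = n200289 := d10_1 D208085 (iv6 D200289) F365043
theorem F447818 : act 5 n206587 = n208085 := d18_4 F413955 F413953 F395671 D206587 F447817 F415844 (iv4 F416465) (iv0 F416467) (iv5 F393451)
theorem F447819 : act 1 n196157 = n208085 := d18_6 (iv1 D159484) (iv4 F179170) F421774 (iv4 D201777) D201778 (iv4 F421779) F447817 F415844 F377583
theorem F447820 : act 0 n200259 = n208085 := d19_0 (iv5 F447818) (iv4 D206587) (iv3 F440770) F440773 (iv5 F336396) F347326 D189904 F391877 F391875 F333151 (iv3 F225909) F346241 (iv5 F382266) F382265 (iv3 F291389) F291388 (iv5 F176078) (iv4 F416140) F416139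
def n208086 : Q := act 0 n133376
theorem D208086 : act 0 n133376 = n208086 := rfl
theorem F447821 : act 5 n208086 = n144050 := d17_3 (iv1 D133375) D133376 D208086 F397830 (iv5 D195679) (iv0 F163179) (iv5 F82413) D112940 F365043
theorem F447822 : act 3 n144057 = n208086 := d6_3 F447821 F226766 D144057
theorem F447823 : act 6 n144053 = n208086 := d12_0 F447821 (iv6 D144050) (iv5 D67491) D67492 D144053
def n208087 : Q := act 1 n133376
theorem D208087 : act 1 n133376 = n208087 := rfl
theorem F447824 : act 1 n208087 = n207236 := d15_1 D208087 (iv7 D207236) (iv2 F214429)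
def n208088 : Q := act 7 n133376
theorem D208088 : act 7 n133376 = n208088 := rfl
theorem F447825 : act 2 n208088 = n207236 := d4_1 D208088 (iv7 D207236) (iv2 F214429)
theorem F447826 : act 5 n208088 = n133377 := d13_1 D208088 (iv7 D133377) D133376
theorem F447827 : act 1 n207236 = n208086 := d15_0 (iv0 D208086) D208088 F447825
theorem F447828 : act 1 n207234 = n208088 := d15_1 D207234 (iv7 D208088) F214429
theorem F447829 : act 1 n208088 = n207233 := d15_0 (iv0 D207233) D207236 (iv2 F447825)
def n208089 : Q := act 0 n133378
theorem D208089 : act 0 n133378 = n208089 := rfl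
theorem F447830 : act 1 n202780 = n208089 := d15_0 (iv0 D208089) F214437 (iv2 F425557)
theorem F447831 : act 7 n208089 = n202781 := d15_2 (iv0 F447726) F447830 (iv2 F447725)
theorem F447832 : act 2 n202782 = n208089 := d4_3 F447831 (iv2 F447725) (iv7 F447727)
theorem F447833 : act 6 n195654 = n208089 := d14_5 F447831 F425560 F415167 F397742 F397740
theorem F447834 : act 1 n133378 = n208066 := d15_1 (iv0 D208089) (iv7 F447727) F447832
def n208090 : Q := act 2 n133378
theorem D208090 : act 2 n133378 = n208090 := rfl
theorem F447835 : act 7 n208090 = n202780 := d4_2 (iv7 F214437) D208090 F425557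
theorem F447836 : act 1 n208090 = n202781 := d15_0 (iv0 D202781) (iv7 F214437) D208090
theorem F447837 : act 1 n202782 = n208090 := d15_0 F447836 (iv7 F447831) (iv2 F447832)
def n208091 : Q := act 5 n133378
theorem D208091 : act 5 n133378 = n208091 := rfl
theorem F447838 : act 3 n208091 = n133379 := d6_1 D208091 (iv5 D133379) D133378
theorem F447839 : act 7 n208091 = n202783 := d13_2 (iv7 F214437) D208091 (iv5 D202783)
def n208092 : Q := act 4 n133379
theorem D208092 : act 4 n133379 = n208092 := rfl
theorem F447840 : act 2 n208092 = n190835 := d1_1 D208092 (iv4 F381277) F226818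
theorem F447841 : act 5 n208092 = n189834 := d9_2 D133379 D208092 F377925 (iv5 D128605) F95069 F46341 (iv4 F49637) D67516 D144101 (iv5 F441352) F441351 F207115 F95219 F53921 F103407
theorem F447842 : act 6 n208092 = n189835 := d10_2 (iv6 F381956) D208092 (iv4 F381955)
theorem F447843 : act 7 n208092 = n202788 := d11_2 (iv7 F214438) D208092 (iv4 D202788)
def n208093 : Q := act 3 n133380
theorem D208093 : act 3 n133380 = n208093 := rfl
def n208094 : Q := act 4 n133380
theorem D208094 : act 4 n133380 = n208094 := rfl
theorem F447844 : act 5 n208094 = n174668 := d16_1 D208094 (iv4 F441321) F441320 (iv4 D129187) (iv5 F172058) (iv4 F401176) F401177 F416080 (iv2 F416079)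
theorem F447845 : act 0 n208094 = n174705 := d17_0 (iv5 F366956) F441353 F441352 (iv4 D144101) (iv5 D67516) D67515 D144098 F226815 D208094
theorem F447846 : act 1 n208094 = n157245 := d18_6 F410893 (iv4 D128869) (iv1 F172162) (iv4 F410944) F410946 D208094 (iv4 D157245) D157244 (iv5 F410894)
theorem F447847 : act 3 n144064 = n208094 := d20_5 (iv4 D42012) D42010 D89908 D187336 (iv1 F404496) (iv4 D208094) (iv1 F226815) (iv4 F369905) (iv3 D187346) (iv1 D89914)
theorem F447848 : act 4 n208093 = n144053 := d5_4 D144064 F447847 (iv4 D208094) D208093 F226767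
def n208095 : Q := act 6 n133380
theorem D208095 : act 6 n133380 = n208095 := rfl
theorem F447849 : act 5 n208095 = n163236 := d12_1 D208095 (iv6 F408091) F408088 D199160 F410946
theorem F447850 : act 7 n208095 = n190040 := d14_2 F416082 D208095 (iv6 D190040) (iv7 F251854) F416084
theorem F447851 : act 1 n160911 = n208095 := d17_6 (iv1 F373483) (iv5 F373480) (iv1 D187418) F138384 (iv4 F122779) (iv5 F254107) F447849 F430159 F430156
def n208096 : Q := act 3 n133381
theorem D208096 : act 3 n133381 = n208096 := rfl
theorem F447852 : act 6 n208096 = n190041 := d7_2 (iv6 F378635) D208096 F378632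
def n208097 : Q := act 4 n133381
theorem D208097 : act 4 n133381 = n208097 := rfl
theorem F447853 : act 5 n208097 = n174667 := d9_2 F401177 D208097 (iv4 F441326) F441325 (iv4 D129185) (iv5 F172159) (iv4 F410944) F410946 D208094 F447844 (iv4 F441321) F441320 (iv4 D129187) (iv5 F172058) (iv4 F401176)
theorem F447854 : act 6 n208097 = n164425 := d10_2 (iv6 F378635) D208097 F259073
theorem F447855 : act 0 n208097 = n157245 := d18_2 (iv1 F226814) D208097 (iv4 D157245) (iv5 D74770) F53917 (iv0 F27061) (iv4 F49637) D67515 D144098
theorem F447856 : act 1 n208097 = n174705 := d18_6 (iv1 F410929) (iv4 D128865) F172060 (iv4 F401176) F401177 D208097 F366957 F247464 (iv5 F410926)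
def n208098 : Q := act 0 n133382
theorem D208098 : act 0 n133382 = n208098 := rfl
theorem F447857 : act 5 n208098 = n190636 := d17_1 D208098 (iv1 D190636) (iv5 F369747) (iv4 F425571) F425569 (iv0 F417623) F410946 (iv0 D133380) D133382
theorem F447858 : act 4 n208098 = n200312 := d18_3 (iv1 D133381) D133382 D208098 F415946 F397269 (iv0 F214446) (iv4 F415736) (iv0 F415737) F401177
theorem F447859 : act 7 n200944 = n208098 := d11_0 F447858 F415949 (iv4 F418451)
theorem F447860 : act 1 n187346 = n208098 := d17_8 (iv1 F415948) F247463 (iv1 F112218) D116996 (iv4 F381680) (iv5 F394887) (iv0 D194876) (iv5 F369906) F447858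
theorem F447861 : act 3 n208098 = n198424 := d8_1 F447859 F407980 (iv3 F418450)
def n208099 : Q := act 1 n133382
theorem D208099 : act 1 n133382 = n208099 := rfl
theorem F447862 : act 1 n208099 = n187346 := d15_1 D208099 F369907 F369664
theorem F447863 : act 5 n208099 = n190635 := d17_7 (iv1 F441324) F441325 (iv1 F211236) (iv5 F440741) F440742 F394890 D208099 (iv0 D190635) (iv4 F362288)
theorem F447864 : act 4 n208099 = n190278 := d17_9 F381687 (iv5 D112973) F101156 D133385 F381683 (iv5 F381684) F394893 F394890 D208099
theorem F447865 : act 6 n164444 = n208099 := d21_9 (iv5 F394890) (iv1 F394893) F381684 F381685 (iv1 D97166) (iv6 F120149) (iv5 D78978) D78976 D164444 (iv1 D208099)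
theorem F447866 : act 2 n208099 = n200944 := d3_1 F447865 (iv6 F419583) F419581
def n208100 : Q := act 7 n133382
theorem D208100 : act 7 n133382 = n208100 := rfl
theorem F447867 : act 2 n208100 = n187346 := d4_1 D208100 F369907 F369664
theorem F447868 : act 4 n208100 = n133383 := d11_1 D208100 (iv7 D133383) D133382
theorem F447869 : act 5 n208100 = n194877 := d13_1 D208100 (iv7 F394891) F394890
theorem F447870 : act 1 n200944 = n208100 := d15_1 F418452 (iv7 D208100) (iv2 F369664)
def n208101 : Q := act 5 n133384
theorem D208101 : act 5 n133384 = n208101 := rfl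
theorem F447871 : act 3 n208101 = n133385 := d6_1 D208101 (iv5 D133385) D133384
theorem F447872 : act 7 n208101 = n144153 := d13_2 (iv7 F214440) D208101 (iv5 D144153)
def n208102 : Q := act 0 n133387
theorem D208102 : act 0 n133387 = n208102 := rfl
theorem F447873 : act 3 n208102 = n181681 := d20_5 F211180 (iv1 D62604) D62605 D133387 D208102 (iv4 F442090) (iv1 F442091) (iv4 F341762) F341761 (iv1 F211179)
theorem F447874 : act 6 n208102 = n196061 := d21_5 D106841 F373565 F211428 (iv6 F214448) D208102 (iv5 D196061) (iv1 F164164) D106618 (iv6 F365930) (iv1 F164641)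
theorem F447875 : act 2 n207567 = n208102 := d3_3 F447874 F399254 D207567
theorem F447876 : act 5 n181680 = n208102 := d12_5 F447874 (iv5 D196061) F398158 F398154 (iv6 F353194)
theorem F447877 : act 7 n201703 = n208102 := d14_0 F447874 F399255 (iv6 F396442) F396443 D201703
def n208103 : Q := act 1 n133387
theorem D208103 : act 1 n133387 = n208103 := rfl
theorem F447878 : act 7 n208103 = n207567 := d15_2 (iv0 D208102) D208103 F447875
theorem F447879 : act 5 n208103 = n190608 := d18_9 (iv1 D190608) (iv4 D96239) D96237 D190603 F417553 (iv4 F446026) (iv0 D207691) (iv4 F214447) D208103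
theorem F447880 : act 6 n195249 = n208103 := d21_3 F400082 (iv1 F396429) D195249 (iv1 D208103) F214448 (iv5 F211428) F370128 (iv5 D106836) D106837 D196258
theorem F447881 : act 2 n208103 = n201703 := d3_1 F447880 (iv6 D201703) (iv2 F396464)
def n208104 : Q := act 2 n133387
theorem D208104 : act 2 n133387 = n208104 := rfl
theorem F447882 : act 3 n208104 = n207467 := d0_2 D133387 D208104 F445067 F211230 (iv2 F97622)
theorem F447883 : act 4 n208104 = n207690 := d1_2 (iv4 F214447) D208104 F446022
theorem F447884 : act 6 n208104 = n133391 := d3_2 (iv6 F214448) D208104 (iv2 D133391)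
theorem F447885 : act 1 n208104 = n201703 := d15_0 (iv0 F441203) F441202 D208104
theorem F447886 : act 1 n207567 = n208104 := d15_0 F447885 F447877 (iv2 F447875)
def n208105 : Q := act 5 n133387
theorem D208105 : act 5 n133387 = n208105 := rfl
theorem F447887 : act 3 n208105 = n133388 := d6_1 D208105 (iv5 D133388) D133387
theorem F447888 : act 6 n208105 = n160997 := d12_2 (iv6 F214448) D208105 (iv5 F382499) F382502 F211428
theorem F447889 : act 7 n208105 = n206562 := d13_2 F441202 D208105 F441341
theorem F447890 : act 4 n208105 = n185462 := d16_4 (iv4 F442797) F442796 (iv4 F214447) D208105 F287724 F138098 (iv5 F135579) F135580 D185788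
theorem F447891 : act 1 n163632 = n208105 := d18_6 (iv1 D48369) (iv4 F63673) D88524 F159097 F331169 F302348 F447890 (iv0 F287725) (iv5 D104586)
def n208106 : Q := act 3 n133390
theorem D208106 : act 3 n133390 = n208106 := rfl
theorem F447892 : act 2 n208106 = n207477 := d0_1 D208106 (iv3 F445100) F217721 (iv3 F211237) F217724
theorem F447893 : act 5 n208106 = n197047 := d6_2 (iv5 F358297) D208106 (iv3 D197047)
theorem F447894 : act 7 n208106 = n207475 := d8_2 F217726 D208106 (iv3 D207475)
theorem F447895 : act 1 n134898 = n208106 := d15_1 (iv0 F442153) F447894 F445088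
theorem F447896 : act 1 n208106 = n134903 := d15_1 F447895 F352495 (iv2 F352542)
theorem F447897 : act 6 n182771 = n208106 := d21_9 (iv5 F373530) (iv1 F373541) (iv5 D132940) D132941 F362885 F336401 F152021 D190554 F380717 (iv1 F447895)
def n208107 : Q := act 6 n133390
theorem D208107 : act 6 n133390 = n208107 := rfl
theorem F447898 : act 2 n208107 = n207474 := d3_1 D208107 (iv6 D207474) F217724
theorem F447899 : act 3 n208107 = n182771 := d7_1 D208107 F447897 (iv3 D208106)
theorem F447900 : act 0 n208107 = n195942 := d21_4 D106844 (iv1 F165954) (iv5 F358297) D208107 F398796 F380839 F358998 F359000 (iv6 D132996) (iv1 F97292)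
theorem F447901 : act 0 n207495 = n208107 := d21_4 (iv5 D128680) D128678 D206483 F445139 (iv6 D208107) F358297 (iv1 D107563) F78521 (iv6 F326348) (iv1 F206976)
theorem F447902 : act 7 n207494 = n208107 := d8_0 F447899 (iv7 F417192) F445136
theorem F447903 : act 6 n205410 = n207494 := d14_5 F447902 (iv6 D208107) (iv7 F217726) (iv6 F436354) (iv7 F436357)
def n208108 : Q := act 5 n133392
theorem D208108 : act 5 n133392 = n208108 := rfl
theorem F447904 : act 2 n208108 = n207196 := d2_1 D208108 (iv5 D207196) F399664
theorem F447905 : act 7 n208108 = n201002 := d13_2 (iv7 F399665) D208108 F418683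
theorem F447906 : act 0 n208108 = n208028 := d17_2 D133392 D208108 F447515 F399047 F383184 F276092 (iv5 F444627) F444628 F210038
theorem F447907 : act 0 n135524 = n208108 := d19_0 (iv5 D208108) (iv4 F443591) F443592 (iv1 D176832) (iv5 D84302) (iv4 F126254) (iv3 D81907) (iv1 F58389) D75207 F341328 (iv3 F341326) (iv1 F336670) F336669 F171668 F171664 (iv1 F169872) F169363 F99087 D135524
def n208109 : Q := act 6 n133393
theorem D208109 : act 6 n133393 = n208109 := rfl
theorem F447908 : act 2 n208109 = n207199 := d3_1 D208109 (iv6 D207199) (iv2 F399666)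
theorem F447909 : act 3 n208109 = n195992 := d7_1 D208109 (iv6 D195992) (iv3 F399667)
theorem F447910 : act 5 n208109 = n200934 := d12_1 D208109 F418429 F397709 D207354 F444494
theorem F447911 : act 7 n208109 = n200933 := d14_2 (iv7 F399668) D208109 F418426 (iv7 F439870) F439874
theorem F447912 : act 0 n208109 = n195867 := d21_4 (iv5 F447515) F447517 F444494 D208109 F398529 (iv5 D106386) D106385 F163447 D112952 F399045
theorem F447913 : act 0 n200351 = n208109 := d21_4 (iv5 D96044) D96041 (iv5 F376735) D200351 (iv6 D208109) (iv5 F444494) F444495 F415871 (iv6 F415870) (iv1 D190468)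
def n208110 : Q := act 6 n133395
theorem D208110 : act 6 n133395 = n208110 := rfl
theorem F447914 : act 2 n208110 = n133397 := d3_1 D208110 (iv6 D133397) (iv2 F214467)
theorem F447915 : act 3 n208110 = n151702 := d7_1 D208110 (iv6 F355203) (iv3 F214468)
theorem F447916 : act 4 n208110 = n189656 := d10_1 D208110 (iv6 D189656) F214472
theorem F447917 : act 5 n208110 = n188806 := d12_1 D208110 (iv6 D188806) (iv5 D92814) F97633 D133395
theorem F447918 : act 0 n208110 = n192801 := d21_4 F139270 (iv1 F97631) D133395 D208110 (iv6 F387829) (iv5 D144972) F331478 (iv5 F82485) (iv6 D52171) D52168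
theorem F447919 : act 0 n192804 = n208110 := d17_2 (iv1 F377637) D192804 F447917 (iv4 F404792) F404791 (iv0 D108524) D108527 D197634 (iv4 F405122)
def n208111 : Q := act 5 n133396
theorem D208111 : act 5 n133396 = n208111 := rfl
theorem F447920 : act 2 n208111 = n189655 := d2_1 D208111 (iv5 D189655) (iv2 F214473)
theorem F447921 : act 7 n208111 = n189652 := d13_2 (iv7 F214474) D208111 (iv5 D189652)
theorem F447922 : act 4 n208111 = n189316 := d16_2 D133396 D208111 (iv5 D189316) (iv4 D93880) F95765 F95759 (iv5 F152164) (iv7 F214469) F214467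
theorem F447923 : act 0 n208111 = n189657 := d17_2 (iv1 F214476) D208111 F377280 (iv4 D159503) (iv5 D76302) F114355 D90594 (iv0 F139487) (iv4 F145406)
theorem F447924 : act 1 n208111 = n189658 := d17_6 D113019 F176059 F82868 D62610 D133396 D208111 F377284 F377216 (iv4 D113021)
def n208112 : Q := act 0 n133397
theorem D208112 : act 0 n133397 = n208112 := rfl
theorem F447925 : act 5 n208112 = n189754 := d19_1 D208112 (iv4 F377638) (iv3 F420187) (iv1 F420188) (iv5 F420048) (iv4 F339999) F339998 (iv1 D74600) D74601 D156877 (iv3 F340338) F340336 D194997 (iv4 F395344) F441675 (iv1 D206634) (iv5 F343930) F210042 (iv3 F214477)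
theorem F447926 : act 2 n192801 = n208112 := d15_3 (iv0 D208112) (iv0 F400392) (iv7 F392254)
theorem F447927 : act 7 n208112 = n192804 := d4_2 (iv7 F392254) F447926 (iv2 F392252)
def n208113 : Q := act 7 n133397
theorem D208113 : act 7 n133397 = n208113 := rfl
theorem F447928 : act 3 n208113 = n133399 := d8_1 D208113 (iv7 D133399) (iv3 F214477)
theorem F447929 : act 6 n208113 = n207194 := d14_1 D208113 (iv7 D207194) (iv6 D130598) (iv7 F97635) D133397
theorem F447930 : act 1 n192804 = n208113 := d15_1 (iv0 F447919) (iv7 D208113) (iv2 F447914)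
theorem F447931 : act 1 n208113 = n192801 := d15_1 F447930 F392254 F392252
def n208114 : Q := act 6 n133400
theorem D208114 : act 6 n133400 = n208114 := rfl
theorem F447932 : act 2 n208114 = n189301 := d3_1 D208114 (iv6 D189301) (iv2 F214486)
theorem F447933 : act 3 n208114 = n195201 := d7_1 D208114 F396225 (iv3 F214487)
theorem F447934 : act 5 n208114 = n159502 := d12_1 D208114 (iv6 D159502) (iv5 D76301) (iv6 F114357) D133400
theorem F447935 : act 7 n208114 = n189401 := d14_2 (iv7 F214488) D208114 (iv6 D189401) F376221 (iv6 F376211)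
theorem F447936 : act 0 n133429 = n208114 := d21_1 F413802 F447934 (iv6 D159502) F114397 D105417 F161809 D188826 (iv5 F375017) F376559 F413803
def n208115 : Q := act 5 n133406
theorem D208115 : act 5 n133406 = n208115 := rfl
theorem F447937 : act 2 n208115 = n204196 := d2_1 D208115 F431440 F429895
theorem F447938 : act 3 n208115 = n186432 := d6_1 D208115 (iv5 D186432) (iv3 F374372)
theorem F447939 : act 7 n208115 = n192657 := d13_2 F377614 D208115 F387380
theorem F447940 : act 4 n208115 = n191942 := d16_2 (iv4 F214508) D208115 (iv5 D191942) (iv4 F286403) (iv5 F332315) (iv4 F179430) D201892 F422257 F192331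
theorem F447941 : act 0 n208115 = n152531 := d17_2 F399885 D208115 F239711 F364640 (iv5 D164219) (iv0 D78891) D78893 (iv0 F340666) D196209
theorem F447942 : act 1 n208115 = n204174 := d17_6 F420635 (iv5 D164514) (iv1 D79006) (iv5 F97662) (iv4 F214508) D208115 F431336 F426000 F425998
def n208116 : Q := act 5 n133407
theorem D208116 : act 5 n133407 = n208116 := rfl
theorem F447943 : act 2 n208116 = n202884 := d2_1 D208116 (iv5 F429886) F429890
theorem F447944 : act 3 n208116 = n202692 := d6_1 D208116 F425131 F378542
theorem F447945 : act 6 n208116 = n201880 := d12_2 (iv6 F378540) D208116 F422189 (iv6 F376687) (iv5 F378537)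
theorem F447946 : act 7 n208116 = n152197 := d13_2 F429892 D208116 F429893
theorem F447947 : act 1 n208116 = n173500 := d17_8 D173498 F338579 D184480 (iv5 F332315) (iv4 F179430) D201892 (iv0 F422259) D208116 (iv4 D173500)
theorem F447948 : act 1 n173516 = n208116 := d15_1 (iv0 F420785) F447946 (iv2 F420782)
def n208117 : Q := act 4 n133408
theorem D208117 : act 4 n133408 = n208117 := rfl
theorem F447949 : act 3 n208117 = n189607 := d5_1 D208117 F379219 D190476 (iv4 F379859) (iv3 F416130)
theorem F447950 : act 0 n208117 = n152451 := d17_0 (iv5 F431430) F431431 F419034 (iv4 F379491) (iv5 D164512) (iv0 D79005) (iv5 F97662) D133408 D208117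
theorem F447951 : act 0 n207272 = n208117 := d20_1 D207272 (iv4 D208117) F416130 (iv1 D110767) F80528 (iv4 F80535) (iv1 F177656) (iv4 D106539) D106538 F334821
theorem F447952 : act 6 n208117 = n189602 := d21_5 (iv5 F379769) (iv1 F444121) (iv5 D207280) (iv6 F444081) F447951 (iv5 D189602) F151943 D191575 F383890 (iv1 F333576)
def n208118 : Q := act 6 n133408
theorem D208118 : act 6 n133408 = n208118 := rfl
theorem F447953 : act 3 n208118 = n135535 := d7_1 D208118 F365419 (iv3 F416130)
theorem F447954 : act 4 n208118 = n189602 := d10_1 D208118 (iv6 F447952) (iv4 D208117)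
theorem F447955 : act 5 n208118 = n135534 := d12_1 D208118 (iv6 F420781) (iv5 D201509) D201510 F420784
theorem F447956 : act 0 n145954 = n208118 := d21_4 (iv5 D31848) D31846 D68436 D145954 (iv6 D208118) (iv5 F420784) (iv1 F420801) F360268 (iv6 D145017) F104093
theorem F447957 : act 7 n208035 = n208118 := d13_0 F447955 F217959 D208035
theorem F447958 : act 1 n186406 = n208118 := d17_6 (iv1 F437741) (iv5 F437391) (iv1 F407078) (iv5 F439267) F439268 F418976 F447955 F344976 (iv4 F437738)
def n208119 : Q := act 5 n133410
theorem D208119 : act 5 n133410 = n208119 := rfl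
theorem F447959 : act 2 n208119 = n189306 := d2_1 D208119 (iv5 D189306) (iv2 F214512)
theorem F447960 : act 3 n208119 = n189409 := d6_1 D208119 F376551 (iv3 F214513)
theorem F447961 : act 7 n208119 = n189312 := d13_2 (iv7 F214514) D208119 (iv5 D189312)
theorem F447962 : act 4 n208119 = n189660 := d16_2 D133410 D208119 F377288 (iv4 D113021) (iv5 D52167) (iv4 F52212) D71387 F107879 (iv2 F97663)
theorem F447963 : act 6 n200402 = n208119 := d10_0 F447962 (iv6 F377290) D200402
def n208120 : Q := act 6 n133410
theorem D208120 : act 6 n133410 = n208120 := rfl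
theorem F447964 : act 2 n208120 = n189307 := d3_1 D208120 (iv6 D189307) (iv2 F214512)
theorem F447965 : act 3 n208120 = n189306 := d7_1 D208120 (iv6 F376386) (iv3 F214513)
theorem F447966 : act 4 n208120 = n133411 := d10_1 D208120 (iv6 D133411) D133410
theorem F447967 : act 1 n189374 = n208120 := d17_8 F371784 (iv5 D187899) (iv1 D90641) D90642 D187903 (iv5 F376928) (iv0 D189372) D189374 F447966
theorem F447968 : act 5 n189305 = n208120 := d6_0 F447965 (iv5 D189306) D189305
def n208121 : Q := act 5 n133412
theorem D208121 : act 5 n133412 = n208121 := rfl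
theorem F447969 : act 2 n208121 = n201397 := d2_1 D208121 (iv5 D201397) (iv2 F365003)
theorem F447970 : act 3 n208121 = n164231 := d6_1 D208121 (iv5 D164231) (iv3 F351262)
theorem F447971 : act 7 n208121 = n201398 := d13_2 F364981 D208121 (iv5 D201398)
theorem F447972 : act 4 n208121 = n192646 := d16_2 (iv4 F351263) D208121 F387341 (iv4 F357661) D200233 (iv4 F415729) (iv5 D200261) (iv7 F365009) (iv2 F365007)
theorem F447973 : act 0 n201371 = n208121 := d21_10 (iv5 D208121) (iv1 F214524) (iv5 F248608) (iv6 D157737) (iv1 F112700) D114508 (iv5 F193539) F259234 F259233 D201371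
def n208122 : Q := act 5 n133413
theorem D208122 : act 5 n133413 = n208122 := rfl
theorem F447974 : act 2 n208122 = n201398 := d2_1 D208122 (iv5 D201398) F365004
theorem F447975 : act 3 n208122 = n188840 := d6_1 D208122 F398875 (iv3 F398874)
theorem F447976 : act 7 n208122 = n201397 := d13_2 (iv7 F365005) D208122 (iv5 D201397)
theorem F447977 : act 0 n208122 = n201371 := d21_1 D208122 F420223 F376591 (iv1 F396244) (iv6 D195204) (iv5 D105402) (iv1 F76743) (iv5 F83399) D114420 (iv1 F214519)
theorem F447978 : act 6 n208122 = n195982 := d21_3 F248608 (iv1 F214519) D208122 (iv1 F398962) (iv6 F396060) F396059 (iv1 F161547) D113909 (iv6 F178599) (iv1 F248611)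
def n208123 : Q := act 6 n133413
theorem D208123 : act 6 n133413 = n208123 := rfl
theorem F447979 : act 2 n208123 = n201399 := d3_1 D208123 (iv6 D201399) F365004
theorem F447980 : act 4 n208123 = n200262 := d10_1 D208123 (iv6 D200262) F365010
theorem F447981 : act 5 n208123 = n197052 := d21_6 (iv5 D105402) (iv1 F76743) (iv5 F83399) D114420 (iv1 F214519) D208123 (iv1 D197052) F165960 F179082 (iv1 F179080)
theorem F447982 : act 0 n133427 = n208123 := d21_4 F396236 F233496 (iv5 D133426) D133427 (iv6 D208123) D208122 F447977 F420223 F376591 (iv1 F396244)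
def n208124 : Q := act 3 n133416
theorem D208124 : act 3 n133416 = n208124 := rfl
theorem F447983 : act 4 n208124 = n198949 := d5_2 F352954 D208124 F420329 F402755 F210438
theorem F447984 : act 5 n208124 = n200230 := d6_2 F352897 D208124 (iv3 D200230)
theorem F447985 : act 6 n208124 = n189635 := d7_2 F352955 D208124 (iv3 D189635)
theorem F447986 : act 7 n208124 = n142368 := d8_2 F352956 D208124 (iv3 F356106)
theorem F447987 : act 0 n208124 = n203671 := d20_10 F429342 F355201 F238579 (iv3 F396282) (iv1 F396287) D200406 (iv4 F416318) (iv1 D189638) F352954 D208124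
theorem F447988 : act 1 n208124 = n200290 := d15_1 (iv0 F447987) F415847 (iv2 F429340)
def n208125 : Q := act 0 n133418
theorem D208125 : act 0 n133418 = n208125 := rfl
theorem F447989 : act 5 n208125 = n190068 := d17_3 F367282 F367281 D208125 F378768 F374450 (iv0 F329723) (iv5 D89578) D89577 (iv4 F363175)
theorem F447990 : act 4 n208125 = n187184 := d18_1 D208125 (iv1 F369411) (iv4 F369406) (iv5 F411434) (iv4 D199276) (iv0 F361771) (iv4 F367907) (iv0 F367908) F367281
theorem F447991 : act 3 n208125 = n190071 := d20_5 (iv4 D133430) (iv1 D62625) (iv4 F97672) (iv3 F214534) D208125 (iv4 F382200) (iv1 F382203) (iv4 D97289) (iv3 F150035) (iv1 F340436)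
theorem F447992 : act 2 n176764 = n208125 := d15_3 (iv0 D208125) F359399 D176764
theorem F447993 : act 1 n176762 = n208125 := d15_0 (iv0 D208125) (iv7 F377618) F377616
theorem F447994 : act 7 n208125 = n158873 := d15_2 D176762 F447993 F250136
theorem F447995 : act 0 n186435 = n191706 := d20_10 F429306 (iv1 F429305) F429301 F421744 F410145 F410141 (iv4 F447990) (iv1 F447993) F374375 D186435
theorem F447996 : act 6 n176740 = n208125 := d14_5 F447994 (iv6 D158873) F113674 D84260 D176740
def n208126 : Q := act 3 n133419
theorem D208126 : act 3 n133419 = n208126 := rfl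
theorem F447997 : act 7 n208126 = n207183 := d8_2 F331582 D208126 (iv3 D207183)
theorem F447998 : act 0 n208126 = n203666 := d19_4 D164408 F290526 F259154 D208126 F429320 (iv4 D202892) D202891 F426069 (iv5 F331674) F331673 (iv3 F220581) F347383 F336974 (iv4 F217436) (iv3 F332585) (iv1 F177666) (iv5 D114088) F83207 (iv3 F120139)
def n208127 : Q := act 6 n133419
theorem D208127 : act 6 n133419 = n208127 := rfl
theorem F447999 : act 2 n208127 = n207182 := d3_1 D208127 (iv6 D207182) F331585
theorem F448000 : act 4 n208127 = n190011 := d10_1 D208127 F395354 F259154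
def n208128 : Q := act 3 n133420
theorem D208128 : act 3 n133420 = n208128 := rfl
theorem F448001 : act 6 n208128 = n191226 := d7_2 F399048 D208128 F383185
theorem F448002 : act 7 n208128 = n207181 := d8_2 (iv7 F331587) D208128 (iv3 D207181)
theorem F448003 : act 5 n206145 = n208128 := d13_3 F448002 F443680 F439455
theorem F448004 : act 0 n208128 = n200252 := d17_2 D206145 F448003 (iv5 F415713) F336923 (iv5 F333511) (iv0 F347545) D201113 F419141 F418292
def n208129 : Q := act 5 n133420
theorem D208129 : act 5 n133420 = n208129 := rfl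
theorem F448005 : act 2 n208129 = n206142 := d2_1 D208129 F439443 F331588
theorem F448006 : act 3 n208129 = n206145 := d6_1 D208129 F448003 (iv3 D208128)
theorem F448007 : act 6 n208129 = n206130 := d12_2 F399048 D208129 F439374 F383186 (iv5 F383184)
theorem F448008 : act 7 n208129 = n164403 := d13_2 (iv7 F331587) D208129 F340444
theorem F448009 : act 4 n208129 = n164411 := d17_4 (iv1 F259265) (iv5 F350607) (iv1 F214535) D208129 (iv5 F443737) (iv0 F443739) (iv5 F331422) F177524 (iv4 F259098)
theorem F448010 : act 1 n208129 = n203792 := d17_8 (iv1 F421075) F421073 (iv1 F420280) (iv5 D164492) (iv4 F352663) (iv5 D133421) D133420 D208129 F429835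
theorem F448011 : act 0 n208129 = n195651 := d18_0 F397731 F396238 (iv4 F259088) (iv5 F350610) (iv4 D133425) (iv0 D62624) (iv4 F97672) D133420 D208129
def n208130 : Q := act 6 n133425
theorem D208130 : act 6 n133425 = n208130 := rfl
theorem F448012 : act 3 n208130 = n187485 := d7_1 D208130 F370533 (iv3 F360262)
theorem F448013 : act 4 n208130 = n133427 := d10_1 D208130 (iv6 D133427) D133425
theorem F448014 : act 0 n190469 = n208130 := d18_2 (iv1 D190468) D190469 F448013 F398820 (iv4 F398819) (iv0 D185723) (iv4 F287995) F398805 F398804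
theorem F448015 : act 1 n200415 = n208130 := d18_6 F398916 (iv4 F362868) (iv1 F373528) (iv4 F379811) F379812 (iv4 F416340) F448013 (iv0 F444115) (iv5 F444114)
def n208131 : Q := act 6 n133426
theorem D208131 : act 6 n133426 = n208131 := rfl
theorem F448016 : act 2 n208131 = n194142 := d3_1 D208131 (iv6 F416094) F416091
theorem F448017 : act 3 n208131 = n143213 := d7_1 D208131 F340688 (iv3 F360263)
theorem F448018 : act 7 n208131 = n203924 := d14_2 (iv7 F396349) D208131 (iv6 D203924) (iv7 F355718) D195223
theorem F448019 : act 0 n208131 = n195950 := d21_4 F83283 D62624 D133426 D208131 F398833 (iv5 F369338) F369337 (iv5 F369495) (iv6 F369497) (iv1 D114186)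
theorem F448020 : act 0 n195948 = n208131 := d21_4 (iv5 F161577) F342952 D115195 (iv6 F398823) (iv6 D208131) (iv5 D133426) (iv1 F176005) F176001 (iv6 F120362) (iv1 F120364)
def n208132 : Q := act 7 n133427
theorem D208132 : act 7 n133427 = n208132 := rfl
theorem F448021 : act 3 n208132 = n194183 := d8_1 D208132 F392291 F377392
theorem F448022 : act 5 n208132 = n133663 := d13_1 D208132 (iv7 F398818) (iv5 F398820)
theorem F448023 : act 6 n208132 = n201393 := d14_1 D208132 F420311 (iv6 D200350) F396348 D133427
theorem F448024 : act 0 n201399 = n208132 := d17_2 (iv1 F410115) (iv5 F420343) F448022 F373808 F373472 (iv0 D188437) (iv5 F141242) D188450 (iv4 F402838)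
def n208133 : Q := act 1 n133429
theorem D208133 : act 1 n133429 = n208133 := rfl
theorem F448025 : act 7 n208133 = n189301 := d15_2 (iv0 F447936) D208133 (iv2 F447932)
theorem F448026 : act 3 n208072 = n208133 := d20_3 (iv4 F147782) F355169 D208072 (iv1 D208133) (iv3 D133429) D133430 (iv1 F259096) F167275 (iv3 F164504) (iv1 F350223)
theorem F448027 : act 2 n208133 = n189401 := d0_1 F448026 (iv3 F377383) F377382 F379772 (iv2 F447756)
theorem F448028 : act 6 n189247 = n208133 := d3_0 F448027 (iv6 D189401) (iv2 F376220)
def n208134 : Q := act 4 n133429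
theorem D208134 : act 4 n133429 = n208134 := rfl
theorem F448029 : act 5 n208134 = n200409 := d17_5 D93958 D189416 F413803 F413802 D208134 (iv0 D200409) (iv5 F376551) (iv0 D189409) F144779
theorem F448030 : act 0 n208134 = n201193 := d20_1 D208134 (iv4 D201193) F177697 D159988 F397521 (iv4 F147782) F355169 D208072 F448026 (iv1 D208133)
def n208135 : Q := act 5 n133430
theorem D208135 : act 5 n133430 = n208135 := rfl
theorem F448031 : act 7 n208135 = n201240 := d13_2 (iv7 F399034) D208135 (iv5 F419602)
theorem F448032 : act 4 n208135 = n201593 := d17_4 (iv1 D97281) D97284 (iv1 F340436) D208135 F421073 F420281 F210050 F177962 F259000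
theorem F448033 : act 6 n208135 = n194538 := d21_3 D97284 (iv1 F340436) D208135 (iv1 F417882) (iv6 F439019) F439018 (iv1 F379532) (iv5 D190353) F347584 (iv1 D97281)
def n208136 : Q := act 5 n133432
theorem D208136 : act 5 n133432 = n208136 := rfl
theorem F448034 : act 3 n208136 = n208049 := d6_1 D208136 F447636 F413806
theorem F448035 : act 6 n208136 = n203922 := d12_2 D133432 D208136 (iv5 D203922) F214546 (iv5 D133431)
theorem F448036 : act 0 n208136 = n135800 := d17_2 F396239 D208136 (iv5 F364693) F364720 (iv5 D176719) D176717 (iv5 F383184) F415856 F415852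
theorem F448037 : act 0 n207386 = n208136 := d21_1 D207386 (iv5 D208136) (iv6 D133432) (iv1 D62625) (iv6 D29615) (iv5 D14066) D14063 (iv5 F46787) D61517 D131126
theorem F448038 : act 4 n208136 = n207059 := d18_3 D207742 F446215 F448037 F443148 F437241 (iv0 F363218) D189820 (iv0 F446223) (iv5 D207744)
theorem F448039 : act 7 n208051 = n208136 := d11_0 F448038 F443149 (iv4 F447643)
def n208137 : Q := act 7 n133432
theorem D208137 : act 7 n133432 = n208137 := rfl
theorem F448040 : act 2 n208137 = n201393 := d4_1 D208137 F420311 F416098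
theorem F448041 : act 3 n208137 = n189361 := d8_1 D208137 F413807 F413806
theorem F448042 : act 4 n208137 = n191178 := d11_1 D208137 F415866 (iv4 F396241)
theorem F448043 : act 5 n208137 = n208051 := d13_1 D208137 F448039 (iv5 D208136)
theorem F448044 : act 1 n195205 = n208137 := d15_1 (iv0 F416100) (iv7 D208137) (iv2 F416098)
theorem F448045 : act 1 n208137 = n189388 := d15_1 F448044 F376510 (iv2 F396245)
def n208138 : Q := act 6 n133435
theorem D208138 : act 6 n133435 = n208138 := rfl
theorem F448046 : act 2 n208138 = n206121 := d3_1 D208138 F439339 (iv2 F355279)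
theorem F448047 : act 3 n208138 = n148735 := d7_1 D208138 (iv6 D148735) (iv3 F335152)
theorem F448048 : act 5 n208138 = n190409 := d12_1 D208138 F379701 F171458 (iv6 F106043) (iv5 F335153)
theorem F448049 : act 7 n208138 = n148704 := d14_2 (iv7 F335154) D208138 (iv6 D148704) (iv7 D69692) (iv6 F106041)
theorem F448050 : act 0 n208138 = n206120 := d21_4 D53131 (iv1 F329381) (iv5 F335153) D208138 (iv6 F439334) F379736 F379735 F338627 (iv6 D115147) (iv1 D53129)
theorem F448051 : act 0 n190383 = n208138 := d21_4 (iv5 F335975) (iv1 D114774) D114777 (iv6 F379621) (iv6 D208138) F335153 (iv1 F233435) (iv5 F338617) F179294 (iv1 F99353)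
def n208139 : Q := act 1 n133439
theorem D208139 : act 1 n133439 = n208139 := rfl
theorem F448052 : act 1 n208139 = n152233 := d15_1 D208139 F339333 (iv2 F214566)
theorem F448053 : act 7 n208139 = n203910 := d15_2 (iv0 F420792) D208139 F430350
theorem F448054 : act 4 n208139 = n173517 := d17_9 F403157 (iv5 F403527) (iv1 D197206) F347796 (iv4 F347804) D201481 (iv0 F423369) F423367 D208139
theorem F448055 : act 3 n201632 = n208139 := d20_3 (iv4 F183443) D202902 (iv4 F426123) (iv1 D208139) F360653 F280365 F206593 (iv4 F428433) F428432 (iv1 D146400)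
theorem F448056 : act 5 n203347 = n208139 := d21_0 (iv1 D208139) (iv5 F423367) (iv6 D202241) (iv1 F363767) F177180 (iv5 D52582) (iv1 F77236) D105900 (iv6 F259238) (iv1 F431407)
theorem F448057 : act 2 n208139 = n199576 := d2_1 F448056 (iv5 F420677) (iv2 F427987)
theorem F448058 : act 6 n208139 = n173516 := d21_3 D164500 (iv1 F431407) F448056 F420785 (iv6 D201510) D201509 (iv1 F422148) (iv5 D201870) F413009 (iv1 D164499)
def n208140 : Q := act 6 n133441
theorem D208140 : act 6 n133441 = n208140 := rfl
theorem F448059 : act 2 n208140 = n207253 := d3_1 D208140 (iv6 D207253) (iv2 F216632)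
theorem F448060 : act 3 n208140 = n158794 := d7_1 D208140 (iv6 D158794) (iv3 F319743)
theorem F448061 : act 7 n208140 = n201048 := d14_2 (iv7 F216628) D208140 (iv6 D201048) (iv7 F371506) F371505
theorem F448062 : act 0 n208140 = n199874 := d21_10 F413908 (iv1 F379998) F379996 (iv6 D135828) F207228 (iv6 F83929) D115213 F335825 (iv5 F319744) D208140
theorem F448063 : act 0 n207283 = n208140 := d21_4 F363734 (iv1 F199571) D204927 (iv6 F444140) (iv6 D208140) F319744 (iv1 F335824) F179423 (iv6 F328631) F328627
def n208141 : Q := act 6 n133442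
theorem D208141 : act 6 n133442 = n208141 := rfl
theorem F448064 : act 2 n208141 = n133444 := d3_1 D208141 (iv6 D133444) D133442
theorem F448065 : act 3 n208141 = n207243 := d7_1 D208141 (iv6 D207243) (iv3 F214570)
theorem F448066 : act 4 n208141 = n207467 := d10_1 D208141 (iv6 D207467) (iv4 F214571)
theorem F448067 : act 0 n187761 = n208141 := d21_4 (iv5 F335769) F364358 (iv5 F364355) D187761 (iv6 D208141) F363737 (iv1 D176368) (iv5 F321099) F326532 D185753
def n208142 : Q := act 0 n133444
theorem D208142 : act 0 n133444 = n208142 := rfl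
theorem F448068 : act 3 n208142 = n187764 := d20_5 (iv4 D133450) (iv1 D62634) (iv4 F97689) (iv3 F214578) D208142 F389524 (iv1 D193344) F374733 (iv3 F374732) F214602
theorem F448069 : act 4 n208142 = n205512 := d20_8 (iv4 D186691) F343478 (iv4 F417965) (iv3 F417969) F211204 (iv3 F211230) (iv4 F214579) D208142 (iv3 F436779) F389561
theorem F448070 : act 6 n208142 = n201521 := d21_5 D115209 F348992 (iv5 D133443) D133444 D208142 F420847 F339633 (iv5 F339636) F218499 (iv1 F179411)
theorem F448071 : act 7 n187761 = n208142 := d14_0 F448070 (iv7 F420849) (iv6 D188796) F143158 D187761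
def n208143 : Q := act 5 n133444
theorem D208143 : act 5 n133444 = n208143 := rfl
theorem F448072 : act 3 n208143 = n133448 := d6_1 D208143 (iv5 D133448) (iv3 F214578)
theorem F448073 : act 6 n208143 = n206291 := d12_2 D133444 D208143 (iv5 D206291) F335839 (iv5 D133443)
theorem F448074 : act 0 n208143 = n189592 := d18_0 (iv4 D189592) (iv1 D94116) (iv4 F145055) D189586 (iv4 F377049) D205512 (iv4 F448069) (iv0 D208142) D208143
theorem F448075 : act 5 n189592 = n135827 := d21_2 D208143 F448074 (iv6 F441595) (iv1 F441599) (iv6 F364366) F290245 F335793 (iv5 F143127) D188782 F374859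
theorem F448076 : act 3 n193351 = n189592 := d6_3 F448075 (iv3 F361248) D193351
theorem F448077 : act 7 n135826 = n189592 := d13_0 F448075 (iv7 D135827) D135826
theorem F448078 : act 4 n189577 = n135826 := d11_3 F448077 (iv4 D189592) (iv7 F377028)
theorem F448079 : act 2 n135826 = n189589 := d1_1 F448078 (iv4 D189589) (iv2 F377029)
theorem F448080 : act 5 n189589 = n135811 := d2_2 D135826 F448079 F218429
theorem F448081 : act 1 n208143 = n189589 := d17_6 F441278 (iv5 F443398) (iv1 F443400) F436859 (iv4 F214579) D208143 F448080 (iv0 F418929) F418928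
theorem F448082 : act 7 n183134 = n208143 := d8_0 F448072 (iv7 F218378) (iv3 F416559)
theorem F448083 : act 4 n208143 = n183138 := d11_1 F448082 (iv7 D183138) (iv4 F284743)
theorem F448084 : act 1 n190516 = n189592 := d15_0 (iv0 F448074) (iv7 F448082) (iv2 F379973)
theorem F448085 : act 1 n189589 = n190516 := d15_0 F448084 (iv7 F448077) F448079
def n208144 : Q := act 7 n133444
theorem D208144 : act 7 n133444 = n208144 := rfl
theorem F448086 : act 3 n208144 = n133449 := d8_1 D208144 (iv7 D133449) (iv3 F214578)
theorem F448087 : act 4 n208144 = n207470 := d11_1 D208144 (iv7 D207470) (iv4 F214579)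
theorem F448088 : act 5 n208144 = n183134 := d13_1 D208144 F448082 (iv5 D208143)
theorem F448089 : act 6 n208144 = n135727 := d14_1 D208144 F218238 (iv6 D130656) (iv7 F97683) D133444
theorem F448090 : act 1 n187761 = n208144 := d15_1 (iv0 F448067) (iv7 D208144) (iv2 F448064)
theorem F448091 : act 0 n183134 = n135826 := d21_7 (iv5 D30129) D30126 D63865 D135823 F401538 (iv6 F448089) F448088 (iv5 D135826) (iv6 D63866) (iv1 F48432)
def n208145 : Q := act 3 n133446
theorem D208145 : act 3 n133446 = n208145 := rfl
theorem F448092 : act 2 n208145 = n201679 := d0_1 D208145 F421347 (iv2 F396417) F396418 F214585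
theorem F448093 : act 4 n208145 = n207295 := d5_2 F432207 D208145 (iv3 D207295) F217066 (iv3 F432208)
theorem F448094 : act 5 n208145 = n202934 := d6_2 F418952 D208145 F426256
theorem F448095 : act 6 n208145 = n195224 := d7_2 F363883 D208145 (iv3 F396356)
theorem F448096 : act 7 n208145 = n207249 := d8_2 F214586 D208145 (iv3 D207249)
theorem F448097 : act 0 n187015 = n204104 := d17_2 (iv1 F384047) (iv5 F368842) (iv5 F444197) (iv4 F448093) F448094 (iv0 F426259) F238408 D195141 (iv4 F395942)
def n208146 : Q := act 4 n133451
theorem D208146 : act 4 n133451 = n208146 := rfl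
theorem F448098 : act 2 n208146 = n207259 := d1_1 D208146 (iv4 D207259) F355684
theorem F448099 : act 3 n208146 = n191582 := d5_1 D208146 F442534 (iv3 D206893) (iv4 F418591) F418590
theorem F448100 : act 6 n208146 = n189891 := d10_2 F376904 D208146 F378128
theorem F448101 : act 7 n208146 = n201043 := d11_2 (iv7 F355671) D208146 F418855
theorem F448102 : act 5 n208146 = n207261 := d16_1 D208146 (iv4 D207261) (iv5 D130664) (iv4 F329635) (iv5 D123607) F90767 D114257 (iv7 F347371) F355684
theorem F448103 : act 0 n208146 = n153957 := d17_0 (iv5 D153957) D153955 (iv5 F355303) (iv4 F336945) (iv5 F142438) F355355 (iv5 F333215) F214604 D208146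
def n208147 : Q := act 6 n133453
theorem D208147 : act 6 n133453 = n208147 := rfl
theorem F448104 : act 2 n208147 = n133455 := d3_1 D208147 (iv6 D133455) D133453
theorem F448105 : act 3 n208147 = n201171 := d7_1 D208147 (iv6 D201171) F333199
theorem F448106 : act 5 n208147 = n199703 := d12_1 D208147 (iv6 F413184) (iv5 F419497) (iv6 F419499) F370361
theorem F448107 : act 7 n208147 = n207365 := d14_2 (iv7 F214606) D208147 F444532 F374728 F374724
theorem F448108 : act 0 n208147 = n207352 := d21_4 F143000 D187446 F370361 D208147 (iv6 D207352) (iv5 F209525) F97165 F95611 (iv6 F98898) (iv1 F332261)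
theorem F448109 : act 0 n207364 = n208147 := d21_4 (iv5 F384238) F387439 (iv5 F443275) F444528 (iv6 D208147) (iv5 F370361) (iv1 F374127) F374124 (iv6 F374712) (iv1 F374714)
def n208148 : Q := act 6 n133454
theorem D208148 : act 6 n133454 = n208148 := rfl
theorem F448110 : act 2 n208148 = n201220 := d3_1 D208148 (iv6 F419499) (iv2 F370363)
theorem F448111 : act 3 n208148 = n133456 := d7_1 D208148 (iv6 D133456) (iv3 F214610)
theorem F448112 : act 5 n208148 = n199715 := d12_1 D208148 (iv6 D199715) (iv5 F349532) (iv6 D133455) D133454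
theorem F448113 : act 7 n208148 = n201207 := d14_2 (iv7 F214611) D208148 (iv6 D201207) F355676 (iv6 F357122)
theorem F448114 : act 0 n208148 = n201202 := d21_4 D114257 F355669 D133454 D208148 (iv6 D201202) (iv5 F347659) (iv1 F347658) F259022 (iv6 D159545) (iv1 F332618)
theorem F448115 : act 0 n201222 = n208148 := d21_4 F290595 D189552 (iv5 F411635) (iv6 F419508) (iv6 D208148) (iv5 D133454) D133451 (iv5 F355685) (iv6 F178105) (iv1 F290592)
def n208149 : Q := act 1 n133455
theorem D208149 : act 1 n133455 = n208149 := rfl
theorem F448116 : act 1 n208149 = n207365 := d15_1 D208149 (iv7 F448107) F448104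
theorem F448117 : act 7 n208149 = n207352 := d15_2 (iv0 F355687) D208149 F444478
theorem F448118 : act 5 n208149 = n199780 := d17_7 (iv1 F395003) (iv5 D111610) (iv1 D51475) D51478 D111621 (iv5 F349532) D208149 F413469 F374505
theorem F448119 : act 3 n143275 = n208149 := d19_19 (iv1 D208149) F349532 (iv4 D111621) F81253 D51482 F81265 (iv4 D51318) (iv3 F39142) (iv1 D24458) (iv5 D11554) D11553 (iv3 F18860) D13477 D28228 (iv4 F48520) D63962 F99525 D67122 D143275
theorem F448120 : act 4 n143281 = n208149 := d20_6 F98593 (iv1 F97788) D133567 (iv3 F333085) F221166 D143281 (iv1 D208149) (iv4 F216165) F216164 F98594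
theorem F448121 : act 2 n207364 = n208149 := d2_3 F448118 F413471 (iv5 F444526)
def n208150 : Q := act 5 n133456
theorem D208150 : act 5 n133456 = n208150 := rfl
theorem F448122 : act 2 n208150 = n152495 := d2_1 D208150 F354424 (iv2 F214614)
theorem F448123 : act 3 n208150 = n199715 := d6_1 D208150 (iv5 F448112) F448111
theorem F448124 : act 6 n208150 = n133457 := d12_2 D133456 D208150 (iv5 D133457) (iv6 D62638) D62637
theorem F448125 : act 7 n208150 = n152494 := d13_2 (iv7 F353824) D208150 (iv5 F353821)
theorem F448126 : act 0 n208150 = n152273 := d17_2 F353818 D208150 (iv5 D152273) (iv4 F319129) (iv5 F230756) F323591 (iv5 F318594) F425331 F425327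
theorem F448127 : act 1 n208150 = n152277 := d17_6 (iv1 F347798) (iv5 D111550) D111547 (iv5 F403010) F403009 D208150 (iv5 D152277) F108281 (iv4 F108434)
theorem F448128 : act 4 n208150 = n199026 := d19_2 F353818 D208150 F410379 D199031 F410387 (iv4 F407168) F407167 (iv1 F387542) (iv5 F412276) F412275 (iv3 F407205) (iv1 D112101) (iv5 F173664) (iv4 F233920) (iv3 D148876) (iv1 F228856) F228854 (iv4 F252111) F252110
def n208151 : Q := act 0 n133462
theorem D208151 : act 0 n133462 = n208151 := rfl
theorem F448129 : act 6 n208151 = n195658 := d21_5 F332580 F177671 F333208 D133462 D208151 F397763 F397730 F259025 (iv6 D159547) F332594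
theorem F448130 : act 5 n208151 = n195873 := d21_8 F419984 (iv1 D201229) (iv5 F205550) F290518 (iv1 D159465) D159467 F352123 D208151 F398559 (iv1 F419983)
def n208152 : Q := act 7 n133462
theorem D208152 : act 7 n133462 = n208152 := rfl
theorem F448131 : act 3 n208152 = n133465 := d8_1 D208152 (iv7 D133465) (iv3 F214626)
theorem F448132 : act 4 n208152 = n206681 := d11_1 D208152 (iv7 D206681) (iv4 F214627)
theorem F448133 : act 6 n208152 = n135721 := d14_1 D208152 F218225 (iv6 D130674) (iv7 F97709) D133462
def n208153 : Q := act 4 n133464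
theorem D208153 : act 4 n133464 = n208153 := rfl
theorem F448134 : act 2 n208153 = n207262 := d1_1 D208153 (iv4 D207262) (iv2 F214629)
theorem F448135 : act 0 n208153 = n192669 := d17_0 (iv5 F387435) F387511 (iv5 F387510) F387509 (iv5 D135564) F99101 (iv5 F217415) (iv0 F217416) D208153
theorem F448136 : act 1 n208153 = n135791 := d18_6 (iv1 F214596) F214589 (iv1 D128750) (iv4 F97715) D133464 D208153 (iv4 D135791) D135790 F218379
def n208154 : Q := act 5 n133467
theorem D208154 : act 5 n133467 = n208154 := rfl
theorem F448137 : act 2 n208154 = n207266 := d2_1 D208154 (iv5 D207266) (iv2 F214643)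
theorem F448138 : act 3 n208154 = n159499 := d6_1 D208154 (iv5 F418642) F418639
theorem F448139 : act 6 n208154 = n188047 := d12_2 D133467 D208154 F372217 F347973 (iv5 F318967)
theorem F448140 : act 7 n208154 = n207359 := d13_2 F365180 D208154 (iv5 D207359)
theorem F448141 : act 0 n208154 = n196339 := d17_2 (iv1 F366069) D208154 F400390 F371334 F361997 (iv0 F330918) F319763 F336050 (iv4 F209558)
theorem F448142 : act 1 n208154 = n188117 := d17_6 F447113 F336103 F343457 (iv5 F249924) F366068 D208154 (iv5 F418547) F418550 (iv4 F447111)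
def n208155 : Q := act 6 n133468
theorem D208155 : act 6 n133468 = n208155 := rfl
theorem F448143 : act 3 n208155 = n133469 := d7_1 D208155 (iv6 D133469) D133468
theorem F448144 : act 4 n208155 = n207782 := d10_1 D208155 (iv6 D207782) (iv4 F214644)
theorem F448145 : act 5 n208155 = n207360 := d21_6 (iv5 F377651) F377652 (iv5 F376889) (iv6 F418593) (iv1 F418594) D208155 (iv1 F444525) (iv5 D200917) F366030 (iv1 F217928)
theorem F448146 : act 0 n146889 = n208155 := d21_4 (iv5 F371143) (iv1 F145632) F144897 D146889 (iv6 D208155) F335159 (iv1 F229133) (iv5 F371305) (iv6 D187719) (iv1 F371142)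
def n208156 : Q := act 5 n133469
theorem D208156 : act 5 n133469 = n208156 := rfl
theorem F448147 : act 2 n208156 = n207265 := d2_1 D208156 (iv5 D207265) (iv2 F214646)
theorem F448148 : act 3 n208156 = n207360 := d6_1 D208156 (iv5 F448145) F448143
theorem F448149 : act 7 n208156 = n207962 := d13_2 F371336 D208156 F447170
theorem F448150 : act 4 n208156 = n199808 := d16_2 (iv4 F214647) D208156 F415057 F415054 (iv5 F366952) F256745 (iv5 F281338) (iv7 D180749) (iv2 F315272)
theorem F448151 : act 0 n208156 = n207964 := d17_2 (iv1 F362466) D208156 F447176 F213272 (iv5 F213296) (iv0 F334635) F319755 D133538 F334642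
theorem F448152 : act 1 n208156 = n207956 := d17_6 F441567 F441565 (iv1 D162571) (iv5 F315273) (iv4 F214647) D208156 (iv5 D207956) F362103 (iv4 F395833)
def n208157 : Q := act 7 n133479
theorem D208157 : act 7 n133479 = n208157 := rfl
theorem F448153 : act 2 n208157 = n152510 := d4_1 D208157 F359196 (iv2 F214662)
theorem F448154 : act 3 n208157 = n188579 := d8_1 D208157 F374058 (iv3 F370320)
theorem F448155 : act 5 n208157 = n146848 := d13_1 D208157 (iv7 F361693) (iv5 F214663)
theorem F448156 : act 6 n208157 = n207271 := d14_1 D208157 (iv7 D207271) (iv6 D130696) F97730 D133479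
theorem F448157 : act 1 n152513 = n208157 := d15_1 F327114 (iv7 D208157) F214662
theorem F448158 : act 1 n208157 = n152278 := d15_1 F448157 (iv7 F370539) F370537
def n208158 : Q := act 0 n133502
theorem D208158 : act 0 n133502 = n208158 := rfl
theorem F448159 : act 5 n208158 = n136554 := d17_3 (iv1 F394000) F218649 D208158 F404935 F404929 F221713 F405198 (iv0 D197569) (iv4 F338900)
theorem F448160 : act 4 n208158 = n193271 := d18_1 D208158 (iv1 D193271) F156252 (iv5 F140493) (iv4 F373346) (iv0 F405193) F405191 F393996 F218649
theorem F448161 : act 1 n183929 = n208158 := d15_0 (iv0 D208158) F214691 F352688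
theorem F448162 : act 2 n205081 = n208158 := d1_3 F448160 F405201 (iv4 F434903)
def n208159 : Q := act 1 n133502
theorem D208159 : act 1 n133502 = n208159 := rfl
theorem F448163 : act 7 n208159 = n205081 := d15_2 (iv0 D208158) D208159 F448162
theorem F448164 : act 4 n208159 = n193270 := d17_9 F407604 (iv5 D198322) D198321 F434541 F434538 F393998 F393996 F218649 D208159
theorem F448165 : act 6 n203032 = n208159 := d21_9 (iv5 F218649) (iv1 F393996) (iv5 F393998) F338932 (iv1 F99597) D64721 (iv5 F329159) (iv1 F394307) (iv5 F426705) (iv1 D208159)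
theorem F448166 : act 2 n208159 = n205080 := d3_1 F448165 F434901 F426706
theorem F448167 : act 5 n208159 = n136555 := d12_1 F448165 (iv6 F440156) (iv5 D206303) (iv6 F394310) (iv5 F426705)
theorem F448168 : act 0 n183929 = n208159 := d21_4 F75831 (iv1 F291921) (iv5 F293044) D183929 (iv6 F448165) F426705 (iv1 D194739) (iv5 D104250) (iv6 D48241) D48238
theorem F448169 : act 7 n208158 = n205080 := d15_2 (iv0 F448168) F448161 (iv2 F448166)
def n208160 : Q := act 2 n133502
theorem D208160 : act 2 n133502 = n208160 := rfl
theorem F448170 : act 3 n208160 = n205084 := d0_2 D133502 D208160 (iv2 D205084) (iv3 D125463) F97751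
theorem F448171 : act 4 n208160 = n134836 := d1_2 (iv4 F214690) D208160 (iv2 D134836)
theorem F448172 : act 5 n208160 = n194662 := d2_2 F218649 D208160 F394001
theorem F448173 : act 7 n208160 = n183929 := d4_2 (iv7 F214691) D208160 (iv2 F352688)
theorem F448174 : act 1 n208160 = n205080 := d15_0 (iv0 D205080) (iv7 F214691) D208160
theorem F448175 : act 1 n205081 = n208160 := d15_0 F448174 (iv7 F448169) (iv2 F448162)
def n208161 : Q := act 3 n133503
theorem D208161 : act 3 n133503 = n208161 := rfl
theorem F448176 : act 4 n208161 = n144319 := d5_2 (iv4 F314413) D208161 (iv3 F404448) F404446 F201225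
theorem F448177 : act 7 n208161 = n206535 := d8_2 F221563 D208161 F441211
theorem F448178 : act 2 n206534 = n208161 := d4_3 F448177 F441214 (iv7 F441217)
def n208162 : Q := act 3 n133518
theorem D208162 : act 3 n133518 = n208162 := rfl
theorem F448179 : act 2 n208162 = n201042 := d0_1 D208162 F418851 (iv2 F216632) F319743 (iv2 F319738)
theorem F448180 : act 4 n208162 = n134111 := d5_2 (iv4 F319739) D208162 F327810 F327310 F319737
theorem F448181 : act 5 n208162 = n173672 := d6_2 (iv5 F319740) D208162 (iv3 D173672)
theorem F448182 : act 6 n208162 = n189400 := d7_2 F377378 D208162 (iv3 F377376)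
theorem F448183 : act 7 n208162 = n137371 := d8_2 (iv7 F319741) D208162 F324636
theorem F448184 : act 0 n208162 = n201041 := d19_4 (iv1 F72461) D75368 (iv4 F319739) D208162 F418847 F368674 F368670 (iv1 F339494) (iv5 F331619) F216300 (iv3 F212759) (iv1 F213180) D132984 F315978 D181034 (iv1 F342015) (iv5 F313737) (iv4 F316227) F316226
theorem F448185 : act 0 n201021 = n208162 := d20_4 (iv4 F165905) D197012 F402684 D201021 (iv3 D208162) F319739 F298292 (iv4 F316620) (iv3 F355238) (iv1 D113609)
def n208163 : Q := act 3 n133532
theorem D208163 : act 3 n133532 = n208163 := rfl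
theorem F448186 : act 4 n208163 = n133534 := d5_2 D133532 D208163 (iv3 D133534) (iv4 D62669) D62668
theorem F448187 : act 7 n208163 = n137401 := d8_2 (iv7 F330939) D208163 F220612
theorem F448188 : act 0 n208163 = n203936 := d20_10 (iv4 D203936) D203935 F430474 F405044 (iv1 F444148) (iv3 D207285) (iv4 F212107) F214794 D133532 D208163
def n208164 : Q := act 6 n133534
theorem D208164 : act 6 n133534 = n208164 := rfl
theorem F448189 : act 3 n208164 = n133536 := d7_1 D208164 (iv6 D133536) D133534
theorem F448190 : act 0 n208164 = n201679 := d21_4 D115131 F335488 (iv5 F329172) D208164 (iv6 D201679) F318943 D146342 (iv5 F355711) (iv6 F336802) (iv1 D115129)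
theorem F448191 : act 0 n207249 = n208164 := d21_4 (iv5 F373763) F376462 (iv5 F376461) (iv6 F443963) (iv6 D208164) F329172 F335490 (iv5 F336798) F336799 (iv1 F288108)
theorem F448192 : act 4 n201679 = n187771 := d20_0 (iv1 D187771) (iv4 F371404) (iv3 D187752) D187750 (iv3 F371398) (iv4 F334642) (iv1 D133538) (iv4 F214815) (iv3 F448189) F448190
theorem F448193 : act 2 n187771 = n207295 := d1_1 F448192 (iv4 F448093) F448092
theorem F448194 : act 6 n187771 = n201678 := d10_2 D201679 F448192 (iv4 D201678)
def n208165 : Q := act 5 n133536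
theorem D208165 : act 5 n133536 = n208165 := rfl
theorem F448195 : act 2 n208165 = n201617 := d2_1 D208165 F421157 (iv2 F214814)
theorem F448196 : act 6 n208165 = n201615 := d12_2 D133536 D208165 (iv5 D201615) F335495 F319751
theorem F448197 : act 7 n208165 = n188967 := d13_2 F374861 D208165 F375267
theorem F448198 : act 1 n208165 = n188910 := d17_6 (iv1 D132780) F319565 (iv1 F330899) F319755 (iv4 F214815) D208165 (iv5 F443238) (iv0 F443240) F330898
def n208166 : Q := act 4 n133572
theorem D208166 : act 4 n133572 = n208166 := rfl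
theorem F448199 : act 2 n208166 = n143459 := d1_1 D208166 F341574 (iv2 F314618)
theorem F448200 : act 3 n208166 = n204324 := d5_1 D208166 F432046 (iv3 F434698) F434695 F420465
theorem F448201 : act 5 n208166 = n143457 := d9_2 (iv5 F314619) D208166 F321914 D159900 (iv4 F341185) (iv5 D145005) F319484 (iv5 F314623) (iv4 F426748) (iv5 D203041) (iv4 F343311) (iv5 F420242) (iv4 D201377) (iv5 D114394) F316817
theorem F448202 : act 6 n208166 = n192052 := d10_2 F316897 D208166 F385353
theorem F448203 : act 7 n208166 = n148014 := d11_2 (iv7 F314620) D208166 (iv4 D148014)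
theorem F448204 : act 1 n208166 = n193525 := d18_6 F353661 F187251 F319334 F316817 (iv5 F314619) D208166 (iv4 F390168) F434733 F434729
def n208167 : Q := act 3 n133576
theorem D208167 : act 3 n133576 = n208167 := rfl
theorem F448205 : act 4 n208167 = n205026 := d5_2 D133576 D208167 (iv3 D205026) F316479 (iv3 D133575)
theorem F448206 : act 7 n208167 = n192085 := d8_2 F341561 D208167 F385481
theorem F448207 : act 0 n208167 = n193649 := d20_4 F97754 D62687 D133576 D208167 (iv3 D193649) F354509 (iv1 D176156) (iv4 F275400) F313971 F314590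
theorem F448208 : act 0 n197265 = n208167 := d18_2 D108059 D197265 F448205 F434673 (iv4 F404156) (iv0 D130541) (iv4 F167060) (iv0 F167076) (iv5 D108062)
def n208168 : Q := act 3 n133588
theorem D208168 : act 3 n133588 = n208168 := rfl
theorem F448209 : act 2 n208168 = n189003 := d0_1 D208168 (iv3 D189003) (iv2 F374379) (iv3 F374363) (iv2 F214906)
theorem F448210 : act 4 n208168 = n134792 := d5_2 D133588 D208168 F432849 (iv4 D204553) F358060
theorem F448211 : act 5 n208168 = n201474 := d6_2 (iv5 F214907) D208168 (iv3 D201474)
theorem F448212 : act 7 n208168 = n207331 := d8_2 (iv7 F214908) D208168 (iv3 D207331)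
theorem F448213 : act 0 n192531 = n208168 := d20_4 (iv4 D98100) D98098 D191341 (iv3 F386983) (iv3 D208168) (iv4 D133588) (iv1 F314235) D204318 F432015 F284727
theorem F448214 : act 6 n208168 = n197025 := d21_5 (iv5 D46827) D46825 D100352 D192531 F448213 (iv5 D197025) (iv1 F238343) (iv5 F387000) (iv6 D192537) (iv1 D100360)
theorem F448215 : act 0 n201474 = n151941 := d21_1 F448211 (iv5 F250991) (iv6 D159397) (iv1 F154340) F154338 (iv5 D46827) D46825 D100352 D192531 F448213
def n208169 : Q := act 6 n133588
theorem D208169 : act 6 n133588 = n208169 := rfl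
theorem F448216 : act 2 n208169 = n207221 := d3_1 D208169 (iv6 D207221) (iv2 F214906)
theorem F448217 : act 3 n208169 = n197025 := d7_1 D208169 (iv6 F448214) (iv3 D208168)
theorem F448218 : act 4 n208169 = n133589 := d10_1 D208169 (iv6 D133589) D133588
theorem F448219 : act 5 n208169 = n197024 := d12_1 D208169 (iv6 F435917) F435918 (iv6 D201475) (iv5 F214907)
theorem F448220 : act 0 n208169 = n136675 := d21_4 (iv5 D119105) (iv1 F178685) (iv5 F214907) D208169 F362775 (iv5 D135562) (iv1 F99105) (iv5 F217415) (iv6 F352118) F215048
theorem F448221 : act 0 n201246 = n208169 := d21_4 F178135 (iv1 F142212) (iv5 F177972) D201246 (iv6 D208169) F214907 F178684 (iv5 F333555) (iv6 D115074) F178138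
def n208170 : Q := act 0 n133589
theorem D208170 : act 0 n133589 = n208170 := rfl
def n208171 : Q := act 1 n133589
theorem D208171 : act 1 n133589 = n208171 := rfl
theorem F448222 : act 5 n208171 = n192085 := d18_9 F385483 F403613 (iv1 D197222) (iv4 F201750) F201751 D136675 (iv0 F448220) F448218 D208171
theorem F448223 : act 3 n192086 = n208171 := d19_19 (iv1 D208171) F358058 F219587 D205926 F438453 (iv5 D199336) (iv4 F386699) F386698 (iv1 F246451) (iv5 F338240) (iv4 F278772) F227909 (iv1 F104611) F155147 (iv4 F131802) F305160 (iv1 F197402) F337494 (iv4 F385485)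
theorem F448224 : act 4 n151225 = n208171 := d20_6 F238576 (iv1 F311992) D192064 (iv3 F431428) F431431 F419033 (iv1 D208171) (iv4 F448218) F448217 F402732
theorem F448225 : act 6 n151224 = n208171 := d21_3 D201506 F420763 F379628 (iv1 D208171) (iv6 D133589) (iv5 D62693) D62691 D133583 (iv6 F392545) F392548
def n208172 : Q := act 7 n133589
theorem D208172 : act 7 n133589 = n208172 := rfl
theorem F448226 : act 3 n208172 = n193650 := d8_1 D208172 F390560 F358059
theorem F448227 : act 5 n208172 = n197321 := d13_1 D208172 F403963 (iv5 F358058)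
theorem F448228 : act 6 n208172 = n207336 := d14_1 D208172 (iv7 D207336) (iv6 D130872) (iv7 F97808) D133589
def n208173 : Q := act 3 n133590
theorem D208173 : act 3 n133590 = n208173 := rfl
theorem F448229 : act 2 n208173 = n197185 := d0_1 D208173 F403442 (iv2 F239010) F239822 (iv2 F239821)
theorem F448230 : act 6 n208173 = n192581 := d7_2 F429497 D208173 F429494
theorem F448231 : act 7 n208173 = n149470 := d8_2 F351917 D208173 F235086
theorem F448232 : act 0 n208173 = n191897 := d20_4 F210756 D131489 (iv4 F215546) D208173 F384728 F338811 (iv1 F242130) F306106 (iv3 F196809) F308200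
theorem F448233 : act 0 n191894 = n208173 := d20_4 F270558 (iv1 F307461) D135433 (iv3 F384708) (iv3 D208173) F215546 F381155 F381154 F371285 (iv1 F366863)
def n208174 : Q := act 5 n133590
theorem D208174 : act 5 n133590 = n208174 := rfl
theorem F448234 : act 2 n208174 = n192069 := d2_1 D208174 F385420 (iv2 F239821)
theorem F448235 : act 7 n208174 = n204081 := d13_2 F351917 D208174 (iv5 D204081)
theorem F448236 : act 0 n208174 = n204596 := d17_2 D133590 D208174 (iv5 D204596) F304177 F305745 (iv0 F304072) F304075 (iv0 D62695) (iv4 F97809)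
theorem F448237 : act 1 n208174 = n192826 := d17_6 (iv1 D191509) F351944 (iv1 F350956) (iv5 F339376) (iv4 F215546) D208174 (iv5 D192826) F385345 F385341
def n208175 : Q := act 3 n133639
theorem D208175 : act 3 n133639 = n208175 := rfl
theorem F448238 : act 2 n208175 = n186253 := d0_1 D208175 (iv3 D186253) (iv2 F352835) (iv3 D133641) (iv2 F215035)
theorem F448239 : act 4 n208175 = n159989 := d5_2 D133639 D208175 (iv3 F365582) (iv4 D131293) (iv3 F97851)
theorem F448240 : act 5 n208175 = n207393 := d6_2 (iv5 F215037) D208175 (iv3 D207393)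
theorem F448241 : act 7 n208175 = n201471 := d8_2 (iv7 F215036) D208175 (iv3 D201471)
theorem F448242 : act 1 n151573 = n208175 := d18_6 (iv1 F193590) (iv4 F253051) (iv1 D151558) F107992 D71450 D151573 F448239 F430464 F430463
def n208176 : Q := act 5 n133641
theorem D208176 : act 5 n133641 = n208176 := rfl
theorem F448243 : act 2 n208176 = n186255 := d2_1 D208176 (iv5 D186255) (iv2 F352835)
theorem F448244 : act 3 n208176 = n133642 := d6_1 D208176 (iv5 D133642) D133641
theorem F448245 : act 6 n208176 = n207964 := d12_2 F443293 D208176 F447176 F213273 (iv5 F443292)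
theorem F448246 : act 7 n208176 = n186260 := d13_2 (iv7 F352836) D208176 (iv5 D186260)
theorem F448247 : act 1 n208176 = n199797 := d17_6 (iv1 F214532) (iv5 F352897) (iv1 D112863) (iv5 F97860) (iv4 F215043) D208176 (iv5 F413542) F377605 F375385
theorem F448248 : act 0 n208176 = n201300 := d21_1 D208176 F419918 (iv6 D200368) F355665 (iv6 D88791) F63896 F31958 D41362 D88621 (iv1 F353356)
theorem F448249 : act 4 n208176 = n204210 := d20_8 F172604 (iv1 F329525) F337473 F81282 D51521 D111748 D199797 (iv1 F448247) (iv3 D204210) (iv1 F329127)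
def n208177 : Q := act 3 n133645
theorem D208177 : act 3 n133645 = n208177 := rfl
theorem F448250 : act 2 n208177 = n189492 := d0_1 D208177 (iv3 D189492) F144811 D95984 F333583
theorem F448251 : act 4 n208177 = n199982 := d5_2 (iv4 F333578) D208177 F414462 F378497 F225747
theorem F448252 : act 6 n208177 = n145969 := d7_2 (iv6 F333579) D208177 (iv3 D145969)
theorem F448253 : act 7 n208177 = n190397 := d8_2 F444135 D208177 (iv3 F444132)
theorem F448254 : act 0 n208177 = n133646 := d20_4 (iv4 D135809) F329183 (iv4 F333578) D208177 F215052 (iv4 F211231) D207471 F445081 F444813 (iv1 F444811)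
theorem F448255 : act 1 n208177 = n158119 := d15_1 (iv0 F448254) (iv7 F327741) F333568
def n208178 : Q := act 7 n133646
theorem D208178 : act 7 n133646 = n208178 := rfl
theorem F448256 : act 2 n208178 = n158119 := d4_1 D208178 (iv7 F327741) F333568
theorem F448257 : act 3 n208178 = n133665 := d8_1 D208178 (iv7 D133665) (iv3 F215052)
theorem F448258 : act 4 n208178 = n158116 := d11_1 D208178 (iv7 F327736) (iv4 F333567)
theorem F448259 : act 5 n208178 = n133647 := d13_1 D208178 (iv7 D133647) D133646
theorem F448260 : act 6 n208178 = n191847 := d14_1 D208178 F384584 (iv6 D118533) (iv7 F97859) (iv6 F215053)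
theorem F448261 : act 1 n189492 = n208178 := d15_1 (iv0 F376689) (iv7 D208178) (iv2 F333568)
theorem F448262 : act 1 n208178 = n190397 := d15_1 F448261 (iv7 F448253) F448250
def n208179 : Q := act 6 n133651
theorem D208179 : act 6 n133651 = n208179 := rfl
theorem F448263 : act 2 n208179 = n133652 := d3_1 D208179 (iv6 D133652) D133651
theorem F448264 : act 4 n208179 = n186256 := d10_1 D208179 (iv6 D186256) (iv4 F352837)
theorem F448265 : act 5 n208179 = n174712 := d21_6 F112909 F63806 F293606 D94353 F352938 D208179 (iv1 D174712) F128579 (iv6 D75311) D75309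
def n208180 : Q := act 0 n133652
theorem D208180 : act 0 n133652 = n208180 := rfl
theorem F448266 : act 4 n208180 = n188527 := d18_3 F444072 F443291 D208180 F373812 (iv4 D130814) (iv0 D61364) (iv4 F95802) D130692 D207270
theorem F448267 : act 3 n208180 = n187402 := d20_5 (iv4 D133662) (iv1 D62735) (iv4 F97862) (iv3 F215065) D208180 F370197 (iv1 F324246) F254509 (iv3 F287968) (iv1 F376681)
theorem F448268 : act 6 n188525 = n208180 := d10_0 F448266 (iv6 D188527) D188525
def n208181 : Q := act 1 n133652
theorem D208181 : act 1 n133652 = n208181 := rfl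
theorem F448269 : act 3 n189763 = n208181 := d20_3 F379695 F377102 (iv4 F377663) (iv1 D208181) F215065 F97862 D62734 D133658 (iv3 F376737) (iv1 F379697)
theorem F448270 : act 4 n207318 = n208181 := d20_6 (iv4 F428314) (iv1 F428316) (iv4 D135623) (iv3 F218089) (iv1 F376449) (iv3 F444312) (iv1 D208181) (iv4 F443291) F443290 F333558
theorem F448271 : act 6 n202857 = n208181 := d21_3 F357468 F222580 D202857 (iv1 D208181) (iv6 D133652) F97860 D112862 F352959 F356092 (iv1 F356091)
def n208182 : Q := act 5 n133652
theorem D208182 : act 5 n133652 = n208182 := rfl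
theorem F448272 : act 2 n208182 = n174712 := d2_1 D208182 (iv5 F448265) F448263
theorem F448273 : act 3 n208182 = n133655 := d6_1 D208182 (iv5 D133655) (iv3 F215065)
theorem F448274 : act 6 n208182 = n200231 := d12_2 D133652 D208182 (iv5 D200231) (iv6 D112865) (iv5 F97860)
theorem F448275 : act 7 n208182 = n174711 := d13_2 (iv7 F443288) D208182 (iv5 F443287)
theorem F448276 : act 4 n208182 = n203695 := d16_2 F443291 D208182 (iv5 D203695) F341827 (iv5 D130130) (iv4 F208636) D207086 F443255 (iv2 F443289)
theorem F448277 : act 0 n208182 = n173335 := d17_2 (iv1 D208181) D208182 F271777 (iv4 F292790) (iv5 F135586) D185888 (iv5 F392312) (iv0 F444314) F448270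
theorem F448278 : act 1 n208182 = n174713 := d17_6 (iv1 F369285) (iv5 F377696) (iv1 F377697) (iv5 F443292) F443291 D208182 F273558 F276115 F369283
def n208183 : Q := act 3 n133653
theorem D208183 : act 3 n133653 = n208183 := rfl
theorem F448279 : act 4 n208183 = n199861 := d5_2 (iv4 F409408) D208183 (iv3 D199861) F402359 (iv3 D196935)
theorem F448280 : act 0 n208183 = n176914 := d20_4 F165811 D107479 (iv4 F409408) D208183 (iv3 F291650) (iv4 D94447) D94445 F359560 F402352 (iv1 D196933)
def n208184 : Q := act 5 n133653
theorem D208184 : act 5 n133653 = n208184 := rfl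
def n208185 : Q := act 6 n133653
theorem D208185 : act 6 n133653 = n208185 := rfl
theorem F448281 : act 4 n208185 = n196937 := d10_1 D208185 (iv6 D196937) (iv4 F409408)
theorem F448282 : act 5 n208185 = n208087 := d21_6 (iv5 D25297) D25294 (iv5 F47691) D62733 D133653 D208185 (iv1 D208087) (iv5 D133376) (iv6 D62596) F47521
def n208186 : Q := act 5 n133654
theorem D208186 : act 5 n133654 = n208186 := rfl
theorem F448283 : act 3 n208186 = n202784 := d6_1 D208186 (iv5 D202784) (iv3 F331462)
theorem F448284 : act 6 n208186 = n202783 := d12_2 F331461 D208186 (iv5 D202783) (iv6 D116972) D116971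
def n208187 : Q := act 0 n133655
theorem D208187 : act 0 n133655 = n208187 := rfl
def n208188 : Q := act 1 n133655
theorem D208188 : act 1 n133655 = n208188 := rfl
theorem F448285 : act 1 n208188 = n194749 := d15_1 D208188 (iv7 F409416) F409413
theorem F448286 : act 6 n164402 = n208188 := d21_3 F379237 F290520 D164402 (iv1 D208188) F215066 (iv5 D112866) (iv1 F175771) D200226 F415607 (iv1 F379239)
theorem F448287 : act 5 n207182 = n208188 := d21_6 (iv5 D61257) (iv1 D29000) D29002 D61263 D130580 D207182 (iv1 D208188) (iv5 D133655) (iv6 D62733) (iv1 F95734)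
theorem F448288 : act 4 n208188 = n190040 := d10_1 F448286 (iv6 D190040) (iv4 F290521)
def n208189 : Q := act 4 n133655
theorem D208189 : act 4 n133655 = n208189 := rfl
theorem F448289 : act 3 n208189 = n190908 := d5_1 D208189 (iv4 F433328) F433327 (iv4 F448276) F448273
theorem F448290 : act 6 n208189 = n200232 := d10_2 (iv6 F215066) D208189 (iv4 D200232)
def n208190 : Q := act 7 n133655
theorem D208190 : act 7 n133655 = n208190 := rfl
theorem F448291 : act 2 n208190 = n194749 := d4_1 D208190 (iv7 F409416) F409413
theorem F448292 : act 3 n208190 = n174711 := d8_1 D208190 (iv7 F448275) F448273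
theorem F448293 : act 5 n208190 = n133656 := d13_1 D208190 (iv7 D133656) D133655
theorem F448294 : act 6 n208190 = n194747 := d14_1 D208190 F394338 (iv6 F381258) (iv7 F226774) (iv6 F215066)
theorem F448295 : act 1 n194749 = n208187 := d15_0 (iv0 D208187) D208190 F448291
def n208191 : Q := act 5 n133657
theorem D208191 : act 5 n133657 = n208191 := rfl
theorem F448296 : act 3 n208191 = n133659 := d6_1 D208191 (iv5 D133659) D133657
theorem F448297 : act 7 n208191 = n198972 := d13_2 F377294 D208191 F410112
theorem F448298 : act 4 n208191 = n195976 := d16_2 (iv4 F376742) D208191 F398931 F391870 F157822 (iv4 F144867) (iv5 F376256) F376257 F366994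
theorem F448299 : act 0 n208191 = n189686 := d17_2 (iv1 F376741) D208191 (iv5 D189686) (iv4 D94336) F292544 D89659 D187168 F369317 F360285
def n208192 : Q := act 6 n133657
theorem D208192 : act 6 n133657 = n208192 := rfl
theorem F448300 : act 3 n208192 = n133660 := d7_1 D208192 (iv6 D133660) D133657
theorem F448301 : act 5 n208192 = n200146 := d21_6 F78508 (iv1 F52226) D33071 D71482 (iv1 F376741) D208192 F421295 F183732 (iv6 D71485) (iv1 F78511)
def n208193 : Q := act 5 n133658
theorem D208193 : act 5 n133658 = n208193 := rfl
def n208194 : Q := act 6 n133658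
theorem D208194 : act 6 n133658 = n208194 := rfl
theorem F448302 : act 3 n208194 = n198507 := d7_1 D208194 (iv6 F408167) F376737
theorem F448303 : act 4 n208194 = n133660 := d10_1 D208194 (iv6 D133660) D133658
theorem F448304 : act 5 n198506 = n208194 := d16_3 F148259 D160856 (iv4 F408163) F448303 F215070 D200147 (iv5 F415241) (iv7 F380460) (iv2 D190654)
theorem F448305 : act 0 n198506 = n200311 := d21_7 (iv5 D25349) (iv1 F38207) D49979 D108217 F376743 D208194 (iv5 F448304) (iv5 D200311) (iv6 D112972) F82429
def n208195 : Q := act 4 n133661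
theorem D208195 : act 4 n133661 = n208195 := rfl
theorem F448306 : act 2 n208195 = n189366 := d1_1 D208195 F376480 (iv2 F376678)
theorem F448307 : act 7 n208195 = n189488 := d11_2 (iv7 F376679) D208195 (iv4 D189488)
theorem F448308 : act 0 n189407 = n208195 := d20_7 (iv4 F97862) D133653 F409408 D196935 F402360 F377643 (iv4 F376548) (iv4 D208195) (iv3 D133661) (iv1 D62735)
def n208196 : Q := act 3 n133662
theorem D208196 : act 3 n133662 = n208196 := rfl
theorem F448309 : act 6 n208196 = n137133 := d7_2 (iv6 F419753) D208196 (iv3 F419754)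
theorem F448310 : act 0 n208196 = n200397 := d21_4 (iv5 F390838) (iv1 D137131) D137133 (iv6 F448309) (iv6 D200397) (iv5 D113068) D113064 (iv5 F396283) F396284 F396288
def n208197 : Q := act 5 n133662
theorem D208197 : act 5 n133662 = n208197 := rfl
def n208198 : Q := act 6 n133663
theorem D208198 : act 6 n133663 = n208198 := rfl
theorem F448311 : act 2 n208198 = n206654 := d3_1 D208198 F441753 F373807
theorem F448312 : act 3 n208198 = n189345 := d7_1 D208198 F392296 (iv3 F392289)
theorem F448313 : act 4 n208198 = n206471 := d10_1 D208198 F440987 (iv4 F373808)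
theorem F448314 : act 0 n208198 = n195977 := d21_4 (iv5 F420343) F448024 F448022 D208198 (iv6 D195977) (iv5 F177013) (iv1 F227672) (iv5 F410128) F410129 (iv1 F410115)
theorem F448315 : act 5 n208198 = n159658 := d21_6 (iv5 D24059) F23557 D29674 (iv6 F97863) D133663 D208198 (iv1 D159658) F114504 (iv6 D49699) (iv1 F37997)
theorem F448316 : act 7 n206651 = n208198 := d13_0 F448315 F444290 (iv5 F441741)
def n208199 : Q := act 6 n133664
theorem D208199 : act 6 n133664 = n208199 := rfl
theorem F448317 : act 3 n208199 = n194143 := d7_1 D208199 F392186 F373751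
theorem F448318 : act 5 n208199 = n194142 := d12_1 D208199 (iv6 F416094) (iv5 D200348) D200349 F416097
theorem F448319 : act 1 n203918 = n208199 := d17_6 F359232 (iv5 D109515) D109512 F347760 (iv4 F347755) D203918 F448318 F399496 F399494
theorem F448320 : act 0 n151644 = n208199 := d21_10 F448318 F392183 F376344 (iv6 F360345) (iv1 F369390) (iv6 F369392) (iv5 F371934) F398941 (iv5 D195979) (iv6 F342970)
def n208200 : Q := act 2 n133671
theorem D208200 : act 2 n133671 = n208200 := rfl
theorem F448321 : act 3 n208200 = n151986 := d0_2 D133671 D208200 (iv2 F316790) F316791 (iv2 F314885)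
theorem F448322 : act 4 n208200 = n197178 := d1_2 (iv4 F215092) D208200 (iv2 D197178)
theorem F448323 : act 5 n208200 = n191761 := d2_2 F444374 D208200 (iv2 F444372)
theorem F448324 : act 6 n208200 = n175485 := d3_2 F434167 D208200 (iv2 F434166)
theorem F448325 : act 7 n208200 = n160095 := d4_2 F314895 D208200 F252669
theorem F448326 : act 1 n208200 = n177818 := d15_0 (iv0 F363203) F314895 D208200
theorem F448327 : act 1 n177823 = n208200 := d15_0 F448326 (iv7 F281958) F281969
def n208201 : Q := act 5 n133672
theorem D208201 : act 5 n133672 = n208201 := rfl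
theorem F448328 : act 2 n208201 = n204317 := d2_1 D208201 F432013 F348265
theorem F448329 : act 3 n208201 = n192554 := d6_1 D208201 F434168 (iv3 F434165)
theorem F448330 : act 7 n208201 = n204159 := d13_2 (iv7 F348262) D208201 (iv5 D204159)
theorem F448331 : act 0 n208201 = n203759 := d17_2 (iv1 F348261) D208201 (iv5 D203759) (iv4 F381140) F381141 (iv0 D119623) (iv5 F95895) (iv0 F209432) (iv4 F348254)
theorem F448332 : act 0 n204315 = n208201 := d21_7 D119160 (iv1 F214902) (iv5 D133586) D133587 F309756 D192853 (iv5 F432009) (iv5 D208201) (iv6 D133672) (iv1 F97873)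
def n208202 : Q := act 3 n133675
theorem D208202 : act 3 n133675 = n208202 := rfl
theorem F448333 : act 4 n208202 = n134802 := d5_2 D133675 D208202 F447182 (iv4 D207965) F213281
theorem F448334 : act 5 n208202 = n201471 := d6_2 (iv5 F215101) D208202 (iv3 D201471)
theorem F448335 : act 7 n208202 = n207393 := d8_2 (iv7 F215102) D208202 (iv3 D207393)
theorem F448336 : act 0 n208202 = n159397 := d21_1 (iv5 F448334) F250991 (iv6 D151941) (iv1 F114856) (iv6 F334831) F334830 (iv1 F307828) F312177 (iv6 F251570) F430456
def n208203 : Q := act 6 n133675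
theorem D208203 : act 6 n133675 = n208203 := rfl
theorem F448337 : act 2 n208203 = n204515 := d3_1 D208203 (iv6 D204515) F314906
theorem F448338 : act 4 n208203 = n133676 := d10_1 D208203 (iv6 D133676) D133675
theorem F448339 : act 5 n208203 = n135560 := d12_1 D208203 (iv6 F218299) (iv5 F420639) (iv6 D201472) (iv5 F215101)
theorem F448340 : act 7 n208203 = n135559 := d14_2 (iv7 F215102) D208203 F217982 D135568 F352117
theorem F448341 : act 0 n192798 = n208203 := d21_4 F143227 F295157 (iv5 F154815) D192798 (iv6 D208203) F215101 F178679 D195987 F398973 F370816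
def n208204 : Q := act 0 n133676
theorem D208204 : act 0 n133676 = n208204 := rfl
def n208205 : Q := act 1 n133676
theorem D208205 : act 1 n133676 = n208205 := rfl
theorem F448342 : act 1 n208205 = n204519 := d15_1 D208205 (iv7 D204519) (iv2 F366747)
theorem F448343 : act 3 n199791 = n208205 := d19_19 (iv1 D208205) (iv5 F443059) F443058 F208189 D129845 D207052 F443130 F436573 F336080 (iv5 F330917) (iv4 F203939) F172257 (iv1 F172283) F165747 F104276 (iv3 F180512) (iv1 F180517) (iv5 F410209) D199791
theorem F448344 : act 7 n208205 = n204516 := d8_2 (iv7 F413520) F448343 F432786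
theorem F448345 : act 2 n204516 = n208204 := d15_3 (iv0 D208204) D208205 F448344
theorem F448346 : act 7 n204517 = n208204 := d15_2 (iv0 D204516) D204517 (iv2 F448345)
theorem F448347 : act 2 n208205 = n204517 := d4_3 F448346 (iv2 F448345) (iv7 F448344)
theorem F448348 : act 1 n204519 = n208204 := d15_1 F448342 (iv7 F448346) (iv2 F448347)
def n208206 : Q := act 7 n133676
theorem D208206 : act 7 n133676 = n208206 := rfl
theorem F448349 : act 2 n208206 = n204519 := d4_1 D208206 (iv7 D204519) (iv2 F366747)
theorem F448350 : act 4 n208206 = n135559 := d11_1 D208206 (iv7 F448340) F448338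
theorem F448351 : act 6 n208206 = n135567 := d14_1 D208206 (iv7 F352116) (iv6 D131161) (iv7 F97876) D133676
theorem F448352 : act 1 n204517 = n208206 := d15_1 D204517 (iv7 D208206) F366747
theorem F448353 : act 1 n208206 = n204516 := d15_1 F448352 (iv7 F448344) F448347
def n208207 : Q := act 3 n133693
theorem D208207 : act 3 n133693 = n208207 := rfl
theorem F448354 : act 2 n208207 = n194172 := d0_1 D208207 (iv3 D194172) F377425 (iv3 F355119) (iv2 F215144)
theorem F448355 : act 4 n208207 = n207380 := d5_2 D133693 D208207 (iv3 F444595) (iv4 D151940) F108127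
theorem F448356 : act 5 n208207 = n146543 := d6_2 (iv5 F335870) D208207 F229856
theorem F448357 : act 7 n208207 = n144998 := d8_2 (iv7 F215145) D208207 F341590
theorem F448358 : act 0 n208207 = n152442 := d19_4 F79111 D62758 D133693 D208207 (iv5 D152442) F327299 F59066 D38220 F298348 (iv4 D80414) (iv3 F296187) (iv1 F296559) F61585 (iv4 F59760) D39543 (iv1 F311866) (iv5 D29218) D29217 (iv3 F79109)
theorem F448359 : act 1 n208207 = n152447 := d15_1 (iv0 F448358) (iv7 F258956) (iv2 F258957)
theorem F448360 : act 6 n157396 = n208207 := d14_5 F448357 (iv6 D144998) (iv7 F183170) D202878 (iv7 F426001)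
def n208208 : Q := act 6 n133693
theorem D208208 : act 6 n133693 = n208208 := rfl
theorem F448361 : act 2 n208208 = n197175 := d3_1 D208208 (iv6 F403399) (iv2 F215144)
theorem F448362 : act 3 n208208 = n157396 := d7_1 D208208 F448360 (iv3 D208207)
theorem F448363 : act 4 n208208 = n133694 := d10_1 D208208 (iv6 D133694) D133693
theorem F448364 : act 5 n208208 = n146544 := d12_1 D208208 (iv6 D146544) (iv5 D68690) D68691 (iv5 F335870)
theorem F448365 : act 7 n208208 = n197174 := d14_2 (iv7 F215145) D208208 F425993 F425990 (iv6 F341591)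
theorem F448366 : act 0 n208208 = n197167 := d21_4 D133718 F313460 (iv5 F335870) D208208 (iv6 D197167) F166729 F78806 D76589 (iv6 F334831) (iv1 D133716)
theorem F448367 : act 1 n208208 = n197177 := d15_1 (iv0 F448366) (iv7 D197177) (iv2 F403362)
def n208209 : Q := act 1 n133694
theorem D208209 : act 1 n133694 = n208209 := rfl
theorem F448368 : act 1 n208209 = n147978 := d15_1 D208209 (iv7 F350241) (iv2 F215148)
theorem F448369 : act 7 n208209 = n207201 := d15_2 (iv0 F402752) D208209 F443775
theorem F448370 : act 4 n207203 = n208209 := d20_0 (iv1 D208209) (iv4 F448363) F448362 (iv1 D157396) F112349 (iv4 F164151) (iv1 F398952) (iv4 D195978) F342971 (iv1 F443787)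
theorem F448371 : act 6 n190453 = n208209 := d21_3 F147765 D190446 (iv5 F379803) (iv1 D208209) (iv6 D133694) (iv5 D62758) F52363 D71650 D151972 F375299
theorem F448372 : act 5 n147977 = n189351 := d21_2 (iv5 F237313) (iv1 F350247) (iv6 D189351) F349248 F365440 F147765 D190446 (iv5 F379803) F448371 (iv1 D208209)
theorem F448373 : act 2 n208209 = n207400 := d1_1 F448370 (iv4 F444700) (iv2 F443782)
theorem F448374 : act 3 n208209 = n200285 := d20_3 F398877 (iv1 F443787) F448370 (iv1 D200285) F175879 (iv4 F82443) D112996 F365008 F403392 F403390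
def n208210 : Q := act 7 n133694
theorem D208210 : act 7 n133694 = n208210 := rfl
theorem F448375 : act 2 n208210 = n147978 := d4_1 D208210 (iv7 F350241) (iv2 F215148)
theorem F448376 : act 4 n208210 = n197174 := d11_1 D208210 (iv7 F448365) F448363
theorem F448377 : act 5 n208210 = n147937 := d13_1 D208210 F350245 F237313
theorem F448378 : act 6 n208210 = n147940 := d14_1 D208210 (iv7 F353557) F162592 (iv7 F97905) D133694
theorem F448379 : act 1 n207400 = n208210 := d15_1 D207400 (iv7 D208210) F215148
theorem F448380 : act 1 n208210 = n207201 := d15_1 F448379 (iv7 F448369) F448373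
def n208211 : Q := act 6 n133702
theorem D208211 : act 6 n133702 = n208211 := rfl
theorem F448381 : act 2 n208211 = n144996 := d3_1 D208211 (iv6 F341591) (iv2 F215174)
theorem F448382 : act 3 n208211 = n194176 := d7_1 D208211 (iv6 D194176) F377417
theorem F448383 : act 4 n208211 = n133703 := d10_1 D208211 (iv6 D133703) D133702
theorem F448384 : act 5 n144995 = n208211 := d21_2 (iv5 D159900) (iv1 F343295) (iv6 D208211) F215176 F355756 F355754 (iv1 F140083) (iv5 F289196) F355757 F355697
theorem F448385 : act 7 n208211 = n147992 := d13_2 F353547 F448384 (iv5 F353535)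
theorem F448386 : act 0 n208211 = n201391 := d17_2 (iv1 F343295) F448384 F420304 (iv4 F341543) F341552 F319174 (iv5 F334861) (iv0 F341181) F321914
def n208212 : Q := act 0 n133703
theorem D208212 : act 0 n133703 = n208212 := rfl
theorem F448387 : act 5 n208212 = n201875 := d17_1 D208212 F422172 (iv5 F355205) (iv4 F355206) (iv5 D144940) D144938 (iv5 F420304) (iv0 F448386) F448383
theorem F448388 : act 4 n208212 = n195247 := d18_1 D208212 F396460 (iv4 F383036) F383040 F316812 F380356 F380353 F231752 (iv5 F314514)
theorem F448389 : act 3 n208212 = n142483 := d20_5 (iv4 F383033) (iv1 F398289) (iv4 D195811) (iv3 F215179) D208212 (iv4 D142483) (iv1 D66804) D66805 D142487 (iv1 F333381)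
theorem F448390 : act 6 n208212 = n201876 := d21_5 (iv5 D71650) (iv1 F54258) D62762 D133703 D208212 (iv5 D201876) F363718 (iv5 F403340) (iv6 D197162) F166726
theorem F448391 : act 1 n147940 = n208212 := d15_0 (iv0 D208212) F314515 (iv2 F231753)
theorem F448392 : act 2 n147991 = n208212 := d0_5 F448389 (iv2 F359847) (iv3 F376819) F376818 F359060
theorem F448393 : act 7 n147990 = n208212 := d8_0 F448389 (iv7 F330360) F355698
def n208213 : Q := act 1 n133703
theorem D208213 : act 1 n133703 = n208213 := rfl
theorem F448394 : act 1 n208213 = n147940 := d15_1 D208213 (iv7 F353557) (iv2 F215178)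
theorem F448395 : act 7 n208213 = n147991 := d15_2 (iv0 D208212) D208213 F448392
theorem F448396 : act 5 n208213 = n188556 := d17_7 (iv1 F314489) F318372 (iv1 D66472) (iv5 F314739) (iv4 F105601) (iv5 F314514) D208213 (iv0 F373942) (iv4 D143212)
theorem F448397 : act 3 n188557 = n208213 := d20_3 D194212 F392385 F376481 (iv1 D208213) F215179 D195811 (iv1 F410847) F410845 (iv3 F392368) (iv1 F392371)
theorem F448398 : act 6 n189265 = n208213 := d21_3 F376710 F372608 (iv5 F376256) (iv1 D208213) (iv6 D133703) (iv5 D62762) F79112 D108298 (iv6 F367578) (iv1 F376708)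
theorem F448399 : act 2 n208213 = n147990 := d3_1 F448398 (iv6 F377655) F377653
def n208214 : Q := act 0 n133719
theorem D208214 : act 0 n133719 = n208214 := rfl
theorem F448400 : act 5 n208214 = n197026 := d17_1 D208214 F402736 F379806 (iv4 F375297) F293771 F137482 F292542 (iv0 F157710) (iv4 F215226)
theorem F448401 : act 4 n208214 = n189496 := d18_3 (iv1 F293774) (iv4 F215226) D208214 F376710 F372606 F369299 (iv4 D102893) (iv0 D47721) D47724
theorem F448402 : act 3 n208214 = n201475 := d20_5 F147640 F147187 F147179 F331354 D208214 F420649 F363753 F363790 (iv3 D96021) D96019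
theorem F448403 : act 1 n190448 = n208214 := d15_0 (iv0 D208214) F331358 D190448
theorem F448404 : act 6 n201474 = n208214 := d7_0 F448402 (iv6 D201475) D201474
theorem F448405 : act 2 n190447 = n208214 := d1_3 F448401 (iv2 F376711) (iv4 F379790)
theorem F448406 : act 7 n190446 = n208214 := d11_0 F448401 F376709 (iv4 F379787)
def n208215 : Q := act 1 n133719
theorem D208215 : act 1 n133719 = n208215 := rfl
theorem F448407 : act 1 n208215 = n190448 := d15_1 D208215 F379792 F377150
theorem F448408 : act 7 n208215 = n190447 := d15_2 (iv0 D208214) D208215 F448405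
theorem F448409 : act 4 n208215 = n189495 := d17_9 (iv1 F376705) (iv5 D186658) F144820 D189494 F376702 (iv5 F397519) (iv0 F397524) F378574 D208215
theorem F448410 : act 2 n190446 = n208215 := d1_3 F448409 (iv2 F376706) (iv4 F379787)
def n208216 : Q := act 4 n133731
theorem D208216 : act 4 n133731 = n208216 := rfl
theorem F448411 : act 2 n208216 = n149331 := d1_1 D208216 (iv4 D149331) F307999
theorem F448412 : act 6 n208216 = n139159 := d10_2 (iv6 F215255) D208216 F314663
theorem F448413 : act 7 n208216 = n143115 := d11_2 (iv7 F306076) D208216 F335441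
theorem F448414 : act 0 n208216 = n143552 := d18_2 (iv1 F306075) D208216 F226255 D143561 F342548 F237176 F334081 F334085 F307962
theorem F448415 : act 3 n208216 = n192102 := d19_3 F306057 D133731 D208216 (iv1 D192102) (iv5 F368410) (iv4 F384288) F384287 (iv1 F367617) F367619 (iv4 F371132) F371131 (iv1 F143452) (iv5 F370328) (iv4 F420815) F420816 F344003 (iv5 F343997) (iv4 F306819) F306818
def n208217 : Q := act 1 n133758
theorem D208217 : act 1 n133758 = n208217 := rfl
theorem F448416 : act 1 n208217 = n176947 := d15_1 D208217 F361518 (iv2 F215319)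
theorem F448417 : act 7 n208217 = n177046 := d15_2 (iv0 F228259) D208217 F348271
theorem F448418 : act 4 n183394 = n208217 := d20_0 (iv1 D208217) (iv4 F348267) F348266 (iv1 D73168) (iv3 D33691) D33692 (iv1 F110492) (iv4 F92105) (iv3 F199433) (iv1 F348276)
theorem F448419 : act 3 n177036 = n208217 := d20_3 (iv4 F428764) F428766 (iv4 F276452) (iv1 D208217) F215320 F315267 D177127 (iv4 F350137) F350136 (iv1 F189775)
theorem F448420 : act 2 n208217 = n197170 := d0_1 F448419 (iv3 F403380) (iv2 F210372) (iv3 F343979) (iv2 F357092)
theorem F448421 : act 4 n206346 = n203599 := d18_1 (iv1 F440346) (iv1 D203599) F188673 (iv5 F95895) (iv4 F209451) F348275 F448418 F448416 (iv5 F349464)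
def n208218 : Q := act 5 n133775
theorem D208218 : act 5 n133775 = n208218 := rfl
theorem F448422 : act 2 n208218 = n179710 := d2_1 D208218 (iv5 D179710) (iv2 F313758)
theorem F448423 : act 3 n208218 = n179734 := d6_1 D208218 (iv5 D179734) (iv3 F313759)
theorem F448424 : act 7 n208218 = n204106 := d13_2 F427147 D208218 F431093
theorem F448425 : act 0 n208218 = n203986 := d17_2 F427137 D208218 (iv5 D203986) F302001 F317628 (iv0 F317624) (iv5 F107929) (iv0 F316802) D203142
theorem F448426 : act 1 n208218 = n203985 := d17_6 D81548 (iv5 F334133) (iv1 D118002) (iv5 F98044) (iv4 F215399) D208218 (iv5 D203985) (iv0 D122344) F89627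
def n208219 : Q := act 3 n133777
theorem D208219 : act 3 n133777 = n208219 := rfl
theorem F448427 : act 2 n208219 = n204332 := d0_1 D208219 F432081 F234105 D131262 (iv2 F234108)
theorem F448428 : act 5 n208219 = n206187 := d6_2 F424664 D208219 F439638
theorem F448429 : act 6 n208219 = n176958 := d7_2 (iv6 F333284) D208219 (iv3 D176958)
theorem F448430 : act 7 n208219 = n206245 := d8_2 (iv7 F234107) D208219 F439901
theorem F448431 : act 0 n208219 = n197169 := d20_4 F361486 F361482 (iv4 F332436) D208219 F403373 (iv4 F351639) D199578 F412744 (iv3 F235421) (iv1 F316796)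
theorem F448432 : act 4 n208219 = n203454 := d20_6 (iv4 D37381) D37379 (iv4 F297815) (iv3 F132893) (iv1 F332435) D208219 (iv1 D203454) F187494 F86780 F311950
theorem F448433 : act 0 n206195 = n208219 := d20_4 (iv4 F303286) D161849 F346977 D206195 (iv3 D208219) F332436 (iv1 D151962) F108134 (iv3 F108126) F314273
def n208220 : Q := act 6 n133821
theorem D208220 : act 6 n133821 = n208220 := rfl
theorem F448434 : act 2 n208220 = n166280 := d3_1 D208220 (iv6 F307830) F312176
theorem F448435 : act 3 n208220 = n203928 := d7_1 D208220 (iv6 D203928) (iv3 F312074)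
theorem F448436 : act 4 n208220 = n133822 := d10_1 D208220 (iv6 D133822) D133821
theorem F448437 : act 7 n208220 = n203157 := d14_2 (iv7 F215482) D208220 (iv6 D203157) F184820 (iv6 F312186)
theorem F448438 : act 0 n208220 = n146108 := d21_10 F231751 (iv1 D146576) (iv5 D68701) (iv6 D31966) D31963 D68691 (iv5 F335870) F215146 (iv5 F215483) D208220
theorem F448439 : act 0 n194284 = n208220 := d21_4 (iv5 F163390) D195820 F398321 (iv6 F392648) (iv6 D208220) F215483 (iv1 F215177) (iv5 F335874) F236570 F317051
def n208221 : Q := act 6 n133862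
theorem D208221 : act 6 n133862 = n208221 := rfl
theorem F448440 : act 3 n208221 = n133863 := d7_1 D208221 (iv6 D133863) D133862
theorem F448441 : act 4 n208221 = n203424 := d10_1 D208221 (iv6 F428247) F216689
theorem F448442 : act 5 n208221 = n166273 := d12_1 D208221 (iv6 F354096) F223254 (iv6 F321206) (iv5 F215584)
theorem F448443 : act 7 n208221 = n149003 := d14_2 (iv7 F215585) D208221 (iv6 D149003) (iv7 F234217) (iv6 F309719)
theorem F448444 : act 0 n208221 = n149220 := d21_4 (iv5 F239703) F315451 (iv5 F215584) D208221 (iv6 F234610) (iv5 F317374) F356227 F356226 (iv6 D175154) (iv1 F155132)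
def n208222 : Q := act 3 n133949
theorem D208222 : act 3 n133949 = n208222 := rfl
theorem F448445 : act 2 n208222 = n191422 := d0_1 D208222 F383445 F340977 (iv3 F333338) (iv2 F350183)
theorem F448446 : act 4 n208222 = n170643 := d5_2 (iv4 F340961) D208222 (iv3 F340969) (iv4 F340965) (iv3 F340962)
theorem F448447 : act 5 n208222 = n155403 := d6_2 (iv5 F343017) D208222 (iv3 D155403)
theorem F448448 : act 7 n208222 = n191423 := d8_2 (iv7 F350179) D208222 (iv3 F383455)
theorem F448449 : act 0 n208222 = n191424 := d20_4 (iv4 F317809) F317806 (iv4 F340961) D208222 F383459 F309311 (iv1 F312090) F262791 (iv3 F267525) (iv1 F267528)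
theorem F448450 : act 0 n184237 = n208222 := d20_4 F337177 (iv1 F351718) (iv4 F340796) (iv3 F286165) (iv3 D208222) F340961 (iv1 D133950) (iv4 F305909) (iv3 F324846) (iv1 F340958)
def n208223 : Q := act 0 n133972
theorem D208223 : act 0 n133972 = n208223 := rfl
theorem F448451 : act 5 n208223 = n198856 := d17_1 D208223 (iv1 F409597) D199510 F412464 F375345 F178060 (iv5 F178124) F419817 F419814
theorem F448452 : act 4 n208223 = n201758 := d18_1 D208223 (iv1 F421709) (iv4 F413276) (iv5 D199728) (iv4 F387409) (iv0 F387410) F360744 (iv0 D133969) D133972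
theorem F448453 : act 2 n199509 = n208223 := d15_3 (iv0 D208223) (iv0 F387851) (iv7 F412460)
theorem F448454 : act 1 n199559 = n208223 := d15_0 (iv0 D208223) F215900 D199559
theorem F448455 : act 7 n208223 = n199507 := d15_2 (iv0 F412669) F448454 F412451
def n208224 : Q := act 0 n133973
theorem D208224 : act 0 n133973 = n208224 := rfl
theorem F448456 : act 4 n208224 = n199082 := d18_1 D208224 (iv1 F410573) F173439 F81286 (iv4 F343111) (iv0 D108874) (iv4 F164790) (iv0 F361296) F216955
theorem F448457 : act 1 n199565 = n208224 := d15_0 (iv0 D208224) (iv7 F432658) F432656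
theorem F448458 : act 2 n199564 = n208224 := d1_3 F448456 (iv2 F410583) (iv4 F412685)
theorem F448459 : act 7 n198782 = n208224 := d11_0 F448456 F410582 (iv4 F409210)
def n208225 : Q := act 1 n133973
theorem D208225 : act 1 n133973 = n208225 := rfl
theorem F448460 : act 1 n208225 = n199565 := d15_1 D208225 (iv7 D199565) (iv2 F215901)
theorem F448461 : act 7 n208225 = n199564 := d15_2 (iv0 D208224) D208225 F448458
theorem F448462 : act 4 n208225 = n199083 := d17_9 (iv1 D199083) F332961 F433557 F433554 F400481 (iv5 D196365) (iv0 F361296) F216955 D208225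
theorem F448463 : act 5 n208225 = n170880 := d18_9 F407142 F407141 (iv1 F413575) (iv4 D199803) (iv5 D111750) D111749 F362242 (iv4 F215902) D208225
theorem F448464 : act 6 n198778 = n208225 := d21_3 F409235 (iv1 F325632) (iv5 F409197) (iv1 D208225) (iv6 D133973) (iv5 D62935) F47889 D51333 (iv6 F341350) (iv1 F409233)
theorem F448465 : act 2 n208225 = n198782 := d3_1 F448464 (iv6 D198782) (iv2 F409194)
def n208226 : Q := act 5 n133974
theorem D208226 : act 5 n133974 = n208226 := rfl
theorem F448466 : act 2 n208226 = n201388 := d2_1 D208226 F420293 (iv2 F215903)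
theorem F448467 : act 3 n208226 = n195811 := d6_1 D208226 (iv5 F401721) (iv3 F401726)
theorem F448468 : act 4 n208226 = n194176 := d16_6 (iv4 F105680) (iv5 F230337) (iv4 F230338) (iv5 D133975) D133974 D208226 (iv5 F392260) (iv7 F343299) (iv2 D144971)
theorem F448469 : act 6 n208226 = n189693 := d21_3 (iv5 F425178) (iv1 F425182) D208226 (iv1 D189693) (iv6 D94341) (iv5 F293609) (iv1 F63807) (iv5 F112909) D158122 F377239
theorem F448470 : act 1 n202857 = n208226 := d18_6 (iv1 F322603) (iv4 F370342) (iv1 F370344) (iv4 F365208) D194141 (iv4 F425900) F448468 (iv0 F425750) F425749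
def n208227 : Q := act 6 n133974
theorem D208227 : act 6 n133974 = n208227 := rfl
theorem F448471 : act 2 n208227 = n199694 := d3_1 D208227 (iv6 F413150) (iv2 F215903)
theorem F448472 : act 3 n208227 = n194628 := d7_1 D208227 F401727 (iv3 F401726)
theorem F448473 : act 4 n208227 = n133976 := d10_1 D208227 (iv6 D133976) D133974
theorem F448474 : act 7 n199700 = n208227 := d11_0 F448473 (iv7 F393173) F413196
theorem F448475 : act 5 n198606 = n208227 := d18_4 (iv1 F173161) (iv4 D111612) (iv1 F172773) (iv4 F408502) F448473 F393163 (iv4 F397259) (iv0 F397261) (iv5 F385942)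
theorem F448476 : act 0 n208227 = n142565 := d20_4 (iv4 F424739) (iv1 F424741) F411094 (iv3 F448472) (iv3 D142565) (iv4 D66831) (iv1 F102655) (iv4 F225351) (iv3 F373462) (iv1 F410914)
def n208228 : Q := act 5 n133976
theorem D208228 : act 5 n133976 = n208228 := rfl
theorem F448477 : act 3 n208228 = n141797 := d6_1 D208228 F411104 F411102
theorem F448478 : act 0 n134957 = n208228 := d19_0 (iv5 D208228) (iv4 F448473) F448472 (iv1 D194628) F159304 (iv4 F340724) F340723 (iv1 F81393) F320053 F317865 (iv3 D54175) (iv1 D26209) D26211 D54186 (iv3 F328403) (iv1 F171615) F171612 (iv4 F203483) D134957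
def n208229 : Q := act 5 n133977
theorem D208229 : act 5 n133977 = n208229 := rfl
theorem F448479 : act 2 n208229 = n188161 := d2_1 D208229 F400425 F400420
theorem F448480 : act 3 n208229 = n133979 := d6_1 D208229 (iv5 D133979) D133977
theorem F448481 : act 6 n208229 = n187580 := d12_2 F372454 D208229 (iv5 F370877) (iv6 D93298) D93297
theorem F448482 : act 0 n208229 = n192950 := d17_2 F390054 D208229 (iv5 D192950) F357501 F224839 (iv0 D141821) (iv5 D66492) D66490 D141816
theorem F448483 : act 1 n208229 = n141823 := d17_8 D141821 (iv5 F224839) (iv1 F164684) D140364 (iv4 F372453) (iv5 F372452) (iv0 F224824) D208229 (iv4 D141823)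
def n208230 : Q := act 5 n133978
theorem D208230 : act 5 n133978 = n208230 := rfl
theorem F448484 : act 3 n208230 = n143973 := d6_1 D208230 (iv5 D143973) F215907
theorem F448485 : act 7 n208230 = n201388 := d13_2 (iv7 F215905) D208230 F420293
theorem F448486 : act 4 n208230 = n144972 := d16_2 D133978 D208230 (iv5 D144972) (iv4 F105680) (iv5 F230337) (iv4 F230338) (iv5 D133975) F181256 F181257
theorem F448487 : act 1 n208230 = n202857 := d17_6 (iv1 F180496) D202512 (iv1 F424339) (iv5 D133979) D133978 D208230 (iv5 D202857) (iv0 F222580) (iv4 D139357)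
def n208231 : Q := act 6 n133978
theorem D208231 : act 6 n133978 = n208231 := rfl
theorem F448488 : act 2 n208231 = n192839 := d3_1 D208231 (iv6 F387988) F222471
theorem F448489 : act 3 n208231 = n143974 := d7_1 D208231 (iv6 D143974) F215907
theorem F448490 : act 4 n208231 = n133980 := d10_1 D208231 (iv6 D133980) D133978
theorem F448491 : act 5 n208231 = n190120 := d21_6 (iv5 D101777) D101774 F361827 (iv6 D142364) F215906 D208231 (iv1 F378923) (iv5 F387994) F389984 (iv1 D193474)
theorem F448492 : act 7 n192841 = n208231 := d13_0 F448491 F378924 D192841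
def n208232 : Q := act 4 n133979
theorem D208232 : act 4 n133979 = n208232 := rfl
theorem F448493 : act 2 n208232 = n202913 := d1_1 D208232 F426179 F222475
theorem F448494 : act 5 n208232 = n195197 := d9_2 D133979 D208232 (iv4 D195197) F392260 (iv4 F448468) (iv5 D208226) (iv4 D133974) D133975 F230338 F230337 F105680 D144972 (iv4 F448486) (iv5 D208230) (iv4 D133978)
theorem F448495 : act 7 n208232 = n186777 := d11_2 F222483 D208232 (iv4 F367973)
theorem F448496 : act 0 n188363 = n208232 := d20_10 (iv4 D208232) F393166 D139369 (iv3 F412523) (iv1 F412526) F367550 F294578 D99044 F367575 D188363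
theorem F448497 : act 3 n203706 = n208232 := d8_3 F448495 F367971 (iv7 F429470)
theorem F448498 : act 6 n188337 = n208232 := d14_5 F448495 (iv6 D186777) F357559 D189084 F409135
def n208233 : Q := act 6 n133979
theorem D208233 : act 6 n133979 = n208233 := rfl
theorem F448499 : act 3 n208233 = n187580 := d7_1 D208233 (iv6 F448481) F448480
theorem F448500 : act 4 n208233 = n188337 := d10_1 D208233 F448498 (iv4 D208232)
theorem F448501 : act 5 n208233 = n189137 := d12_1 D208233 (iv6 D189137) F372456 (iv6 D133980) D133979
theorem F448502 : act 7 n208233 = n188153 := d14_2 F222483 D208233 F375684 F375683 F367974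
theorem F448503 : act 0 n208233 = n191992 := d21_4 (iv5 D139287) (iv1 F101074) D133979 D208233 (iv6 D191992) (iv5 D99481) (iv1 F294869) D188135 F372431 (iv1 F222488)
def n208234 : Q := act 7 n133980
theorem D208234 : act 7 n133980 = n208234 := rfl
theorem F448504 : act 2 n208234 = n202663 := d4_1 D208234 F424984 F222478
theorem F448505 : act 3 n208234 = n188703 := d8_1 D208234 F380071 (iv3 F372455)
theorem F448506 : act 4 n208234 = n192841 := d11_1 D208234 F448492 F448490
theorem F448507 : act 5 n208234 = n188701 := d13_1 D208234 F380068 F372456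
theorem F448508 : act 6 n208234 = n194429 := d14_1 D208234 F393161 (iv6 D139286) F181259 D133980
theorem F448509 : act 1 n202642 = n208234 := d15_1 (iv0 F424899) (iv7 D208234) (iv2 F222478)
theorem F448510 : act 1 n208234 = n202664 := d15_1 F448509 F424989 F424900
def n208235 : Q := act 4 n133981
theorem D208235 : act 4 n133981 = n208235 := rfl
theorem F448511 : act 2 n208235 = n133984 := d1_1 D208235 (iv4 D133984) (iv2 F215908)
theorem F448512 : act 3 n208235 = n203339 := d5_1 D208235 F428428 (iv3 D203466) (iv4 F406664) F215940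
theorem F448513 : act 5 n208235 = n195196 := d9_2 D133981 D208235 F396204 (iv5 F176087) (iv4 F355660) F182956 F94066 D65376 D139291 (iv5 F355662) F240903 (iv5 F176072) (iv4 F356089) F226903 F176145
theorem F448514 : act 7 n208235 = n195195 := d11_2 F222486 D208235 F396199
def n208236 : Q := act 1 n133984
theorem D208236 : act 1 n133984 = n208236 := rfl
theorem F448515 : act 1 n208236 = n195195 := d15_1 D208236 (iv7 F448514) F448511
theorem F448516 : act 5 n208236 = n139948 := d18_9 (iv1 F392173) F392174 (iv1 D144917) (iv4 F183480) (iv5 F231944) (iv4 F357528) (iv0 D133982) D133984 D208236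
theorem F448517 : act 4 n199787 = n208236 := d20_6 (iv4 F80618) (iv1 D25031) D25032 D51519 D111739 D199787 (iv1 D208236) (iv4 D133984) F98186 (iv1 F80617)
theorem F448518 : act 3 n208236 = n139949 := d19_3 (iv1 F424443) (iv5 F413507) F448517 (iv1 F360240) F360241 (iv4 D67187) (iv3 D31267) (iv1 D14752) (iv5 D7029) (iv4 F11188) (iv3 D6912) D6910 D14460 (iv4 F45779) (iv3 F93976) D126889 (iv5 F204657) (iv4 F222671) (iv3 F424439)
def n208237 : Q := act 3 n133984
theorem D208237 : act 3 n133984 = n208237 := rfl
theorem F448519 : act 4 n208237 = n133986 := d5_2 D133984 D208237 (iv3 D133986) (iv4 D62940) (iv3 F98186)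
theorem F448520 : act 7 n208237 = n199563 := d8_2 F222492 D208237 F412682
theorem F448521 : act 0 n148796 = n208237 := d20_4 D69401 D148134 F231951 (iv3 F233628) (iv3 D208237) (iv4 D133984) D133982 F357528 (iv3 D148131) (iv1 D69400)
theorem F448522 : act 5 n208237 = n146781 := d19_1 F448521 F419661 (iv3 F419655) (iv1 F419659) F330347 (iv4 D66782) (iv3 F317220) (iv1 D32652) D32653 (iv4 F320872) D139882 (iv1 F354196) (iv5 D129570) D129569 F354210 (iv1 F176918) (iv5 F231950) F231951 (iv3 F233628)
def n208238 : Q := act 5 n133984
theorem D208238 : act 5 n133984 = n208238 := rfl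
theorem F448523 : act 2 n208238 = n195196 := d2_1 D208238 (iv5 F448513) F448511
theorem F448524 : act 3 n208238 = n146781 := d6_1 D208238 (iv5 F448522) (iv3 D208237)
theorem F448525 : act 4 n208238 = n144970 := d9_1 D208238 F343305 F355661 (iv5 F355628) F204355 D139287 (iv4 F396199) (iv5 D195195) F161717 (iv5 F82485) (iv4 F331472) F103445 F82504 D62939 D133984
theorem F448526 : act 7 n208238 = n153331 := d13_2 F222492 D208238 F355662
theorem F448527 : act 1 n208238 = n140034 := d17_8 F355615 (iv5 D103015) (iv1 D47760) (iv5 F74939) (iv4 F158028) D194139 F396202 D208238 (iv4 F226337)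
theorem F448528 : act 6 n208238 = n201277 := d21_3 (iv5 F448516) (iv1 D208236) D208238 (iv1 F419812) D201292 (iv5 F419890) (iv1 F397814) (iv5 D195675) F392171 (iv1 F392172)
theorem F448529 : act 1 n195194 = n208238 := d15_0 F448527 (iv7 F424619) F424615
def n208239 : Q := act 0 n133986
theorem D208239 : act 0 n133986 = n208239 := rfl
theorem F448530 : act 5 n208239 = n198000 := d19_1 D208239 F406456 (iv3 F382056) (iv1 F173837) D111909 (iv4 F321936) F197530 (iv1 F324899) F329155 (iv4 F179783) (iv3 D115487) (iv1 F179512) F330513 F83992 (iv3 D51124) F39012 D29774 D62940 D133986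
theorem F448531 : act 3 n208239 = n198753 := d20_5 (iv4 F80629) F80630 D62940 D133986 D208239 F409093 (iv1 D111716) (iv4 D51513) F39265 D25030
theorem F448532 : act 1 n199562 = n208239 := d15_0 (iv0 D208239) F215912 D199562
theorem F448533 : act 2 n199520 = n208239 := d0_5 F448531 F409089 (iv3 F409176) F409175 (iv3 F412498)
theorem F448534 : act 7 n198781 = n208239 := d8_0 F448531 F409090 (iv3 F409208)
def n208240 : Q := act 1 n133986
theorem D208240 : act 1 n133986 = n208240 := rfl
theorem F448535 : act 7 n208240 = n199520 := d15_2 (iv0 D208239) D208240 F448533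
theorem F448536 : act 5 n208240 = n198001 := d17_7 (iv1 F173619) (iv5 F248414) F357691 F173664 (iv4 F172674) (iv5 F215911) D208240 (iv0 F406464) F172874
theorem F448537 : act 2 n198781 = n208240 := d2_3 F448536 (iv2 F406463) D198781
theorem F448538 : act 0 n199562 = n208240 := d17_0 F448536 (iv1 D198001) (iv5 F173050) D199637 F412943 (iv0 D148793) D148796 (iv0 F351275) F412679
def n208241 : Q := act 2 n133986
theorem D208241 : act 2 n133986 = n208241 := rfl
theorem F448539 : act 3 n208241 = n199559 := d0_2 D133986 D208241 (iv2 D199559) (iv3 D111410) (iv2 F98187)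
theorem F448540 : act 5 n208241 = n198789 := d2_2 (iv5 F215911) D208241 (iv2 F409247)
theorem F448541 : act 7 n208241 = n199562 := d4_2 (iv7 F215912) D208241 (iv2 D199562)
theorem F448542 : act 1 n208241 = n198781 := d15_0 (iv0 F409209) (iv7 F215912) D208241
theorem F448543 : act 1 n199520 = n208241 := d15_0 F448542 F448534 (iv2 F448533)
def n208242 : Q := act 5 n133991
theorem D208242 : act 5 n133991 = n208242 := rfl
theorem F448544 : act 3 n208242 = n197295 := d6_1 D208242 (iv5 F438074) F438069
theorem F448545 : act 0 n208242 = n207857 := d17_2 D133991 D208242 F446750 F222606 D139410 F355997 (iv5 D134002) (iv0 D62947) (iv4 F98193)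
theorem F448546 : act 4 n208242 = n204928 := d17_4 F425139 (iv5 D133994) D133991 D208242 F434218 (iv0 F429829) F326632 (iv0 F340760) D202693
theorem F448547 : act 1 n208242 = n195346 := d17_8 (iv1 D132514) (iv5 F102342) (iv1 F318140) (iv5 D141627) D141626 (iv5 F396933) F396935 D208242 F396788
theorem F448548 : act 6 n208242 = n179895 := d21_9 (iv5 F317336) D197217 F403587 (iv6 F366082) F181514 (iv6 F336188) (iv5 D133994) D133991 D208242 (iv1 F280175)
def n208243 : Q := act 6 n133991
theorem D208243 : act 6 n133991 = n208243 := rfl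
theorem F448549 : act 2 n208243 = n195392 := d3_1 D208243 (iv6 F403810) F410458
theorem F448550 : act 3 n208243 = n143019 := d7_1 D208243 F438073 F438069
theorem F448551 : act 5 n208243 = n141873 := d12_1 D208243 (iv6 F403640) F403636 (iv6 F448548) (iv5 D208242)
theorem F448552 : act 7 n195393 = n208243 := d13_0 F448551 F224913 (iv5 F405340)
theorem F448553 : act 1 n195290 = n208243 := d17_6 (iv1 F216755) D196304 F405339 F164789 (iv4 F161950) D195290 F448551 (iv0 F224915) (iv4 F216751)
theorem F448554 : act 0 n141302 = n208243 := d21_7 F167058 D108240 (iv5 F167382) D197294 (iv1 F403874) (iv6 D195391) (iv5 F360518) F448551 (iv6 F403640) (iv1 D197226)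
def n208244 : Q := act 5 n133992
theorem D208244 : act 5 n133992 = n208244 := rfl
theorem F448555 : act 0 n208244 = n195346 := d17_2 (iv1 F396936) D208244 (iv5 D195346) F162054 D108902 F372577 (iv5 D134005) F180484 (iv4 F396932)
theorem F448556 : act 1 n208244 = n207857 := d17_8 (iv1 F317333) (iv5 F280367) (iv1 F315936) (iv5 D141348) (iv4 F336187) (iv5 D133994) D133992 D208244 (iv4 D207857)
theorem F448557 : act 6 n208244 = n195521 := d21_3 (iv5 F396933) (iv1 F396936) D208244 F397207 F318711 D145110 (iv1 F242908) (iv5 D154724) D154725 F364291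
def n208245 : Q := act 6 n133992
theorem D208245 : act 6 n133992 = n208245 := rfl
theorem F448558 : act 2 n208245 = n144443 := d3_1 D208245 (iv6 F438103) (iv2 F410462)
theorem F448559 : act 5 n208245 = n195522 := d12_1 D208245 (iv6 D195522) D195521 (iv6 F448557) (iv5 D208244)
theorem F448560 : act 0 n144445 = n208245 := d17_2 F111119 (iv5 F227242) F448559 F397210 (iv5 D136327) F179224 F179222 F164862 (iv4 F111116)
theorem F448561 : act 1 n144414 = n208245 := d17_6 F162249 F162248 (iv1 D62179) (iv5 F49721) (iv4 F103691) D144414 F448559 (iv0 F397211) F227609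
theorem F448562 : act 7 n144442 = n208245 := d15_2 F397024 F397027 F448558
def n208246 : Q := act 5 n134000
theorem D208246 : act 5 n134000 = n208246 := rfl
theorem F448563 : act 3 n208246 = n134002 := d6_1 D208246 (iv5 D134002) D134000
def n208247 : Q := act 0 n134001
theorem D208247 : act 0 n134001 = n208247 := rfl
theorem F448564 : act 5 n208247 = n141636 := d17_1 D208247 (iv1 F350008) F349980 (iv4 D139407) (iv5 F353543) F420727 F420725 F180483 D134001
theorem F448565 : act 4 n208247 = n199036 := d18_3 D62947 D134001 D208247 F410418 (iv4 F387681) F349970 D114639 F353534 (iv5 D62950)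
theorem F448566 : act 3 n208247 = n196300 := d20_5 (iv4 F218961) (iv1 F218963) (iv4 F347214) F347213 D208247 (iv4 D196300) (iv1 F216753) F216751 F162204 (iv1 F162175)
theorem F448567 : act 2 n195477 = n208247 := d15_3 (iv0 D208247) F353532 (iv7 F397110)
theorem F448568 : act 1 n134004 = n208247 := d15_0 (iv0 D208247) (iv7 F424300) F424297
theorem F448569 : act 7 n208247 = n195496 := d15_2 F353533 F448568 (iv2 F397150)
def n208248 : Q := act 6 n134001
theorem D208248 : act 6 n134001 = n208248 := rfl
theorem F448570 : act 2 n208248 = n195497 := d3_1 D208248 (iv6 D195497) (iv2 F215936)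
theorem F448571 : act 3 n208248 = n195476 := d7_1 D208248 F397107 F347213
theorem F448572 : act 4 n208248 = n134003 := d10_1 D208248 (iv6 D134003) D134001
theorem F448573 : act 5 n208248 = n195475 := d12_1 D208248 F397099 (iv5 D132437) (iv6 F212501) F353531
def n208249 : Q := act 0 n134003
theorem D208249 : act 0 n134003 = n208249 := rfl
theorem F448574 : act 4 n208249 = n195290 := d20_8 F169250 (iv1 D50455) F76910 D105640 F397109 (iv3 F448571) F448572 D208249 F396596 (iv1 F169253)
theorem F448575 : act 6 n208249 = n151379 := d21_5 D108902 F355996 (iv5 D134002) D134003 D208249 (iv5 F349218) F158453 (iv5 F349994) F349995 (iv1 D108900)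
theorem F448576 : act 2 n141154 = n208249 := d15_3 (iv0 D208249) F424312 (iv7 F224138)
theorem F448577 : act 3 n208249 = n141290 := d0_2 D141154 F448576 (iv2 D141290) (iv3 D66276) (iv2 F102111)
theorem F448578 : act 7 n208249 = n141309 := d4_2 (iv7 F224138) F448576 (iv2 D141309)
theorem F448579 : act 1 n141308 = n208249 := d15_1 D141308 F448578 (iv2 D141309)
def n208250 : Q := act 5 n134003
theorem D208250 : act 5 n134003 = n208250 := rfl
theorem F448580 : act 3 n208250 = n137914 := d6_1 D208250 (iv5 F426798) (iv3 F426803)
theorem F448581 : act 7 n137911 = n208250 := d8_0 F448580 (iv7 D137914) D137911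
def n208251 : Q := act 7 n134003
theorem D208251 : act 7 n134003 = n208251 := rfl
theorem F448582 : act 2 n208251 = n141308 := d4_1 D208251 F424311 F424306
theorem F448583 : act 3 n208251 = n137912 := d8_1 D208251 (iv7 F426800) (iv3 F426803)
theorem F448584 : act 5 n208251 = n137911 := d13_1 D208251 F448581 (iv5 D208250)
theorem F448585 : act 1 n141309 = n208251 := d15_1 (iv0 F424310) (iv7 D208251) (iv2 F424306)
theorem F448586 : act 1 n208251 = n141154 := d15_1 F448585 F224138 D141309
def n208252 : Q := act 6 n134004
theorem D208252 : act 6 n134004 = n208252 := rfl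
theorem F448587 : act 2 n208252 = n207921 := d3_1 D208252 F446999 F424297
theorem F448588 : act 3 n208252 = n141355 := d7_1 D208252 (iv6 D141355) (iv3 F215937)
theorem F448589 : act 4 n208252 = n134006 := d10_1 D208252 (iv6 D134006) D134004
theorem F448590 : act 5 n208252 = n195530 := d12_1 D208252 (iv6 D195530) (iv5 F351843) (iv6 F434705) F434704
theorem F448591 : act 7 n207917 = n208252 := d13_0 F448590 (iv7 F397235) D207917
theorem F448592 : act 0 n197305 = n208252 := d17_2 D108082 D197305 F448590 F397234 F162248 F96937 (iv5 F49734) F82276 (iv4 F78967)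
theorem F448593 : act 1 n139401 = n208252 := d17_6 F219987 F180048 (iv1 D115091) F83826 (iv4 F101147) D139401 F448590 (iv0 F404030) F404027
def n208253 : Q := act 4 n134005
theorem D208253 : act 4 n134005 = n208253 := rfl
theorem F448594 : act 2 n208253 = n201427 := d1_1 D208253 F420472 (iv2 F372572)
theorem F448595 : act 5 n208253 = n141688 := d9_2 D134005 D208253 (iv4 D141688) F102342 (iv4 F212500) F353531 (iv4 D134001) D134002 (iv4 F420892) (iv5 D201538) F333652 F280367 (iv4 F434703) F434704 (iv4 D134004)
theorem F448596 : act 7 n208253 = n201426 := d11_2 F372571 D208253 F420467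
theorem F448597 : act 0 n208253 = n146378 := d17_0 (iv5 D146378) (iv1 F319125) (iv5 F178738) (iv4 F406661) (iv5 D198072) (iv0 D108899) D108902 F372577 D208253
theorem F448598 : act 1 n208253 = n157726 := d18_8 F290469 F313961 (iv1 F104058) (iv4 F316464) D119204 F354594 F372577 D208253 (iv5 D157726)
theorem F448599 : act 6 n208253 = n201501 := d21_5 (iv5 D130648) D130646 D207248 F443957 (iv1 F448598) (iv5 F420736) (iv1 D135787) D135788 F218371 (iv1 F209221)
def n208254 : Q := act 6 n134005
theorem D208254 : act 6 n134005 = n208254 := rfl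
theorem F448600 : act 4 n208254 = n201501 := d10_1 D208254 (iv6 F448599) (iv4 D208253)
def n208255 : Q := act 5 n134006
theorem D208255 : act 5 n134006 = n208255 := rfl
theorem F448601 : act 2 n208255 = n207914 := d2_1 D208255 F446974 F424303
theorem F448602 : act 7 n208255 = n207919 := d13_2 F425004 D208255 F446991
theorem F448603 : act 4 n208255 = n207868 := d16_4 (iv4 F397234) (iv5 F448590) F448589 D208255 (iv5 D207868) (iv4 D132532) D132533 F212735 F202550
def n208256 : Q := act 3 n134014
theorem D208256 : act 3 n134014 = n208256 := rfl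
theorem F448604 : act 4 n208256 = n207360 := d5_2 (iv4 F401100) D208256 (iv3 F448148) F448150 (iv3 D199808)
theorem F448605 : act 6 n208256 = n204544 := d7_2 (iv6 F363298) D208256 (iv3 D204544)
theorem F448606 : act 7 n208256 = n204472 := d8_2 (iv7 F362803) D208256 (iv3 D204472)
theorem F448607 : act 1 n204179 = n208256 := d17_8 (iv1 F444525) (iv5 D200917) (iv1 D113623) D113624 (iv4 F391167) (iv5 F431331) F431334 D204179 F448604
def n208257 : Q := act 3 n134015
theorem D208257 : act 3 n134015 = n208257 := rfl
theorem F448608 : act 5 n208257 = n154224 := d6_2 (iv5 F362801) D208257 (iv3 F365361)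
theorem F448609 : act 6 n208257 = n192230 := d7_2 F362799 D208257 (iv3 F386127)
theorem F448610 : act 7 n208257 = n204390 := d8_2 F362802 D208257 F438230
theorem F448611 : act 0 n208257 = n204369 := d19_4 F407473 F401101 (iv4 F363105) D208257 (iv5 D204369) F392922 F392924 F429912 F429910 F428674 F223645 (iv1 F180065) F364139 F169178 F161234 F174362 F174359 (iv4 F165710) D196894
theorem F448612 : act 1 n208257 = n204368 := d15_1 (iv0 F448611) F432250 (iv2 F432251)
theorem F448613 : act 2 n208257 = n194673 := d15_3 (iv0 F432227) D204390 (iv7 F448610)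
def n208258 : Q := act 1 n134017
theorem D208258 : act 1 n134017 = n208258 := rfl
theorem F448614 : act 1 n208258 = n134165 := d15_1 D208258 (iv7 F245552) F245551
theorem F448615 : act 7 n208258 = n134164 := d15_2 (iv0 F246112) D208258 (iv2 F246113)
theorem F448616 : act 5 n208258 = n175163 := d17_7 (iv1 F311317) (iv5 D120150) (iv1 F311313) (iv5 F275797) (iv4 F318037) (iv5 F215954) D208258 (iv0 F336352) F336355
theorem F448617 : act 4 n208258 = n156077 := d17_9 F317692 (iv5 D178653) F314995 (iv5 F314996) (iv4 F317223) F317224 (iv0 F318034) (iv5 F215954) D208258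
theorem F448618 : act 2 n134163 = n208258 := d1_3 F448617 F317694 (iv4 F332245)
theorem F448619 : act 6 n208258 = n193113 := d3_2 F332288 F448618 (iv2 F388791)
def n208259 : Q := act 6 n134017
theorem D208259 : act 6 n134017 = n208259 := rfl
theorem F448620 : act 3 n208259 = n134018 := d7_1 D208259 (iv6 D134018) D134017
theorem F448621 : act 4 n208259 = n197253 := d10_1 D208259 (iv6 D197253) (iv4 F215953)
theorem F448622 : act 0 n208259 = n193125 := d21_4 F320586 (iv1 F318035) (iv5 F215954) D208259 (iv6 D193125) (iv5 F375586) (iv1 D189050) F294633 (iv6 F359969) (iv1 F172511)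
def n208260 : Q := act 3 n134022
theorem D208260 : act 3 n134022 = n208260 := rfl
theorem F448623 : act 2 n208260 = n137412 := d0_1 D208260 (iv3 D137412) (iv2 F327805) (iv3 D134175) F215981
theorem F448624 : act 4 n208260 = n146480 := d5_2 F446056 D208260 F229800 (iv4 F418823) (iv3 F446055)
theorem F448625 : act 5 n208260 = n160045 := d6_2 (iv5 F365396) D208260 (iv3 F365391)
theorem F448626 : act 7 n208260 = n134171 := d8_2 F215983 D208260 (iv3 D134171)
theorem F448627 : act 1 n135551 = n208260 := d15_1 (iv0 F426420) F448626 (iv2 F426415)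
def n208261 : Q := act 0 n134025
theorem D208261 : act 0 n134025 = n208261 := rfl
theorem F448628 : act 5 n208261 = n134035 := d17_1 D208261 (iv1 F216013) D134275 (iv4 F352319) (iv5 D125085) (iv0 D58474) D58477 D125096 F354745
theorem F448629 : act 1 n134178 = n208261 := d15_0 (iv0 D208261) F215990 (iv2 F216221)
theorem F448630 : act 2 n134181 = n208261 := d2_3 F448628 (iv2 F216017) (iv5 F352309)
theorem F448631 : act 7 n134180 = n208261 := d13_0 F448628 (iv7 F216019) (iv5 F361288)
theorem F448632 : act 6 n208261 = n153802 := d21_3 (iv5 D134038) D134035 (iv5 F448628) (iv1 D153802) (iv6 D72758) (iv5 D33568) (iv1 F44348) D57282 D123089 F355518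
def n208262 : Q := act 1 n134025
theorem D208262 : act 1 n134025 = n208262 := rfl
theorem F448633 : act 1 n208262 = n134178 := d15_1 D208262 (iv7 F348523) (iv2 F348518)
theorem F448634 : act 7 n208262 = n134181 := d15_2 (iv0 D208261) D208262 F448630
theorem F448635 : act 5 n208262 = n134036 := d17_7 F396472 (iv5 F405322) (iv1 F421953) F396545 F179204 D134025 D208262 F216020 (iv4 F216286)
theorem F448636 : act 3 n134537 = n208262 := d20_3 F183953 (iv1 F183816) F330250 (iv1 D208262) F215989 F98232 (iv1 D51314) (iv4 F48008) (iv3 F98417) (iv1 F329077)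
theorem F448637 : act 2 n208262 = n134180 := d0_1 F448636 F340099 (iv2 F425066) F425067 F330259
def n208263 : Q := act 6 n134027
theorem D208263 : act 6 n134027 = n208263 := rfl
theorem F448638 : act 2 n208263 = n134127 := d3_1 D208263 (iv6 D134127) (iv2 F347330)
theorem F448639 : act 3 n208263 = n200801 := d7_1 D208263 F417962 (iv3 F215993)
theorem F448640 : act 4 n208263 = n205594 := d10_1 D208263 (iv6 F437146) (iv4 F378170)
theorem F448641 : act 7 n208263 = n154237 := d14_2 (iv7 F347332) D208263 (iv6 D154237) (iv7 D73077) F336394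
theorem F448642 : act 0 n208263 = n189182 := d21_10 (iv5 D189182) (iv1 F375945) F375942 F361737 (iv1 D134235) (iv6 D63058) D63057 (iv1 F329650) (iv5 F347331) D208263
theorem F448643 : act 1 n208263 = n189184 := d15_1 (iv0 F448642) F375993 (iv2 F375980)
def n208264 : Q := act 6 n134035
theorem D208264 : act 6 n134035 = n208264 := rfl
theorem F448644 : act 2 n208264 = n134274 := d3_1 D208264 (iv6 D134274) F216017
theorem F448645 : act 0 n134458 = n208264 := d21_4 F100519 D135952 (iv5 F409972) (iv6 F409975) (iv6 D208264) (iv5 F448628) (iv1 F448629) (iv5 D134178) D134179 F336144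
def n208265 : Q := act 6 n134037
theorem D208265 : act 6 n134037 = n208265 := rfl
theorem F448646 : act 2 n208265 = n134039 := d3_1 D208265 (iv6 D134039) D134037
theorem F448647 : act 3 n208265 = n134229 := d7_1 D208265 (iv6 D134229) (iv3 F216021)
theorem F448648 : act 7 n195012 = n208265 := d8_0 F448647 (iv7 F361741) D195012
def n208266 : Q := act 0 n134039
theorem D208266 : act 0 n134039 = n208266 := rfl
theorem F448649 : act 6 n208266 = n182701 := d21_5 (iv5 F338487) F355518 (iv5 D134038) D134039 D208266 (iv5 F339538) (iv1 D105041) (iv5 F292473) F339541 (iv1 F215988)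
def n208267 : Q := act 1 n134039
theorem D208267 : act 1 n134039 = n208267 := rfl
theorem F448650 : act 1 n208267 = n195012 := d15_1 D208267 F448648 F448646
theorem F448651 : act 3 n134549 = n208267 := d20_3 (iv4 F443330) (iv1 F443333) (iv4 F380791) (iv1 D208267) F216027 F98247 (iv1 F168256) D63559 (iv3 F208119) (iv1 F337782)
theorem F448652 : act 6 n137196 = n208267 := d21_3 F360203 (iv1 F423544) F423548 (iv1 D208267) (iv6 D134039) D134038 (iv1 F350814) (iv5 D134173) D134174 F366218
def n208268 : Q := act 5 n134039
theorem D208268 : act 5 n134039 = n208268 := rfl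
theorem F448653 : act 3 n208268 = n134042 := d6_1 D208268 (iv5 D134042) (iv3 F216027)
def n208269 : Q := act 7 n134039
theorem D208269 : act 7 n134039 = n208269 := rfl
theorem F448654 : act 2 n208269 = n195012 := d4_1 D208269 F448648 F448646
theorem F448655 : act 3 n208269 = n134043 := d8_1 D208269 (iv7 D134043) (iv3 F216027)
theorem F448656 : act 4 n208269 = n207910 := d11_1 D208269 F446960 F396484
theorem F448657 : act 6 n208269 = n134284 := d14_1 D208269 (iv7 D134284) (iv6 D63085) (iv7 F98242) D134039
theorem F448658 : act 1 n195012 = n208266 := d15_0 (iv0 D208266) D208269 F448654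
theorem F448659 : act 0 n191635 = n207910 := d20_1 (iv4 F383990) (iv4 F448656) F448655 (iv1 F216039) (iv3 F349135) F159993 (iv1 D92737) D92738 D188740 F383999
def n208270 : Q := act 1 n134042
theorem D208270 : act 1 n134042 = n208270 := rfl
theorem F448660 : act 1 n208270 = n134254 := d15_1 D208270 (iv7 D134254) (iv2 F216035)
theorem F448661 : act 7 n208270 = n134251 := d15_2 (iv0 F368876) D208270 (iv2 F368875)
theorem F448662 : act 5 n208270 = n134888 := d17_7 F98702 F98699 (iv1 D30683) (iv5 F47919) (iv4 F98247) D134042 D208270 F217094 (iv4 D130727)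
theorem F448663 : act 2 n134252 = n208270 := d2_3 F448662 (iv2 F328198) F328200
def n208271 : Q := act 4 n134042
theorem D208271 : act 4 n134042 = n208271 := rfl
theorem F448664 : act 2 n208271 = n134253 := d1_1 D208271 (iv4 D134253) (iv2 F216035)
theorem F448665 : act 0 n208271 = n207297 := d18_2 (iv1 D208270) D208271 (iv4 D207297) (iv5 D130725) F95813 D61335 (iv4 F329435) F329433 (iv5 F448662)
def n208272 : Q := act 7 n134042
theorem D208272 : act 7 n134042 = n208272 := rfl
theorem F448666 : act 2 n208272 = n134254 := d4_1 D208272 (iv7 D134254) (iv2 F216035)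
theorem F448667 : act 5 n208272 = n134043 := d13_1 D208272 (iv7 D134043) D134042
theorem F448668 : act 1 n134252 = n208272 := d15_1 D134252 (iv7 D208272) F216035
theorem F448669 : act 1 n208272 = n134251 := d15_1 F448668 (iv7 F448661) (iv2 F448663)
def n208273 : Q := act 5 n134047
theorem D208273 : act 5 n134047 = n208273 := rfl
theorem F448670 : act 2 n208273 = n134048 := d2_1 D208273 (iv5 D134048) D134047
theorem F448671 : act 3 n208273 = n134339 := d6_1 D208273 (iv5 D134339) (iv3 F216047)
theorem F448672 : act 4 n208273 = n159616 := d9_1 D208273 (iv5 D159616) F114479 D76368 (iv4 F333172) (iv5 D63845) F48414 D63101 F329570 D143533 F335170 F251438 F333169 (iv5 D135607) (iv4 F216048)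
theorem F448673 : act 7 n208273 = n134311 := d13_2 (iv7 F216049) D208273 (iv5 D134311)
theorem F448674 : act 0 n208273 = n134314 := d17_2 (iv1 F216050) D208273 F410166 F410165 F359574 (iv0 D63715) D63718 (iv0 F217918) (iv4 D134303)
theorem F448675 : act 1 n208273 = n134313 := d17_6 (iv1 F319937) F183895 (iv1 F339423) (iv5 D135607) (iv4 F216048) D208273 (iv5 F378174) (iv0 F378176) (iv4 F203469)
def n208274 : Q := act 6 n134047
theorem D208274 : act 6 n134047 = n208274 := rfl
theorem F448676 : act 2 n208274 = n134049 := d3_1 D208274 (iv6 D134049) D134047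
theorem F448677 : act 3 n208274 = n134340 := d7_1 D208274 (iv6 D134340) (iv3 F216047)
theorem F448678 : act 4 n208274 = n135608 := d10_1 D208274 (iv6 D135608) (iv4 F216048)
theorem F448679 : act 7 n208274 = n191794 := d14_2 (iv7 F216049) D208274 F384466 F384046 (iv6 D134312)
theorem F448680 : act 0 n208274 = n188177 := d21_4 F378174 (iv1 F448675) (iv5 D208273) D208274 F391825 (iv5 D194035) F333115 D136150 (iv6 F363034) F378176
theorem F448681 : act 5 n188604 = n208274 := d21_2 F285221 (iv1 F374175) (iv6 D208274) (iv1 F216052) (iv6 F335887) D135065 F364857 (iv5 F167591) F384457 F384455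
theorem F448682 : act 0 n191740 = n208274 := d21_4 D204287 F431873 F387091 (iv6 F384307) (iv6 D208274) D208273 F448674 F410166 (iv6 F431620) F431624
def n208275 : Q := act 1 n134048
theorem D208275 : act 1 n134048 = n208275 := rfl
theorem F448683 : act 1 n208275 = n134311 := d15_1 D208275 (iv7 F448673) F448670
theorem F448684 : act 7 n208275 = n134314 := d15_2 F336886 D208275 F335175
theorem F448685 : act 5 n208275 = n195574 := d17_7 (iv1 D146478) (iv5 D68669) F323478 (iv5 D63766) (iv4 F98256) D134048 D208275 F397408 F363637
theorem F448686 : act 4 n208275 = n149346 := d17_9 F252899 F334858 (iv1 F349016) (iv5 D141475) (iv4 F224529) (iv5 F336850) (iv0 D134045) D134048 D208275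
theorem F448687 : act 3 n201288 = n208275 := d20_3 F364196 F422241 F422240 (iv1 D208275) F216053 F98259 F329213 (iv4 F44423) (iv3 F90766) D123605
theorem F448688 : act 6 n138619 = n208275 := d21_9 (iv5 D134048) D134045 F336850 (iv6 D141472) (iv1 F224497) (iv6 F337199) (iv5 D138308) (iv1 F111677) (iv5 F221789) (iv1 D208275)
theorem F448689 : act 2 n208275 = n134313 := d3_1 F448688 (iv6 F359706) F364178
def n208276 : Q := act 6 n134048
theorem D208276 : act 6 n134048 = n208276 := rfl
theorem F448690 : act 3 n208276 = n134050 := d7_1 D208276 (iv6 D134050) (iv3 F216053)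
theorem F448691 : act 4 n208276 = n150623 := d10_1 D208276 (iv6 F356848) F359684
theorem F448692 : act 7 n208276 = n203143 := d14_2 (iv7 F216054) D208276 F427141 F226145 F329734
theorem F448693 : act 0 n208276 = n148554 := d21_4 F391099 (iv1 D134046) D134048 D208276 F360915 F286030 F74089 F309580 (iv6 F333152) F391102
theorem F448694 : act 0 n140036 = n208276 := d21_4 (iv5 F373130) (iv1 F373132) (iv5 D140035) D140036 (iv6 D208276) (iv5 D134048) D134045 F336850 (iv6 D141472) (iv1 F224497)
def n208277 : Q := act 0 n134049
theorem D208277 : act 0 n134049 = n208277 := rfl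
theorem F448695 : act 5 n208277 = n188171 := d17_1 D208277 (iv1 F372548) F383927 (iv4 F383926) (iv5 F175835) (iv0 F369359) F369358 (iv0 D135613) (iv4 F216056)
theorem F448696 : act 4 n208277 = n191713 := d18_3 (iv1 D135614) (iv4 F216056) D208277 (iv5 D191713) (iv4 D98702) D98701 D191710 F384229 F376440
theorem F448697 : act 3 n208277 = n137672 := d20_5 (iv4 F168008) (iv1 F168011) (iv4 F98263) (iv3 F216055) D208277 (iv4 F417129) F417130 F394054 F394051 (iv1 F168747)
theorem F448698 : act 6 n208277 = n137668 := d21_5 (iv5 F448685) (iv1 D208275) (iv5 D134048) D134049 D208277 (iv5 D137668) (iv1 F333126) (iv5 F391851) (iv6 F391854) (iv1 F397408)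
theorem F448699 : act 2 n188177 = n208277 := d15_3 (iv0 D208277) (iv0 F375704) (iv7 F372591)
theorem F448700 : act 7 n208277 = n191740 := d4_2 (iv7 F372591) F448699 F384306
theorem F448701 : act 1 n191794 = n208277 := d15_1 D191794 F448700 F384306
def n208278 : Q := act 7 n134049
theorem D208278 : act 7 n134049 = n208278 := rfl
theorem F448702 : act 2 n208278 = n191794 := d4_1 D208278 (iv7 F448679) F448676
theorem F448703 : act 3 n208278 = n134052 := d8_1 D208278 (iv7 D134052) (iv3 F216055)
theorem F448704 : act 4 n208278 = n135616 := d11_1 D208278 (iv7 D135616) (iv4 F216056)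
theorem F448705 : act 5 n208278 = n188603 := d13_1 D208278 F379876 F379873
theorem F448706 : act 6 n208278 = n134320 := d14_1 D208278 (iv7 D134320) (iv6 D63102) (iv7 F98257) D134049
theorem F448707 : act 1 n191740 = n208278 := d15_1 (iv0 F448682) (iv7 D208278) (iv2 F448676)
theorem F448708 : act 1 n208278 = n188177 := d15_1 F448707 F372591 (iv2 F384306)
theorem F448709 : act 0 n192589 = n204641 := d21_4 F384342 (iv1 F197502) (iv5 F338897) D192589 F433111 (iv5 F448705) (iv1 F448707) (iv5 D191740) (iv6 F277353) F384343
def n208279 : Q := act 4 n134051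
theorem D208279 : act 4 n134051 = n208279 := rfl
theorem F448710 : act 2 n208279 = n134354 := d1_1 D208279 (iv4 D134354) (iv2 F216059)
theorem F448711 : act 6 n208279 = n204474 := d10_2 (iv6 F410229) D208279 F432642
theorem F448712 : act 1 n208279 = n202474 := d18_6 (iv1 F168747) (iv4 F168008) (iv1 F168011) (iv4 F98263) D134051 D208279 F424155 F394046 (iv5 F394045)
def n208280 : Q := act 6 n134053
theorem D208280 : act 6 n134053 = n208280 := rfl
theorem F448713 : act 2 n208280 = n134071 := d3_1 D208280 (iv6 D134071) F216066
theorem F448714 : act 3 n208280 = n134357 := d7_1 D208280 (iv6 D134357) (iv3 F216067)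
theorem F448715 : act 4 n208280 = n137998 := d10_1 D208280 F428204 F216903
theorem F448716 : act 7 n208280 = n137998 := d14_2 (iv7 F216068) D208280 F428204 F216904 F98620
theorem F448717 : act 0 n208280 = n138000 := d21_4 (iv5 D201657) (iv1 F411702) F411700 D208280 F355796 D138012 (iv1 F333088) (iv5 F329460) F217179 (iv1 F421269)
theorem F448718 : act 0 n137977 = n208280 := d21_4 F103080 F169573 (iv5 F169671) D137977 (iv6 D208280) (iv5 F411700) (iv1 F411703) F411685 (iv6 D64819) D64816
def n208281 : Q := act 3 n134054
theorem D208281 : act 3 n134054 = n208281 := rfl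
theorem F448719 : act 4 n208281 = n197680 := d5_2 F404680 D208281 F405330 (iv4 D197521) D197520
theorem F448720 : act 7 n208281 = n134060 := d8_2 F216070 D208281 (iv3 D134060)
theorem F448721 : act 0 n134332 = n208281 := d20_4 (iv4 D132092) D132089 F211626 D134332 (iv3 D208281) (iv4 F404680) F445311 (iv4 F445308) (iv3 D207528) F211629
theorem F448722 : act 1 n205012 = n208281 := d15_0 (iv0 F448721) (iv7 F445233) F445231
def n208282 : Q := act 6 n134054
theorem D208282 : act 6 n134054 = n208282 := rfl
theorem F448723 : act 2 n208282 = n134058 := d3_1 D208282 (iv6 D134058) D134054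
theorem F448724 : act 4 n208282 = n192062 := d10_1 D208282 (iv6 F404684) F404680
theorem F448725 : act 7 n208282 = n138037 := d14_2 F216070 D208282 (iv6 D138037) (iv7 F355793) (iv6 D134063)
theorem F448726 : act 0 n208282 = n134255 := d21_4 F328714 (iv1 F252356) (iv5 F355340) D208282 (iv6 F217291) (iv5 F370489) F370490 (iv5 F360353) (iv6 F421266) F421268
theorem F448727 : act 0 n138032 = n208282 := d21_4 (iv5 F353577) (iv1 F353578) F221291 D138032 (iv6 D208282) F355340 (iv1 F329093) F216330 (iv6 F217179) (iv1 F333083)
theorem F448728 : act 5 n191462 = n208282 := d2_0 F448723 F336948 D191462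
def n208283 : Q := act 7 n134055
theorem D208283 : act 7 n134055 = n208283 := rfl
theorem F448729 : act 3 n208283 = n134059 := d8_1 D208283 (iv7 D134059) D134055
theorem F448730 : act 4 n208283 = n135245 := d11_1 D208283 F332262 F336945
theorem F448731 : act 5 n208283 = n159543 := d13_1 D208283 F336934 (iv5 F355303)
theorem F448732 : act 6 n208283 = n138039 := d14_1 D208283 F374708 (iv6 D188750) F143016 (iv6 F336946)
theorem F448733 : act 1 n134307 = n208283 := d15_1 (iv0 F374659) (iv7 D208283) (iv2 F374657)
def n208284 : Q := act 3 n134056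
theorem D208284 : act 3 n134056 = n208284 := rfl
theorem F448734 : act 4 n208284 = n187663 := d5_2 D134056 D208284 F371136 F336945 (iv3 D134055)
theorem F448735 : act 6 n208284 = n187662 := d7_2 F403429 D208284 (iv3 F403424)
theorem F448736 : act 0 n208284 = n201854 := d20_4 F48091 D62970 D134056 D208284 F422079 (iv4 F437216) (iv1 F437552) (iv4 F437554) (iv3 D134795) (iv1 D63343)
theorem F448737 : act 0 n176075 = n208284 := d20_4 (iv4 F213151) F213150 D129991 F364847 (iv3 D208284) (iv4 D134056) D134053 (iv4 F216903) F216902 (iv1 F98822)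
def n208285 : Q := act 7 n134056
theorem D208285 : act 7 n134056 = n208285 := rfl
theorem F448738 : act 2 n208285 = n134061 := d4_1 D208285 F404682 (iv2 F404681)
theorem F448739 : act 4 n208285 = n134059 := d11_1 D208285 (iv7 D134059) D134056
theorem F448740 : act 5 n208285 = n187617 := d13_1 D208285 (iv7 F403421) (iv5 F403430)
theorem F448741 : act 6 n208285 = n138040 := d14_1 D208285 F356332 (iv6 F274738) (iv7 F403425) F403429
theorem F448742 : act 4 n187868 = n187617 := d16_6 F404680 F355340 (iv4 D151563) D151564 (iv4 F392241) F371723 (iv5 F448740) (iv7 D208285) F404681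
theorem F448743 : act 6 n187616 = n187868 := d10_0 F448742 (iv6 D187617) D187616
theorem F448744 : act 0 n199572 = n208285 := d18_2 F445313 F445308 F448739 F355341 (iv4 D151568) F114539 (iv4 F251554) F251558 F355353
theorem F448745 : act 0 n187617 = n189096 := d17_2 F448744 F448740 (iv5 F441105) F441104 (iv5 D151559) D151558 (iv5 F347361) (iv0 F445310) F445308
def n208286 : Q := act 0 n134058
theorem D208286 : act 0 n134058 = n208286 := rfl
theorem F448746 : act 4 n208286 = n138043 := d20_2 (iv4 F403428) D208286 F221296 (iv1 F318998) (iv3 F133377) (iv4 F295106) (iv1 F389052) (iv4 D193174) F349689 F403427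
theorem F448747 : act 3 n208286 = n134366 := d20_5 (iv4 F290705) F290704 D90436 F336947 D208286 F363251 F329046 (iv4 F160064) (iv3 D104410) D104409
theorem F448748 : act 2 n134255 = n208286 := d15_3 (iv0 D208286) (iv0 F445283) F445282
theorem F448749 : act 1 n138037 = n208286 := d15_0 (iv0 D208286) (iv7 F374697) F374700
theorem F448750 : act 7 n208286 = n138032 := d15_2 (iv0 F445284) F448749 (iv2 F445279)
theorem F448751 : act 6 n138031 = n208286 := d14_5 F448750 (iv6 D138032) (iv7 D64868) D64867 D138031
def n208287 : Q := act 2 n134060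
theorem D208287 : act 2 n134060 = n208287 := rfl
theorem F448752 : act 4 n208287 = n201836 := d1_2 (iv4 F443018) D208287 F443019
theorem F448753 : act 1 n208287 = n205012 := d15_0 F448722 F448720 D208287
theorem F448754 : act 1 n134332 = n208287 := d15_0 F448753 F434597 (iv2 F354752)
theorem F448755 : act 5 n208287 = n197615 := d19_1 (iv1 F448753) (iv4 D197615) F167752 F329174 (iv5 F329175) (iv4 D49706) F38003 D29796 F47952 F38327 F38162 F38151 F19744 D13767 D28885 D60900 (iv5 F212465) (iv4 F336981) (iv3 F434595)
def n208288 : Q := act 5 n134060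
theorem D208288 : act 5 n134060 = n208288 := rfl
theorem F448756 : act 2 n208288 = n197615 := d2_1 D208288 (iv5 F448755) (iv2 D208287)
theorem F448757 : act 3 n208288 = n134062 := d6_1 D208288 (iv5 D134062) D134060
theorem F448758 : act 4 n208288 = n197613 := d16_2 (iv4 F443018) D208288 (iv5 D197613) F167751 (iv5 F332988) (iv4 F388469) (iv5 F443010) F443011 F443019
def n208289 : Q := act 6 n134060
theorem D208289 : act 6 n134060 = n208289 := rfl
theorem F448759 : act 3 n208289 = n134063 := d7_1 D208289 (iv6 D134063) D134060
theorem F448760 : act 5 n192740 = n208289 := d21_8 (iv5 D158966) D158963 (iv5 F391593) (iv6 D191582) (iv1 D98573) D98575 (iv5 F154646) D192740 (iv6 D208289) F373075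
theorem F448761 : act 7 n138034 = n208289 := d8_0 F448759 F355793 D138034
def n208290 : Q := act 6 n134062
theorem D208290 : act 6 n134062 = n208290 := rfl
theorem F448762 : act 4 n208290 = n159683 := d10_1 D208290 (iv6 D159683) (iv4 F355345)
theorem F448763 : act 0 n208290 = n187433 := d21_4 F411700 (iv1 F216069) D134062 D208290 F391626 (iv5 D193984) F356346 (iv5 D114934) D114935 (iv1 F411702)
theorem F448764 : act 0 n203335 = n208290 := d18_2 (iv1 F374079) (iv4 F427932) F448762 F251566 F135491 (iv0 F290949) (iv4 F372612) (iv0 F372615) (iv5 F371141)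
def n208291 : Q := act 5 n134063
theorem D208291 : act 5 n134063 = n208291 := rfl
theorem F448765 : act 2 n208291 = n138041 := d2_1 D208291 (iv5 D138041) (iv2 F355792)
theorem F448766 : act 3 n208291 = n192740 := d6_1 D208291 F448760 F448759
theorem F448767 : act 7 n208291 = n138036 := d13_2 (iv7 F355793) D208291 (iv5 D138036)
def n208292 : Q := act 4 n134066
theorem D208292 : act 4 n134066 = n208292 := rfl
theorem F448768 : act 2 n208292 = n134069 := d1_1 D208292 (iv4 D134069) (iv2 F216074)
theorem F448769 : act 3 n208292 = n147239 := d5_1 D208292 F230834 (iv3 F331667) (iv4 D134383) (iv3 F216075)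
theorem F448770 : act 7 n208292 = n202888 := d11_2 F411701 D208292 F426053
theorem F448771 : act 5 n208292 = n151708 := d16_1 D208292 F238587 (iv5 F186827) F351267 F216919 F98623 (iv5 F172436) F172437 (iv2 F216074)
theorem F448772 : act 0 n208292 = n203299 := d17_0 F427753 (iv1 D159989) (iv5 D76599) (iv4 F114871) F328715 D134093 F411682 F411694 D208292
theorem F448773 : act 6 n202939 = n208292 := d21_9 F427753 (iv1 D159989) (iv5 D76599) (iv6 D35003) (iv1 F55413) D76550 (iv5 F251012) (iv1 F427944) F427945 F448772
def n208293 : Q := act 6 n134066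
theorem D208293 : act 6 n134066 = n208293 := rfl
theorem F448774 : act 2 n208293 = n134070 := d3_1 D208293 (iv6 D134070) (iv2 F216074)
theorem F448775 : act 3 n208293 = n134384 := d7_1 D208293 (iv6 D134384) (iv3 F216075)
theorem F448776 : act 4 n208293 = n202939 := d10_1 D208293 F448773 (iv4 D208292)
theorem F448777 : act 5 n208293 = n203337 := d12_1 D208293 F427939 (iv5 D134801) F98620 D134066
theorem F448778 : act 7 n208293 = n203907 := d14_2 F411701 D208293 (iv6 D203907) (iv7 F430304) (iv6 F430307)
theorem F448779 : act 0 n201629 = n208293 := d17_0 F448777 (iv1 F427941) (iv5 F427809) F427808 (iv5 F427832) F427834 F421311 (iv0 D201632) (iv4 F421186)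
def n208294 : Q := act 0 n134070
theorem D208294 : act 0 n134070 = n208294 := rfl
theorem F448780 : act 4 n208294 = n201634 := d18_1 D208294 (iv1 F421197) F425057 (iv5 F439938) (iv4 D206253) (iv0 F428427) (iv4 F428428) F427949 F216917
theorem F448781 : act 1 n203907 = n208294 := d15_0 (iv0 D208294) (iv7 F428001) (iv2 F430336)
theorem F448782 : act 7 n208294 = n201629 := d15_2 (iv0 F431087) F448781 (iv2 F431083)
def n208295 : Q := act 0 n134071
theorem D208295 : act 0 n134071 = n208295 := rfl
theorem F448783 : act 2 n138000 = n208295 := d15_3 (iv0 D208295) F411666 D138000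
theorem F448784 : act 1 n137998 = n208295 := d15_0 (iv0 D208295) (iv7 F216922) (iv2 F428202)
theorem F448785 : act 7 n208295 = n137977 := d15_2 D137998 F448784 F221232
theorem F448786 : act 5 n183758 = n208295 := d13_3 F448785 F382861 F382855
theorem F448787 : act 6 n137981 = n208295 := d14_5 F448785 (iv6 D137977) F177219 D64862 (iv7 F365747)
def n208296 : Q := act 5 n134071
theorem D208296 : act 5 n134071 = n208296 := rfl
theorem F448788 : act 3 n208296 = n134077 := d6_1 D208296 (iv5 D134077) (iv3 F216077)
theorem F448789 : act 6 n208296 = n177735 := d12_2 D134071 D208296 F391059 (iv6 F355074) F172436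
theorem F448790 : act 1 n208296 = n183779 := d17_8 (iv1 D87683) (iv5 D40847) D40845 D87675 D183758 F448786 (iv0 D208295) D208296 (iv4 D183779)
theorem F448791 : act 1 n183775 = n208296 := d15_0 F448790 (iv7 F382868) F382867
theorem F448792 : act 4 n177721 = n208296 := d18_5 (iv1 F72131) D87679 F289777 F134719 D177721 F448790 (iv4 D183779) F150992 F150990
def n208297 : Q := act 4 n134077
theorem D208297 : act 4 n134077 = n208297 := rfl
theorem F448793 : act 2 n208297 = n134452 := d1_1 D208297 (iv4 D134452) (iv2 F216087)
theorem F448794 : act 3 n208297 = n177748 := d5_1 D208297 (iv4 D177748) (iv3 F277174) F448792 F448788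
theorem F448795 : act 6 n208297 = n177770 := d10_2 (iv6 F341426) D208297 F391061
theorem F448796 : act 5 n208297 = n135210 := d16_1 D208297 (iv4 D135210) (iv5 D63530) F48190 F23766 (iv4 F48190) D63530 F98846 (iv2 F216087)
theorem F448797 : act 1 n208297 = n177985 := d18_6 F167784 (iv4 D63533) (iv1 F48192) (iv4 F98274) D134077 D208297 F432197 F432196 (iv5 D197628)
def n208298 : Q := act 6 n134085
theorem D208298 : act 6 n134085 = n208298 := rfl
theorem F448798 : act 3 n208298 = n192907 := d7_1 D208298 F388175 F368658
theorem F448799 : act 4 n208298 = n205330 := d10_1 D208298 (iv6 F440133) F440132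
theorem F448800 : act 5 n208298 = n208263 := d12_1 D208298 (iv6 D208263) F347331 (iv6 F198068) (iv5 F354230)
theorem F448801 : act 7 n208298 = n192905 := d14_2 (iv7 F354231) D208298 (iv6 D192905) F306428 (iv6 F198066)
theorem F448802 : act 0 n208298 = n200469 := d21_10 (iv5 F416585) (iv1 D182326) (iv5 F294442) (iv6 D93331) (iv1 F68683) (iv6 F335391) (iv5 F335398) (iv1 F198071) (iv5 F354230) D208298
def n208299 : Q := act 4 n134089
theorem D208299 : act 4 n134089 = n208299 := rfl
theorem F448803 : act 6 n208299 = n140500 := d10_2 F411655 D208299 (iv4 F411657)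
theorem F448804 : act 5 n208299 = n190134 := d16_3 (iv4 F98296) D134089 D208299 F378945 (iv5 F365369) F360800 (iv5 F215970) (iv7 D134020) F98222
theorem F448805 : act 0 n208299 = n202656 := d17_0 F424961 (iv1 F343809) (iv5 D156332) F111575 (iv5 F329890) (iv0 F181189) D202641 F424895 D208299
theorem F448806 : act 1 n208299 = n202658 := d18_6 (iv1 F172358) (iv4 F111424) (iv1 D62988) (iv4 F98296) D134089 D208299 (iv4 D202658) F411408 F411407
theorem F448807 : act 3 n190135 = n208299 := d20_3 F370721 D187538 F378949 F448805 F424958 F419103 (iv1 F396052) (iv4 F410875) F410874 F372361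
def n208300 : Q := act 4 n134092
theorem D208300 : act 4 n134092 = n208300 := rfl
theorem F448808 : act 2 n208300 = n137913 := d1_1 D208300 F221173 (iv2 F361493)
theorem F448809 : act 3 n208300 = n203936 := d5_1 D208300 (iv4 D203936) F193600 D201284 (iv3 F419857)
theorem F448810 : act 6 n208300 = n137874 := d10_2 (iv6 F361494) D208300 (iv4 D137874)
theorem F448811 : act 0 n208300 = n143097 := d17_0 (iv5 F373067) F373074 F373073 (iv4 D134061) D134062 F355343 (iv5 F444246) F444249 D208300
def n208301 : Q := act 3 n134093
theorem D208301 : act 3 n134093 = n208301 := rfl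
theorem F448812 : act 2 n208301 = n191582 := d0_1 D208301 (iv3 F448099) F448098 F444021 F421265
theorem F448813 : act 5 n208301 = n191412 := d6_2 (iv5 F411682) D208301 (iv3 F411689)
theorem F448814 : act 7 n208301 = n137887 := d8_2 (iv7 F361495) D208301 F221114
theorem F448815 : act 4 n208301 = n207699 := d20_6 F326900 (iv1 F95856) (iv4 F209318) (iv3 F444244) (iv1 F444250) D208301 (iv1 D207699) F211853 D134175 F327492
theorem F448816 : act 6 n186710 = n208301 := d14_5 F448814 (iv6 D137887) D137888 (iv6 F357369) (iv7 F367768)
def n208302 : Q := act 4 n134093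
theorem D208302 : act 4 n134093 = n208302 := rfl
theorem F448817 : act 7 n208302 = n137913 := d11_2 (iv7 F361495) D208302 F221173
theorem F448818 : act 3 n208302 = n207671 := d20_3 (iv4 F444245) (iv1 F444250) D208302 (iv1 F445942) (iv3 F371199) F371200 F323239 D207351 F444477 (iv1 F365743)
theorem F448819 : act 0 n143097 = n208302 := d20_10 (iv4 D208302) (iv1 D134093) (iv4 F98688) (iv3 D63384) (iv1 F79239) D108412 F167603 D128590 (iv4 F352543) (iv3 F225953)
theorem F448820 : act 6 n191683 = n208302 := d14_5 F448817 (iv6 D137913) D137914 F384147 (iv7 F384148)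
def n208303 : Q := act 6 n134093
theorem D208303 : act 6 n134093 = n208303 := rfl
theorem F448821 : act 2 n208303 = n137961 := d3_1 D208303 (iv6 F421266) F421265
theorem F448822 : act 3 n208303 = n186710 := d7_1 D208303 F448816 (iv3 D208301)
theorem F448823 : act 4 n208303 = n191683 := d10_1 D208303 F448820 (iv4 D208302)
theorem F448824 : act 5 n208303 = n189892 := d12_1 D208303 (iv6 F387592) F387591 F411683 (iv5 F411682)
theorem F448825 : act 7 n208303 = n137919 := d14_2 (iv7 F361495) D208303 (iv6 D137919) (iv7 D64820) D64819
theorem F448826 : act 0 n208303 = n134153 := d21_10 F356276 F152041 F357353 F411676 F410160 F98620 D134066 (iv1 F411694) (iv5 F411682) D208303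
theorem F448827 : act 0 n137846 = n208303 := d17_2 F152040 (iv5 F356281) F448824 F378133 F294402 F152079 (iv5 D87596) F72691 D98640
def n208304 : Q := act 6 n134113
theorem D208304 : act 6 n134113 = n208304 := rfl
theorem F448828 : act 2 n208304 = n134115 := d3_1 D208304 (iv6 D134115) D134113
theorem F448829 : act 4 n208304 = n208147 := d10_1 D208304 (iv6 D208147) (iv4 F216162)
theorem F448830 : act 1 n208304 = n208228 := d15_0 (iv0 F448478) F217166 (iv2 F448828)
def n208305 : Q := act 0 n134115
theorem D208305 : act 0 n134115 = n208305 := rfl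
theorem F448831 : act 4 n208305 = n188909 := d18_3 (iv1 D208149) (iv4 F216165) D208305 (iv5 D188909) (iv4 F375174) F387850 D111725 D199780 (iv5 F448118)
theorem F448832 : act 5 n208305 = n141288 := d19_1 D208305 F413196 F413995 (iv1 F413994) F391519 (iv4 F340709) F340708 (iv1 F81394) F105469 (iv4 F184065) (iv3 D117501) (iv1 F85466) F328583 D64595 F171608 (iv1 D110811) (iv5 F96392) (iv4 F98317) (iv3 F216164)
theorem F448833 : act 3 n208305 = n206775 := d20_5 D66260 (iv1 F328806) (iv4 F98317) (iv3 F216164) D208305 F442145 F216488 D129594 F207772 F329055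
theorem F448834 : act 6 n208305 = n206773 := d21_5 (iv5 F419394) (iv1 F419400) F329683 D134115 D208305 F442136 F405076 (iv5 D197624) (iv6 F171572) F368901
theorem F448835 : act 7 n208228 = n208305 := d8_0 F448833 (iv7 F442147) (iv3 F448477)
def n208306 : Q := act 1 n134115
theorem D208306 : act 1 n134115 = n208306 := rfl
theorem F448836 : act 3 n190543 = n208306 := d19_19 (iv1 D208306) F336382 F221479 F209107 D130533 F349543 F360470 (iv3 F360476) (iv1 F202151) (iv5 F356041) (iv4 F413328) (iv3 F441499) F441502 (iv5 F435697) (iv4 D197008) D197007 (iv1 F402669) (iv5 F417700) F417702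
theorem F448837 : act 4 n188905 = n208306 := d20_0 (iv1 D208306) F216165 F214612 F97705 (iv3 F99186) F327351 F120082 D127472 D206137 F439415
theorem F448838 : act 5 n139286 = n208306 := d21_6 (iv5 F411586) (iv1 D199308) (iv5 D111180) (iv6 F98185) (iv1 F101073) D139286 (iv1 D208306) F336382 (iv6 D138277) D138273
theorem F448839 : act 2 n208306 = n208228 := d2_1 F448838 (iv5 D208228) (iv2 F222484)
theorem F448840 : act 6 n208306 = n190541 := d12_2 D139286 F448838 F380044 F367974 (iv5 D139285)
def n208307 : Q := act 3 n134120
theorem D208307 : act 3 n134120 = n208307 := rfl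
theorem F448841 : act 2 n208307 = n206421 := d0_1 D208307 (iv3 D206421) F339369 D128710 F359792
theorem F448842 : act 4 n208307 = n196034 := d5_2 D134120 D208307 (iv3 D196034) (iv4 F336391) F336390
theorem F448843 : act 5 n208307 = n198243 := d6_2 (iv5 F358867) D208307 F407327
theorem F448844 : act 6 n208307 = n154234 := d7_2 (iv6 F336392) D208307 (iv3 D154234)
theorem F448845 : act 7 n208307 = n205595 := d8_2 F378169 D208307 F437148
theorem F448846 : act 0 n208307 = n206497 := d20_4 F98275 D63002 D134120 D208307 (iv3 D206497) (iv4 F395886) F395885 (iv4 F397960) F397959 (iv1 D134079)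
theorem F448847 : act 1 n208307 = n206505 := d15_1 (iv0 F448846) (iv7 F441123) (iv2 F441090)
def n208308 : Q := act 2 n134124
theorem D208308 : act 2 n134124 = n208308 := rfl
theorem F448848 : act 3 n208308 = n190536 := d0_2 D134124 D208308 F380026 (iv3 F215993) F347330
theorem F448849 : act 4 n208308 = n134902 := d1_2 (iv4 F352546) D208308 F352551
theorem F448850 : act 5 n208308 = n159681 := d2_2 (iv5 F336395) D208308 F251553
theorem F448851 : act 6 n208308 = n137910 := d3_2 F352548 D208308 (iv2 F225949)
theorem F448852 : act 7 n208308 = n143102 := d4_2 F336397 D208308 F355776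
theorem F448853 : act 1 n208308 = n142995 := d15_0 F335423 F336397 D208308
theorem F448854 : act 1 n143104 = n208308 := d15_0 F448853 (iv7 F384137) F384136
def n208309 : Q := act 6 n134125
theorem D208309 : act 6 n134125 = n208309 := rfl
theorem F448855 : act 2 n208309 = n205594 := d3_1 D208309 (iv6 F437146) F378173
theorem F448856 : act 3 n208309 = n137146 := d7_1 D208309 (iv6 F352547) F216169
theorem F448857 : act 4 n208309 = n134127 := d10_1 D208309 (iv6 D134127) D134125
def n208310 : Q := act 5 n134127
theorem D208310 : act 5 n134127 = n208310 := rfl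
theorem F448858 : act 2 n208310 = n208298 := d2_1 D208310 F448800 F448638
theorem F448859 : act 6 n208310 = n154285 := d12_2 D134127 D208310 F242386 (iv6 F198101) F336386
theorem F448860 : act 7 n208310 = n154294 := d13_2 F389045 D208310 (iv5 F389044)
theorem F448861 : act 1 n208310 = n154528 := d17_8 F402913 (iv5 F323946) (iv1 F176309) D200473 F416601 (iv5 F365358) (iv0 F352550) D208310 F402914
theorem F448862 : act 0 n208310 = n182525 := d18_0 (iv4 F360195) F438539 F438535 F366830 F398848 (iv0 D195956) (iv4 F216836) (iv0 F352550) D208310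
def n208311 : Q := act 3 n134131
theorem D208311 : act 3 n134131 = n208311 := rfl
theorem F448863 : act 2 n208311 = n201665 := d0_1 D208311 F421302 F367295 F368226 (iv2 F368225)
theorem F448864 : act 4 n208311 = n201653 := d5_2 (iv4 F354991) D208311 (iv3 F421243) (iv4 D173516) (iv3 F271966)
theorem F448865 : act 5 n208311 = n134224 := d6_2 (iv5 F354992) D208311 (iv3 D134224)
theorem F448866 : act 7 n208311 = n154386 := d8_2 (iv7 F354990) D208311 F242457
theorem F448867 : act 0 n143103 = n208311 := d20_4 F113793 (iv1 F60319) D85106 (iv3 F347290) (iv3 D208311) F354991 F380684 F380683 (iv3 F339705) (iv1 F230307)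
theorem F448868 : act 6 n202902 = n208311 := d14_5 F448866 (iv6 D154386) (iv7 F354919) (iv6 F425058) (iv7 F426125)
def n208312 : Q := act 6 n134131
theorem D208312 : act 6 n134131 = n208312 := rfl
theorem F448869 : act 2 n208312 = n154379 := d3_1 D208312 F368227 (iv2 F368225)
theorem F448870 : act 3 n208312 = n202902 := d7_1 D208312 F448868 (iv3 D208311)
theorem F448871 : act 4 n208312 = n200619 := d10_1 D208312 F417240 (iv4 F354991)
theorem F448872 : act 7 n208312 = n153823 := d14_2 (iv7 F354990) D208312 (iv6 D153823) (iv7 F354980) D73133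
theorem F448873 : act 0 n208312 = n154377 := d21_4 (iv5 F349804) (iv1 F168770) (iv5 F354992) D208312 (iv6 F354227) F172432 D134085 F354230 F198068 (iv1 F198097)
theorem F448874 : act 0 n154324 = n208312 := d18_2 (iv1 F436752) F436753 F448871 (iv5 D200619) F176501 F161108 F353643 (iv0 F414880) F414878
def n208313 : Q := act 2 n134144
theorem D208313 : act 2 n134144 = n208313 := rfl
theorem F448875 : act 3 n208313 = n189092 := d0_2 D134144 D208313 F375718 (iv3 F327600) (iv2 F170717)
theorem F448876 : act 4 n208313 = n190725 := d1_2 F409756 D208313 (iv2 F409760)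
theorem F448877 : act 5 n208313 = n183231 := d2_2 (iv5 F365760) D208313 F366970
def n208314 : Q := act 6 n134146
theorem D208314 : act 6 n134146 = n208314 := rfl
theorem F448878 : act 3 n208314 = n134148 := d7_1 D208314 (iv6 D134148) D134146
theorem F448879 : act 4 n208314 = n187685 := d10_1 D208314 F422027 F422024
theorem F448880 : act 5 n208314 = n192371 := d12_1 D208314 F386595 F356204 (iv6 F356201) F365618
theorem F448881 : act 0 n208314 = n187688 := d21_4 (iv5 D93218) D93216 F365618 D208314 (iv6 D187688) D187687 F371187 F365796 F375727 (iv1 D189094)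
theorem F448882 : act 1 n208314 = n201689 := d15_1 (iv0 F448881) F421416 F374769
def n208315 : Q := act 2 n134153
theorem D208315 : act 2 n134153 = n208315 := rfl
theorem F448883 : act 3 n208315 = n136133 := d0_2 D134153 D208315 (iv2 F333865) (iv3 F333867) (iv2 F325957)
theorem F448884 : act 5 n208315 = n182632 := d2_2 (iv5 F356276) D208315 F295462
theorem F448885 : act 7 n208315 = n137846 := d4_2 F356277 D208315 F356280
theorem F448886 : act 1 n208315 = n137961 := d15_0 (iv0 F360354) F356277 D208315
theorem F448887 : act 1 n137919 = n208315 := d15_0 F448886 (iv7 D137961) (iv2 F221177)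
def n208316 : Q := act 4 n134155
theorem D208316 : act 4 n134155 = n208316 := rfl
theorem F448888 : act 3 n208316 = n206713 := d5_1 D208316 (iv4 D206713) F380831 D205608 F437203
theorem F448889 : act 5 n208316 = n175392 := d9_2 (iv5 F405325) D208316 (iv4 F363164) (iv5 D178907) (iv4 F366691) F372901 D197676 (iv5 F421965) (iv4 F445022) F445020 F434562 F434558 F428961 (iv5 F388637) D197674
theorem F448890 : act 1 n208316 = n137887 := d18_6 (iv1 D197678) (iv4 D108579) D108577 D197674 (iv5 F405325) D208316 F442553 F446061 F446057
theorem F448891 : act 0 n208316 = n191582 := d20_1 D208316 F442534 (iv3 D206893) (iv1 D129452) (iv3 D60835) (iv4 F46662) (iv1 F46664) D29812 D63021 D134155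
def n208317 : Q := act 6 n134155
theorem D208317 : act 6 n134155 = n208317 := rfl
theorem F448892 : act 3 n208317 = n148763 := d7_1 D208317 (iv6 F442356) F437203
theorem F448893 : act 0 n207682 = n208317 := d20_4 F203533 (iv1 F98745) (iv4 F211828) D207682 F448892 F442355 F442354 F207600 F203530 D126559
def n208318 : Q := act 3 n134156
theorem D208318 : act 3 n134156 = n208318 := rfl
theorem F448894 : act 0 n208318 = n207775 := d20_4 (iv4 F442534) F445023 F445022 D208318 (iv3 D207775) F212116 (iv1 F213500) (iv4 D129461) D129460 F442535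
theorem F448895 : act 1 n208318 = n207674 := d15_1 (iv0 F448894) F445960 (iv2 F446379)
def n208319 : Q := act 5 n134157
theorem D208319 : act 5 n134157 = n208319 := rfl
theorem F448896 : act 2 n208319 = n134158 := d2_1 D208319 (iv5 D134158) D134157
theorem F448897 : act 3 n208319 = n159361 := d6_1 D208319 (iv5 F421969) F421967
theorem F448898 : act 1 n208319 = n197668 := d17_6 D134035 (iv5 F448628) (iv1 F448629) (iv5 D134178) (iv4 F216187) D208319 F405310 (iv0 D195250) F161907
theorem F448899 : act 0 n208319 = n197672 := d21_1 D208319 F405322 F396471 (iv1 D126499) D126502 (iv5 F344987) (iv1 F203407) D129684 F421954 (iv1 F421952)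
theorem F448900 : act 6 n208319 = n159360 := d21_9 (iv5 D193012) F362362 (iv5 F421932) (iv6 F421934) F362478 D198020 (iv5 F421951) (iv1 F421952) D208319 (iv1 F388518)
def n208320 : Q := act 6 n134157
theorem D208320 : act 6 n134157 = n208320 := rfl
theorem F448901 : act 2 n208320 = n134159 := d3_1 D208320 (iv6 D134159) D134157
theorem F448902 : act 3 n208320 = n146879 := d7_1 D208320 (iv6 F421970) F421967
theorem F448903 : act 4 n208320 = n134179 := d10_1 D208320 (iv6 D134179) (iv4 F216187)
theorem F448904 : act 5 n208320 = n199064 := d12_1 D208320 F410519 (iv5 F250888) (iv6 F448900) (iv5 D208319)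
def n208321 : Q := act 0 n134158
theorem D208321 : act 0 n134158 = n208321 := rfl
theorem F448905 : act 5 n208321 = n134260 := d17_3 (iv1 D134156) D134158 D208321 F352311 (iv5 D158966) D158964 (iv5 F411692) (iv0 F445024) F445022
theorem F448906 : act 2 n197672 = n208321 := d2_3 F448905 (iv2 F396470) (iv5 F405322)
theorem F448907 : act 7 n197668 = n208321 := d13_0 F448905 (iv7 F396473) (iv5 F405310)
theorem F448908 : act 4 n197669 = n208321 := d16_0 F448905 F352311 (iv5 D158966) F113791 (iv5 F92372) F317013 D197661 F405272 (iv2 F405311)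
def n208322 : Q := act 1 n134158
theorem D208322 : act 1 n134158 = n208322 := rfl
theorem F448909 : act 7 n208322 = n197672 := d15_2 (iv0 D208321) D208322 F448906
theorem F448910 : act 5 n208322 = n134261 := d17_7 (iv1 F216024) (iv5 F352309) (iv1 D134181) (iv5 D63036) (iv4 F98332) D134158 D208322 F396480 F396477
theorem F448911 : act 4 n208322 = n197661 := d17_9 F405273 (iv5 D139626) D139623 (iv5 F388637) D197674 (iv5 F405325) (iv0 D134155) D134158 D208322
theorem F448912 : act 2 n197668 = n208322 := d1_3 F448911 F405270 D197668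
def n208323 : Q := act 4 n134158
theorem D208323 : act 4 n134158 = n208323 := rfl
theorem F448913 : act 3 n208323 = n136666 := d5_1 D208323 (iv4 D136666) (iv3 D64233) (iv4 F98333) (iv3 F216188)
theorem F448914 : act 6 n188415 = n208323 := d7_0 F448913 (iv6 F362783) D188415
def n208324 : Q := act 6 n134158
theorem D208324 : act 6 n134158 = n208324 := rfl
theorem F448915 : act 2 n208324 = n159360 := d3_1 D208324 (iv6 F448900) F448896
theorem F448916 : act 3 n208324 = n134160 := d7_1 D208324 (iv6 D134160) (iv3 F216188)
theorem F448917 : act 4 n208324 = n188415 := d10_1 D208324 F448914 (iv4 D208323)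
theorem F448918 : act 5 n208324 = n184001 := d12_1 D208324 F442467 (iv5 F442468) (iv6 D134159) D134158
theorem F448919 : act 0 n208324 = n201797 := d21_10 F421821 F388366 (iv5 F179200) D201826 (iv1 F421940) F406512 (iv5 F421965) (iv1 D134156) D134158 D208324
theorem F448920 : act 1 n208324 = n201796 := d15_1 (iv0 F448919) (iv7 F421819) F421826
theorem F448921 : act 7 n208324 = n184000 := d15_2 D201797 (iv0 F448919) F361000
def n208325 : Q := act 0 n134159
theorem D208325 : act 0 n134159 = n208325 := rfl
theorem F448922 : act 4 n208325 = n137818 := d20_2 (iv4 F216190) D208325 (iv3 D137818) (iv1 D64768) F48876 (iv4 F45770) D59522 F93944 (iv3 F100291) F330976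
def n208326 : Q := act 1 n134159
theorem D208326 : act 1 n134159 = n208326 := rfl
theorem F448923 : act 4 n208326 = n137885 := d17_9 (iv1 D137885) (iv5 D64807) (iv1 F219213) D137781 (iv4 F442471) (iv5 D206871) D206870 (iv5 F442468) D208326
theorem F448924 : act 6 n135474 = n208326 := d21_3 D205657 (iv1 F437793) F437795 (iv1 D208326) (iv6 D134159) D134158 D208321 F448905 (iv6 F437753) (iv1 F203610)
def n208327 : Q := act 4 n134161
theorem D208327 : act 4 n134161 = n208327 := rfl
theorem F448925 : act 3 n208327 = n184116 := d5_1 D208327 F286058 (iv3 F285887) (iv4 F442465) F442469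
theorem F448926 : act 6 n208327 = n184114 := d10_2 (iv6 F421934) D208327 (iv4 F421931)
theorem F448927 : act 7 n208327 = n198239 := d11_2 F441895 D208327 (iv4 F441896)
theorem F448928 : act 5 n208327 = n197765 := d16_1 D208327 F405684 F330501 F204057 F175357 (iv4 F204111) (iv5 F406529) F421938 F421935
theorem F448929 : act 0 n208327 = n197811 := d18_2 F443188 D208327 (iv4 F405849) F437306 F437304 F217898 D202627 F424823 D207069
theorem F448930 : act 1 n208327 = n206928 := d18_6 F207359 F95320 F48820 (iv4 F98336) D134161 D208327 (iv4 D206928) (iv0 F441914) (iv5 D206703)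
def n208328 : Q := act 3 n134164
theorem D208328 : act 3 n134164 = n208328 := rfl
theorem F448931 : act 2 n208328 = n138361 := d0_1 D208328 (iv3 D138361) F212181 D156516 F246113
theorem F448932 : act 4 n208328 = n199821 := d5_2 (iv4 F332242) D208328 F413646 F332207 F319075
theorem F448933 : act 5 n208328 = n175366 := d6_2 (iv5 F332243) D208328 (iv3 D175366)
theorem F448934 : act 6 n137201 = n208328 := d12_0 F448933 (iv6 F359668) (iv5 D137409) D137410 F220622
def n208329 : Q := act 6 n134164
theorem D208329 : act 6 n134164 = n208329 := rfl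
theorem F448935 : act 2 n208329 = n202390 := d3_1 D208329 F423848 F246113
theorem F448936 : act 3 n208329 = n137201 := d7_1 D208329 F448934 (iv3 D208328)
theorem F448937 : act 4 n208329 = n178779 := d10_1 D208329 (iv6 D178779) (iv4 F332242)
theorem F448938 : act 5 n208329 = n134950 := d12_1 D208329 (iv6 F365404) (iv5 F365400) F365401 (iv5 F332243)
theorem F448939 : act 7 n208329 = n202389 := d14_2 F448615 D208329 (iv6 F430760) F430756 (iv6 F448619)
theorem F448940 : act 0 n201952 = n208329 := d17_0 F448938 (iv1 D134950) D134951 F360202 F359765 F179495 D201912 F422337 D201952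
theorem F448941 : act 5 n199352 = n154524 := d21_6 F448938 (iv1 D134950) D134951 (iv6 F410386) F425096 F425105 (iv1 D154524) D154526 F422499 F448940
theorem F448942 : act 1 n202387 = n208329 := d15_0 (iv0 F448940) F422497 (iv2 F423841)
def n208330 : Q := act 6 n134165
theorem D208330 : act 6 n134165 = n208330 := rfl
theorem F448943 : act 2 n208330 = n134166 := d3_1 D208330 (iv6 D134166) D134165
theorem F448944 : act 0 n139982 = n208330 := d21_4 D115553 F223210 (iv5 D139981) D139982 (iv6 D208330) F332247 (iv1 D175317) (iv5 F320586) F351553 (iv1 D115552)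
def n208331 : Q := act 0 n134166
theorem D208331 : act 0 n134166 = n208331 := rfl
theorem F448945 : act 3 n208331 = n139988 := d20_5 (iv4 F93899) F93901 (iv4 F98344) (iv3 F216201) D208331 F223211 F332414 D144481 F227310 (iv1 F111700)
theorem F448946 : act 7 n139982 = n208331 := d8_0 F448945 (iv7 D139988) (iv3 F223208)
def n208332 : Q := act 1 n134166
theorem D208332 : act 1 n134166 = n208332 := rfl
theorem F448947 : act 4 n202132 = n208332 := d20_6 (iv4 D155989) (iv1 F110988) (iv4 F111126) (iv3 F245253) (iv1 F351550) (iv3 F423004) (iv1 D208332) (iv4 F245557) F245556 (iv1 F245051)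
theorem F448948 : act 6 n139351 = n208332 := d21_3 D202292 F423512 F410377 (iv1 D208332) (iv6 D134166) (iv5 F172434) F315804 F332230 F323218 (iv1 F179848)
theorem F448949 : act 2 n208332 = n139982 := d3_1 F448948 (iv6 D139982) F222571
def n208333 : Q := act 5 n134166
theorem D208333 : act 5 n134166 = n208333 := rfl
theorem F448950 : act 3 n208333 = n134167 := d6_1 D208333 (iv5 D134167) (iv3 F216201)
theorem F448951 : act 6 n208333 = n197379 := d12_2 D134166 D208333 F404085 F356356 F172434
theorem F448952 : act 4 n197376 = n208333 := d10_3 F448951 (iv4 D197379) (iv6 F404081)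
def n208334 : Q := act 0 n134167
theorem D208334 : act 0 n134167 = n208334 := rfl
theorem F448953 : act 5 n208334 = n141159 := d17_3 F98345 D134167 D208334 F224148 F101816 (iv0 D61334) F46678 (iv0 F26147) (iv4 F49134)
theorem F448954 : act 6 n208334 = n134249 := d21_5 (iv5 D57697) D57695 D123785 F356357 D208334 (iv5 D134249) (iv1 D63063) D63064 (iv6 F329807) (iv1 D123793)
theorem F448955 : act 1 n139425 = n208334 := d15_0 (iv0 D208334) (iv7 F424374) F424373
theorem F448956 : act 2 n141316 = n208334 := d3_3 F448954 (iv2 F363073) F342833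
def n208335 : Q := act 1 n134167
theorem D208335 : act 1 n134167 = n208335 := rfl
theorem F448957 : act 1 n208335 = n139425 := d15_1 D208335 (iv7 F403052) F403051
theorem F448958 : act 7 n208335 = n141316 := d15_2 (iv0 D208334) D208335 F448956
theorem F448959 : act 5 n208335 = n141317 := d17_7 F386345 F386343 (iv1 D134168) (iv5 D63030) (iv4 F98344) D134167 D208335 F362319 (iv4 F332919)
theorem F448960 : act 6 n187046 = n208335 := d21_3 F133506 D102381 (iv5 F368911) (iv1 D208335) (iv6 F356357) (iv5 D123785) (iv1 F191842) (iv5 F429584) F429585 F335674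
def n208336 : Q := act 4 n134167
theorem D208336 : act 4 n134167 = n208336 := rfl
theorem F448961 : act 6 n208336 = n204430 := d10_2 F356357 D208336 (iv4 D204430)
def n208337 : Q := act 1 n134171
theorem D208337 : act 1 n134171 = n208337 := rfl
theorem F448962 : act 1 n208337 = n137412 := d15_1 D208337 (iv7 F426419) F426415
theorem F448963 : act 4 n208337 = n135547 := d18_7 (iv1 F99181) (iv4 F179308) F325875 F104876 D68669 (iv4 F366215) D208337 (iv0 F218362) F359574
theorem F448964 : act 3 n142995 = n208337 := d20_3 (iv4 F98688) D134871 F361804 (iv1 D208337) (iv3 D134171) D134172 (iv1 F446054) (iv4 F448815) (iv3 D208301) (iv1 D134093)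
theorem F448965 : act 6 n137338 = n208337 := d21_3 F100313 D64557 D137338 (iv1 D208337) F366216 D146484 (iv1 F434416) F434414 (iv6 F395952) F401849
theorem F448966 : act 2 n208337 = n135551 := d3_1 F448965 (iv6 F347285) (iv2 F220985)
def n208338 : Q := act 5 n134171
theorem D208338 : act 5 n134171 = n208338 := rfl
theorem F448967 : act 2 n208338 = n202956 := d2_1 D208338 (iv5 F426418) F426415
theorem F448968 : act 3 n208338 = n134173 := d6_1 D208338 (iv5 D134173) D134171
theorem F448969 : act 4 n208338 = n160047 := d9_1 D208338 F252553 (iv4 F422012) (iv5 D201841) (iv4 F218085) F218087 F359675 F352603 (iv4 D117377) (iv5 D54089) (iv4 F85361) F335877 F104876 D68669 (iv4 F366215)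
theorem F448970 : act 6 n208338 = n156517 := d12_2 (iv6 F366216) D208338 (iv5 D156517) (iv6 F322559) (iv5 D146484)
theorem F448971 : act 7 n208338 = n160045 := d13_2 F448626 D208338 (iv5 F448625)
theorem F448972 : act 0 n208338 = n158948 := d17_2 (iv1 D208337) D208338 F359676 (iv4 D135514) (iv5 D63718) D63716 D135509 F359572 (iv4 F448963)
theorem F448973 : act 0 n202955 = n208338 := d18_2 F234755 (iv4 F426366) F448969 F252553 (iv4 F422012) F422014 F339804 (iv0 D127478) (iv5 F106645)
def n208339 : Q := act 5 n134172
theorem D208339 : act 5 n134172 = n208339 := rfl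
theorem F448974 : act 2 n208339 = n197677 := d2_1 D208339 (iv5 F405385) (iv2 F216216)
theorem F448975 : act 3 n208339 = n201033 := d6_1 D208339 (iv5 D201033) F366213
theorem F448976 : act 6 n208339 = n207892 := d12_2 (iv6 F366217) D208339 (iv5 D207892) (iv6 F423590) F251339
theorem F448977 : act 7 n208339 = n197678 := d13_2 F446059 D208339 (iv5 F446057)
theorem F448978 : act 1 n208339 = n192996 := d17_6 (iv1 D134036) D134038 (iv1 F350814) (iv5 D134173) D134172 D208339 (iv5 F443010) (iv0 F443012) F216015
theorem F448979 : act 1 n197681 = n208339 := d15_1 (iv0 F443041) F448977 F445977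
def n208340 : Q := act 6 n134178
theorem D208340 : act 6 n134178 = n208340 := rfl
theorem F448980 : act 2 n208340 = n134183 := d3_1 D208340 (iv6 D134183) (iv2 F216221)
theorem F448981 : act 3 n208340 = n193247 := d7_1 D208340 F389315 F368229
theorem F448982 : act 4 n208340 = n180601 := d10_1 D208340 F353674 F354749
theorem F448983 : act 5 n208340 = n137329 := d12_1 D208340 (iv6 D137329) (iv5 F336146) (iv6 D134179) D134178
theorem F448984 : act 7 n208340 = n164573 := d14_2 F348523 D208340 F383420 F156176 F348520
theorem F448985 : act 0 n208340 = n137440 := d21_10 F220641 F429661 (iv5 D203744) (iv6 D120454) D120452 F365393 (iv5 F365396) (iv1 F215978) D134178 D208340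
theorem F448986 : act 0 n164574 = n208340 := d21_4 (iv5 D111227) D111224 F317224 (iv6 F333958) (iv6 D208340) (iv5 D134178) (iv1 F215984) (iv5 F365400) F365401 (iv1 F332236)
def n208341 : Q := act 4 n134184
theorem D208341 : act 4 n134184 = n208341 := rfl
theorem F448987 : act 2 n208341 = n137391 := d1_1 D208341 (iv4 D137391) (iv2 F330972)
theorem F448988 : act 5 n208341 = n141232 := d9_2 (iv5 F330974) D208341 (iv4 D141232) F101835 F84350 F78365 F50029 D64336 D136857 (iv5 F446167) F446166 (iv5 D139466) (iv4 F104276) (iv5 F165747) (iv4 F218706)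
theorem F448989 : act 0 n200974 = n208341 := d17_0 F448988 (iv1 F411144) F411143 (iv4 D137990) (iv5 F172288) (iv0 F410840) F410839 (iv0 F391963) (iv4 F418580)
def n208342 : Q := act 6 n134184
theorem D208342 : act 6 n134184 = n208342 := rfl
theorem F448990 : act 2 n208342 = n137392 := d3_1 D208342 (iv6 D137392) (iv2 F330972)
def n208343 : Q := act 6 n134196
theorem D208343 : act 6 n134196 = n208343 := rfl
theorem F448991 : act 5 n208343 = n135005 := d12_1 D208343 (iv6 D135005) F98773 F98775 D134196
def n208344 : Q := act 6 n134198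
theorem D208344 : act 6 n134198 = n208344 := rfl
theorem F448992 : act 2 n208344 = n136472 := d3_1 D208344 F344819 (iv2 F331005)
theorem F448993 : act 3 n208344 = n139097 := d7_1 D208344 F336213 (iv3 F331006)
theorem F448994 : act 4 n208344 = n137065 := d10_1 D208344 (iv6 F336209) (iv4 F331007)
theorem F448995 : act 5 n208344 = n204220 := d12_1 D208344 F431539 F328925 D197965 F406300
theorem F448996 : act 7 n208344 = n160318 := d14_2 F422443 D208344 (iv6 D160318) (iv7 F253137) F422444
theorem F448997 : act 0 n208344 = n204568 := d21_10 F432896 (iv1 D139297) (iv5 F356113) F356114 D139306 F422572 F422569 F406301 F406300 D208344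
theorem F448998 : act 0 n136913 = n193285 := d21_4 (iv5 D63041) D63039 (iv5 F328194) D136913 F432875 (iv5 D204564) (iv1 F431541) (iv5 F448995) (iv6 D208344) (iv1 D134198)
theorem F448999 : act 1 n208344 = n204567 := d15_1 (iv0 F448997) (iv7 F432894) F432899
theorem F449000 : act 4 n204561 = n135924 := d18_7 (iv1 F218633) D135917 (iv1 F364775) (iv4 F448994) F448995 F431538 F432869 F341520 (iv5 F341515)
theorem F449001 : act 6 n199639 = n204561 := d10_0 F449000 F386310 F412956
def n208345 : Q := act 3 n134205
theorem D208345 : act 3 n134205 = n208345 := rfl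
theorem F449002 : act 4 n208345 = n207842 := d5_2 (iv4 F216241) D208345 (iv3 D207842) (iv4 D132429) D132428
theorem F449003 : act 6 n208345 = n140480 := d7_2 F216242 D208345 (iv3 D140480)
theorem F449004 : act 0 n205841 = n207842 := d20_7 (iv4 D63046) (iv1 F163955) D131038 (iv3 F425530) F425533 (iv3 F411106) (iv4 F438098) (iv4 F449002) (iv3 D208345) (iv1 D134205)
theorem F449005 : act 1 n205838 = n207842 := d15_0 (iv0 F449004) F438099 (iv2 F438082)
def n208346 : Q := act 1 n134206
theorem D208346 : act 1 n134206 = n208346 := rfl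
theorem F449006 : act 7 n208346 = n163188 := d15_2 (iv0 F409499) D208346 (iv2 F409495)
theorem F449007 : act 4 n208346 = n163192 := d18_7 F324590 F132220 D86264 D180600 F403007 F403006 D208346 F409488 F409486
theorem F449008 : act 3 n204948 = n208346 := d20_3 F393662 F393660 D204948 (iv1 D208346) (iv3 D134206) (iv4 D63046) (iv1 F163955) D131038 (iv3 F425530) F425533
theorem F449009 : act 2 n208346 = n200153 := d0_1 F449008 F415273 (iv2 F433240) F433241 (iv2 F434302)
theorem F449010 : act 6 n208346 = n140470 := d7_2 (iv6 F434303) F449008 (iv3 F424238)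
theorem F449011 : act 1 n208346 = n196790 := d15_0 (iv0 F409498) (iv7 F415274) (iv2 F449009)
def n208347 : Q := act 2 n134206
theorem D208347 : act 2 n134206 = n208347 := rfl
theorem F449012 : act 3 n208347 = n196804 := d0_2 D134206 D208347 F401852 F222774 F101248
theorem F449013 : act 6 n208347 = n134211 := d3_2 (iv6 F216243) D208347 (iv2 D134211)
theorem F449014 : act 7 n196790 = n208347 := d15_2 D208346 F449011 (iv2 D208347)
theorem F449015 : act 5 n208347 = n193229 := d13_1 F449014 F389250 D196790
theorem F449016 : act 0 n200153 = n208347 := d17_0 F449015 F391511 (iv5 F424827) F424825 F350836 F202672 F348489 (iv0 F348492) D200153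
theorem F449017 : act 1 n163188 = n208347 := d18_8 F391511 (iv4 D193956) F362568 (iv4 F172313) D199243 F411296 (iv0 D163190) (iv4 F257476) F449015
def n208348 : Q := act 5 n134206
theorem D208348 : act 5 n134206 = n208348 := rfl
theorem F449018 : act 2 n208348 = n193229 := d2_1 D208348 (iv5 F449015) (iv2 D208347)
theorem F449019 : act 3 n208348 = n134207 := d6_1 D208348 (iv5 D134207) D134206
theorem F449020 : act 4 n208348 = n137420 := d9_1 D208348 (iv5 F432546) F432545 (iv5 D180606) (iv4 F348466) D207440 F444922 (iv5 D196790) (iv4 F220512) (iv5 F448983) F448982 (iv5 D180601) D180600 F403007 F403006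
theorem F449021 : act 7 n208348 = n196786 := d16_8 (iv4 F220512) (iv5 F448983) F448982 (iv5 D180601) D180600 F403007 F403006 D208348 F401793
theorem F449022 : act 0 n208348 = n196789 := d17_2 (iv1 D208346) D208348 (iv5 F416616) (iv4 D200476) (iv5 D113167) D113166 (iv5 F409493) F409491 (iv4 F449007)
theorem F449023 : act 1 n208348 = n196788 := d17_6 F438583 (iv5 F444914) (iv1 F444919) F403007 F403006 D208348 F401801 F424834 (iv4 F428756)
theorem F449024 : act 6 n193223 = n208348 := d14_5 F449021 (iv6 D196786) F220497 (iv6 F391360) F391359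
def n208349 : Q := act 7 n134206
theorem D208349 : act 7 n134206 = n208349 := rfl
theorem F449025 : act 2 n208349 = n196790 := d4_1 D208349 F449014 (iv2 D208347)
theorem F449026 : act 3 n208349 = n134208 := d8_1 D208349 (iv7 D134208) D134206
theorem F449027 : act 5 n208349 = n196786 := d13_1 D208349 (iv7 F449021) (iv5 D208348)
theorem F449028 : act 6 n208349 = n140384 := d14_1 D208349 F223503 F101687 F101259 (iv6 F216243)
theorem F449029 : act 1 n200153 = n208349 := d15_1 (iv0 F449016) (iv7 D208349) D208347
theorem F449030 : act 1 n208349 = n163188 := d15_1 F449029 (iv7 F449006) F449009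
def n208350 : Q := act 0 n134207
theorem D208350 : act 0 n134207 = n208350 := rfl
theorem F449031 : act 5 n208350 = n134725 := d17_1 D208350 (iv1 F216747) D196298 (iv4 F400895) (iv5 F400894) (iv0 F400893) D201978 F422598 F422462
theorem F449032 : act 4 n208350 = n196656 := d18_1 D208350 (iv1 D196656) F165182 D107200 F331793 (iv0 F216965) F216963 (iv0 D134204) D134207
theorem F449033 : act 3 n208350 = n194734 := d20_5 F165218 D137420 (iv4 F449020) F449019 D208350 (iv4 F439607) (iv1 F439610) F363002 (iv3 F360686) F362569
theorem F449034 : act 2 n196320 = n208350 := d15_3 (iv0 D208350) F216244 D196320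
theorem F449035 : act 1 n140673 = n208350 := d15_0 (iv0 D208350) (iv7 F422460) F422454
theorem F449036 : act 7 n208350 = n134724 := d15_2 (iv0 F223765) F449035 F216744
def n208351 : Q := act 6 n134207
theorem D208351 : act 6 n134207 = n208351 := rfl
theorem F449037 : act 2 n208351 = n196815 := d3_1 D208351 F401880 F222779
theorem F449038 : act 3 n208351 = n193223 := d7_1 D208351 F449024 F449019
theorem F449039 : act 5 n208351 = n134213 := d12_1 D208351 (iv6 D134213) (iv5 D63049) (iv6 F98359) D134207
theorem F449040 : act 7 n208351 = n196806 := d14_2 F422460 D208351 (iv6 D196806) (iv7 F401704) (iv6 F422457)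
theorem F449041 : act 1 n196813 = n208351 := d15_1 D196813 F449040 F401860
theorem F449042 : act 1 n196815 = n142809 := d15_0 (iv0 F423385) (iv7 F449040) F449037
theorem F449043 : act 1 n208351 = n196812 := d15_0 (iv0 D196812) D196815 (iv2 F449037)
def n208352 : Q := act 6 n134210
theorem D208352 : act 6 n134210 = n208352 := rfl
theorem F449044 : act 2 n208352 = n203575 := d3_1 D208352 F428958 (iv2 F366693)
theorem F449045 : act 3 n208352 = n153616 := d7_1 D208352 F241488 F351351
theorem F449046 : act 4 n208352 = n191348 := d10_1 D208352 F383149 F351352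
theorem F449047 : act 7 n208352 = n206262 := d14_2 F366692 D208352 F439974 F424036 F406515
theorem F449048 : act 0 n208352 = n197544 := d21_4 (iv5 F332988) D193063 F388631 D208352 F404759 (iv5 F412826) F412828 (iv5 D154771) (iv6 F319267) F246658
def n208353 : Q := act 5 n134211
theorem D208353 : act 5 n134211 = n208353 := rfl
theorem F449049 : act 2 n208353 = n134212 := d2_1 D208353 (iv5 D134212) D134211
theorem F449050 : act 3 n208353 = n193051 := d6_1 D208353 F388594 F222767
theorem F449051 : act 6 n208353 = n193228 := d12_2 F449013 D208353 (iv5 D193228) D193229 (iv5 F449015)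
theorem F449052 : act 7 n208353 = n197667 := d13_2 F222787 D208353 F405306
theorem F449053 : act 0 n208353 = n197661 := d17_2 (iv1 F222785) D208353 (iv5 D197661) (iv4 F317013) F92372 D75957 D159058 (iv0 F428963) F428961
theorem F449054 : act 0 n197669 = n208353 := d21_1 (iv5 F405312) (iv5 D208353) (iv6 F449013) (iv1 F449017) (iv6 D163188) D163187 (iv1 F405357) (iv5 D197685) (iv6 D108582) (iv1 F246659)
def n208354 : Q := act 4 n134212
theorem D208354 : act 4 n134212 = n208354 := rfl
theorem F449055 : act 5 n208354 = n207699 := d16_5 F434590 (iv5 D197089) F166241 D134212 D208354 (iv4 F448815) F448813 (iv7 F391594) F434592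
theorem F449056 : act 1 n207705 = n208354 := d17_6 (iv1 F215987) F348519 F348521 F352309 (iv4 F212755) (iv5 F446088) F449055 F446054 (iv4 D134172)
def n208355 : Q := act 6 n134212
theorem D208355 : act 6 n134212 = n208355 := rfl
theorem F449057 : act 2 n208355 = n193228 := d3_1 D208355 (iv6 F449051) F449049
theorem F449058 : act 3 n208355 = n134213 := d7_1 D208355 (iv6 D134213) (iv3 F216249)
theorem F449059 : act 5 n208355 = n193223 := d12_1 D208355 F449024 (iv5 D208348) F216243 D134212
def n208356 : Q := act 6 n134214
theorem D208356 : act 6 n134214 = n208356 := rfl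
theorem F449060 : act 2 n208356 = n198982 := d3_1 D208356 (iv6 D198982) F216251
theorem F449061 : act 4 n208356 = n207820 := d10_1 D208356 (iv6 D207820) (iv4 F216250)
theorem F449062 : act 0 n134292 = n208356 := d20_10 F449061 F446639 F446638 (iv3 F383858) F383860 F216349 (iv4 F164171) F168007 F168008 D134292
def n208357 : Q := act 6 n134215
theorem D208357 : act 6 n134215 = n208357 := rfl
theorem F449063 : act 2 n208357 = n134216 := d3_1 D208357 (iv6 D134216) D134215
theorem F449064 : act 3 n208357 = n136929 := d7_1 D208357 (iv6 F394447) F394446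
theorem F449065 : act 4 n208357 = n205776 := d10_1 D208357 (iv6 D205776) (iv4 F216254)
theorem F449066 : act 5 n208357 = n191503 := d12_1 D208357 F383592 (iv5 F370348) (iv6 F370351) F336976
def n208358 : Q := act 0 n134216
theorem D208358 : act 0 n134216 = n208358 := rfl
theorem F449067 : act 3 n208358 = n137996 := d20_5 (iv4 F98525) (iv1 F101912) (iv4 F98369) (iv3 F216258) D208358 F221264 (iv1 F411666) (iv4 F216921) F216920 (iv1 F98644)
theorem F449068 : act 6 n137994 = n208358 := d7_0 F449067 (iv6 D137996) D137994
def n208359 : Q := act 1 n134216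
theorem D208359 : act 1 n134216 = n208359 := rfl
def n208360 : Q := act 5 n134216
theorem D208360 : act 5 n134216 = n208360 := rfl
theorem F449069 : act 2 n208360 = n191503 := d2_1 D208360 (iv5 F449066) F449063
theorem F449070 : act 3 n208360 = n134217 := d6_1 D208360 (iv5 D134217) (iv3 F216258)
theorem F449071 : act 6 n208360 = n192259 := d12_2 D134216 D208360 F386228 F341481 F216175
def n208361 : Q := act 0 n134217
theorem D208361 : act 0 n134217 = n208361 := rfl
theorem F449072 : act 5 n208361 = n135218 := d17_3 F101882 D134217 D208361 (iv4 D135218) (iv5 D63539) F48193 F47930 F48192 D63533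
theorem F449073 : act 1 n197628 = n208361 := d15_0 (iv0 D208361) (iv7 F217210) (iv2 F405093)
def n208362 : Q := act 4 n134217
theorem D208362 : act 4 n134217 = n208362 := rfl
theorem F449074 : act 6 n208362 = n204454 := d10_2 F363285 D208362 (iv4 D204454)
def n208363 : Q := act 6 n134219
theorem D208363 : act 6 n134219 = n208363 := rfl
theorem F449075 : act 2 n208363 = n207529 := d3_1 D208363 (iv6 D207529) F355059
theorem F449076 : act 3 n208363 = n134222 := d7_1 D208363 (iv6 D134222) D134219
theorem F449077 : act 4 n208363 = n196064 := d10_1 D208363 (iv6 D196064) (iv4 F216261)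
theorem F449078 : act 0 n135969 = n208363 := d21_4 (iv5 F220891) (iv1 D63927) D63929 D135969 (iv6 D208363) F367303 (iv1 F367300) (iv5 F368731) F368732 (iv1 F218907)
def n208364 : Q := act 5 n134220
theorem D208364 : act 5 n134220 = n208364 := rfl
theorem F449079 : act 2 n208364 = n206507 := d2_1 D208364 F441130 (iv2 F355043)
theorem F449080 : act 6 n208364 = n207991 := d12_2 F445616 D208364 F447309 (iv6 F445497) (iv5 F445615)
theorem F449081 : act 7 n208364 = n207106 := d13_2 (iv7 F355042) D208364 (iv5 D207106)
theorem F449082 : act 4 n208364 = n174054 := d16_2 D134220 D208364 F337627 F315780 D173512 (iv4 F354991) F354992 (iv7 F354989) F354988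
theorem F449083 : act 1 n208364 = n190733 := d17_6 (iv1 D63003) D63005 D134130 F349806 D134220 D208364 (iv5 D190733) F359791 (iv4 D134125)
def n208365 : Q := act 2 n134224
theorem D208365 : act 2 n134224 = n208365 := rfl
theorem F449084 : act 3 n208365 = n134539 := d0_2 D134224 D208365 (iv2 F355060) (iv3 F211417) F355026
theorem F449085 : act 5 n208365 = n201665 := d2_2 F448865 D208365 (iv2 F448863)
theorem F449086 : act 7 n208365 = n207528 := d4_2 F406338 D208365 F445307
theorem F449087 : act 4 n134990 = n208365 := d11_3 F449086 F445308 F412721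
theorem F449088 : act 1 n198980 = n208365 := d15_1 (iv0 F410154) F449086 F445307
def n208366 : Q := act 4 n134224
theorem D208366 : act 4 n134224 = n208366 := rfl
theorem F449089 : act 2 n208366 = n134990 := d1_1 D208366 F449087 (iv2 D208365)
theorem F449090 : act 3 n208366 = n135296 := d5_1 D208366 (iv4 F217531) (iv3 F216265) (iv4 D134225) D134224
theorem F449091 : act 6 n208366 = n208365 := d10_2 (iv6 F355000) D208366 (iv4 F449087)
theorem F449092 : act 7 n208366 = n206549 := d11_2 F406338 D208366 F441284
theorem F449093 : act 0 n208366 = n197520 := d18_2 F360770 D208366 F404680 F355340 (iv4 D151563) (iv0 D71448) (iv4 F107992) D151558 (iv5 F347361)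
theorem F449094 : act 1 n208366 = n208285 := d18_6 D199321 F411659 (iv1 F421240) (iv4 F448864) F448865 D208366 F448739 F355348 (iv5 F172436)
theorem F449095 : act 5 n193390 = n208366 := d6_0 F449090 (iv5 F352564) D193390
def n208367 : Q := act 5 n134225
theorem D208367 : act 5 n134225 = n208367 := rfl
theorem F449096 : act 2 n208367 = n207106 := d2_1 D208367 (iv5 D207106) F355041
theorem F449097 : act 3 n208367 = n175432 := d6_1 D208367 (iv5 F352565) (iv3 F216265)
theorem F449098 : act 4 n208367 = n163817 := d9_1 D208367 (iv5 F355018) (iv4 F213515) (iv5 F427699) (iv4 F427703) F349806 D134220 D208364 F449082 F337627 F315780 D173512 (iv4 F354991) F354992 D134225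
theorem F449099 : act 7 n208367 = n206507 := d13_2 (iv7 F355025) D208367 F441130
theorem F449100 : act 0 n208367 = n190733 := d17_2 F216266 D208367 (iv5 D190733) F148591 (iv5 F148447) F339692 (iv5 F339682) (iv0 F216302) (iv4 F208754)
theorem F449101 : act 6 n208367 = n163816 := d21_3 F417690 F216266 D208367 F258258 F328215 (iv5 F93155) (iv1 F416842) (iv5 D125797) D125798 (iv1 F417688)
def n208368 : Q := act 5 n134229
theorem D208368 : act 5 n134229 = n208368 := rfl
theorem F449102 : act 2 n208368 = n134236 := d2_1 D208368 (iv5 D134236) (iv2 F216269)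
theorem F449103 : act 6 n208368 = n154326 := d12_2 D134229 D208368 (iv5 F242414) (iv6 D154219) (iv5 F329918)
theorem F449104 : act 7 n208368 = n195014 := d13_2 F361741 D208368 (iv5 D195014)
def n208369 : Q := act 6 n134232
theorem D208369 : act 6 n134232 = n208369 := rfl
theorem F449105 : act 2 n208369 = n172783 := d3_1 D208369 F271054 (iv2 F336889)
theorem F449106 : act 3 n208369 = n161656 := d7_1 D208369 F319558 (iv3 F336890)
theorem F449107 : act 4 n208369 = n134233 := d10_1 D208369 (iv6 D134233) D134232
theorem F449108 : act 5 n208369 = n155077 := d12_1 D208369 (iv6 D155077) F110292 D82885 (iv5 F336891)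
def n208370 : Q := act 0 n134233
theorem D208370 : act 0 n134233 = n208370 := rfl
theorem F449109 : act 6 n208370 = n153283 := d21_5 F354992 (iv1 D63055) D63057 D134233 D208370 (iv5 F385725) (iv1 F385729) (iv5 F389314) F389315 (iv1 F368232)
theorem F449110 : act 2 n157586 = n208370 := d3_3 F449109 F350783 D157586
def n208371 : Q := act 1 n134233
theorem D208371 : act 1 n134233 = n208371 := rfl
theorem F449111 : act 7 n208371 = n157586 := d15_2 (iv0 D208370) D208371 F449110
theorem F449112 : act 6 n185247 = n208371 := d21_3 D72765 D153829 F310884 (iv1 D208371) (iv6 D134233) (iv5 D63057) D63054 (iv5 F349806) F353722 (iv1 D72764)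
def n208372 : Q := act 7 n134233
theorem D208372 : act 7 n134233 = n208372 := rfl
theorem F449113 : act 3 n208372 = n134245 := d8_1 D208372 (iv7 D134245) (iv3 F216270)
theorem F449114 : act 5 n208372 = n154325 := d13_1 D208372 F432298 (iv5 F432294)
theorem F449115 : act 0 n157586 = n208372 := d21_10 F449114 F342725 (iv5 F136971) (iv6 D89257) (iv1 F74479) (iv6 F156196) (iv5 D101396) D101394 F357287 D157586
def n208373 : Q := act 5 n134235
theorem D208373 : act 5 n134235 = n208373 := rfl
theorem F449116 : act 2 n208373 = n195017 := d2_1 D208373 F395432 F361736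
theorem F449117 : act 7 n208373 = n185418 := d13_2 (iv7 F361735) D208373 (iv5 F294414)
theorem F449118 : act 0 n208373 = n187052 := d17_2 (iv1 F361742) D208373 (iv5 F444207) F444206 F417507 (iv0 F435163) F440799 F440794 (iv4 D195013)
theorem F449119 : act 0 n195016 = n208373 := d21_10 (iv5 D208373) (iv1 D134235) D134236 (iv6 F432297) (iv1 D204379) F198166 (iv5 D75005) (iv1 F191287) D152889 (iv6 F395427)
def n208374 : Q := act 0 n134236
theorem D208374 : act 0 n134236 = n208374 := rfl
theorem F449120 : act 5 n208374 = n134900 := d21_2 D134236 D208374 (iv6 D134900) (iv1 F216830) (iv6 F375983) (iv5 D189182) (iv1 F375945) F375942 F361737 (iv1 D134235)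
theorem F449121 : act 6 n182199 = n208374 := d12_0 F449120 (iv6 D134900) D134899 F398387 F398385
theorem F449122 : act 1 n195014 = n208374 := d17_6 F442076 (iv5 F441550) F441552 (iv5 F436363) (iv4 D195013) D195014 F449120 (iv0 F332734) (iv4 F442072)
def n208375 : Q := act 1 n134236
theorem D208375 : act 1 n134236 = n208375 := rfl
theorem F449123 : act 1 n208375 = n195014 := d15_1 D208375 (iv7 F449104) F449102
def n208376 : Q := act 4 n134236
theorem D208376 : act 4 n134236 = n208376 := rfl
def n208377 : Q := act 7 n134236
theorem D208377 : act 7 n134236 = n208377 := rfl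
theorem F449124 : act 2 n208377 = n195014 := d4_1 D208377 (iv7 F449104) F449102
theorem F449125 : act 3 n208377 = n134254 := d8_1 D208377 (iv7 D134254) (iv3 F216271)
theorem F449126 : act 5 n208377 = n134237 := d13_1 D208377 (iv7 D134237) D134236
theorem F449127 : act 6 n153675 = n208377 := d12_0 F449126 (iv6 F394053) (iv5 D194676) D194677 (iv5 F394060)
theorem F449128 : act 4 n208377 = n182135 := d10_1 F449127 (iv6 D182135) (iv4 F308321)
theorem F449129 : act 7 n182135 = n208376 := d11_2 D208377 F449128 (iv4 D208376)
def n208378 : Q := act 5 n134242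
theorem D208378 : act 5 n134242 = n208378 := rfl
theorem F449130 : act 2 n208378 = n204428 := d2_1 D208378 F432503 F364378
theorem F449131 : act 3 n208378 = n182981 := d6_1 D208378 (iv5 F427066) F427064
theorem F449132 : act 6 n208378 = n203200 := d12_2 (iv6 F364380) D208378 (iv5 F433682) F433680 (iv5 D203745)
theorem F449133 : act 7 n208378 = n204429 := d13_2 F369016 D208378 F432508
theorem F449134 : act 0 n208378 = n203728 := d17_2 D134242 D208378 (iv5 D203728) F336777 (iv5 F140523) (iv0 F372667) F372664 (iv0 F363029) F172414
theorem F449135 : act 1 n208378 = n199388 := d17_6 (iv1 F304012) (iv5 D47565) D47562 D102541 (iv4 F364379) D208378 (iv5 D199388) F356365 F87725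
theorem F449136 : act 4 n204008 = n208378 := d18_7 F356364 F90877 F304455 F356494 D122711 D204133 (iv0 F431154) F449135 (iv5 D199388)
theorem F449137 : act 0 n204131 = n204008 := d18_2 (iv1 D204130) D204131 F449136 (iv5 D208378) F364379 F289880 (iv4 F329682) D207521 (iv5 F445276)
def n208379 : Q := act 5 n134243
theorem D208379 : act 5 n134243 = n208379 := rfl
theorem F449138 : act 2 n208379 = n204429 := d2_1 D208379 F432508 F369015
theorem F449139 : act 3 n208379 = n192313 := d6_1 D208379 F386390 F370316
theorem F449140 : act 6 n208379 = n204038 := d12_2 F370311 D208379 (iv5 F432596) (iv6 D204456) F370308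
theorem F449141 : act 7 n208379 = n204428 := d13_2 F364377 D208379 F432503
theorem F449142 : act 4 n208379 = n204015 := d16_2 (iv4 F364376) D208379 (iv5 F430839) F430838 (iv5 F369212) F290024 D102541 (iv7 F335629) F335627
theorem F449143 : act 0 n208379 = n199388 := d17_2 F432527 D208379 (iv5 D199388) F356367 F340899 (iv0 F352766) (iv5 F411522) F411520 (iv4 F432523)
theorem F449144 : act 1 n208379 = n203728 := d17_6 F304455 (iv5 D102440) (iv1 F74797) D102546 (iv4 F364376) D208379 (iv5 D203728) F191834 F90877
theorem F449145 : act 6 n204015 = n204144 := d10_2 (iv6 F449140) F449142 F431189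
theorem F449146 : act 3 n204144 = n204016 := d7_1 F449145 (iv6 D204016) D204015
def n208380 : Q := act 0 n134246
theorem D208380 : act 0 n134246 = n208380 := rfl
theorem F449147 : act 4 n208380 = n205632 := d20_2 F437327 D208380 F437277 (iv1 F207625) (iv3 F442546) (iv4 F447245) F447249 (iv4 F442875) F442874 F437835
theorem F449148 : act 1 n194783 = n208380 := d15_0 (iv0 D208380) (iv7 F442847) F442844
theorem F449149 : act 7 n208380 = n198981 := d15_2 F441978 F449148 (iv2 F441975)
def n208381 : Q := act 5 n134246
theorem D208381 : act 5 n134246 = n208381 := rfl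
theorem F449150 : act 3 n208381 = n134247 := d6_1 D208381 (iv5 D134247) D134246
def n208382 : Q := act 4 n134247
theorem D208382 : act 4 n134247 = n208382 := rfl
def n208383 : Q := act 4 n134249
theorem D208383 : act 4 n134249 = n208383 := rfl
theorem F449151 : act 3 n208383 = n204003 := d5_1 D208383 (iv4 D204003) F335608 D186015 (iv3 F365795)
theorem F449152 : act 5 n208383 = n204027 := d16_1 D208383 F430851 (iv5 D177486) (iv4 F332919) (iv5 D131928) (iv4 F168468) D134247 (iv7 F363074) F363073
def n208384 : Q := act 3 n134251
theorem D208384 : act 3 n134251 = n208384 := rfl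
theorem F449153 : act 2 n208384 = n188205 := d0_1 D208384 (iv3 D188205) (iv2 F292674) D187035 F368875
theorem F449154 : act 5 n208384 = n134886 := d6_2 (iv5 F216281) D208384 F217088
def n208385 : Q := act 4 n134251
theorem D208385 : act 4 n134251 = n208385 := rfl
theorem F449155 : act 1 n208385 = n207525 := d18_6 (iv1 F328735) F328737 (iv1 D128654) (iv4 F98706) (iv5 F216281) D208385 (iv4 D207525) D207524 F445292
def n208386 : Q := act 6 n134251
theorem D208386 : act 6 n134251 = n208386 := rfl
theorem F449156 : act 5 n208386 = n134887 := d12_1 D208386 (iv6 D134887) (iv5 D63391) D63392 (iv5 F216281)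
def n208387 : Q := act 4 n134252
theorem D208387 : act 4 n134252 = n208387 := rfl
theorem F449157 : act 3 n208387 = n194090 := d5_1 D208387 (iv4 D194090) F157902 (iv4 F292182) (iv3 F365673)
theorem F449158 : act 0 n208387 = n207525 := d18_2 (iv1 F448668) D208387 (iv4 D207525) (iv5 D131926) F96505 D61905 (iv4 F180509) F216039 (iv5 F448667)
def n208388 : Q := act 6 n134252
theorem D208388 : act 6 n134252 = n208388 := rfl
theorem F449159 : act 3 n208388 = n136918 := d7_1 D208388 F220101 (iv3 F365673)
theorem F449160 : act 5 n208388 = n136913 := d12_1 D208388 (iv6 D136913) F328194 (iv6 F328201) F328200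
theorem F449161 : act 0 n179882 = n208388 := d21_4 F125729 F301735 D85915 D179882 (iv6 D208388) (iv5 F328200) F328196 F329398 (iv6 D81803) D81800
def n208389 : Q := act 0 n134253
theorem D208389 : act 0 n134253 = n208389 := rfl
theorem F449162 : act 4 n208389 = n134327 := d18_3 (iv1 D134252) D134253 D208389 F216334 F98693 D63388 D134881 (iv0 F328196) F328200
theorem F449163 : act 2 n207297 = n208389 := d1_3 F449162 (iv2 F216335) D207297
def n208390 : Q := act 1 n134253
theorem D208390 : act 1 n134253 = n208390 := rfl
theorem F449164 : act 7 n208390 = n207297 := d15_2 (iv0 D208389) D208390 F449163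
theorem F449165 : act 4 n208390 = n134328 := d18_7 (iv1 F211400) (iv4 D63072) (iv1 D29832) (iv4 F47997) D63064 D134253 D208390 F445299 F445298
theorem F449166 : act 3 n170650 = n208390 := d5_5 F449165 (iv3 F365882) (iv4 F334126) (iv3 D170649) D170650
theorem F449167 : act 5 n199346 = n208390 := d16_1 D199346 F449165 (iv5 F216337) F209293 F95815 (iv4 F111698) (iv5 F246042) (iv7 D156497) (iv2 F172476)
def n208391 : Q := act 3 n134253
theorem D208391 : act 3 n134253 = n208391 := rfl
def n208392 : Q := act 5 n134253
theorem D208392 : act 5 n134253 = n208392 := rfl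
theorem F449168 : act 4 n208392 = n139429 := d16_2 D134253 D208392 F222631 F101153 (iv5 F98252) (iv4 F216037) (iv5 F448667) (iv7 D208272) F216035
theorem F449169 : act 7 n208392 = n139428 := d16_8 (iv4 D202526) (iv5 D115932) F84345 F40921 (iv4 F47997) D63064 D134253 D208392 (iv2 F424380)
theorem F449170 : act 0 n203734 = n208392 := d18_2 D202534 (iv4 F429592) F449168 F222631 F101153 F53594 (iv4 F80916) (iv0 F84349) D115937
def n208393 : Q := act 7 n134253
theorem D208393 : act 7 n134253 = n208393 := rfl
theorem F449171 : act 4 n208393 = n134254 := d11_1 D208393 (iv7 D134254) D134253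
theorem F449172 : act 5 n208393 = n139428 := d13_1 D208393 (iv7 F449169) (iv5 D208392)
theorem F449173 : act 0 n207297 = n208393 := d18_2 F211396 D207297 F449171 F216283 F98380 (iv0 F168255) D63559 (iv0 F100230) D131926
def n208394 : Q := act 5 n134255
theorem D208394 : act 5 n134255 = n208394 := rfl
theorem F449174 : act 3 n208394 = n134256 := d6_1 D208394 (iv5 D134256) D134255
theorem F449175 : act 6 n208394 = n204018 := d12_2 F217291 D208394 F430830 F386335 F370489
theorem F449176 : act 4 n208394 = n204019 := d16_2 F217241 D208394 F430835 (iv4 F312221) (iv5 F223132) (iv4 F339043) (iv5 D138046) (iv7 F221297) (iv2 F356301)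
theorem F449177 : act 0 n208394 = n192444 := d21_1 D208394 F386732 (iv6 F431098) (iv1 F431215) F431214 F328714 (iv1 F252356) (iv5 F355340) D208282 F448726
def n208395 : Q := act 4 n134256
theorem D208395 : act 4 n134256 = n208395 := rfl
theorem F449178 : act 2 n208395 = n204089 := d1_1 D208395 F431036 F217426
theorem F449179 : act 3 n208395 = n204021 := d5_1 D208395 F430843 (iv3 F430834) (iv4 F449176) F449174
theorem F449180 : act 6 n208395 = n204020 := d10_2 F369213 D208395 F430838
theorem F449181 : act 0 n208395 = n204047 := d18_2 F444202 D208395 F430887 F304300 F329435 F98701 (iv4 F217073) F217076 D207296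
def n208396 : Q := act 4 n134258
theorem D208396 : act 4 n134258 = n208396 := rfl
theorem F449182 : act 3 n208396 = n170647 := d5_1 D208396 (iv4 D170647) (iv3 F268097) (iv4 F447042) F447040
theorem F449183 : act 7 n208396 = n204089 := d11_2 F217427 D208396 F431036
theorem F449184 : act 5 n208396 = n203734 := d16_1 D208396 F429592 F424399 F332938 (iv5 D63069) D63068 D134256 (iv7 F445287) F445285
theorem F449185 : act 1 n208396 = n204047 := d18_6 (iv1 F216040) F216037 (iv1 F98254) D63072 D134258 D208396 F430887 F363075 (iv5 D134247)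
def n208397 : Q := act 5 n134262
theorem D208397 : act 5 n134262 = n208397 := rfl
theorem F449186 : act 2 n208397 = n134263 := d2_1 D208397 (iv5 D134263) D134262
theorem F449187 : act 4 n208397 = n205008 := d9_1 D208397 (iv5 D205008) (iv4 D125089) D125090 F350811 (iv5 D134038) (iv4 F161907) D195253 (iv4 F434544) (iv5 D205001) (iv4 D125084) D125085 F352319 (iv5 D134275) (iv4 F216286)
theorem F449188 : act 0 n208397 = n197676 := d17_2 (iv1 F396468) D208397 (iv5 F421965) (iv4 F445022) F445020 (iv0 F419401) (iv5 F448755) F448753 F434596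
theorem F449189 : act 1 n208397 = n197674 := d17_6 D63033 D134173 (iv1 F360209) (iv5 D134275) (iv4 F216286) D208397 (iv5 F405325) (iv0 D134155) F98332
def n208398 : Q := act 6 n134262
theorem D208398 : act 6 n134262 = n208398 := rfl
theorem F449190 : act 2 n208398 = n134264 := d3_1 D208398 (iv6 D134264) D134262
theorem F449191 : act 4 n208398 = n134276 := d10_1 D208398 (iv6 D134276) (iv4 F216286)
def n208399 : Q := act 1 n134263
theorem D208399 : act 1 n134263 = n208399 := rfl
theorem F449192 : act 7 n208399 = n197676 := d15_2 (iv0 F406533) D208399 (iv2 F406530)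
theorem F449193 : act 5 n208399 = n201830 := d17_7 (iv1 F215984) (iv5 F365400) (iv1 D134278) (iv5 D63084) (iv4 F98385) D134263 D208399 F421961 F216187
theorem F449194 : act 4 n208399 = n193063 := d17_9 (iv1 F388635) F167914 (iv1 F246659) (iv5 F405312) F448908 F448905 (iv0 D134260) D134263 D208399
theorem F449195 : act 2 n197674 = n208399 := d1_3 F449194 F388633 D197674
def n208400 : Q := act 4 n134263
theorem D208400 : act 4 n134263 = n208400 := rfl
theorem F449196 : act 2 n208400 = n205008 := d1_1 D208400 (iv4 F449187) F449186
theorem F449197 : act 3 n208400 = n136556 := d5_1 D208400 (iv4 D136556) F100011 (iv4 F98386) (iv3 F216287)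
theorem F449198 : act 7 n208400 = n205001 := d11_2 F396482 D208400 F434544
theorem F449199 : act 5 n208400 = n205003 := d16_3 (iv4 F98385) D134263 D208400 F434554 (iv5 F415466) F415465 F360775 F216022 (iv2 D63083)
theorem F449200 : act 6 n202465 = n208400 := d12_0 F449199 (iv6 F434557) F424725 (iv6 D202607) (iv5 F424113)
def n208401 : Q := act 6 n134263
theorem D208401 : act 6 n134263 = n208401 := rfl
theorem F449201 : act 3 n208401 = n134265 := d7_1 D208401 (iv6 D134265) (iv3 F216287)
theorem F449202 : act 4 n208401 = n202465 := d10_1 D208401 F449200 (iv4 D208400)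
theorem F449203 : act 5 n208401 = n206694 := d12_1 D208401 F446227 F446225 (iv6 D134264) D134263
theorem F449204 : act 6 n207931 = n208399 := d21_3 (iv5 F447033) (iv1 F447030) D207931 (iv1 D208399) D208401 F449203 (iv1 D206694) D206695 (iv6 F442186) F447056
def n208402 : Q := act 1 n134264
theorem D208402 : act 1 n134264 = n208402 := rfl
theorem F449205 : act 5 n207841 = n208402 := d21_0 (iv1 D208402) (iv5 F446225) (iv6 F446227) (iv1 D206694) (iv6 D129117) F95908 D129300 (iv5 F208379) D205785 F446670
theorem F449206 : act 6 n205668 = n208402 := d21_3 (iv5 D206874) (iv1 F211804) (iv5 F437406) (iv1 D208402) (iv6 D134264) D134263 F406533 (iv5 F421951) (iv6 F421954) (iv1 F442477)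
def n208403 : Q := act 1 n134265
theorem D208403 : act 1 n134265 = n208403 := rfl
theorem F449207 : act 5 n208403 = n207005 := d18_9 F442940 F438347 F436575 (iv4 F443130) (iv5 D207052) F373165 (iv0 D136564) (iv4 F216290) D208403
theorem F449208 : act 4 n192995 = n208403 := d20_6 F434257 F223824 (iv4 F223712) F340008 D152524 (iv3 F388465) (iv1 D208403) F216290 (iv3 F219649) (iv1 F434259)
theorem F449209 : act 3 n201765 = n208403 := d20_9 F216290 D136564 (iv4 F373165) D207051 (iv1 F443125) F421739 F179164 D115048 D201765 (iv1 D208403)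
theorem F449210 : act 6 n192994 = n208403 := d21_3 (iv5 F442394) (iv1 F446410) (iv5 F446412) (iv1 D208403) (iv6 D134265) (iv5 D63076) F47998 D48774 D105495 D195286
theorem F449211 : act 2 n208403 = n148136 := d3_1 F449210 (iv6 F446420) F446414
def n208404 : Q := act 7 n134265
theorem D208404 : act 7 n134265 = n208404 := rfl
theorem F449212 : act 4 n208404 = n136567 := d11_1 D208404 (iv7 D136567) (iv4 F216290)
theorem F449213 : act 5 n208404 = n206790 := d13_1 D208404 (iv7 F446691) (iv5 F446694)
theorem F449214 : act 1 n148136 = n208404 := d15_1 (iv0 F442906) (iv7 D208404) (iv2 F396505)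
def n208405 : Q := act 1 n134268
theorem D208405 : act 1 n134268 = n208405 := rfl
theorem F449215 : act 1 n208405 = n134534 := d15_1 D208405 (iv7 F218059) F218057
theorem F449216 : act 4 n208405 = n135511 := d18_7 (iv1 F99222) (iv4 F179253) (iv1 F179338) (iv4 F218039) F218043 (iv4 F216298) D208405 F217968 (iv5 F218273)
theorem F449217 : act 2 n135514 = n208405 := d1_3 F449216 F217913 D135514
def n208406 : Q := act 5 n134269
theorem D208406 : act 5 n134269 = n208406 := rfl
theorem F449218 : act 2 n208406 = n206906 := d2_1 D208406 F442569 (iv2 F216299)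
theorem F449219 : act 6 n208406 = n206837 := d12_2 F347106 D208406 F442352 (iv6 F396541) F336995
theorem F449220 : act 0 n208406 = n208354 := d17_2 F421989 D208406 F449055 (iv4 F448815) F448813 (iv0 F411696) F354744 F448754 F448752
def n208407 : Q := act 1 n134274
theorem D208407 : act 1 n134274 = n208407 := rfl
theorem F449221 : act 6 n136851 = n208407 := d21_3 F330974 (iv1 F218710) D136851 (iv1 D208407) (iv6 D134274) (iv5 F352309) (iv1 D134181) (iv5 D63036) D63037 D134184
theorem F449222 : act 2 n208407 = n134458 := d3_1 F449221 F409975 (iv2 F409973)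
def n208408 : Q := act 5 n134274
theorem D208408 : act 5 n134274 = n208408 := rfl
theorem F449223 : act 3 n208408 = n136966 := d6_1 D208408 (iv5 D136966) (iv3 F339488)
theorem F449224 : act 6 n208408 = n204447 := d12_2 D134274 D208408 (iv5 D204447) (iv6 F365395) F352309
theorem F449225 : act 0 n184954 = n208408 := d21_4 F430903 (iv1 F388789) (iv5 D184953) D184954 F449224 (iv5 D204447) (iv1 D123819) D123820 F198289 D204051
def n208409 : Q := act 6 n134275
theorem D208409 : act 6 n134275 = n208409 := rfl
theorem F449226 : act 2 n208409 = n134280 := d3_1 D208409 (iv6 D134280) (iv2 F216306)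
theorem F449227 : act 3 n208409 = n204364 := d7_1 D208409 (iv6 D204364) F349805
theorem F449228 : act 4 n208409 = n205005 := d10_1 D208409 (iv6 D205005) F352319
theorem F449229 : act 7 n208409 = n207001 := d14_2 (iv7 F360773) D208409 F442923 F430583 (iv6 F415462)
def n208410 : Q := act 1 n134276
theorem D208410 : act 1 n134276 = n208410 := rfl
theorem F449230 : act 1 n208410 = n134284 := d15_1 D208410 (iv7 D134284) (iv2 F216307)
theorem F449231 : act 7 n208410 = n134281 := d15_2 (iv0 F409984) D208410 (iv2 F409982)
theorem F449232 : act 6 n193170 = n208410 := d21_3 F431281 (iv1 F429863) F389027 (iv1 D208410) (iv6 D134276) D134275 F355249 F338487 (iv6 F338474) F431284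
theorem F449233 : act 2 n208410 = n134282 := d3_1 F449232 (iv6 F409987) (iv2 F389028)
theorem F449234 : act 5 n208410 = n204194 := d12_1 F449232 (iv6 D204194) F344170 D171094 F389027
def n208411 : Q := act 7 n134276
theorem D208411 : act 7 n134276 = n208411 := rfl
theorem F449235 : act 2 n208411 = n134284 := d4_1 D208411 (iv7 D134284) (iv2 F216307)
theorem F449236 : act 3 n208411 = n195015 := d8_1 D208411 F395424 (iv3 F394034)
theorem F449237 : act 6 n208411 = n195012 := d14_1 D208411 F448648 (iv6 D208265) F216022 D134276
theorem F449238 : act 1 n134282 = n208411 := d15_1 D134282 (iv7 D208411) F216307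
theorem F449239 : act 1 n208411 = n134281 := d15_1 F449238 (iv7 F449231) F449233
def n208412 : Q := act 0 n134280
theorem D208412 : act 0 n134280 = n208412 := rfl
theorem F449240 : act 5 n208412 = n184509 := d17_1 D208412 F431370 (iv5 F431331) (iv4 F442913) (iv5 F442910) (iv0 F363456) (iv5 F430498) (iv0 F430501) F352318
theorem F449241 : act 4 n208412 = n175279 := d18_3 F442679 F352318 D208412 (iv5 F371527) (iv4 F442672) (iv0 D206941) F207678 D129543 D206944
theorem F449242 : act 3 n208412 = n148526 := d20_5 (iv4 F374108) (iv1 F374111) F172404 (iv3 F216308) D208412 (iv4 F356854) (iv1 F356855) D203143 F427140 F410559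
theorem F449243 : act 6 n208412 = n175277 := d21_5 F352309 (iv1 D63082) D63084 D134280 D208412 F360954 (iv1 F349295) F140515 F348520 F348521
theorem F449244 : act 0 n193025 = n134283 := d21_4 (iv5 F340060) (iv1 F349305) F283461 D193025 (iv6 F432641) F432640 D208412 F449240 (iv6 D184509) (iv1 F340063)
theorem F449245 : act 1 n207001 = n208412 := d18_6 F447249 (iv4 F442875) (iv1 F442878) (iv4 D129725) D129726 D207001 F449241 (iv0 F427167) (iv5 F447246)
def n208413 : Q := act 1 n134280
theorem D208413 : act 1 n134280 = n208413 := rfl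
theorem F449246 : act 1 n208413 = n207001 := d15_1 D208413 (iv7 F449229) F449226
theorem F449247 : act 5 n208413 = n204182 := d18_9 (iv1 D204182) D204183 F431386 (iv4 F387583) (iv5 F427174) (iv4 F430497) (iv0 F430501) F352318 D208413
def n208414 : Q := act 7 n134280
theorem D208414 : act 7 n134280 = n208414 := rfl
theorem F449248 : act 2 n208414 = n207001 := d4_1 D208414 (iv7 F449229) F449226
theorem F449249 : act 3 n208414 = n134288 := d8_1 D208414 (iv7 D134288) (iv3 F216308)
theorem F449250 : act 4 n208414 = n200189 := d11_1 D208414 F415474 F352318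
theorem F449251 : act 5 n208414 = n208256 := d13_1 D208414 F448606 F432640
theorem F449252 : act 6 n208414 = n200188 := d14_1 D208414 (iv7 F430587) F430586 F216026 D134280
theorem F449253 : act 1 n208256 = n204181 := d17_6 (iv1 D206997) (iv5 D129707) D129705 (iv5 F415473) (iv4 F449250) F449251 (iv5 D204181) F431333 (iv4 F442913)
def n208415 : Q := act 3 n134281
theorem D208415 : act 3 n134281 = n208415 := rfl
theorem F449254 : act 2 n208415 = n136959 := d0_1 D208415 F220123 (iv2 F171415) (iv3 F409983) F409982
theorem F449255 : act 6 n208415 = n136957 := d7_2 (iv6 F409969) D208415 (iv3 F409964)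
def n208416 : Q := act 4 n134281
theorem D208416 : act 4 n134281 = n208416 := rfl
theorem F449256 : act 2 n208416 = n207039 := d1_1 D208416 F443074 F409982
theorem F449257 : act 6 n208416 = n199068 := d10_2 (iv6 F409969) D208416 F410527
theorem F449258 : act 5 n208416 = n207824 := d18_4 (iv1 D208402) F216289 D134281 D208416 (iv4 F446641) (iv0 F388691) (iv4 F437877) F446671 F449205
def n208417 : Q := act 5 n134281
theorem D208417 : act 5 n134281 = n208417 := rfl
theorem F449259 : act 2 n208417 = n205095 := d2_1 D208417 F434954 F409982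
theorem F449260 : act 6 n208417 = n205092 := d12_2 (iv6 F409969) D208417 (iv5 D205092) F201780 D198934
theorem F449261 : act 7 n208417 = n204194 := d13_2 F449231 D208417 (iv5 F449234)
theorem F449262 : act 0 n199689 = n208417 := d21_7 (iv5 D136851) (iv1 D64334) D64336 (iv6 F365143) (iv1 D134758) (iv6 F173149) D199689 (iv5 D208417) F409969 F409966
theorem F449263 : act 3 n208417 = n191781 := d20_5 (iv4 F357739) F409287 F409284 (iv3 F413133) F449262 F384418 (iv1 F371022) F224234 F101827 D66245
theorem F449264 : act 5 n191781 = n208415 := d6_2 D208417 F449263 (iv3 D208415)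
theorem F449265 : act 0 n208415 = n191776 := d17_2 D191781 F449264 (iv5 D191776) (iv4 D98913) (iv5 D46286) F294138 D91018 (iv0 F294926) D98918
theorem F449266 : act 1 n208415 = n191771 := d17_6 F387259 F372883 F293984 (iv5 F371021) (iv4 F384418) F449264 (iv5 D191771) D191769 (iv4 F387260)
def n208418 : Q := act 5 n134282
theorem D208418 : act 5 n134282 = n208418 := rfl
theorem F449267 : act 2 n208418 = n204194 := d2_1 D208418 (iv5 F449234) F449233
theorem F449268 : act 3 n208418 = n205097 := d6_1 D208418 F434961 F409995
theorem F449269 : act 6 n208418 = n184484 := d12_2 F409987 D208418 (iv5 D184484) D184485 F286423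
theorem F449270 : act 7 n208418 = n205095 := d13_2 (iv7 F409986) D208418 F434954
theorem F449271 : act 1 n199689 = n208418 := d15_1 (iv0 F449262) F449270 (iv2 F449259)
theorem F449272 : act 5 n199686 = n184523 := d21_2 (iv5 D199689) D199686 (iv6 D184523) (iv1 D87994) (iv6 F134989) (iv5 D87981) D87979 D184484 (iv6 F449269) (iv1 F449271)
theorem F449273 : act 6 n182420 = n199686 := d12_0 F449272 (iv6 D184523) (iv5 F361034) F361035 (iv5 F362418)
def n208419 : Q := act 0 n134283
theorem D208419 : act 0 n134283 = n208419 := rfl
theorem F449274 : act 2 n152566 = n208419 := d15_3 (iv0 D208419) (iv0 F449244) F388545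
theorem F449275 : act 4 n208419 = n203357 := d1_2 (iv4 F420532) F449274 F428025
theorem F449276 : act 6 n208419 = n152289 := d3_2 D152566 F449274 (iv2 F239383)
theorem F449277 : act 7 n208419 = n184523 := d4_2 F388545 F449274 (iv2 F388543)
theorem F449278 : act 1 n152566 = n194670 := d15_0 (iv0 F434955) (iv7 F449277) (iv2 F449274)
theorem F449279 : act 3 n191768 = n208419 := d5_5 F449275 F428026 (iv4 F374795) D189120 (iv4 F384403)
def n208420 : Q := act 4 n134283
theorem D208420 : act 4 n134283 = n208420 := rfl
theorem F449280 : act 2 n208420 = n152554 := d1_1 D208420 (iv4 F394030) (iv2 F394037)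
theorem F449281 : act 3 n188977 = n208420 := d20_5 F421118 (iv1 F371008) (iv4 F374478) F374807 D188977 (iv4 D208420) D208419 F449275 F428026 F421120
theorem F449282 : act 7 n152553 = n208420 := d4_0 F449280 F439833 F439836
theorem F449283 : act 1 n208420 = n152555 := d15_0 (iv0 F420092) (iv7 F439833) (iv2 F449280)
theorem F449284 : act 1 n152287 = n208420 := d15_0 F449283 (iv7 D152555) (iv2 F239376)
theorem F449285 : act 1 n201347 = n152287 := d15_0 F449284 (iv7 F449282) (iv2 F439836)
def n208421 : Q := act 7 n134283
theorem D208421 : act 7 n134283 = n208421 := rfl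
theorem F449286 : act 3 n208421 = n134297 := d8_1 D208421 (iv7 D134297) (iv3 F216309)
theorem F449287 : act 4 n208421 = n152553 := d11_1 D208421 F449282 (iv4 D208420)
theorem F449288 : act 5 n208421 = n134284 := d13_1 D208421 (iv7 D134284) D134283
theorem F449289 : act 1 n184523 = n208421 := d15_1 (iv0 F434955) (iv7 D208421) F394037
theorem F449290 : act 1 n208421 = n152566 := d15_1 F449289 (iv7 F388545) F388543
def n208422 : Q := act 2 n134289
theorem D208422 : act 2 n134289 = n208422 := rfl
theorem F449291 : act 4 n208422 = n148776 := d1_2 F217461 D208422 (iv2 F364211)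
theorem F449292 : act 6 n208422 = n136003 := d3_2 (iv6 F364209) D208422 (iv2 F218806)
theorem F449293 : act 7 n208422 = n193348 := d4_2 F406308 D208422 (iv2 F406310)
theorem F449294 : act 1 n208422 = n134598 := d15_0 (iv0 F406309) F406308 D208422
theorem F449295 : act 1 n188767 = n208422 := d15_0 F449294 F364204 (iv2 F374780)
def n208423 : Q := act 5 n134289
theorem D208423 : act 5 n134289 = n208423 := rfl
theorem F449296 : act 3 n208423 = n134290 := d6_1 D208423 (iv5 D134290) D134289
theorem F449297 : act 6 n208423 = n136393 := d12_2 (iv6 F364209) D208423 F346579 (iv6 F344823) (iv5 F177028)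
theorem F449298 : act 7 n208423 = n204216 := d13_2 F406308 D208423 F431521
theorem F449299 : act 4 n208423 = n182917 := d16_2 F217461 D208423 (iv5 D182917) (iv4 F147472) D190261 (iv4 F443742) F443743 F374720 (iv2 F364211)
theorem F449300 : act 1 n208423 = n189083 := d17_8 (iv1 F295263) (iv5 D89100) (iv1 F294965) (iv5 F356248) D188222 F372725 (iv0 F364208) D208423 (iv4 D189083)
theorem F449301 : act 0 n208423 = n189085 := d18_0 (iv4 D189085) (iv1 D93213) D93214 D189088 (iv4 F375702) (iv0 D104413) (iv4 F160071) (iv0 F364208) D208423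
def n208424 : Q := act 1 n134292
theorem D208424 : act 1 n134292 = n208424 := rfl
theorem F449302 : act 7 n208424 = n198982 := d15_2 (iv0 F449062) D208424 (iv2 F449060)
theorem F449303 : act 4 n207826 = n208424 := d20_6 F93631 (iv1 F168421) (iv4 F203557) (iv3 F437572) (iv1 F437575) (iv3 F446607) (iv1 D208424) F216313 (iv3 D132683) (iv1 F168006)
theorem F449304 : act 5 n191775 = n208424 := d21_6 (iv5 D123913) F312440 D61531 D131161 D207394 F444674 (iv1 D208424) (iv5 F358468) (iv6 D123988) (iv1 F314887)
theorem F449305 : act 3 n208424 = n191776 := d6_1 F449304 (iv5 D191776) D191775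
def n208425 : Q := act 3 n134294
theorem D208425 : act 3 n134294 = n208425 := rfl
theorem F449306 : act 5 n208425 = n134921 := d6_2 (iv5 F216315) D208425 (iv3 D134921)
theorem F449307 : act 4 n183120 = n208425 := d19_2 (iv1 F367240) (iv5 F367241) (iv3 D208425) (iv1 F394047) (iv5 F394045) F168744 (iv3 F99168) (iv1 F99172) (iv5 D52358) D52357 D113413 F395718 F395717 F211243 (iv3 F145264) (iv1 F177436) (iv5 F293382) (iv4 D92559) D92558
theorem F449308 : act 0 n208425 = n188222 := d17_0 F372725 F389542 (iv5 F443448) F443447 (iv5 D183118) (iv0 D87407) D87409 D183120 F449307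
theorem F449309 : act 1 n208425 = n188219 := d18_6 D42661 D91085 D188207 F372670 (iv5 F367241) F449307 (iv4 D188219) (iv0 D91099) (iv5 D42665)
theorem F449310 : act 3 n183121 = n192741 := d20_3 (iv4 F449307) (iv1 D183120) D183121 (iv1 D192741) F154645 (iv4 F154648) (iv1 F354679) (iv4 F380091) (iv3 F380093) (iv1 F449309)
theorem F449311 : act 4 n192741 = n183128 := d5_2 D183121 F449310 (iv3 D183128) (iv4 D87412) (iv3 F134162)
theorem F449312 : act 0 n134603 = n193031 := d20_4 (iv4 D188214) F335332 D186773 (iv3 F367961) F388558 F420532 F420531 (iv4 F449311) (iv3 F449310) (iv1 F372697)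
def n208426 : Q := act 4 n134294
theorem D208426 : act 4 n134294 = n208426 := rfl
theorem F449313 : act 5 n208426 = n199669 := d9_2 (iv5 F216315) D208426 F413059 (iv5 D197718) (iv4 F167996) F167997 (iv4 F167993) (iv5 F216316) (iv4 F424155) F424156 F413065 (iv5 D197717) F170696 F164675 F173144
theorem F449314 : act 7 n208426 = n199608 := d11_2 (iv7 F386062) D208426 F412831
theorem F449315 : act 1 n208426 = n208279 := d18_6 F329462 F329153 (iv1 F167601) F173144 (iv5 F216315) D208426 (iv4 D208279) F216060 (iv5 D130832)
def n208427 : Q := act 6 n134294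
theorem D208427 : act 6 n134294 = n208427 := rfl
theorem F449316 : act 5 n208427 = n178080 := d21_6 (iv5 F197312) F357152 (iv5 F329808) F329809 D134294 D208427 (iv1 F432717) (iv5 D204499) (iv6 D123895) (iv1 F197311)
theorem F449317 : act 0 n152291 = n208427 := d21_4 F410396 (iv1 F407453) D198293 (iv6 F407510) (iv6 D208427) F216315 (iv1 D63403) D63404 (iv6 F332717) (iv1 F410394)
def n208428 : Q := act 3 n134296
theorem D208428 : act 3 n134296 = n208428 := rfl
theorem F449318 : act 4 n208428 = n188977 := d5_2 D134296 D208428 F449281 (iv4 D208420) F216309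
theorem F449319 : act 2 n188960 = n208428 := d1_3 F449318 (iv2 F428041) F420095
theorem F449320 : act 0 n208428 = n188837 := d20_1 (iv4 F449318) F375036 F143192 (iv1 F370804) (iv3 F421117) F421118 (iv1 F371008) (iv4 F374478) F374807 D188977
theorem F449321 : act 1 n208428 = n188662 := d15_1 (iv0 F449320) (iv7 F419941) F419938
theorem F449322 : act 7 n188961 = n208428 := d15_2 (iv0 D188960) D188961 (iv2 F449319)
theorem F449323 : act 3 n197955 = n188961 := d8_3 F449322 (iv3 D208428) F406272
theorem F449324 : act 5 n188961 = n197954 := d6_2 D197955 F449323 (iv3 D197954)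
def n208429 : Q := act 1 n134312
theorem D208429 : act 1 n134312 = n208429 := rfl
theorem F449325 : act 1 n208429 = n134320 := d15_1 D208429 (iv7 D134320) (iv2 F216326)
theorem F449326 : act 7 n208429 = n134317 := d15_2 (iv0 F380871) D208429 F367671
theorem F449327 : act 3 n183501 = n208429 := d20_3 D195013 (iv1 F440794) (iv4 F440798) (iv1 D208429) (iv3 F367807) F367808 F367838 F367835 F294448 D105054
theorem F449328 : act 4 n195745 = n208429 := d20_6 (iv4 F203067) (iv1 F203070) F362902 D195121 F406143 (iv3 F398029) (iv1 D208429) (iv4 F326360) (iv3 D113902) (iv1 F161548)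
theorem F449329 : act 6 n195135 = n208429 := d21_3 F321259 (iv1 F224210) (iv5 F395909) (iv1 D208429) (iv6 D134312) D134311 (iv1 F448683) F448685 (iv6 D195574) F162411
theorem F449330 : act 2 n208429 = n134318 := d3_1 F449329 F359591 F395912
def n208430 : Q := act 5 n134312
theorem D208430 : act 5 n134312 = n208430 := rfl
theorem F449331 : act 2 n208430 = n134319 := d2_1 D208430 (iv5 D134319) (iv2 F216326)
theorem F449332 : act 0 n208430 = n188280 := d21_1 D208430 F372941 (iv6 F405056) (iv1 D197621) F328835 F321259 (iv1 F224210) (iv5 F395909) F449329 (iv1 D208429)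
def n208431 : Q := act 4 n134317
theorem D208431 : act 4 n134317 = n208431 := rfl
theorem F449333 : act 3 n208431 = n195754 := d5_1 D208431 F398050 F395406 F285244 (iv3 F367672)
theorem F449334 : act 6 n208431 = n183494 := d10_2 (iv6 F367673) D208431 (iv4 D183494)
theorem F449335 : act 7 n208431 = n195745 := d11_2 F449326 D208431 F449328
theorem F449336 : act 1 n200916 = n208431 := d15_1 (iv0 F437224) F449335 F398028
def n208432 : Q := act 5 n134317
theorem D208432 : act 5 n134317 = n208432 := rfl
theorem F449337 : act 3 n208432 = n182250 := d6_1 D208432 F283695 (iv3 F367672)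
theorem F449338 : act 6 n208432 = n182248 := d12_2 (iv6 F367673) D208432 F283689 F293620 (iv5 F293619)
theorem F449339 : act 0 n204104 = n208432 := d21_1 F444197 (iv5 D208432) F367673 F143986 F332666 F332671 (iv1 F332675) F405054 F405056 F444196
def n208433 : Q := act 0 n134319
theorem D208433 : act 0 n134319 = n208433 := rfl
theorem F449340 : act 2 n188280 = n208433 := d15_3 (iv0 D208433) (iv0 F391855) (iv7 F372942)
def n208434 : Q := act 4 n134319
theorem D208434 : act 4 n134319 = n208434 := rfl
def n208435 : Q := act 7 n134319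
theorem D208435 : act 7 n134319 = n208435 := rfl
theorem F449341 : act 3 n208435 = n134330 := d8_1 D208435 (iv7 D134330) (iv3 F216328)
theorem F449342 : act 5 n208435 = n134320 := d13_1 D208435 (iv7 D134320) D134319
def n208436 : Q := act 5 n134323
theorem D208436 : act 5 n134323 = n208436 := rfl
theorem F449343 : act 2 n208436 = n204129 := d2_1 D208436 F431145 F431062
theorem F449344 : act 7 n208436 = n204130 := d13_2 F445274 D208436 F445276
theorem F449345 : act 0 n208436 = n193902 := d17_2 D134323 D208436 (iv5 D193902) (iv4 D102472) (iv5 D47536) D47535 (iv5 F335632) F335630 F111908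
theorem F449346 : act 1 n208436 = n156490 := d17_6 D120400 F340899 F372668 F372664 F363027 D208436 (iv5 D156490) (iv0 F340882) (iv4 F87722)
theorem F449347 : act 3 n208434 = n208436 := d19_19 F449345 (iv5 D193902) (iv4 D102472) F74729 F35954 (iv5 D21982) F16693 F14593 F35685 D19105 D40435 F69036 (iv1 F142292) F142296 D104408 (iv3 F359590) (iv1 D134318) D134319 D208434
theorem F449348 : act 5 n151607 = n208434 := d6_0 F449347 (iv5 D208436) (iv3 F363030)
theorem F449349 : act 0 n208434 = n201628 := d21_7 F448777 (iv1 F427941) (iv5 F427809) F427810 (iv1 F238175) D151607 F449348 (iv5 D201628) D201629 F448779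
def n208437 : Q := act 3 n134324
theorem D208437 : act 3 n134324 = n208437 := rfl
theorem F449350 : act 6 n208437 = n203008 := d7_2 (iv6 F411526) D208437 (iv3 F426618)
theorem F449351 : act 7 n208437 = n202990 := d8_2 F431065 D208437 (iv3 F431063)
theorem F449352 : act 0 n208437 = n134364 := d20_10 (iv4 F352597) (iv1 D117407) (iv4 F183880) (iv3 F426385) (iv1 F426388) (iv3 F432522) F432523 (iv1 F411520) F411523 D208437
theorem F449353 : act 1 n208437 = n202964 := d15_1 (iv0 F449352) F426408 (iv2 F352598)
theorem F449354 : act 2 n203014 = n208437 := d15_3 F449353 (iv0 F426409) D203014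
def n208438 : Q := act 5 n134324
theorem D208438 : act 5 n134324 = n208438 := rfl
theorem F449355 : act 2 n208438 = n204130 := d2_1 D208438 F445276 F445278
theorem F449356 : act 6 n208438 = n204013 := d12_2 (iv6 F411526) D208438 (iv5 F430821) (iv6 F431116) F431115
theorem F449357 : act 7 n208438 = n204129 := d13_2 F431065 D208438 F431145
theorem F449358 : act 0 n208438 = n156490 := d17_2 (iv1 F363025) D208438 (iv5 D156490) F328741 (iv5 F306485) F74796 (iv5 F335628) (iv0 D89516) D89518
theorem F449359 : act 1 n208438 = n193902 := d17_6 (iv1 F336773) (iv5 F140523) (iv1 F352771) (iv5 F411522) F411523 D208438 (iv5 D193902) F340885 (iv4 F90882)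
def n208439 : Q := act 3 n134327
theorem D208439 : act 3 n134327 = n208439 := rfl
theorem F449360 : act 5 n208439 = n134875 := d6_2 (iv5 F216334) D208439 F217059
theorem F449361 : act 7 n208439 = n191461 := d8_2 F445291 D208439 F445294
theorem F449362 : act 0 n208439 = n191463 := d20_4 D134253 D208389 F449162 D208439 F383518 F151801 (iv1 F74883) (iv4 F292182) (iv3 F365673) (iv1 D134252)
theorem F449363 : act 2 n208439 = n191460 := d15_3 (iv0 D191460) D191461 (iv7 F449361)
theorem F449364 : act 0 n191462 = n208439 := d17_2 F448727 (iv5 F448728) F449360 (iv4 F328253) (iv5 D123020) D123019 (iv5 F361492) (iv0 D138044) (iv4 F221293)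
def n208440 : Q := act 6 n134327
theorem D208440 : act 6 n134327 = n208440 := rfl
theorem F449365 : act 2 n208440 = n207293 := d3_1 D208440 F444189 F216335
theorem F449366 : act 5 n208440 = n134876 := d12_1 D208440 (iv6 D134876) (iv5 D63385) D63386 (iv5 F216334)
theorem F449367 : act 0 n208440 = n179808 := d21_4 (iv5 F365580) (iv1 D134878) (iv5 F216334) D208440 (iv6 F292671) (iv5 D90476) D90473 D187703 F371249 F365581
theorem F449368 : act 1 n208440 = n179803 := d15_1 (iv0 F449367) F430804 F430801
def n208441 : Q := act 0 n134329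
theorem D208441 : act 0 n134329 = n208441 := rfl
theorem F449369 : act 4 n208441 = n187035 := d18_3 (iv1 D134328) D134329 D208441 F368873 (iv4 D134169) D134168 (iv4 F217069) F217067 F216337
theorem F449370 : act 2 n208385 = n208441 := d1_3 F449369 F368875 D208385
theorem F449371 : act 3 n187704 = n208441 := d5_5 F449369 (iv3 D187035) F292675 (iv3 F139242) D187704
theorem F449372 : act 7 n208387 = n208441 := d11_0 F449369 F368874 D208387
def n208442 : Q := act 1 n134329
theorem D208442 : act 1 n134329 = n208442 := rfl
theorem F449373 : act 7 n208442 = n208385 := d15_2 (iv0 D208441) D208442 F449370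
theorem F449374 : act 4 n208442 = n208270 := d18_7 F207864 (iv4 D129681) (iv1 F166287) F80558 D63107 D134329 D208442 F448660 F216283
theorem F449375 : act 2 n208387 = n208442 := d1_3 F449374 (iv2 F448663) D208387
theorem F449376 : act 5 n208336 = n208442 := d16_1 D208336 F449374 F448662 F217091 F206954 F166275 D139425 (iv7 F403052) F403051
theorem F449377 : act 3 n208442 = n204648 := d20_3 F449171 (iv1 F448660) (iv4 F449374) F433121 (iv3 D204035) (iv4 D122449) D122447 D204034 (iv3 F444205) F449173
theorem F449378 : act 6 n204651 = n208442 := d7_0 F449377 F433120 D204651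
def n208443 : Q := act 3 n134329
theorem D208443 : act 3 n134329 = n208443 := rfl
theorem F449379 : act 4 n208443 = n208436 := d5_2 D134329 D208443 (iv3 F449347) (iv4 D208434) F216328
def n208444 : Q := act 5 n134329
theorem D208444 : act 5 n134329 = n208444 := rfl
theorem F449380 : act 4 n208444 = n139483 := d16_2 D134329 D208444 F222670 (iv4 F101618) F101619 (iv4 F211398) (iv5 F445298) (iv7 D207526) F211395
theorem F449381 : act 7 n208444 = n139482 := d16_8 (iv4 D202535) (iv5 D115937) (iv4 F93899) F93900 F80558 D63107 D134329 D208444 (iv2 F424405)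
def n208445 : Q := act 7 n134329
theorem D208445 : act 7 n134329 = n208445 := rfl
theorem F449382 : act 4 n208445 = n134330 := d11_1 D208445 (iv7 D134330) D134329
theorem F449383 : act 5 n208445 = n139482 := d13_1 D208445 (iv7 F449381) (iv5 D208444)
theorem F449384 : act 1 n208387 = n208445 := d15_1 (iv0 F449158) (iv7 D208445) (iv2 F445295)
theorem F449385 : act 1 n208445 = n208385 := d15_1 F449384 (iv7 F449373) (iv2 F449375)
theorem F449386 : act 0 n188280 = n208435 := d20_4 (iv4 D88600) F292653 D91138 D188280 F449341 (iv4 F449382) (iv1 F449384) (iv4 D208387) F365673 (iv1 F293256)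
def n208446 : Q := act 6 n134336
theorem D208446 : act 6 n134336 = n208446 := rfl
theorem F449387 : act 3 n208446 = n134338 := d7_1 D208446 (iv6 D134338) D134336
theorem F449388 : act 4 n208446 = n207822 := d10_1 D208446 (iv6 D207822) (iv4 F216342)
theorem F449389 : act 0 n136217 = n208446 := d21_4 D137820 F347248 F162008 D136217 (iv6 D208446) F337000 (iv1 F230308) D158961 (iv6 F360627) (iv1 F219054)
def n208447 : Q := act 1 n134338
theorem D208447 : act 1 n134338 = n208447 := rfl
theorem F449390 : act 1 n208447 = n206542 := d15_1 D208447 (iv7 F445245) F445243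
theorem F449391 : act 7 n208447 = n195145 := d15_2 (iv0 F392040) D208447 F395962
theorem F449392 : act 4 n208447 = n195173 := d18_7 F441291 F384043 (iv1 F367799) F367808 D207532 (iv4 F445330) D208447 F399267 D206551
theorem F449393 : act 2 n134447 = n208447 := d1_3 F449392 F396089 (iv4 F216409)
theorem F449394 : act 3 n195152 = n208447 := d5_5 F449392 F396090 F161571 (iv3 F161525) (iv4 F395987)
theorem F449395 : act 6 n200818 = n208447 := d10_0 F449392 F396091 (iv4 F418041)
theorem F449396 : act 5 n194094 = n208447 := d21_2 (iv5 F157910) D194094 (iv6 F449395) (iv1 F418042) (iv6 D186695) F272842 (iv1 F383706) (iv5 D191538) F383707 (iv1 D186719)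
def n208448 : Q := act 5 n134338
theorem D208448 : act 5 n134338 = n208448 := rfl
theorem F449397 : act 6 n208448 = n187092 := d12_2 D134338 D208448 (iv5 F381328) F381325 (iv5 D134337)
theorem F449398 : act 0 n191502 = n208448 := d21_1 (iv5 F383591) (iv5 D208448) (iv6 D134338) (iv1 D63110) D63113 D134347 F377962 F154649 (iv6 F367781) (iv1 F367783)
def n208449 : Q := act 1 n134343
theorem D208449 : act 1 n134343 = n208449 := rfl
theorem F449399 : act 1 n208449 = n189947 := d15_1 D208449 (iv7 F380886) (iv2 F383866)
theorem F449400 : act 7 n208449 = n154189 := d15_2 (iv0 F361766) D208449 (iv2 F259225)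
theorem F449401 : act 4 n208449 = n154193 := d18_7 F216262 F216261 (iv1 D106598) F77830 D63112 D134343 D208449 F352571 (iv5 D134541)
theorem F449402 : act 3 n189983 = n208449 := d20_3 F410085 (iv1 F210721) (iv4 F378436) (iv1 D208449) (iv3 F411433) (iv4 D199276) F342225 (iv4 F363175) (iv3 F363166) (iv1 F410082)
theorem F449403 : act 6 n208449 = n186955 := d7_2 (iv6 F380978) F449402 F380976
def n208450 : Q := act 5 n134343
theorem D208450 : act 5 n134343 = n208450 := rfl
theorem F449404 : act 3 n208450 = n176926 := d6_1 D208450 (iv5 F411434) F411433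
theorem F449405 : act 0 n200272 = n208450 := d19_0 (iv5 D208450) (iv4 D134343) F98406 F328339 F327940 (iv4 D29547) (iv3 D14036) (iv1 F10845) (iv5 D3009) (iv4 D1351) D1350 (iv1 F10049) D2374 D5682 D12017 D25308 D52122 D112920 D200272
theorem F449406 : act 0 n208450 = n194218 := d20_4 F447990 (iv1 F369411) (iv4 F369406) (iv3 F449404) (iv3 F396243) (iv4 D133430) (iv1 D62625) (iv4 F97672) (iv3 F214534) D208125
def n208451 : Q := act 6 n134343
theorem D208451 : act 6 n134343 = n208451 := rfl
theorem F449407 : act 2 n208451 = n206157 := d3_1 D208451 F439515 (iv2 F383866)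
theorem F449408 : act 3 n208451 = n187084 := d7_1 D208451 (iv6 F411435) F411433
theorem F449409 : act 4 n208451 = n134344 := d10_1 D208451 (iv6 D134344) D134343
theorem F449410 : act 7 n208451 = n187082 := d14_2 F445264 D208451 (iv6 D187082) (iv7 F367378) (iv6 F445266)
theorem F449411 : act 1 n186913 = n208451 := d18_6 (iv1 F384996) (iv4 F372227) (iv1 D187993) F295005 (iv5 F137059) (iv4 F368493) F449409 F391619 F391617
def n208452 : Q := act 3 n134345
theorem D208452 : act 3 n134345 = n208452 := rfl
theorem F449412 : act 6 n208452 = n137880 := d7_2 (iv6 F383839) D208452 (iv3 F383835)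
theorem F449413 : act 0 n208452 = n138034 := d20_4 F388687 F383855 F364569 D208452 (iv3 D138034) D138035 F357346 D190711 F380743 (iv1 F388689)
def n208453 : Q := act 5 n134345
theorem D208453 : act 5 n134345 = n208453 := rfl
theorem F449414 : act 2 n208453 = n192648 := d2_1 D208453 F387346 F383857
theorem F449415 : act 6 n208453 = n188127 := d12_2 (iv6 F383839) D208453 (iv5 F386010) (iv6 D192210) (iv5 F383836)
theorem F449416 : act 7 n208453 = n191946 := d13_2 F383841 D208453 F384946
theorem F449417 : act 0 n208453 = n191600 := d17_2 D134345 D208453 (iv5 D191600) D191599 F383935 (iv0 D125376) D125378 (iv0 F334355) F164184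
theorem F449418 : act 1 n208453 = n191601 := d17_8 (iv1 F280781) (iv5 D180407) (iv1 F132131) D157924 (iv4 F385014) (iv5 F385016) F383851 D208453 F383943
def n208454 : Q := act 3 n134349
theorem D208454 : act 3 n134349 = n208454 := rfl
theorem F449419 : act 6 n208454 = n187067 := d7_2 (iv6 F364410) D208454 (iv3 D187067)
theorem F449420 : act 7 n208454 = n203023 := d8_2 F431043 D208454 (iv3 F431040)
theorem F449421 : act 0 n208454 = n203099 := d20_4 (iv4 F172404) D199291 F411504 D208454 F426960 (iv4 D195589) F234157 F230220 (iv3 F353606) F357152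
theorem F449422 : act 1 n208454 = n134376 := d15_1 (iv0 F449421) (iv7 F444445) F444443
def n208455 : Q := act 5 n134350
theorem D208455 : act 5 n134350 = n208455 := rfl
theorem F449423 : act 2 n208455 = n202655 := d2_1 D208455 (iv5 F431042) F431039
theorem F449424 : act 3 n208455 = n159715 := d6_1 D208455 (iv5 F419901) F374109
theorem F449425 : act 6 n208455 = n140708 := d12_2 (iv6 F374110) D208455 (iv5 F407448) (iv6 F431744) (iv5 D204263)
theorem F449426 : act 7 n208455 = n191938 := d13_2 F391631 D208455 (iv5 F391630)
theorem F449427 : act 4 n208455 = n140709 := d16_6 F228358 (iv5 F432749) (iv4 D204506) (iv5 F374105) F374108 D208455 F401095 (iv7 F415066) F415069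
theorem F449428 : act 0 n208455 = n161577 := d17_2 F410559 D208455 (iv5 D161577) F116506 D122696 D204122 (iv5 F431122) F411444 (iv4 F410558)
theorem F449429 : act 1 n208455 = n204127 := d17_6 (iv1 F90902) (iv5 F198296) (iv1 F198338) (iv5 F374105) F374108 D208455 F431140 (iv0 F341512) (iv4 D123899)
theorem F449430 : act 4 n141226 = n159715 := d5_4 F449427 F223800 (iv4 F101834) (iv3 F224251) (iv3 F449424)
theorem F449431 : act 6 n159715 = n141225 := d10_2 D141226 F449430 (iv4 D141225)
theorem F449432 : act 5 n191729 = n141226 := d16_1 D191729 F449430 (iv5 F419901) (iv4 D188585) (iv5 D92501) F67874 D89611 (iv7 F288568) F288566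
theorem F449433 : act 3 n141229 = n191729 := d6_3 F449432 F224251 D141229
theorem F449434 : act 6 n202533 = n191729 := d12_0 F449432 (iv6 D141226) F101831 D115936 D202533
theorem F449435 : act 4 n191730 = n202533 := d10_3 F449434 (iv4 D191729) D191730
theorem F449436 : act 4 n204030 = n204002 := d5_4 F449435 F424398 D202535 (iv3 F430854) F430791
theorem F449437 : act 6 n204001 = n204030 := d10_0 F449436 (iv6 D204002) D204001
def n208456 : Q := act 3 n134353
theorem D208456 : act 3 n134353 = n208456 := rfl
theorem F449438 : act 5 n208456 = n134927 := d6_2 (iv5 F216351) D208456 (iv3 D134927)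
theorem F449439 : act 6 n208456 = n139541 := d7_2 (iv6 F350361) D208456 (iv3 D139541)
theorem F449440 : act 0 n208456 = n138041 := d21_10 (iv5 D138041) (iv1 D64870) (iv5 F100032) (iv6 D64230) D64227 D136647 F427862 F384159 F372251 (iv6 F449439)
theorem F449441 : act 4 n138041 = n193078 := d18_1 F449440 (iv1 D193078) (iv4 F388671) (iv5 F388673) (iv4 D186738) F334886 (iv4 F226088) (iv0 F356333) (iv5 F449438)
theorem F449442 : act 1 n208456 = n138036 := d15_1 (iv0 F449440) (iv7 F448767) F448765
def n208457 : Q := act 0 n134354
theorem D208457 : act 0 n134354 = n208457 := rfl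
theorem F449443 : act 5 n208457 = n197944 := d17_1 D208457 F406256 F343781 F173116 (iv5 F329463) F171522 D133288 F214252 D134354
theorem F449444 : act 4 n208457 = n197968 := d18_3 (iv1 D134353) D134354 D208457 F406316 (iv4 F173148) F168451 (iv4 F206964) F206967 (iv5 F216351)
theorem F449445 : act 2 n208426 = n208457 := d15_3 (iv0 D208457) F412833 (iv7 F449314)
theorem F449446 : act 7 n208457 = n202474 := d4_2 (iv7 F449314) F449445 F424154
theorem F449447 : act 6 n188896 = n208457 := d14_5 F449446 (iv6 D202474) (iv7 F345074) (iv6 F374512) (iv7 F375163)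
theorem F449448 : act 3 n208457 = n188897 := d7_1 F449447 (iv6 D188897) D188896
def n208458 : Q := act 3 n134354
theorem D208458 : act 3 n134354 = n208458 := rfl
def n208459 : Q := act 5 n134354
theorem D208459 : act 5 n134354 = n208459 := rfl
theorem F449449 : act 4 n208459 = n199678 := d16_2 D134354 D208459 F413092 F173936 (iv5 F171564) (iv4 F216062) (iv5 F433105) F433104 F216059
theorem F449450 : act 0 n208459 = n197950 := d17_2 (iv1 F412833) D208459 F406264 (iv4 F357728) F328925 (iv0 D108806) D108809 (iv0 F386060) (iv4 F412831)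
theorem F449451 : act 1 n208459 = n197948 := d17_6 D66245 F357707 F168279 D63117 D134354 D208459 F406262 (iv0 D111578) F81236
theorem F449452 : act 6 n208459 = n204765 := d21_3 (iv5 F412832) (iv1 F412833) D208459 (iv1 D204765) (iv6 D124310) F91672 (iv1 F55817) D57941 D124286 (iv1 F406241)
theorem E103942 : n204754 = n197949 := ((c20_4 (iv4 F449449) F449450 (iv4 D197950) D197949 (iv1 D204754) (iv3 D124307) (iv4 F91669) (iv1 F191497) F191495 (iv3 F326022) D199678)).symm
theorem F449453 : act 0 n197949 = n124307 := (sb E103942 (iv1 D204754))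
theorem E103943 : n204753 = n204732 := ((c15_4 (iv0 D204753) (iv0 F449453) (iv7 F413069) (iv2 F433424))).symm
theorem F449454 : act 1 n204732 = n124307 := (sb E103943 (iv0 D204753))
def n208460 : Q := act 7 n134354
theorem D208460 : act 7 n134354 = n208460 := rfl
theorem F449455 : act 4 n208460 = n134355 := d11_1 D208460 (iv7 D134355) D134354
theorem F449456 : act 6 n208460 = n204538 := d14_1 D208460 F443978 F433113 F432647 F410570
theorem F449457 : act 1 n202474 = n208460 := d15_1 F448712 (iv7 D208460) (iv2 F448710)
theorem F449458 : act 1 n208460 = n208426 := d15_1 F449457 F449314 (iv2 F424154)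
def n208461 : Q := act 5 n134357
theorem D208461 : act 5 n134357 = n208461 := rfl
theorem F449459 : act 2 n208461 = n134403 := d2_1 D208461 (iv5 D134403) (iv2 F216359)
theorem F449460 : act 4 n208461 = n152769 := d9_1 D208461 F239978 F108544 F52510 (iv4 F52505) (iv5 F304776) (iv4 F98832) D135161 F347119 (iv5 D152327) (iv4 D71866) (iv5 D33210) (iv4 F52433) (iv5 F307852) (iv4 F216360)
theorem F449461 : act 6 n208461 = n203091 := d12_2 D134357 D208461 F426927 (iv6 D202984) F329414
theorem F449462 : act 7 n208461 = n138077 := d13_2 (iv7 F347010) D208461 (iv5 D138077)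
theorem F449463 : act 1 n208461 = n149139 := d17_6 (iv1 F239423) (iv5 D152306) (iv1 D71852) (iv5 F307852) (iv4 F216360) D208461 (iv5 F431865) (iv0 F434484) (iv4 D204989)
def n208462 : Q := act 6 n134359
theorem D208462 : act 6 n134359 = n208462 := rfl
theorem F449464 : act 3 n208462 = n134364 := d7_1 D208462 (iv6 D134364) (iv3 F216364)
theorem F449465 : act 7 n208462 = n203097 := d14_2 F437867 D208462 (iv6 F426956) F397480 (iv6 F437866)
theorem F449466 : act 0 n208462 = n148544 := d21_4 D75882 (iv1 F336984) D134359 D208462 F349473 (iv5 F385945) (iv1 F385948) (iv5 F360622) (iv6 D158962) (iv1 D75880)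
theorem F449467 : act 1 n208462 = n146690 := d15_1 (iv0 F449466) (iv7 F426233) F426230
theorem F449468 : act 5 n208462 = n186941 := d19_1 (iv1 F449467) (iv4 D186941) F137086 (iv1 F135263) (iv5 D88332) F62450 F62468 (iv1 D11042) (iv5 F7448) D5045 D11067 (iv1 F66548) D23003 D47798 (iv3 F321394) F82032 D52051 D112774 (iv3 F366007)
def n208463 : Q := act 1 n134360
theorem D208463 : act 1 n134360 = n208463 := rfl
theorem F449469 : act 7 n208463 = n183408 := d15_2 (iv0 F380824) D208463 (iv2 F367787)
theorem F449470 : act 6 n138100 = n208463 := d14_5 F449469 (iv6 D183408) F294476 D190723 (iv7 F380811)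
def n208464 : Q := act 5 n134360
theorem D208464 : act 5 n134360 = n208464 := rfl
theorem F449471 : act 3 n208464 = n134368 := d6_1 D208464 (iv5 D134368) (iv3 F216365)
theorem F449472 : act 6 n208464 = n186941 := d12_2 D134360 D208464 (iv5 F449468) (iv6 D208462) (iv5 D134359)
theorem F449473 : act 4 n186942 = n208464 := d10_3 F449472 (iv4 D186941) D186942
def n208465 : Q := act 7 n134360
theorem D208465 : act 7 n134360 = n208465 := rfl
theorem F449474 : act 3 n208465 = n134369 := d8_1 D208465 (iv7 D134369) (iv3 F216365)
theorem F449475 : act 4 n208465 = n206985 := d11_1 D208465 F442850 F437834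
theorem F449476 : act 6 n208465 = n136230 := d14_1 D208465 F359618 (iv6 F333874) F208367 D134360
theorem F449477 : act 0 n183408 = n208465 := d20_1 (iv4 F442750) F449475 F442854 (iv1 F442905) F442901 F418326 F363940 F99188 (iv3 F207393) D206725
def n208466 : Q := act 5 n134364
theorem D208466 : act 5 n134364 = n208466 := rfl
theorem F449478 : act 2 n208466 = n203101 := d2_1 D208466 (iv5 D203101) (iv2 F352598)
theorem F449479 : act 3 n208466 = n186941 := d6_1 D208466 (iv5 F449468) F449464
theorem F449480 : act 6 n208466 = n134368 := d12_2 D134364 D208466 (iv5 D134368) (iv6 D63124) D63123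
theorem F449481 : act 7 n208466 = n203098 := d13_2 (iv7 F352599) D208466 (iv5 D203098)
def n208467 : Q := act 5 n134366
theorem D208467 : act 5 n134366 = n208467 := rfl
theorem F449482 : act 2 n208467 = n204088 := d2_1 D208467 F431034 F363249
theorem F449483 : act 4 n208467 = n204082 := d9_1 D208467 (iv5 D204082) (iv4 F315556) (iv5 D117822) D117821 F320874 D132626 D207932 F447042 (iv5 D170646) F297180 F319981 (iv4 F361226) (iv5 D134568) (iv4 F363251)
theorem F449484 : act 6 n208467 = n182239 := d12_2 (iv6 F363252) D208467 F346008 F295345 D95415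
theorem F449485 : act 0 n208467 = n203193 := d17_2 D134366 D208467 F427375 (iv4 F438231) (iv5 F438233) (iv0 F439654) (iv5 F443318) (iv0 D207100) F208734
def n208468 : Q := act 0 n134368
theorem D208468 : act 0 n134368 = n208468 := rfl
theorem F449486 : act 5 n208468 = n136835 := d17_3 F363247 D134368 D208468 F334127 (iv5 F216546) (iv0 D134575) (iv5 D63235) (iv0 F341747) D132626
theorem F449487 : act 2 n207290 = n208468 := d15_3 (iv0 D208468) (iv0 F365450) (iv7 F444176)
theorem F449488 : act 3 n208468 = n191460 := d0_2 (iv3 F444174) F449487 (iv2 F449363) (iv3 D208439) (iv2 F216335)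
theorem F449489 : act 4 n208468 = n207397 := d1_2 (iv4 F444175) F449487 F444682
theorem F449490 : act 7 n208468 = n136834 := d4_2 (iv7 F444176) F449487 (iv2 F220954)
theorem F449491 : act 1 n138172 = n208468 := d15_1 (iv0 F221357) F449490 (iv2 F220954)
def n208469 : Q := act 7 n134368
theorem D208469 : act 7 n134368 = n208469 := rfl
theorem F449492 : act 2 n208469 = n138172 := d4_1 D208469 (iv7 F443337) F443335
theorem F449493 : act 5 n208469 = n134369 := d13_1 D208469 (iv7 D134369) D134368
theorem F449494 : act 1 n136834 = n208469 := d15_1 F443339 (iv7 D208469) (iv2 F443335)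
theorem F449495 : act 1 n208469 = n207290 := d15_1 F449494 F444176 F220954
def n208470 : Q := act 6 n134372
theorem D208470 : act 6 n134372 = n208470 := rfl
theorem F449496 : act 2 n208470 = n134374 := d3_1 D208470 (iv6 D134374) D134372
theorem F449497 : act 3 n208470 = n138177 := d7_1 D208470 (iv6 F364182) (iv3 F360768)
theorem F449498 : act 4 n208470 = n191672 := d10_1 D208470 F443353 (iv4 F400043)
theorem F449499 : act 7 n208470 = n138154 := d14_2 F349811 D208470 (iv6 F380788) (iv7 F380782) (iv6 F345946)
theorem F449500 : act 0 n208470 = n137672 := d21_4 F345951 (iv1 F199535) F347342 D208470 (iv6 D137672) (iv5 D64717) (iv1 D30445) D30448 D64729 (iv1 F329742)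
theorem F449501 : act 5 n208470 = n194719 := d21_6 F365547 (iv1 F377737) F354901 (iv6 F440751) F440754 D208470 (iv1 F394240) F286051 (iv6 F378160) (iv1 F378161)
theorem F449502 : act 0 n138152 = n208470 := d21_4 (iv5 F241545) F311650 F134768 (iv6 F412615) (iv6 D208470) (iv5 F347342) (iv1 D124715) (iv5 F339695) F339696 D124723
def n208471 : Q := act 1 n134376
theorem D208471 : act 1 n134376 = n208471 := rfl
theorem F449503 : act 1 n208471 = n203099 := d15_1 D208471 (iv7 F444433) F444431
theorem F449504 : act 4 n208471 = n145076 := d18_7 (iv1 D206247) (iv4 F311798) D192634 F387287 D203457 F428399 D208471 (iv0 F439586) F439912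
theorem F449505 : act 2 n203023 = n208471 := d1_3 F449504 (iv2 F439490) F439491
theorem F449506 : act 3 n203335 = n208471 := d5_5 F449504 F228027 (iv4 F228028) (iv3 F374075) (iv4 F427932)
theorem F449507 : act 6 n145074 = n208471 := d10_0 F449504 (iv6 D145076) D145074
def n208472 : Q := act 4 n134379
theorem D208472 : act 4 n134379 = n208472 := rfl
theorem F449508 : act 2 n208472 = n138184 := d1_1 D208472 (iv4 D138184) (iv2 F333884)
theorem F449509 : act 6 n208472 = n206852 := d10_2 (iv6 F410535) D208472 F442414
theorem F449510 : act 7 n208472 = n138167 := d11_2 (iv7 F333885) D208472 (iv4 D138167)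
theorem F449511 : act 1 n208472 = n193028 := d18_6 (iv1 F409998) (iv4 F436565) F436566 F208747 D134379 D208472 F388551 D193030 (iv5 F388556)
def n208473 : Q := act 0 n134383
theorem D208473 : act 0 n134383 = n208473 := rfl
theorem F449512 : act 4 n208473 = n137419 := d18_1 D208473 (iv1 F339494) (iv4 D117478) D117479 F334157 (iv0 F319101) (iv4 F352584) F359673 F346387
theorem F449513 : act 3 n208473 = n206136 := d20_5 (iv4 F105239) D147239 F230834 (iv3 F331667) D208473 F439410 (iv1 F421082) (iv4 F335163) F230843 (iv1 D69027)
theorem F449514 : act 2 n134391 = n208473 := d15_3 (iv0 D208473) (iv0 F339492) F352611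
theorem F449515 : act 1 n134396 = n208473 := d15_0 (iv0 D208473) (iv7 F331665) (iv2 F331664)
theorem F449516 : act 7 n208473 = n134392 := d15_2 F346396 F449515 F331671
theorem F449517 : act 6 n201051 = n208473 := d21_3 (iv5 D145998) D145994 (iv5 F418898) (iv1 F449515) (iv6 F331661) D206329 F440273 F233873 F346068 F346800
def n208474 : Q := act 6 n134383
theorem D208474 : act 6 n134383 = n208474 := rfl
theorem F449518 : act 2 n208474 = n134395 := d3_1 D208474 (iv6 D134395) (iv2 F216381)
theorem F449519 : act 3 n208474 = n141348 := d7_1 D208474 F315937 (iv3 F331667)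
theorem F449520 : act 4 n208474 = n134384 := d10_1 D208474 (iv6 D134384) D134383
theorem F449521 : act 5 n208474 = n141341 := d12_1 D208474 (iv6 D141341) D141340 (iv6 F346388) F346387
theorem F449522 : act 7 n208474 = n206328 := d14_2 F331665 D208474 (iv6 D206328) (iv7 F397638) F397637
theorem F449523 : act 0 n194522 = n208474 := d17_0 F449521 (iv1 F344490) F344493 F184187 D117592 (iv0 F365651) (iv5 D142607) D142605 (iv4 F393567)
def n208475 : Q := act 0 n134393
theorem D208475 : act 0 n134393 = n208475 := rfl
theorem F449524 : act 3 n208475 = n148869 := d20_5 (iv4 F85442) (iv1 F329411) D63133 D134393 D208475 F233905 (iv1 F230434) (iv4 D69054) (iv3 F190190) (iv1 D54134)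
theorem F449525 : act 6 n208475 = n204423 := d21_5 F321267 (iv1 F336235) D202334 F423669 D208475 F432475 F315632 F228003 (iv6 D145057) (iv1 F349448)
theorem F449526 : act 2 n195578 = n208475 := d15_3 (iv0 D208475) F331623 D195578
theorem F449527 : act 1 n146956 = n208475 := d15_0 (iv0 D208475) (iv7 F216384) (iv2 F331663)
theorem F449528 : act 7 n208475 = n144903 := d15_2 (iv0 F234630) F449527 F227870
def n208476 : Q := act 1 n134395
theorem D208476 : act 1 n134395 = n208476 := rfl
theorem F449529 : act 1 n208476 = n206328 := d15_1 D208476 (iv7 F449522) F449518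
theorem F449530 : act 3 n195231 = n208476 := d19_19 (iv1 D208476) (iv5 F423659) F423658 (iv3 F414199) (iv1 F414205) (iv5 D198448) F232052 (iv3 F232051) (iv1 F175145) (iv5 F171210) (iv4 F313051) F187332 (iv1 F316851) D117111 (iv4 F318209) F341579 F396394 (iv5 D195234) (iv4 F396382)
theorem F449531 : act 6 n194519 = n208476 := d21_3 (iv5 F239723) (iv1 F393563) F393552 (iv1 D208476) (iv6 D134395) D134394 (iv1 F335852) (iv5 D170404) D170405 F364334
theorem F449532 : act 2 n208476 = n194522 := d3_1 F449531 (iv6 D194522) D194519
def n208477 : Q := act 7 n134395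
theorem D208477 : act 7 n134395 = n208477 := rfl
theorem F449533 : act 2 n208477 = n206328 := d4_1 D208477 (iv7 F449522) F449518
theorem F449534 : act 3 n208477 = n204466 := d8_1 D208477 F432618 F423668
theorem F449535 : act 4 n208477 = n134399 := d11_1 D208477 (iv7 D134399) (iv4 F216385)
theorem F449536 : act 6 n208477 = n203549 := d14_1 D208477 F428839 F331661 (iv7 D134396) D134395
theorem F449537 : act 1 n194522 = n208477 := d15_1 (iv0 F449523) (iv7 D208477) (iv2 F449518)
def n208478 : Q := act 5 n134397
theorem D208478 : act 5 n134397 = n208478 := rfl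
theorem F449538 : act 3 n208478 = n148788 := d6_1 D208478 (iv5 D148788) (iv3 F363091)
theorem F449539 : act 1 n208478 = n183039 := d17_6 F183454 D69350 (iv1 F230119) F320608 (iv4 F363092) D208478 (iv5 F426552) (iv0 D202992) F184032
def n208479 : Q := act 3 n134398
theorem D208479 : act 3 n134398 = n208479 := rfl
theorem F449540 : act 2 n208479 = n148790 := d0_1 D208479 (iv3 D148790) (iv2 F106115) D146893 F363096
theorem F449541 : act 4 n208479 = n163930 := d5_2 (iv4 F363097) D208479 F258364 F316436 F320610
theorem F449542 : act 6 n208479 = n153389 := d7_2 (iv6 F429526) D208479 F429525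
theorem F449543 : act 0 n208479 = n176492 := d20_4 F428916 (iv1 F318480) (iv4 F363097) D208479 (iv3 F392178) F392179 (iv1 F377157) (iv4 F411602) (iv3 F411606) (iv1 F428920)
theorem F449544 : act 0 n139989 = n208479 := d20_4 (iv4 D66359) (iv1 F181589) D65721 D139989 (iv3 D208479) F363097 (iv1 D66840) D66841 (iv3 F323723) (iv1 F181316)
theorem F449545 : act 5 n208479 = n183146 := d17_1 F449544 (iv1 D183146) (iv5 F359696) (iv4 F347996) (iv5 F416544) (iv0 F416551) F359773 F425286 F425282
def n208480 : Q := act 5 n134398
theorem D208480 : act 5 n134398 = n208480 := rfl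
theorem F449546 : act 3 n208480 = n183146 := d6_1 D208480 (iv5 F449545) (iv3 D208479)
theorem F449547 : act 4 n208480 = n201339 := d16_2 (iv4 F363097) D208480 (iv5 F420070) F405817 F361857 F278693 F320608 (iv7 F320288) F320287
theorem F449548 : act 0 n208480 = n183039 := d21_1 D208480 (iv5 F426552) F426555 F378124 (iv6 F345996) (iv5 F423427) (iv1 F428936) (iv5 D203570) D203571 (iv1 F428941)
theorem F449549 : act 6 n201333 = n208480 := d21_5 F217325 (iv1 F209285) D207287 (iv6 F444162) F420055 (iv5 D208480) (iv1 D134398) (iv5 F98828) (iv6 D63515) D63512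
def n208481 : Q := act 3 n134401
theorem D208481 : act 3 n134401 = n208481 := rfl
theorem F449550 : act 4 n208481 = n206823 := d5_2 F389775 D208481 F447016 F447013 F444789
theorem F449551 : act 6 n208481 = n138102 := d7_2 (iv6 F347008) D208481 F221323
theorem F449552 : act 7 n208481 = n136217 := d8_2 (iv7 F347009) D208481 F219241
def n208482 : Q := act 5 n134401
theorem D208482 : act 5 n134401 = n208482 := rfl
theorem F449553 : act 2 n208482 = n138082 := d2_1 D208482 F221313 (iv2 F347007)
theorem F449554 : act 4 n208482 = n152748 := d9_1 D208482 (iv5 D152748) (iv4 D72080) (iv5 F199923) D125001 F331977 F93931 D64883 D138081 F364903 (iv4 D72075) (iv5 F199918) (iv4 F344074) D193412 F389775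
theorem F449555 : act 7 n208482 = n136220 := d13_2 (iv7 F347009) D208482 (iv5 D136220)
theorem F449556 : act 0 n208482 = n138080 := d17_2 D134401 D208482 (iv5 F221312) (iv4 F438850) F438851 F425360 F309873 (iv0 D63281) (iv4 F98420)
theorem F449557 : act 1 n208482 = n138079 := d17_8 F423708 (iv5 D152758) (iv1 D72084) D72086 (iv4 F347117) (iv5 D138077) (iv0 F347006) D208482 (iv4 F423707)
def n208483 : Q := act 0 n134403
theorem D208483 : act 0 n134403 = n208483 := rfl
theorem F449558 : act 5 n208483 = n152707 := d17_3 (iv1 F347005) D134403 D208483 (iv4 D152707) (iv5 D72045) (iv0 F191282) (iv5 F347086) (iv0 D126802) F93931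
theorem F449559 : act 1 n138077 = n208483 := d15_0 (iv0 D208483) (iv7 F217365) F347118
theorem F449560 : act 7 n149139 = n208483 := d13_0 F449558 (iv7 F431866) F431865
theorem F449561 : act 4 n152738 = n208483 := d16_2 D72067 D152738 F449558 (iv4 D152707) (iv5 D72045) (iv4 D33272) D33273 (iv7 F185108) F185107
def n208484 : Q := act 1 n134403
theorem D208484 : act 1 n134403 = n208484 := rfl
theorem F449562 : act 1 n208484 = n138077 := d15_1 D208484 (iv7 F449462) F449459
theorem F449563 : act 5 n152732 = n208484 := d21_6 (iv5 F216368) F337787 F337784 (iv6 F337785) (iv1 F397628) (iv6 F397634) (iv1 D208484) (iv5 D134403) (iv6 D63136) (iv1 F208365)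
theorem F449564 : act 2 n208484 = n149139 := d2_1 F449563 (iv5 F431865) F431863
theorem F449565 : act 3 n208484 = n154585 := d6_1 F449563 (iv5 F365547) F397635
theorem F449566 : act 4 n208484 = n152718 := d9_1 F449563 (iv5 D152718) (iv4 D72050) (iv5 D33273) D33272 D72045 D152707 (iv5 F449558) (iv4 F449561) (iv5 D152738) (iv4 D72067) (iv5 D33278) D33277 D72065 D152732
theorem F449567 : act 6 n149051 = n208484 := d21_5 (iv5 D102068) F289750 D87755 F134722 D149051 (iv5 F449563) F444349 F444347 (iv6 D185345) (iv1 F157012)
def n208485 : Q := act 4 n134403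
theorem D208485 : act 4 n134403 = n208485 := rfl
theorem F449568 : act 2 n208485 = n152769 := d1_1 D208485 (iv4 F449460) F449459
theorem F449569 : act 5 n208485 = n152328 := d9_2 D134403 D208485 F239489 F108333 (iv4 F304772) (iv5 F306775) F347012 D138077 F347117 (iv5 D72086) (iv4 D33282) (iv5 D16066) (iv4 F25590) (iv5 F305863) (iv4 F98420)
theorem F449570 : act 6 n208485 = n202323 := d10_2 F428944 D208485 (iv4 F428946)
theorem F449571 : act 7 n208485 = n152327 := d11_2 F217365 D208485 (iv4 F347119)
theorem F449572 : act 1 n208485 = n152765 := d18_6 (iv1 D64375) (iv4 F94024) (iv1 F326671) (iv4 F98420) D134403 D208485 F390308 (iv0 F390309) (iv5 D136971)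
theorem F449573 : act 1 n152766 = n208485 := d15_1 D152766 F449571 F239487
theorem F449574 : act 3 n192280 = n208485 := d6_3 F449569 (iv3 F343270) D192280
def n208486 : Q := act 0 n134416
theorem D208486 : act 0 n134416 = n208486 := rfl
theorem F449575 : act 5 n208486 = n194218 := d17_1 D208486 F416314 (iv5 F416315) F445253 (iv5 D207517) F211382 D134333 F354722 D134416
theorem F449576 : act 4 n208486 = n186579 := d18_3 F354731 D134416 D208486 (iv5 F367294) (iv4 F216519) (iv0 D106597) F77830 D63110 D134337
theorem F449577 : act 3 n208486 = n208135 := d20_5 F378768 F364976 D199268 F411390 D208486 F448032 (iv1 F421074) (iv4 F397731) (iv3 F413800) (iv1 F413799)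
theorem F449578 : act 1 n186581 = n208486 := d15_0 (iv0 D208486) (iv7 F365584) (iv2 F367313)
theorem F449579 : act 7 n186973 = n208486 := d8_0 F449577 F448031 F419599
theorem F449580 : act 2 n208486 = n186974 := d15_3 (iv0 F414511) (iv0 F414512) F449579
def n208487 : Q := act 1 n134416
theorem D208487 : act 1 n134416 = n208487 := rfl
theorem F449581 : act 1 n208487 = n186581 := d15_1 D208487 (iv7 F414510) F414507
theorem F449582 : act 7 n208487 = n186974 := d15_2 (iv0 D208486) D208487 (iv2 F449580)
theorem F449583 : act 4 n208487 = n186578 := d18_7 F156325 F336391 (iv1 D106570) (iv4 F111641) F111642 D134416 D208487 (iv0 D186578) (iv5 F147809)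
theorem F449584 : act 3 n190979 = n208487 := d20_3 (iv4 F344951) F344952 (iv4 F381793) (iv1 D208487) (iv3 F411390) (iv4 D199268) F366643 F361300 F173659 D111848
theorem F449585 : act 2 n208487 = n186973 := d0_1 F449584 (iv3 F419599) F419598 F393611 (iv2 F393608)
theorem F449586 : act 5 n208487 = n200272 := d6_2 F381795 F449584 (iv3 D200272)
theorem F449587 : act 6 n208487 = n190976 := d7_2 D190979 F449584 (iv3 D190976)
theorem F449588 : act 0 n200405 = n200272 := d21_1 F416315 (iv5 F449586) F449587 F381788 (iv6 D186745) (iv5 D89084) F71632 (iv5 F120176) D164486 F445254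
def n208488 : Q := act 5 n134416
theorem D208488 : act 5 n134416 = n208488 := rfl
theorem F449589 : act 6 n208488 = n198744 := d12_2 (iv6 F365583) D208488 (iv5 D198744) (iv6 D109939) D109938
theorem F449590 : act 7 n208488 = n186982 := d13_2 F365584 D208488 (iv5 D186982)
theorem F449591 : act 1 n208488 = n200275 := d17_6 F383864 F377954 F328331 F111642 D134416 D208488 F415790 F445260 F383865
def n208489 : Q := act 3 n134422
theorem D208489 : act 3 n134422 = n208489 := rfl
theorem F449592 : act 4 n208489 = n151337 := d5_2 (iv4 F331626) D208489 (iv3 F422010) F422012 F183714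
theorem F449593 : act 6 n208489 = n151335 := d7_2 (iv6 F356542) D208489 (iv3 F340887)
theorem F449594 : act 7 n208489 = n146825 := d8_2 (iv7 F331627) D208489 F230172
theorem F449595 : act 1 n201878 = n208489 := d17_8 F426348 F374121 F371137 F363108 (iv4 F342710) (iv5 F360929) (iv0 F411500) (iv5 F422184) F449592
def n208490 : Q := act 6 n134424
theorem D208490 : act 6 n134424 = n208490 := rfl
theorem F449596 : act 2 n208490 = n134425 := d3_1 D208490 (iv6 D134425) D134424
theorem F449597 : act 4 n208490 = n195547 := d10_1 D208490 F397305 (iv4 F331629)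
theorem F449598 : act 7 n208490 = n155503 := d14_2 F331632 D208490 (iv6 D155503) (iv7 F244508) (iv6 F230351)
theorem F449599 : act 0 n208490 = n142664 := d21_4 (iv5 D111244) D111240 (iv5 F216395) D208490 F316210 (iv5 F336980) F212982 (iv5 F216273) (iv6 F356549) (iv1 F356566)
theorem F449600 : act 5 n208490 = n203129 := d21_6 (iv5 F183484) (iv1 F183485) (iv5 D68834) D68835 F331635 D208490 (iv1 D203129) (iv5 D117700) (iv6 D54215) D54212
theorem F449601 : act 0 n204469 = n208490 := d21_4 (iv5 F385448) (iv1 D192078) D192079 (iv6 F432634) (iv6 D208490) F216395 (iv1 F172548) D111249 F356571 (iv1 F356573)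
def n208491 : Q := act 5 n134425
theorem D208491 : act 5 n134425 = n208491 := rfl
theorem F449602 : act 2 n208491 = n203129 := d2_1 D208491 (iv5 F449600) F449596
theorem F449603 : act 3 n208491 = n134428 := d6_1 D208491 (iv5 D134428) (iv3 F216400)
theorem F449604 : act 6 n208491 = n199383 := d12_2 D134425 D208491 (iv5 D199383) (iv6 D111258) (iv5 F98421)
theorem F449605 : act 7 n208491 = n203128 := d13_2 (iv7 F353342) D208491 F427070
theorem F449606 : act 0 n208491 = n203116 := d17_2 F425175 D208491 (iv5 D203116) F184298 F320932 (iv0 D53731) D53733 (iv0 F181650) D202700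
theorem F449607 : act 1 n208491 = n203044 := d17_6 (iv1 F349448) F321267 (iv1 F336235) D202334 F423670 D208491 (iv5 D203044) F321906 (iv4 D145055)
def n208492 : Q := act 4 n134438
theorem D208492 : act 4 n134438 = n208492 := rfl
theorem F449608 : act 3 n208492 = n134734 := d5_1 D208492 F331087 (iv3 D91229) D91230 (iv3 F373120)
theorem F449609 : act 5 n208492 = n134733 := d9_2 D134438 D208492 F401318 F401321 F219200 (iv5 F343212) F343191 D134433 (iv4 F425295) (iv5 D202725) F181992 (iv5 F360847) F157407 D102458 F343200
theorem F449610 : act 0 n208492 = n198189 := d17_0 F407155 F407156 F404991 F404987 (iv5 D123252) D123251 (iv5 F341409) (iv0 F343202) D208492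
theorem F449611 : act 1 n208492 = n198764 := d18_6 F342807 (iv4 F391329) (iv1 D193899) F343200 D134438 D208492 F429472 F429471 (iv5 D199385)
def n208493 : Q := act 6 n134438
theorem D208493 : act 6 n134438 = n208493 := rfl
theorem F449612 : act 2 n208493 = n207291 := d3_1 D208493 F444179 F431155
theorem F449613 : act 3 n208493 = n188356 := d7_1 D208493 (iv6 D188356) (iv3 F373120)
theorem F449614 : act 7 n208493 = n207292 := d14_2 F384618 D208493 (iv6 F444186) (iv7 D199271) (iv6 F384617)
theorem F449615 : act 0 n208493 = n207294 := d21_4 F216933 (iv1 F216085) D134438 D208493 (iv6 F447586) F447585 (iv1 F433644) F433641 (iv6 D135192) (iv1 F216936)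
theorem F449616 : act 0 n134876 = n208493 := d21_4 (iv5 F79233) F79234 D63385 D134876 (iv6 D208493) (iv5 D134438) (iv1 D63144) (iv5 F48188) (iv6 D29998) D29995
def n208494 : Q := act 4 n134443
theorem D208494 : act 4 n134443 = n208494 := rfl
theorem F449617 : act 2 n208494 = n177770 := d1_1 D208494 F391061 F341435
theorem F449618 : act 6 n208494 = n134452 := d10_2 (iv6 F216408) D208494 (iv4 D134452)
theorem F449619 : act 7 n208494 = n204470 := d11_2 F343234 D208494 (iv4 D204470)
theorem F449620 : act 0 n208494 = n185221 := d18_2 F411453 D208494 F287537 D185226 F353709 F363292 (iv4 F411439) (iv0 D199277) D199279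
theorem F449621 : act 3 n177991 = n208494 := d0_0 F449617 (iv3 D177770) F129834 D84724 D177991
def n208495 : Q := act 5 n134444
theorem D208495 : act 5 n134444 = n208495 := rfl
theorem F449622 : act 2 n208495 = n195151 := d2_1 D208495 (iv5 D195151) (iv2 F360485)
theorem F449623 : act 3 n208495 = n134445 := d6_1 D208495 (iv5 D134445) D134444
theorem F449624 : act 0 n208495 = n194114 := d21_1 D208495 F392099 (iv6 D186682) (iv1 F157824) D194050 F391875 F391102 F391099 (iv6 F390337) F390326
def n208496 : Q := act 4 n134445
theorem D208496 : act 4 n134445 = n208496 := rfl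
def n208497 : Q := act 4 n134448
theorem D208497 : act 4 n134448 = n208497 := rfl
def n208498 : Q := act 6 n134448
theorem D208498 : act 6 n134448 = n208498 := rfl
theorem F449625 : act 3 n208498 = n193863 := d7_1 D208498 F391237 (iv3 F383981)
theorem F449626 : act 5 n208498 = n136794 := d12_1 D208498 (iv6 D136794) (iv5 F350340) F326055 D134448
def n208499 : Q := act 4 n134450
theorem D208499 : act 4 n134450 = n208499 := rfl
theorem F449627 : act 7 n208499 = n177966 := d11_2 (iv7 F350270) D208499 F277519
theorem F449628 : act 5 n208499 = n208497 := d16_1 D208499 (iv4 D208497) (iv5 D134448) (iv4 F98525) D129091 (iv4 F431223) F431224 F350268 (iv2 F350269)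
theorem F449629 : act 1 n208499 = n208362 := d18_6 F407194 F407192 F405100 (iv4 F431892) F431893 D208499 (iv4 D208362) (iv0 F432195) (iv5 D204357)
def n208500 : Q := act 3 n134451
theorem D208500 : act 3 n134451 = n208500 := rfl
theorem F449630 : act 2 n208500 = n191502 := d0_1 D208500 (iv3 F418872) F418874 F277511 (iv2 F350266)
theorem F449631 : act 5 n208500 = n186719 := d6_2 F431224 D208500 (iv3 F431222)
theorem F449632 : act 6 n208500 = n177762 := d7_2 (iv6 F350267) D208500 (iv3 D177762)
theorem F449633 : act 7 n208500 = n191624 := d8_2 (iv7 F350268) D208500 F384031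
theorem F449634 : act 4 n193573 = n208500 := d10_3 F449632 (iv4 F338083) D193573
def n208501 : Q := act 4 n134451
theorem D208501 : act 4 n134451 = n208501 := rfl
theorem F449635 : act 2 n208501 = n177966 := d1_1 D208501 F277519 (iv2 F350266)
theorem F449636 : act 5 n208501 = n208496 := d9_2 F431224 D208501 (iv4 D208496) (iv5 D134445) F167789 D197629 (iv4 F431892) F431893 D208499 F449628 (iv4 D208497) (iv5 D134448) (iv4 F98525) D129091 (iv4 F431223)
theorem F449637 : act 6 n208501 = n177763 := d10_2 (iv6 F350267) D208501 (iv4 D177763)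
theorem F449638 : act 0 n208501 = n208362 := d18_2 (iv1 F216941) D208501 (iv4 D208362) (iv5 D134217) F98369 F101912 F98525 F98644 D134816
def n208502 : Q := act 0 n134452
theorem D208502 : act 0 n134452 = n208502 := rfl
def n208503 : Q := act 1 n134452
theorem D208503 : act 1 n134452 = n208503 := rfl
def n208504 : Q := act 3 n134452
theorem D208504 : act 3 n134452 = n208504 := rfl
theorem F449639 : act 2 n208504 = n177896 := d0_1 D208504 (iv3 D177896) (iv2 F277187) (iv3 F448794) F448793
theorem F449640 : act 4 n208504 = n192280 := d5_2 D134452 D208504 F449574 (iv4 D208485) F216391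
theorem F449641 : act 6 n208504 = n177991 := d7_2 F449618 D208504 F449621
theorem F449642 : act 0 n208504 = n193892 := d19_4 (iv1 D63148) D63149 D134452 D208504 F391307 (iv4 D185110) (iv3 F285656) (iv1 F285658) D185034 (iv4 F339546) F373978 (iv1 D188563) (iv5 F143157) D188795 (iv3 F380139) (iv1 F441823) (iv5 D206672) (iv4 F216409) (iv3 D134447)
theorem F449643 : act 5 n193865 = n208504 := d17_1 (iv1 F391246) F449642 F391307 (iv4 D185110) (iv5 D88228) F74674 D102371 F336767 (iv4 F362118)
theorem F449644 : act 1 n208504 = n193836 := d15_1 (iv0 F449642) F391144 (iv2 F391306)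
def n208505 : Q := act 5 n134452
theorem D208505 : act 5 n134452 = n208505 := rfl
theorem F449645 : act 2 n208505 = n135210 := d2_1 D208505 (iv5 F448796) F448793
theorem F449646 : act 3 n208505 = n193865 := d6_1 D208505 F449643 (iv3 D208504)
theorem F449647 : act 7 n208505 = n208297 := d13_2 F217387 D208505 F448796
theorem F449648 : act 4 n208505 = n134816 := d16_2 D134452 D208505 (iv5 D134816) F98642 F48100 (iv4 F98642) D134816 F216940 F216087
theorem F449649 : act 1 n208503 = n208505 := d15_1 D208503 F449647 F448793
theorem F449650 : act 1 n208505 = n208502 := d15_0 (iv0 D208502) (iv7 F217387) (iv2 F449645)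
def n208506 : Q := act 1 n134454
theorem D208506 : act 1 n134454 = n208506 := rfl
theorem F449651 : act 1 n208506 = n134459 := d15_1 D208506 (iv7 F217403) F217402
theorem F449652 : act 7 n208506 = n185125 := d15_2 F406336 D208506 (iv2 F391133)
theorem F449653 : act 5 n208506 = n134922 := d17_7 (iv1 F164114) F97534 F164123 (iv5 D63153) D63152 D134454 D208506 (iv0 F363081) (iv4 D135218)
theorem F449654 : act 6 n178080 = n208506 := d12_0 F449653 (iv6 D134922) (iv5 F216315) D208427 F449316
def n208507 : Q := act 4 n134454
theorem D208507 : act 4 n134454 = n208507 := rfl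
def n208508 : Q := act 5 n134456
theorem D208508 : act 5 n134456 = n208508 := rfl
theorem F449655 : act 2 n208508 = n208361 := d2_1 D208508 F449072 F217404
theorem F449656 : act 3 n208508 = n183877 := d6_1 D208508 (iv5 F353717) (iv3 F366837)
theorem F449657 : act 6 n208508 = n183876 := d12_2 (iv6 F216415) D208508 (iv5 F368927) (iv6 F368929) F363078
theorem F449658 : act 7 n208508 = n204357 := d13_2 F329431 D208508 (iv5 D204357)
theorem F449659 : act 0 n208508 = n134983 := d17_2 F363079 D208508 (iv5 D134983) F98769 F79256 (iv0 F103577) D132160 (iv0 F211683) (iv4 F216181)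
theorem F449660 : act 1 n208508 = n197971 := d17_6 (iv1 D29860) F23697 D29859 D63153 D134456 D208508 (iv5 D197971) F168763 (iv4 D63157)
theorem F449661 : act 4 n208508 = n208502 := d18_5 F431226 F209404 F164123 D134456 D208508 (iv0 D208502) (iv4 D134452) D134451 (iv5 F431224)
theorem F449662 : act 7 n208502 = n177985 := d11_2 (iv7 F449658) F449661 F432197
theorem F449663 : act 2 n177985 = n208503 := d15_3 F449649 F449650 F449662
theorem F449664 : act 6 n208503 = n177768 := d3_2 D177985 F449663 (iv2 F277237)
def n208509 : Q := act 5 n134458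
theorem D208509 : act 5 n134458 = n208509 := rfl
theorem F449665 : act 3 n208509 = n134459 := d6_1 D208509 (iv5 D134459) D134458
def n208510 : Q := act 4 n134459
theorem D208510 : act 4 n134459 = n208510 := rfl
theorem F449666 : act 5 n208510 = n208502 := d16_1 D208510 (iv4 F449661) (iv5 D208508) (iv4 D134456) (iv5 D63153) D63152 D134454 (iv7 F217391) F217390
def n208511 : Q := act 6 n134459
theorem D208511 : act 6 n134459 = n208511 := rfl
theorem F449667 : act 0 n204459 = n208511 := d21_4 D185226 F363293 F253206 D204459 (iv6 D208511) (iv5 D134459) (iv1 F168763) D197971 F406333 F362806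
def n208512 : Q := act 3 n134460
theorem D208512 : act 3 n134460 = n208512 := rfl
theorem F449668 : act 6 n208512 = n204165 := d7_2 F329057 D208512 (iv3 D204165)
def n208513 : Q := act 5 n134460
theorem D208513 : act 5 n134460 = n208513 := rfl
theorem F449669 : act 2 n208513 = n204357 := d2_1 D208513 (iv5 D204357) F329429
theorem F449670 : act 6 n208513 = n181153 := d12_2 F329057 D208513 F282165 F277281 F304270
theorem F449671 : act 7 n208513 = n208361 := d13_2 F217406 D208513 F449072
theorem F449672 : act 0 n208513 = n197971 := d17_2 F413127 D208513 (iv5 D197971) F168760 F80581 F167640 D197531 (iv0 F404715) (iv4 F413125)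
theorem F449673 : act 1 n208513 = n134983 := d17_6 (iv1 F48103) F48100 (iv1 F48102) D63158 D134460 D208513 (iv5 D134983) (iv0 F101901) (iv4 D63152)
theorem F449674 : act 4 n208513 = n208503 := d18_5 (iv1 F431895) F383571 F168725 D134460 D208513 F449649 F449648 F216942 (iv5 F431893)
theorem F449675 : act 5 n208507 = n208503 := d9_14 (iv5 D208513) (iv4 D134460) (iv5 D63158) D63157 D134459 D208510 F449666 (iv4 F449661) (iv5 D208508) (iv4 D134456) (iv5 D63153) D63152 D134454 D208507 (iv4 F449674)
def n208514 : Q := act 4 n134461
theorem D208514 : act 4 n134461 = n208514 := rfl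
theorem F449676 : act 2 n208514 = n208283 := d1_1 D208514 F448730 F336950
theorem F449677 : act 3 n208514 = n208287 := d5_1 D208514 F448752 (iv3 D201836) F355275 F355299
theorem F449678 : act 5 n208514 = n153956 := d9_2 (iv5 F355300) D208514 (iv4 F336956) F336953 (iv4 F168751) F368697 (iv4 F368694) F142438 F336945 F355303 F336932 F336942 F217436 (iv5 F336974) F230332
theorem F449679 : act 6 n208514 = n201109 := d10_2 F371155 D208514 (iv4 F419119)
theorem F449680 : act 7 n208514 = n188741 := d11_2 (iv7 F336949) D208514 F374658
theorem F449681 : act 0 n208514 = n194781 := d17_0 F394453 (iv1 F391105) (iv5 F444017) (iv4 D207259) (iv5 F347381) (iv0 F336935) F336942 F217439 D208514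
theorem F449682 : act 1 n208514 = n193582 := d18_6 D189628 F377181 F347383 F230332 (iv5 F355300) D208514 F390332 (iv0 D104367) (iv5 F145319)
def n208515 : Q := act 6 n134463
theorem D208515 : act 6 n134463 = n208515 := rfl
theorem F449683 : act 2 n208515 = n134464 := d3_1 D208515 (iv6 D134464) D134463
theorem F449684 : act 3 n208515 = n159547 := d7_1 D208515 (iv6 D159547) (iv3 F332606)
theorem F449685 : act 4 n208515 = n136929 := d10_1 D208515 (iv6 F394447) F394445
theorem F449686 : act 5 n208515 = n175644 := d12_1 D208515 (iv6 F347629) F259022 (iv6 D159545) F332616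
theorem F449687 : act 7 n208515 = n195628 := d14_2 F217438 D208515 F397664 F208649 (iv6 F217437)
theorem F449688 : act 0 n208515 = n175630 := d21_10 (iv5 D175630) (iv1 F314192) (iv5 F371183) F422027 F422026 F376904 (iv5 F355685) F332619 F332616 D208515
theorem F449689 : act 0 n146841 = n208515 := d21_4 (iv5 D43381) F65414 D68841 D146841 (iv6 D208515) (iv5 F332616) (iv1 F332618) D114257 F178091 (iv1 D92733)
def n208516 : Q := act 0 n134464
theorem D208516 : act 0 n134464 = n208516 := rfl
theorem F449690 : act 5 n208516 = n152355 := d17_3 (iv1 F370549) (iv5 F370553) D208516 F314196 (iv5 D83026) F59068 (iv5 F59438) F127946 D173582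
theorem F449691 : act 4 n208516 = n193580 := d18_1 D208516 (iv1 F390327) (iv4 D113991) F326557 (iv4 D83030) D83029 (iv4 F324794) D187490 (iv5 F370553)
theorem F449692 : act 3 n208516 = n146850 := d20_5 (iv4 F83087) (iv1 F328640) F171543 (iv3 F216420) D208516 F359189 (iv1 D135653) F99141 (iv3 F48363) F328249
theorem F449693 : act 2 n175630 = n208516 := d15_3 (iv0 D208516) (iv0 F371117) (iv7 F371118)
theorem F449694 : act 1 n195628 = n208516 := d15_0 (iv0 D208516) (iv7 F217408) (iv2 F397662)
theorem F449695 : act 7 n208516 = n146841 := d15_2 (iv0 F397665) F449694 (iv2 F371114)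
def n208517 : Q := act 4 n134473
theorem D208517 : act 4 n134473 = n208517 := rfl
theorem F449696 : act 2 n208517 = n186593 := d1_1 D208517 F367356 F339552
theorem F449697 : act 3 n208517 = n185479 := d5_1 D208517 (iv4 F414494) F414493 (iv4 F369238) F369237
theorem F449698 : act 5 n208517 = n185477 := d9_2 D134473 D208517 (iv4 F361011) (iv5 F423349) (iv4 F437166) (iv5 D205599) (iv4 F203494) (iv5 F325803) (iv4 F136754) (iv5 F157904) (iv4 F287430) F359537 F245595 F204304 F203496
theorem F449699 : act 6 n208517 = n188074 := d10_2 F369201 D208517 F372246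
theorem F449700 : act 7 n208517 = n186709 := d11_2 (iv7 F339554) D208517 F367762
theorem F449701 : act 0 n208517 = n186715 := d17_0 F367773 (iv1 D99935) (iv5 D46674) F34935 D43378 (iv0 F142934) F142932 F339553 D208517
theorem F449702 : act 1 n208517 = n186714 := d18_6 (iv1 F179387) (iv4 F404662) (iv1 F404665) F203496 D134473 D208517 (iv4 F447437) F447441 F376152
def n208518 : Q := act 4 n134478
theorem D208518 : act 4 n134478 = n208518 := rfl
theorem F449703 : act 6 n208518 = n199981 := d10_2 (iv6 F216427) D208518 (iv4 D199981)
theorem F449704 : act 7 n208518 = n197440 := d11_2 (iv7 F216428) D208518 F404323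
theorem F449705 : act 0 n208518 = n144755 := d18_2 F217256 D208518 F227609 F103857 D129112 F212441 (iv4 F213978) F217836 F217834
theorem F449706 : act 1 n208518 = n202190 := d18_6 (iv1 D62179) (iv4 F96934) D132528 F212712 D134478 D208518 F423176 (iv0 F207340) F162248
def n208519 : Q := act 5 n134479
theorem D208519 : act 5 n134479 = n208519 := rfl
theorem F449707 : act 2 n208519 = n189609 := d2_1 D208519 (iv5 F422101) (iv2 F422102)
theorem F449708 : act 3 n208519 = n134480 := d6_1 D208519 (iv5 D134480) D134479
theorem F449709 : act 6 n208519 = n189099 := d12_2 F365388 D208519 (iv5 F379704) (iv6 D190410) (iv5 F365387)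
theorem F449710 : act 4 n208519 = n137602 := d17_4 D187494 (iv5 F422096) F422098 D208519 (iv5 D137602) (iv0 F339537) (iv5 D47186) F290171 (iv4 F138848)
theorem F449711 : act 1 n189679 = n208519 := d17_8 (iv1 F377067) F377065 (iv1 F388770) F388768 F290170 F363896 (iv0 F371467) (iv5 F377372) F449710
def n208520 : Q := act 3 n134481
theorem D208520 : act 3 n134481 = n208520 := rfl
theorem F449712 : act 6 n208520 = n199984 := d7_2 (iv6 F216429) D208520 (iv3 D199984)
theorem F449713 : act 7 n208520 = n202424 := d8_2 (iv7 F216430) D208520 F423943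
theorem F449714 : act 0 n202209 = n208520 := d21_4 F440601 (iv1 F226783) (iv5 F423188) D202209 F449712 F414474 F415918 (iv5 F415928) F415929 D206400
def n208521 : Q := act 6 n134482
theorem D208521 : act 6 n134482 = n208521 := rfl
theorem F449715 : act 3 n208521 = n134484 := d7_1 D208521 (iv6 D134484) D134482
theorem F449716 : act 4 n208521 = n195093 := d10_1 D208521 (iv6 F399240) F399239
theorem F449717 : act 5 n208521 = n187510 := d12_1 D208521 (iv6 D187510) (iv5 F370556) F373979 F373981
theorem F449718 : act 7 n208521 = n201079 := d14_2 (iv7 F349145) D208521 F419022 F218331 (iv6 F349141)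
theorem F449719 : act 0 n208521 = n201038 := d21_4 F143127 (iv1 F373976) F373981 D208521 (iv6 D201038) (iv5 D113772) F138863 (iv5 F233458) (iv6 F233462) (iv1 F335791)
theorem F449720 : act 0 n205507 = n208521 := d21_4 (iv5 D154053) (iv1 F320231) F335843 (iv6 F436756) (iv6 D208521) (iv5 F373981) (iv1 D188563) (iv5 F143157) D188796 (iv1 F374936)
def n208522 : Q := act 6 n134483
theorem D208522 : act 6 n134483 = n208522 := rfl
theorem F449721 : act 2 n208522 = n194663 := d3_1 D208522 (iv6 F422075) F422071
theorem F449722 : act 3 n208522 = n187491 := d7_1 D208522 F373979 (iv3 F373978)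
theorem F449723 : act 4 n208522 = n194480 := d10_1 D208522 (iv6 F393389) (iv4 F339546)
theorem F449724 : act 5 n208522 = n187509 := d12_1 D208522 F445182 F445178 (iv6 D134484) D134483
theorem F449725 : act 7 n208522 = n189603 := d14_2 (iv7 F376153) D208522 (iv6 D189603) F344303 D189225
theorem F449726 : act 0 n208522 = n189665 := d21_4 F339548 (iv1 F179288) D134483 D208522 (iv6 F384609) (iv5 F426332) (iv1 F426338) F363895 F290224 F153866
def n208523 : Q := act 3 n134485
theorem D208523 : act 3 n134485 = n208523 := rfl
theorem F449727 : act 4 n208523 = n196876 := d5_2 D134485 D208523 F402119 F165674 (iv3 F165536)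
theorem F449728 : act 6 n208523 = n156303 := d7_2 (iv6 F216433) D208523 (iv3 D156303)
def n208524 : Q := act 3 n134501
theorem D208524 : act 3 n134501 = n208524 := rfl
theorem F449729 : act 5 n208524 = n201845 := d6_2 (iv5 F216450) D208524 (iv3 D201845)
theorem F449730 : act 7 n208524 = n207274 := d8_2 F216452 D208524 F444090
def n208525 : Q := act 3 n134502
theorem D208525 : act 3 n134502 = n208525 := rfl
theorem F449731 : act 5 n208525 = n196216 := d6_2 (iv5 F216454) D208525 (iv3 F399937)
theorem F449732 : act 6 n208525 = n195945 := d7_2 F444809 D208525 F444813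
theorem F449733 : act 7 n208525 = n207275 := d8_2 (iv7 F216453) D208525 F444092
theorem F449734 : act 0 n208525 = n196144 := d20_4 (iv4 F344964) D207420 F444808 D208525 F399603 (iv4 D190403) (iv1 F378500) F378497 F225747 (iv1 F329182)
def n208526 : Q := act 5 n134536
theorem D208526 : act 5 n134536 = n208526 := rfl
theorem F449735 : act 2 n208526 = n136966 := d2_1 D208526 (iv5 D136966) (iv2 F339486)
theorem F449736 : act 6 n208526 = n203569 := d12_2 D134536 D208526 (iv5 D203569) F188561 F330251
theorem F449737 : act 7 n208526 = n136971 := d13_2 (iv7 F339487) D208526 (iv5 D136971)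
theorem F449738 : act 0 n202349 = n208526 := d21_7 D63245 (iv1 F216523) F216524 (iv6 F338472) (iv1 F442123) F442120 (iv5 F423714) (iv5 D208526) (iv6 D134536) (iv1 F98476)
def n208527 : Q := act 6 n134547
theorem D208527 : act 6 n134547 = n208527 := rfl
theorem F449739 : act 2 n208527 = n134600 := d3_1 D208527 (iv6 D134600) (iv2 F216526)
theorem F449740 : act 3 n208527 = n193976 := d7_1 D208527 (iv6 F391570) (iv3 F368376)
theorem F449741 : act 4 n208527 = n191076 := d10_1 D208527 (iv6 D191076) F352586
def n208528 : Q := act 3 n134548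
theorem D208528 : act 3 n134548 = n208528 := rfl
theorem F449742 : act 4 n208528 = n135782 := d5_2 (iv4 F365521) D208528 F342157 F342154 F365522
theorem F449743 : act 6 n208528 = n186800 := d7_2 (iv6 F338478) D208528 (iv3 D186800)
def n208529 : Q := act 5 n134548
theorem D208529 : act 5 n134548 = n208529 := rfl
theorem F449744 : act 6 n208529 = n187011 := d12_2 (iv6 F338478) D208529 F368835 F356799 (iv5 F338449)
theorem F449745 : act 7 n208529 = n191427 := d13_2 F394438 D208529 (iv5 F441294)
theorem F449746 : act 4 n208529 = n191428 := d16_2 (iv4 F365521) D208529 F383470 (iv4 F383460) (iv5 F439641) (iv4 F443343) (iv5 D207104) (iv7 F443320) (iv2 F443319)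
theorem F449747 : act 0 n208529 = n203217 := d17_2 D134548 D208529 (iv5 F427446) F348577 (iv5 F370560) (iv0 F370565) (iv5 D134568) (iv0 D63233) (iv4 F98473)
def n208530 : Q := act 5 n134549
theorem D208530 : act 5 n134549 = n208530 := rfl
theorem F449748 : act 2 n208530 = n191427 := d2_1 D208530 (iv5 F441294) F394440
theorem F449749 : act 4 n208530 = n184240 := d9_1 D208530 (iv5 D184240) (iv4 F286166) (iv5 F439647) (iv4 F439649) (iv5 F425392) (iv4 F365521) D208529 F449746 F383470 (iv4 F383460) (iv5 F439641) (iv4 F443343) (iv5 D207104) (iv4 F380791)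
theorem F449750 : act 1 n208530 = n203217 := d17_6 D205964 F438616 (iv1 F443342) (iv5 D207104) (iv4 F380791) D208530 (iv5 F427446) (iv0 D136886) (iv4 F204095)
theorem F449751 : act 6 n191420 = n208530 := d10_0 F449749 F286170 D191420
def n208531 : Q := act 0 n134550
theorem D208531 : act 0 n134550 = n208531 := rfl
theorem F449752 : act 5 n208531 = n136889 := d17_3 (iv1 D134549) D134550 D208531 F347094 (iv5 F347096) (iv0 F334172) (iv5 D130223) D130222 (iv4 F380791)
theorem F449753 : act 7 n136888 = n208531 := d13_0 F449752 (iv7 D136889) D136888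
theorem F449754 : act 1 n194785 = n208531 := d17_6 (iv1 F352093) (iv5 F216546) F338598 F328616 (iv4 F160064) D194785 F449752 F220601 (iv4 F347095)
def n208532 : Q := act 4 n134550
theorem D208532 : act 4 n134550 = n208532 := rfl
theorem F449755 : act 2 n208532 = n204084 := d1_1 D208532 F431022 F367185
theorem F449756 : act 5 n208532 = n170643 := d16_1 D208532 (iv4 F448446) F448447 F340128 F328616 (iv4 F160064) D194785 F394467 F367185
theorem F449757 : act 0 n208532 = n207397 := d18_2 F352101 D208532 (iv4 F449489) F449486 F334127 F352093 F347095 (iv0 D137393) D137395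
theorem F449758 : act 1 n208532 = n170649 := d18_6 (iv1 F363248) (iv4 D132626) F341747 (iv4 F98473) D134550 D208532 F334126 (iv0 F221357) (iv5 D138172)
theorem F449759 : act 3 n192886 = n208532 := d6_3 F449756 (iv3 F340969) D192886
theorem F449760 : act 7 n204083 = n208532 := d13_0 F449756 (iv7 F354033) D204083
def n208533 : Q := act 7 n134550
theorem D208533 : act 7 n134550 = n208533 := rfl
theorem F449761 : act 2 n208533 = n194785 := d4_1 D208533 F394467 F367185
theorem F449762 : act 4 n208533 = n204083 := d11_1 D208533 F449760 (iv4 D208532)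
theorem F449763 : act 5 n208533 = n134551 := d13_1 D208533 (iv7 D134551) D134550
theorem F449764 : act 1 n136888 = n208533 := d15_1 F367186 (iv7 D208533) (iv2 F367185)
def n208534 : Q := act 4 n134594
theorem D208534 : act 4 n134594 = n208534 := rfl
theorem F449765 : act 6 n208534 = n170681 := d10_2 (iv6 F321673) D208534 F268189
theorem F449766 : act 0 n208534 = n206509 := d18_2 F362645 D208534 F441138 (iv5 D133278) D133277 F447641 F447639 (iv0 D206796) (iv5 F362643)
theorem F449767 : act 1 n208534 = n166778 := d18_6 (iv1 F336068) F336071 (iv1 F288298) (iv4 F327295) D134594 D208534 F262509 F299413 F323673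
def n208535 : Q := act 6 n134597
theorem D208535 : act 6 n134597 = n208535 := rfl
theorem F449768 : act 2 n208535 = n204353 := d3_1 D208535 (iv6 D204353) (iv2 F364188)
theorem F449769 : act 3 n208535 = n134600 := d7_1 D208535 (iv6 D134600) (iv3 F216578)
theorem F449770 : act 0 n208535 = n148522 := d21_4 (iv5 F368697) F168753 D134597 D208535 (iv6 F362413) (iv5 F362403) F335341 F74570 D89425 D186966
theorem F449771 : act 0 n204490 = n208535 := d21_4 F373186 F448496 F448494 (iv6 F432697) (iv6 D208535) (iv5 D134597) (iv1 F171573) (iv5 F336974) (iv6 D146935) D146931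
def n208536 : Q := act 6 n134599
theorem D208536 : act 6 n134599 = n208536 := rfl
theorem F449772 : act 2 n208536 = n191076 := d3_1 D208536 (iv6 D191076) F352579
theorem F449773 : act 4 n208536 = n134600 := d10_1 D208536 (iv6 D134600) D134599
theorem F449774 : act 5 n208536 = n206246 := d12_1 D208536 F439905 (iv5 F334132) F334141 (iv5 F349369)
theorem F449775 : act 0 n145076 = n208536 := d21_4 F424877 F362625 (iv5 D145075) D145076 (iv6 D208536) F349369 F334143 (iv5 D134394) D134395 F424880
theorem F449776 : act 0 n203029 = n134600 := d18_2 F360897 (iv4 F426698) (iv4 F449773) F449774 F439904 (iv0 D130873) F95898 D61404 D130885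
def n208537 : Q := act 5 n134600
theorem D208537 : act 5 n134600 = n208537 := rfl
theorem F449777 : act 6 n208537 = n134603 := d12_2 D134600 D208537 (iv5 D134603) (iv6 D63246) D63245
theorem F449778 : act 1 n208537 = n136489 := d17_6 (iv1 F359375) (iv5 F205733) D206246 (iv5 F449774) F449773 D208537 F365607 D144802 F338492
theorem F449779 : act 4 n208537 = n207047 := d18_5 (iv1 F449503) F449504 F449775 F449773 D208537 (iv0 D207047) (iv4 F214695) F410533 (iv5 F426962)
def n208538 : Q := act 3 n134602
theorem D208538 : act 3 n134602 = n208538 := rfl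
theorem F449780 : act 4 n208538 = n185780 := d5_2 (iv4 F342183) D208538 F288110 F342175 D130165
theorem F449781 : act 5 n208538 = n191782 := d6_2 F388448 D208538 (iv3 F388447)
theorem F449782 : act 6 n208538 = n185779 := d7_2 F342185 D208538 F337853
theorem F449783 : act 7 n208538 = n136959 := d8_2 (iv7 F342184) D208538 F220123
theorem F449784 : act 1 n191771 = n208538 := d15_1 F449266 F449783 (iv2 F449254)
theorem F449785 : act 0 n191776 = n208538 := d18_0 F449780 (iv1 F363182) (iv4 F448678) (iv5 F448681) (iv4 F374177) (iv0 F387259) F387260 F384405 D191776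
theorem F449786 : act 0 n207834 = n207826 := d20_7 F449780 (iv1 F363182) (iv4 F448678) F448677 (iv1 F383861) F383858 (iv4 F446638) F449303 F449305 F449785
def n208539 : Q := act 4 n134603
theorem D208539 : act 4 n134603 = n208539 := rfl
theorem F449787 : act 6 n208539 = n207047 := d10_2 F449777 D208539 (iv4 F449779)
def n208540 : Q := act 1 n134624
theorem D208540 : act 1 n134624 = n208540 := rfl
theorem F449788 : act 1 n208540 = n165869 := d15_1 D208540 (iv7 F373730) F373729
theorem F449789 : act 7 n208540 = n198490 := d15_2 (iv0 F408144) D208540 (iv2 D198490)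
theorem F449790 : act 4 n208540 = n157973 := d18_7 (iv1 F351698) (iv4 F342183) (iv1 D134602) F98486 D63251 D134624 D208540 (iv0 F359634) (iv5 D138162)
theorem F449791 : act 3 n198484 = n208540 := d20_9 (iv4 D134624) F338707 D79660 F122359 F112859 D77186 (iv4 F119935) D163954 (iv4 F408136) (iv1 D208540)
theorem F449792 : act 2 n208540 = n198375 := d0_1 F449791 (iv3 D198375) F170661 D109351 D198484
theorem F449793 : act 6 n208540 = n157971 := d7_2 F413832 F449791 (iv3 F413830)
def n208541 : Q := act 5 n134624
theorem D208541 : act 5 n134624 = n208541 := rfl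
theorem F449794 : act 0 n208541 = n198501 := d17_2 (iv1 D208540) D208541 F408160 (iv4 F407058) F407059 F351696 D138182 F359635 (iv4 F449790)
def n208542 : Q := act 7 n134638
theorem D208542 : act 7 n134638 = n208542 := rfl
theorem F449795 : act 2 n208542 = n158792 := d4_1 D208542 (iv7 D158792) (iv2 F317042)
theorem F449796 : act 3 n208542 = n134649 := d8_1 D208542 (iv7 D134649) (iv3 F216602)
theorem F449797 : act 4 n208542 = n161166 := d11_1 D208542 (iv7 F314738) (iv4 F216603)
theorem F449798 : act 5 n208542 = n205454 := d13_1 D208542 F436506 F364966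
theorem F449799 : act 1 n158790 = n208542 := d15_1 D158790 (iv7 D208542) F317042
theorem F449800 : act 1 n208542 = n158789 := d15_1 F449799 F353940 (iv2 F307474)
def n208543 : Q := act 6 n134665
theorem D208543 : act 6 n134665 = n208543 := rfl
theorem F449801 : act 2 n208543 = n146988 := d3_1 D208543 (iv6 F426533) F426529
theorem F449802 : act 3 n208543 = n175161 := d7_1 D208543 (iv6 D175161) (iv3 F332292)
theorem F449803 : act 4 n208543 = n146838 := d10_1 D208543 (iv6 F235306) (iv4 F331617)
theorem F449804 : act 7 n208543 = n146837 := d14_2 (iv7 F332293) D208543 F230200 (iv7 F106734) (iv6 F332285)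
theorem F449805 : act 0 n208543 = n146985 := d21_4 F334153 F308845 D134665 D208543 (iv6 F443340) (iv5 D207104) (iv1 D130222) D130223 (iv6 F334169) F334164
theorem F449806 : act 0 n146984 = n208543 := d21_4 (iv5 F337722) (iv1 F428688) F428690 (iv6 F428692) (iv6 D208543) (iv5 D134665) (iv1 D63275) D63276 (iv6 F331679) (iv1 F188018)
def n208544 : Q := act 5 n134671
theorem D208544 : act 5 n134671 = n208544 := rfl
theorem F449807 : act 2 n208544 = n197062 := d2_1 D208544 F427650 F427648
theorem F449808 : act 3 n208544 = n162913 := d6_1 D208544 (iv5 F311611) F353098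
theorem F449809 : act 6 n208544 = n197061 := d12_2 (iv6 F348186) D208544 F402869 F203782 (iv5 F204154)
theorem F449810 : act 7 n208544 = n166653 := d13_2 (iv7 F348191) D208544 F365220
theorem F449811 : act 0 n208544 = n174807 := d17_2 D134671 D208544 (iv5 D174807) (iv4 F272355) F330226 (iv0 F340191) (iv5 D134678) (iv0 D63278) (iv4 F98495)
theorem F449812 : act 1 n208544 = n203854 := d17_6 F257002 (iv5 F320200) (iv1 F335269) F335265 (iv4 F353097) D208544 F430116 F259370 (iv4 F256999)
theorem F449813 : act 4 n208544 = n160393 := d18_5 D134646 (iv4 F429367) (iv1 D203675) (iv4 F353097) D208544 F351616 (iv4 D173967) (iv0 F319511) F331722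
def n208545 : Q := act 6 n134676
theorem D208545 : act 6 n134676 = n208545 := rfl
theorem F449814 : act 2 n208545 = n158835 := d3_1 D208545 (iv6 D158835) (iv2 F330194)
theorem F449815 : act 3 n208545 = n134679 := d7_1 D208545 (iv6 D134679) D134676
theorem F449816 : act 4 n208545 = n206250 := d10_1 D208545 F439928 (iv4 F330195)
theorem F449817 : act 5 n208545 = n174434 := d12_1 D208545 F354167 F206314 (iv6 F109556) (iv5 F330196)
theorem F449818 : act 0 n208545 = n189189 := d21_4 (iv5 D78196) F190665 (iv5 F330196) D208545 (iv6 F392476) (iv5 D194245) (iv1 F337134) (iv5 D172056) (iv6 F300825) (iv1 F314797)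
theorem F449819 : act 0 n158324 = n208545 := d21_4 (iv5 F303730) F303728 (iv5 D158323) D158324 (iv6 D208545) F330196 (iv1 F190668) D128158 F346962 (iv1 F275785)
def n208546 : Q := act 5 n134679
theorem D208546 : act 5 n134679 = n208546 := rfl
theorem F449820 : act 2 n208546 = n174514 := d2_1 D208546 (iv5 F383271) F383266
theorem F449821 : act 3 n208546 = n174434 := d6_1 D208546 (iv5 F449817) F449815
theorem F449822 : act 6 n208546 = n203656 := d12_2 D134679 D208546 F429261 (iv6 F340194) (iv5 D134678)
theorem F449823 : act 7 n208546 = n205035 := d13_2 F427736 D208546 F434716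
theorem F449824 : act 4 n208546 = n156037 := d16_2 F427740 D208546 (iv5 D156037) F111061 F53425 F48536 D59590 D126972 (iv2 F427739)
theorem F449825 : act 0 n208546 = n136704 := d17_2 (iv1 F340196) D208546 F338740 (iv4 F304141) (iv5 F348185) (iv0 F166204) (iv5 F204154) (iv0 F348184) F270586
theorem F449826 : act 1 n208546 = n173280 := d17_6 (iv1 D73622) F324258 (iv1 F203821) (iv5 F427741) F427740 D208546 (iv5 D173280) (iv0 D82926) F328139
def n208547 : Q := act 3 n134687
theorem D208547 : act 3 n134687 = n208547 := rfl
theorem F449827 : act 4 n208547 = n206629 := d5_2 D134687 D208547 (iv3 D206629) (iv4 F216695) (iv3 D134686)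
theorem F449828 : act 6 n208547 = n137175 := d7_2 (iv6 F338727) D208547 F220345
theorem F449829 : act 7 n208547 = n135969 := d8_2 (iv7 F338728) D208547 F218739
theorem F449830 : act 5 n190567 = n208547 := d13_3 F449829 (iv5 F390892) (iv7 F390895)
theorem F449831 : act 1 n208547 = n207529 := d17_8 F367309 D195172 F396088 (iv5 D190560) F147850 D96166 D190567 F449830 F445315
def n208548 : Q := act 5 n134687
theorem D208548 : act 5 n134687 = n208548 := rfl
theorem F449832 : act 2 n208548 = n136976 := d2_1 D208548 F220127 (iv2 F338726)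
theorem F449833 : act 3 n208548 = n190567 := d6_1 D208548 F449830 (iv3 D208547)
theorem F449834 : act 4 n208548 = n152758 := d9_1 D208548 (iv5 D152758) D152757 (iv5 F239955) F200760 (iv5 F325866) F94024 D64376 D136975 F363881 D152752 (iv5 F280211) (iv4 F280214) F309873 D134687
theorem F449835 : act 7 n208548 = n135978 := d13_2 (iv7 F338728) D208548 (iv5 D135978)
theorem F449836 : act 0 n208548 = n136974 := d17_2 (iv1 F338725) D208548 (iv5 F220749) (iv4 F347057) (iv5 F347054) (iv0 F389742) F389743 F347109 (iv4 D136965)
theorem F449837 : act 1 n208548 = n136973 := d15_0 (iv0 D136973) D136976 (iv2 F449832)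
theorem F449838 : act 7 n136973 = n193780 := d15_2 (iv0 F449836) F449837 F390995
def n208549 : Q := act 3 n134718
theorem D208549 : act 3 n134718 = n208549 := rfl
theorem F449839 : act 2 n208549 = n195309 := d0_1 D208549 F396666 F438573 (iv3 D205954) F424708
theorem F449840 : act 7 n208549 = n195312 := d8_2 (iv7 F424709) D208549 F396678
theorem F449841 : act 4 n208549 = n195308 := d20_6 (iv4 F23935) (iv1 F23994) D29912 D63310 D134718 D208549 (iv1 F396673) F162003 F93810 (iv1 F45671)
theorem F449842 : act 6 n195500 = n208549 := d10_0 F449841 F396664 D195500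
theorem F449843 : act 0 n205907 = n208549 := d18_0 F449841 (iv1 F396673) F162003 F93811 (iv4 F100695) (iv0 F362696) (iv4 F93869) D126748 D205907
theorem F449844 : act 0 n208549 = n202312 := d20_1 (iv4 F449841) F423593 (iv3 D202199) F179999 F179997 (iv4 D66300) (iv1 F49398) (iv4 F76905) (iv3 F161999) (iv1 F396675)
def n208550 : Q := act 4 n134718
theorem D208550 : act 4 n134718 = n208550 := rfl
theorem F449845 : act 2 n208550 = n202603 := d1_1 D208550 F424705 F424708
theorem F449846 : act 7 n208550 = n205951 := d11_2 (iv7 F424709) D208550 (iv4 D205951)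
theorem F449847 : act 0 n208550 = n137657 := d18_2 D134718 D208550 F220828 F350886 (iv4 F439224) (iv0 F439228) F438347 (iv0 F362704) (iv5 D134721)
theorem F449848 : act 1 n208550 = n196283 := d18_6 (iv1 F350882) (iv4 F442202) (iv1 F446690) (iv4 F446692) F438215 D208550 F400196 (iv0 F324045) (iv5 D129550)
theorem F449849 : act 3 n208550 = n202606 := d19_3 D205873 F438215 D208550 (iv1 D202606) (iv5 F424113) (iv4 F449202) F449201 (iv1 F446696) (iv5 F439225) F439224 (iv3 F334335) F176865 F94023 F48779 (iv3 D30159) (iv1 F48482) (iv5 F48825) (iv4 F93855) (iv3 F203930)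
def n208551 : Q := act 6 n134718
theorem D208551 : act 6 n134718 = n208551 := rfl
theorem F449850 : act 2 n208551 = n205956 := d3_1 D208551 (iv6 D205956) F424708
theorem F449851 : act 3 n208551 = n195500 := d7_1 D208551 F449842 (iv3 D208549)
theorem F449852 : act 5 n208551 = n197066 := d12_1 D208551 (iv6 F402894) D203880 F438216 F438215
theorem F449853 : act 0 n208551 = n205969 := d21_4 D126714 D205873 F438215 D208551 F438648 (iv5 F438334) (iv1 D205896) (iv5 F364581) F367016 (iv1 D126712)
theorem F449854 : act 0 n175120 = n208551 := d21_4 F428669 F274423 (iv5 D175119) D175120 (iv6 D208551) (iv5 F438215) (iv1 F438214) F361154 (iv6 F330965) (iv1 F428667)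
theorem F449855 : act 7 n205968 = n208551 := d13_0 F449852 F402893 (iv5 F438642)
def n208552 : Q := act 5 n134720
theorem D208552 : act 5 n134720 = n208552 := rfl
theorem F449856 : act 2 n208552 = n134721 := d2_1 D208552 (iv5 D134721) D134720
theorem F449857 : act 3 n208552 = n185792 := d6_1 D208552 F336039 (iv3 F216730)
theorem F449858 : act 7 n208552 = n205467 := d13_2 (iv7 F216733) D208552 F436574
theorem F449859 : act 4 n208552 = n206966 := d16_2 (iv4 F216731) D208552 F442994 (iv4 F442992) (iv5 F337490) F169152 F79761 F49242 D63319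
theorem F449860 : act 1 n208552 = n205870 := d17_6 D65926 (iv5 F404829) (iv1 F216767) (iv5 D134738) (iv4 F216731) D208552 (iv5 D205870) (iv0 D126711) F93854
theorem F449861 : act 0 n208552 = n205871 := d21_1 D208552 (iv5 D205871) (iv6 F367016) F365114 (iv6 F403039) (iv5 F438699) F447319 F447316 (iv6 D205953) (iv1 F216734)
theorem F449862 : act 6 n208552 = n185791 := d21_3 (iv5 D205952) (iv1 F216734) D208552 F354309 (iv6 D130195) F312966 (iv1 F188456) (iv5 F315449) F330966 F438567
def n208553 : Q := act 1 n134723
theorem D208553 : act 1 n134723 = n208553 := rfl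
theorem F449863 : act 1 n208553 = n196318 := d15_1 D208553 (iv7 D196318) (iv2 F216742)
theorem F449864 : act 7 n208553 = n196315 := d15_2 (iv0 F371626) D208553 (iv2 F400304)
theorem F449865 : act 4 n208553 = n188149 := d17_9 (iv1 D188149) (iv5 F351197) (iv1 D134866) F331536 (iv4 F331535) (iv5 F400792) (iv0 F427597) F427594 D208553
theorem F449866 : act 5 n208553 = n206343 := d18_9 (iv1 D206343) F400963 (iv1 D196524) F164999 D107090 (iv4 F335538) (iv0 F360600) (iv4 F216743) D208553
theorem F449867 : act 2 n196316 = n208553 := d1_3 F449865 (iv2 F372490) (iv4 F400300)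
def n208554 : Q := act 5 n134728
theorem D208554 : act 5 n134728 = n208554 := rfl
theorem F449868 : act 2 n208554 = n134729 := d2_1 D208554 (iv5 D134729) D134728
theorem F449869 : act 3 n208554 = n194745 := d6_1 D208554 (iv5 D194745) F329347
theorem F449870 : act 7 n208554 = n196305 := d13_2 (iv7 F216752) D208554 (iv5 D196305)
theorem F449871 : act 1 n208554 = n196307 := d17_6 D105559 D195387 (iv1 F403888) (iv5 D195435) (iv4 F216751) D208554 F406022 (iv0 D195382) F162126
theorem F449872 : act 0 n208554 = n196308 := d21_7 (iv5 F433133) (iv1 F433136) (iv5 F404849) F433459 (iv1 D194744) (iv6 F365462) D208554 (iv5 F400471) (iv6 F400472) F433140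
def n208555 : Q := act 6 n134729
theorem D208555 : act 6 n134729 = n208555 := rfl
theorem F449873 : act 3 n208555 = n134731 := d7_1 D208555 (iv6 D134731) (iv3 F216756)
theorem F449874 : act 4 n208555 = n206786 := d10_1 D208555 F442186 F441881
theorem F449875 : act 0 n207894 = n208555 := d18_2 (iv1 D207893) D207894 F449874 (iv5 D206786) F207504 (iv0 F358022) (iv4 F441871) F446588 (iv5 F446908)
def n208556 : Q := act 0 n134730
theorem D208556 : act 0 n134730 = n208556 := rfl
theorem F449876 : act 2 n194743 = n208556 := d15_3 (iv0 D208556) (iv0 F433265) (iv7 F433460)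
theorem F449877 : act 1 n190898 = n208556 := d15_0 (iv0 D208556) (iv7 F225010) (iv2 F381484)
theorem F449878 : act 7 n208556 = n194744 := d15_2 F433267 F449877 (iv2 F433458)
def n208557 : Q := act 5 n134730
theorem D208557 : act 5 n134730 = n208557 := rfl
theorem F449879 : act 2 n208557 = n190899 := d2_1 D208557 F381488 F365463
theorem F449880 : act 3 n208557 = n134732 := d6_1 D208557 (iv5 D134732) (iv3 F216758)
theorem F449881 : act 7 n208557 = n190897 := d13_2 F225010 D208557 (iv5 F381483)
theorem F449882 : act 1 n190896 = n208557 := d15_1 D190896 F449881 (iv2 D190897)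
theorem F449883 : act 1 n208557 = n190895 := d15_0 (iv0 D190895) D190899 (iv2 F449879)
def n208558 : Q := act 0 n134731
theorem D208558 : act 0 n134731 = n208558 := rfl
theorem F449884 : act 4 n208558 = n197773 := d20_2 (iv4 F216761) D208558 F405722 (iv1 F407466) F407463 F387630 F367158 (iv4 F371630) F371629 F405619
theorem F449885 : act 2 n196326 = n208558 := d15_3 (iv0 D208558) (iv0 F406882) F402324
theorem F449886 : act 7 n208558 = n196327 := d4_2 F402324 F449885 (iv2 F400346)
theorem F449887 : act 3 n136815 = n208558 := d8_3 F449886 (iv3 F408366) F408367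
theorem F449888 : act 1 n196329 = n208558 := d15_1 F406883 F449886 (iv2 F400346)
def n208559 : Q := act 7 n134731
theorem D208559 : act 7 n134731 = n208559 := rfl
theorem F449889 : act 2 n208559 = n196329 := d4_1 D208559 (iv7 D196329) (iv2 F216760)
theorem F449890 : act 4 n208559 = n197746 := d11_1 D208559 (iv7 D197746) (iv4 F216761)
theorem F449891 : act 6 n208559 = n196318 := d14_1 D208559 (iv7 D196318) (iv6 D106890) (iv7 F98544) D134731
theorem F449892 : act 1 n196327 = n208559 := d15_1 D196327 (iv7 D208559) F216760
theorem F449893 : act 1 n208559 = n196326 := d15_1 F449892 (iv7 F402324) F400346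
def n208560 : Q := act 4 n134732
theorem D208560 : act 4 n134732 = n208560 := rfl
theorem F449894 : act 2 n208560 = n196332 := d1_1 D208560 (iv4 D196332) (iv2 F216762)
theorem F449895 : act 0 n208560 = n141968 := d17_0 F404736 (iv1 D197540) D197541 F404742 (iv5 F352681) F352678 D156341 F245683 D208560
theorem F449896 : act 1 n208560 = n141971 := d18_6 (iv1 F102385) D66548 F166498 (iv4 F98548) D134732 D208560 (iv4 D141971) F224881 F224880
def n208561 : Q := act 6 n134734
theorem D208561 : act 6 n134734 = n208561 := rfl
theorem F449897 : act 2 n208561 = n184074 := d3_1 D208561 F358527 F223440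
theorem F449898 : act 4 n208561 = n188355 := d10_1 D208561 (iv6 D188355) (iv4 F331087)
def n208562 : Q := act 5 n134735
theorem D208562 : act 5 n134735 = n208562 := rfl
theorem F449899 : act 2 n208562 = n196788 := d2_1 D208562 F401801 F223442
theorem F449900 : act 4 n208562 = n137889 := d9_1 D208562 (iv5 F426648) F426647 F281116 (iv4 F321903) (iv5 F350836) (iv4 F424825) F424827 (iv4 D193956) D193957 F391515 F174329 F93465 D125995 F350842
theorem F449901 : act 7 n208562 = n196789 := d13_2 F416617 D208562 (iv5 F416616)
theorem F449902 : act 1 n208562 = n196786 := d17_6 D163190 (iv5 F352282) (iv1 D125994) D125995 F350842 D208562 (iv5 F449027) F449030 F257476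
theorem F449903 : act 0 n208562 = n193229 := d21_1 D208562 (iv5 F449015) F449013 (iv1 F222789) (iv6 F406515) (iv5 D198014) F353070 D166444 F344433 F360185
def n208563 : Q := act 5 n134737
theorem D208563 : act 5 n134737 = n208563 := rfl
theorem F449904 : act 3 n208563 = n193322 := d6_1 D208563 F389456 F225049
def n208564 : Q := act 4 n134738
theorem D208564 : act 4 n134738 = n208564 := rfl
theorem F449905 : act 2 n208564 = n134741 := d1_1 D208564 (iv4 D134741) (iv2 F216763)
theorem F449906 : act 3 n208564 = n187932 := d5_1 D208564 F371869 F139598 (iv4 F139606) F336078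
theorem F449907 : act 6 n208564 = n187930 := d10_2 (iv6 F364310) D208564 F371864
theorem F449908 : act 7 n208564 = n198310 := d11_2 (iv7 F216765) D208564 F407563
theorem F449909 : act 0 n208564 = n198309 := d18_2 (iv1 F216767) D208564 (iv4 F420520) (iv5 F424064) F424063 F219940 F219936 F180086 (iv5 F404829)
theorem F449910 : act 1 n208564 = n198308 := d15_0 (iv0 D198308) (iv7 F216771) (iv2 F449905)
theorem F449911 : act 7 n198308 = n135144 := d15_2 (iv0 F449909) F449910 (iv2 F407561)
def n208565 : Q := act 4 n134739
theorem D208565 : act 4 n134739 = n208565 := rfl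
theorem F449912 : act 2 n208565 = n198327 := d1_1 D208565 (iv4 D198327) F404830
theorem F449913 : act 3 n208565 = n193392 := d5_1 D208565 F389687 (iv3 D135194) D135195 (iv3 F362325)
theorem F449914 : act 6 n208565 = n206772 := d10_2 F362326 D208565 F442129
theorem F449915 : act 7 n208565 = n198324 := d11_2 (iv7 F404832) D208565 (iv4 D198324)
theorem F449916 : act 0 n208565 = n193377 := d17_0 F389641 (iv1 D136491) D136492 (iv4 F361152) (iv5 D134736) F101520 (iv5 F169166) F216768 D208565
def n208566 : Q := act 4 n134740
theorem D208566 : act 4 n134740 = n208566 := rfl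
theorem F449917 : act 2 n208566 = n198324 := d1_1 D208566 (iv4 D198324) F404828
theorem F449918 : act 7 n208566 = n198327 := d11_2 F404827 D208566 (iv4 D198327)
theorem F449919 : act 1 n208566 = n193377 := d18_8 (iv1 D136491) F99880 D129845 F373165 F358535 (iv4 D134741) D134740 D208566 F389641
theorem F449920 : act 5 n199224 = n208566 := d19_1 (iv1 F411232) (iv4 D208566) (iv3 F404826) F223824 (iv5 D66598) (iv4 D31073) D31072 (iv1 F179988) D141340 (iv4 F227361) F331682 D203291 F427705 F227370 (iv3 D141481) (iv1 D66376) D66377 D141484 (iv3 F388503)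
theorem F449921 : act 6 n208566 = n199227 := d12_2 D199224 F449920 (iv5 D199227) (iv6 D111085) D111084
theorem F449922 : act 7 n193006 = n199224 := d13_0 F449920 F449918 (iv5 F424022)
def n208567 : Q := act 6 n134740
theorem D208567 : act 6 n134740 = n208567 := rfl
theorem F449923 : act 2 n208567 = n198325 := d3_1 D208567 (iv6 D198325) F404828
theorem F449924 : act 4 n208567 = n199227 := d10_1 D208567 (iv6 F449921) (iv4 D208566)
def n208568 : Q := act 1 n134741
theorem D208568 : act 1 n134741 = n208568 := rfl
theorem F449925 : act 1 n208568 = n198310 := d15_1 D208568 (iv7 F449908) F449905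
theorem F449926 : act 7 n208568 = n198309 := d15_2 (iv0 F365865) D208568 F407561
theorem F449927 : act 3 n201327 = n208568 := d20_3 F383107 (iv1 F324162) D201327 (iv1 D208568) F216770 F169156 (iv1 F341391) F167800 (iv3 F217109) F383111
theorem F449928 : act 4 n201328 = n208568 := d20_6 F98554 (iv1 F98653) F98651 D65981 (iv1 F331521) D201328 (iv1 D208568) (iv4 D134741) F98551 D63321
theorem F449929 : act 5 n208568 = n199057 := d6_2 (iv5 F420032) F449927 F410496
theorem F449930 : act 6 n199059 = n208568 := d12_0 F449929 (iv6 D199057) (iv5 D110895) D110896 D199059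
theorem F449931 : act 4 n196736 = n199059 := d10_3 F449930 (iv4 F449928) F420034
theorem F449932 : act 2 n198308 = n208568 := d4_3 F449926 F407561 (iv7 F449911)
def n208569 : Q := act 6 n134743
theorem D208569 : act 6 n134743 = n208569 := rfl
theorem F449933 : act 3 n208569 = n134744 := d7_1 D208569 (iv6 D134744) D134743
theorem F449934 : act 4 n208569 = n154781 := d10_1 D208569 (iv6 F411993) F411987
theorem F449935 : act 0 n208569 = n153713 := d21_4 (iv5 F400336) F220316 (iv5 F216774) D208569 (iv6 D153713) (iv5 D72726) (iv1 F94880) D128378 F350043 (iv1 F400334)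
theorem F449936 : act 0 n197913 = n208569 := d21_4 (iv5 D197753) (iv1 F168540) (iv5 F354403) D197913 (iv6 D208569) F216774 F167963 D140773 (iv6 F355984) (iv1 F405639)
def n208570 : Q := act 0 n134744
theorem D208570 : act 0 n134744 = n208570 := rfl
theorem F449937 : act 5 n208570 = n204478 := d17_1 D208570 (iv1 F432659) (iv5 F430695) F430694 F363356 D197663 F405282 (iv0 F371954) (iv4 F216777)
theorem F449938 : act 4 n208570 = n140616 := d18_3 (iv1 F364226) (iv4 F216777) D208570 (iv5 F351206) (iv4 F245324) F245327 F317014 (iv0 F332971) (iv5 D109206)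
theorem F449939 : act 6 n208570 = n187838 := d21_5 (iv5 D53375) (iv1 F79435) (iv5 F98553) D134744 D208570 (iv5 F440347) (iv1 F440349) (iv5 D196317) (iv6 D106890) (iv1 F84218)
theorem F449940 : act 2 n196364 = n208570 := d15_3 (iv0 D208570) (iv0 F364227) F400479
theorem F449941 : act 7 n208570 = n134821 := d4_2 F400479 F449940 F216953
theorem F449942 : act 1 n196366 = n208570 := d15_1 F400487 F449941 F216953
theorem F449943 : act 3 n187840 = n208570 := d20_9 F400486 F364228 F79762 (iv3 F79754) (iv1 F337474) D120503 (iv4 F413461) (iv1 D187842) (iv4 F371671) (iv1 F449942)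
def n208571 : Q := act 5 n134744
theorem D208571 : act 5 n134744 = n208571 := rfl
theorem F449944 : act 2 n208571 = n196365 := d2_1 D208571 (iv5 D196365) (iv2 F216776)
theorem F449945 : act 6 n208571 = n197704 := d12_2 D134744 D208571 (iv5 D197704) (iv6 D108600) (iv5 F98553)
theorem F449946 : act 0 n208571 = n204218 := d17_2 F364227 D208571 F431529 F407141 F357951 F245624 F350387 F351242 (iv4 F345285)
theorem F449947 : act 4 n208571 = n159160 := d17_4 F409211 F172897 F364227 D208571 (iv5 F343267) (iv0 F343266) (iv5 D111745) D111744 (iv4 F409210)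
theorem F449948 : act 1 n208571 = n204563 := d17_8 F373204 (iv5 F388949) F432666 (iv5 D204479) (iv4 F432657) (iv5 F449937) (iv0 D208570) D208571 F432867
theorem F449949 : act 7 n204561 = n208571 := d11_0 F449947 (iv7 F386311) (iv4 F449000)
def n208572 : Q := act 7 n134744
theorem D208572 : act 7 n134744 = n208572 := rfl
theorem F449950 : act 2 n208572 = n196366 := d4_1 D208572 (iv7 D196366) (iv2 F216776)
theorem F449951 : act 4 n208572 = n196379 := d11_1 D208572 F400517 (iv4 F216777)
theorem F449952 : act 5 n208572 = n204561 := d13_1 D208572 F449949 (iv5 D208571)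
theorem F449953 : act 6 n208572 = n196371 := d14_1 D208572 (iv7 D196371) (iv6 D106926) F98557 D134744
theorem F449954 : act 1 n134821 = n208572 := d15_1 (iv0 F361296) (iv7 D208572) F216776
theorem F449955 : act 1 n208572 = n196364 := d15_1 F449954 (iv7 F400479) (iv2 F216953)
def n208573 : Q := act 2 n134745
theorem D208573 : act 2 n134745 = n208573 := rfl
theorem F449956 : act 3 n208573 = n196367 := d0_2 D134745 D208573 (iv2 D196367) (iv3 D106925) F98561
theorem F449957 : act 5 n208573 = n195384 := d2_2 (iv5 F216778) D208573 (iv2 D195384)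
theorem F449958 : act 7 n208573 = n196361 := d4_2 (iv7 F216779) D208573 (iv2 D196361)
theorem F449959 : act 1 n208573 = n196301 := d15_0 (iv0 F400285) (iv7 F216779) D208573
theorem F449960 : act 1 n196304 = n208573 := d15_0 F449959 F400283 (iv2 F400286)
def n208574 : Q := act 4 n134745
theorem D208574 : act 4 n134745 = n208574 := rfl
theorem F449961 : act 3 n208574 = n197712 := d5_1 D208574 (iv4 D197712) F167987 F98562 D134745
theorem F449962 : act 7 n208574 = n196362 := d11_2 (iv7 F216779) D208574 (iv4 D196362)
theorem F449963 : act 0 n208401 = n208574 := d20_7 F48061 (iv1 F79522) (iv4 F79526) (iv3 F84235) D115770 D202465 (iv4 F449202) (iv4 D208574) (iv3 D134745) (iv1 D63322)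
def n208575 : Q := act 6 n134745
theorem D208575 : act 6 n134745 = n208575 := rfl
theorem F449964 : act 3 n208575 = n134746 := d7_1 D208575 (iv6 D134746) D134745
theorem F449965 : act 5 n208575 = n193226 := d21_6 (iv5 D197661) F246648 (iv5 F167914) D197682 (iv1 F405338) D208575 (iv1 D193226) D193228 (iv6 F449051) F449053
def n208576 : Q := act 0 n134746
theorem D208576 : act 0 n134746 = n208576 := rfl
theorem F449966 : act 5 n208576 = n198131 := d17_1 D208576 (iv1 D198131) (iv5 D108947) (iv4 F164769) D196328 (iv0 F400345) F360121 F360126 (iv4 F216781)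
theorem F449967 : act 6 n208576 = n140619 := d21_5 (iv5 D53369) (iv1 F76874) (iv5 F98560) D134746 D208576 (iv5 F360121) F400345 (iv5 D196328) (iv6 D106898) (iv1 F84197)
theorem F449968 : act 2 n196369 = n208576 := d15_3 (iv0 D208576) (iv0 F363355) F406221
theorem F449969 : act 4 n208576 = n140621 := d1_2 F406220 F449968 F363345
theorem F449970 : act 7 n208576 = n157876 := d4_2 F406221 F449968 (iv2 F280717)
theorem F449971 : act 1 n196371 = n208576 := d15_1 F400498 F449970 (iv2 F280717)
def n208577 : Q := act 5 n134746
theorem D208577 : act 5 n134746 = n208577 := rfl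
theorem F449972 : act 2 n208577 = n196370 := d2_1 D208577 (iv5 D196370) (iv2 F216780)
theorem F449973 : act 3 n208577 = n193226 := d6_1 D208577 (iv5 F449965) F449964
theorem F449974 : act 6 n208577 = n195386 := d12_2 D134746 D208577 (iv5 D195386) (iv6 D105557) (iv5 F98560)
theorem F449975 : act 4 n208577 = n196711 := d16_2 (iv4 F216781) D208577 F436671 F436670 D205492 F436681 F406235 (iv7 D108783) (iv2 F167990)
theorem F449976 : act 0 n195930 = n208577 := d21_1 F398757 (iv5 D208577) (iv6 D134746) (iv1 D63322) D63323 F98565 D108589 D197698 (iv6 F405411) (iv1 F405620)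
def n208578 : Q := act 7 n134746
theorem D208578 : act 7 n134746 = n208578 := rfl
theorem F449977 : act 2 n208578 = n196371 := d4_1 D208578 (iv7 D196371) (iv2 F216780)
theorem F449978 : act 4 n208578 = n197715 := d11_1 D208578 (iv7 D197715) (iv4 F216781)
theorem F449979 : act 6 n208578 = n196366 := d14_1 D208578 (iv7 D196366) (iv6 D106924) (iv7 F98559) D134746
theorem F449980 : act 1 n157876 = n208578 := d15_1 (iv0 F363357) (iv7 D208578) F216780
theorem F449981 : act 1 n208578 = n196369 := d15_1 F449980 (iv7 F406221) F280717
theorem F449982 : act 4 n186964 = n197928 := d20_8 (iv4 F449978) (iv1 F449980) (iv4 F363341) F363340 (iv1 F343831) (iv3 F407538) (iv4 F420444) F420464 (iv3 D197928) (iv1 F405488)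
def n208579 : Q := act 4 n134748
theorem D208579 : act 4 n134748 = n208579 := rfl
theorem F449983 : act 2 n208579 = n196376 := d1_1 D208579 (iv4 D196376) F351290
theorem F449984 : act 7 n208579 = n170854 := d11_2 (iv7 F351289) D208579 (iv4 F343156)
theorem F449985 : act 0 n208579 = n140390 := d17_0 (iv5 F440352) (iv1 D206348) D206350 F440365 (iv5 D197698) (iv0 D108589) (iv5 F98565) D134748 D208579
theorem F449986 : act 1 n208579 = n187838 := d18_8 (iv1 F440349) (iv4 F429089) (iv1 F429093) (iv4 F362345) (iv5 D109221) (iv4 F98564) D134748 D208579 (iv5 F440347)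
theorem F449987 : act 6 n134748 = n208579 := d21_3 D187914 (iv1 F409207) F409206 F449985 (iv6 D140390) (iv5 D65893) F49280 D50165 D108643 F360600
def n208580 : Q := act 3 n134753
theorem D208580 : act 3 n134753 = n208580 := rfl
theorem F449988 : act 0 n208580 = n205000 := d19_4 D74206 D156013 (iv4 F349769) D208580 (iv5 F434541) F407592 F218618 (iv1 F99726) (iv5 D64107) (iv4 D30214) (iv3 F23964) F23872 (iv5 D7664) D7663 (iv3 F11898) (iv1 D7653) D7654 D16491 D34042
theorem F449989 : act 0 n197547 = n208580 := d20_4 F415660 (iv1 F375537) (iv4 F368662) D197547 (iv3 D208580) F349769 (iv1 F349773) (iv4 F405281) (iv3 F405283) F415662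
theorem F449990 : act 6 n208580 = n192500 := d21_5 (iv5 F338944) (iv1 D141881) D141882 F404771 F449989 F386842 (iv1 F375238) D188952 F375245 F242671
def n208581 : Q := act 6 n134753
theorem D208581 : act 6 n134753 = n208581 := rfl
theorem F449991 : act 2 n208581 = n199804 := d3_1 D208581 F413577 F349765
theorem F449992 : act 3 n208581 = n192500 := d7_1 D208581 (iv6 F449990) (iv3 D208580)
theorem F449993 : act 5 n208581 = n199485 := d12_1 D208581 (iv6 D199485) D199484 (iv6 F413572) F413571
theorem F449994 : act 7 n208581 = n199770 := d14_2 (iv7 F349763) D208581 F413418 F302603 (iv6 F349754)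
theorem F449995 : act 0 n208581 = n138770 := d21_4 (iv5 F357951) (iv1 F413575) F413571 D208581 (iv6 F345429) (iv5 D111376) F101534 D140352 F350389 (iv1 F245624)
def n208582 : Q := act 3 n134757
theorem D208582 : act 3 n134757 = n208582 := rfl
theorem F449996 : act 2 n208582 = n208163 := d0_1 D208582 (iv3 D208163) F217156 (iv3 D134940) F216812
theorem F449997 : act 4 n208582 = n159646 := d5_2 F437270 D208582 (iv3 D159646) (iv4 F251294) (iv3 F437269)
theorem F449998 : act 7 n208582 = n134936 := d8_2 F216814 D208582 (iv3 D134936)
theorem F449999 : act 0 n208582 = n159922 := d20_10 (iv4 D159922) D159920 (iv4 F404646) F443259 (iv1 D207087) (iv3 F437274) (iv4 D205628) D205627 F437270 D208582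
def n208583 : Q := act 6 n134757
theorem D208583 : act 6 n134757 = n208583 := rfl
theorem F450000 : act 2 n208583 = n134942 := d3_1 D208583 (iv6 D134942) F216812
theorem F450001 : act 7 n208583 = n208342 := d14_2 F216814 D208583 (iv6 D208342) (iv7 F365149) (iv6 D134939)
theorem F450002 : act 1 n208583 = n204359 := d15_0 (iv0 F432205) F365150 (iv2 F450000)
def n208584 : Q := act 5 n134759
theorem D208584 : act 5 n134759 = n208584 := rfl
theorem F450003 : act 2 n208584 = n134760 := d2_1 D208584 (iv5 D134760) D134759
theorem F450004 : act 3 n208584 = n134906 := d6_1 D208584 (iv5 D134906) (iv3 F216816)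
theorem F450005 : act 7 n208584 = n134943 := d13_2 (iv7 F216817) D208584 (iv5 D134943)
theorem F450006 : act 0 n208584 = n134946 := d17_2 (iv1 F216818) D208584 F389036 (iv4 F207826) (iv5 F336990) F203550 D205625 (iv0 F437265) (iv4 D134937)
theorem F450007 : act 1 n208584 = n134945 := d17_6 D126583 F437747 F437746 F437433 F217839 D208584 F336996 (iv0 D63462) (iv4 F93713)
theorem F450008 : act 6 n199599 = n208584 := d21_9 F389036 (iv1 D63463) D63465 D135038 (iv1 F368140) F368144 D199662 F427968 F412810 F450006
def n208585 : Q := act 0 n134760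
theorem D208585 : act 0 n134760 = n208585 := rfl
theorem F450009 : act 5 n208585 = n134770 := d17_3 (iv1 D134758) D134760 D208585 (iv4 F437216) F437218 (iv0 D126483) D126486 (iv0 F212447) F216810
theorem F450010 : act 1 n134943 = n208585 := d15_0 (iv0 D208585) F216821 (iv2 F217159)
theorem F450011 : act 2 n134946 = n208585 := d2_3 F450009 (iv2 F216850) (iv5 F389036)
theorem F450012 : act 7 n134945 = n208585 := d13_0 F450009 (iv7 F216852) (iv5 F336996)
def n208586 : Q := act 1 n134760
theorem D208586 : act 1 n134760 = n208586 := rfl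
theorem F450013 : act 1 n208586 = n134943 := d15_1 D208586 (iv7 F450005) F450003
theorem F450014 : act 7 n208586 = n134946 := d15_2 (iv0 D208585) D208586 F450011
theorem F450015 : act 5 n208586 = n134771 := d17_7 (iv1 F203616) D205656 (iv1 F437435) F203447 F99023 D134760 D208586 (iv0 F216849) (iv4 F203612)
theorem F450016 : act 2 n134945 = n208586 := d2_3 F450015 F216851 (iv5 F336996)
theorem F450017 : act 3 n135294 = n208586 := d6_3 F450015 (iv3 F216846) D135294
def n208587 : Q := act 4 n134760
theorem D208587 : act 4 n134760 = n208587 := rfl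
theorem F450018 : act 3 n208587 = n138476 := d5_1 D208587 (iv4 D138476) F100847 (iv4 F98582) (iv3 F216820)
theorem F450019 : act 6 n208587 = n199724 := d10_2 F407547 D208587 (iv4 F413262)
theorem F450020 : act 7 n208587 = n134947 := d11_2 (iv7 F216821) D208587 (iv4 D134947)
def n208588 : Q := act 4 n134762
theorem D208588 : act 4 n134762 = n208588 := rfl
theorem F450021 : act 2 n208588 = n134903 := d1_1 D208588 (iv4 D134903) (iv2 F352485)
theorem F450022 : act 3 n208588 = n205479 := d5_1 D208588 F436615 (iv3 D128715) D128716 (iv3 F216824)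
theorem F450023 : act 6 n208588 = n137702 := d10_2 F333061 D208588 (iv4 F220884)
theorem F450024 : act 7 n208588 = n134898 := d11_2 (iv7 F352486) D208588 (iv4 D134898)
theorem F450025 : act 5 n208588 = n188444 := d16_1 D208588 (iv4 F382631) (iv5 F416067) F416066 (iv5 F439757) F439756 (iv5 F352493) F352494 (iv2 F352485)
theorem F450026 : act 0 n208588 = n207477 := d20_1 D208588 F445099 (iv3 D207285) (iv1 D130718) (iv3 D61331) (iv4 D29033) (iv1 F23727) D29921 D63330 D134762
theorem F450027 : act 1 n208588 = n207475 := d15_1 (iv0 F450026) (iv7 F447894) F447892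
def n208589 : Q := act 3 n134763
theorem D208589 : act 3 n134763 = n208589 := rfl
theorem F450028 : act 2 n208589 = n206501 := d0_1 D208589 (iv3 D206501) (iv2 F352544) (iv3 D134897) (iv2 F352492)
theorem F450029 : act 4 n208589 = n143102 := d5_2 F216826 D208589 F355777 (iv4 D131830) D131829
theorem F450030 : act 7 n208589 = n134902 := d8_2 (iv7 F352494) D208589 (iv3 D134902)
theorem F450031 : act 0 n208589 = n208300 := d20_4 (iv4 F445099) (iv1 D207477) F216826 D208589 F448809 (iv4 D203936) D203935 F430474 F405044 (iv1 F444148)
theorem F450032 : act 1 n208589 = n208302 := d15_1 (iv0 F450031) F448817 (iv2 F448808)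
def n208590 : Q := act 6 n134763
theorem D208590 : act 6 n134763 = n208590 := rfl
theorem F450033 : act 2 n208590 = n134900 := d3_1 D208590 (iv6 D134900) (iv2 F352492)
theorem F450034 : act 4 n208590 = n207478 := d10_1 D208590 (iv6 D207478) F216826
theorem F450035 : act 0 n208590 = n207298 := d21_4 (iv5 F294739) (iv1 F349717) (iv5 F352493) D208590 F444208 F353717 (iv1 F353718) F358604 (iv6 D134988) (iv1 F328744)
theorem F450036 : act 0 n204366 = n208590 := d21_4 (iv5 F156033) (iv1 F304641) F240099 D204366 (iv6 D208590) F352493 (iv1 D134997) (iv5 D63441) D63442 (iv1 F328259)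
def n208591 : Q := act 5 n134764
theorem D208591 : act 5 n134764 = n208591 := rfl
theorem F450037 : act 2 n208591 = n134765 := d2_1 D208591 (iv5 D134765) D134764
theorem F450038 : act 3 n208591 = n134943 := d6_1 D208591 (iv5 D134943) (iv3 F216827)
theorem F450039 : act 6 n208591 = n183175 := d12_2 F375983 D208591 (iv5 F375988) (iv6 D189183) D189182
theorem F450040 : act 7 n208591 = n134906 := d13_2 (iv7 F216829) D208591 (iv5 D134906)
theorem F450041 : act 1 n208591 = n134908 := d17_6 D106612 D196066 (iv1 F399279) F211658 (iv4 F216828) D208591 F332713 (iv0 D63438) (iv4 F77845)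
theorem F450042 : act 0 n208591 = n134909 := d21_1 D208591 F332732 F354998 (iv1 D63055) D63058 D134236 D208374 F449120 (iv6 D134900) (iv1 F216830)
def n208592 : Q := act 4 n134765
theorem D208592 : act 4 n134765 = n208592 := rfl
theorem F450043 : act 3 n208592 = n187549 := d5_1 D208592 F370771 F167643 (iv4 F98588) (iv3 F216833)
theorem F450044 : act 6 n208592 = n189117 := d10_2 (iv6 F352536) D208592 (iv4 D189117)
theorem F450045 : act 7 n208592 = n134910 := d11_2 (iv7 F216834) D208592 (iv4 D134910)
theorem F450046 : act 0 n187512 = n208592 := d20_7 (iv4 F79419) (iv1 F79421) (iv4 F79288) D63518 (iv1 F384463) (iv3 F445542) F445543 (iv4 D208592) F216833 F98590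
def n208593 : Q := act 3 n134768
theorem D208593 : act 3 n134768 = n208593 := rfl
theorem F450047 : act 4 n208593 = n206696 := d5_2 (iv4 F216839) D208593 F441883 F207354 (iv3 F167761)
theorem F450048 : act 5 n208593 = n204345 := d6_2 F345489 D208593 F432126
theorem F450049 : act 6 n208593 = n203966 := d7_2 F329066 D208593 F430622
theorem F450050 : act 7 n208593 = n134960 := d8_2 (iv7 F216842) D208593 (iv3 D134960)
theorem F450051 : act 0 n208593 = n208250 := d19_4 F103602 F167763 (iv4 F216839) D208593 (iv5 D208250) (iv4 F448572) F448571 (iv1 F414222) F414220 F179560 (iv3 F164991) (iv1 F164995) D115400 D202137 (iv3 F424775) (iv1 F424779) (iv5 D127081) (iv4 D59634) D59633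
theorem F450052 : act 0 n159925 = n208593 := d20_4 F324057 (iv1 D76558) D76559 D159925 (iv3 D208593) F216839 F328807 (iv4 D66260) (iv3 F101828) D141220
def n208594 : Q := act 6 n134770
theorem D208594 : act 6 n134770 = n208594 := rfl
theorem F450053 : act 2 n208594 = n135032 := d3_1 D208594 (iv6 D135032) F216850
theorem F450054 : act 3 n208594 = n195154 := d7_1 D208594 (iv6 F422077) F422079
theorem F450055 : act 7 n208594 = n208264 := d14_2 F216852 D208594 (iv6 D208264) (iv7 F216019) F347104
theorem F450056 : act 0 n208594 = n208407 := d21_4 D134760 D208585 F450009 D208594 (iv6 F449221) (iv5 D136851) (iv1 D64334) D64336 (iv6 F365143) (iv1 D134758)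
theorem F450057 : act 1 n208594 = n135216 := d15_1 (iv0 F450056) F217401 (iv2 F449222)
def n208595 : Q := act 5 n134772
theorem D208595 : act 5 n134772 = n208595 := rfl
theorem F450058 : act 2 n208595 = n134773 := d2_1 D208595 (iv5 D134773) D134772
theorem F450059 : act 3 n208595 = n134994 := d6_1 D208595 (iv5 D134994) (iv3 F216853)
theorem F450060 : act 6 n208595 = n179685 := d12_2 F389032 D208595 (iv5 D179685) (iv6 F156025) (iv5 F389031)
theorem F450061 : act 7 n208595 = n135033 := d13_2 (iv7 F216855) D208595 (iv5 D135033)
theorem F450062 : act 0 n208595 = n135036 := d17_2 (iv1 F216856) D208595 (iv5 F365142) (iv4 F216810) (iv5 F380826) F203526 D205610 (iv0 F437206) (iv4 D135027)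
theorem F450063 : act 1 n208595 = n135035 := d17_6 D135473 (iv5 F437787) (iv1 F437784) (iv5 D205657) (iv4 F216854) D208595 F365167 (iv0 D134757) (iv4 F99023)
def n208596 : Q := act 4 n134773
theorem D208596 : act 4 n134773 = n208596 := rfl
theorem F450064 : act 3 n208596 = n138756 := d5_1 D208596 (iv4 D138756) F100928 (iv4 F98598) (iv3 F216858)
theorem F450065 : act 6 n208596 = n179688 := d10_2 (iv6 F328926) D208596 (iv4 D179688)
theorem F450066 : act 7 n208596 = n135037 := d11_2 (iv7 F216859) D208596 (iv4 D135037)
def n208597 : Q := act 5 n134780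
theorem D208597 : act 5 n134780 = n208597 := rfl
theorem F450067 : act 2 n208597 = n135065 := d2_1 D208597 (iv5 D135065) (iv2 F363964)
theorem F450068 : act 6 n208597 = n141471 := d12_2 F363968 D208597 (iv5 D141471) D141472 (iv5 F336850)
theorem F450069 : act 7 n208597 = n135060 := d13_2 (iv7 F363965) D208597 (iv5 D135060)
theorem F450070 : act 0 n208597 = n135164 := d17_2 D134780 D208597 (iv5 F404651) F404650 F227812 F336794 D83999 (iv0 F321108) (iv4 F98610)
theorem F450071 : act 1 n208597 = n134808 := d17_6 F422005 (iv5 D121369) D121367 D203933 F430469 D208597 F216923 D197621 (iv4 F422003)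
def n208598 : Q := act 5 n134781
theorem D208598 : act 5 n134781 = n208598 := rfl
theorem F450072 : act 2 n208598 = n135060 := d2_1 D208598 (iv5 D135060) (iv2 F363966)
theorem F450073 : act 3 n208598 = n204527 := d6_1 D208598 (iv5 F447140) F447139
theorem F450074 : act 7 n208598 = n135065 := d13_2 (iv7 F363967) D208598 (iv5 D135065)
theorem F450075 : act 4 n208598 = n139155 := d16_2 F422039 D208598 (iv5 D139155) (iv4 F222328) (iv5 F352972) F349066 D203933 F430468 (iv2 F422036)
theorem F450076 : act 0 n208598 = n134808 := d17_2 (iv1 F216886) D208598 F216923 F328834 (iv5 D76389) (iv0 F336796) (iv5 F327306) F179376 F179372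
theorem F450077 : act 1 n208598 = n135164 := d17_6 (iv1 F430478) F252184 (iv1 F193598) (iv5 F422037) F422039 D208598 (iv5 F404651) F405046 (iv4 F430474)
theorem F450078 : act 6 n188607 = n208598 := d21_5 F293396 (iv1 D43306) D43308 D92568 D188607 (iv5 D208598) (iv1 D134781) D134783 F364851 (iv1 F294927)
def n208599 : Q := act 0 n134783
theorem D208599 : act 0 n134783 = n208599 := rfl
theorem F450079 : act 5 n208599 = n197512 := d19_1 D208599 (iv4 F419310) (iv3 F419309) (iv1 D201167) (iv5 D114020) F105254 F105252 (iv1 F315714) (iv5 F382181) F382182 F354242 (iv1 F382183) (iv5 D108508) F79315 (iv3 D24450) D24448 D50125 (iv4 F98613) (iv3 F216888)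
theorem F450080 : act 1 n135067 = n208599 := d15_0 (iv0 D208599) F216889 (iv2 F217297)
theorem F450081 : act 2 n135070 = n208599 := d2_3 F450079 (iv2 F405055) (iv5 F405054)
theorem F450082 : act 3 n189573 = n208599 := d6_3 F450079 F404644 F398844
theorem F450083 : act 7 n135069 = n208599 := d13_0 F450079 F405050 F405045
theorem F450084 : act 6 n208599 = n192601 := d21_3 (iv5 F167591) D197512 (iv5 F450079) (iv1 D192601) (iv6 F384435) F384431 (iv1 D139947) D139949 (iv6 F359694) F364857
def n208600 : Q := act 1 n134783
theorem D208600 : act 1 n134783 = n208600 := rfl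
theorem F450085 : act 1 n208600 = n135067 := d15_1 D208600 (iv7 F332673) F332672
theorem F450086 : act 7 n208600 = n135070 := d15_2 (iv0 D208599) D208600 F450081
theorem F450087 : act 5 n208600 = n197513 := d17_7 D144867 (iv5 F251686) F347568 (iv5 D115131) (iv4 F98610) D134783 D208600 (iv0 F404648) F227810
theorem F450088 : act 2 n135069 = n208600 := d2_3 F450087 (iv2 F405049) F405045
def n208601 : Q := act 4 n134783
theorem D208601 : act 4 n134783 = n208601 := rfl
theorem F450089 : act 2 n208601 = n188178 := d1_1 D208601 F372593 F332672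
theorem F450090 : act 3 n208601 = n136550 := d5_1 D208601 F219645 F167872 (iv4 F98613) (iv3 F216888)
theorem F450091 : act 6 n208601 = n188171 := d10_2 (iv6 F364851) D208601 (iv4 D188171)
theorem F450092 : act 7 n208601 = n135071 := d11_2 (iv7 F216889) D208601 (iv4 D135071)
theorem F450093 : act 5 n208601 = n136548 := d16_1 D208601 (iv4 F411876) (iv5 F411878) F251684 (iv5 F336798) F179372 D135067 (iv7 F332673) F332672
theorem F450094 : act 0 n208601 = n188125 := d21_4 F379873 D208277 F448695 (iv6 F450091) (iv6 D188125) (iv5 D90828) (iv1 F292002) F154433 (iv6 F351151) D188190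
def n208602 : Q := act 5 n134788
theorem D208602 : act 5 n134788 = n208602 := rfl
theorem F450095 : act 2 n208602 = n134806 := d2_1 D208602 F216919 F216901
theorem F450096 : act 3 n208602 = n135110 := d6_1 D208602 (iv5 D135110) (iv3 F216902)
theorem F450097 : act 6 n208602 = n203317 := d12_2 F428204 D208602 F427843 D203417 F428201
theorem F450098 : act 7 n208602 = n134801 := d13_2 (iv7 F216904) D208602 (iv5 D134801)
theorem F450099 : act 4 n208602 = n197035 := d16_2 (iv4 F216903) D208602 (iv5 D197035) (iv4 F402765) F402766 (iv4 D134069) (iv5 D62973) D62974 F216066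
theorem F450100 : act 0 n208602 = n134803 := d17_2 D134788 D208602 (iv5 F411688) F225954 D143103 (iv0 F368721) (iv5 F445309) (iv0 F445313) (iv4 D134791)
theorem F450101 : act 1 n208602 = n134802 := d17_6 (iv1 F421269) (iv5 D201657) (iv1 F411702) F411700 (iv4 F216903) D208602 (iv5 F447183) (iv0 D206473) (iv4 F209315)
def n208603 : Q := act 3 n134789
theorem D208603 : act 3 n134789 = n208603 := rfl
theorem F450102 : act 2 n208603 = n205613 := d0_1 D208603 F437220 F216908 (iv3 D134790) D134789
theorem F450103 : act 4 n208603 = n205610 := d5_2 (iv4 F410158) D208603 F437205 F207385 D198980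
theorem F450104 : act 6 n208603 = n191524 := d7_2 (iv6 F411665) D208603 F383662
theorem F450105 : act 7 n208603 = n134795 := d8_2 F216906 D208603 (iv3 D134795)
theorem F450106 : act 0 n208603 = n205651 := d20_10 (iv4 D205651) (iv1 F203614) F203612 (iv3 F328746) F328743 D134990 F449087 (iv1 F449088) (iv4 F410158) D208603
theorem F450107 : act 0 n135087 = n208603 := d20_4 F332687 D129004 F207255 D135087 (iv3 D208603) F410158 F410154 (iv4 F441284) (iv3 D206549) (iv1 F332685)
def n208604 : Q := act 6 n134790
theorem D208604 : act 6 n134790 = n208604 := rfl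
theorem F450108 : act 2 n208604 = n153967 := d3_1 D208604 (iv6 F358066) F216908
theorem F450109 : act 3 n208604 = n134793 := d7_1 D208604 (iv6 D134793) D134790
theorem F450110 : act 4 n208604 = n207355 := d10_1 D208604 (iv6 D207355) (iv4 F216907)
theorem F450111 : act 5 n208604 = n153952 := d12_1 D208604 (iv6 F331922) (iv5 F403465) (iv6 F432848) F432847
theorem F450112 : act 7 n208604 = n153962 := d14_2 F437192 D208604 F364931 (iv7 F380773) F437196
theorem F450113 : act 0 n195160 = n208604 := d21_10 F450111 (iv1 D153952) D153953 (iv6 F419868) F419870 (iv6 D201043) (iv5 F220811) (iv1 D137653) F161536 D195160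
def n208605 : Q := act 3 n134791
theorem D208605 : act 3 n134791 = n208605 := rfl
theorem F450114 : act 2 n208605 = n135711 := d0_1 D208605 F218205 F207389 D198980 F410159
theorem F450115 : act 4 n208605 = n135708 := d5_2 D134791 D208605 F218198 (iv4 F216907) (iv3 D134790)
theorem F450116 : act 5 n208605 = n202955 := d6_2 F355353 D208605 F426367
theorem F450117 : act 0 n208605 = n135604 := d20_4 (iv4 F48091) D63342 D134791 D208605 (iv3 F218071) (iv4 F446836) (iv1 F446839) (iv4 F443018) (iv3 D134060) (iv1 D62971)
theorem F450118 : act 0 n135600 = n208605 := d20_4 (iv4 F208357) (iv1 F208625) D132765 (iv3 F218058) (iv3 D208605) (iv4 D134791) D134788 F216903 F216067 (iv1 F98411)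
theorem F450119 : act 7 n208605 = n208405 := d15_2 (iv0 F218070) (iv0 F450117) (iv2 F449217)
def n208606 : Q := act 6 n134791
theorem D208606 : act 6 n134791 = n208606 := rfl
theorem F450120 : act 4 n208606 = n134793 := d10_1 D208606 (iv6 D134793) D134791
theorem F450121 : act 0 n208606 = n191700 := d21_4 (iv5 D151559) D151557 F355353 D208606 (iv6 D191700) (iv5 D98662) F294409 D182318 (iv6 F335420) F335422
theorem F450122 : act 1 n208606 = n193360 := d15_1 (iv0 F450121) F389571 (iv2 F384198)
def n208607 : Q := act 7 n134791
theorem D208607 : act 7 n134791 = n208607 := rfl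
theorem F450123 : act 2 n208607 = n134796 := d4_1 D208607 (iv7 F410153) F410159
theorem F450124 : act 3 n208607 = n208405 := d8_1 D208607 (iv7 F450119) (iv3 D208605)
theorem F450125 : act 4 n208607 = n134794 := d11_1 D208607 (iv7 D134794) D134791
theorem F450126 : act 5 n208607 = n159679 := d13_1 D208607 F253048 F355353
theorem F450127 : act 1 n208365 = n208607 := d15_1 F449088 (iv7 D208607) (iv2 F410159)
theorem F450128 : act 1 n208607 = n197972 := d15_1 F450127 F406338 D208365
def n208608 : Q := act 0 n134792
theorem D208608 : act 0 n134792 = n208608 := rfl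
theorem F450129 : act 5 n208608 = n137735 := d17_3 D63342 D134792 D208608 (iv4 F444245) F444246 F251563 F355304 (iv0 D62970) (iv4 F48091)
theorem F450130 : act 4 n208608 = n187870 := d20_2 F448210 D208608 F371725 (iv1 F370686) F376936 (iv4 D98100) D98098 D191341 (iv3 F386983) F448213
theorem F450131 : act 6 n208608 = n198590 := d21_5 (iv5 D124089) D124087 F313755 (iv6 F386974) D208608 (iv5 D198590) (iv1 F393518) F393517 (iv6 D152058) (iv1 F314628)
theorem F450132 : act 2 n135077 = n208608 := d15_3 (iv0 D208608) (iv0 F361802) (iv7 F217303)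
theorem F450133 : act 3 n208608 = n135118 := d0_2 D135077 F450132 (iv2 F217337) F207488 F98814
theorem F450134 : act 7 n208608 = n187866 := d4_2 (iv7 F217303) F450132 F371716
theorem F450135 : act 1 n134797 = n208608 := d15_1 F355352 F450134 F371716
def n208609 : Q := act 7 n134792
theorem D208609 : act 7 n134792 = n208609 := rfl
theorem F450136 : act 2 n208609 = n134797 := d4_1 D208609 (iv7 F444695) F444692
theorem F450137 : act 3 n208609 = n207126 := d8_1 D208609 F443440 (iv3 F432849)
theorem F450138 : act 4 n208609 = n207331 := d11_1 D208609 (iv7 F448212) F448210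
theorem F450139 : act 5 n208609 = n134794 := d13_1 D208609 (iv7 D134794) D134792
theorem F450140 : act 6 n208609 = n188688 := d14_1 D208609 F374465 (iv6 F316653) F238941 (iv6 F386974)
theorem F450141 : act 1 n187866 = n208609 := d15_1 (iv0 F444696) (iv7 D208609) (iv2 F444692)
theorem F450142 : act 1 n208609 = n135077 := d15_1 F450141 F217303 (iv2 F371716)
def n208610 : Q := act 5 n134795
theorem D208610 : act 5 n134795 = n208610 := rfl
theorem F450143 : act 2 n208610 = n191849 := d2_1 D208610 F437563 F437558
theorem F450144 : act 3 n208610 = n134797 := d6_1 D208610 (iv5 D134797) D134795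
theorem F450145 : act 6 n208610 = n186280 := d12_2 (iv6 F411675) D208610 (iv5 D186280) (iv6 F294785) D98565
theorem F450146 : act 0 n191855 = n187480 := d21_4 (iv5 F367087) (iv1 F142564) F367070 D191855 (iv6 F384531) F437776 F437773 D208610 F450145 (iv1 F367085)
theorem F450147 : act 0 n188182 = n208610 := d19_0 (iv5 D208610) F437554 F437550 (iv1 F212466) F207388 (iv4 F97214) (iv3 D62338) (iv1 F47294) F315288 F296725 D39953 (iv1 F91415) F56145 (iv4 F91213) (iv3 F301809) (iv1 D100106) F73853 (iv4 F295470) D188182
def n208611 : Q := act 6 n134796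
theorem D208611 : act 6 n134796 = n208611 := rfl
theorem F450148 : act 3 n208611 = n208356 := d7_1 D208611 (iv6 D208356) (iv3 F216911)
theorem F450149 : act 4 n208611 = n134798 := d10_1 D208611 (iv6 D134798) D134796
theorem F450150 : act 0 n208611 = n186810 := d21_4 F448850 (iv1 F251557) (iv5 F347361) D208611 F368086 (iv5 D142992) (iv1 D67017) D67018 D142995 (iv1 F448853)
theorem F450151 : act 1 n208611 = n190711 := d15_1 (iv0 F450150) F380744 (iv2 F368085)
theorem F450152 : act 5 n193077 = n208611 := d17_7 (iv1 F356329) F356331 F295057 D89080 D186738 F388673 F388683 F450151 (iv4 D190711)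
theorem F450153 : act 4 n138036 = n193077 := d16_2 (iv4 D138035) D138036 F450152 F450149 F411672 F295381 (iv5 F356331) F356332 (iv2 F357348)
def n208612 : Q := act 4 n134797
theorem D208612 : act 4 n134797 = n208612 := rfl
theorem F450154 : act 2 n208612 = n207331 := d1_1 D208612 (iv4 F450138) F450136
theorem F450155 : act 6 n208612 = n187619 := d10_2 F411674 D208612 (iv4 F384667)
theorem F450156 : act 7 n208612 = n189003 := d11_2 F444695 D208612 (iv4 F444693)
theorem F450157 : act 0 n208612 = n192531 := d18_2 (iv1 F450135) D208612 F386984 (iv5 F441105) F441104 (iv0 F335422) F361800 F365748 (iv5 F450129)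
theorem F450158 : act 3 n208612 = n188670 := d19_3 (iv1 F216905) D134797 D208612 (iv1 D188670) F292000 (iv4 F292436) F353351 (iv1 F246892) (iv5 D138923) (iv4 D65222) (iv3 F53809) (iv1 F53813) (iv5 F211927) (iv4 F98981) (iv3 D63647) (iv1 F52399) F52397 (iv4 F98820) (iv3 F216902)
def n208613 : Q := act 0 n134801
theorem D208613 : act 0 n134801 = n208613 := rfl
theorem F450159 : act 5 n208613 = n134872 := d17_3 F410160 D134801 D208613 (iv4 F361800) (iv5 F347291) (iv0 F421301) (iv5 F449085) F450127 F450125
theorem F450160 : act 1 n134806 = n208613 := d15_0 (iv0 D208613) (iv7 F450098) F450095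
theorem F450161 : act 2 n134802 = n208613 := d2_3 F450159 F440995 F447183
theorem F450162 : act 7 n134803 = n208613 := d13_0 F450159 F361801 F411688
def n208614 : Q := act 1 n134801
theorem D208614 : act 1 n134801 = n208614 := rfl
theorem F450163 : act 1 n208614 = n134806 := d15_1 D208614 (iv7 D134806) (iv2 F216914)
theorem F450164 : act 7 n208614 = n134802 := d15_2 (iv0 D208613) D208614 F450161
theorem F450165 : act 5 n208614 = n134871 := d17_7 D134092 F411663 (iv1 F411660) (iv5 D134066) (iv4 F98619) D134801 D208614 (iv0 D134871) F98688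
theorem F450166 : act 3 n204524 = n208614 := d19_19 (iv1 D208614) (iv5 D134801) F98619 F98264 F95640 D130214 F349368 F315537 F313157 (iv5 D73564) F308773 F155393 F106425 (iv5 D70031) (iv4 F106422) (iv3 F303633) (iv1 F197320) D123962 D204524
theorem F450167 : act 6 n192178 = n208614 := d21_9 (iv5 D134801) (iv1 F410157) (iv5 F444694) (iv6 D207399) F210122 D197184 F403440 F365512 D192178 (iv1 D208614)
theorem F450168 : act 4 n208614 = n207393 := d5_2 D204524 F450166 (iv3 D207393) (iv4 D131160) (iv3 F315061)
theorem F450169 : act 2 n134803 = n208614 := d16_9 F450168 (iv5 F448240) F448239 (iv5 F427753) F427752 F347291 F361800 (iv5 F450159) (iv7 F450162)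
def n208615 : Q := act 4 n134801
theorem D208615 : act 4 n134801 = n208615 := rfl
theorem F450170 : act 2 n208615 = n134804 := d1_1 D208615 (iv4 D134804) (iv2 F216914)
theorem F450171 : act 6 n208615 = n203314 := d10_2 F427939 D208615 (iv4 F427936)
theorem F450172 : act 7 n208615 = n197035 := d11_2 F450098 D208615 (iv4 F450099)
theorem F450173 : act 5 n208615 = n197036 := d16_7 (iv4 F238587) (iv5 F448771) (iv4 D208292) (iv5 D134066) (iv4 F98619) D134801 D208615 (iv7 D197036) F165933
theorem F450174 : act 1 n203370 = n208615 := d17_6 (iv1 F420251) F420248 F380089 F179022 D198971 F428065 F450173 F402775 F392241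
theorem F450175 : act 1 n208615 = n203369 := d15_0 (iv0 D203369) (iv7 F351266) (iv2 F450170)
def n208616 : Q := act 6 n134802
theorem D208616 : act 6 n134802 = n208616 := rfl
theorem F450176 : act 7 n208616 = n194033 := d14_2 F450164 D208616 (iv6 D194033) (iv7 F385880) F450167
theorem F450177 : act 0 n208616 = n152052 := d21_4 F217302 D206473 F447183 D208616 (iv6 D152052) F108170 F96202 D131179 D207399 (iv1 F444697)
def n208617 : Q := act 3 n134803
theorem D208617 : act 3 n134803 = n208617 := rfl
theorem F450178 : act 2 n208617 = n204528 := d0_1 D208617 (iv3 D204528) (iv2 F432803) F450166 (iv2 F450169)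
theorem F450179 : act 4 n204536 = n208617 := d19_2 F446772 (iv5 F446771) (iv3 D208617) (iv1 D134803) (iv5 D63345) F48091 (iv3 D29787) (iv1 F46991) D61902 F96502 (iv3 F335712) D186599 (iv5 F380326) D199264 F411375 (iv1 D198025) (iv5 D108876) (iv4 F164790) (iv3 F400476)
def n208618 : Q := act 4 n134803
theorem D208618 : act 4 n134803 = n208618 := rfl
theorem F450180 : act 2 n208618 = n207393 := d1_1 D208618 (iv4 F450168) (iv2 F450169)
theorem F450181 : act 5 n186253 = n208618 := d16_1 F399765 (iv4 D208618) (iv5 F411688) F225954 D143103 (iv4 F444755) F444756 F430453 (iv2 F399764)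
theorem F450182 : act 3 n186255 = n208618 := d20_5 (iv4 F420197) (iv1 D201365) F178382 (iv3 F178153) F352893 (iv4 D208618) (iv1 D134803) D134804 (iv3 F351260) (iv1 F248610)
theorem F450183 : act 1 n208618 = n159397 := d17_6 F402767 F402766 F399777 (iv5 F399766) F399765 F450181 F250991 (iv0 F448215) F420647
theorem F450184 : act 6 n208618 = n193997 := d21_5 (iv5 D54706) F55078 D76248 D159397 (iv1 F450183) (iv5 D193997) (iv1 F361065) (iv5 F428088) (iv6 D203374) (iv1 D118857)
def n208619 : Q := act 6 n134803
theorem D208619 : act 6 n134803 = n208619 := rfl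
theorem F450185 : act 2 n208619 = n192178 := d3_1 D208619 F450167 (iv2 F450169)
theorem F450186 : act 4 n208619 = n193997 := d10_1 D208619 (iv6 F450184) (iv4 D208618)
theorem F450187 : act 5 n208619 = n192172 := d12_1 D208619 F385857 F221283 D143099 F411688
theorem F450188 : act 0 n208619 = n194032 := d21_4 (iv5 F371718) (iv1 F365742) F411688 D208619 (iv6 F391815) F370517 F143850 D188688 (iv6 F450140) (iv1 F450141)
theorem F450189 : act 7 n208619 = n194011 := d15_2 D194032 (iv0 F450188) F391757
theorem F450190 : act 1 n208619 = n194031 := d15_0 (iv0 D194031) (iv7 F385880) (iv2 F450185)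
def n208620 : Q := act 0 n134804
theorem D208620 : act 0 n134804 = n208620 := rfl
theorem F450191 : act 2 n203370 = n208620 := d15_3 (iv0 D208620) (iv0 F421674) (iv7 F428067)
theorem F450192 : act 1 n197035 = n208620 := d15_0 (iv0 D208620) F351266 (iv2 F402768)
theorem F450193 : act 7 n208620 = n203369 := d15_2 (iv0 F421672) F450192 (iv2 F428068)
def n208621 : Q := act 5 n134807
theorem D208621 : act 5 n134807 = n208621 := rfl
theorem F450194 : act 2 n208621 = n203417 := d2_1 D208621 F428201 F428202
theorem F450195 : act 3 n208621 = n134816 := d6_1 D208621 (iv5 D134816) (iv3 F216920)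
theorem F450196 : act 6 n208621 = n203330 := d12_2 D134807 D208621 F427911 (iv6 F351268) F216919
theorem F450197 : act 7 n208621 = n208296 := d13_2 (iv7 F216922) D208621 (iv5 D208296)
theorem F450198 : act 4 n208621 = n193864 := d16_2 (iv4 F216921) D208621 (iv5 D193864) F157374 (iv5 F343276) (iv4 F428200) F428201 (iv7 F448716) F448713
theorem F450199 : act 1 n208621 = n191279 := d17_8 (iv1 F150991) F134595 (iv1 F72123) D97962 D191276 (iv5 F382861) (iv0 F406329) D208621 (iv4 D191279)
theorem F450200 : act 1 n191282 = n208621 := d15_0 F450199 F382868 (iv2 F382871)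
theorem E103944 : n193573 = n183886 := (c20_7 (iv4 F386197) (iv1 F391242) (iv4 F450198) F450195 (iv1 F216941) D208500 (iv4 F449634) (iv1 D183886) (iv4 F285562) (iv3 D183783) D183781)
theorem F450201 : act 4 n183886 = n208500 := (sb E103944 F449634)
theorem F450202 : act 5 n183886 = n191653 := (sb E103944 F390319)
theorem F450203 : act 6 n183886 = n101937 := (sb E103944 (iv6 D193573))
def n208622 : Q := act 2 n134808
theorem D208622 : act 2 n134808 = n208622 := rfl
theorem F450204 : act 3 n208622 = n135173 := d0_2 D134808 D208622 (iv2 D135173) (iv3 D63520) F98628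
theorem F450205 : act 5 n208622 = n144866 := d2_2 (iv5 F216923) D208622 (iv2 F328833)
theorem F450206 : act 6 n208622 = n191773 := d3_2 F365569 D208622 (iv2 F384409)
theorem F450207 : act 7 n208622 = n135164 := d4_2 (iv7 F216924) D208622 (iv2 D135164)
theorem F450208 : act 1 n208622 = n135060 := d15_0 F384463 (iv7 F216924) D208622
theorem F450209 : act 1 n135065 = n208622 := d15_0 F450208 (iv7 F450069) F450067
def n208623 : Q := act 4 n134808
theorem D208623 : act 4 n134808 = n208623 := rfl
theorem F450210 : act 3 n208623 = n136555 := d5_1 D208623 F404865 (iv3 D108583) (iv4 F98627) D134808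
theorem F450211 : act 7 n208623 = n135165 := d11_2 (iv7 F216924) D208623 (iv4 D135165)
def n208624 : Q := act 3 n134812
theorem D208624 : act 3 n134812 = n208624 := rfl
theorem F450212 : act 2 n208624 = n189141 := d0_1 D208624 (iv3 F427124) F427123 (iv3 D135189) (iv2 F350740)
theorem F450213 : act 4 n208624 = n188160 := d5_2 F404981 D208624 (iv3 F407612) (iv4 D198324) F404985
theorem F450214 : act 5 n208624 = n193980 := d6_2 (iv5 F341411) D208624 (iv3 F391600)
theorem F450215 : act 6 n208624 = n186643 := d7_2 F434654 D208624 (iv3 F434652)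
theorem F450216 : act 7 n208624 = n135194 := d8_2 (iv7 F350741) D208624 (iv3 D135194)
theorem F450217 : act 0 n146914 = n208624 := d20_4 (iv4 F176805) (iv1 F230261) F230259 (iv3 F230299) (iv3 D208624) (iv4 F404981) (iv1 F405421) F405416 F230326 (iv1 F105671)
theorem F450218 : act 1 n188614 = n208624 := d15_0 (iv0 F450217) (iv7 F370525) (iv2 F374192)
def n208625 : Q := act 5 n134815
theorem D208625 : act 5 n134815 = n208625 := rfl
theorem F450219 : act 2 n208625 = n135201 := d2_1 D208625 (iv5 D135201) (iv2 F216937)
theorem F450220 : act 3 n208625 = n203330 := d6_1 D208625 F427911 F351270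
theorem F450221 : act 6 n208625 = n134816 := d12_2 D134815 D208625 (iv5 D134816) (iv6 D63351) (iv5 F98638)
theorem F450222 : act 7 n208625 = n203366 := d13_2 (iv7 F351278) D208625 (iv5 D203366)
def n208626 : Q := act 5 n134819
theorem D208626 : act 5 n134819 = n208626 := rfl
theorem F450223 : act 2 n208626 = n134820 := d2_1 D208626 (iv5 D134820) D134819
theorem F450224 : act 3 n208626 = n197927 := d6_1 D208626 F406213 (iv3 F216944)
theorem F450225 : act 4 n208626 = n187837 := d9_1 D208626 F371658 F361649 F228889 F228846 (iv5 D110583) F80430 (iv5 F168709) F361650 (iv5 D52836) (iv4 F83485) D114464 (iv4 F403574) (iv5 D197214) (iv4 F216945)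
theorem F450226 : act 7 n208626 = n187834 := d13_2 (iv7 F216947) D208626 F371653
theorem F450227 : act 1 n208626 = n197865 := d17_6 D110606 F334726 F403575 (iv5 D197214) (iv4 F216945) D208626 (iv5 D197865) (iv0 D108739) (iv4 F80458)
theorem F450228 : act 0 n208626 = n197868 := d18_0 (iv4 F421920) (iv1 D201823) (iv4 F371685) F371686 (iv4 F387319) F387321 (iv4 F359844) F216950 D208626
theorem E103945 : n198034 = n197866 := (c21_5 D199613 F412852 F173046 F170746 D198034 (iv6 D197866) D197865 (iv1 F450227) (iv5 D208626) F216946 (iv1 F215898))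
theorem F450229 : act 0 n197866 = n180112 := (sb E103945 (iv1 F406568))
theorem F450230 : act 1 n197866 = n108881 := (sb E103945 (iv0 D198034))
def n208627 : Q := act 0 n134820
theorem D208627 : act 0 n134820 = n208627 := rfl
theorem F450231 : act 5 n208627 = n140392 := d17_1 D208627 (iv1 F223525) D197870 (iv4 F406067) (iv5 F420370) (iv0 F420373) (iv5 F371655) F371654 F361663
theorem F450232 : act 4 n208627 = n146552 := d18_1 D208627 (iv1 F419785) F419782 (iv5 D198241) (iv4 F358828) F434894 F434891 (iv0 D134817) D134820
theorem F450233 : act 1 n187834 = n208627 := d15_0 (iv0 D208627) F216952 (iv2 F371651)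
theorem F450234 : act 2 n197868 = n208627 := d1_3 F450232 (iv2 F421923) F421920
theorem F450235 : act 7 n197865 = n208627 := d11_0 F450232 (iv7 F231786) (iv4 F406060)
def n208628 : Q := act 1 n134820
theorem D208628 : act 1 n134820 = n208628 := rfl
theorem F450236 : act 1 n208628 = n187834 := d15_1 D208628 (iv7 F450226) F450223
theorem F450237 : act 7 n208628 = n197868 := d15_2 (iv0 D208627) D208628 F450234
theorem F450238 : act 5 n208628 = n140393 := d17_7 (iv1 F175129) F403584 (iv1 D197216) (iv5 D108019) (iv4 F98646) D134820 D208628 F223530 (iv4 F171193)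
theorem F450239 : act 4 n208628 = n152515 := d17_9 (iv1 F421929) F421927 (iv1 F352153) (iv5 F372219) (iv4 F406069) F406068 (iv0 D134817) D134820 D208628
theorem F450240 : act 3 n192678 = n208628 := d19_19 (iv1 D208628) (iv5 D134820) F98646 (iv3 D49885) (iv1 F76526) D105206 F161140 (iv3 F244988) (iv1 F387861) F387858 (iv4 F408439) (iv3 D198595) (iv1 F170457) F343160 (iv4 F362605) (iv3 F387551) F387556 F367506 (iv4 F387453)
theorem F450241 : act 6 n208628 = n187962 := d7_2 D192678 F450240 F377631
theorem F450242 : act 2 n197865 = n208628 := d3_3 F450241 (iv2 F387833) (iv6 F406061)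
def n208629 : Q := act 6 n134820
theorem D208629 : act 6 n134820 = n208629 := rfl
theorem F450243 : act 3 n208629 = n134821 := d7_1 D208629 (iv6 D134821) (iv3 F216951)
theorem F450244 : act 4 n208629 = n187843 := d10_1 D208629 F371673 F361663
theorem F450245 : act 5 n208629 = n188925 := d12_1 D208629 F394207 (iv5 D133972) (iv6 F98647) D134820
theorem F450246 : act 7 n208629 = n187840 := d14_2 (iv7 F216952) D208629 (iv6 D187840) F139494 (iv6 F361651)
theorem F450247 : act 0 n208629 = n196355 := d21_4 F371754 (iv1 D134818) D134820 D208629 (iv6 D196355) F225650 (iv1 F180056) D202431 F423971 (iv1 F406915)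
def n208630 : Q := act 6 n134825
theorem D208630 : act 6 n134825 = n208630 := rfl
theorem F450248 : act 2 n208630 = n197407 := d3_1 D208630 (iv6 D197407) F216974
theorem F450249 : act 4 n208630 = n197399 := d10_1 D208630 (iv6 D197399) (iv4 F216975)
theorem F450250 : act 0 n208345 = n208630 := d21_4 (iv5 D124224) D124221 (iv5 F360094) (iv6 F449003) (iv6 D208630) (iv5 F403460) F403461 F389634 D197562 (iv1 F404848)
def n208631 : Q := act 6 n134826
theorem D208631 : act 6 n134826 = n208631 := rfl
theorem F450251 : act 2 n208631 = n192908 := d3_1 D208631 F403841 (iv2 F403838)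
theorem F450252 : act 4 n208631 = n197410 := d10_1 D208631 (iv6 D197410) F216972
theorem F450253 : act 0 n208631 = n195385 := d21_4 (iv5 F389634) (iv1 F405245) F405247 D208631 (iv6 D195385) (iv5 F216778) F388731 (iv5 F388739) (iv6 F388740) (iv1 F167882)
def n208632 : Q := act 3 n134847
theorem D208632 : act 3 n134847 = n208632 := rfl
theorem F450254 : act 2 n208632 = n197391 := d0_1 D208632 (iv3 F405012) F405011 (iv3 D134848) D134847
theorem F450255 : act 4 n208632 = n139080 := d5_2 (iv4 F360559) D208632 (iv3 F222285) (iv4 D113107) D113106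
theorem F450256 : act 7 n208632 = n134853 := d8_2 F217039 D208632 (iv3 D134853)
theorem F450257 : act 0 n208632 = n204962 := d20_4 (iv4 F416392) (iv1 D200428) (iv4 F360559) D208632 F434365 (iv4 F400687) (iv1 F400689) F393874 F357648 (iv1 F405181)
theorem F450258 : act 0 n138746 = n208632 := d20_4 (iv4 D58322) D58320 (iv4 F316125) D138746 (iv3 D208632) F360559 (iv1 F339997) F339999 (iv3 D156607) F314702
theorem F450259 : act 5 n208632 = n183012 := d17_1 F450258 (iv1 F389651) (iv5 F403870) (iv4 D197293) F167382 (iv0 D108240) (iv5 F167058) D197226 (iv4 F403638)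
def n208633 : Q := act 5 n134847
theorem D208633 : act 5 n134847 = n208633 := rfl
theorem F450260 : act 2 n208633 = n134850 := d2_1 D208633 (iv5 D134850) D134847
theorem F450261 : act 3 n208633 = n183012 := d6_1 D208633 (iv5 F450259) (iv3 D208632)
theorem F450262 : act 7 n208633 = n134855 := d13_2 F217039 D208633 (iv5 D134855)
theorem F450263 : act 4 n208633 = n183113 := d16_2 (iv4 F360559) D208633 (iv5 F364983) (iv4 F364996) F379760 F379758 (iv5 F372105) (iv7 F372107) (iv2 F360560)
theorem F450264 : act 0 n208633 = n138764 := d17_2 (iv1 F360558) D208633 F221903 F111562 (iv5 F210039) (iv0 F415637) (iv5 D200233) F357659 (iv4 F98680)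
theorem F450265 : act 1 n208633 = n196745 := d17_8 F447973 (iv5 D208121) (iv1 F214524) (iv5 F248608) (iv4 F351259) F216927 (iv0 F360557) D208633 (iv4 F420222)
theorem F450266 : act 6 n208633 = n183047 := d21_3 F331542 (iv1 F360558) D208633 F407187 F407185 (iv5 F363678) (iv1 F405455) (iv5 F405456) D197813 F405850
def n208634 : Q := act 6 n134847
theorem D208634 : act 6 n134847 = n208634 := rfl
theorem F450267 : act 2 n208634 = n134851 := d3_1 D208634 (iv6 D134851) D134847
theorem F450268 : act 4 n208634 = n200430 := d10_1 D208634 (iv6 D200430) (iv4 F360559)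
theorem F450269 : act 5 n208634 = n199609 := d12_1 D208634 (iv6 F412836) (iv5 F363803) (iv6 F450266) (iv5 D208633)
theorem F450270 : act 0 n208634 = n141963 := d21_10 F441236 (iv1 D206539) (iv5 F401472) (iv6 D196682) (iv1 F398675) F398673 (iv5 F401666) (iv1 F450265) (iv5 D208633) D208634
def n208635 : Q := act 5 n134848
theorem D208635 : act 5 n134848 = n208635 := rfl
theorem F450271 : act 3 n208635 = n134850 := d6_1 D208635 (iv5 D134850) D134848
def n208636 : Q := act 6 n134848
theorem D208636 : act 6 n134848 = n208636 := rfl
theorem F450272 : act 3 n208636 = n134851 := d7_1 D208636 (iv6 D134851) D134848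
def n208637 : Q := act 6 n134850
theorem D208637 : act 6 n134850 = n208637 := rfl
theorem F450273 : act 2 n208637 = n183047 := d3_1 D208637 (iv6 F450266) F450260
theorem F450274 : act 4 n208637 = n183160 := d10_1 D208637 F416210 F416207
theorem F450275 : act 5 n208637 = n157900 := d12_1 D208637 (iv6 F402161) (iv5 F345336) (iv6 D134851) D134850
theorem F450276 : act 0 n208637 = n157931 := d21_4 (iv5 D63378) D63375 D134850 D208637 F351075 (iv5 D108721) D108718 F400501 F400499 (iv1 D134861)
def n208638 : Q := act 7 n134850
theorem D208638 : act 7 n134850 = n208638 := rfl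
theorem F450277 : act 2 n208638 = n134855 := d4_1 D208638 (iv7 F450262) F450260
theorem F450278 : act 4 n208638 = n188983 := d11_1 D208638 (iv7 F416206) F416207
theorem F450279 : act 5 n208638 = n134852 := d13_1 D208638 (iv7 D134852) D134850
theorem F450280 : act 1 n196745 = n208638 := d15_1 F450265 (iv7 D208638) (iv2 F450260)
theorem F450281 : act 1 n208638 = n138764 := d15_1 F450280 F221904 (iv2 F401665)
def n208639 : Q := act 2 n134853
theorem D208639 : act 2 n134853 = n208639 := rfl
theorem F450282 : act 3 n208639 = n204999 := d0_2 D134853 D208639 (iv2 F434535) F405018 F217040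
theorem F450283 : act 4 n208639 = n197237 := d1_2 F343128 D208639 (iv2 F403682)
theorem F450284 : act 5 n208639 = n205016 := d2_2 (iv5 F343130) D208639 F434617
theorem F450285 : act 7 n208639 = n197391 := d4_2 F450256 D208639 (iv2 F450254)
theorem F450286 : act 1 n208639 = n204962 := d15_0 (iv0 F450257) F450256 D208639
theorem F450287 : act 1 n138746 = n208639 := d15_0 F450286 F434367 F387483
def n208640 : Q := act 6 n134855
theorem D208640 : act 6 n134855 = n208640 := rfl
theorem F450288 : act 3 n208640 = n207978 := d7_1 D208640 F447242 F343131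
theorem F450289 : act 4 n208640 = n196148 := d10_1 D208640 (iv6 F416213) F416215
theorem F450290 : act 5 n208640 = n199480 := d21_6 (iv5 D107464) F111358 (iv5 F165071) D196582 F401143 D208640 (iv1 F412326) F366892 F371921 F371919
theorem F450291 : act 0 n151237 = n208640 := d21_4 (iv5 F94494) (iv1 F163748) F163745 D151237 (iv6 D208640) (iv5 D134855) (iv1 D63376) D63378 F331540 F83515
def n208641 : Q := act 5 n134856
theorem D208641 : act 5 n134856 = n208641 := rfl
theorem F450292 : act 6 n208641 = n199480 := d12_2 D134856 D208641 (iv5 F450290) (iv6 D208640) (iv5 D134855)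
theorem F450293 : act 7 n208641 = n199476 := d13_2 F392871 D208641 (iv5 F412358)
theorem F450294 : act 0 n208641 = n199786 := d17_2 (iv1 F392883) D208641 F413505 (iv4 F331287) (iv5 D103857) (iv0 D48082) D48085 D103866 (iv4 F392882)
def n208642 : Q := act 3 n134860
theorem D208642 : act 3 n134860 = n208642 := rfl
theorem F450295 : act 4 n208642 = n208339 := d5_2 (iv4 F364997) D208642 F448975 (iv4 F418821) (iv3 F364998)
theorem F450296 : act 0 n208642 = n205008 := d20_4 F178382 D114371 (iv4 F364997) D208642 F434579 (iv4 F405122) (iv1 F377637) D192803 F420198 (iv1 D201365)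
theorem F450297 : act 0 n205001 = n208642 := d20_4 D197589 (iv1 F405192) (iv4 F407592) (iv3 F434543) (iv3 D208642) F364997 (iv1 F205572) (iv4 F420191) F420190 F404861
def n208643 : Q := act 1 n134864
theorem D208643 : act 1 n134864 = n208643 := rfl
theorem F450298 : act 1 n208643 = n141864 := d15_1 D208643 (iv7 F345305) (iv2 F345301)
theorem F450299 : act 7 n208643 = n141866 := d15_2 F340483 D208643 F339996
theorem F450300 : act 4 n208643 = n200416 := d18_7 F168322 (iv4 D59798) (iv1 F168091) (iv4 F49612) D67459 (iv4 F331508) D208643 (iv0 D200416) (iv5 D113086)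
theorem F450301 : act 2 n141865 = n208643 := d1_3 F450300 (iv2 F416477) F416474
def n208644 : Q := act 4 n134868
theorem D208644 : act 4 n134868 = n208644 := rfl
theorem F450302 : act 2 n208644 = n196648 := d1_1 D208644 F401329 F345292
theorem F450303 : act 3 n208644 = n137058 := d5_1 D208644 (iv4 F416061) F416058 F331493 F345307
theorem F450304 : act 6 n208644 = n196647 := d10_2 (iv6 F345310) D208644 F401324
theorem F450305 : act 7 n208644 = n141870 := d11_2 (iv7 F217050) D208644 (iv4 D141870)
theorem F450306 : act 5 n208644 = n137056 := d16_1 D208644 (iv4 F345296) (iv5 D116084) F84416 F79545 (iv4 F84416) D116084 F345298 F345292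
theorem F450307 : act 1 n208644 = n202155 := d18_6 D65865 (iv4 F168118) (iv1 D63383) (iv4 F98684) D134868 D208644 (iv4 F423076) (iv0 D140341) (iv5 D65867)
def n208645 : Q := act 3 n134872
theorem D208645 : act 3 n134872 = n208645 := rfl
theorem F450308 : act 2 n208645 = n205628 := d0_1 D208645 F437274 (iv2 F443248) F443251 (iv2 F440995)
theorem F450309 : act 4 n208645 = n205625 := d5_2 F361800 D208645 F437264 F361792 (iv3 F361799)
def n208646 : Q := act 6 n134872
theorem D208646 : act 6 n134872 = n208646 := rfl
theorem F450310 : act 2 n208646 = n191681 := d3_1 D208646 (iv6 F440994) (iv2 F440995)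
theorem F450311 : act 4 n208646 = n182318 := d10_1 D208646 (iv6 F335420) F361800
theorem F450312 : act 7 n208646 = n191679 := d14_2 (iv7 F361801) D208646 F384126 (iv7 D143100) D143099
theorem F450313 : act 0 n208646 = n134927 := d21_4 D134801 D208613 F450159 D208646 F217126 F356276 F152041 F357353 F411676 F410160
def n208647 : Q := act 6 n134873
theorem D208647 : act 6 n134873 = n208647 := rfl
theorem F450314 : act 2 n208647 = n134875 := d3_1 D208647 (iv6 D134875) D134873
theorem F450315 : act 3 n208647 = n136835 := d7_1 D208647 (iv6 F327503) (iv3 F217056)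
theorem F450316 : act 4 n208647 = n204151 := d10_1 D208647 F431214 (iv4 F217057)
theorem F450317 : act 7 n208647 = n136828 := d14_2 (iv7 F365741) D208647 (iv6 D136828) (iv7 F100614) D137735
theorem F450318 : act 5 n191460 = n208647 := d21_2 F336948 D191460 (iv6 D208647) (iv1 F365742) (iv6 D143099) (iv5 F221283) (iv1 F221285) (iv5 F221082) (iv6 F445281) F445283
theorem F450319 : act 0 n187676 = n208647 := d21_4 (iv5 F429794) (iv1 F429796) D204108 F431098 (iv6 D208647) F371718 F444696 F444694 F411665 (iv1 F357370)
theorem F450320 : act 6 n187865 = n191460 := d12_0 F450318 (iv6 D208647) F371718 (iv6 D187866) D187865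
def n208648 : Q := act 1 n134875
theorem D208648 : act 1 n134875 = n208648 := rfl
theorem F450321 : act 1 n208648 = n136828 := d15_1 D208648 (iv7 F450317) F450314
theorem F450322 : act 4 n208648 = n193353 := d17_9 (iv1 F389549) (iv5 D123668) F332408 D175477 (iv4 F374696) (iv5 F383519) (iv0 F449362) F449360 D208648
theorem F450323 : act 2 n187676 = n208648 := d15_3 F450321 (iv0 F371444) F371443
theorem F450324 : act 6 n208648 = n204153 := d21_5 (iv5 F169581) (iv1 D64325) D64327 D136828 (iv1 F450321) (iv5 F431219) (iv1 F444463) (iv5 F356283) (iv6 D137870) (iv1 F100638)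
def n208649 : Q := act 3 n134880
theorem D208649 : act 3 n134880 = n208649 := rfl
theorem F450325 : act 4 n208649 = n206682 := d5_2 D134880 D208649 (iv3 D206682) F213967 (iv3 F213965)
theorem F450326 : act 7 n208649 = n204359 := d8_2 F329436 D208649 F432203
theorem F450327 : act 0 n134942 = n208649 := d20_4 F438620 (iv1 F438618) F438242 (iv3 F365151) (iv3 D208649) (iv4 D134880) F98695 (iv4 F209293) F326703 D137729
theorem F450328 : act 1 n208342 = n208649 := d15_0 (iv0 F450327) (iv7 F365150) (iv2 F448990)
def n208650 : Q := act 4 n134882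
theorem D208650 : act 4 n134882 = n208650 := rfl
theorem F450329 : act 2 n208650 = n206892 := d1_1 D208650 F445945 (iv2 F445949)
theorem F450330 : act 3 n208650 = n206900 := d5_1 D208650 (iv4 F442553) F221114 (iv4 F221173) (iv3 F355790)
theorem F450331 : act 0 n208650 = n207836 := d18_2 D134882 D208650 F446651 (iv5 F375653) (iv4 F442319) F442317 F404691 F404701 (iv5 D134885)
theorem F450332 : act 0 n206832 = n208650 := d20_10 (iv4 D208650) (iv1 F445957) F445954 F211817 (iv1 F211784) (iv3 F437375) (iv4 D205661) D205659 F437367 D206832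
theorem F450333 : act 1 n206832 = n207694 := d15_1 (iv0 F450332) F446035 (iv2 F450329)
def n208651 : Q := act 3 n134883
theorem D208651 : act 3 n134883 = n208651 := rfl
theorem F450334 : act 4 n208651 = n159923 := d5_2 F446036 D208651 F252183 F347376 D207694
theorem F450335 : act 7 n208651 = n159922 := d8_2 (iv7 F445950) D208651 F445944
theorem F450336 : act 1 n208163 = n208651 := d15_1 (iv0 F448188) F450335 (iv2 F430479)
theorem F450337 : act 1 n208651 = n134936 := d15_1 F450336 (iv7 F449998) F449996
theorem F450338 : act 0 n207836 = n207694 := d20_1 (iv4 F446651) F446036 D208651 (iv1 F450336) (iv3 D208163) (iv4 D133532) D133529 F214728 D207284 F444144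
def n208652 : Q := act 6 n134883
theorem D208652 : act 6 n134883 = n208652 := rfl
theorem F450339 : act 0 n208652 = n134920 := d21_4 (iv5 F336975) (iv1 F405391) F445952 D208652 F217113 F365760 (iv1 F366971) D191677 (iv6 F384110) (iv1 F217201)
theorem F450340 : act 5 n207333 = n208652 := d21_8 D134885 (iv1 F404701) (iv5 D197522) D197523 (iv1 F404695) (iv6 F444397) (iv5 D207335) D207333 (iv6 D208652) (iv1 D134883)
def n208653 : Q := act 5 n134884
theorem D208653 : act 5 n134884 = n208653 := rfl
theorem F450341 : act 2 n208653 = n134885 := d2_1 D208653 (iv5 D134885) D134884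
theorem F450342 : act 6 n208653 = n202916 := d21_3 (iv5 F445941) (iv1 F445942) D208653 (iv1 D202916) (iv6 D117257) (iv5 D54042) D54040 (iv5 F105682) (iv6 F341455) D197527
def n208654 : Q := act 4 n134885
theorem D208654 : act 4 n134885 = n208654 := rfl
theorem F450343 : act 5 n208654 = n208650 := d16_3 (iv4 F98703) D134885 D208654 (iv4 D208650) F405382 (iv4 F445974) (iv5 D207678) F211818 (iv2 D129434)
def n208655 : Q := act 6 n134885
theorem D208655 : act 6 n134885 = n208655 := rfl
theorem F450344 : act 2 n208655 = n202916 := d3_1 D208655 (iv6 F450342) F450341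
theorem F450345 : act 3 n208655 = n134887 := d7_1 D208655 (iv6 D134887) (iv3 F217087)
theorem F450346 : act 0 n208655 = n202905 := d21_4 F445952 (iv1 D134883) D134885 D208655 (iv6 D202905) (iv5 D117239) F85256 D68878 D146936 (iv1 F405391)
theorem F450347 : act 1 n208655 = n202918 := d15_1 (iv0 F450346) (iv7 D202918) (iv2 F426137)
def n208656 : Q := act 0 n134887
theorem D208656 : act 0 n134887 = n208656 := rfl
theorem F450348 : act 6 n208656 = n203748 := d21_5 (iv5 D29953) D29950 D63391 D134887 D208656 F429671 (iv1 F341458) F171576 (iv6 D108521) F79339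
def n208657 : Q := act 1 n134887
theorem D208657 : act 1 n134887 = n208657 := rfl
theorem F450349 : act 6 n202666 = n208657 := d21_3 F336663 (iv1 F216115) (iv5 F424993) (iv1 D208657) (iv6 D134887) (iv5 D63391) (iv1 F48153) D29963 D63424 D134953
def n208658 : Q := act 7 n134887
theorem D208658 : act 7 n134887 = n208658 := rfl
def n208659 : Q := act 6 n134889
theorem D208659 : act 6 n134889 = n208659 := rfl
theorem F450350 : act 2 n208659 = n191695 := d3_1 D208659 F447446 (iv2 F447448)
theorem F450351 : act 3 n208659 = n207301 := d7_1 D208659 (iv6 D207301) (iv3 F217095)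
theorem F450352 : act 5 n186779 = n208659 := d21_2 (iv5 F431521) (iv1 F431523) (iv6 D208659) F371203 (iv6 D187693) (iv5 F140125) (iv1 F293260) F293262 D188767 F406311
theorem F450353 : act 1 n208659 = n134921 := d17_6 (iv1 F370947) (iv5 D187593) (iv1 F139093) (iv5 F357554) D186779 F450352 (iv5 F449306) F449309 (iv4 D188219)
def n208660 : Q := act 3 n134890
theorem D208660 : act 3 n134890 = n208660 := rfl
theorem F450354 : act 2 n208660 = n189156 := d0_1 D208660 (iv3 F375874) (iv2 F214182) D206773 (iv2 F442137)
theorem F450355 : act 4 n208660 = n200821 := d5_2 F371455 D208660 (iv3 F418054) (iv4 F333456) F371458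
theorem F450356 : act 5 n208660 = n188704 := d6_2 F405084 D208660 F405085
theorem F450357 : act 7 n208660 = n191697 := d8_2 F447443 D208660 (iv3 F447447)
theorem F450358 : act 0 n208660 = n137147 := d19_4 (iv1 F213192) (iv5 F371454) F371455 D208660 F352555 F352554 (iv3 F155507) (iv1 D88087) (iv5 D41131) (iv4 F60878) (iv3 F121959) (iv1 F304096) F60289 D75877 D158954 F425070 (iv5 F425071) (iv4 D135600) F99132
theorem F450359 : act 6 n193358 = n208660 := d21_3 (iv5 F295239) D103453 F389565 F450358 (iv6 D137147) (iv5 D64474) (iv1 D30357) D30359 D64481 F346639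
theorem F450360 : act 1 n208660 = n134897 := d15_1 (iv0 F450358) F352491 F333059
def n208661 : Q := act 6 n134890
theorem D208661 : act 6 n134890 = n208661 := rfl
theorem F450361 : act 2 n208661 = n208305 := d3_1 D208661 F448834 (iv2 F442137)
theorem F450362 : act 3 n208661 = n193358 := d7_1 D208661 F450359 (iv3 D208660)
theorem F450363 : act 5 n208661 = n194429 := d12_1 D208661 (iv6 F448508) F448507 (iv6 F405088) F405084
theorem F450364 : act 7 n208661 = n208306 := d14_2 F447443 D208661 F448840 (iv7 F384177) F447446
theorem F450365 : act 0 n208661 = n134957 := d21_4 (iv5 F405062) (iv1 F405082) F405084 D208661 F365362 (iv5 D101474) (iv1 F156285) (iv5 F389502) F389503 D197622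
theorem F450366 : act 0 n208304 = n208661 := d21_4 F364202 (iv1 F419407) F419405 D208304 (iv6 D208661) (iv5 F405084) (iv1 D197626) (iv5 D108519) (iv6 F80576) (iv1 F364200)
def n208662 : Q := act 6 n134892
theorem D208662 : act 6 n134892 = n208662 := rfl
theorem F450367 : act 2 n208662 = n136906 := d3_1 D208662 (iv6 F375713) F375712
theorem F450368 : act 3 n208662 = n134894 := d7_1 D208662 (iv6 D134894) (iv3 F217097)
theorem F450369 : act 4 n208662 = n192776 := d10_1 D208662 (iv6 F431250) F431252
theorem F450370 : act 5 n208662 = n136001 := d12_1 D208662 (iv6 D136001) F106602 F326344 D134892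
theorem F450371 : act 0 n188342 = n208662 := d17_2 F389844 (iv5 F373112) F450370 (iv4 F438254) F438255 (iv0 F353783) F353781 F275353 (iv4 F389842)
def n208663 : Q := act 0 n134894
theorem D208663 : act 0 n134894 = n208663 := rfl
def n208664 : Q := act 1 n134894
theorem D208664 : act 1 n134894 = n208664 := rfl
theorem F450372 : act 4 n198269 = n208664 := d20_0 (iv1 D208664) (iv4 F222776) F387726 (iv1 F387723) F384986 F339964 D114380 F352667 (iv3 F398700) (iv1 F407411)
theorem F450373 : act 6 n198268 = n208664 := d21_3 (iv5 D123948) (iv1 F360063) (iv5 F407407) (iv1 D208664) (iv6 D134894) (iv5 D63394) (iv1 D29951) D29953 D63401 (iv1 F360077)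
theorem F450374 : act 2 n208664 = n198282 := d3_1 F450373 (iv6 D198282) (iv2 F407406)
def n208665 : Q := act 5 n134894
theorem D208665 : act 5 n134894 = n208665 := rfl
theorem F450375 : act 2 n208665 = n208343 := d2_1 D208665 F448991 F217228
theorem F450376 : act 3 n208665 = n136001 := d6_1 D208665 (iv5 F450370) F450368
theorem F450377 : act 6 n208665 = n134895 := d12_2 D134894 D208665 (iv5 D134895) (iv6 D63395) D63394
theorem F450378 : act 0 n208665 = n160338 := d17_2 (iv1 D208664) D208665 F253235 F366888 (iv5 F413598) (iv0 F424799) F424797 (iv0 F407410) F450372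
def n208666 : Q := act 7 n134894
theorem D208666 : act 7 n134894 = n208666 := rfl
theorem F450379 : act 4 n208666 = n196814 := d11_1 D208666 (iv7 F401877) F222776
theorem F450380 : act 1 n198282 = n208666 := d15_1 (iv0 F407462) (iv7 D208666) (iv2 F217228)
def n208667 : Q := act 6 n134897
theorem D208667 : act 6 n134897 = n208667 := rfl
theorem F450381 : act 2 n208667 = n206502 := d3_1 D208667 (iv6 D206502) (iv2 F352544)
theorem F450382 : act 3 n208667 = n134900 := d7_1 D208667 (iv6 D134900) D134897
theorem F450383 : act 4 n208667 = n206422 := d10_1 D208667 (iv6 D206422) (iv4 F217104)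
theorem F450384 : act 7 n208667 = n137138 := d14_2 (iv7 F352491) D208667 (iv6 D137138) F220888 (iv6 F333060)
theorem F450385 : act 0 n208667 = n188762 := d21_10 (iv5 F394477) F394479 F371232 (iv6 D98664) F72709 D89197 (iv5 F294781) D91211 (iv5 F345384) D208667
theorem F450386 : act 0 n193355 = n208667 := d21_4 (iv5 F153256) F274658 (iv5 F156315) D193355 (iv6 D208667) F345384 (iv1 F143804) (iv5 F352557) (iv6 D101538) (iv1 F136882)
def n208668 : Q := act 3 n134898
theorem D208668 : act 3 n134898 = n208668 := rfl
theorem F450387 : act 2 n208668 = n196034 := d0_1 D208668 (iv3 D196034) F352498 D131829 (iv2 F352542)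
theorem F450388 : act 4 n208668 = n206421 := d5_2 D134898 D208668 (iv3 D206421) (iv4 F217104) (iv3 D134897)
theorem F450389 : act 7 n208668 = n205479 := d8_2 F450024 D208668 (iv3 F450022)
theorem F450390 : act 0 n208668 = n205597 := d20_4 F77880 D63396 D134898 D208668 F437156 F335827 D200985 F418626 (iv3 D196110) (iv1 D106659)
theorem F450391 : act 6 n205592 = n208668 := d21_3 (iv5 F399347) F417724 (iv5 F437135) F450390 (iv6 F437154) (iv5 F436086) F436087 F398085 (iv6 F417351) F417353
theorem F450392 : act 1 n208668 = n205596 := d15_1 (iv0 F450390) (iv7 F441016) F441015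
def n208669 : Q := act 6 n134898
theorem D208669 : act 6 n134898 = n208669 := rfl
theorem F450393 : act 2 n208669 = n207478 := d3_1 D208669 (iv6 D207478) (iv2 F352542)
theorem F450394 : act 3 n208669 = n205592 := d7_1 D208669 F450391 (iv3 D208668)
theorem F450395 : act 4 n208669 = n134900 := d10_1 D208669 (iv6 D134900) D134898
theorem F450396 : act 7 n208669 = n205583 := d14_2 F450024 D208669 (iv6 D205583) F220910 (iv6 F450023)
def n208670 : Q := act 7 n134900
theorem D208670 : act 7 n134900 = n208670 := rfl
theorem F450397 : act 3 n208670 = n137138 := d8_1 D208670 (iv7 F450384) F450382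
theorem F450398 : act 4 n208670 = n205583 := d11_1 D208670 (iv7 F450396) F450395
theorem F450399 : act 6 n208670 = n137128 := d14_1 D208670 (iv7 F220892) F333061 F352486 D134900
theorem F450400 : act 1 n204366 = n208670 := d15_1 (iv0 F450036) (iv7 D208670) (iv2 F450033)
theorem F450401 : act 1 n208670 = n207298 := d15_1 F450400 F444209 (iv2 F432236)
def n208671 : Q := act 0 n134902
theorem D208671 : act 0 n134902 = n208671 := rfl
theorem F450402 : act 4 n208671 = n201657 := d20_2 F448849 D208671 (iv3 F444021) F444019 F419867 F410165 F218362 (iv4 F448963) (iv3 F448964) (iv1 F448853)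
theorem F450403 : act 2 n208302 = n208671 := d15_3 (iv0 D208671) (iv0 F355795) (iv7 F448817)
theorem F450404 : act 1 n206501 = n208671 := d15_0 (iv0 D208671) (iv7 F450030) F450028
theorem F450405 : act 7 n208671 = n208300 := d15_2 (iv0 F441107) F450404 F448808
theorem F450406 : act 6 n191686 = n208671 := d14_5 F450405 F448810 F221098 D137957 (iv7 F384150)
def n208672 : Q := act 5 n134902
theorem D208672 : act 5 n134902 = n208672 := rfl
theorem F450407 : act 2 n208672 = n188315 := d2_1 D208672 F373067 (iv2 F352551)
theorem F450408 : act 3 n208672 = n134904 := d6_1 D208672 (iv5 D134904) D134902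
theorem F450409 : act 0 n208672 = n187617 := d17_2 F355795 D208672 (iv5 F448740) F448739 F355341 (iv0 F329092) F216330 F355789 (iv4 F221173)
def n208673 : Q := act 4 n134904
theorem D208673 : act 4 n134904 = n208673 := rfl
theorem F450410 : act 7 n208673 = n206216 := d11_2 (iv7 F352489) D208673 F439756
theorem F450411 : act 0 n208673 = n183163 := d18_2 F349708 D208673 F284759 F294735 (iv4 F337806) F213566 F211414 F172946 D134994
theorem F450412 : act 1 n208673 = n190475 := d18_6 (iv1 F442154) F442150 F442081 (iv4 D134903) D134904 D208673 F379856 F377015 (iv5 F398844)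
def n208674 : Q := act 6 n134904
theorem D208674 : act 6 n134904 = n208674 := rfl
theorem F450413 : act 0 n188306 = n208674 := d21_4 F383108 (iv1 F373040) (iv5 D188305) D188306 (iv6 D208674) (iv5 D134904) (iv1 D63397) D63399 D134911 F383111
def n208675 : Q := act 4 n134908
theorem D208675 : act 4 n134908 = n208675 := rfl
theorem F450414 : act 3 n208675 = n151706 := d5_1 D208675 (iv4 F238586) (iv3 F317256) D101572 (iv3 F332712)
theorem F450415 : act 6 n208675 = n201355 := d10_2 F332715 D208675 F420121
theorem F450416 : act 5 n208675 = n151976 := d16_7 F384255 (iv5 F440574) F440575 F359028 (iv4 D134986) (iv5 F332713) D208675 (iv7 F379852) (iv2 F379854)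
def n208676 : Q := act 3 n134909
theorem D208676 : act 3 n134909 = n208676 := rfl
theorem F450417 : act 2 n208676 = n193390 := d0_1 D208676 (iv3 D193390) (iv2 F367988) (iv3 F412717) F412716
theorem F450418 : act 5 n208676 = n134990 := d6_2 (iv5 F332732) D208676 (iv3 D134990)
def n208677 : Q := act 4 n134909
theorem D208677 : act 4 n134909 = n208677 := rfl
theorem F450419 : act 5 n208677 = n190471 := d16_1 D208677 F384255 (iv5 F440574) F440575 F359028 (iv4 D134986) (iv5 F332713) (iv7 F412718) F412716
theorem F450420 : act 6 n205555 = n208677 := d12_0 F450419 F415833 (iv5 F436980) (iv6 D205556) D205555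
def n208678 : Q := act 6 n134909
theorem D208678 : act 6 n134909 = n208678 := rfl
theorem F450421 : act 2 n208678 = n203739 := d3_1 D208678 F429622 F412716
theorem F450422 : act 4 n208678 = n205555 := d10_1 D208678 F450420 (iv4 D208677)
theorem F450423 : act 5 n208678 = n208312 := d12_1 D208678 (iv6 D208312) F354992 (iv6 F354998) (iv5 F332732)
theorem F450424 : act 7 n208678 = n203740 := d14_2 F412723 D208678 (iv6 F429629) (iv7 F370640) (iv6 F412725)
theorem F450425 : act 0 n208678 = n203741 := d21_10 F429632 (iv1 F356628) (iv5 F356633) (iv6 D91193) (iv1 F68855) D93262 F294739 F328743 (iv5 F332732) D208678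
theorem F450426 : act 0 n154213 = n208678 := d21_4 (iv5 F135077) F304413 D120431 (iv6 F242325) (iv6 D208678) F332732 (iv1 D63439) D63441 (iv6 F329072) (iv1 F151244)
def n208679 : Q := act 1 n134910
theorem D208679 : act 1 n134910 = n208679 := rfl
theorem F450427 : act 7 n208679 = n187512 := d15_2 (iv0 F374244) D208679 (iv2 F374243)
theorem F450428 : act 5 n208679 = n190479 := d18_9 (iv1 F379896) F379892 D190491 F379898 (iv5 F450416) (iv4 D208675) (iv0 D134908) D134910 D208679
def n208680 : Q := act 5 n134910
theorem D208680 : act 5 n134910 = n208680 := rfl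
theorem F450429 : act 3 n208680 = n187970 := d6_1 D208680 (iv5 D187970) (iv3 F371971)
theorem F450430 : act 6 n208680 = n189696 := d12_2 F332720 D208680 F377436 (iv6 D142084) D142083
theorem F450431 : act 4 n208680 = n208075 := d16_2 D134910 D208680 F447774 (iv4 D207611) F211658 (iv4 F216828) D208591 F450040 F217107
theorem F450432 : act 0 n208680 = n207213 := d21_7 F374963 (iv1 D106294) D106295 (iv6 F235474) (iv1 F349005) F332720 D208680 F443824 (iv6 D201553) F374965
def n208681 : Q := act 3 n134917
theorem D208681 : act 3 n134917 = n208681 := rfl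
theorem F450433 : act 7 n208681 = n175772 := d8_2 (iv7 F360078) D208681 (iv3 F366893)
def n208682 : Q := act 6 n134917
theorem D208682 : act 6 n134917 = n208682 := rfl
theorem F450434 : act 2 n208682 = n203771 := d3_1 D208682 F429757 (iv2 F407542)
theorem F450435 : act 4 n208682 = n198758 := d10_1 D208682 (iv6 D198758) (iv4 F404949)
theorem F450436 : act 7 n208682 = n170717 := d14_2 (iv7 F360078) D208682 (iv6 D170717) F301606 D120500
theorem F450437 : act 0 n208682 = n188289 := d21_4 F407407 D199764 F413390 D208682 (iv6 D188289) (iv5 D91165) D91161 D188286 (iv6 F409138) F409140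
theorem F450438 : act 0 n153777 = n208682 := d20_1 D153777 F450435 F409112 F388648 F387610 F339954 (iv1 F362341) D187952 F371916 (iv1 D153776)
def n208683 : Q := act 0 n134920
theorem D208683 : act 0 n134920 = n208683 := rfl
theorem F450439 : act 3 n208683 = n191685 := d20_5 F95130 D60511 (iv4 F167993) D134920 D208683 F384144 (iv1 F376086) D191487 F383554 F168723
theorem F450440 : act 5 n208683 = n207334 := d21_8 (iv5 D139410) (iv1 F168905) D198073 F406669 F187587 D203473 F428449 D208683 (iv6 F444393) (iv1 F355997)
theorem F450441 : act 6 n208250 = n208683 := d12_0 F450440 (iv6 F444393) (iv5 D134002) D134003 D208250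
def n208684 : Q := act 2 n134920
theorem D208684 : act 2 n134920 = n208684 := rfl
theorem F450442 : act 5 n208684 = n201505 := d2_2 F428449 D208684 (iv2 F428446)
theorem F450443 : act 6 n208684 = n208313 := d3_2 (iv6 F217113) D208684 (iv2 D208313)
def n208685 : Q := act 2 n134921
theorem D208685 : act 2 n134921 = n208685 := rfl
def n208686 : Q := act 6 n134921
theorem D208686 : act 6 n134921 = n208686 := rfl
theorem F450444 : act 3 n208686 = n134922 := d7_1 D208686 (iv6 D134922) D134921
theorem F450445 : act 4 n208686 = n188758 := d10_1 D208686 F374747 F217932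
theorem F450446 : act 7 n208686 = n208314 := d14_2 F413120 D208686 (iv6 D208314) F365637 (iv6 F413119)
theorem F450447 : act 0 n208686 = n193569 := d21_4 (iv5 F410184) (iv1 F449309) F449306 D208686 F390305 D204354 F432182 F366668 D193348 F410186
theorem F450448 : act 0 n188763 = n208686 := d21_4 F365794 (iv1 F365800) F160121 D188763 (iv6 D208686) (iv5 F449306) F449308 F372725 (iv6 D104412) D104409
def n208687 : Q := act 2 n134927
theorem D208687 : act 2 n134927 = n208687 := rfl
theorem F450449 : act 3 n208687 = n207321 := d0_2 D134927 D208687 (iv2 D207321) (iv3 D130831) F164136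
theorem F450450 : act 4 n208687 = n208315 := d1_2 (iv4 F217125) D208687 (iv2 D208315)
theorem F450451 : act 6 n208687 = n208315 := d3_2 (iv6 F217126) D208687 (iv2 D208315)
theorem F450452 : act 1 n208687 = n191681 := d15_0 F384135 F383555 D208687
theorem F450453 : act 1 n191679 = n208687 := d15_0 F450452 F384133 (iv2 F384125)
def n208688 : Q := act 4 n134928
theorem D208688 : act 4 n134928 = n208688 := rfl
theorem F450454 : act 0 n208688 = n205628 := d18_2 D134928 D208688 (iv4 D205628) (iv5 D126486) (iv4 F96926) D132523 (iv4 F437744) (iv0 F437745) F203654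
def n208689 : Q := act 6 n134928
theorem D208689 : act 6 n134928 = n208689 := rfl
theorem F450455 : act 2 n208689 = n208326 := d3_1 D208689 (iv6 F448924) F417016
theorem F450456 : act 0 n208689 = n208320 := d21_4 D126501 D205659 F437369 D208689 (iv6 D208320) D208319 F448899 F405322 F396471 (iv1 D126499)
theorem F450457 : act 0 n206698 = n208689 := d21_4 (iv5 F439272) (iv1 F439274) (iv5 F437924) (iv6 F441890) (iv6 D208689) (iv5 F437369) (iv1 F437368) F364736 F344980 (iv1 F367817)
def n208690 : Q := act 6 n134929
theorem D208690 : act 6 n134929 = n208690 := rfl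
theorem F450458 : act 3 n208690 = n195180 := d7_1 D208690 F396129 F358343
theorem F450459 : act 5 n201650 = n208690 := d6_0 F450458 F396128 (iv3 F421232)
theorem F450460 : act 7 n201649 = n208690 := d8_0 F450458 (iv7 F396130) (iv3 F421231)
theorem F450461 : act 0 n208690 = n206682 := d20_4 F421530 (iv1 D195179) D195180 (iv3 F450458) (iv3 D206682) F213967 (iv1 F216198) F216194 (iv3 F398426) (iv1 F421533)
def n208691 : Q := act 6 n134930
theorem D208691 : act 6 n134930 = n208691 := rfl
theorem F450462 : act 2 n208691 = n134931 := d3_1 D208691 (iv6 D134931) D134930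
theorem F450463 : act 3 n208691 = n205683 := d7_1 D208691 (iv6 D205683) (iv3 F217127)
theorem F450464 : act 4 n208691 = n134944 := d10_1 D208691 (iv6 D134944) (iv4 F217128)
theorem F450465 : act 5 n208691 = n205960 := d12_1 D208691 F442238 F442237 (iv6 D205682) (iv5 F217129)
theorem F450466 : act 0 n208691 = n206982 := d21_4 (iv5 F437448) (iv1 F437349) (iv5 F217129) D208691 (iv6 D206982) (iv5 D129678) (iv1 F203408) F344987 (iv6 D126502) D126498
theorem F450467 : act 0 n208317 = n208691 := d21_4 D195253 F434545 (iv5 F405325) D208317 (iv6 D208691) F217129 F437356 (iv5 D205656) (iv6 F396471) (iv1 D195251)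
theorem F450468 : act 0 n191528 = n207829 := d18_2 F450466 F442837 (iv4 D207829) (iv5 D132411) F96845 F359741 (iv4 F212227) (iv0 F438601) (iv5 F450465)
def n208692 : Q := act 0 n134931
theorem D208692 : act 0 n134931 = n208692 := rfl
theorem F450469 : act 5 n208692 = n205899 := d17_3 (iv1 D205962) F360207 D208692 F438341 F351373 (iv0 D126005) F324974 F350856 (iv4 F438608)
theorem F450470 : act 6 n208692 = n205645 := d21_5 D205765 F437779 F203654 D134931 D208692 (iv5 D205645) (iv1 F203609) F437365 (iv6 D205658) (iv1 F203615)
theorem F450471 : act 2 n206982 = n208692 := d3_3 F450470 F437330 D206982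
theorem F450472 : act 7 n208317 = n208692 := d14_0 F450470 F437331 F421954 (iv7 F421955) D208317
def n208693 : Q := act 1 n134931
theorem D208693 : act 1 n134931 = n208693 := rfl
theorem F450473 : act 7 n208693 = n206982 := d15_2 (iv0 D208692) D208693 F450471
theorem F450474 : act 5 n208693 = n205900 := d18_9 (iv1 D205900) (iv4 D126739) D126737 (iv4 F233517) (iv5 F233521) F365494 (iv0 D134949) (iv4 F217131) D208693
theorem F450475 : act 6 n201830 = n208693 := d12_0 F450474 F438344 D207931 F449204 F449193
theorem F450476 : act 2 n208693 = n208317 := d3_1 F450475 (iv6 D208317) F421962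
def n208694 : Q := act 5 n134936
theorem D208694 : act 5 n134936 = n208694 := rfl
theorem F450477 : act 3 n208694 = n134938 := d6_1 D208694 (iv5 D134938) D134936
def n208695 : Q := act 6 n134937
theorem D208695 : act 6 n134937 = n208695 := rfl
theorem F450478 : act 2 n208695 = n136857 := d3_1 D208695 F365140 (iv2 F217153)
theorem F450479 : act 4 n208695 = n134939 := d10_1 D208695 (iv6 D134939) D134937
theorem F450480 : act 5 n208695 = n139470 := d12_1 D208695 F446147 F445843 (iv6 D205607) F365160
theorem F450481 : act 0 n208695 = n137886 := d21_10 F388585 (iv1 F388587) (iv5 F338277) F346165 F207851 F362142 (iv5 D126476) D126473 F365160 D208695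
theorem F450482 : act 1 n208695 = n146860 := d15_1 (iv0 F450481) (iv7 F418581) (iv2 F418582)
theorem F450483 : act 7 n208695 = n208341 := d15_2 (iv0 F221113) (iv0 F450481) F448987
def n208696 : Q := act 4 n134938
theorem D208696 : act 4 n134938 = n208696 := rfl
def n208697 : Q := act 6 n134938
theorem D208697 : act 6 n134938 = n208697 := rfl
theorem F450484 : act 2 n208697 = n136861 := d3_1 D208697 (iv6 F361062) F365161
theorem F450485 : act 5 n208697 = n136854 := d12_1 D208697 (iv6 D136854) (iv5 F365148) (iv6 D134939) D134938
def n208698 : Q := act 6 n134941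
theorem D208698 : act 6 n134941 = n208698 := rfl
def n208699 : Q := act 1 n134942
theorem D208699 : act 1 n134942 = n208699 := rfl
theorem F450486 : act 1 n208699 = n208342 := d15_1 D208699 (iv7 F450001) F450000
theorem F450487 : act 3 n204366 = n208699 := d20_3 (iv4 F176545) D200689 (iv4 F432237) (iv1 D208699) F365151 (iv4 F438242) (iv1 F438622) F438628 (iv3 F397627) (iv1 D188798)
theorem F450488 : act 6 n204169 = n208699 := d21_3 (iv5 F389027) F430874 F431308 (iv1 D208699) (iv6 D134942) D134941 (iv1 F365166) (iv5 D134773) (iv6 F328119) (iv1 F389025)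
theorem F450489 : act 2 n208699 = n204359 := d3_1 F450488 (iv6 D204359) (iv2 F431309)
def n208700 : Q := act 5 n134942
theorem D208700 : act 5 n134942 = n208700 := rfl
def n208701 : Q := act 4 n134943
theorem D208701 : act 4 n134943 = n208701 := rfl
theorem F450490 : act 2 n208701 = n134947 := d1_1 D208701 (iv4 D134947) (iv2 F217159)
theorem F450491 : act 3 n208701 = n199784 := d19_3 (iv1 F216809) D134943 D208701 (iv1 D199784) (iv5 F364225) (iv4 F376937) F376936 (iv1 F364058) F364047 (iv4 D95936) (iv3 F147582) (iv1 F381340) F439012 F439010 F419137 (iv1 F364735) (iv5 F251498) (iv4 F449997) (iv3 D208582)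
def n208702 : Q := act 6 n134943
theorem D208702 : act 6 n134943 = n208702 := rfl
theorem F450492 : act 2 n208702 = n134948 := d3_1 D208702 (iv6 D134948) (iv2 F217159)
theorem F450493 : act 3 n208702 = n183175 := d7_1 D208702 (iv6 F450039) F450038
theorem F450494 : act 5 n208702 = n202316 := d12_1 D208702 (iv6 D202316) (iv5 F360203) (iv6 D134944) D134943
theorem F450495 : act 7 n189113 = n208702 := d13_0 F450494 F423614 (iv5 F410375)
def n208703 : Q := act 0 n134944
theorem D208703 : act 0 n134944 = n208703 := rfl
theorem F450496 : act 4 n208703 = n207827 := d20_2 F450464 D208703 (iv3 D207827) (iv1 F446081) (iv3 F446085) F443064 F443066 (iv4 F442355) (iv3 F448892) F450467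
theorem F450497 : act 5 n208703 = n202389 := d21_2 (iv5 F360203) D208703 (iv6 F430760) (iv1 D203995) F195773 (iv5 D101190) F143945 (iv5 F349188) (iv6 F423540) (iv1 F423541)
theorem F450498 : act 6 n208703 = n193167 := d21_5 (iv5 F450009) (iv1 F450010) (iv5 D134943) D134944 D208703 (iv5 D193167) F304185 D123472 F328119 D134770
theorem F450499 : act 2 n134949 = n208703 := d15_3 (iv0 D208703) (iv0 F366218) F366222
theorem F450500 : act 7 n208703 = n134950 := d4_2 F366222 F450499 F365405
theorem F450501 : act 1 n134952 = n208703 := d15_1 F366219 F450500 F365405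
def n208704 : Q := act 7 n134944
theorem D208704 : act 7 n134944 = n208704 := rfl
theorem F450502 : act 2 n208704 = n134952 := d4_1 D208704 (iv7 D134952) (iv2 F217160)
theorem F450503 : act 3 n208704 = n182778 := d8_1 D208704 (iv7 F375982) F375981
theorem F450504 : act 5 n208704 = n201917 := d13_1 D208704 F422362 (iv5 F360203)
theorem F450505 : act 6 n208704 = n182775 := d14_1 D208704 F413131 F413130 F216817 D134944
theorem F450506 : act 1 n134950 = n208704 := d15_1 D134950 (iv7 D208704) F217160
theorem F450507 : act 1 n208704 = n134949 := d15_1 F450506 (iv7 F366222) (iv2 F365405)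
def n208705 : Q := act 3 n134945
theorem D208705 : act 3 n134945 = n208705 := rfl
theorem F450508 : act 4 n208705 = n199794 := d5_2 (iv4 F432818) D208705 (iv3 D199794) (iv4 F409210) (iv3 F432815)
theorem F450509 : act 5 n208705 = n135026 := d6_2 (iv5 F336996) D208705 (iv3 D135026)
theorem F450510 : act 0 n199794 = n135165 := d20_7 F98637 (iv1 F53524) F53523 (iv3 F98746) D134945 D208705 F450508 (iv4 D135165) (iv3 D63518) (iv1 F98640)
theorem F450511 : act 6 n141482 = n208705 := d12_0 F450509 F347107 (iv5 F335185) (iv6 D141483) D141482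
def n208706 : Q := act 6 n134945
theorem D208706 : act 6 n134945 = n208706 := rfl
theorem F450512 : act 3 n208706 = n141482 := d7_1 D208706 F450511 (iv3 D208705)
theorem F450513 : act 4 n208706 = n198781 := d10_1 D208706 F432817 (iv4 F432818)
theorem F450514 : act 5 n208706 = n141481 := d12_1 D208706 F363635 F361288 F347104 (iv5 F336996)
theorem F450515 : act 0 n203703 = n208706 := d21_4 (iv5 D135394) F319895 D120304 (iv6 F429464) (iv6 D208706) F336996 (iv1 F216856) D208595 F450060 F357826
def n208707 : Q := act 3 n134946
theorem D208707 : act 3 n134946 = n208707 := rfl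
theorem F450516 : act 5 n208707 = n135030 := d6_2 (iv5 F389036) D208707 (iv3 D135030)
theorem F450517 : act 7 n208707 = n135294 := d8_2 F450014 D208707 F450017
theorem F450518 : act 0 n208707 = n189153 := d19_4 F442363 F405324 (iv4 F389035) D208707 F375875 (iv4 D130732) (iv3 F311923) F311921 (iv5 F312121) (iv4 D125157) F92453 (iv1 F60455) D40239 D86797 (iv3 F352814) (iv1 D99793) (iv5 F293916) (iv4 F371762) (iv3 F442360)
theorem F450519 : act 0 n207300 = n208707 := d20_4 (iv4 F434254) (iv1 D204936) (iv4 F405078) (iv3 F444218) (iv3 D208707) F389035 F432820 (iv4 F432806) (iv3 D204528) D204526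
theorem F450520 : act 2 n135292 = n208707 := d15_3 (iv0 F450519) F444220 F443218
def n208708 : Q := act 0 n134947
theorem D208708 : act 0 n134947 = n208708 := rfl
def n208709 : Q := act 1 n134947
theorem D208709 : act 1 n134947 = n208709 := rfl
theorem F450521 : act 4 n191816 = n208709 := d20_6 F79338 (iv1 F79405) (iv4 F95127) (iv3 F206958) (iv1 F354756) D191816 (iv1 D208709) (iv4 D134947) F98746 (iv1 F79340)
theorem F450522 : act 3 n191808 = n208709 := d20_9 (iv4 D134947) D134945 F432818 F432815 F409211 F356115 (iv4 F239062) (iv1 F354656) D191808 (iv1 D208709)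
def n208710 : Q := act 6 n134947
theorem D208710 : act 6 n134947 = n208710 := rfl
theorem F450523 : act 3 n208710 = n194643 := d7_1 D208710 F393924 F245663
theorem F450524 : act 4 n208710 = n134948 := d10_1 D208710 (iv6 D134948) D134947
theorem F450525 : act 5 n208710 = n194642 := d12_1 D208710 (iv6 D194642) F294318 (iv6 F286007) F350386
def n208711 : Q := act 0 n134948
theorem D208711 : act 0 n134948 = n208711 := rfl
theorem F450526 : act 6 n208711 = n188283 := d21_5 (iv5 D134941) (iv1 D63420) D63422 D134948 D208711 F372948 (iv1 D93257) D93258 F364232 (iv1 F365168)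
theorem F450527 : act 5 n208711 = n193125 := d21_8 (iv5 D47132) D47130 D101197 D193119 (iv1 F423515) (iv6 F410386) F410385 D208711 (iv6 D193125) (iv1 D101203)
theorem F450528 : act 1 n189113 = n208711 := d15_0 (iv0 D208711) F410383 F410381
theorem F450529 : act 3 n195603 = n208711 := d6_3 F450527 F388826 D195603
def n208712 : Q := act 1 n134948
theorem D208712 : act 1 n134948 = n208712 := rfl
theorem F450530 : act 1 n208712 = n189113 := d15_1 D208712 F450495 F450492
def n208713 : Q := act 5 n134949
theorem D208713 : act 5 n134949 = n208713 := rfl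
theorem F450531 : act 2 n208713 = n202389 := d2_1 D208713 (iv5 F450497) (iv2 F450499)
theorem F450532 : act 3 n208713 = n202971 := d6_1 D208713 F426440 (iv3 F365493)
theorem F450533 : act 4 n208713 = n205959 := d9_1 D208713 (iv5 D205959) (iv4 D126833) (iv5 F347037) D205897 F438339 F418831 (iv5 F448938) F448937 F351459 (iv4 D126828) (iv5 F233516) (iv4 F233517) (iv5 F233521) F365494
theorem F450534 : act 6 n208713 = n193114 := d12_2 (iv6 F374826) D208713 F388796 F366858 D170758
theorem F450535 : act 7 n208713 = n202390 := d13_2 F366222 D208713 F423849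
theorem F450536 : act 1 n208713 = n202387 := d17_8 F422354 (iv5 D201915) (iv1 D115251) D115253 D201917 (iv5 F450504) F450507 D208713 (iv4 D202387)
theorem F450537 : act 1 n201952 = n208713 := d15_1 (iv0 F448940) F450535 (iv2 F448935)
theorem F450538 : act 5 n154523 = n199353 := d21_8 (iv5 D123303) (iv1 F345827) (iv5 F388796) (iv6 F450534) (iv1 F450537) (iv6 F422499) (iv5 D154526) D154523 (iv6 F430745) F430744
theorem F450539 : act 6 n153815 = n154523 := d12_0 F450538 (iv6 F430745) (iv5 D203993) D203994 F430751
def n208714 : Q := act 3 n134954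
theorem D208714 : act 3 n134954 = n208714 := rfl
theorem F450540 : act 5 n208714 = n138334 := d6_2 (iv5 F343816) D208714 (iv3 D138334)
theorem F450541 : act 4 n206690 = n208714 := d19_2 (iv1 F212441) D206690 (iv3 D208714) (iv1 D134954) (iv5 F329890) F171726 (iv3 F171722) (iv1 F179918) F179920 (iv4 F166480) D136081 F362220 (iv5 F334884) F73563 D90530 F363855 (iv5 F177082) (iv4 F418912) F418911
theorem F450542 : act 1 n208714 = n208255 := d18_6 (iv1 F212423) F212419 (iv1 F96827) D129112 D206690 F450541 F448603 F446811 (iv5 F404035)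
def n208715 : Q := act 6 n134954
theorem D208715 : act 6 n134954 = n208715 := rfl
theorem F450543 : act 2 n208715 = n203777 := d3_1 D208715 (iv6 F429771) (iv2 F410402)
theorem F450544 : act 7 n208715 = n203776 := d14_2 (iv7 F383086) D208715 F429767 F362819 D191332
theorem F450545 : act 0 n208715 = n203713 := d21_4 F424993 (iv1 F216114) (iv5 F343816) D208715 (iv6 D203713) F191597 (iv1 F87634) D55467 (iv6 F362808) D202666
theorem F450546 : act 0 n203751 = n208715 := d21_4 (iv5 D203706) (iv1 F191569) (iv5 F191914) D203751 (iv6 D208715) F343816 (iv1 F215959) (iv5 F424997) (iv6 F424998) (iv1 F429471)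
def n208716 : Q := act 2 n134957
theorem D208716 : act 2 n134957 = n208716 := rfl
theorem F450547 : act 4 n208716 = n207365 := d1_2 (iv4 F217165) D208716 (iv2 D207365)
theorem F450548 : act 5 n208716 = n192859 := d2_2 F424518 D208716 (iv2 F424515)
theorem F450549 : act 6 n208716 = n193334 := d3_2 (iv6 F365362) D208716 F389488
theorem F450550 : act 7 n208716 = n208304 := d4_2 (iv7 F217166) D208716 F448828
theorem F450551 : act 1 n208716 = n208305 := d15_0 (iv0 D208305) (iv7 F217166) D208716
theorem F450552 : act 1 n208306 = n208716 := d15_0 F450551 (iv7 F448835) (iv2 F448839)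
def n208717 : Q := act 1 n134960
theorem D208717 : act 1 n134960 = n208717 := rfl
theorem F450553 : act 7 n208717 = n159925 := d15_2 (iv0 F333089) D208717 F252188
theorem F450554 : act 5 n208717 = n202504 := d17_7 D195392 F400470 (iv1 F396627) F403759 F403758 (iv5 F356550) D208717 (iv0 F424310) (iv4 F364299)
theorem F450555 : act 3 n159927 = n208717 := d19_19 (iv1 D208717) F356550 (iv4 F403758) F403757 (iv1 F344614) (iv5 F347236) (iv4 F218795) (iv3 D135997) (iv1 F99477) D64361 (iv4 F139344) (iv3 F371412) F371415 F177121 F106044 F94158 F82324 (iv5 F114807) (iv4 F252192)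
theorem F450556 : act 4 n200977 = n208717 := d20_6 F179209 (iv1 F98733) (iv4 F207377) (iv3 F350887) F177079 D200977 (iv1 D208717) F217173 F207347 F179210
theorem F450557 : act 2 n208717 = n208250 := d0_1 F450555 F448580 F221174 D137955 (iv2 F252191)
def n208718 : Q := act 2 n134960
theorem D208718 : act 2 n134960 = n208718 := rfl
theorem F450558 : act 3 n208718 = n208304 := d0_2 D134960 D208718 F448828 F216164 (iv2 F98749)
theorem F450559 : act 4 n208718 = n206692 := d1_2 (iv4 F217173) D208718 F441878
theorem F450560 : act 6 n208718 = n206691 := d3_2 (iv6 F217174) D208718 (iv2 D206691)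
theorem F450561 : act 1 n208718 = n208250 := d15_0 (iv0 F450051) F450050 D208718
theorem F450562 : act 1 n159925 = n208718 := d15_0 F450561 (iv7 F448581) (iv2 F252188)
def n208719 : Q := act 3 n134970
theorem D208719 : act 3 n134970 = n208719 := rfl
theorem F450563 : act 4 n208719 = n147783 := d5_2 (iv4 F217186) D208719 (iv3 F352232) (iv4 D129493) D129492
theorem F450564 : act 5 n208719 = n182325 := d6_2 F342845 D208719 (iv3 F352434)
theorem F450565 : act 6 n208719 = n147782 := d7_2 F217187 D208719 (iv3 F349414)
theorem F450566 : act 7 n208719 = n182525 := d8_2 (iv7 F223607) D208719 F360187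
theorem F450567 : act 0 n208719 = n208298 := d19_4 F404678 F404675 (iv4 F217186) D208719 F448800 F448640 (iv3 D205594) (iv1 F228496) (iv5 F436086) (iv4 D205364) (iv3 F435306) F435307 (iv5 D125560) D125559 (iv3 F342898) F342896 D105257 F329142 (iv3 F204318)
theorem F450568 : act 1 n208719 = n154294 := d15_1 (iv0 F450567) (iv7 F448860) F448858
theorem F450569 : act 2 n154528 = n208719 := d15_3 F450568 (iv0 F416584) F416583
def n208720 : Q := act 0 n134971
theorem D208720 : act 0 n134971 = n208720 := rfl
theorem F450570 : act 3 n208720 = n203045 := d20_5 (iv4 D134968) (iv1 D63431) D63432 D134971 D208720 (iv4 D203045) (iv1 F328185) (iv4 F424512) F424511 (iv1 F217184)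
theorem F450571 : act 1 n195438 = n208720 := d15_0 (iv0 D208720) (iv7 F432128) F432125
def n208721 : Q := act 1 n134971
theorem D208721 : act 1 n134971 = n208721 := rfl
def n208722 : Q := act 2 n134971
theorem D208722 : act 2 n134971 = n208722 := rfl
theorem F450572 : act 4 n208722 = n195300 := d1_2 F403758 D208722 (iv2 F403756)
theorem F450573 : act 5 n208722 = n208718 := d2_2 F356550 D208722 (iv2 D208718)
theorem F450574 : act 6 n208722 = n134976 := d3_2 (iv6 F217188) D208722 (iv2 D134976)
theorem F450575 : act 7 n208722 = n195438 := d4_2 F432128 D208722 (iv2 F432125)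
theorem F450576 : act 1 n208721 = n195438 := d15_1 D208721 (iv7 F450575) (iv2 D208722)
def n208723 : Q := act 3 n134974
theorem D208723 : act 3 n134974 = n208723 := rfl
theorem F450577 : act 2 n208723 = n179012 := d0_1 D208723 (iv3 D179012) (iv2 F232994) F314742 F356553
theorem F450578 : act 5 n208723 = n208489 := d6_2 (iv5 F340092) D208723 (iv3 D208489)
theorem F450579 : act 0 n208723 = n154256 := d19_4 (iv1 F434680) (iv5 F434685) F403703 D208723 (iv5 D154256) F109600 (iv3 F56676) (iv1 F328839) (iv5 D25773) (iv4 D12236) (iv3 F20236) D25763 (iv5 F79302) F79303 F45685 F39770 (iv5 F78882) (iv4 F111053) D156035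
theorem F450580 : act 4 n208723 = n136376 := d20_6 (iv4 D24926) (iv1 F23760) D29969 D63434 D134974 D208723 (iv1 D136376) (iv4 F111661) (iv3 D74406) (iv1 F53581)
def n208724 : Q := act 4 n134979
theorem D208724 : act 4 n134979 = n208724 := rfl
theorem F450581 : act 2 n208724 = n197525 := d1_1 D208724 (iv4 D197525) (iv2 F404686)
theorem F450582 : act 3 n208724 = n207025 := d5_1 D208724 (iv4 F443018) (iv3 D134060) D134061 (iv3 F217200)
theorem F450583 : act 6 n208724 = n191656 := d10_2 (iv6 F384110) D208724 (iv4 F384108)
theorem F450584 : act 7 n208724 = n197521 := d11_2 F404683 D208724 (iv4 D197521)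
theorem F450585 : act 5 n208724 = n197529 := d16_1 D208724 (iv4 D197529) (iv5 D108426) F79254 D105493 D195284 (iv5 F396572) F404688 (iv2 F404686)
theorem F450586 : act 0 n208724 = n206723 := d18_2 D134979 D208724 F441972 F441254 F396564 (iv0 F445975) F445974 (iv0 D197691) F167922
theorem F450587 : act 0 n207012 = n208724 := d20_10 (iv4 D208724) (iv1 F217201) F167637 F161940 F211716 (iv3 F437466) (iv4 D205689) F437348 F437347 D207012
def n208725 : Q := act 5 n134979
theorem D208725 : act 5 n134979 = n208725 := rfl
theorem F450588 : act 2 n208725 = n197526 := d2_1 D208725 (iv5 D197526) (iv2 F404686)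
theorem F450589 : act 3 n208725 = n188318 := d6_1 D208725 F373073 (iv3 F217200)
theorem F450590 : act 6 n208725 = n188316 := d12_2 (iv6 F384110) D208725 F373068 F294799 D191677
theorem F450591 : act 7 n208725 = n197522 := d13_2 F404683 D208725 (iv5 D197522)
theorem F450592 : act 4 n208725 = n206818 := d16_4 D197529 (iv5 F450585) (iv4 D208724) D208725 (iv5 D206818) (iv4 F217202) (iv5 F405388) F405389 (iv2 F341454)
theorem F450593 : act 0 n208725 = n208653 := d17_2 D134979 D208725 (iv5 D208653) F217086 D206862 F442445 (iv5 D206815) (iv0 D129410) (iv4 F98767)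
theorem F450594 : act 1 n208725 = n135004 := d15_1 (iv0 F450593) F217227 (iv2 F450341)
theorem F450595 : act 1 n195284 = n208653 := d15_0 (iv0 F450593) F450591 F404690
theorem F450596 : act 0 n206892 = n207644 := d17_0 (iv5 F446947) F446948 (iv5 F450585) (iv4 D208724) D208725 F450594 F217226 D207672 (iv4 F445945)
def n208726 : Q := act 3 n134980
theorem D208726 : act 3 n134980 = n208726 := rfl
theorem F450597 : act 2 n208726 = n208284 := d0_1 D208726 (iv3 D208284) F404681 (iv3 D197520) (iv2 F404687)
theorem F450598 : act 7 n208726 = n197524 := d8_2 (iv7 F404688) D208726 (iv3 D197524)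
theorem F450599 : act 0 n208726 = n135291 := d20_4 (iv4 F441972) F441974 F421987 D208726 (iv3 D135291) F98954 D132840 F213370 (iv3 F217334) F441258
theorem F450600 : act 1 n208726 = n135026 := d15_1 (iv0 F450599) (iv7 F422078) F422076
def n208727 : Q := act 6 n134981
theorem D208727 : act 6 n134981 = n208727 := rfl
theorem F450601 : act 2 n208727 = n134982 := d3_1 D208727 (iv6 D134982) D134981
theorem F450602 : act 4 n208727 = n206819 := d10_1 D208727 (iv6 D206819) (iv4 F217202)
theorem F450603 : act 7 n208727 = n208357 := d14_2 (iv7 F217203) D208727 (iv6 D208357) F216255 F171538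
theorem F450604 : act 1 n208359 = n208727 := d15_1 D208359 F450603 F449063
theorem F450605 : act 0 n208358 = n208727 := d20_10 F450602 (iv1 F442309) (iv4 F437883) F219241 F347016 (iv3 F448714) F448715 (iv1 D137998) (iv4 F221264) (iv3 F449067)
def n208728 : Q := act 0 n134982
theorem D208728 : act 0 n134982 = n208728 := rfl
theorem F450606 : act 1 n208357 = n208728 := d15_0 (iv0 D208728) F217209 (iv2 F449063)
def n208729 : Q := act 1 n134982
theorem D208729 : act 1 n134982 = n208729 := rfl
theorem F450607 : act 1 n208729 = n208357 := d15_1 D208729 (iv7 F450603) F450601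
def n208730 : Q := act 5 n134982
theorem D208730 : act 5 n134982 = n208730 := rfl
theorem F450608 : act 3 n208730 = n134983 := d6_1 D208730 (iv5 D134983) (iv3 F217207)
theorem F450609 : act 7 n208730 = n208360 := d13_2 (iv7 F217209) D208730 (iv5 D208360)
def n208731 : Q := act 4 n134983
theorem D208731 : act 4 n134983 = n208731 := rfl
theorem F450610 : act 7 n208731 = n208362 := d11_2 (iv7 F217210) D208731 (iv4 D208362)
theorem F450611 : act 0 n208731 = n177966 := d18_2 F449659 D208731 F277519 (iv5 F306408) (iv4 F404712) (iv0 F404715) (iv4 F413125) (iv0 F413128) D208508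
def n208732 : Q := act 6 n134985
theorem D208732 : act 6 n134985 = n208732 := rfl
theorem F450612 : act 2 n208732 = n206550 := d3_1 D208732 (iv6 D206550) F355053
theorem F450613 : act 3 n208732 = n134988 := d7_1 D208732 (iv6 D134988) D134985
theorem F450614 : act 4 n208732 = n195171 := d10_1 D208732 F396084 (iv4 F217212)
theorem F450615 : act 7 n208732 = n208363 := d14_2 (iv7 F355030) D208732 (iv6 D208363) (iv7 F355058) F354703
theorem F450616 : act 5 n208732 = n193565 := d21_6 (iv5 D47225) (iv1 F64290) (iv5 F136886) F332696 F217213 D208732 (iv1 D193565) F367859 F368067 (iv1 D101505)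
theorem F450617 : act 3 n193565 = n184962 := d6_1 F450616 F358604 (iv3 F450613)
theorem F450618 : act 0 n208547 = n208732 := d17_0 F450616 (iv1 D193565) F367859 (iv4 F384039) F384014 F352573 (iv5 F445366) (iv0 F445368) (iv4 F449827)
def n208733 : Q := act 0 n134988
theorem D208733 : act 0 n134988 = n208733 := rfl
theorem F450619 : act 5 n208733 = n154410 := d17_1 D208733 (iv1 F352433) F287447 F366990 (iv5 F434022) (iv0 F446255) F446253 (iv0 F412734) F359030
theorem F450620 : act 4 n208733 = n200603 := d18_3 (iv1 F445524) F359030 D208733 (iv5 F440203) (iv4 D206315) (iv0 F374613) F377715 (iv0 F445229) (iv5 F445521)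
theorem F450621 : act 6 n208733 = n200602 := d21_5 D63399 D134908 F332713 D134988 D208733 F417148 F401347 (iv5 F349662) (iv6 D134905) (iv1 D63397)
theorem F450622 : act 2 n135211 = n208733 := d15_3 (iv0 D208733) F412733 (iv7 F217389)
theorem F450623 : act 1 n197973 = n208733 := d15_0 (iv0 D208733) F355002 (iv2 F406340)
theorem F450624 : act 7 n208733 = n154409 := d15_2 (iv0 F406343) F450623 F349425
theorem F450625 : act 3 n208733 = n208407 := d0_2 D135211 F450622 F449222 (iv3 D134458) (iv2 F102144)
def n208734 : Q := act 5 n134991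
theorem D208734 : act 5 n134991 = n208734 := rfl
theorem F450626 : act 2 n208734 = n207593 := d2_1 D208734 F445604 (iv2 F355040)
theorem F450627 : act 3 n208734 = n196036 := d6_1 D208734 F399142 (iv3 F217217)
theorem F450628 : act 6 n208734 = n207602 := d12_2 F355001 D208734 F445640 (iv6 F449101) (iv5 D208367)
theorem F450629 : act 7 n208734 = n207483 := d13_2 (iv7 F355034) D208734 F445109
theorem F450630 : act 1 n208734 = n207592 := d17_6 (iv1 F216830) D208591 F450042 F332732 D134991 D208734 F445600 (iv0 F442153) (iv4 D134898)
theorem F450631 : act 0 n208734 = n197047 := d21_1 D208734 (iv5 F447893) (iv6 F447897) (iv1 D182771) (iv6 D87245) (iv5 F70838) F70839 D86135 (iv6 F337800) F217218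
def n208735 : Q := act 4 n134994
theorem D208735 : act 4 n134994 = n208735 := rfl
theorem F450632 : act 2 n208735 = n134998 := d1_1 D208735 (iv4 D134998) (iv2 F217221)
theorem F450633 : act 5 n208735 = n190414 := d9_2 D134994 D208735 F379716 F378562 (iv4 D132049) (iv5 D61962) (iv4 F81135) (iv5 F328749) (iv4 F373003) F377312 (iv4 F379900) (iv5 F382636) F382635 F349648 F164212
theorem F450634 : act 6 n208735 = n184734 := d10_2 (iv6 F349709) D208735 F287204
theorem F450635 : act 7 n208735 = n189107 := d11_2 (iv7 F349710) D208735 F375774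
theorem F450636 : act 1 n208735 = n201553 := d18_6 F217263 (iv4 D132037) (iv1 F164214) F164212 D134994 D208735 F420930 (iv0 D183165) (iv5 F337796)
theorem F450637 : act 3 n188813 = n208735 := d8_3 F450635 (iv3 F376963) F376952
def n208736 : Q := act 4 n134996
theorem D208736 : act 4 n134996 = n208736 := rfl
theorem F450638 : act 2 n208736 = n208673 := d1_1 D208736 (iv4 D208673) (iv2 F352488)
theorem F450639 : act 3 n208736 = n193396 := d5_1 D208736 (iv4 D193396) (iv3 D101582) (iv4 F295482) F349691
theorem F450640 : act 5 n208736 = n196169 := d9_2 (iv5 F349690) D208736 (iv4 F416132) (iv5 F439760) F382628 F373502 F216826 F352493 (iv4 F439756) F439757 (iv4 F416066) F416067 F382631 (iv5 F450025) (iv4 D208588)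
theorem F450641 : act 7 n208736 = n195835 := d11_2 (iv7 F352484) D208736 F398389
theorem F450642 : act 0 n208736 = n183164 := d17_0 (iv5 F379608) (iv1 F379842) (iv5 F450419) (iv4 D208677) F332732 (iv0 F328743) (iv5 F294739) (iv0 F349692) D208736
theorem F450643 : act 1 n208736 = n190374 := d15_1 (iv0 F450642) F379606 (iv2 F284760)
def n208737 : Q := act 6 n134996
theorem D208737 : act 6 n134996 = n208737 := rfl
theorem F450644 : act 2 n208737 = n208674 := d3_1 D208737 (iv6 D208674) (iv2 F352488)
theorem F450645 : act 3 n208737 = n189098 := d7_1 D208737 (iv6 D189098) F349691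
theorem F450646 : act 5 n208737 = n193208 := d12_1 D208737 (iv6 F389177) F220885 F333061 (iv5 F349690)
def n208738 : Q := act 3 n134997
theorem D208738 : act 3 n134997 = n208738 := rfl
theorem F450647 : act 2 n208738 = n189096 := d0_1 D208738 (iv3 D189096) F352481 (iv3 F352483) F352487
theorem F450648 : act 5 n208738 = n208589 := d6_2 F352493 D208738 (iv3 D208589)
theorem F450649 : act 7 n208738 = n208672 := d8_2 F352489 D208738 F450408
theorem F450650 : act 0 n208738 = n197181 := d19_4 (iv1 F399685) (iv5 F439757) F439756 D208738 (iv5 F403430) (iv4 D134056) D134055 F390334 F390333 F367268 F335811 D201885 F422213 (iv4 F398774) F398773 (iv1 F214459) F358297 (iv4 F364642) D196002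
theorem F450651 : act 0 n188318 = n208738 := d17_2 F441285 (iv5 F373073) F450648 F450029 F355778 D159679 (iv5 F450126) F450128 (iv4 F441284)
def n208739 : Q := act 0 n134998
theorem D208739 : act 0 n134998 = n208739 := rfl
theorem F450652 : act 4 n208739 = n189574 := d18_1 D208739 (iv1 D189574) (iv4 F284759) (iv5 F379845) F379844 F378476 (iv4 F379219) (iv0 F379895) F379893
theorem F450653 : act 1 n189107 = n208739 := d15_0 (iv0 D208739) (iv7 F373004) (iv2 F375773)
theorem F450654 : act 7 n201553 = n208739 := d11_0 F450652 (iv7 F398840) (iv4 F420930)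
theorem F450655 : act 3 n201558 = n208739 := d20_5 (iv4 F250891) F396534 F396532 (iv3 F431435) (iv1 F431437) F450652 (iv1 D189574) (iv4 F284759) (iv3 F398551) (iv1 D195871)
def n208740 : Q := act 1 n134998
theorem D208740 : act 1 n134998 = n208740 := rfl
theorem F450656 : act 1 n208740 = n189107 := d15_1 D208740 (iv7 F450635) F450632
theorem F450657 : act 4 n208740 = n189573 := d18_7 D182392 F363958 (iv1 D106613) F77845 D63441 D134998 D208740 (iv0 D189573) F294735
theorem F450658 : act 6 n187800 = n208740 := d21_3 (iv5 D90583) D90581 D187800 (iv1 D208740) (iv6 F371766) (iv5 F377985) (iv1 F378462) (iv5 F420910) (iv6 D201545) F178878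
theorem F450659 : act 5 n196164 = n208740 := d21_6 F147173 (iv1 F147686) F147684 (iv6 F376132) (iv1 F376133) D196164 (iv1 D208740) (iv5 F379893) (iv6 D190490) F147671
theorem F450660 : act 2 n208740 = n201553 := d2_1 F450659 (iv5 F443824) F443821
theorem F450661 : act 3 n208740 = n201368 := d6_1 F450659 F420209 F410018
def n208741 : Q := act 2 n135004
theorem D208741 : act 2 n135004 = n208741 := rfl
theorem F450662 : act 3 n208741 = n189090 := d0_2 D135004 D208741 F375712 F217097 F98779
theorem F450663 : act 5 n208741 = n207673 := d2_2 (iv5 F217226) D208741 (iv2 D207673)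
theorem F450664 : act 7 n208741 = n208653 := d4_2 (iv7 F217227) D208741 F450341
theorem F450665 : act 1 n208741 = n197522 := d15_0 F404701 (iv7 F217227) D208741
theorem F450666 : act 1 n197526 = n208741 := d15_0 F450665 (iv7 F450591) F450588
def n208742 : Q := act 4 n135004
theorem D208742 : act 4 n135004 = n208742 := rfl
theorem F450667 : act 3 n208742 = n208354 := d5_1 D208742 (iv4 D208354) F216249 (iv4 F98774) D135004
theorem F450668 : act 7 n208742 = n208654 := d11_2 (iv7 F217227) D208742 (iv4 D208654)
theorem F450669 : act 1 n208742 = n206907 := d18_8 (iv1 F446597) (iv4 D197521) (iv1 F217204) F217202 D206818 (iv4 F450592) F450594 D208742 (iv5 F446595)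
def n208743 : Q := act 6 n135004
theorem D208743 : act 6 n135004 = n208743 := rfl
theorem F450670 : act 3 n208743 = n135005 := d7_1 D208743 (iv6 D135005) D135004
def n208744 : Q := act 0 n135005
theorem D208744 : act 0 n135005 = n208744 := rfl
def n208745 : Q := act 7 n135005
theorem D208745 : act 7 n135005 = n208745 := rfl
theorem F450671 : act 2 n208745 = n208666 := d4_1 D208745 (iv7 D208666) (iv2 F217228)
theorem F450672 : act 4 n208745 = n198768 := d11_1 D208745 F409151 (iv4 F217229)
theorem F450673 : act 6 n208745 = n208658 := d14_1 D208745 (iv7 D208658) (iv6 D134887) F98780 D135005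
theorem F450674 : act 1 n208666 = n208744 := d15_0 (iv0 D208744) D208745 F450671
theorem F450675 : act 1 n208664 = n208745 := d15_1 D208664 (iv7 D208745) F217228
theorem F450676 : act 7 n208744 = n208664 := d15_2 F450380 F450674 F450374
theorem F450677 : act 2 n208744 = n208663 := d15_3 (iv0 D208663) D208664 (iv7 F450676)
theorem F450678 : act 7 n208663 = n198282 := d4_2 (iv7 F450676) F450677 (iv2 F450374)
theorem F450679 : act 4 n198283 = n208663 := d11_3 F450678 F407461 D198283
theorem F450680 : act 1 n208745 = n208663 := d15_1 F450675 F450678 (iv2 F450374)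
theorem F450681 : act 6 n208663 = n203763 := d10_2 (iv6 F407464) F450679 F429729
def n208746 : Q := act 2 n135006
theorem D208746 : act 2 n135006 = n208746 := rfl
theorem F450682 : act 3 n208746 = n208653 := d0_2 D135006 D208746 F450341 F217087 F98784
theorem F450683 : act 4 n208746 = n204206 := d1_2 (iv4 F357924) D208746 F431483
theorem F450684 : act 5 n208746 = n187693 := d2_2 (iv5 F217230) D208746 F371198
theorem F450685 : act 7 n208746 = n189090 := d4_2 (iv7 F217231) D208746 F375712
theorem F450686 : act 1 n208746 = n135355 := d15_0 (iv0 F361760) (iv7 F217231) D208746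
theorem F450687 : act 1 n189091 = n208746 := d15_0 F450686 (iv7 F405067) F405063
def n208747 : Q := act 6 n135006
theorem D208747 : act 6 n135006 = n208747 := rfl
theorem F450688 : act 3 n208747 = n135007 := d7_1 D208747 (iv6 D135007) D135006
theorem F450689 : act 4 n208747 = n204523 := d10_1 D208747 (iv6 D204523) (iv4 F357924)
theorem F450690 : act 5 n208747 = n187036 := d12_1 D208747 (iv6 D187036) F292676 F352103 (iv5 F217230)
def n208748 : Q := act 0 n135007
theorem D208748 : act 0 n135007 = n208748 := rfl
theorem F450691 : act 6 n208748 = n204433 := d21_5 (iv5 D63329) (iv1 F98352) (iv5 F98783) D135007 D208748 (iv5 D204433) (iv1 F357134) F171540 (iv6 D108427) (iv1 F98584)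
theorem F450692 : act 2 n208656 = n208748 := d3_3 F450691 F432513 (iv6 F450348)
theorem F450693 : act 3 n201421 = n208748 := d7_3 F450691 F432514 (iv6 F420455)
theorem F450694 : act 4 n201423 = n208748 := d10_3 F450691 F432516 (iv6 F420457)
theorem F450695 : act 5 n204432 = n208748 := d12_5 F450691 (iv5 D204433) (iv6 D123791) D123790 D204432
theorem F450696 : act 7 n208657 = n208748 := d14_0 F450691 F432515 F411655 F424995 F450349
theorem F450697 : act 0 n184080 = n138449 := d20_10 F221646 D208748 (iv4 F450694) (iv3 D201423) F373399 (iv3 D188416) F140504 (iv1 F133589) D87805 D184080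
def n208749 : Q := act 1 n135007
theorem D208749 : act 1 n135007 = n208749 := rfl
theorem F450698 : act 1 n208749 = n208658 := d15_1 D208749 (iv7 D208658) (iv2 F217232)
theorem F450699 : act 7 n208749 = n208656 := d15_2 (iv0 D208748) D208749 F450692
theorem F450700 : act 4 n208749 = n205496 := d18_7 (iv1 F326607) (iv4 F109142) D153576 F407039 F407036 F221646 D208749 (iv0 D205496) (iv5 D126162)
theorem F450701 : act 2 n208657 = n208749 := d4_3 F450699 F450692 (iv7 F450696)
theorem F450702 : act 1 n208658 = n208748 := d15_1 F450698 (iv7 F450696) F450701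
theorem F450703 : act 3 n208658 = n202915 := d20_5 F398396 F371535 D201421 F450693 (iv1 F450702) F426185 F420562 (iv4 F398403) (iv3 D195839) D195837
theorem F450704 : act 7 n202915 = n208655 := d8_2 D208658 F450703 F450345
def n208750 : Q := act 5 n135007
theorem D208750 : act 5 n135007 = n208750 := rfl
theorem F450705 : act 2 n208750 = n208386 := d2_1 D208750 F449156 (iv2 F217232)
theorem F450706 : act 3 n208750 = n187036 := d6_1 D208750 (iv5 F450690) F450688
theorem F450707 : act 6 n208750 = n187035 := d12_2 D135007 D208750 F368873 F216207 (iv5 F98783)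
theorem F450708 : act 0 n208750 = n193845 := d17_2 (iv1 D208749) D208750 F391189 (iv4 F407568) F407570 F326608 (iv5 F342484) F436711 (iv4 F450700)
def n208751 : Q := act 7 n135007
theorem D208751 : act 7 n135007 = n208751 := rfl
theorem F450709 : act 2 n208751 = n208658 := d4_1 D208751 (iv7 D208658) (iv2 F217232)
theorem F450710 : act 6 n208751 = n208666 := d14_1 D208751 (iv7 D208666) (iv6 D134894) (iv7 F98782) D135007
theorem F450711 : act 1 n208657 = n208751 := d15_1 D208657 (iv7 D208751) F217232
theorem F450712 : act 1 n208751 = n208656 := d15_1 F450711 (iv7 F450699) (iv2 F450701)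
def n208752 : Q := act 1 n135026
theorem D208752 : act 1 n135026 = n208752 := rfl
theorem F450713 : act 1 n208752 = n135291 := d15_1 D208752 (iv7 F364850) F364848
theorem F450714 : act 7 n208752 = n208284 := d15_2 F450600 D208752 (iv2 F450597)
theorem F450715 : act 3 n208285 = n208752 := d19_19 (iv1 D208752) (iv5 F450509) F450508 (iv3 D199794) (iv1 D111744) D111745 F353362 (iv3 D178568) F314630 (iv5 F167006) (iv4 F215953) (iv3 D134017) F98220 D64953 F100737 D134321 F329092 (iv5 F355341) (iv4 F448739)
theorem F450716 : act 2 n208752 = n197524 := d0_1 F450715 (iv3 D197524) (iv2 F404686) F217200 (iv2 F448738)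
def n208753 : Q := act 1 n135032
theorem D208753 : act 1 n135032 = n208753 := rfl
theorem F450717 : act 1 n208753 = n208264 := d15_1 D208753 (iv7 F450055) F450053
theorem F450718 : act 7 n208753 = n208407 := d15_2 (iv0 F389776) D208753 F449222
theorem F450719 : act 3 n154409 = n208753 := d20_3 (iv4 F396136) (iv1 F445545) F445547 (iv1 D208753) (iv3 F347098) F347099 (iv1 D126803) F93931 (iv3 F100701) D138065
theorem F450720 : act 6 n182518 = n208753 := d21_3 D208713 (iv1 F450537) (iv5 F422498) (iv1 D208753) (iv6 D135032) (iv5 F389036) (iv1 D134946) (iv5 D63422) D63423 D134949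
theorem F450721 : act 2 n208753 = n135216 := d3_1 F450720 (iv6 F224337) F352438
theorem F450722 : act 5 n208753 = n154408 := d12_1 F450720 F242463 D154526 F422499 (iv5 F422498)
def n208754 : Q := act 5 n135032
theorem D208754 : act 5 n135032 = n208754 := rfl
theorem F450723 : act 7 n208754 = n208408 := d13_2 F347102 D208754 (iv5 D208408)
def n208755 : Q := act 4 n135033
theorem D208755 : act 4 n135033 = n208755 := rfl
theorem F450724 : act 2 n208755 = n135037 := d1_1 D208755 (iv4 D135037) (iv2 F217267)
theorem F450725 : act 6 n208755 = n189105 := d10_2 F364232 D208755 (iv4 D189105)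
def n208756 : Q := act 3 n135035
theorem D208756 : act 3 n135035 = n208756 := rfl
theorem F450726 : act 5 n208756 = n208582 := d6_2 (iv5 F365167) D208756 (iv3 D208582)
theorem F450727 : act 7 n208756 = n208694 := d8_2 F365165 D208756 F450477
def n208757 : Q := act 4 n135035
theorem D208757 : act 4 n135035 = n208757 := rfl
theorem F450728 : act 2 n208757 = n204558 := d1_1 D208757 (iv4 F434128) F365164
theorem F450729 : act 7 n208757 = n208696 := d11_2 F365165 D208757 (iv4 D208696)
theorem F450730 : act 0 n208757 = n204559 := d17_0 F442361 F442363 F405324 (iv4 F389035) F389036 F216857 D208595 F450063 D208757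
theorem F450731 : act 3 n208757 = n196365 := d19_3 D134757 (iv5 F365167) D208757 F400482 D204562 F432864 F221647 F100835 (iv5 D50119) (iv4 D24446) F19430 (iv1 D11845) (iv5 D5557) (iv4 F4756) (iv3 F4775) D6761 D14208 D29920 D63328
theorem F450732 : act 5 n196363 = n208757 := d6_0 F450731 (iv5 D196365) (iv3 F400476)
theorem F450733 : act 6 n197852 = n208757 := d7_0 F450731 F400480 (iv3 F406027)
theorem F450734 : act 0 n204217 = n208757 := d20_4 (iv4 D57307) D57305 D123149 D204217 F450731 (iv4 F400481) (iv1 F366146) (iv4 F424122) (iv3 F424127) (iv1 D123155)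
def n208758 : Q := act 6 n135035
theorem D208758 : act 6 n135035 = n208758 := rfl
theorem F450735 : act 2 n208758 = n208698 := d3_1 D208758 (iv6 D208698) F365164
theorem F450736 : act 4 n208758 = n197852 := d10_1 D208758 F450733 (iv4 D208757)
def n208759 : Q := act 4 n135036
theorem D208759 : act 4 n135036 = n208759 := rfl
theorem F450737 : act 2 n208759 = n208696 := d1_1 D208759 (iv4 D208696) (iv2 F365161)
theorem F450738 : act 7 n208759 = n204558 := d11_2 (iv7 F365162) D208759 (iv4 F434128)
theorem F450739 : act 0 n208759 = n204217 := d18_2 F450062 D208759 F431524 F437563 (iv4 D205720) (iv0 F208386) F207826 F216857 D208595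
theorem F450740 : act 0 n204559 = n208759 := d20_10 (iv4 D208759) (iv1 D135036) D135037 (iv3 F246248) F375364 F375362 F143394 D92979 D189004 (iv3 F432858)
theorem E103946 : n208696 = n204557 := (c15_4 (iv0 D204557) D204558 (iv7 F450738) F450737)
theorem F450741 : act 2 n204557 = n208759 := (sb E103946 (iv2 F450737))
theorem F450742 : act 4 n204557 = n134938 := (sb E103946 (iv4 D208696))
theorem F450743 : act 7 n204557 = n208757 := (sb E103946 (iv7 F450729))
def n208760 : Q := act 0 n135037
theorem D208760 : act 0 n135037 = n208760 := rfl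
def n208761 : Q := act 1 n135037
theorem D208761 : act 1 n135037 = n208761 := rfl
theorem F450744 : act 4 n208761 = n188182 := d18_7 F437775 (iv4 D205764) (iv1 D126584) F93713 D63465 D135037 D208761 (iv0 F432857) (iv5 F437221)
theorem F450745 : act 3 n191827 = n208761 := d20_9 (iv4 D135037) D135035 D208757 F450731 F400482 (iv3 F432859) F432860 F384502 D191827 (iv1 D208761)
def n208762 : Q := act 5 n135037
theorem D208762 : act 5 n135037 = n208762 := rfl
theorem F450746 : act 3 n208762 = n204909 := d6_1 D208762 F434121 F246248
def n208763 : Q := act 6 n135037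
theorem D208763 : act 6 n135037 = n208763 := rfl
theorem F450747 : act 2 n208763 = n189105 := d3_1 D208763 (iv6 F450725) F450724
theorem F450748 : act 4 n208763 = n135038 := d10_1 D208763 (iv6 D135038) D135037
theorem F450749 : act 7 n208763 = n191872 := d14_2 F450066 D208763 (iv6 F430704) F430705 (iv6 F450065)
theorem F450750 : act 1 n191870 = n208763 := d15_1 (iv0 F384625) F450749 (iv2 F384628)
theorem F450751 : act 1 n208763 = n186647 := d15_1 F450750 F367549 (iv2 F384624)
def n208764 : Q := act 3 n135039
theorem D208764 : act 3 n135039 = n208764 := rfl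
theorem F450752 : act 2 n208764 = n195143 := d0_1 D208764 F395948 (iv2 F350290) (iv3 F348534) (iv2 F361059)
theorem F450753 : act 5 n208764 = n182411 := d6_2 (iv5 F361056) D208764 (iv3 D182411)
theorem F450754 : act 4 n208764 = n148799 := d20_6 (iv4 D63478) (iv1 D29982) (iv4 F48182) (iv3 F98798) D135039 D208764 F367634 (iv4 D186675) F136695 (iv1 F326261)
theorem F450755 : act 6 n148798 = n208764 := d10_0 F450754 (iv6 D148799) D148798
theorem F450756 : act 1 n189279 = n208764 := d17_6 (iv1 D47722) D47724 (iv1 F293774) F97944 (iv4 F144662) D189279 F450753 (iv0 F361063) (iv4 D102898)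
def n208765 : Q := act 4 n135039
theorem D208765 : act 4 n135039 = n208765 := rfl
theorem F450757 : act 2 n208765 = n206745 := d1_1 D208765 F442029 (iv2 F361059)
theorem F450758 : act 3 n208765 = n159582 := d5_1 D208765 F251354 (iv3 F233635) (iv4 F450754) (iv3 D208764)
theorem F450759 : act 7 n208765 = n206971 := d11_2 (iv7 F361057) D208765 F442786
theorem F450760 : act 5 n208765 = n206734 := d16_1 D208765 F442001 (iv5 F444589) F444588 F420642 (iv4 D182407) (iv5 F328106) F361048 (iv2 F361059)
theorem F450761 : act 0 n208765 = n205635 := d17_0 (iv5 D205635) F437240 (iv5 F443153) F443152 F338483 (iv0 D86949) D86951 (iv0 F328104) D208765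
theorem F450762 : act 1 n208765 = n205721 := d18_6 (iv1 F367254) (iv4 F382999) (iv1 D191313) F151159 (iv5 F361056) D208765 F437567 (iv0 F367752) (iv5 F367089)
theorem F450763 : act 6 n208765 = n159581 := d21_5 (iv5 F380826) (iv1 D126554) D126556 D205721 (iv1 F450762) F251351 (iv1 F350879) (iv5 F418826) (iv6 F437633) F437635
def n208766 : Q := act 6 n135039
theorem D208766 : act 6 n135039 = n208766 := rfl
theorem F450764 : act 3 n208766 = n148798 := d7_1 D208766 F450755 (iv3 D208764)
theorem F450765 : act 4 n208766 = n159581 := d10_1 D208766 (iv6 F450763) (iv4 D208765)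
theorem F450766 : act 5 n208766 = n202297 := d12_1 D208766 F423540 F349188 F361053 (iv5 F361056)
theorem F450767 : act 0 n208766 = n182518 := d21_10 F422498 F448940 F448938 (iv6 F365404) (iv1 D134023) (iv6 F169034) F344363 (iv1 F160958) (iv5 F361056) D208766
theorem F450768 : act 0 n154526 = n199015 := d21_4 (iv5 F450766) F450767 F422498 (iv6 F422499) (iv6 D199015) D199014 F410331 (iv5 D115553) D115554 D202297
theorem F450769 : act 7 n208766 = n195139 := d15_2 (iv0 F398044) (iv0 F450767) F395933
def n208767 : Q := act 4 n135040
theorem D208767 : act 4 n135040 = n208767 := rfl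
theorem F450770 : act 2 n208767 = n206971 := d1_1 D208767 F442786 F361058
theorem F450771 : act 3 n208767 = n205619 := d5_1 D208767 F437247 (iv3 F447212) F447213 (iv3 F368040)
theorem F450772 : act 5 n208767 = n201069 := d9_2 (iv5 F328106) D208767 F418974 (iv5 F209194) (iv4 F376163) F376161 F151159 (iv5 F361056) D208765 F450760 F442001 (iv5 F444589) F444588 F420642 (iv4 D182407)
theorem F450773 : act 7 n208767 = n206745 := d11_2 (iv7 F361048) D208767 F442029
theorem F450774 : act 0 n208767 = n205721 := d18_2 (iv1 F328105) D208767 F437567 (iv5 D186707) (iv4 F251928) (iv0 F283458) (iv4 D182051) (iv0 D86949) D86951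
theorem F450775 : act 1 n208767 = n205635 := d18_6 D100151 (iv4 F369309) F369313 (iv4 D182407) (iv5 F328106) D208767 F437287 (iv0 F367416) F136766
theorem F450776 : act 6 n207889 = n208767 := d7_0 F450771 (iv6 F437251) D207889
def n208768 : Q := act 6 n135040
theorem D208768 : act 6 n135040 = n208768 := rfl
theorem F450777 : act 2 n208768 = n208266 := d3_1 D208768 F448649 F361058
theorem F450778 : act 3 n208768 = n194778 := d7_1 D208768 F394429 (iv3 F368040)
theorem F450779 : act 4 n208768 = n207889 := d10_1 D208768 F450776 (iv4 D208767)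
theorem F450780 : act 0 n208768 = n208269 := d21_4 (iv5 D87099) D87095 (iv5 F328106) D208768 F448657 (iv5 F449288) (iv1 F449289) (iv5 F449272) (iv6 F449273) (iv1 D182420)
theorem F450781 : act 0 n208265 = n208768 := d21_4 F365396 (iv1 F360777) F360775 D208265 (iv6 D208768) F328106 (iv1 F160956) (iv5 F344363) F169034 D134022
theorem F450782 : act 7 n208267 = n208768 := d8_0 F450778 (iv7 F394434) F448651
def n208769 : Q := act 2 n135050
theorem D208769 : act 2 n135050 = n208769 := rfl
theorem F450783 : act 3 n208769 = n189094 := d0_2 D135050 D208769 F375728 (iv3 F361755) (iv2 F172932)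
theorem F450784 : act 4 n208769 = n183409 := d1_2 (iv4 F217279) D208769 (iv2 F412714)
theorem F450785 : act 6 n208769 = n194776 := d3_2 (iv6 F217280) D208769 F394423
theorem F450786 : act 1 n208769 = n190212 := d15_0 (iv0 F412710) F412709 D208769
theorem F450787 : act 1 n190376 = n208769 := d15_0 F450786 (iv7 F384107) F384105
def n208770 : Q := act 0 n135059
theorem D208770 : act 0 n135059 = n208770 := rfl
theorem F450788 : act 5 n208770 = n144941 := d17_1 D208770 F422008 (iv5 F422007) F422003 (iv5 F405054) F332675 (iv5 F332671) F216885 D135059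
theorem F450789 : act 4 n208770 = n197524 := d18_1 D208770 F441423 (iv4 D176075) (iv5 D83999) (iv4 F128793) (iv0 F336792) F114794 D76554 (iv5 F363108)
theorem F450790 : act 3 n208770 = n144945 := d20_5 F211592 (iv1 F363956) (iv4 F382142) F382140 D208770 F347618 (iv1 F208173) F99073 (iv3 F83927) (iv1 F211590)
theorem F450791 : act 1 n135064 = n208770 := d15_0 (iv0 D208770) (iv7 F430468) F430466
theorem F450792 : act 6 n206106 = n208770 := d7_0 F450790 F347379 D206106
def n208771 : Q := act 4 n135060
theorem D208771 : act 4 n135060 = n208771 := rfl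
theorem F450793 : act 2 n208771 = n139155 := d1_1 D208771 (iv4 F450075) F450072
theorem F450794 : act 5 n208771 = n136464 := d16_1 D208771 F386801 F386798 F335191 (iv5 F335192) (iv4 D135064) D135065 (iv7 F450074) F450072
theorem F450795 : act 0 n202675 = n208771 := d17_2 (iv1 F445868) F425031 F450794 F386801 F386798 (iv0 D151576) D151578 (iv0 F385072) (iv4 F445867)
theorem F450796 : act 1 n136488 = n208771 := d17_6 (iv1 F246449) F360936 (iv1 F336791) F329496 (iv4 F211759) (iv5 F219601) F450794 F422988 F422985
def n208772 : Q := act 6 n135060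
theorem D208772 : act 6 n135060 = n208772 := rfl
theorem F450797 : act 2 n208772 = n188607 := d3_1 D208772 F450078 F450072
theorem F450798 : act 3 n208772 = n185514 := d7_1 D208772 (iv6 F445544) F445542
theorem F450799 : act 7 n208772 = n188608 := d14_2 F450069 D208772 (iv6 F384426) (iv7 F224527) (iv6 F450068)
theorem F450800 : act 0 n188602 = n208772 := d21_4 F294854 (iv1 F67964) D92564 D188602 (iv6 D208772) (iv5 D135060) (iv1 F216885) F332671 (iv6 D91023) D91020
theorem F450801 : act 0 n208772 = n188609 := d20_4 (iv4 F362828) (iv1 F142620) (iv4 F362834) (iv3 F450798) F374182 (iv4 F370973) (iv1 F370976) F370917 (iv3 F370916) (iv1 F370633)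
def n208773 : Q := act 5 n135061
theorem D208773 : act 5 n135061 = n208773 := rfl
theorem F450802 : act 2 n208773 = n193547 := d2_1 D208773 (iv5 F396004) (iv2 F396006)
theorem F450803 : act 3 n208773 = n154373 := d6_1 D208773 (iv5 F419230) F419228
theorem F450804 : act 7 n208773 = n193578 := d13_2 (iv7 F363969) D208773 F390339
theorem F450805 : act 4 n208773 = n202549 := d16_4 D69640 D148594 F363110 D208773 (iv5 D202549) F180555 (iv5 F322278) (iv7 F327181) F327180
theorem F450806 : act 0 n208773 = n193577 := d17_2 (iv1 F363111) D208773 (iv5 F418871) (iv4 F396427) (iv5 F396362) F426264 F426260 (iv0 D195138) F327837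
theorem F450807 : act 1 n208773 = n185278 := d15_1 (iv0 F450806) F421400 (iv2 F418874)
theorem E103947 : n193576 = n185278 := ((c15_1 F450807 (iv0 D193576) (iv7 F390219) (iv2 F450802))).symm
theorem F450808 : act 1 n185278 = n101939 := (sb E103947 (iv0 D193576))
def n208774 : Q := act 5 n135063
theorem D208774 : act 5 n135063 = n208774 := rfl
theorem F450809 : act 2 n208774 = n204526 := d2_1 D208774 (iv5 F445539) F445533
theorem F450810 : act 3 n208774 = n135065 := d6_1 D208774 (iv5 D135065) D135063
theorem F450811 : act 6 n208774 = n208236 := d12_2 F364331 D208774 F448516 (iv6 F391113) F391112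
theorem F450812 : act 7 n208774 = n204527 := d13_2 F447142 D208774 (iv5 F447140)
theorem F450813 : act 4 n208774 = n207083 := d16_2 F217587 D208774 (iv5 D207083) (iv4 D130104) (iv5 D61085) D61084 F326370 F326353 F213205
theorem F450814 : act 0 n208774 = n204207 := d17_2 F437193 D208774 F431489 (iv4 D130137) (iv5 D61097) D61096 F95611 D126470 D205604
theorem F450815 : act 1 n208774 = n204524 := d17_6 D188804 F374953 (iv1 F208580) D130116 F217587 D208774 (iv5 F444473) F444476 F374951
def n208775 : Q := act 4 n135065
theorem D208775 : act 4 n135065 = n208775 := rfl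
theorem F450816 : act 3 n208775 = n139067 := d5_1 D208775 (iv4 F413511) (iv3 F443243) (iv4 F450813) F450810
theorem F450817 : act 5 n208775 = n136463 := d9_2 D135065 D208775 (iv4 F360933) F360929 F342710 (iv5 F363108) (iv4 D135059) D135060 D208771 F450794 F386801 F386798 F335191 (iv5 F335192) (iv4 D135064)
theorem F450818 : act 7 n208775 = n139155 := d11_2 F450074 D208775 (iv4 F450075)
theorem F450819 : act 0 n136488 = n208775 := d20_10 (iv4 D208775) F364857 D135165 (iv3 F404931) (iv1 F405192) F218618 (iv4 F161911) F161912 F99879 D136488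
theorem F450820 : act 1 n202675 = n208775 := d15_0 (iv0 F450819) F219602 (iv2 F425030)
def n208776 : Q := act 4 n135067
theorem D208776 : act 4 n135067 = n208776 := rfl
theorem F450821 : act 2 n208776 = n135071 := d1_1 D208776 (iv4 D135071) (iv2 F217297)
theorem F450822 : act 6 n208776 = n191765 := d10_2 (iv6 F332664) D208776 F384389
theorem F450823 : act 7 n208776 = n188178 := d11_2 F332673 D208776 F372593
theorem F450824 : act 0 n188125 = n208776 := d21_4 (iv5 F292006) (iv1 D90826) D90828 D188125 F450822 F384390 (iv1 D100393) D100394 F154417 D100398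
def n208777 : Q := act 4 n135069
theorem D208777 : act 4 n135069 = n208777 := rfl
theorem F450825 : act 5 n208777 = n136376 := d16_1 D208777 (iv4 F450580) F450578 F449592 (iv5 F422007) F422003 (iv5 F405054) (iv7 F450086) (iv2 F450088)
theorem F450826 : act 0 n208777 = n136402 := d17_0 F219507 D136463 (iv5 F450817) (iv4 D208775) (iv5 D135065) F216887 F332671 F364852 D208777
def n208778 : Q := act 6 n135069
theorem D208778 : act 6 n135069 = n208778 := rfl
def n208779 : Q := act 4 n135070
theorem D208779 : act 4 n135070 = n208779 := rfl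
theorem F450827 : act 3 n208779 = n204627 := d5_1 D208779 (iv4 D204627) (iv3 F433049) F433051 (iv3 F432853)
theorem F450828 : act 5 n208779 = n136375 := d16_7 (iv4 F450580) F450578 F449592 (iv5 F422007) F422003 (iv5 F405054) D208779 F445869 F445879
theorem F450829 : act 0 n136402 = n208779 := d20_10 (iv4 D208779) (iv1 D135070) D135071 F338901 (iv1 F394000) (iv3 D135931) (iv4 F161930) (iv1 F161931) F99816 D136402
def n208780 : Q := act 6 n135070
theorem D208780 : act 6 n135070 = n208780 := rfl
theorem F450830 : act 2 n208780 = n192601 := d3_1 D208780 (iv6 F450084) (iv2 F450081)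
theorem F450831 : act 0 n208780 = n187856 := d21_4 (iv5 F404651) (iv1 F405051) (iv5 F405054) D208780 (iv6 F372581) (iv5 D143255) (iv1 F181568) D141471 (iv6 F450068) F450070
theorem F450832 : act 1 n208780 = n192567 := d15_1 (iv0 F450831) F387104 (iv2 F371705)
theorem F450833 : act 7 n192600 = n208780 := d15_2 F387212 F387211 F450830
def n208781 : Q := act 0 n135071
theorem D208781 : act 0 n135071 = n208781 := rfl
theorem F450834 : act 1 n188178 = n208781 := d15_0 (iv0 D208781) (iv7 F450092) F450089
def n208782 : Q := act 1 n135071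
theorem D208782 : act 1 n135071 = n208782 := rfl
theorem F450835 : act 1 n208782 = n188178 := d15_1 D208782 (iv7 F450823) F450821
theorem F450836 : act 3 n135923 = n208782 := d20_3 F431538 (iv1 F431531) (iv4 F400481) (iv1 D208782) F338901 F338900 D197569 (iv4 F405197) F400485 (iv1 F431541)
theorem F450837 : act 4 n208756 = n208782 := d20_6 (iv4 F100843) F100844 F53635 (iv3 F98797) D135035 D208756 (iv1 D208782) (iv4 D135071) F98811 D63484
theorem F450838 : act 6 n187855 = n208782 := d21_3 D100450 (iv1 F292010) F371703 (iv1 D208782) (iv6 F338920) (iv5 D100429) (iv1 D46868) D46869 F74084 D46876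
theorem F450839 : act 2 n208782 = n188125 := d3_1 F450838 (iv6 D188125) (iv2 F371704)
theorem F450840 : act 5 n208782 = n192550 := d12_1 F450838 (iv6 D192550) (iv5 F367364) F367360 F371703
theorem F450841 : act 7 n208781 = n188125 := d15_2 F450835 F450834 (iv2 F450839)
theorem F450842 : act 3 n188128 = n208781 := d8_3 F450841 F372391 D188128
def n208783 : Q := act 5 n135071
theorem D208783 : act 5 n135071 = n208783 := rfl
theorem F450843 : act 3 n208783 = n135902 := d6_1 D208783 F338903 (iv3 F338901)
theorem F450844 : act 6 n208783 = n192587 := d12_2 F338920 D208783 (iv5 D192587) (iv6 D100430) D100429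
theorem F450845 : act 7 n208783 = n136548 := d13_2 F450092 D208783 (iv5 F450093)
theorem F450846 : act 0 n135911 = n208783 := d19_0 (iv5 D208783) (iv4 D135071) F98811 D63484 F98813 F95122 F47409 (iv1 F46688) (iv5 D14152) D14151 F23640 D24334 D49899 F78924 D64424 F112077 (iv5 F247050) (iv4 D135912) D135911
def n208784 : Q := act 3 n135074
theorem D208784 : act 3 n135074 = n208784 := rfl
theorem F450847 : act 2 n208784 = n195160 := d0_1 D208784 F396026 F345930 D183451 F365768
theorem F450848 : act 4 n208784 = n195159 := d5_2 F371134 D208784 F396021 (iv4 F374579) (iv3 F374575)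
theorem F450849 : act 0 n208784 = n153967 := d19_4 (iv1 F377684) F374080 F371134 D208784 (iv5 D153967) F331860 (iv3 F331857) (iv1 D119512) (iv5 F345597) F78593 (iv3 F78568) D107620 F166211 (iv4 F327143) F153133 (iv1 F352687) (iv5 F377065) F377064 D189768
theorem F450850 : act 6 n195158 = n208784 := d21_3 (iv5 D137872) F220446 (iv5 F396016) F450849 (iv6 F358066) (iv5 F358065) D204554 F432850 (iv6 D195130) (iv1 F221093)
theorem F450851 : act 1 n208784 = n153962 := d15_1 (iv0 F450849) (iv7 F450112) F450108
def n208785 : Q := act 6 n135074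
theorem D208785 : act 6 n135074 = n208785 := rfl
theorem F450852 : act 2 n208785 = n194038 := d3_1 D208785 F391835 F365768
theorem F450853 : act 3 n208785 = n195158 := d7_1 D208785 F450850 (iv3 D208784)
theorem F450854 : act 4 n208785 = n201087 := d10_1 D208785 F419043 F371134
theorem F450855 : act 5 n208785 = n194012 := d12_1 D208785 F431053 (iv5 D204092) (iv6 F387175) F387174
theorem F450856 : act 7 n208785 = n194035 := d14_2 F384472 D208785 (iv6 F391825) F372591 D191796
theorem F450857 : act 0 n208785 = n206029 := d21_4 F374844 F387176 F387174 D208785 F438910 F229804 (iv1 F395967) F395969 (iv6 F360922) F374842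
def n208786 : Q := act 4 n135077
theorem D208786 : act 4 n135077 = n208786 := rfl
theorem F450858 : act 2 n208786 = n187870 := d1_1 D208786 (iv4 F450130) (iv2 F450132)
theorem F450859 : act 3 n208786 = n206241 := d5_1 D208786 F439876 F221654 F100843 D135077
theorem F450860 : act 5 n208786 = n203931 := d9_2 (iv5 F217302) D208786 (iv4 D203931) (iv5 D121361) (iv4 F107997) (iv5 F328714) (iv4 F217057) F371718 F371717 D187869 F371722 F252362 (iv4 F329095) F216330 F209315
theorem F450861 : act 7 n208786 = n187854 := d11_2 (iv7 F217303) D208786 F371700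
theorem F450862 : act 0 n208786 = n187868 := d17_0 (iv5 F371723) (iv1 F402775) (iv5 F450173) (iv4 D208615) (iv5 D134801) (iv0 F410160) (iv5 F450139) F450142 D208786
theorem F450863 : act 1 n208786 = n187867 := d18_8 (iv1 D151710) (iv4 F238587) F430300 F430297 (iv5 F444382) (iv4 F450138) F450142 D208786 F371719
theorem F450864 : act 6 n208786 = n201597 := d21_5 (iv5 D151678) D151675 F421767 F421763 (iv1 F450863) (iv5 F421090) F355705 (iv5 F421101) (iv6 F421104) F402777
def n208787 : Q := act 6 n135077
theorem D208787 : act 6 n135077 = n208787 := rfl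
theorem F450865 : act 2 n208787 = n198590 := d3_1 D208787 (iv6 F450131) (iv2 F450132)
theorem F450866 : act 3 n208787 = n135078 := d7_1 D208787 (iv6 D135078) D135077
theorem F450867 : act 4 n208787 = n201597 := d10_1 D208787 (iv6 F450864) (iv4 D208786)
theorem F450868 : act 5 n208787 = n198589 := d12_1 D208787 F408421 (iv5 F327508) F216233 (iv5 F217302)
theorem F450869 : act 0 n208787 = n203375 := d21_4 (iv5 F411688) (iv1 F355779) (iv5 F217302) D208787 (iv6 D203375) (iv5 F428058) (iv1 F428060) (iv5 F427843) (iv6 F450097) F450100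
theorem F450870 : act 0 n136623 = n208787 := d17_2 F359419 D136623 F450868 F408420 (iv5 F222316) (iv0 D139132) (iv5 D65301) F319249 (iv4 F219617)
theorem F450871 : act 7 n201607 = n208787 := d11_0 F450867 F421088 D201607
def n208788 : Q := act 0 n135078
theorem D208788 : act 0 n135078 = n208788 := rfl
def n208789 : Q := act 7 n135078
theorem D208789 : act 7 n135078 = n208789 := rfl
theorem F450872 : act 2 n208789 = n208043 := d4_1 D208789 (iv7 D208043) (iv2 F217304)
theorem F450873 : act 3 n208789 = n201607 := d8_1 D208789 F450871 F450866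
theorem F450874 : act 4 n208789 = n195912 := d11_1 D208789 F398702 F221657
theorem F450875 : act 5 n208789 = n204802 := d13_1 D208789 F433637 F365139
theorem F450876 : act 6 n208789 = n205497 := d14_1 D208789 F436712 (iv6 D134876) (iv7 F98816) D135078
theorem F450877 : act 1 n208043 = n208788 := d15_0 (iv0 D208788) D208789 F450872
theorem F450878 : act 1 n208042 = n208789 := d15_1 D208042 (iv7 D208789) F217304
theorem F450879 : act 0 n208743 = n201612 := d20_4 F447573 F409087 (iv4 F217229) (iv3 F450670) (iv3 D201612) (iv4 D114884) D114882 D201607 (iv3 F450873) (iv1 F450878)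
theorem F450880 : act 7 n208788 = n208042 := d15_2 F447587 F450877 F447577
theorem F450881 : act 2 n208788 = n208041 := d15_3 (iv0 D208041) D208042 (iv7 F450880)
theorem F450882 : act 7 n208041 = n198766 := d4_2 (iv7 F450880) F450881 (iv2 F447577)
theorem F450883 : act 4 n198770 = n208041 := d11_3 F450882 F409142 D198770
theorem F450884 : act 1 n208789 = n208041 := d15_1 F450878 F450882 (iv2 F447577)
theorem F450885 : act 6 n208041 = n203778 := d10_2 (iv6 F409159) F450883 (iv4 F429773)
theorem F450886 : act 5 n193874 = n208041 := d21_2 F370513 D193874 F450885 (iv1 D203778) (iv6 D120524) (iv5 D55489) D55486 (iv5 F301828) D125130 F370514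
theorem F450887 : act 7 n135914 = n193874 := d13_0 F450886 F450882 F409143
def n208790 : Q := act 5 n135087
theorem D208790 : act 5 n135087 = n208790 := rfl
theorem F450888 : act 3 n208790 = n135088 := d6_1 D208790 (iv5 D135088) D135087
theorem F450889 : act 7 n208790 = n191816 := d13_2 F437772 D208790 F437776
theorem F450890 : act 0 n204528 = n208790 := d19_0 (iv5 D208790) F217311 D205655 (iv1 F437354) F418177 F418175 (iv3 F347328) (iv1 F358872) F358867 F358866 F272765 D174037 F272769 (iv4 F272770) (iv3 F312596) (iv1 D57749) D57752 D123970 D204528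
def n208791 : Q := act 6 n135088
theorem D208791 : act 6 n135088 = n208791 := rfl
theorem F450891 : act 2 n208791 = n146914 := d3_1 D208791 F354740 F354661
theorem F450892 : act 4 n208791 = n186632 := d10_1 D208791 (iv6 D186632) (iv4 F354660)
theorem F450893 : act 5 n208791 = n146913 := d12_1 D208791 F354739 (iv5 D134333) (iv6 F354728) D135088
theorem F450894 : act 7 n208791 = n188614 := d14_2 F354662 D208791 (iv6 D188614) F366187 F354762
theorem F450895 : act 0 n208791 = n189141 := d21_10 F375859 (iv1 D146802) (iv5 F346311) (iv6 D46328) (iv1 F294149) D43582 (iv5 F323234) D63490 D135088 D208791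
theorem F450896 : act 0 n135194 = n208791 := d21_4 (iv5 F152910) F301805 (iv5 F301807) (iv6 F350737) (iv6 D208791) (iv5 D135088) (iv1 F207066) (iv5 F332676) (iv6 F295368) (iv1 F136530)
theorem F450897 : act 0 n188181 = n188356 := d21_4 F389668 (iv1 F372597) (iv5 D188180) D188181 (iv6 D188356) F373119 (iv1 F360248) (iv5 F450893) (iv6 D208791) (iv1 F389671)
theorem F450898 : act 0 n189137 = n208681 := d20_4 (iv4 F450892) F450895 F375858 (iv3 F375855) (iv3 D208681) F404949 F362603 (iv4 F362605) (iv3 F387551) F387556
def n208792 : Q := act 2 n135091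
theorem D208792 : act 2 n135091 = n208792 := rfl
theorem F450899 : act 3 n208792 = n205651 := d0_2 D135091 D208792 (iv2 F437771) F437774 F354760
theorem F450900 : act 4 n208792 = n207012 := d1_2 F441421 D208792 F442959
theorem F450901 : act 7 n208792 = n135113 := d4_2 F441256 D208792 (iv2 F441253)
theorem F450902 : act 1 n208792 = n135114 := d15_0 (iv0 F441257) F441256 D208792
theorem F450903 : act 1 n135117 = n208792 := d15_0 F450902 (iv7 F363947) (iv2 F363945)
def n208793 : Q := act 5 n135091
theorem D208793 : act 5 n135091 = n208793 := rfl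
theorem F450904 : act 3 n208793 = n135092 := d6_1 D208793 (iv5 D135092) D135091
theorem F450905 : act 7 n208793 = n146916 := d13_2 F441256 D208793 (iv5 F441254)
theorem F450906 : act 4 n208793 = n206816 := d16_2 F441421 D208793 (iv5 D206816) (iv4 F207586) D135115 (iv4 F442570) (iv5 F446595) F446598 F442959
theorem F450907 : act 6 n188610 = n208793 := d14_5 F450905 (iv6 D146916) (iv7 F183465) (iv6 F370528) (iv7 F374185)
def n208794 : Q := act 6 n135091
theorem D208794 : act 6 n135091 = n208794 := rfl
theorem F450908 : act 3 n208794 = n135093 := d7_1 D208794 (iv6 D135093) D135091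
theorem F450909 : act 7 n208794 = n208446 := d14_2 F441256 D208794 (iv6 D208446) (iv7 F336986) (iv6 F441255)
theorem F450910 : act 0 n208481 = n208794 := d20_4 (iv4 F347085) (iv1 F389774) F389775 D208481 F450908 (iv4 F441409) (iv1 F445357) F445360 F218739 (iv1 F347090)
def n208795 : Q := act 5 n135093
theorem D208795 : act 5 n135093 = n208795 := rfl
theorem F450911 : act 6 n208795 = n188611 := d12_2 D135093 D208795 (iv5 D188611) F366185 (iv5 D135092)
theorem F450912 : act 7 n208795 = n208448 := d13_2 F354755 D208795 (iv5 D208448)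
theorem F450913 : act 0 n208795 = n208500 := d18_0 (iv4 F450201) (iv1 D183886) (iv4 F285562) (iv5 F445316) F445315 F367310 (iv4 F216409) (iv0 F392050) D208795
def n208796 : Q := act 4 n135110
theorem D208796 : act 4 n135110 = n208796 := rfl
theorem F450914 : act 2 n208796 = n135154 := d1_1 D208796 F217357 (iv2 F217321)
theorem F450915 : act 5 n208796 = n135420 := d9_2 D135110 D208796 (iv4 D135420) (iv5 D63658) (iv4 D30043) (iv5 D14257) (iv4 F23762) D29993 D63514 D135152 (iv4 F239062) (iv5 D152044) F108163 F52397 (iv4 F98820)
theorem F450916 : act 7 n208796 = n135139 := d11_2 (iv7 F217322) D208796 (iv4 D135139)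
theorem F450917 : act 0 n208796 = n135150 := d18_2 (iv1 F217324) D208796 F442142 (iv5 D206774) (iv4 D129281) F95827 (iv4 F209283) F209285 (iv5 F217325)
theorem F450918 : act 1 n208796 = n135149 := d18_6 (iv1 D63606) (iv4 D30030) D30027 (iv4 F98820) D135110 D208796 (iv4 F442129) F442131 (iv5 D135294)
def n208797 : Q := act 6 n135110
theorem D208797 : act 6 n135110 = n208797 := rfl
theorem F450919 : act 2 n208797 = n135158 := d3_1 D208797 (iv6 D135158) (iv2 F217321)
theorem F450920 : act 3 n208797 = n203317 := d7_1 D208797 (iv6 F450097) F450096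
theorem F450921 : act 5 n208797 = n203416 := d12_1 D208797 (iv6 F428198) (iv5 D138077) (iv6 F347013) D135110
theorem F450922 : act 7 n208797 = n203315 := d14_2 (iv7 F217322) D208797 F427836 F426679 (iv6 D135140)
def n208798 : Q := act 5 n135114
theorem D208798 : act 5 n135114 = n208798 := rfl
theorem F450923 : act 2 n208798 = n135115 := d2_1 D208798 (iv5 D135115) D135114
theorem F450924 : act 3 n208798 = n189575 := d6_1 D208798 F377013 (iv3 F363949)
theorem F450925 : act 6 n208798 = n191797 := d12_2 (iv6 F363950) D208798 (iv5 D191797) F233026 (iv5 F285124)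
theorem F450926 : act 7 n208798 = n189572 := d13_2 F363947 D208798 F377009
theorem F450927 : act 4 n208798 = n207707 := d16_2 (iv4 F217331) D208798 F446095 F441972 F441254 F396564 (iv5 D195280) F213182 F213183
theorem F450928 : act 1 n207707 = n208654 := d18_6 (iv1 D108424) F79254 D105490 (iv4 F217331) D208798 F450927 (iv4 D208654) (iv0 F404700) (iv5 D197526)
theorem F450929 : act 0 n188179 = n208798 := d18_2 (iv1 F442304) F396570 F450927 F446095 F441972 (iv0 F441258) F217335 F207590 D206818
def n208799 : Q := act 1 n135115
theorem D208799 : act 1 n135115 = n208799 := rfl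
theorem F450930 : act 1 n208799 = n189572 := d15_1 D208799 (iv7 F450926) F450923
theorem F450931 : act 4 n208799 = n206820 := d17_9 (iv1 F442312) (iv5 D195281) F207587 D206816 (iv4 F450906) (iv5 D208793) F218461 D135115 D208799
theorem F450932 : act 2 n188179 = n208799 := d1_3 F450931 (iv2 F442315) F396570
def n208800 : Q := act 7 n135115
theorem D208800 : act 7 n135115 = n208800 := rfl
theorem F450933 : act 2 n208800 = n189572 := d4_1 D208800 (iv7 F450926) F450923
theorem F450934 : act 3 n208800 = n135121 := d8_1 D208800 (iv7 D135121) (iv3 F217332)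
theorem F450935 : act 5 n208800 = n135117 := d13_1 D208800 (iv7 D135117) D135115
theorem F450936 : act 6 n208800 = n186639 := d14_1 D208800 F367521 (iv6 F234478) (iv7 F434614) F434613
theorem F450937 : act 1 n188179 = n208800 := d15_1 (iv0 F450929) (iv7 D208800) (iv2 F450923)
def n208801 : Q := act 4 n135118
theorem D208801 : act 4 n135118 = n208801 := rfl
theorem F450938 : act 2 n208801 = n206779 := d1_1 D208801 (iv4 D206779) F217337
theorem F450939 : act 3 n208801 = n187891 := d5_1 D208801 F371764 (iv3 F371725) (iv4 F450130) F450133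
theorem F450940 : act 6 n208801 = n198592 := d10_2 (iv6 F327502) D208801 (iv4 D198592)
theorem F450941 : act 7 n208801 = n187886 := d11_2 F444158 D208801 (iv4 F444161)
theorem F450942 : act 0 n208801 = n135357 := d18_2 D135118 D208801 (iv4 D135357) (iv5 D63627) (iv4 D30035) F48253 (iv4 F98820) (iv0 D63500) D63504
theorem F450943 : act 1 n208801 = n135302 := d18_6 F217158 (iv4 D130732) (iv1 F95822) (iv4 F326902) (iv5 F327501) D208801 (iv4 D135302) D135301 F217536
def n208802 : Q := act 0 n135119
theorem D208802 : act 0 n135119 = n208802 := rfl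
theorem F450944 : act 4 n208802 = n136865 := d18_3 (iv1 F213543) D135119 D208802 (iv5 D136865) (iv4 F204091) F330926 F214728 (iv0 D130717) D130720
theorem F450945 : act 6 n136868 = n208802 := d10_0 F450944 F220049 D136868
theorem F450946 : act 5 n203983 = n208802 := d16_1 D203983 F450944 (iv5 D136865) (iv4 F204091) (iv5 F340654) F317284 D179685 F279898 (iv2 F195636)
theorem F450947 : act 1 n135131 = n208802 := d18_6 (iv1 F217266) F217261 (iv1 F213377) F213151 D63508 D135131 F450944 (iv0 F338471) (iv5 D135275)
theorem F450948 : act 3 n204573 = n208802 := d20_5 (iv4 D120479) F301829 (iv4 F329260) (iv3 F221895) F432908 F450944 F347401 (iv4 F373058) F373057 (iv1 F304518)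
def n208803 : Q := act 1 n135119
theorem D208803 : act 1 n135119 = n208803 := rfl
theorem F450949 : act 1 n208803 = n135131 := d15_1 D208803 (iv7 F447243) F447241
theorem F450950 : act 4 n208803 = n188313 := d18_7 F208414 (iv4 D129991) (iv1 F213145) F213147 D63504 D135119 D208803 (iv0 D188313) F347394
theorem F450951 : act 3 n187989 = n208803 := d20_9 (iv4 D135119) D135118 D208801 F450939 (iv1 F387429) F390621 (iv4 F390622) (iv1 D188127) (iv4 F372042) (iv1 D208803)
theorem F450952 : act 6 n187988 = n208803 := d21_3 F178323 F365267 (iv5 F372040) (iv1 D208803) (iv6 F434618) (iv5 F450284) (iv1 F450287) F387482 F387481 F372032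
def n208804 : Q := act 3 n135119
theorem D208804 : act 3 n135119 = n208804 := rfl
theorem F450953 : act 4 n208804 = n207647 := d5_2 D135119 D208804 (iv3 F445834) F442570 F217332
theorem F450954 : act 5 n208804 = n208709 := d6_2 F384506 D208804 (iv3 F450522)
theorem F450955 : act 0 n208804 = n208762 := d19_4 D29990 D63504 D135119 D208804 (iv5 D208762) (iv4 D135037) F98797 (iv1 F98781) F98783 (iv4 D63032) F77757 (iv1 F77755) (iv5 D28195) (iv4 F22407) (iv3 D6773) (iv1 D3056) D3057 D6779 D14240
theorem F450956 : act 0 n188055 = n208804 := d20_4 (iv4 D188065) (iv1 D90765) (iv4 F139690) (iv3 F372229) (iv3 D208804) (iv4 D135119) D135118 D208801 F450939 (iv1 F387429)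
def n208805 : Q := act 7 n135119
theorem D208805 : act 7 n135119 = n208805 := rfl
theorem F450957 : act 2 n208805 = n135131 := d4_1 D208805 (iv7 F447243) F447241
theorem F450958 : act 4 n208805 = n135121 := d11_1 D208805 (iv7 D135121) D135119
def n208806 : Q := act 3 n135131
theorem D208806 : act 3 n135131 = n208806 := rfl
theorem F450959 : act 4 n208806 = n196004 := d5_2 D135131 D208806 (iv3 F399618) F284761 F337794
theorem F450960 : act 7 n208806 = n208640 := d8_2 F447243 D208806 F450288
theorem F450961 : act 0 n208806 = n195984 := d19_4 (iv1 F98822) D63508 D135131 D208806 F398958 F366023 F219422 D136343 F355281 (iv4 F418591) F418590 (iv1 F214604) F333215 (iv4 F391106) F391108 (iv1 F411702) F411700 (iv4 F216903) F216902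
def n208807 : Q := act 5 n135131
theorem D208807 : act 5 n135131 = n208807 := rfl
theorem F450962 : act 4 n208807 = n135418 := d9_1 D208807 (iv5 F354649) F271953 F318044 F213147 D63504 D135119 (iv5 F384506) (iv4 D191808) (iv5 D98962) D98961 F317519 F213151 D63508 D135131
def n208808 : Q := act 3 n135137
theorem D208808 : act 3 n135137 = n208808 := rfl
theorem F450963 : act 5 n208808 = n207285 := d6_2 (iv5 F217346) D208808 (iv3 D207285)
theorem F450964 : act 6 n208808 = n206211 := d7_2 (iv6 F407560) D208808 F439729
theorem F450965 : act 7 n208808 = n135146 := d8_2 (iv7 F217696) D208808 (iv3 D135146)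
theorem F450966 : act 4 n206212 = n208808 := d19_2 F399684 F439734 (iv3 D208808) (iv1 F217347) F98830 F48187 F23794 (iv1 F11046) D14011 F23361 (iv3 F23581) D29698 (iv5 F54288) (iv4 F78791) (iv3 D49834) D49832 D107894 (iv4 F238197) (iv3 F399683)
def n208809 : Q := act 4 n135137
theorem D208809 : act 4 n135137 = n208809 := rfl
theorem F450967 : act 2 n208809 = n135143 := d1_1 D208809 (iv4 D135143) (iv2 F217695)
theorem F450968 : act 3 n208809 = n197817 := d5_1 D208809 F405877 (iv3 F439733) F450966 (iv3 D208808)
theorem F450969 : act 6 n208809 = n201439 := d10_2 (iv6 F407560) D208809 F420520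
theorem F450970 : act 7 n208809 = n135147 := d11_2 (iv7 F217696) D208809 (iv4 D135147)
def n208810 : Q := act 3 n135138
theorem D208810 : act 3 n135138 = n208810 := rfl
theorem F450971 : act 5 n208810 = n207284 := d6_2 (iv5 F217349) D208810 (iv3 D207284)
theorem F450972 : act 7 n208810 = n135142 := d8_2 (iv7 F217700) D208810 (iv3 D135142)
theorem F450973 : act 4 n208810 = n207906 := d20_6 F98582 (iv1 F98575) F98573 (iv3 F98829) (iv1 F217348) D208810 F446948 (iv4 D197529) F167638 (iv1 F98584)
theorem F450974 : act 6 n191842 = n208810 := d10_0 F450973 (iv6 D207906) F446538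
theorem F450975 : act 1 n146916 = n208810 := d17_8 F446948 (iv5 F450585) F450586 (iv5 F446095) (iv4 F450927) (iv5 D208798) (iv0 F441257) F441254 F450973
def n208811 : Q := act 4 n135138
theorem D208811 : act 4 n135138 = n208811 := rfl
theorem F450976 : act 2 n208811 = n135147 := d1_1 D208811 (iv4 D135147) (iv2 F217699)
theorem F450977 : act 7 n208811 = n135143 := d11_2 (iv7 F217700) D208811 (iv4 D135143)
theorem F450978 : act 5 n208811 = n191827 := d16_1 D208811 (iv4 D191827) F321745 (iv4 F108162) (iv5 F212106) F212107 (iv5 F217346) F217696 (iv2 F217699)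
def n208812 : Q := act 6 n135138
theorem D208812 : act 6 n135138 = n208812 := rfl
theorem F450979 : act 2 n208812 = n135148 := d3_1 D208812 (iv6 D135148) (iv2 F217699)
theorem F450980 : act 3 n208812 = n191842 := d7_1 D208812 F450974 (iv3 D208810)
def n208813 : Q := act 3 n135139
theorem D208813 : act 3 n135139 = n208813 := rfl
theorem F450981 : act 2 n208813 = n208629 := d0_1 D208813 F450243 F216953 F345284 (iv2 F217350)
theorem F450982 : act 6 n208813 = n208626 := d7_2 F406214 D208813 F450224
def n208814 : Q := act 0 n135142
theorem D208814 : act 0 n135142 = n208814 := rfl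
def n208815 : Q := act 2 n135142
theorem D208815 : act 2 n135142 = n208815 := rfl
theorem F450983 : act 5 n208815 = n207675 := d2_2 F442149 D208815 F445962
theorem F450984 : act 1 n208815 = n146916 := d15_0 F450975 F450972 D208815
def n208816 : Q := act 4 n135142
theorem D208816 : act 4 n135142 = n208816 := rfl
theorem F450985 : act 7 n208816 = n207906 := d11_2 F450972 D208816 (iv4 F450973)
theorem F450986 : act 5 n208816 = n206832 := d16_7 F446651 (iv5 F375653) (iv4 F442319) (iv5 F442320) (iv4 F442148) F442149 D208816 (iv7 F445821) (iv2 F446650)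
theorem F450987 : act 0 n208816 = n197679 := d18_2 F442322 D208816 F405327 F167922 F98767 D129411 (iv4 F207586) D135113 F363952
theorem F450988 : act 3 n208816 = n206833 := d20_3 (iv4 F442289) F442322 D208816 F442344 F212706 F96929 (iv1 F99875) (iv4 F99879) (iv3 F211822) F442290
theorem E103948 : n208814 = n208793 := (c20_8 F357333 (iv1 F357331) (iv4 F352312) (iv3 F442963) F442964 (iv3 F450988) (iv4 D208816) D208814 F450906 (iv3 F442655) (iv1 D206936))
theorem F450989 : act 1 n208793 = n135142 := (sb E103948 (iv0 D208814))
def n208817 : Q := act 6 n135142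
theorem D208817 : act 6 n135142 = n208817 := rfl
theorem F450990 : act 3 n208817 = n135144 := d7_1 D208817 (iv6 D135144) D135142
def n208818 : Q := act 0 n135143
theorem D208818 : act 0 n135143 = n208818 := rfl
theorem F450991 : act 4 n208818 = n208707 := d18_3 D63512 D135143 D208818 F450516 F217261 F213376 F213147 (iv0 D29990) D29993
theorem F450992 : act 1 n135147 = n208818 := d15_0 (iv0 D208818) (iv7 F450977) F450976
theorem F450993 : act 3 n154779 = n208818 := d20_9 (iv4 D135147) (iv1 D63513) D63514 (iv3 F345284) F364227 (iv3 F449933) F449934 (iv1 D154781) (iv4 F243428) (iv1 F450992)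
theorem F450994 : act 6 n208818 = n154778 := d7_2 D154779 F450993 (iv3 D154778)
def n208819 : Q := act 1 n135143
theorem D208819 : act 1 n135143 = n208819 := rfl
theorem F450995 : act 1 n208819 = n135147 := d15_1 D208819 (iv7 F450970) F450967
theorem F450996 : act 4 n208819 = n207078 := d18_7 F330934 F330930 D130793 F209357 (iv5 F217325) D135143 D208819 F443219 F375875
theorem F450997 : act 6 n198205 = n208819 := d10_0 F450996 F443217 (iv4 F407225)
theorem F450998 : act 3 n198207 = n208819 := d20_5 (iv4 D88015) (iv1 F304651) D123754 (iv3 F390603) (iv1 F407232) F450996 (iv1 F444220) F444221 F407625 F309406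
def n208820 : Q := act 3 n135143
theorem D208820 : act 3 n135143 = n208820 := rfl
theorem F450999 : act 4 n208820 = n206833 := d5_2 D135143 D208820 (iv3 F450988) (iv4 D208816) (iv3 D135142)
theorem F451000 : act 0 n208820 = n184060 := d19_4 D129286 (iv5 F217325) D135143 D208820 F350386 (iv4 D134947) F98746 (iv1 F79340) (iv5 D50110) (iv4 D24440) (iv3 F22394) D28182 (iv5 F82068) F82069 F48293 (iv1 F39104) (iv5 F23420) D29553 (iv3 F95356)
def n208821 : Q := act 5 n135143
theorem D208821 : act 5 n135143 = n208821 := rfl
theorem F451001 : act 7 n208821 = n191827 := d13_2 F450977 D208821 (iv5 F450978)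
theorem F451002 : act 4 n208821 = n135416 := d16_2 D135143 D208821 (iv5 D135416) (iv4 F98983) (iv5 F211042) F207487 F211052 (iv7 F217696) F217695
theorem F451003 : act 0 n208821 = n179688 := d18_0 (iv4 D179688) (iv1 F366449) (iv4 F431635) (iv5 F434642) F434641 (iv0 F450518) (iv4 F450991) (iv0 D208818) D208821
theorem F451004 : act 0 n184712 = n208821 := d18_2 F366448 D184712 F451002 (iv5 D135416) (iv4 F98983) F315460 (iv4 F191559) F315465 D152169
def n208822 : Q := act 6 n135143
theorem D208822 : act 6 n135143 = n208822 := rfl
theorem F451005 : act 2 n208822 = n201439 := d3_1 D208822 (iv6 F450969) F450967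
theorem F451006 : act 4 n208822 = n135144 := d10_1 D208822 (iv6 D135144) D135143
theorem F451007 : act 0 n192756 = n208822 := d18_0 F451006 (iv1 F407566) F407563 F169166 (iv4 F204070) F216729 D208550 F449848 F400194
def n208823 : Q := act 2 n135146
theorem D208823 : act 2 n135146 = n208823 := rfl
def n208824 : Q := act 4 n135146
theorem D208824 : act 4 n135146 = n208824 := rfl
theorem F451008 : act 7 n208824 = n206212 := d11_2 F450965 D208824 F450966
theorem F451009 : act 5 n208824 = n196145 := d17_5 D189573 (iv5 F398844) (iv1 F442154) F442151 D208824 (iv0 F399605) (iv5 F398390) (iv0 F398392) F284759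
theorem F451010 : act 0 n208824 = n208677 := d17_0 F450419 (iv1 D190471) (iv5 F379605) F379604 F377013 (iv0 F337797) D207580 F445541 D208824
theorem F451011 : act 1 n208824 = n208675 := d18_6 D63396 D134898 F442153 (iv4 F442150) F442151 D208824 (iv4 D208675) (iv0 D134908) (iv5 D63399)
theorem F451012 : act 3 n208824 = n196146 := d20_3 (iv4 F445543) F445602 D208824 (iv1 F420028) (iv3 F420031) (iv4 F413452) F413454 (iv4 D188935) D188934 (iv1 F412727)
def n208825 : Q := act 3 n135147
theorem D208825 : act 3 n135147 = n208825 := rfl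
theorem F451013 : act 4 n208825 = n196146 := d5_2 D135147 D208825 (iv3 F451012) (iv4 D208824) (iv3 D135146)
theorem F451014 : act 7 n208825 = n197817 := d8_2 F450970 D208825 (iv3 F450968)
theorem F451015 : act 0 n208825 = n197805 := d19_4 (iv1 F209287) F211052 D135147 D208825 F405845 (iv4 F443091) F443090 F280132 F347623 (iv4 F374639) F374638 F332260 (iv5 F332616) D159543 F251273 F252352 (iv5 F328714) (iv4 F217057) F217056
theorem F451016 : act 0 n187955 = n208825 := d20_4 F216777 F371954 F371952 (iv3 F371937) (iv3 D208825) (iv4 D135147) (iv1 D63513) D63514 (iv3 F345284) F364227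
theorem F451017 : act 6 n208825 = n195917 := d21_5 F202863 (iv1 F201848) F339955 D187955 F451016 (iv5 D195917) (iv1 D106428) D106429 F163684 D126164
theorem F451018 : act 2 n196742 = n208825 := d15_3 (iv0 F451016) (iv0 F420020) F420019
def n208826 : Q := act 5 n135147
theorem D208826 : act 5 n135147 = n208826 := rfl
theorem F451019 : act 2 n208826 = n191827 := d2_1 D208826 (iv5 F450978) F450976
theorem F451020 : act 4 n208826 = n135413 := d9_1 D208826 (iv5 D135413) (iv4 F217673) F217674 F209357 (iv5 F217325) D135143 D208821 F451002 (iv5 D135416) (iv4 F98983) (iv5 F211042) F207487 F211052 D135147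
theorem F451021 : act 0 n179688 = n208826 := d18_2 F366450 D179688 F451020 (iv5 D135413) (iv4 F217673) F315462 (iv4 F191563) F316614 D152158
theorem F451022 : act 1 n184712 = n208826 := d18_6 F315929 (iv4 F354621) F354617 F135070 D88075 D184712 F451020 (iv0 F442168) (iv5 D206780)
def n208827 : Q := act 6 n135147
theorem D208827 : act 6 n135147 = n208827 := rfl
theorem F451023 : act 3 n208827 = n195917 := d7_1 D208827 (iv6 F451017) (iv3 D208825)
theorem F451024 : act 4 n208827 = n135148 := d10_1 D208827 (iv6 D135148) D135147
theorem F451025 : act 7 n208827 = n196736 := d14_2 F450970 D208827 (iv6 F420034) (iv7 F420519) (iv6 F450969)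
theorem F451026 : act 5 n195916 = n208827 := d13_3 F451025 (iv5 D196736) (iv7 F398718)
theorem F451027 : act 2 n208827 = n199231 := d2_1 F451026 (iv5 D199231) (iv2 F401627)
theorem F451028 : act 4 n199231 = n208812 := d1_2 (iv4 F451024) F451027 F450979
theorem F451029 : act 6 n199231 = n208811 := d3_2 D208827 F451027 F450976
def n208828 : Q := act 1 n135148
theorem D208828 : act 1 n135148 = n208828 := rfl
theorem F451030 : act 6 n136506 = n208828 := d21_3 F220019 (iv1 F218609) D136506 (iv1 D208828) (iv6 D135148) (iv5 F211052) (iv1 D129287) D129288 F326905 D136814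
def n208829 : Q := act 5 n135150
theorem D208829 : act 5 n135150 = n208829 := rfl
theorem F451031 : act 2 n208829 = n204242 := d2_1 D208829 (iv5 F434642) F434640
theorem F451032 : act 4 n208829 = n135394 := d9_1 D208829 (iv5 D135394) (iv4 D63648) F211046 D129276 D206772 F442129 (iv5 F432841) F432840 (iv5 D135404) (iv4 D63653) F211050 D129281 D206774 (iv4 F442142)
def n208830 : Q := act 6 n135150
theorem D208830 : act 6 n135150 = n208830 := rfl
theorem F451033 : act 2 n208830 = n189151 := d3_1 D208830 F434646 F434640
theorem F451034 : act 3 n208830 = n142816 := d7_1 D208830 F360597 F351244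
theorem F451035 : act 4 n208830 = n189150 := d10_1 D208830 F442143 (iv4 F442142)
theorem F451036 : act 7 n208830 = n208567 := d14_2 (iv7 F407627) D208830 (iv6 D208567) (iv7 F404827) D198328
theorem F451037 : act 5 n142814 = n208830 := d6_0 F451034 (iv5 D142816) D142814
def n208831 : Q := act 1 n135152
theorem D208831 : act 1 n135152 = n208831 := rfl
theorem F451038 : act 1 n208831 = n135420 := d15_1 D208831 (iv7 F239069) F239068
theorem F451039 : act 5 n208831 = n135357 := d17_7 (iv1 F217340) (iv5 D63508) (iv1 D29991) D29993 D63514 D135152 D208831 (iv0 F450942) (iv4 D208801)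
theorem F451040 : act 4 n208831 = n135315 := d17_9 F319772 (iv5 D120304) (iv1 F319894) D135404 (iv4 F432840) F432841 (iv0 D135149) D135152 D208831
theorem F451041 : act 3 n199542 = n208831 := d19_19 (iv1 D208831) (iv5 D135152) (iv4 D63514) F48185 D29995 (iv5 F79233) (iv4 D50057) F38282 (iv1 F46384) F46385 F39699 F23684 F23682 (iv5 F11932) D16535 D34148 (iv1 F314688) D124859 (iv4 F412592)
theorem F451042 : act 6 n199393 = n208831 := d21_3 (iv5 D111457) (iv1 F172597) D199393 (iv1 D208831) F356117 F172895 F170487 D198791 F409257 (iv1 F230758)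
theorem F451043 : act 2 n208831 = n199397 := d3_1 F451042 (iv6 D199397) (iv2 F411957)
def n208832 : Q := act 7 n135152
theorem D208832 : act 7 n135152 = n208832 := rfl
theorem F451044 : act 2 n208832 = n135420 := d4_1 D208832 (iv7 F239069) F239068
theorem F451045 : act 3 n208832 = n199565 := d8_1 D208832 (iv7 D199565) F356115
theorem F451046 : act 4 n208832 = n135385 := d11_1 D208832 (iv7 F239061) F239062
theorem F451047 : act 5 n208832 = n135154 := d13_1 D208832 (iv7 D135154) D135152
theorem F451048 : act 1 n199397 = n208832 := d15_1 (iv0 F412680) (iv7 D208832) (iv2 F239068)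
def n208833 : Q := act 6 n135154
theorem D208833 : act 6 n135154 = n208833 := rfl
theorem F451049 : act 4 n208833 = n135158 := d10_1 D208833 (iv6 D135158) (iv4 F217357)
def n208834 : Q := act 4 n135156
theorem D208834 : act 4 n135156 = n208834 := rfl
theorem F451050 : act 5 n208834 = n197855 := d9_2 (iv5 F337788) D208834 F406038 F347157 (iv4 D66831) (iv5 F320554) (iv4 F85488) D117545 D203025 F426682 (iv4 D199917) F347156 (iv4 D66836) D66837 (iv4 F348004)
theorem F451051 : act 6 n208834 = n179741 := d10_2 (iv6 F337789) D208834 (iv4 D179741)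
theorem F451052 : act 7 n208834 = n197807 := d11_2 F426561 D208834 (iv4 F426562)
theorem F451053 : act 0 n208834 = n198205 := d18_2 (iv1 F426680) D208834 F407225 (iv5 D142607) (iv4 D66841) D66840 (iv4 F363097) F428941 F428939
theorem F451054 : act 3 n208834 = n196372 := d19_3 F348007 (iv5 F337788) D208834 (iv1 F400500) (iv5 D108679) (iv4 F81050) F81049 (iv1 F80206) D110279 F343749 F343835 (iv1 D91282) F295007 (iv4 F140235) (iv3 F373015) F428421 (iv5 D203463) (iv4 F426670) (iv3 D203021)
def n208835 : Q := act 6 n135157
theorem D208835 : act 6 n135157 = n208835 := rfl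
theorem F451055 : act 2 n208835 = n203315 := d3_1 D208835 F427836 (iv2 F426677)
theorem F451056 : act 3 n208835 = n135198 := d7_1 D208835 (iv6 D135198) (iv3 F217358)
theorem F451057 : act 7 n208835 = n135158 := d14_2 D135157 D208835 (iv6 D135158) (iv7 D63516) D63515
def n208836 : Q := act 0 n135158
theorem D208836 : act 0 n135158 = n208836 := rfl
theorem F451058 : act 1 n203315 = n208836 := d15_0 (iv0 D208836) (iv7 F451057) F451055
def n208837 : Q := act 5 n135158
theorem D208837 : act 5 n135158 = n208837 := rfl
theorem F451059 : act 2 n208837 = n203416 := d2_1 D208837 (iv5 F450921) F450919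
theorem F451060 : act 3 n208837 = n135201 := d6_1 D208837 (iv5 D135201) (iv3 F217360)
theorem F451061 : act 6 n208837 = n135161 := d12_2 D135158 D208837 (iv5 D135161) (iv6 D63517) (iv5 F98830)
def n208838 : Q := act 1 n135161
theorem D208838 : act 1 n135161 = n208838 := rfl
theorem F451062 : act 1 n208838 = n208461 := d15_1 D208838 F449462 (iv2 F347118)
theorem F451063 : act 7 n208838 = n208484 := d15_2 (iv0 F431868) D208838 F449564
theorem F451064 : act 3 n183884 = n208838 := d20_3 (iv4 F382945) F382947 (iv4 F369450) (iv1 D208838) F217364 D135210 F432198 F432197 F432193 (iv1 F353719)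
theorem F451065 : act 6 n208838 = n183883 := d7_2 D183884 F451064 (iv3 D183883)
theorem F451066 : act 2 n208483 = n208838 := d4_3 F451063 F449564 F449560
def n208839 : Q := act 0 n135165
theorem D208839 : act 0 n135165 = n208839 := rfl
def n208840 : Q := act 5 n135165
theorem D208840 : act 5 n135165 = n208840 := rfl
theorem F451067 : act 3 n208840 = n205081 := d6_1 D208840 F434902 F404931
theorem F451068 : act 6 n208840 = n141181 := d12_2 (iv6 F350365) D208840 (iv5 D141181) (iv6 D66226) (iv5 F180560)
theorem F451069 : act 4 n208840 = n151578 := d16_2 D135165 D208840 (iv5 D151578) F107996 (iv5 F103982) (iv4 F227810) (iv5 F450205) F450207 (iv2 D135164)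
def n208841 : Q := act 0 n135166
theorem D208841 : act 0 n135166 = n208841 := rfl
theorem F451070 : act 5 n208841 = n192590 := d17_3 F384462 F384460 D208841 F387184 (iv5 D160063) F320214 F359688 D191787 (iv4 F384434)
theorem F451071 : act 4 n208841 = n202566 := d18_3 D65470 (iv4 F350364) D208841 (iv5 D202566) (iv4 F182976) F182981 (iv4 D65461) (iv0 D30691) D30694
theorem F451072 : act 6 n208841 = n177819 := d21_5 F450087 (iv1 D197513) F167591 D135166 D208841 (iv5 D177819) (iv1 F129900) (iv5 F152455) (iv6 F332664) (iv1 F450085)
theorem F451073 : act 1 n139516 = n208841 := d15_0 (iv0 D208841) (iv7 F407557) F407554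
theorem F451074 : act 2 n191754 = n208841 := d3_3 F451072 (iv2 F281961) D191754
def n208842 : Q := act 1 n135166
theorem D208842 : act 1 n135166 = n208842 := rfl
theorem F451075 : act 1 n208842 = n139516 := d15_1 D208842 (iv7 F424472) F424471
theorem F451076 : act 7 n208842 = n191754 := d15_2 (iv0 D208841) D208842 F451074
theorem F451077 : act 4 n208842 = n202565 := d18_7 F102993 (iv4 D67013) (iv1 F102979) (iv4 D66224) (iv5 F180560) (iv4 F350364) D208842 F424535 (iv5 D116284)
theorem F451078 : act 6 n192612 = n208842 := d10_0 F451077 F424532 (iv4 F387247)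
def n208843 : Q := act 3 n135184
theorem D208843 : act 3 n135184 = n208843 := rfl
theorem F451079 : act 5 n208843 = n196551 := d6_2 (iv5 F349747) D208843 F401060
theorem F451080 : act 7 n208843 = n187944 := d8_2 (iv7 F349748) D208843 F371900
theorem F451081 : act 0 n208843 = n187553 := d19_4 (iv1 F191569) (iv5 F191914) F349750 D208843 F370788 F165403 (iv3 D66898) D66896 D142697 (iv4 F379942) F379941 (iv1 D116969) D116971 (iv4 F396215) (iv3 F425746) F425750 (iv5 F392260) D195197 F396207
theorem F451082 : act 4 n208843 = n187542 := d20_6 (iv4 F78115) (iv1 F79576) (iv4 F84240) (iv3 F345287) D135184 D208843 (iv1 D187542) F336041 F78111 D49397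
theorem F451083 : act 2 n187949 = n208843 := d1_3 F451082 F412187 D187949
theorem F451084 : act 0 n187977 = n208843 := d18_0 F451082 (iv1 D187542) F336041 (iv5 D49395) F37769 D24190 D49593 F165394 (iv5 F371996)
def n208844 : Q := act 6 n135184
theorem D208844 : act 6 n135184 = n208844 := rfl
theorem F451085 : act 2 n208844 = n204586 := d3_1 D208844 F432956 F349746
theorem F451086 : act 4 n208844 = n203751 := d10_1 D208844 (iv6 D203751) F349750
theorem F451087 : act 7 n208844 = n179786 := d14_2 (iv7 F349748) D208844 (iv6 D179786) F304543 (iv6 F191913)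
theorem F451088 : act 0 n198263 = n208844 := d21_4 (iv5 F336678) (iv1 F172912) (iv5 F169086) D198263 (iv6 D208844) F349747 (iv1 F180099) D140498 F360782 (iv1 D156588)
theorem F451089 : act 1 n204585 = n208844 := d15_0 (iv0 F451088) F407384 (iv2 F432953)
def n208845 : Q := act 3 n135185
theorem D208845 : act 3 n135185 = n208845 := rfl
theorem F451090 : act 5 n208845 = n202449 := d6_2 (iv5 F349736) D208845 (iv3 D202449)
theorem F451091 : act 6 n208845 = n179787 := d7_2 (iv6 F349738) D208845 (iv3 D179787)
theorem F451092 : act 7 n208845 = n199551 := d8_2 F349742 D208845 F412641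
theorem F451093 : act 0 n208845 = n137658 := d19_4 F350744 D120308 (iv4 F349737) D208845 (iv5 D137658) (iv4 D64711) D64710 F177276 D64830 (iv4 F139184) (iv3 F193611) (iv1 F193613) F114802 (iv4 D48887) D48886 F77026 (iv5 F104078) F104077 D117692
theorem F451094 : act 4 n199759 = n208845 := d19_2 D111695 D199759 (iv3 D208845) (iv1 D135185) (iv5 F345288) (iv4 F165164) (iv3 D107173) (iv1 F78271) D53170 F83974 (iv3 F80128) (iv1 F324016) (iv5 F318600) F88492 F299284 F297627 (iv5 F55840) (iv4 F323975) D51506
theorem F451095 : act 0 n137670 = n208845 := d20_4 F388744 (iv1 D139326) D139327 F222514 (iv3 D208845) F349737 (iv1 F341478) F167781 (iv3 F404892) F404895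
theorem F451096 : act 2 n208845 = n199552 := d1_1 F451094 F417472 F417467
def n208846 : Q := act 4 n135189
theorem D208846 : act 4 n135189 = n208846 := rfl
theorem F451097 : act 7 n208846 = n192590 := d11_2 F360243 D208846 F387184
def n208847 : Q := act 6 n135189
theorem D208847 : act 6 n135189 = n208847 := rfl
theorem F451098 : act 2 n208847 = n189139 := d3_1 D208847 (iv6 F427125) F427123
theorem F451099 : act 3 n208847 = n135192 := d7_1 D208847 (iv6 D135192) D135189
theorem F451100 : act 5 n208847 = n143436 := d12_1 D208847 (iv6 D143436) (iv5 D67190) F321952 (iv5 F360241)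
theorem F451101 : act 7 n208847 = n179764 := d14_2 F360243 D208847 (iv6 D179764) (iv7 F201032) (iv6 F359691)
theorem F451102 : act 0 n188168 = n208847 := d21_4 (iv5 D42635) D42632 D91011 D188168 (iv6 D208847) F360241 (iv1 F181270) D140044 F359692 (iv1 D91021)
def n208848 : Q := act 6 n135190
theorem D208848 : act 6 n135190 = n208848 := rfl
theorem F451103 : act 3 n208848 = n142811 := d7_1 D208848 (iv6 F424211) F424210
theorem F451104 : act 4 n208848 = n135192 := d10_1 D208848 (iv6 D135192) D135190
theorem F451105 : act 7 n208848 = n179769 := d14_2 F404986 D208848 (iv6 D179769) (iv7 F201034) F404988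
theorem F451106 : act 5 n208848 = n142809 := d21_6 (iv5 D50080) (iv1 F38365) (iv5 F79420) D108592 (iv1 F360242) D208848 (iv1 F449042) F401879 (iv6 D139618) F101246
theorem F451107 : act 0 n198193 = n208848 := d21_4 (iv5 F343102) (iv1 F172619) F172612 D198193 (iv6 D208848) F424207 F424206 (iv5 F412695) (iv6 D199567) (iv1 F343100)
theorem F451108 : act 0 n208847 = n191779 := d20_4 (iv4 F429769) F451107 F451104 (iv3 F451099) F384415 (iv4 F448083) F448074 (iv4 D189592) F366866 D203776
def n208849 : Q := act 2 n135194
theorem D208849 : act 2 n135194 = n208849 := rfl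
theorem F451109 : act 3 n208849 = n192578 := d0_2 D135194 D208849 F387149 F252601 F350734
theorem F451110 : act 4 n208849 = n188155 := d1_2 F389687 D208849 F389688
theorem F451111 : act 5 n208849 = n174785 := d2_2 (iv5 F350736) D208849 F273606
theorem F451112 : act 6 n208849 = n174788 := d3_2 (iv6 F350737) D208849 F304509
theorem F451113 : act 7 n208849 = n189141 := d4_2 F450216 D208849 (iv2 F450212)
theorem F451114 : act 1 n208849 = n188614 := d15_0 F450218 F450216 D208849
theorem F451115 : act 1 n146914 = n208849 := d15_0 F451114 (iv7 F450894) F450891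
def n208850 : Q := act 3 n135199
theorem D208850 : act 3 n135199 = n208850 := rfl
theorem F451116 : act 2 n208850 = n188609 := d0_1 D208850 F374182 F142598 (iv3 F370520) F370519
theorem F451117 : act 4 n208850 = n192569 := d5_2 (iv4 F370505) D208850 F387108 (iv4 F286567) (iv3 F370509)
theorem F451118 : act 6 n208850 = n179801 := d7_2 (iv6 F370506) D208850 (iv3 D179801)
theorem F451119 : act 7 n208850 = n188602 := d8_2 (iv7 F370507) D208850 F374173
theorem F451120 : act 0 n208850 = n188608 := d20_4 F167925 D108589 (iv4 F370505) D208850 (iv3 F374181) F373587 (iv1 F142619) F362820 (iv3 F287496) (iv1 F362822)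
theorem F451121 : act 1 n208850 = n188607 := d15_0 (iv0 D188607) D188609 (iv2 F451116)
def n208851 : Q := act 5 n135199
theorem D208851 : act 5 n135199 = n208851 := rfl
theorem F451122 : act 0 n208851 = n203779 := d17_2 D135199 D208851 (iv5 D203779) (iv4 F398965) F398966 (iv0 F360004) F342493 F351315 F216807
def n208852 : Q := act 0 n135201
theorem D208852 : act 0 n135201 = n208852 := rfl
theorem F451123 : act 1 n203366 = n208852 := d15_0 (iv0 D208852) (iv7 F432639) F432637
def n208853 : Q := act 1 n135201
theorem D208853 : act 1 n135201 = n208853 := rfl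
theorem F451124 : act 1 n208853 = n203366 := d15_1 D208853 (iv7 F450222) F450219
def n208854 : Q := act 4 n135201
theorem D208854 : act 4 n135201 = n208854 := rfl
theorem F451125 : act 6 n208854 = n135210 := d10_2 (iv6 F217373) D208854 (iv4 D135210)
def n208855 : Q := act 5 n135202
theorem D208855 : act 5 n135202 = n208855 := rfl
theorem F451126 : act 3 n208855 = n135203 := d6_1 D208855 (iv5 D135203) D135202
theorem F451127 : act 7 n208855 = n208495 := d13_2 (iv7 F217374) D208855 (iv5 D208495)
def n208856 : Q := act 0 n135203
theorem D208856 : act 0 n135203 = n208856 := rfl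
theorem F451128 : act 5 n208856 = n191493 := d17_3 D63528 D135203 D208856 F383571 (iv5 F169026) (iv0 F169029) (iv5 D63534) (iv0 D30001) (iv4 F48190)
theorem F451129 : act 2 n208055 = n208856 := d15_3 (iv0 D208856) (iv0 F392010) (iv7 F447662)
theorem F451130 : act 1 n135206 = n208856 := d15_0 (iv0 D208856) F217376 (iv2 F217380)
theorem F451131 : act 7 n208856 = n191492 := d15_2 F392011 F451130 (iv2 F392007)
def n208857 : Q := act 4 n135203
theorem D208857 : act 4 n135203 = n208857 := rfl
theorem F451132 : act 2 n208857 = n208497 := d1_1 D208857 (iv4 D208497) (iv2 F217375)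
theorem F451133 : act 7 n208857 = n208496 := d11_2 (iv7 F217376) D208857 (iv4 D208496)
def n208858 : Q := act 6 n135203
theorem D208858 : act 6 n135203 = n208858 := rfl
theorem F451134 : act 2 n208858 = n208498 := d3_1 D208858 (iv6 D208498) (iv2 F217375)
theorem F451135 : act 5 n208858 = n203327 := d12_1 D208858 (iv6 F427896) F350326 (iv6 F350317) D135203
def n208859 : Q := act 4 n135206
theorem D208859 : act 4 n135206 = n208859 := rfl
theorem F451136 : act 2 n208859 = n208496 := d1_1 D208859 (iv4 D208496) (iv2 F217380)
theorem F451137 : act 7 n208859 = n208497 := d11_2 (iv7 F217381) D208859 (iv4 D208497)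
theorem F451138 : act 5 n208859 = n177966 := d16_1 D208859 F277519 (iv5 F306408) (iv4 F404712) (iv5 D197531) F167641 D135203 F217376 (iv2 F217380)
def n208860 : Q := act 4 n135209
theorem D208860 : act 4 n135209 = n208860 := rfl
theorem F451139 : act 2 n208860 = n208499 := d1_1 D208860 (iv4 D208499) F350269
theorem F451140 : act 5 n208860 = n208857 := d9_2 F383563 D208860 (iv4 D208857) (iv5 D135203) (iv4 F167641) D197531 F404712 F306408 (iv4 F277519) (iv5 F451138) (iv4 D208859) (iv5 D135206) F98838 D132160 (iv4 F383564)
theorem F451141 : act 7 n208860 = n208501 := d11_2 F350268 D208860 (iv4 D208501)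
theorem F451142 : act 0 n208860 = n208731 := d18_2 (iv1 F217386) D208860 (iv4 D208731) (iv5 D134983) F98769 (iv0 F103577) (iv4 F98838) F98837 D134077
def n208861 : Q := act 1 n135210
theorem D208861 : act 1 n135210 = n208861 := rfl
theorem F451143 : act 1 n208861 = n208297 := d15_1 D208861 (iv7 F449647) F449645
theorem F451144 : act 7 n208861 = n208503 := d15_2 (iv0 F432198) D208861 (iv2 F449663)
theorem F451145 : act 4 n208861 = n208361 := d18_7 (iv1 F102150) (iv4 D63538) (iv1 D30002) (iv4 F48190) D63530 D135210 D208861 (iv0 D208361) (iv5 D134217)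
theorem F451146 : act 2 n208502 = n208861 := d1_3 F451145 (iv2 F449655) F449661
def n208862 : Q := act 3 n135210
theorem D208862 : act 3 n135210 = n208862 := rfl
theorem F451147 : act 2 n208862 = n177897 := d0_1 D208862 (iv3 F391146) (iv2 F391243) (iv3 F449646) F449645
theorem F451148 : act 5 n208862 = n177748 := d6_2 F448796 D208862 (iv3 F448794)
theorem F451149 : act 7 n208862 = n208504 := d8_2 (iv7 F217387) D208862 (iv3 D208504)
theorem F451150 : act 0 n185129 = n208862 := d17_2 (iv1 D185127) D185129 F451148 (iv4 D177748) (iv5 D84634) D84633 D177745 (iv0 F290051) (iv4 F287492)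
def n208863 : Q := act 0 n135212
theorem D208863 : act 0 n135212 = n208863 := rfl
theorem F451151 : act 5 n208863 = n199685 := d17_3 F167784 D135212 D208863 F413125 F211906 F211170 (iv5 D129091) (iv0 F101911) (iv4 F167783)
theorem F451152 : act 2 n208506 = n208863 := d15_3 (iv0 D208863) (iv0 F363286) (iv7 F449652)
theorem F451153 : act 1 n135217 = n208863 := d15_0 (iv0 D208863) F217391 (iv2 F217402)
theorem F451154 : act 7 n208863 = n193832 := d15_2 F363288 F451153 F391133
theorem F451155 : act 6 n204589 = n208863 := d14_5 F451154 (iv6 D193832) F290113 (iv6 F363013) (iv7 F432964)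
def n208864 : Q := act 4 n135212
theorem D208864 : act 4 n135212 = n208864 := rfl
theorem F451156 : act 2 n208864 = n208510 := d1_1 D208864 (iv4 D208510) (iv2 F217390)
theorem F451157 : act 7 n208864 = n208507 := d11_2 (iv7 F217391) D208864 (iv4 D208507)
theorem F451158 : act 5 n208864 = n208861 := d16_1 D208864 F451145 F449072 (iv4 D135218) (iv5 D63539) D63538 D135217 F217403 (iv2 F217390)
def n208865 : Q := act 6 n135212
theorem D208865 : act 6 n135212 = n208865 := rfl
theorem F451159 : act 2 n208865 = n208511 := d3_1 D208865 (iv6 D208511) (iv2 F217390)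
theorem F451160 : act 3 n208865 = n193332 := d7_1 D208865 F389483 (iv3 F358580)
theorem F451161 : act 5 n208865 = n193331 := d12_1 D208865 F400889 (iv5 F365676) (iv6 D135213) D135212
theorem F451162 : act 0 n204507 = n208865 := d21_4 (iv5 F411835) (iv1 F411837) F374105 D204507 (iv6 D208865) (iv5 D135212) F101882 D134217 (iv6 F363285) (iv1 F353712)
theorem F451163 : act 4 n208865 = n203595 := d19_2 F389482 (iv5 F451161) F429046 (iv1 F239529) (iv5 D152339) F108346 (iv3 D54467) (iv1 F42013) (iv5 D16452) F11842 (iv3 D7629) (iv1 F11989) D13579 D28488 D59998 D127766 (iv5 F362166) (iv4 D136940) D136939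
theorem F451164 : act 6 n203595 = n208864 := d10_2 D208865 F451163 (iv4 D208864)
theorem F451165 : act 3 n208864 = n203597 := d7_1 F451164 (iv6 D203597) (iv3 F429046)
def n208866 : Q := act 5 n135216
theorem D208866 : act 5 n135216 = n208866 := rfl
theorem F451166 : act 2 n208866 = n154408 := d2_1 D208866 (iv5 F450722) F450721
theorem F451167 : act 3 n208866 = n135217 := d6_1 D208866 (iv5 D135217) D135216
theorem F451168 : act 7 n208866 = n208509 := d13_2 (iv7 F217401) D208866 (iv5 D208509)
theorem F451169 : act 6 n154525 = n208866 := d7_0 F451167 (iv6 F349422) (iv3 F349426)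
def n208867 : Q := act 4 n135217
theorem D208867 : act 4 n135217 = n208867 := rfl
theorem F451170 : act 2 n208867 = n208507 := d1_1 D208867 (iv4 D208507) (iv2 F217402)
theorem F451171 : act 5 n208867 = n177985 := d9_2 D135217 D208867 F432197 (iv5 D204357) F329430 (iv5 D63534) D63533 D135212 D208864 F451158 F451145 F449072 (iv4 D135218) (iv5 D63539) D63538
theorem F451172 : act 7 n208867 = n208510 := d11_2 (iv7 F217403) D208867 (iv4 D208510)
def n208868 : Q := act 3 n135218
theorem D208868 : act 3 n135218 = n208868 := rfl
theorem F451173 : act 2 n208868 = n189782 := d0_1 D208868 (iv3 D189782) (iv2 F286530) (iv3 F366837) (iv2 F217404)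
theorem F451174 : act 6 n208868 = n208649 := d7_2 (iv6 F217405) D208868 (iv3 D208649)
theorem F451175 : act 7 n208868 = n208512 := d8_2 (iv7 F217406) D208868 (iv3 D208512)
def n208869 : Q := act 5 n135221
theorem D208869 : act 5 n135221 = n208869 := rfl
theorem F451176 : act 2 n208869 = n203470 := d2_1 D208869 F432784 F371312
theorem F451177 : act 7 n208869 = n203471 := d13_2 (iv7 F371311) D208869 (iv5 F428443)
theorem F451178 : act 4 n208869 = n192694 := d18_5 F364474 (iv4 F203622) D205771 F437813 D208869 (iv0 D192694) F325485 D151232 (iv5 F338618)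
theorem F451179 : act 0 n208869 = n203472 := d21_1 D208869 F428444 F398221 (iv1 D195796) F332593 (iv5 D59373) F45614 D30004 D63542 D135221
theorem F451180 : act 0 n200905 = n208869 := d21_10 (iv5 D208869) (iv1 F217987) (iv5 F448339) (iv6 D208203) (iv1 F333553) (iv6 D115074) (iv5 D53097) (iv1 F82877) D113694 (iv6 F418356)
def n208870 : Q := act 6 n135221
theorem D208870 : act 6 n135221 = n208870 := rfl
theorem F451181 : act 3 n208870 = n187728 := d7_1 D208870 (iv6 F444055) F444053
theorem F451182 : act 4 n208870 = n207000 := d10_1 D208870 F442922 F437813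
theorem F451183 : act 7 n208870 = n208155 := d14_2 (iv7 F371311) D208870 (iv6 D208155) F214645 (iv6 F367912)
theorem F451184 : act 0 n208870 = n187721 := d21_4 D200905 F451180 (iv5 D208869) D208870 (iv6 D187721) (iv5 F145629) (iv1 F370542) F374632 F398249 F398250
def n208871 : Q := act 5 n135222
theorem D208871 : act 5 n135222 = n208871 := rfl
theorem F451185 : act 2 n208871 = n203471 := d2_1 D208871 (iv5 F428443) (iv2 F371309)
theorem F451186 : act 3 n208871 = n195806 := d6_1 D208871 (iv5 F418319) F418316
theorem F451187 : act 7 n208871 = n203470 := d13_2 F371310 D208871 F432784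
theorem F451188 : act 0 n208871 = n200905 := d21_1 D208871 (iv5 D200905) (iv6 D113615) (iv1 F94242) D127379 (iv5 F214879) F420640 F420639 F218299 (iv1 F217986)
theorem F451189 : act 6 n208871 = n203462 := d21_3 F448339 (iv1 F217986) D208871 (iv1 D203462) F187579 F143227 F295157 (iv5 F154815) D192798 F448341
theorem F451190 : act 0 n203472 = n208871 := d21_10 (iv5 D208871) (iv1 D135222) D135223 F217411 (iv1 F209237) (iv6 F419347) (iv5 D201180) (iv1 F177562) (iv5 F239584) (iv6 F428445)
theorem F451191 : act 3 n203462 = n206207 := d7_1 F451189 (iv6 F439717) (iv3 F451186)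
theorem F451192 : act 4 n208871 = n192695 := d20_6 D151253 (iv1 F405799) (iv4 F405798) (iv3 F251159) (iv1 F398262) (iv3 F451186) (iv1 D192695) F325485 F107770 D71284
def n208872 : Q := act 1 n135223
theorem D208872 : act 1 n135223 = n208872 := rfl
theorem F451193 : act 1 n208872 = n208203 := d15_1 D208872 F448340 F217981
theorem F451194 : act 5 n208872 = n146854 := d17_7 F446629 F446628 (iv1 F437658) (iv5 D205742) F203556 D135223 D208872 (iv0 D146854) (iv4 F230243)
theorem F451195 : act 3 n195644 = n208872 := d6_3 F451194 F415797 D195644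
def n208873 : Q := act 4 n135226
theorem D208873 : act 4 n135226 = n208873 := rfl
theorem F451196 : act 2 n208873 = n136676 := d1_1 D208873 (iv4 F362776) F217991
theorem F451197 : act 7 n208873 = n192693 := d11_2 F217996 D208873 F387509
theorem F451198 : act 6 n136674 = n208873 := d14_5 F451197 (iv6 D192693) F352763 D194660 (iv7 F393994)
def n208874 : Q := act 6 n135226
theorem D208874 : act 6 n135226 = n208874 := rfl
theorem F451199 : act 2 n208874 = n136675 := d3_1 D208874 F362775 F217991
theorem F451200 : act 4 n208874 = n136674 := d10_1 D208874 F451198 (iv4 D208873)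
theorem F451201 : act 5 n208874 = n200444 := d12_1 D208874 (iv6 F416453) F217941 F202593 D135226
theorem F451202 : act 7 n208874 = n201246 := d14_2 F217996 D208874 (iv6 D201246) F177975 (iv6 F352119)
theorem F451203 : act 0 n207221 = n208874 := d21_4 (iv5 D196011) F163781 D130618 D207221 (iv6 D208874) (iv5 D135226) (iv1 F99108) (iv5 F218006) F352117 (iv1 F399058)
def n208875 : Q := act 4 n135228
theorem D208875 : act 4 n135228 = n208875 := rfl
theorem F451204 : act 2 n208875 = n192693 := d1_1 D208875 F387509 F217995
theorem F451205 : act 6 n208875 = n191433 := d10_2 F352120 D208875 F383478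
theorem F451206 : act 7 n208875 = n136676 := d11_2 F217992 D208875 (iv4 F362776)
theorem F451207 : act 3 n136680 = n208875 := d20_5 F424368 (iv1 F412381) F412378 (iv3 F446140) (iv1 F446142) (iv4 D208875) (iv1 F447571) F447572 F222626 D139420
theorem F451208 : act 5 n191432 = n208875 := d12_5 F451205 (iv5 D191433) (iv6 D98348) D98347 D191432
theorem F451209 : act 4 n136840 = n191432 := d16_2 F399182 (iv5 F399183) F451208 (iv4 D208875) (iv5 D135228) (iv4 F202589) (iv5 F397227) F397228 (iv2 F399180)
theorem F451210 : act 6 n191431 = n136840 := d10_0 F451209 (iv6 D191432) D191431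
def n208876 : Q := act 3 n135230
theorem D208876 : act 3 n135230 = n208876 := rfl
theorem F451211 : act 5 n208876 = n208152 := d6_2 (iv5 F217414) D208876 F448131
theorem F451212 : act 6 n208876 = n201701 := d7_2 (iv6 F428454) D208876 F428455
theorem F451213 : act 7 n208876 = n159467 := d8_2 (iv7 F217413) D208876 (iv3 F352122)
theorem F451214 : act 2 n201677 = n208876 := d4_3 F451213 F251115 D201677
theorem F451215 : act 1 n201676 = n208876 := d15_1 D201676 F451213 F251115
theorem F451216 : act 1 n201677 = n201820 := d15_0 (iv0 F421907) (iv7 F451213) (iv2 F451214)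
theorem F451217 : act 1 n208876 = n200929 := d15_0 (iv0 F418416) D201677 F451214
def n208877 : Q := act 4 n135230
theorem D208877 : act 4 n135230 = n208877 := rfl
theorem F451218 : act 7 n208877 = n208153 := d11_2 (iv7 F217413) D208877 (iv4 D208153)
theorem F451219 : act 0 n208877 = n135598 := d18_2 (iv1 F218007) D208877 (iv4 D135598) (iv5 D63761) (iv4 F77813) D106580 F202589 F99106 (iv5 F218006)
theorem F451220 : act 3 n204636 = n208877 := d20_5 F401234 (iv1 F401233) F198614 (iv3 F198610) D204636 (iv4 D208877) (iv1 D135230) D135231 (iv3 F431509) (iv1 F431512)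
def n208878 : Q := act 5 n135231
theorem D208878 : act 5 n135231 = n208878 := rfl
def n208879 : Q := act 4 n135235
theorem D208879 : act 4 n135235 = n208879 := rfl
theorem F451221 : act 1 n208879 = n139415 := d18_6 (iv1 D63544) F48199 D30006 D63549 D135235 D208879 (iv4 F447572) F447571 (iv5 D135228)
def n208880 : Q := act 6 n135235
theorem D208880 : act 6 n135235 = n208880 := rfl
theorem F451222 : act 5 n208880 = n198950 := d12_1 D208880 (iv6 F419000) F418999 F327984 D135235
theorem F451223 : act 7 n208880 = n151225 := d14_2 F218019 D208880 (iv6 D151225) (iv7 F178393) (iv6 F339338)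
def n208881 : Q := act 3 n135245
theorem D208881 : act 3 n135245 = n208881 := rfl
theorem F451224 : act 2 n208881 = n208770 := d0_1 D208881 F450790 (iv2 F229129) F355299 (iv2 F336950)
theorem F451225 : act 4 n208881 = n208752 := d5_2 F448730 D208881 (iv3 F450715) F448739 (iv3 F448729)
theorem F451226 : act 7 n208881 = n187663 := d8_2 (iv7 F332262) D208881 F371136
theorem F451227 : act 0 n208881 = n203933 := d19_4 (iv1 F251275) (iv5 F448731) F448730 D208881 (iv5 D203933) (iv4 F349066) F342703 (iv1 F246116) (iv5 D156517) (iv4 D74429) D74428 D156512 F312527 F205718 (iv3 F191015) F301465 (iv5 F336902) F206331 (iv3 F241979)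
theorem F451228 : act 0 n201847 = n208881 := d20_4 (iv4 D135646) F218081 (iv4 F218078) D201847 (iv3 D208881) (iv4 F448730) (iv1 F448733) F371214 (iv3 F371215) F218271
def n208882 : Q := act 0 n135252
theorem D208882 : act 0 n135252 = n208882 := rfl
theorem F451229 : act 5 n208882 = n176631 := d17_1 D208882 (iv1 D176631) F300890 F115836 (iv5 F316724) F344796 (iv5 F344798) (iv0 D173637) (iv4 F323564)
theorem F451230 : act 2 n159051 = n208882 := d15_3 (iv0 D208882) (iv0 F434588) F434586
theorem F451231 : act 1 n147285 = n208882 := d15_0 (iv0 D208882) F323565 (iv2 F319428)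
theorem F451232 : act 7 n208882 = n175786 := d15_2 (iv0 F434589) F451231 (iv2 F434587)
theorem F451233 : act 6 n208882 = n158230 := d3_2 (iv6 F348513) F451230 F298224
def n208883 : Q := act 2 n135252
theorem D208883 : act 2 n135252 = n208883 := rfl
theorem F451234 : act 3 n208883 = n147193 := d0_2 D135252 D208883 F230768 F339807 (iv2 F98905)
theorem F451235 : act 4 n208883 = n173635 := d1_2 (iv4 F323564) D208883 F272107
theorem F451236 : act 5 n208883 = n136451 := d2_2 (iv5 F217455) D208883 (iv2 D136451)
theorem F451237 : act 7 n208883 = n147285 := d4_2 (iv7 F323565) D208883 F319428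
theorem F451238 : act 1 n208883 = n175786 := d15_0 (iv0 D175786) (iv7 F323565) D208883
theorem F451239 : act 1 n159051 = n208883 := d15_0 F451238 (iv7 F451232) (iv2 F451230)
def n208884 : Q := act 6 n135252
theorem D208884 : act 6 n135252 = n208884 := rfl
theorem F451240 : act 3 n208884 = n135253 := d7_1 D208884 (iv6 D135253) D135252
theorem F451241 : act 4 n208884 = n173640 := d10_1 D208884 (iv6 D173640) (iv4 F323564)
theorem F451242 : act 5 n208884 = n202716 := d12_1 D208884 F425255 (iv5 F352361) (iv6 D136452) (iv5 F217455)
theorem F451243 : act 7 n208884 = n146170 := d14_2 (iv7 F323565) D208884 F355107 F354965 (iv6 F344839)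
theorem F451244 : act 0 n172169 = n208884 := d21_4 (iv5 F409887) (iv1 D198919) F332154 D172169 (iv6 D208884) F217455 D136449 (iv5 F344830) (iv6 F383785) F383787
def n208885 : Q := act 5 n135254
theorem D208885 : act 5 n135254 = n208885 := rfl
theorem F451245 : act 2 n208885 = n201256 := d2_1 D208885 F419697 F398521
theorem F451246 : act 4 n208885 = n199864 := d9_1 D208885 (iv5 F413858) (iv4 F182993) D140713 F323313 D147657 (iv4 F346411) D195864 (iv4 F425184) F425183 F182988 F101367 D127706 (iv5 F403158) F403159
theorem F451247 : act 7 n208885 = n201255 := d13_2 (iv7 F398509) D208885 F419691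
theorem F451248 : act 0 n208885 = n142473 := d17_2 D135254 D208885 F330339 (iv4 F330334) F225422 (iv0 D67249) D67251 (iv0 F330325) F217458
theorem F451249 : act 1 n208885 = n142463 := d17_6 (iv1 F419646) F419648 (iv1 F205313) (iv5 F403158) F403159 D208885 F330338 F177982 (iv4 F177990)
theorem F451250 : act 6 n208885 = n199863 := d21_3 F359849 D135254 D208885 F413852 (iv6 D112923) (iv5 D52124) (iv1 D25309) D25311 D52129 D112933
def n208886 : Q := act 6 n135254
theorem D208886 : act 6 n135254 = n208886 := rfl
theorem F451251 : act 2 n208886 = n164330 := d3_1 D208886 (iv6 F398524) F398521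
theorem F451252 : act 3 n208886 = n199314 := d7_1 D208886 F411622 (iv3 F392175)
theorem F451253 : act 4 n208886 = n173498 := d10_1 D208886 (iv6 F403160) F403159
theorem F451254 : act 5 n208886 = n164226 := d12_1 D208886 F444099 F444096 (iv6 F451250) (iv5 D208885)
theorem F451255 : act 7 n208886 = n152366 := d14_2 (iv7 F398509) D208886 (iv6 D152366) (iv7 F334816) D195861
theorem F451256 : act 0 n208886 = n146543 := d21_4 (iv5 F330338) (iv1 F451249) (iv5 D208885) D208886 (iv6 D146543) D146542 F354438 F108442 (iv6 F83307) (iv1 F177982)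
theorem F451257 : act 0 n164274 = n208886 := d21_4 (iv5 F346151) (iv1 F231598) F319197 D164274 (iv6 D208886) D208885 F451248 F330339 (iv6 F258971) (iv1 F346156)
def n208887 : Q := act 4 n135261
theorem D208887 : act 4 n135261 = n208887 := rfl
theorem F451258 : act 2 n208887 = n208029 := d1_1 D208887 (iv4 D208029) F217464
theorem F451259 : act 5 n208887 = n198495 := d9_2 (iv5 F217463) D208887 (iv4 D198495) (iv5 D109358) D109357 F169363 F99087 (iv5 F217467) F413837 F413836 (iv4 D198486) (iv5 D109353) D109352 F203319 F203321
theorem F451260 : act 7 n208887 = n200033 := d11_2 F217465 D208887 F414698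
theorem F451261 : act 1 n208887 = n201882 := d18_6 D133228 F214067 (iv1 F203316) F203321 (iv5 F217463) D208887 (iv4 D201882) (iv0 F214072) (iv5 D133230)
def n208888 : Q := act 0 n135263
theorem D208888 : act 0 n135263 = n208888 := rfl
theorem F451262 : act 5 n208888 = n198513 := d17_1 D208888 F408181 F379152 (iv4 D135529) (iv5 D63723) D63722 (iv5 F217463) (iv0 D135261) D135263
theorem F451263 : act 4 n208888 = n135535 := d18_3 (iv1 D135262) D135263 D208888 (iv5 D135535) (iv4 D63730) F48332 (iv4 F97480) F99085 (iv5 F217467)
theorem F451264 : act 2 n208039 = n208888 := d1_3 F451263 F217960 D208039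
theorem F451265 : act 3 n189606 = n208888 := d5_5 F451263 (iv3 F447953) F447954 F377078 D189606
theorem F451266 : act 6 n190476 = n208888 := d10_0 F451263 F365419 F379859
theorem F451267 : act 7 n199870 = n208888 := d11_0 F451263 F217961 (iv4 F413886)
theorem F451268 : act 1 n198507 = n208888 := d17_8 (iv1 F418984) (iv5 D201072) F327974 D135270 (iv4 F420331) (iv5 F420334) (iv0 D198504) D198507 F451263
def n208889 : Q := act 1 n135263
theorem D208889 : act 1 n135263 = n208889 := rfl
theorem F451269 : act 1 n208889 = n198507 := d15_1 D208889 F408166 (iv2 F357486)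
theorem F451270 : act 7 n208889 = n208039 := d15_2 (iv0 D208888) D208889 F451264
theorem F451271 : act 4 n208889 = n135533 := d18_7 F327974 (iv4 D63582) (iv1 D30020) (iv4 F48231) D63574 D135263 D208889 (iv0 F418983) (iv5 D201072)
theorem F451272 : act 5 n208889 = n198510 := d18_9 (iv1 F408927) (iv4 D198699) (iv1 F170704) D198495 (iv5 F451259) (iv4 D208887) (iv0 D135261) D135263 D208889
theorem F451273 : act 6 n199828 = n208889 := d21_3 (iv5 D137281) F173528 D199828 (iv1 D208889) F357487 (iv5 D67538) (iv1 F85056) D117009 (iv6 F414463) F414465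
theorem F451274 : act 2 n208889 = n199870 := d3_1 F451273 (iv6 D199870) (iv2 F413689)
theorem F451275 : act 3 n208889 = n144131 := d7_1 F451273 (iv6 F377507) (iv3 F413690)
theorem F451276 : act 0 n198740 = n198481 := d21_4 (iv5 D155960) (iv1 F169930) D109917 D198740 F408131 D198507 (iv1 F451269) F451272 F408186 F407823
def n208890 : Q := act 3 n135263
theorem D208890 : act 3 n135263 = n208890 := rfl
theorem F451277 : act 6 n208890 = n137144 := d7_2 (iv6 F357487) D208890 F220329
def n208891 : Q := act 5 n135263
theorem D208891 : act 5 n135263 = n208891 := rfl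
theorem F451278 : act 2 n208891 = n198508 := d2_1 D208891 F408169 (iv2 F357486)
theorem F451279 : act 4 n208891 = n190867 := d9_1 D208891 F381389 F169232 (iv5 F83910) (iv4 F179355) F359554 (iv4 F408165) (iv5 D198507) (iv4 D109362) (iv5 D50459) F38602 (iv5 F23779) (iv4 F48231) D63574 D135263
theorem F451280 : act 6 n208891 = n144166 := d12_2 (iv6 F357487) D208891 (iv5 D144166) (iv6 D67539) D67538
theorem F451281 : act 7 n208891 = n198379 := d16_8 (iv4 D109362) (iv5 D50459) F38602 (iv5 F23779) (iv4 F48231) D63574 D135263 D208891 F407820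
theorem F451282 : act 0 n208891 = n198505 := d17_2 (iv1 D208889) D208891 (iv5 F418993) (iv4 D201074) (iv5 D113851) (iv0 F327979) D115135 (iv0 F217957) (iv4 F451271)
theorem F451283 : act 1 n208891 = n198504 := d17_6 (iv1 F217946) F214065 (iv1 D63573) D63574 D135263 D208891 F420334 F420335 F409028
def n208892 : Q := act 7 n135263
theorem D208892 : act 7 n135263 = n208892 := rfl
theorem F451284 : act 2 n208892 = n198507 := d4_1 D208892 F408166 (iv2 F357486)
theorem F451285 : act 4 n208892 = n135264 := d11_1 D208892 (iv7 D135264) D135263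
theorem F451286 : act 5 n208892 = n198379 := d13_1 D208892 (iv7 F451281) (iv5 D208891)
theorem F451287 : act 6 n208892 = n189762 := d14_1 D208892 F377661 (iv6 D142481) (iv7 F181605) (iv6 F357487)
theorem F451288 : act 1 n199870 = n208892 := d15_1 (iv0 F413888) (iv7 D208892) F357486
theorem F451289 : act 1 n208892 = n208039 := d15_1 F451288 (iv7 F451270) F451274
def n208893 : Q := act 5 n135269
theorem D208893 : act 5 n135269 = n208893 := rfl
theorem F451290 : act 3 n208893 = n135270 := d6_1 D208893 (iv5 D135270) D135269
theorem F451291 : act 7 n208893 = n198944 := d13_2 F418919 D208893 (iv5 F418918)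
def n208894 : Q := act 4 n135275
theorem D208894 : act 4 n135275 = n208894 := rfl
theorem F451292 : act 2 n208894 = n135302 := d1_1 D208894 (iv4 D135302) (iv2 F217489)
theorem F451293 : act 3 n208894 = n194712 := d5_1 D208894 (iv4 D194712) (iv3 F394191) (iv4 F405065) F405064
theorem F451294 : act 6 n208894 = n179884 := d10_2 (iv6 F347398) D208894 (iv4 D179884)
theorem F451295 : act 7 n208894 = n135357 := d11_2 (iv7 F217490) D208894 (iv4 D135357)
theorem F451296 : act 0 n208894 = n206779 := d18_2 (iv1 F373062) D208894 (iv4 D206779) (iv5 D129288) (iv4 D60767) D60765 D129281 (iv0 F214807) (iv5 F373060)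
theorem F451297 : act 1 n208894 = n187886 := d18_6 F213166 F48183 F207210 D63596 D135275 D208894 (iv4 F444161) F444160 F217339
def n208895 : Q := act 5 n135291
theorem D208895 : act 5 n135291 = n208895 := rfl
theorem F451298 : act 3 n208895 = n135292 := d6_1 D208895 (iv5 D135292) D135291
theorem F451299 : act 4 n208895 = n208839 := d18_5 (iv1 D63480) (iv4 F83914) D115184 (iv4 F217528) D208895 (iv0 D208839) (iv4 D135165) (iv0 F364857) (iv5 D135065)
def n208896 : Q := act 4 n135292
theorem D208896 : act 4 n135292 = n208896 := rfl
theorem F451300 : act 2 n208896 = n208818 := d1_1 D208896 F450991 (iv2 F450520)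
theorem F451301 : act 7 n208896 = n208819 := d11_2 F443218 D208896 F450996
theorem F451302 : act 0 n208896 = n208811 := d17_0 F450978 (iv1 F430706) F450946 F450944 (iv5 D136865) (iv0 F330958) D206774 F442141 D208896
theorem F451303 : act 1 n208896 = n208809 := d18_6 F97270 (iv4 D62378) (iv1 F207235) (iv4 F98954) D135292 D208896 (iv4 D208809) (iv0 D135137) (iv5 D63511)
def n208897 : Q := act 6 n135292
theorem D208897 : act 6 n135292 = n208897 := rfl
theorem F451304 : act 0 n187587 = n208897 := d21_4 (iv5 F338436) (iv1 D90372) D90374 D187587 (iv6 D208897) (iv5 D135292) (iv1 F98959) D63627 (iv6 F339514) (iv1 F143819)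
def n208898 : Q := act 4 n135294
theorem D208898 : act 4 n135294 = n208898 := rfl
theorem F451305 : act 2 n208898 = n208819 := d1_1 D208898 F450996 F443216
theorem F451306 : act 7 n208898 = n208818 := d11_2 F450517 D208898 F450991
theorem F451307 : act 5 n208898 = n203704 := d16_1 D208898 (iv4 D203704) (iv5 D120304) F87626 F315463 (iv4 F98954) D135292 (iv7 F443218) F443216
theorem F451308 : act 0 n208898 = n208809 := d18_2 F442140 D208898 (iv4 D208809) F217346 (iv4 F212107) (iv0 F330925) F204091 (iv0 F330958) D206774
theorem F451309 : act 1 n208898 = n208811 := d18_6 (iv1 F213167) (iv4 F213370) (iv1 F213372) F207720 D135294 D208898 (iv4 D208811) F217348 F98830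
theorem F451310 : act 3 n204580 = n208898 := d20_5 (iv4 D120496) (iv1 F191599) F191596 (iv3 F198410) D204580 (iv4 D208898) (iv1 F442131) F442129 F351247 (iv1 F302882)
theorem F451311 : act 7 n154779 = n204580 := d8_0 F451310 F451306 (iv3 F450993)
theorem F451312 : act 4 n204580 = n154782 := d11_1 F451311 (iv7 D154782) (iv4 F243428)
theorem F451313 : act 6 n204580 = n198286 := d14_1 F451311 F407478 (iv6 D153782) (iv7 F110088) D154779
def n208899 : Q := act 6 n135294
theorem D208899 : act 6 n135294 = n208899 := rfl
theorem F451314 : act 2 n208899 = n142607 := d3_1 D208899 (iv6 F443217) F443216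
theorem F451315 : act 5 n208899 = n142460 := d12_1 D208899 (iv6 F365212) (iv5 D134537) (iv6 F326616) D135294
theorem F451316 : act 0 n208899 = n202997 := d21_4 (iv5 D63627) (iv1 F98955) D135294 D208899 F426582 (iv5 F375832) F169551 D135950 (iv6 F330937) (iv1 F217540)
theorem F451317 : act 0 n203039 = n208899 := d21_4 F389628 F274422 D150237 (iv6 F426737) (iv6 D208899) (iv5 D135294) (iv1 D63606) D63608 (iv6 F347397) (iv1 F389626)
theorem F451318 : act 7 n203037 = n208899 := d13_0 F451315 (iv7 F428917) (iv5 F428919)
def n208900 : Q := act 3 n135300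
theorem D208900 : act 3 n135300 = n208900 := rfl
theorem F451319 : act 2 n208900 = n208694 := d0_1 D208900 F450477 (iv2 F365161) F361061 (iv2 F330935)
theorem F451320 : act 5 n208900 = n137401 := d6_2 (iv5 F330936) D208900 F220612
theorem F451321 : act 4 n208900 = n208781 := d20_6 F295469 (iv1 F131708) (iv4 F295402) F332694 D135300 D208900 (iv1 F450834) F372593 F140068 D91028
def n208901 : Q := act 4 n135300
theorem D208901 : act 4 n135300 = n208901 := rfl
theorem F451322 : act 2 n208901 = n208802 := d1_1 D208901 F450944 (iv2 F330935)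
theorem F451323 : act 7 n208901 = n208803 := d11_2 F373063 D208901 F450950
theorem F451324 : act 5 n208901 = n184712 := d16_1 D208901 (iv4 D184712) (iv5 D88075) (iv4 F135070) (iv5 F319747) (iv4 F217155) (iv5 F217536) F365163 (iv2 F330935)
theorem F451325 : act 0 n208901 = n208805 := d18_2 D135300 D208901 F450958 F217339 (iv4 F213370) (iv0 D132840) (iv4 F98954) (iv0 D63605) D63608
theorem F451326 : act 1 n208901 = n207978 := d18_6 (iv1 F209287) (iv4 F207487) F214803 (iv4 F330930) (iv5 F330936) D208901 (iv4 D207978) (iv0 F444159) (iv5 D207287)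
def n208902 : Q := act 4 n135301
theorem D208902 : act 4 n135301 = n208902 := rfl
theorem F451327 : act 2 n208902 = n208803 := d1_1 D208902 F450950 (iv2 F373061)
theorem F451328 : act 5 n208902 = n179688 := d9_2 (iv5 F217536) D208902 (iv4 D179688) (iv5 D85828) F301583 (iv5 F315308) (iv4 F330930) (iv5 F330936) D208901 F451324 (iv4 D184712) (iv5 D88075) (iv4 F135070) (iv5 F319747) (iv4 F217155)
theorem F451329 : act 7 n208902 = n208802 := d11_2 (iv7 F365163) D208902 F450944
theorem F451330 : act 0 n208902 = n207978 := d18_2 (iv1 F217535) D208902 (iv4 D207978) (iv5 D132921) (iv4 D62378) D62376 F207720 F98955 D63627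
theorem F451331 : act 1 n208902 = n208805 := d18_6 D129286 (iv4 F209357) (iv1 F214793) (iv4 F217155) (iv5 F217536) D208902 F450958 F217341 (iv5 D129288)
theorem F451332 : act 6 n201337 = n208902 := d21_3 D192752 (iv1 F387668) F439804 F451330 F447242 (iv5 F343130) (iv1 F387488) (iv5 D192687) F154563 D100589
def n208903 : Q := act 6 n135301
theorem D208903 : act 6 n135301 = n208903 := rfl
theorem F451333 : act 3 n208903 = n208698 := d7_1 D208903 (iv6 D208698) F217537
theorem F451334 : act 4 n208903 = n201337 := d10_1 D208903 F451332 (iv4 D208902)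
def n208904 : Q := act 1 n135315
theorem D208904 : act 1 n135315 = n208904 := rfl
theorem F451335 : act 1 n208904 = n135364 := d15_1 D208904 (iv7 F430698) F430696
theorem F451336 : act 7 n208904 = n203702 := d15_2 (iv0 F319772) D208904 F429460
theorem F451337 : act 5 n208904 = n135392 := d17_7 (iv1 D30042) (iv5 D14257) D14254 D30031 D63613 D135315 D208904 F217629 (iv4 D63653)
theorem F451338 : act 2 n203705 = n208904 := d2_3 F451337 (iv2 F316615) (iv5 F429466)
theorem F451339 : act 3 n184717 = n208904 := d6_3 F451337 (iv3 F314764) (iv5 F365663)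
def n208905 : Q := act 6 n135315
theorem D208905 : act 6 n135315 = n208905 := rfl
theorem F451340 : act 2 n208905 = n199396 := d3_1 D208905 F430702 F430696
theorem F451341 : act 4 n208905 = n199393 := d10_1 D208905 F451042 F451040
theorem F451342 : act 5 n208905 = n152524 := d12_1 D208905 F364656 (iv5 F305153) F319774 D135315
theorem F451343 : act 0 n208905 = n199600 := d21_10 F412805 F413044 (iv5 D199662) (iv6 F368144) (iv1 D186824) F136910 (iv5 D88075) F319745 D135315 D208905
theorem F451344 : act 0 n199599 = n208905 := d21_4 (iv5 D134938) (iv1 F216818) D208584 (iv6 F450008) (iv6 D208905) (iv5 D135315) F317528 D85828 (iv6 F328926) (iv1 F365159)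
theorem F451345 : act 7 n208905 = n199592 := d15_2 D199600 (iv0 F451343) F412789
def n208906 : Q := act 0 n135320
theorem D208906 : act 0 n135320 = n208906 := rfl
theorem F451346 : act 5 n208906 = n191403 := d17_1 D208906 F383365 F332323 F166374 D130699 (iv0 F334821) (iv5 F334824) (iv0 D164330) (iv4 F337849)
theorem F451347 : act 4 n208906 = n208116 := d18_1 D208906 (iv1 F447948) (iv4 D173516) (iv5 D83012) D83011 F271956 (iv4 F357812) (iv0 D135318) D135320
theorem F451348 : act 3 n208906 = n142444 := d20_5 F230716 (iv1 F233857) (iv4 F383195) F383194 D208906 F225362 F320801 (iv4 F222867) F222866 D144819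
theorem F451349 : act 6 n208906 = n142442 := d21_5 F78628 (iv1 F337836) D63618 (iv6 F217556) D208906 (iv5 F225356) (iv1 F182176) (iv5 F352071) F352072 (iv1 D107744)
theorem F451350 : act 2 n143604 = n208906 := d15_3 (iv0 D208906) (iv0 F430562) F430561
theorem F451351 : act 7 n208906 = n176321 := d4_2 F430561 F451350 (iv2 F430558)
def n208907 : Q := act 7 n135343
theorem D208907 : act 7 n135343 = n208907 := rfl
theorem F451352 : act 2 n208907 = n135353 := d4_1 D208907 (iv7 D135353) (iv2 F217581)
theorem F451353 : act 4 n208907 = n185888 := d11_1 D208907 F362719 F218478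
theorem F451354 : act 6 n208907 = n180739 := d14_1 D208907 (iv7 F441568) (iv6 D206611) F207207 D135343
theorem F451355 : act 1 n135351 = n208907 := d15_1 D135351 (iv7 D208907) F217581
theorem F451356 : act 1 n208907 = n135350 := d15_1 F451355 (iv7 F366467) (iv2 F366460)
def n208908 : Q := act 6 n135345
theorem D208908 : act 6 n135345 = n208908 := rfl
theorem F451357 : act 3 n208908 = n207376 := d7_1 D208908 (iv6 D207376) (iv3 F217589)
theorem F451358 : act 4 n208908 = n208659 := d10_1 D208908 (iv6 D208659) (iv4 F217591)
theorem F451359 : act 5 n208908 = n189645 := d21_6 (iv5 D90538) (iv1 F65451) D48690 D105313 F321198 D208908 (iv1 D189645) (iv5 F177212) (iv6 D113916) F139345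
theorem F451360 : act 0 n208908 = n187186 := d21_10 (iv5 D187186) (iv1 F276296) F355647 (iv6 F371223) (iv1 F371224) F364193 (iv5 D132757) F98970 D135345 D208908
theorem F451361 : act 0 n187188 = n208908 := d21_4 (iv5 D159507) F234963 D105453 (iv6 F369414) (iv6 D208908) (iv5 D135345) (iv1 F208623) D132768 F324702 (iv1 F354891)
def n208909 : Q := act 5 n135346
theorem D208909 : act 5 n135346 = n208909 := rfl
theorem F451362 : act 6 n208909 = n189645 := d12_2 D135346 D208909 (iv5 F451359) (iv6 D208908) (iv5 D135345)
theorem F451363 : act 7 n208909 = n189712 := d13_2 F351701 D208909 F377495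
theorem F451364 : act 0 n208909 = n207318 := d17_2 (iv1 F362718) D208909 (iv5 D207318) (iv4 D130819) D130820 F330893 (iv5 D130130) (iv0 F331839) F323385
theorem F451365 : act 1 n208909 = n188527 := d17_6 (iv1 F362641) F362642 F362638 (iv5 D135352) (iv4 F217594) D208909 F373812 (iv0 F369371) F249999
def n208910 : Q := act 6 n135348
theorem D208910 : act 6 n135348 = n208910 := rfl
theorem F451366 : act 2 n208910 = n204929 := d3_1 D208910 (iv6 D204929) (iv2 F354631)
theorem F451367 : act 3 n208910 = n204240 := d7_1 D208910 (iv6 D204240) (iv3 F354632)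
theorem F451368 : act 4 n208910 = n135349 := d10_1 D208910 (iv6 D135349) D135348
theorem F451369 : act 0 n208910 = n174814 := d21_4 (iv5 F433062) F433064 F387182 D208910 (iv6 D174814) D174813 F354780 (iv5 D157626) (iv6 F307397) (iv1 F316605)
theorem F451370 : act 0 n204253 = n208910 := d21_4 (iv5 F312378) (iv1 F431684) (iv5 D204252) D204253 (iv6 D208910) (iv5 F387182) (iv1 F434251) F434253 F357442 F312376
def n208911 : Q := act 5 n135349
theorem D208911 : act 5 n135349 = n208911 := rfl
theorem F451371 : act 3 n208911 = n135368 := d6_1 D208911 (iv5 D135368) (iv3 F217601)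
theorem F451372 : act 6 n208911 = n135352 := d12_2 D135349 D208911 (iv5 D135352) (iv6 D63625) D63624
theorem F451373 : act 0 n208911 = n204305 := d17_2 F357878 D208911 F431970 F354019 D186874 (iv0 F389892) (iv5 D193454) F389857 F389854
theorem F451374 : act 1 n208911 = n203478 := d17_8 (iv1 D123493) D123495 F350369 (iv5 F358732) (iv4 F389877) (iv5 D193449) F357879 D208911 F428469
def n208912 : Q := act 6 n135350
theorem D208912 : act 6 n135350 = n208912 := rfl
theorem F451375 : act 2 n208912 = n207950 := d3_1 D208912 (iv6 D207950) F366466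
theorem F451376 : act 3 n208912 = n200841 := d7_1 D208912 (iv6 F447305) F447304
theorem F451377 : act 4 n208912 = n195799 := d10_1 D208912 F398235 (iv4 F369294)
theorem F451378 : act 7 n208912 = n185891 := d14_2 F366467 D208912 (iv6 D185891) F135593 D185797
theorem F451379 : act 5 n208912 = n196827 := d21_6 (iv5 F207896) F217593 (iv5 D63624) D63625 D135350 D208912 (iv1 D196827) D196829 (iv6 F401940) (iv1 D132440)
theorem F451380 : act 0 n136714 = n208912 := d17_0 F451379 (iv1 D196827) D196829 (iv4 F444264) F444263 F370737 (iv5 F288353) F288356 (iv4 F288115)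
theorem F451381 : act 1 n196801 = n208912 := d17_6 (iv1 D49600) (iv5 D24192) D24189 D49589 D107338 D196801 F451379 F401926 (iv4 D107379)
theorem F451382 : act 6 n196827 = n174593 := d21_3 F336045 F451380 F451379 (iv1 D174593) (iv6 D83431) F59280 (iv1 F59013) D82937 D173301 F343452
theorem F451383 : act 3 n174593 = n205832 := d7_1 F451382 (iv6 D205832) F401930
def n208913 : Q := act 6 n135363
theorem D208913 : act 6 n135363 = n208913 := rfl
theorem F451384 : act 2 n208913 = n204949 := d3_1 D208913 (iv6 D204949) (iv2 F319767)
theorem F451385 : act 3 n208913 = n135365 := d7_1 D208913 (iv6 D135365) D135363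
theorem F451386 : act 4 n208913 = n204240 := d10_1 D208913 (iv6 D204240) (iv4 F319768)
def n208914 : Q := act 5 n135365
theorem D208914 : act 5 n135365 = n208914 := rfl
theorem F451387 : act 2 n208914 = n204042 := d2_1 D208914 F430878 F389092
theorem F451388 : act 7 n208914 = n204041 := d13_2 F389094 D208914 F430875
theorem F451389 : act 0 n208914 = n204039 := d17_2 (iv1 F357880) D208914 (iv5 D204039) F303724 (iv5 F328130) (iv0 F409620) F409622 (iv0 D172574) (iv4 F304301)
theorem F451390 : act 1 n208914 = n203723 := d17_6 F353877 (iv5 F322455) F353876 (iv5 D135368) (iv4 F217608) D208914 (iv5 D203723) F299268 (iv4 F236443)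
def n208915 : Q := act 4 n135368
theorem D208915 : act 4 n135368 = n208915 := rfl
theorem F451391 : act 6 n208915 = n135382 := d10_2 (iv6 F217609) D208915 (iv4 D135382)
theorem F451392 : act 3 n208915 = n199609 := d20_3 F361604 F353876 D208915 (iv1 D199609) (iv3 D111492) (iv4 D51423) (iv1 D24996) (iv4 F39224) (iv3 F81182) D111470
def n208916 : Q := act 1 n135382
theorem D208916 : act 1 n135382 = n208916 := rfl
theorem F451393 : act 4 n208916 = n180374 := d17_9 (iv1 F362660) (iv5 F447202) F447203 F368050 (iv4 F280909) F363990 (iv0 D183045) (iv5 F339515) D208916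
theorem F451394 : act 5 n208916 = n188263 := d18_9 F387678 F387676 (iv1 D183017) (iv4 F333854) (iv5 D157874) (iv4 F119161) F339518 D135382 D208916
theorem F451395 : act 3 n205193 = n208916 := d19_19 (iv1 D208916) F339515 (iv4 D87382) F61728 D40630 F294368 (iv4 F294005) F294004 (iv1 D19466) F291910 (iv4 F17936) F291914 D19842 (iv5 F291225) D45472 (iv3 F326386) D166610 F382706 (iv4 F435358)
theorem F451396 : act 6 n180373 = n208916 := d21_9 F339515 D183045 (iv5 F363990) (iv6 F434888) (iv1 D205075) (iv6 D125432) D125431 D205071 F434864 (iv1 D208916)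
theorem F451397 : act 2 n208916 = n157923 := d3_1 F451396 (iv6 F363196) (iv2 F280698)
def n208917 : Q := act 5 n135384
theorem D208917 : act 5 n135384 = n208917 := rfl
theorem F451398 : act 2 n208917 = n197186 := d2_1 D208917 (iv5 D197186) (iv2 F217613)
theorem F451399 : act 3 n208917 = n135385 := d6_1 D208917 (iv5 D135385) D135384
theorem F451400 : act 4 n208917 = n136479 := d9_1 D208917 (iv5 F354517) (iv4 F336419) (iv5 F346479) (iv4 F346448) F334740 F186377 D151508 (iv4 F354512) F354511 F354509 (iv5 F344809) (iv4 F344805) F344798 (iv4 F217614)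
theorem F451401 : act 7 n208917 = n153334 := d13_2 (iv7 F312970) D208917 (iv5 D153334)
theorem F451402 : act 0 n208917 = n183083 := d17_2 (iv1 F238368) D208917 (iv5 D183083) (iv4 F273220) (iv5 F344827) F348517 F429748 F429747 (iv4 F342643)
def n208918 : Q := act 6 n135384
theorem D208918 : act 6 n135384 = n208918 := rfl
theorem F451403 : act 2 n208918 = n153328 := d3_1 D208918 F351924 (iv2 F217613)
theorem F451404 : act 3 n208918 = n135386 := d7_1 D208918 (iv6 D135386) D135384
theorem F451405 : act 4 n208918 = n160781 := d10_1 D208918 F344795 (iv4 F217614)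
theorem F451406 : act 7 n208918 = n153322 := d14_2 (iv7 F312970) D208918 (iv6 D153322) F108950 D72446
theorem F451407 : act 1 n153296 = n208918 := d15_1 (iv0 F345839) F451406 F240880
theorem F451408 : act 1 n208918 = n153325 := d15_1 F451407 (iv7 F431048) F431046
def n208919 : Q := act 5 n135386
theorem D208919 : act 5 n135386 = n208919 := rfl
theorem F451409 : act 2 n208919 = n135424 := d2_1 D208919 (iv5 D135424) (iv2 F217616)
def n208920 : Q := act 6 n135394
theorem D208920 : act 6 n135394 = n208920 := rfl
theorem F451410 : act 3 n208920 = n193384 := d7_1 D208920 (iv6 D193384) F366744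
def n208921 : Q := act 6 n135400
theorem D208921 : act 6 n135400 = n208921 := rfl
theorem F451411 : act 2 n208921 = n135402 := d3_1 D208921 (iv6 D135402) D135400
theorem F451412 : act 3 n208921 = n167767 := d7_1 D208921 F353861 (iv3 F217635)
theorem F451413 : act 4 n208921 = n184036 := d10_1 D208921 (iv6 D184036) (iv4 F311279)
theorem F451414 : act 5 n208921 = n196830 := d12_1 D208921 (iv6 D196830) D196829 (iv6 F401940) (iv5 F217636)
theorem F451415 : act 0 n208921 = n203479 := d21_4 (iv5 F319566) (iv1 F212508) (iv5 F217636) D208921 (iv6 D203479) D203478 (iv1 F451374) (iv5 D208911) (iv6 D135349) (iv1 F317263)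
theorem F451416 : act 0 n194313 = n208921 := d21_1 D194313 F451414 (iv6 D196830) F354333 (iv6 D179256) D179255 F350633 D201414 F420420 F389511
def n208922 : Q := act 0 n135402
theorem D208922 : act 0 n135402 = n208922 := rfl
theorem F451417 : act 4 n208922 = n191369 := d18_1 D208922 F383238 (iv4 F303418) F249766 D176162 (iv0 F389518) (iv4 D193342) D193341 (iv5 F389512)
theorem F451418 : act 5 n208922 = n194314 := d21_0 (iv1 F392793) (iv5 D153910) (iv6 D72825) (iv1 F94813) D123579 (iv5 F319008) (iv1 F214129) F211051 D135402 D208922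
theorem F451419 : act 2 n203479 = n208922 := d2_3 F451418 (iv2 F428888) F428889
theorem F451420 : act 3 n194317 = n208922 := d6_3 F451418 F392792 (iv5 F392809)
theorem F451421 : act 7 n194313 = n208922 := d13_0 F451418 (iv7 D194314) D194313
theorem F451422 : act 6 n191367 = n208922 := d21_5 (iv5 F142222) F142223 (iv5 F109154) D153590 F383228 F451418 (iv1 F392793) (iv5 D153910) (iv6 D72825) (iv1 F94813)
def n208923 : Q := act 1 n135402
theorem D208923 : act 1 n135402 = n208923 := rfl
theorem F451423 : act 7 n208923 = n203479 := d15_2 (iv0 D208922) D208923 F451419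
theorem F451424 : act 4 n208923 = n204354 := d17_9 F432182 F366668 (iv1 D101482) (iv5 D47220) (iv4 F74491) D101469 D193341 (iv5 F389512) D208923
theorem F451425 : act 3 n203095 = n208923 := d20_3 F428496 (iv1 F427433) F427430 (iv1 D208923) F217640 (iv4 F217641) F388324 (iv4 F428488) F428487 D203484
theorem F451426 : act 5 n194312 = n208923 := d21_0 (iv1 D208923) F389512 (iv6 F389514) (iv1 F382336) (iv6 F355497) F392265 F392264 F416777 (iv6 F416778) (iv1 F392790)
theorem F451427 : act 2 n208923 = n194313 := d2_1 F451426 (iv5 D194313) D194312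
def n208924 : Q := act 7 n135402
theorem D208924 : act 7 n135402 = n208924 := rfl
theorem F451428 : act 3 n208924 = n135409 := d8_1 D208924 (iv7 D135409) (iv3 F217640)
theorem F451429 : act 5 n208924 = n200487 := d13_1 D208924 F416682 (iv5 F389512)
theorem F451430 : act 6 n208924 = n200488 := d14_1 D208924 F416687 (iv6 D152167) (iv7 F214125) D135402
theorem F451431 : act 1 n194313 = n208924 := d15_1 (iv0 F451416) (iv7 D208924) (iv2 F451411)
theorem F451432 : act 1 n208924 = n203479 := d15_1 F451431 (iv7 F451423) F451427
def n208925 : Q := act 6 n135404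
theorem D208925 : act 6 n135404 = n208925 := rfl
def n208926 : Q := act 1 n135405
theorem D208926 : act 1 n135405 = n208926 := rfl
theorem F451433 : act 1 n208926 = n203994 := d15_1 D208926 F430750 F239222
theorem F451434 : act 7 n208926 = n178122 := d15_2 (iv0 F388324) D208926 (iv2 F366850)
theorem F451435 : act 4 n208926 = n208006 := d17_9 (iv1 F447407) F428549 (iv1 D203494) (iv5 D119283) F86836 D72761 D153816 (iv5 F366444) D208926
theorem F451436 : act 3 n177789 = n208926 := d20_3 F301640 F300694 D177789 (iv1 D208926) (iv3 F387167) F387168 (iv1 F387172) F383257 F195862 F153926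
theorem F451437 : act 6 n203798 = n208926 := d21_3 D123092 F431284 F431281 (iv1 D208926) (iv6 D135405) D135404 (iv1 F357827) (iv5 D179685) (iv6 F156025) F306323
theorem F451438 : act 5 n184951 = n208926 := d21_2 D192954 (iv1 F388325) (iv6 F451437) (iv1 F429863) (iv6 D171094) (iv5 F344170) (iv1 F431349) F431346 F197290 F304762
theorem F451439 : act 2 n208926 = n184953 := d2_1 F451438 (iv5 D184953) D184951
def n208927 : Q := act 4 n135407
theorem D208927 : act 4 n135407 = n208927 := rfl
theorem F451440 : act 2 n208927 = n207347 := d1_1 D208927 F444453 (iv2 F358556)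
theorem F451441 : act 0 n208927 = n135417 := d20_1 D208927 F217749 F211024 D131679 F354051 F313047 (iv1 F313932) F313935 (iv3 F358560) (iv1 F239229)
def n208928 : Q := act 6 n135407
theorem D208928 : act 6 n135407 = n208928 := rfl
theorem F451442 : act 2 n208928 = n203650 := d3_1 D208928 F429239 (iv2 F358556)
theorem F451443 : act 3 n208928 = n206021 := d7_1 D208928 (iv6 D206021) F358557
theorem F451444 : act 5 n208928 = n203649 := d12_1 D208928 (iv6 D203649) (iv5 F189698) (iv6 F403046) F403045
theorem F451445 : act 7 n208928 = n208059 := d14_2 (iv7 F358555) D208928 F447683 F314492 (iv6 F353875)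
theorem F451446 : act 0 n208928 = n197606 := d21_4 D128170 F403047 F403045 D208928 F404999 F332323 F325424 F357817 F363617 (iv1 D128169)
theorem F451447 : act 1 n208928 = n135430 := d15_1 (iv0 F451446) (iv7 F332329) (iv2 F404998)
def n208929 : Q := act 4 n135408
theorem D208929 : act 4 n135408 = n208929 := rfl
theorem F451448 : act 2 n208929 = n205842 := d1_1 D208929 F438100 F359091
theorem F451449 : act 6 n208929 = n205839 := d10_2 F359110 D208929 F438088
theorem F451450 : act 0 n208929 = n203495 := d18_2 (iv1 F383588) D208929 (iv4 D203495) (iv5 D119283) F86836 D72760 (iv4 F306761) (iv0 F383585) (iv5 F383587)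
def n208930 : Q := act 7 n135408
theorem D208930 : act 7 n135408 = n208930 := rfl
theorem F451451 : act 2 n208930 = n205844 := d4_1 D208930 (iv7 D205844) F359091
theorem F451452 : act 3 n208930 = n200487 := d8_1 D208930 F416682 F389513
theorem F451453 : act 5 n208930 = n135409 := d13_1 D208930 (iv7 D135409) D135408
theorem F451454 : act 6 n208930 = n200481 := d14_1 D208930 F416647 (iv6 D126662) D126663 F359110
theorem F451455 : act 1 n205843 = n208930 := d15_1 D205843 (iv7 D208930) (iv2 F359091)
theorem F451456 : act 1 n208930 = n205830 := d15_1 F451455 F438037 (iv2 F438107)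
def n208931 : Q := act 5 n135411
theorem D208931 : act 5 n135411 = n208931 := rfl
theorem F451457 : act 2 n208931 = n186637 := d2_1 D208931 (iv5 F384744) F384741
theorem F451458 : act 3 n208931 = n135413 := d6_1 D208931 (iv5 D135413) D135411
theorem F451459 : act 4 n208931 = n206934 := d9_1 D208931 (iv5 D206934) F207663 (iv5 F211038) D131687 (iv5 F439879) F439880 (iv5 D191822) D191821 (iv5 F384542) F213632 (iv5 F217681) F319889 (iv5 F351940) (iv4 F359867)
theorem F451460 : act 7 n208931 = n191820 := d13_2 F239050 D208931 (iv5 F384539)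
theorem F451461 : act 0 n208931 = n149090 := d17_2 F429356 D208931 (iv5 D149090) (iv4 F304090) F215089 F212297 (iv5 F335156) F318434 (iv4 F429354)
theorem F451462 : act 1 n208931 = n191797 := d17_6 D131403 F312039 F250444 (iv5 F351940) (iv4 F359867) D208931 (iv5 D191797) (iv0 D98935) (iv4 F323251)
theorem E103949 : n204969 = n204415 := ((c19_12 F451461 (iv5 D149090) (iv4 F304090) (iv3 F306187) F232550 F312446 (iv4 F108149) F312444 (iv1 F90836) (iv5 F90871) (iv4 F198251) (iv3 F432441) (iv1 D204969) F200562 (iv4 F243428) F450993 (iv1 F450992) D208826 F451020 (iv3 F451458))).symm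
theorem F451463 : act 0 n204415 = n124883 := (sb E103949 (iv1 D204969))
theorem E103950 : n204968 = n204413 := ((c15_4 (iv0 D204968) (iv0 F451463) (iv7 D204415) D204413)).symm
theorem F451464 : act 1 n204413 = n124883 := (sb E103950 (iv0 D204968))
def n208932 : Q := act 0 n135413
theorem D208932 : act 0 n135413 = n208932 := rfl
theorem F451465 : act 5 n208932 = n186603 := d17_3 D63656 D135413 D208932 F367419 F314809 F95825 (iv5 F211046) (iv0 D30041) D30043
theorem F451466 : act 2 n191399 = n208932 := d15_3 (iv0 D208932) (iv0 F442168) F442167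
theorem F451467 : act 1 n135416 = n208932 := d15_0 (iv0 D208932) (iv7 F239052) F239051
theorem F451468 : act 7 n208932 = n191806 := d15_2 F442169 F451467 (iv2 F442165)
theorem F451469 : act 6 n186285 = n208932 := d21_9 (iv5 D135416) (iv1 D63657) D63658 D135421 (iv1 F384604) (iv6 D191851) (iv5 D99010) (iv1 F293934) D186285 (iv1 F451467)
def n208933 : Q := act 6 n135413
theorem D208933 : act 6 n135413 = n208933 := rfl
theorem F451470 : act 2 n208933 = n191828 := d3_1 D208933 (iv6 D191828) F321744
def n208934 : Q := act 6 n135416
theorem D208934 : act 6 n135416 = n208934 := rfl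
theorem F451471 : act 3 n208934 = n186636 := d7_1 D208934 (iv6 D186636) (iv3 F366173)
theorem F451472 : act 5 n194130 = n208934 := d6_0 F451471 F367516 D194130
def n208935 : Q := act 5 n135417
theorem D208935 : act 5 n135417 = n208935 := rfl
theorem F451473 : act 3 n208935 = n175571 := d6_1 D208935 (iv5 F384807) F384805
theorem F451474 : act 6 n208935 = n194130 := d12_2 D135417 D208935 F451472 (iv6 D208934) (iv5 D135416)
theorem F451475 : act 0 n208935 = n191496 := d17_2 F451441 D208935 (iv5 D191496) F340200 D161353 (iv0 F353997) (iv5 D135408) D135407 D208927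
theorem F451476 : act 1 n208935 = n191498 := d17_6 (iv1 F187751) (iv5 F428556) (iv1 F428557) (iv5 F366650) (iv4 F217749) D208935 (iv5 D191498) F340209 (iv4 D172020)
def n208936 : Q := act 6 n135418
theorem D208936 : act 6 n135418 = n208936 := rfl
def n208937 : Q := act 6 n135420
theorem D208937 : act 6 n135420 = n208937 := rfl
theorem F451477 : act 4 n208937 = n135421 := d10_1 D208937 (iv6 D135421) D135420
def n208938 : Q := act 5 n135421
theorem D208938 : act 5 n135421 = n208938 := rfl
theorem F451478 : act 3 n208938 = n194513 := d6_1 D208938 F393517 F239074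
theorem F451479 : act 6 n208938 = n135424 := d12_2 D135421 D208938 (iv5 D135424) (iv6 D63659) D63658
theorem F451480 : act 4 n194526 = n208938 := d10_3 F451479 F348200 (iv6 F393587)
def n208939 : Q := act 7 n135421
theorem D208939 : act 7 n135421 = n208939 := rfl
def n208940 : Q := act 6 n135422
theorem D208940 : act 6 n135422 = n208940 := rfl
theorem F451481 : act 2 n208940 = n191557 := d3_1 D208940 (iv6 F387389) F387386
theorem F451482 : act 4 n208940 = n172565 := d10_1 D208940 F428344 (iv4 F428343)
theorem F451483 : act 5 n208940 = n191556 := d12_1 D208940 (iv6 F383797) (iv5 D137781) D137782 (iv5 F371284)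
def n208941 : Q := act 0 n135424
theorem D208941 : act 0 n135424 = n208941 := rfl
def n208942 : Q := act 6 n135428
theorem D208942 : act 6 n135428 = n208942 := rfl
theorem F451484 : act 2 n208942 = n204045 := d3_1 D208942 F430883 (iv2 F351821)
theorem F451485 : act 3 n208942 = n136953 := d7_1 D208942 F220121 (iv3 F334182)
theorem F451486 : act 4 n208942 = n135430 := d10_1 D208942 (iv6 D135430) D135428
theorem F451487 : act 5 n208942 = n136950 := d12_1 D208942 (iv6 D136950) F100312 D64555 (iv5 F334183)
theorem F451488 : act 7 n208942 = n184485 := d14_2 F351820 D208942 (iv6 D184485) (iv7 F233090) (iv6 F351819)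
theorem F451489 : act 0 n208942 = n203798 := d21_4 F351625 (iv1 D137332) (iv5 F334183) D208942 F451437 (iv5 F451438) (iv1 F430902) (iv5 D204050) (iv6 F388758) (iv1 F388759)
theorem F451490 : act 0 n204040 = n208942 := d21_4 D208914 F451389 (iv5 D204039) D204040 (iv6 D208942) F334183 D137331 (iv5 F351621) F351622 (iv1 F357880)
def n208943 : Q := act 5 n135433
theorem D208943 : act 5 n135433 = n208943 := rfl
theorem F451491 : act 2 n208943 = n136461 := d2_1 D208943 (iv5 F351818) F351815
theorem F451492 : act 7 n208943 = n137330 := d13_2 (iv7 F351823) D208943 F351824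
theorem F451493 : act 0 n208943 = n137332 := d17_2 (iv1 F331998) D208943 (iv5 F351625) F351604 (iv5 D173948) (iv0 F259372) (iv5 F364462) (iv0 D157985) (iv4 F115320)
theorem F451494 : act 1 n208943 = n137331 := d17_6 (iv1 F341202) F341207 (iv1 D83102) F330211 D135433 D208943 (iv5 F351621) F351618 F125888
theorem F451495 : act 4 n208943 = n199238 := d18_5 (iv1 F366863) F270558 (iv1 F307461) D135433 D208943 F411274 D199246 (iv0 F411313) (iv5 F371284)
theorem F451496 : act 6 n208943 = n136460 := d21_9 (iv5 F412018) (iv1 F414315) (iv5 D136372) D136373 F429661 F429647 (iv5 D160272) (iv1 F331998) D208943 (iv1 F219576)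
def n208944 : Q := act 4 n135473
theorem D208944 : act 4 n135473 = n208944 := rfl
theorem F451497 : act 2 n208944 = n206474 := d1_1 D208944 F440999 F417015
theorem F451498 : act 7 n208944 = n208688 := d11_2 F417017 D208944 (iv4 D208688)
theorem F451499 : act 0 n208944 = n205737 := d17_0 F437639 F450890 (iv5 D208790) F217311 D205656 (iv0 F437356) (iv5 F217129) F217838 D208944
theorem F451500 : act 1 n208944 = n208645 := d18_6 (iv1 F203525) (iv4 F207597) (iv1 F211739) (iv4 F437783) F437787 D208944 F450309 (iv0 F437265) (iv5 F365160)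
def n208945 : Q := act 6 n135473
theorem D208945 : act 6 n135473 = n208945 := rfl
theorem F451501 : act 2 n208945 = n208690 := d3_1 D208945 (iv6 D208690) F417015
theorem F451502 : act 0 n207803 = n208945 := d21_4 F437406 (iv1 F211803) (iv5 F432200) (iv6 F446512) (iv6 D208945) (iv5 F437787) (iv1 F437784) (iv5 D205657) D205658 (iv1 F437404)
theorem F451503 : act 1 n206091 = n208945 := d15_0 (iv0 F451502) F446513 F441859
def n208946 : Q := act 4 n135474
theorem D208946 : act 4 n135474 = n208946 := rfl
theorem F451504 : act 2 n208946 = n208688 := d1_1 D208946 (iv4 D208688) (iv2 F417016)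
theorem F451505 : act 3 n208946 = n188183 := d5_1 D208946 (iv4 F416981) F416979 D200574 F417013
theorem F451506 : act 6 n208946 = n137885 := d10_2 (iv6 F448924) D208946 (iv4 F448923)
theorem F451507 : act 7 n208946 = n206474 := d11_2 (iv7 F417014) D208946 F440999
theorem F451508 : act 5 n208946 = n188182 := d17_5 (iv1 F203610) D205657 (iv1 F437793) F437795 D208946 (iv0 F432857) (iv5 F437221) (iv0 F437749) (iv4 D205762)
theorem F451509 : act 0 n208946 = n208645 := d18_2 (iv1 F217842) D208946 F450309 (iv5 D205625) (iv4 F212701) F212703 (iv4 F437357) (iv0 F437356) (iv5 F217129)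
theorem F451510 : act 1 n208946 = n205737 := d18_6 (iv1 D126474) (iv4 F96603) D132177 (iv4 F437799) F437795 D208946 (iv4 D205737) (iv0 F212217) F380832
def n208947 : Q := act 6 n135475
theorem D208947 : act 6 n135475 = n208947 := rfl
theorem F451511 : act 2 n208947 = n135476 := d3_1 D208947 (iv6 D135476) D135475
theorem F451512 : act 4 n208947 = n199688 := d10_1 D208947 F413130 (iv4 F217839)
theorem F451513 : act 0 n208947 = n191586 := d21_4 F437747 F437746 F437433 D208947 (iv6 D191586) D191585 F437403 F437402 (iv6 D126587) D126583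
theorem F451514 : act 1 n208947 = n207748 := d15_0 (iv0 F446230) (iv7 F437874) (iv2 F451511)
def n208948 : Q := act 0 n135476
theorem D208948 : act 0 n135476 = n208948 := rfl
theorem F451515 : act 3 n208948 = n200091 := d20_5 (iv4 F163879) (iv1 D63688) (iv4 F99025) (iv3 F217844) D208948 (iv4 F441992) F441993 (iv4 D132677) (iv3 F326010) (iv1 F203358)
theorem F451516 : act 5 n208948 = n200090 := d21_2 F437878 D208948 F414974 F409758 F365379 (iv5 D135480) F99034 D132424 D207841 (iv1 F446671)
theorem F451517 : act 6 n208948 = n191578 := d21_5 D205656 (iv1 F437435) F203447 D135476 D208948 (iv5 F437386) (iv1 F437742) F437739 (iv6 F344980) (iv1 F203616)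
theorem F451518 : act 2 n191586 = n208948 := d3_3 F451517 F383892 D191586
theorem F451519 : act 4 n191579 = n208948 := d10_3 F451517 (iv4 D191578) D191579
theorem F451520 : act 7 n207748 = n208948 := d15_2 (iv0 F451513) F451514 (iv2 F451518)
def n208949 : Q := act 1 n135476
theorem D208949 : act 1 n135476 = n208949 := rfl
theorem F451521 : act 7 n208949 = n191586 := d15_2 (iv0 D208948) D208949 F451518
theorem F451522 : act 4 n191589 = n208949 := d20_6 F173139 (iv1 F167600) (iv4 F206964) F367735 (iv1 F367743) (iv3 F383902) (iv1 D208949) F217845 (iv3 D111599) D111597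
theorem F451523 : act 2 n207748 = n208949 := d16_9 (iv4 F451522) F383903 F239740 (iv5 F187588) (iv4 F428448) F428449 (iv4 F414973) (iv5 F451516) (iv7 F451520)
theorem F451524 : act 5 n208949 = n207747 := d2_2 D207748 F451523 (iv2 D207747)
def n208950 : Q := act 0 n135479
theorem D208950 : act 0 n135479 = n208950 := rfl
theorem F451525 : act 5 n208950 = n195704 := d19_1 D208950 (iv4 D195704) (iv3 F367824) (iv1 F417330) F417326 (iv4 F176670) (iv3 F342143) D207439 F444914 F438581 F401435 D196674 F401436 F227035 F217143 (iv1 D133344) F97591 (iv4 F99033) (iv3 F217850)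
theorem F451526 : act 3 n208950 = n205962 := d20_5 (iv4 F98329) F98331 (iv4 F99033) (iv3 F217850) D208950 F438608 (iv1 F350856) (iv4 F212483) F212482 (iv1 F96848)
theorem F451527 : act 6 n208950 = n207624 := d21_5 F203414 F203429 F203428 D135479 D208950 (iv5 F445738) F445740 F437728 F400014 (iv1 F203596)
theorem F451528 : act 4 n207625 = n208950 := d10_3 F451527 (iv4 D207624) D207625
theorem F451529 : act 7 n207787 = n208950 := d14_0 F451527 F445731 F441801 (iv7 F212222) D207787
def n208951 : Q := act 1 n135479
theorem D208951 : act 1 n135479 = n208951 := rfl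
theorem F451530 : act 3 n205772 = n208951 := d20_3 (iv4 F217984) (iv1 F217986) (iv4 F437809) (iv1 D208951) F217850 F99033 (iv1 F98739) (iv4 F203533) D205727 F437614
theorem F451531 : act 4 n206518 = n208951 := d20_6 (iv4 D106577) (iv1 F77804) (iv4 F96476) (iv3 F211322) F391984 (iv3 F441168) (iv1 D208951) F217851 F164364 F163856
theorem F451532 : act 5 n208951 = n195706 := d9_2 (iv5 F441169) F451531 (iv4 D195706) (iv5 F361400) D200582 (iv5 F417057) F435334 (iv5 F445734) F451528 F451525 (iv4 D195704) (iv5 F377922) D200580 F436249 F436247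
theorem F451533 : act 6 n208951 = n136316 := d10_2 D206518 F451531 (iv4 F219384)
theorem F451534 : act 2 n207787 = n208951 := d16_9 (iv4 F451531) F441169 (iv4 F436247) (iv5 F436249) (iv4 D200580) F377922 D195704 (iv5 F451525) (iv7 F451529)
def n208952 : Q := act 5 n135479
theorem D208952 : act 5 n135479 = n208952 := rfl
theorem F451535 : act 3 n208952 = n135480 := d6_1 D208952 (iv5 D135480) (iv3 F217850)
theorem F451536 : act 6 n208952 = n189820 := d12_2 D135479 D208952 F437442 (iv6 D205680) F203428
theorem F451537 : act 4 n208952 = n189821 := d16_4 F435437 (iv5 D196125) (iv4 F217851) D208952 F418254 (iv4 F418253) (iv5 F435426) F435430 (iv2 F435436)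
def n208953 : Q := act 6 n135484
theorem D208953 : act 6 n135484 = n208953 := rfl
theorem F451538 : act 2 n208953 = n135485 := d3_1 D208953 (iv6 D135485) D135484
theorem F451539 : act 3 n208953 = n208947 := d7_1 D208953 (iv6 D208947) (iv3 F217866)
theorem F451540 : act 4 n208953 = n191614 := d10_1 D208953 F383976 (iv4 F217867)
def n208954 : Q := act 0 n135485
theorem D208954 : act 0 n135485 = n208954 := rfl
theorem F451541 : act 3 n208954 = n203965 := d20_5 F203353 (iv1 D63704) (iv4 F99053) (iv3 F217873) D208954 (iv4 D203965) F327233 D126014 F324946 (iv1 F203351)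
theorem F451542 : act 6 n208954 = n206748 := d21_5 (iv5 D59359) D59356 (iv5 F99050) D135485 D208954 (iv5 D206748) F399940 (iv5 F437415) (iv6 D205670) F203591
theorem F451543 : act 7 n206804 = n208954 := d8_0 F451541 F430620 D206804
def n208955 : Q := act 1 n135485
theorem D208955 : act 1 n135485 = n208955 := rfl
theorem F451544 : act 3 n205665 = n208955 := d20_3 (iv4 F218298) (iv1 F218301) (iv4 F437390) (iv1 D208955) F217873 F99053 (iv1 F167943) (iv4 F203347) D205616 (iv1 F437239)
theorem F451545 : act 4 n207499 = n208955 := d20_6 (iv4 D61871) (iv1 F77789) (iv4 F163820) (iv3 F391977) (iv1 F391983) D207499 (iv1 D208955) F217874 F163710 (iv1 F164038)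
theorem F451546 : act 2 n208955 = n206804 := d0_1 F451544 (iv3 D206804) (iv2 F436541) F437733 (iv2 F437735)
def n208956 : Q := act 5 n135485
theorem D208956 : act 5 n135485 = n208956 := rfl
theorem F451547 : act 3 n208956 = n135486 := d6_1 D208956 (iv5 D135486) (iv3 F217873)
theorem F451548 : act 6 n208956 = n205679 := d12_2 D135485 D208956 (iv5 D205679) (iv6 D126517) (iv5 F99050)
theorem F451549 : act 4 n206571 = n208956 := d5_0 F451547 (iv4 F334307) F208835 (iv4 F208841) (iv3 F441388)
theorem F451550 : act 7 n207111 = n208956 := d8_0 F451547 F334309 (iv3 F443377)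
def n208957 : Q := act 7 n135485
theorem D208957 : act 7 n135485 = n208957 := rfl
theorem F451551 : act 3 n208957 = n135487 := d8_1 D208957 (iv7 D135487) (iv3 F217873)
theorem F451552 : act 4 n208957 = n191615 := d11_1 D208957 F383974 (iv4 F217874)
theorem F451553 : act 5 n208957 = n207111 := d13_1 D208957 F451550 (iv5 D208956)
theorem F451554 : act 6 n208957 = n206856 := d14_1 D208957 F442425 (iv6 D135479) (iv7 F99051) D135485
theorem F451555 : act 0 n208957 = n206804 := d20_4 F169032 (iv1 F99062) (iv4 F217879) (iv3 F451551) (iv3 D206804) (iv4 D129351) (iv1 D60787) (iv4 F95325) F95324 D60717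
theorem F451556 : act 1 n208953 = n206804 := d15_0 (iv0 F451555) (iv7 D208957) (iv2 F451538)
def n208958 : Q := act 5 n135495
theorem D208958 : act 5 n135495 = n208958 := rfl
theorem F451557 : act 2 n208958 = n187640 := d2_1 D208958 F442727 F442724
theorem F451558 : act 3 n208958 = n206972 := d6_1 D208958 F442788 (iv3 F371081)
theorem F451559 : act 7 n208958 = n187638 := d13_2 F442790 D208958 (iv5 F442788)
theorem F451560 : act 4 n208958 = n186194 := d16_4 D190599 (iv5 F436375) F436374 D208958 (iv5 D186194) (iv4 F292565) D96235 (iv7 F160276) (iv2 F160277)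
theorem F451561 : act 0 n208958 = n185789 := d21_7 F358293 (iv1 D136341) (iv5 D64099) F48595 D63709 D135495 D208958 F446024 (iv6 D207690) (iv1 F211837)
theorem F451562 : act 6 n200970 = n208958 := d21_5 (iv5 D76341) D76339 (iv5 F114459) D159582 (iv1 F418557) (iv5 D208958) F371484 (iv5 D187785) F139386 (iv1 F114442)
theorem E103951 : n206736 = n206705 := ((c12_5 F451562 (iv5 D208958) (iv6 D135495) (iv5 F358348) D206705 (iv5 F442023))).symm
theorem F451563 : act 0 n206705 = n129159 := (sb E103951 (iv1 D206736))
theorem F451564 : act 5 n206705 = n200970 := (sb E103951 (iv5 F442023))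
def n208959 : Q := act 6 n135497
theorem D208959 : act 6 n135497 = n208959 := rfl
theorem F451565 : act 3 n208959 = n135499 := d7_1 D208959 (iv6 D135499) D135497
theorem F451566 : act 4 n208959 = n206655 := d10_1 D208959 F441759 F399857
theorem F451567 : act 5 n208959 = n159571 := d12_1 D208959 (iv6 D159571) (iv5 D76341) (iv6 F114424) (iv5 F362915)
theorem F451568 : act 7 n208959 = n206659 := d14_2 (iv7 F399855) D208959 F441777 (iv7 F211680) (iv6 F399851)
def n208960 : Q := act 1 n135499
theorem D208960 : act 1 n135499 = n208960 := rfl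
theorem F451569 : act 1 n208960 = n207941 := d15_1 D208960 (iv7 F447085) F442720
theorem F451570 : act 7 n208960 = n207830 := d15_2 (iv0 F384038) D208960 F446622
theorem F451571 : act 6 n207901 = n208960 := d21_3 F419200 (iv1 F421167) (iv5 F446933) (iv1 D208960) (iv6 D135499) (iv5 F217904) (iv1 F343591) F343594 D129127 (iv1 F419202)
theorem F451572 : act 2 n208960 = n205746 := d3_1 F451571 F437679 D207901
theorem F451573 : act 3 n191658 = n208960 := d0_0 F451572 (iv3 D205746) (iv2 F203564) (iv3 F384119) F384118
theorem F451574 : act 5 n208960 = n191657 := d6_2 D191658 F451573 (iv3 D191657)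
def n208961 : Q := act 5 n135499
theorem D208961 : act 5 n135499 = n208961 := rfl
theorem F451575 : act 3 n208961 = n159571 := d6_1 D208961 (iv5 F451567) F451565
theorem F451576 : act 6 n208961 = n159569 := d12_2 D135499 D208961 (iv5 D159569) (iv6 F362911) F217904
theorem F451577 : act 0 n208961 = n207942 := d18_0 F447090 F441176 (iv4 F217874) D208956 (iv4 F451549) (iv0 D206571) (iv4 F212990) (iv0 F384038) D208961
def n208962 : Q := act 7 n135499
theorem D208962 : act 7 n135499 = n208962 := rfl
theorem F451578 : act 2 n208962 = n207941 := d4_1 D208962 (iv7 F447085) F442720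
theorem F451579 : act 3 n208962 = n206659 := d8_1 D208962 (iv7 F451568) F451565
theorem F451580 : act 6 n208962 = n206671 := d14_1 D208962 F442729 (iv6 D206953) F358339 D135499
theorem F451581 : act 1 n205746 = n208962 := d15_1 (iv0 F442723) (iv7 D208962) (iv2 F442720)
theorem F451582 : act 1 n208962 = n207830 := d15_1 F451581 (iv7 F451570) F451572
def n208963 : Q := act 4 n135507
theorem D208963 : act 4 n135507 = n208963 := rfl
theorem F451583 : act 2 n208963 = n195727 := d1_1 D208963 F397960 F361068
theorem F451584 : act 3 n208963 = n145460 := d5_1 D208963 F402689 F328469 (iv4 D135508) D135507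
theorem F451585 : act 6 n208963 = n195721 := d10_2 (iv6 F335895) D208963 (iv4 D195721)
theorem F451586 : act 5 n208963 = n180133 := d16_5 (iv4 F202738) F397961 F397960 F364324 D208963 F333465 F257771 (iv7 F257908) (iv2 F324477)
theorem F451587 : act 0 n208963 = n206490 := d17_0 F441057 F337367 (iv5 F355006) D206601 F441515 (iv0 F333483) F349621 (iv0 F359585) D208963
theorem F451588 : act 1 n208963 = n164178 := d18_6 (iv1 F209514) D135822 (iv1 F397964) F397960 F364324 D208963 (iv4 F333456) (iv0 D130907) F209515
def n208964 : Q := act 6 n135511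
theorem D208964 : act 6 n135511 = n208964 := rfl
theorem F451589 : act 2 n208964 = n135515 := d3_1 D208964 (iv6 D135515) (iv2 F217913)
theorem F451590 : act 3 n208964 = n205605 := d7_1 D208964 (iv6 D205605) (iv3 F217914)
theorem F451591 : act 0 n208964 = n191713 := d21_10 (iv5 D191713) F349265 (iv5 F252196) (iv6 D159928) (iv1 F114808) D105752 F349097 (iv1 F99178) D135511 D208964
theorem F451592 : act 0 n191795 = n208964 := d21_4 (iv5 F373927) F374686 F374683 (iv6 F384473) (iv6 D208964) (iv5 D135511) (iv1 F99182) (iv5 F349125) (iv6 F371125) F371162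
theorem F451593 : act 4 n208964 = n191771 := d18_3 (iv1 D191794) D191795 F451592 (iv5 D191771) (iv4 D98907) F292360 D91062 D188191 (iv5 F384464)
theorem F451594 : act 5 n208964 = n189244 := d19_1 F451592 (iv4 D189244) F144604 F293754 (iv5 D47748) F36028 F17984 F292491 (iv5 D9891) D9890 D20840 (iv1 F69112) D92487 D188565 (iv3 F398984) (iv1 F349263) (iv5 F394472) F394471 F391681
theorem F451595 : act 7 n189350 = n208964 := d13_0 F451594 F376202 D189350
theorem F451596 : act 6 n191771 = n208405 := d10_2 D208964 F451593 F449216
def n208965 : Q := act 0 n135512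
theorem D208965 : act 0 n135512 = n208965 := rfl
theorem F451597 : act 4 n208965 = n200146 := d20_8 (iv4 F175390) F397824 F397822 (iv3 F397816) F397818 (iv3 F422017) F422018 D208965 (iv3 D200146) (iv1 D112700)
theorem F451598 : act 1 n135519 = n208965 := d15_0 (iv0 D208965) (iv7 F364328) (iv2 F364329)
theorem F451599 : act 2 n135516 = n208965 := d1_3 F451597 F426305 (iv4 F364743)
theorem F451600 : act 6 n206065 = n208965 := d10_0 F451597 (iv6 F421298) (iv4 F439080)
theorem F451601 : act 7 n135517 = n208965 := d11_0 F451597 F415235 (iv4 F364326)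
theorem F451602 : act 6 n135516 = n201843 := d3_2 F451600 (iv2 F451599) F439081
def n208966 : Q := act 1 n135512
theorem D208966 : act 1 n135512 = n208966 := rfl
theorem F451603 : act 1 n208966 = n135519 := d15_1 D208966 (iv7 D135519) (iv2 F217915)
theorem F451604 : act 7 n208966 = n135516 := d15_2 (iv0 D208965) D208966 F451599
theorem F451605 : act 4 n202943 = n208966 := d20_0 (iv1 D208966) (iv4 F422018) F422017 (iv1 F418535) F418605 (iv4 F446452) F446456 F418615 F204746 D202943
theorem F451606 : act 3 n194043 = n208966 := d20_3 (iv4 D102610) D102609 D194043 (iv1 D208966) F217916 F214051 D133266 D208048 F447627 (iv1 D194046)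
theorem F451607 : act 6 n203298 = n208966 := d21_3 F183655 D118648 D203298 (iv1 D208966) (iv6 D135512) D135511 (iv1 F218204) F218209 (iv6 F349021) F349044
theorem F451608 : act 2 n208966 = n135517 := d3_1 F451607 (iv6 F364325) (iv2 F427745)
def n208967 : Q := act 5 n135512
theorem D208967 : act 5 n135512 = n208967 := rfl
theorem F451609 : act 2 n208967 = n135518 := d2_1 D208967 (iv5 D135518) (iv2 F217915)
theorem F451610 : act 3 n208967 = n208016 := d6_1 D208967 (iv5 D208016) (iv3 F217916)
theorem F451611 : act 6 n208967 = n189244 := d12_2 D135512 D208967 (iv5 F451594) (iv6 D208964) (iv5 D135511)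
theorem F451612 : act 0 n208967 = n159992 := d17_2 (iv1 D208966) D208967 F252363 (iv4 F419270) F419271 F349259 (iv5 F349258) F426306 F451605
theorem F451613 : act 4 n208967 = n151692 := d18_5 F421239 F439076 (iv1 F439074) F422018 D208967 (iv0 D151692) (iv4 F238570) F349263 (iv5 F398985)
theorem F451614 : act 0 n151697 = n208967 := d20_10 F451613 F349252 F247679 F112314 D106688 (iv3 F391867) (iv4 F410111) (iv1 F410113) (iv4 F403359) F403358
def n208968 : Q := act 6 n135514
theorem D208968 : act 6 n135514 = n208968 := rfl
theorem F451615 : act 2 n208968 = n191771 := d3_1 D208968 F451596 (iv2 F449217)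
theorem F451616 : act 3 n208968 = n198982 := d7_1 D208968 (iv6 D198982) (iv3 F217917)
theorem F451617 : act 4 n208968 = n135515 := d10_1 D208968 (iv6 D135515) D135514
theorem F451618 : act 5 n208968 = n188169 := d12_1 D208968 F427206 (iv5 D203155) (iv6 F250287) F359676
theorem F451619 : act 0 n208968 = n136959 := d21_4 D208338 F448972 F359676 D208968 (iv6 D136959) F100313 D64557 D137338 F448965 (iv1 D208337)
theorem F451620 : act 7 n191776 = n208968 := d13_0 F451618 F372541 D191776
def n208969 : Q := act 0 n135515
theorem D208969 : act 0 n135515 = n208969 := rfl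
theorem F451621 : act 5 n208969 = n151943 := d19_1 D208969 F238930 (iv3 F142362) (iv1 F345007) (iv5 D186157) (iv4 F284089) (iv3 D182590) (iv1 F133781) D96478 D190724 (iv3 F442180) F442183 D206800 F442241 (iv3 F366039) (iv1 F384115) (iv5 D132415) (iv4 F99080) (iv3 F217919)
theorem F451622 : act 4 n208969 = n188177 := d20_8 F371151 D187670 (iv4 F389541) (iv3 F444396) F444398 (iv3 F451616) F451617 D208969 F372590 F371152
theorem F451623 : act 2 n191713 = n208969 := d1_3 F451622 F448699 F448696
theorem F451624 : act 3 n135754 = n208969 := d5_5 F451622 F372590 (iv4 F367979) (iv3 F229747) F359588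
theorem F451625 : act 7 n191795 = n208969 := d11_0 F451622 F372591 D191795
theorem F451626 : act 0 n208969 = n189350 := d19_4 (iv1 D207405) (iv5 F229748) F359588 F451624 (iv5 D189350) (iv4 D93905) F69016 D43898 F69018 F63672 F31114 F293529 (iv5 F293537) D20768 D43853 (iv1 F293187) (iv5 F289005) F344974 F444725
def n208970 : Q := act 1 n135515
theorem D208970 : act 1 n135515 = n208970 := rfl
theorem F451627 : act 1 n208970 = n189350 := d15_1 D208970 F451595 F451589
theorem F451628 : act 7 n208970 = n191713 := d15_2 (iv0 D208969) D208970 F451623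
theorem F451629 : act 4 n208970 = n191740 := d18_7 (iv1 F374174) (iv4 F351153) (iv1 F294362) D188169 (iv5 F451618) F451617 D208970 F448707 F448705
theorem F451630 : act 6 n187660 = n208970 := d21_3 F143020 D188553 F373928 (iv1 D208970) (iv6 D135515) (iv5 D63718) D63715 (iv5 F359574) (iv6 F374668) F374670
theorem F451631 : act 2 n208970 = n191795 := d3_1 F451630 F384473 F374684
theorem F451632 : act 5 n208970 = n188162 := d12_1 F451630 F376693 (iv5 D189493) (iv6 F373929) F373928
def n208971 : Q := act 5 n135515
theorem D208971 : act 5 n135515 = n208971 := rfl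
theorem F451633 : act 2 n208971 = n189244 := d2_1 D208971 (iv5 F451594) F451589
theorem F451634 : act 3 n208971 = n135522 := d6_1 D208971 (iv5 D135522) (iv3 F217919)
theorem F451635 : act 6 n208971 = n135518 := d12_2 D135515 D208971 (iv5 D135518) (iv6 D63719) D63718
theorem F451636 : act 4 n208971 = n188166 := d16_4 D188169 (iv5 F451618) F451617 D208971 (iv5 D188166) (iv4 D91010) D91011 (iv7 F294360) (iv2 F294363)
theorem F451637 : act 7 n208971 = n189343 := d16_8 (iv4 D93905) (iv5 D43896) F294675 D91016 D188169 (iv5 F451618) F451617 D208971 F376442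
theorem F451638 : act 1 n208971 = n186141 := d17_8 D186139 F367105 (iv1 F293117) (iv5 F108129) (iv4 F238930) (iv5 F451621) (iv0 D208969) D208971 (iv4 D186141)
theorem F451639 : act 1 n189348 = n208971 := d15_0 F451638 (iv7 F289201) F376451
def n208972 : Q := act 7 n135515
theorem D208972 : act 7 n135515 = n208972 := rfl
theorem F451640 : act 2 n208972 = n189350 := d4_1 D208972 F451595 F451589
theorem F451641 : act 3 n208972 = n135523 := d8_1 D208972 (iv7 D135523) (iv3 F217919)
theorem F451642 : act 4 n208972 = n191776 := d11_1 D208972 F451620 F451617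
theorem F451643 : act 5 n208972 = n189343 := d13_1 D208972 (iv7 F451637) (iv5 D208971)
theorem F451644 : act 6 n208972 = n200916 := d14_1 D208972 F418388 (iv6 D135712) F99185 D135515
theorem F451645 : act 1 n191795 = n208972 := d15_1 (iv0 F451592) (iv7 D208972) (iv2 F451589)
theorem F451646 : act 1 n208972 = n191713 := d15_1 F451645 (iv7 F451628) F451631
def n208973 : Q := act 5 n135516
theorem D208973 : act 5 n135516 = n208973 := rfl
theorem F451647 : act 4 n208973 = n135756 := d19_2 D135516 D208973 F218291 (iv1 F209266) (iv5 D130704) (iv4 F170823) F170819 F80341 F45590 (iv4 F325305) (iv3 F60731) (iv1 F60736) F254385 (iv4 F326211) (iv3 F163868) F83898 F38671 (iv4 F48330) (iv3 F99078)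
def n208974 : Q := act 3 n135517
theorem D208974 : act 3 n135517 = n208974 := rfl
theorem F451648 : act 2 n208974 = n195827 := d0_1 D208974 F398357 (iv2 F391856) F451606 F451608
theorem F451649 : act 6 n208974 = n195816 := d7_2 F364325 D208974 F398302
theorem F451650 : act 0 n208974 = n200991 := d20_4 F229787 (iv1 F258994) (iv4 F364326) D208974 F418655 (iv4 F343624) (iv1 F207139) (iv4 F347543) (iv3 F421297) (iv1 F421299)
theorem F451651 : act 5 n196185 = n208974 := d12_5 F451649 (iv5 D195816) D195817 F398310 D196185
def n208975 : Q := act 5 n135517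
theorem D208975 : act 5 n135517 = n208975 := rfl
theorem F451652 : act 3 n208975 = n196185 := d6_1 D208975 F451651 (iv3 D208974)
theorem F451653 : act 6 n208975 = n196184 := d12_2 F364325 D208975 F399766 (iv6 D151402) D151401
def n208976 : Q := act 1 n135518
theorem D208976 : act 1 n135518 = n208976 := rfl
theorem F451654 : act 7 n208976 = n159992 := d15_2 (iv0 F403342) D208976 (iv2 F403338)
theorem F451655 : act 5 n208976 = n193999 := d18_9 (iv1 F391716) F179343 D135754 (iv4 F359588) F229748 F349254 (iv0 F372536) F364269 D208976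
theorem F451656 : act 4 n189770 = n208976 := d20_6 (iv4 F214432) (iv1 F214435) F365044 (iv3 F369287) (iv1 F369290) D189770 (iv1 D208976) (iv4 F364269) (iv3 D130631) (iv1 F175843)
theorem F451657 : act 6 n151450 = n208976 := d21_3 (iv5 F444685) F444687 F389702 (iv1 D208976) (iv6 F451635) (iv5 D208971) D208969 F451621 (iv6 D151943) (iv1 F238533)
theorem F451658 : act 2 n208976 = n151697 := d3_1 F451657 (iv6 D151697) F238199
def n208977 : Q := act 7 n135518
theorem D208977 : act 7 n135518 = n208977 := rfl
theorem F451659 : act 3 n208977 = n135530 := d8_1 D208977 (iv7 D135530) (iv3 F217920)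
theorem F451660 : act 4 n208977 = n151693 := d11_1 D208977 F238574 F364269
theorem F451661 : act 5 n208977 = n135519 := d13_1 D208977 (iv7 D135519) D135518
theorem F451662 : act 1 n151697 = n208977 := d15_1 (iv0 F451614) (iv7 D208977) (iv2 F451609)
theorem F451663 : act 1 n208977 = n159992 := d15_1 F451662 (iv7 F451654) F451658
def n208978 : Q := act 0 n135522
theorem D208978 : act 0 n135522 = n208978 := rfl
theorem F451664 : act 5 n208978 = n195863 := d17_1 D208978 F398514 F376889 F378481 (iv5 D189991) F147157 (iv5 F306977) D144186 (iv4 F364264)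
theorem F451665 : act 4 n208978 = n191216 := d18_1 D208978 F382615 (iv4 F379617) (iv5 F379619) (iv4 F437907) F437911 F437900 (iv0 D135520) D135522
theorem F451666 : act 6 n208978 = n195864 := d21_5 F217463 (iv1 D63722) D63723 (iv6 F217924) D208978 (iv5 D195864) F362022 (iv5 F359849) F359850 D135261
theorem F451667 : act 1 n208027 = n208978 := d15_0 (iv0 D208978) (iv7 F379613) (iv2 F447512)
theorem F451668 : act 2 n208025 = n208978 := d3_3 F451666 F419694 (iv6 F447504)
theorem F451669 : act 3 n195867 = n208978 := d7_3 F451666 F398518 (iv6 F398529)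
theorem F451670 : act 7 n208026 = n208978 := d14_0 F451666 (iv7 F419696) (iv6 F419699) F416107 F447510
def n208979 : Q := act 1 n135522
theorem D208979 : act 1 n135522 = n208979 := rfl
theorem F451671 : act 1 n208979 = n208027 := d15_1 D208979 (iv7 D208027) (iv2 F217923)
theorem F451672 : act 7 n208979 = n208025 := d15_2 (iv0 D208978) D208979 F451668
theorem F451673 : act 5 n208979 = n200979 := d17_7 (iv1 F444128) F444124 (iv1 F384115) (iv5 D132415) (iv4 F99080) D135522 D208979 F418601 (iv4 F442538)
theorem F451674 : act 4 n208979 = n191215 := d17_9 F382610 F379984 (iv1 F283169) F367090 (iv4 F415794) (iv5 F415796) (iv0 D135520) D135522 D208979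
theorem F451675 : act 2 n208026 = n208979 := d1_3 F451674 F382606 (iv4 F447509)
theorem F451676 : act 3 n208979 = n207093 := d19_3 D97408 D191215 (iv4 F451674) (iv1 D207093) (iv5 D130141) F95614 F46589 (iv1 F79886) F320281 (iv4 D17450) (iv3 F28437) (iv1 F31227) F31225 F14313 (iv3 F14274) (iv1 F17586) D19124 (iv4 F292887) D45490
def n208980 : Q := act 2 n135524
theorem D208980 : act 2 n135524 = n208980 := rfl
theorem F451677 : act 3 n208980 = n207089 := d0_2 D135524 D208980 (iv2 F443268) (iv3 D133219) F170688
theorem F451678 : act 4 n208980 = n207743 := d1_2 (iv4 F217930) D208980 (iv2 D207743)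
theorem F451679 : act 5 n208980 = n200378 := d2_2 (iv5 F415871) D208980 F416203
theorem F451680 : act 6 n208980 = n159574 := d3_2 (iv6 F399938) D208980 F399936
theorem F451681 : act 7 n208980 = n208028 := d4_2 (iv7 F217931) D208980 (iv2 D208028)
theorem F451682 : act 1 n208980 = n201002 := d15_0 (iv0 F418684) (iv7 F217931) D208980
theorem F451683 : act 1 n207196 = n208980 := d15_0 F451682 (iv7 F447905) F447904
def n208981 : Q := act 1 n135525
theorem D208981 : act 1 n135525 = n208981 := rfl
theorem F451684 : act 7 n208981 = n207085 := d15_2 (iv0 F419536) D208981 F443252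
theorem F451685 : act 5 n208981 = n190531 := d17_7 (iv1 F377275) (iv5 D188212) (iv1 F370226) (iv5 F370225) F364461 (iv5 F367060) D208981 F380008 (iv4 F377272)
theorem F451686 : act 6 n208149 = n208981 := d21_9 F367060 (iv1 D186409) (iv5 F291469) (iv6 D90441) F290938 D187149 (iv5 F374506) (iv1 F413469) (iv5 F448118) (iv1 D208981)
theorem F451687 : act 2 n208981 = n207091 := d3_1 F451686 F444528 F448121
theorem F451688 : act 1 n208981 = n207089 := d15_0 (iv0 D207089) D207091 (iv2 F451687)
def n208982 : Q := act 2 n135525
theorem D208982 : act 2 n135525 = n208982 := rfl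
theorem F451689 : act 3 n208982 = n208028 := d0_2 D135525 D208982 (iv2 D208028) (iv3 D133221) F170693
theorem F451690 : act 4 n208982 = n208685 := d1_2 (iv4 F217932) D208982 (iv2 D208685)
theorem F451691 : act 5 n208982 = n176944 := d2_2 (iv5 F367060) D208982 F365432
theorem F451692 : act 6 n208982 = n187684 := d3_2 F374747 D208982 (iv2 F374759)
theorem F451693 : act 7 n208982 = n207089 := d4_2 (iv7 F217933) D208982 (iv2 F443268)
theorem F451694 : act 1 n208982 = n207091 := d15_0 (iv0 F443276) (iv7 F217933) D208982
theorem F451695 : act 1 n207085 = n208982 := d15_0 F451694 (iv7 D207091) (iv2 F443252)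
def n208983 : Q := act 3 n135528
theorem D208983 : act 3 n135528 = n208983 := rfl
theorem F451696 : act 2 n208983 = n207194 := d0_1 D208983 F443741 (iv2 F214462) F362778 F217942
theorem F451697 : act 5 n208983 = n188751 := d6_2 (iv5 F217941) D208983 (iv3 F374716)
theorem F451698 : act 7 n208983 = n191714 := d8_2 F327997 D208983 F384237
theorem F451699 : act 4 n190960 = n208983 := d20_2 F377242 (iv1 F381718) (iv3 D208983) (iv1 D135528) (iv3 F217920) (iv4 F364269) F372536 (iv4 F349254) F210441 D189644
theorem F451700 : act 0 n208983 = n207090 := d17_0 (iv5 D207090) D207089 F443267 (iv4 F365429) (iv5 F372669) (iv0 D188207) D188209 (iv0 F381717) F451699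
theorem F451701 : act 1 n208983 = n190531 := d18_6 (iv1 F295186) (iv4 F70436) (iv1 F157243) (iv4 F149790) D190960 F451699 (iv4 D190531) (iv0 F294514) (iv5 D93210)
def n208984 : Q := act 4 n135528
theorem D208984 : act 4 n135528 = n208984 := rfl
theorem F451702 : act 2 n208984 = n208030 := d1_1 D208984 (iv4 D208030) F217942
theorem F451703 : act 3 n208984 = n190963 := d5_1 D208984 (iv4 D190963) (iv3 F381716) F451699 (iv3 D208983)
theorem F451704 : act 6 n208984 = n200290 := d10_2 (iv6 F416453) D208984 F416452
theorem F451705 : act 7 n208984 = n203667 := d11_2 F327997 D208984 F429321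
def n208985 : Q := act 6 n135530
theorem D208985 : act 6 n135530 = n208985 := rfl
theorem F451706 : act 2 n208985 = n208034 := d3_1 D208985 (iv6 D208034) (iv2 F217944)
theorem F451707 : act 5 n208985 = n152578 := d12_1 D208985 (iv6 F354440) F218234 F99192 (iv5 F217945)
def n208986 : Q := act 0 n135532
theorem D208986 : act 0 n135532 = n208986 := rfl
theorem F451708 : act 4 n208986 = n200736 := d18_3 (iv1 D200888) F332784 D208986 (iv5 F417712) (iv4 F364838) (iv0 D111659) (iv4 F173222) D199742 F418289
theorem F451709 : act 2 n208036 = n208986 := d15_3 (iv0 D208986) (iv0 F444471) (iv7 F447546)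
theorem F451710 : act 1 n208037 = n208986 := d15_0 (iv0 D208986) F217954 D208037
theorem F451711 : act 7 n208986 = n135834 := d15_2 F447554 F451710 (iv2 F444470)
theorem F451712 : act 6 n200735 = n208986 := d21_3 F449717 F429613 (iv5 F417707) (iv1 F451710) F447551 (iv5 D154053) (iv1 F320231) F335843 (iv6 F436756) F449720
def n208987 : Q := act 6 n135538
theorem D208987 : act 6 n135538 = n208987 := rfl
theorem F451713 : act 2 n208987 = n203162 := d3_1 D208987 F427240 F336859
theorem F451714 : act 3 n208987 = n135541 := d7_1 D208987 (iv6 D135541) D135538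
theorem F451715 : act 4 n208987 = n193579 := d10_1 D208987 F390337 (iv4 F217966)
theorem F451716 : act 5 n208987 = n202936 := d12_1 D208987 F426269 (iv5 F336874) F335885 F218273
theorem F451717 : act 0 n208987 = n146363 := d21_4 (iv5 D63828) D63825 F218273 D208987 (iv6 D146363) (iv5 D68629) F77032 (iv5 F114802) (iv6 F335892) F359571
def n208988 : Q := act 6 n135547
theorem D208988 : act 6 n135547 = n208988 := rfl
theorem F451718 : act 2 n208988 = n135552 := d3_1 D208988 (iv6 D135552) (iv2 F217972)
theorem F451719 : act 3 n208988 = n207352 := d7_1 D208988 (iv6 D207352) (iv3 F217973)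
theorem F451720 : act 4 n208988 = n137338 := d10_1 D208988 F448965 F448963
theorem F451721 : act 7 n143275 = n208988 := d11_0 F451720 F220525 D143275
theorem F451722 : act 0 n146394 = n208988 := d18_2 D194039 (iv4 F391839) F451720 (iv5 D137338) D137337 (iv0 F391820) (iv4 D194034) (iv0 D102602) D102604
def n208989 : Q := act 0 n135548
theorem D208989 : act 0 n135548 = n208989 := rfl
theorem F451723 : act 4 n208989 = n187740 := d18_3 (iv1 D188723) (iv4 F359570) D208989 F371382 (iv4 D187124) (iv0 D89584) (iv4 F137300) D187116 F374577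
theorem F451724 : act 6 n208989 = n193999 := d21_5 (iv5 F359574) F218362 (iv5 D135547) D135548 D208989 (iv5 F451655) (iv1 D208976) (iv5 D135518) (iv6 D63719) D63715
theorem F451725 : act 2 n135553 = n208989 := d15_3 (iv0 D208989) F359569 (iv7 F349133)
theorem F451726 : act 1 n135556 = n208989 := d15_0 (iv0 D208989) (iv7 F349130) (iv2 F349128)
theorem F451727 : act 7 n208989 = n135554 := d15_2 (iv0 F359567) F451726 F349102
def n208990 : Q := act 5 n135548
theorem D208990 : act 5 n135548 = n208990 := rfl
theorem F451728 : act 2 n208990 = n135555 := d2_1 D208990 (iv5 D135555) (iv2 F217974)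
theorem F451729 : act 3 n208990 = n207956 := d6_1 D208990 (iv5 D207956) (iv3 F217975)
theorem F451730 : act 7 n208990 = n193997 := d13_2 F349130 D208990 (iv5 D193997)
theorem F451731 : act 4 n208990 = n194011 := d16_2 (iv4 F359570) D208990 (iv5 D194011) (iv4 D102586) (iv5 D47583) (iv4 F74811) D102564 F349115 (iv2 F349114)
theorem F451732 : act 1 n208990 = n187753 := d17_6 (iv1 F371349) F204900 F290150 D92706 (iv4 F359570) D208990 (iv5 D187753) D187751 F371401
def n208991 : Q := act 1 n135552
theorem D208991 : act 1 n135552 = n208991 := rfl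
theorem F451733 : act 1 n208991 = n143275 := d15_1 D208991 F451721 F451718
theorem F451734 : act 4 n208991 = n137698 := d18_7 F333121 D137667 F220833 F218877 F220986 (iv4 F347274) D208991 (iv0 F391769) (iv5 D194013)
theorem F451735 : act 3 n146459 = n208991 := d20_9 F347274 (iv1 D136880) D136881 (iv3 F438611) F438614 (iv3 F417275) (iv4 D200626) F231076 (iv4 F229792) (iv1 D208991)
theorem F451736 : act 2 n208991 = n146394 := d0_1 F451735 (iv3 D146394) F104839 D68664 D146459
theorem F451737 : act 6 n208991 = n203935 := d7_2 (iv6 F418628) F451735 F430476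
def n208992 : Q := act 5 n135552
theorem D208992 : act 5 n135552 = n208992 := rfl
theorem F451738 : act 3 n208992 = n135559 := d6_1 D208992 (iv5 D135559) (iv3 F217977)
theorem F451739 : act 6 n208992 = n135555 := d12_2 D135552 D208992 (iv5 D135555) (iv6 D63736) D63735
theorem F451740 : act 0 n208992 = n203135 := d17_2 (iv1 D208991) D208992 F427101 (iv4 F450854) F450855 F391758 (iv5 F391851) F391853 (iv4 F451734)
theorem F451741 : act 4 n194033 = n208992 := d10_3 F451739 (iv4 F349116) D194033
def n208993 : Q := act 7 n135552
theorem D208993 : act 7 n135552 = n208993 := rfl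
theorem F451742 : act 2 n208993 = n143275 := d4_1 D208993 F451721 F451718
theorem F451743 : act 3 n208993 = n135560 := d8_1 D208993 (iv7 D135560) (iv3 F217977)
theorem F451744 : act 4 n208993 = n137342 := d11_1 D208993 (iv7 F220984) (iv4 F347274)
theorem F451745 : act 1 n146394 = n208993 := d15_1 (iv0 F451722) (iv7 D208993) (iv2 F451718)
def n208994 : Q := act 3 n135553
theorem D208994 : act 3 n135553 = n208994 := rfl
theorem F451746 : act 4 n208994 = n186685 := d5_2 F349132 D208994 F367668 (iv4 D104357) D104356
theorem F451747 : act 7 n208994 = n144853 := d8_2 (iv7 F349133) D208994 (iv3 F252050)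
theorem F451748 : act 0 n135712 = n208994 := d20_4 (iv4 F363936) (iv1 D129156) (iv4 F99188) (iv3 F218211) (iv3 D208994) (iv4 F349132) F371379 F419055 F419057 (iv1 F339345)
theorem F451749 : act 2 n208431 = n208994 := d15_3 (iv0 F451748) (iv0 F398031) (iv7 F449335)
theorem F451750 : act 6 n208994 = n186684 := d3_2 (iv6 F449334) F451749 F367666
def n208995 : Q := act 5 n135553
theorem D208995 : act 5 n135553 = n208995 := rfl
theorem F451751 : act 4 n208995 = n152023 := d9_1 D208995 (iv5 F365560) (iv4 D102592) D102593 D194017 (iv5 F394457) F394456 (iv5 F428088) F428087 (iv5 D194020) (iv4 D102595) F153686 (iv4 F144607) (iv5 F159972) F349132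
theorem F451752 : act 6 n151696 = n208995 := d10_0 F451751 (iv6 D152023) (iv4 F238576)
def n208996 : Q := act 6 n135553
theorem D208996 : act 6 n135553 = n208996 := rfl
theorem F451753 : act 2 n208996 = n193999 := d3_1 D208996 (iv6 F451724) (iv2 F451725)
theorem F451754 : act 3 n208996 = n186684 := d7_1 D208996 (iv6 F451750) (iv3 D208994)
theorem F451755 : act 4 n208996 = n194769 := d10_1 D208996 (iv6 D194769) F349132
theorem F451756 : act 5 n208996 = n151697 := d12_1 D208996 (iv6 D151697) D151696 F451752 (iv5 D208995)
theorem F451757 : act 7 n208996 = n146320 := d14_2 (iv7 F349133) D208996 (iv6 D146320) (iv7 F114735) D159869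
theorem F451758 : act 1 n194000 = n208996 := d15_1 F391717 F451757 (iv2 F252084)
theorem F451759 : act 1 n208996 = n193991 := d15_1 F451758 F391663 (iv2 F391712)
def n208997 : Q := act 0 n135555
theorem D208997 : act 0 n135555 = n208997 := rfl
theorem F451760 : act 5 n208997 = n187754 := d17_3 (iv1 D135554) D135555 D208997 F371408 F139334 F139323 D187737 F394461 F394456
theorem F451761 : act 4 n208997 = n192553 := d18_3 (iv1 D194032) F349116 D208997 (iv5 D192553) (iv4 D100385) (iv0 F137346) D187127 (iv0 F369190) (iv5 F391814)
theorem F451762 : act 7 n187753 = n208997 := d11_0 F451761 F387045 (iv4 F371407)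
theorem F451763 : act 1 n193997 = n208997 := d17_8 (iv1 F387046) (iv5 F391775) (iv1 F391777) D194020 (iv4 F428087) F428088 F361065 D193997 F451761
def n208998 : Q := act 7 n135555
theorem D208998 : act 7 n135555 = n208998 := rfl
theorem F451764 : act 2 n208998 = n193997 := d4_1 D208998 (iv7 F451730) F451728
theorem F451765 : act 3 n208998 = n135568 := d8_1 D208998 (iv7 D135568) (iv3 F217978)
theorem F451766 : act 4 n208998 = n192178 := d11_1 D208998 F385880 F349116
theorem F451767 : act 5 n208998 = n135556 := d13_1 D208998 (iv7 D135556) D135555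
theorem F451768 : act 1 n187753 = n208998 := d15_1 F451732 (iv7 D208998) (iv2 F451728)
theorem F451769 : act 0 n202660 = n192178 := d20_10 (iv4 F451766) (iv1 F451768) F371407 F284762 D183174 (iv3 F345610) F343827 (iv1 F343832) (iv4 F343833) D202660
theorem F451770 : act 1 n202660 = n194011 := d15_1 (iv0 F451769) (iv7 F450189) F450185
theorem F451771 : act 6 n207393 = n208998 := d10_0 F451766 F450167 F450168
def n208999 : Q := act 6 n135557
theorem D208999 : act 6 n135557 = n208999 := rfl
theorem F451772 : act 2 n208999 = n208870 := d3_1 D208999 (iv6 D208870) (iv2 F371312)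
theorem F451773 : act 3 n208999 = n206128 := d7_1 D208999 (iv6 F439368) F418677
theorem F451774 : act 0 n208999 = n146889 := d21_4 (iv5 F187583) D203470 F432784 D208999 (iv6 D146889) (iv5 F144897) F144899 (iv5 F157531) F230244 (iv1 D146855)
theorem F451775 : act 5 n208999 = n207361 := d21_6 (iv5 D59338) F45584 D30079 D63737 D135557 D208999 (iv1 D207361) (iv5 D130944) (iv6 D61434) (iv1 F93603)
theorem F451776 : act 3 n207361 = n200925 := d6_1 F451775 F439367 (iv3 F451773)
theorem F451777 : act 6 n152554 = n207361 := d7_0 F451776 F420107 (iv3 F439832)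
def n209000 : Q := act 0 n135559
theorem D209000 : act 0 n135559 = n209000 := rfl
theorem F451778 : act 5 n209000 = n195802 := d21_2 D135559 D209000 (iv6 F398249) (iv1 D188734) D188736 F374640 (iv1 F229134) F347377 (iv6 F367912) (iv1 D135558)
theorem F451779 : act 6 n209000 = n187716 := d21_5 (iv5 D135564) (iv1 D63739) D63740 (iv6 F217982) D209000 F371300 (iv1 F154804) (iv5 F294201) D188993 F375353
theorem F451780 : act 1 n204515 = n209000 := d15_0 (iv0 D209000) (iv7 F448340) F448337
theorem F451781 : act 2 n192798 = n209000 := d3_3 F451779 (iv2 F371301) D192798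
theorem F451782 : act 3 n195803 = n209000 := d7_3 F451779 F374518 (iv6 F398254)
theorem F451783 : act 7 n209000 = n208872 := d8_2 (iv7 F398253) F451782 (iv3 F451195)
def n209001 : Q := act 1 n135559
theorem D209001 : act 1 n135559 = n209001 := rfl
theorem F451784 : act 1 n209001 = n204515 := d15_1 D209001 F432783 (iv2 F217981)
theorem F451785 : act 7 n209001 = n192798 := d15_2 (iv0 D209000) D209001 F451781
theorem F451786 : act 3 n192805 = n209001 := d19_19 (iv1 D209001) (iv5 D135559) F99100 (iv3 F212983) (iv1 F345904) (iv5 F437675) F437673 F216459 F99365 F99364 D107185 (iv3 F391319) F422452 (iv5 F422427) (iv4 D141846) (iv3 F336123) F336122 (iv5 F223711) (iv4 F387839)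
theorem F451787 : act 0 n194033 = n187932 := d20_7 D187944 (iv1 F371997) (iv4 F387839) F451786 (iv1 D209001) (iv3 F451738) (iv4 F451741) F371869 F139598 D90689
theorem F451788 : act 5 n200904 = n209001 := d21_0 (iv1 D209001) (iv5 D135559) (iv6 D63737) (iv1 F325459) (iv6 D52500) (iv5 D25480) D25477 (iv5 F82818) D113615 D200904
theorem F451789 : act 2 n209001 = n208872 := d2_1 F451788 F451194 F418350
theorem F451790 : act 6 n209001 = n192797 := d12_2 (iv6 F418349) F451788 F387815 (iv6 F377677) F377676
def n209002 : Q := act 1 n135563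
theorem D209002 : act 1 n135563 = n209002 := rfl
theorem F451791 : act 1 n209002 = n193347 := d15_1 D209002 F389536 (iv2 F362199)
theorem F451792 : act 7 n209002 = n207355 := d15_2 F358069 D209002 F444496
theorem F451793 : act 4 n209002 = n153962 := d18_7 F383302 F383300 F351713 F303418 (iv5 F304190) F328115 D209002 (iv0 F364932) F285987
theorem F451794 : act 2 n207357 = n209002 := d1_3 F451793 (iv2 F364934) (iv4 F444504)
theorem F451795 : act 6 n189567 = n209002 := d10_0 F451793 F364931 (iv4 F376908)
def n209003 : Q := act 3 n135566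
theorem D209003 : act 3 n135566 = n209003 := rfl
theorem F451796 : act 5 n209003 = n188754 := d6_2 (iv5 F218002) D209003 (iv3 F374732)
theorem F451797 : act 7 n209003 = n204355 := d8_2 (iv7 F218001) D209003 F432185
theorem F451798 : act 1 n207356 = n209003 := d15_1 (iv0 F444502) F451797 F432184
theorem F451799 : act 6 n188021 = n209003 := d21_5 (iv5 D20059) D20056 D42486 D90737 D188021 F451796 (iv1 D188754) F143019 (iv6 D90761) (iv1 D42498)
def n209004 : Q := act 4 n135566
theorem D209004 : act 4 n135566 = n209004 := rfl
theorem F451800 : act 2 n209004 = n208877 := d1_1 D209004 (iv4 D208877) F218003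
theorem F451801 : act 7 n209004 = n207262 := d11_2 (iv7 F218001) D209004 (iv4 D207262)
theorem F451802 : act 0 n209004 = n135791 := d18_2 (iv1 F218000) D209004 (iv4 D135791) (iv5 D63850) (iv4 F93600) (iv0 F336156) F336160 F99101 (iv5 F217415)
theorem F451803 : act 1 n209004 = n192669 := d18_6 D130646 F209220 F211287 F211285 (iv5 F218002) D209004 F387433 (iv0 F218056) (iv5 D130648)
def n209005 : Q := act 6 n135566
theorem D209005 : act 6 n135566 = n209005 := rfl
theorem F451804 : act 2 n209005 = n203475 := d3_1 D209005 (iv6 F428454) F218003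
theorem F451805 : act 3 n209005 = n188021 := d7_1 D209005 F451799 (iv3 D209003)
theorem F451806 : act 5 n209005 = n207366 := d12_1 D209005 (iv6 D207366) (iv5 D130947) (iv6 F209238) (iv5 F218002)
theorem F451807 : act 7 n209005 = n203474 := d14_2 (iv7 F218001) D209005 F428451 (iv7 F419348) F419347
theorem F451808 : act 0 n209005 = n201814 := d21_4 (iv5 D208040) (iv1 F214603) (iv5 F218002) D209005 (iv6 D201814) F179178 F104135 (iv5 F163522) F352120 (iv1 F447571)
theorem F451809 : act 0 n188097 = n209005 := d21_4 (iv5 D187561) (iv1 F138963) D90806 D188097 (iv6 D209005) F218002 F214602 (iv5 F372326) (iv6 D188101) F370817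
def n209006 : Q := act 1 n135567
theorem D209006 : act 1 n135567 = n209006 := rfl
theorem F451810 : act 1 n209006 = n203453 := d15_1 D209006 (iv7 F428383) (iv2 F218004)
theorem F451811 : act 7 n209006 = n207251 := d15_2 (iv0 F339351) D209006 F443971
theorem F451812 : act 4 n209006 = n135597 := d18_7 (iv1 F100272) (iv4 D63748) (iv1 D30082) (iv4 F48342) D63740 D135567 D209006 F218384 F218383
theorem F451813 : act 2 n207394 = n209006 := d1_3 F451812 F218380 (iv4 F444670)
theorem F451814 : act 5 n136445 = n209006 := d16_1 D136445 F451812 (iv5 F218054) F209222 F99121 (iv4 F328967) D193667 F390629 F218559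
theorem F451815 : act 0 n192675 = n204645 := d20_4 F451812 (iv1 D135597) D135598 (iv3 F387448) (iv3 D204645) D204646 (iv1 F433117) F431498 (iv3 F428381) (iv1 F451810)
theorem F451816 : act 1 n191949 = n204645 := d15_0 (iv0 F451815) (iv7 D192675) (iv2 F384957)
def n209007 : Q := act 3 n135567
theorem D209007 : act 3 n135567 = n209007 := rfl
theorem F451817 : act 2 n209007 = n204533 := d0_1 D209007 F432814 (iv2 F431508) F431509 (iv2 F218004)
theorem F451818 : act 4 n209007 = n194030 := d5_2 D135567 D209007 F391813 F349116 F217978
theorem F451819 : act 7 n209007 = n204525 := d8_2 F352116 D209007 F432805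
theorem F451820 : act 1 n204531 = n209007 := d15_1 D204531 F451819 F432804
theorem F451821 : act 4 n189134 = n204531 := d18_5 F361895 (iv4 D102247) (iv1 F357220) (iv4 F390209) (iv5 F390211) F451820 F451818 (iv0 F421258) (iv5 F286280)
theorem F451822 : act 1 n209007 = n204530 := d15_0 (iv0 D204530) D204533 (iv2 F451817)
def n209008 : Q := act 5 n135567
theorem D209008 : act 5 n135567 = n209008 := rfl
theorem F451823 : act 2 n209008 = n208878 := d2_1 D209008 (iv5 D208878) (iv2 F218004)
theorem F451824 : act 7 n209008 = n136842 := d13_2 F352116 D209008 F352114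
theorem F451825 : act 4 n209008 = n136448 := d16_2 D135567 D209008 (iv5 D136448) (iv4 D64146) F48902 (iv4 F98864) (iv5 F217415) (iv7 D135232) (iv2 F99102)
theorem F451826 : act 0 n191735 = n209008 := d19_0 (iv5 D209008) (iv4 D135567) (iv3 F217978) D208997 F451760 F371408 F139333 (iv1 F68270) (iv5 F68271) F67789 F35722 F35811 F290813 D19704 D41852 F136449 D46265 D98860 D191735
def n209009 : Q := act 5 n135569
theorem D209009 : act 5 n135569 = n209009 := rfl
theorem F451827 : act 3 n209009 = n135570 := d6_1 D209009 (iv5 D135570) D135569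
theorem F451828 : act 7 n209009 = n201062 := d13_2 F327990 D209009 (iv5 D201062)
theorem F451829 : act 0 n209009 = n192782 := d21_1 D209009 F387747 (iv6 D187761) (iv1 F364338) F335804 (iv5 F209515) D130907 F209504 D135811 F361749
def n209010 : Q := act 4 n135570
theorem D209010 : act 4 n135570 = n209010 := rfl
theorem F451830 : act 2 n209010 = n208879 := d1_1 D209010 (iv4 D208879) (iv2 F218012)
theorem F451831 : act 7 n209010 = n201065 := d11_2 F327992 D209010 (iv4 D201065)
def n209011 : Q := act 6 n135570
theorem D209011 : act 6 n135570 = n209011 := rfl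
theorem F451832 : act 2 n209011 = n208880 := d3_1 D209011 (iv6 D208880) (iv2 F218012)
theorem F451833 : act 5 n209011 = n201395 := d12_1 D209011 (iv6 F420326) (iv5 D135270) (iv6 F99112) D135570
theorem F451834 : act 7 n209011 = n201368 := d14_2 F327992 D209011 (iv6 D201368) (iv7 F178391) (iv6 F177134)
theorem F451835 : act 4 n208170 = n209011 := d18_3 F448221 F448218 D208170 F451833 (iv4 D201395) (iv0 D114421) (iv4 F108021) D151702 (iv5 F419639)
theorem F451836 : act 6 n209010 = n208170 := d10_0 F451835 (iv6 D209011) D209010
def n209012 : Q := act 5 n135571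
theorem D209012 : act 5 n135571 = n209012 := rfl
theorem F451837 : act 2 n209012 = n136890 := d2_1 D209012 F220066 (iv2 F218014)
theorem F451838 : act 3 n209012 = n191726 := d6_1 D209012 (iv5 F385558) F385557
theorem F451839 : act 7 n209012 = n136891 := d13_2 (iv7 F218015) D209012 (iv5 F220067)
theorem F451840 : act 0 n209012 = n136442 := d17_2 (iv1 F218937) D209012 (iv5 D136442) F216992 F216987 F203338 D196047 (iv0 F399184) F328414
theorem F451841 : act 1 n209012 = n135956 := d17_6 (iv1 D63750) (iv5 D30083) D30081 D63745 D135571 D209012 (iv5 D135956) (iv0 F328965) F328967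
theorem F451842 : act 4 n191735 = n209012 := d18_7 F99817 F48614 D30228 D64146 D136448 (iv4 F451825) (iv0 F451826) F451841 (iv5 D135956)
def n209013 : Q := act 4 n135573
theorem D209013 : act 4 n135573 = n209013 := rfl
theorem F451843 : act 2 n209013 = n201065 := d1_1 D209013 (iv4 D201065) F327991
theorem F451844 : act 6 n209013 = n152400 := d10_2 (iv6 F339338) D209013 F239591
theorem F451845 : act 7 n209013 = n208879 := d11_2 (iv7 F218019) D209013 (iv4 D208879)
theorem F451846 : act 5 n209013 = n191735 := d16_1 D209013 F451842 (iv5 D209012) (iv4 D135571) (iv5 D63745) D63744 D135570 (iv7 F327992) F327991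
theorem F451847 : act 3 n191736 = n209013 := d6_3 F451846 (iv3 D191735) D191736
def n209014 : Q := act 0 n135577
theorem D209014 : act 0 n135577 = n209014 := rfl
theorem F451848 : act 6 n209014 = n136354 := d21_5 F330999 F111646 (iv5 F326702) (iv6 F218032) D209014 (iv5 F359222) F359225 (iv5 D135922) F99402 F224169
theorem F451849 : act 7 n192278 = n209014 := d14_0 F451848 F433561 (iv6 D204781) (iv7 F357227) D192278
def n209015 : Q := act 2 n135577
theorem D209015 : act 2 n135577 = n209015 := rfl
theorem F451850 : act 3 n209015 = n136824 := d0_2 D135577 D209015 F220029 F100287 (iv2 F99123)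
theorem F451851 : act 6 n209015 = n135945 := d3_2 (iv6 F218032) D209015 (iv2 D135945)
theorem F451852 : act 0 n192278 = n209015 := d21_4 (iv5 F343260) F356403 F195850 D192278 F451851 (iv5 F326701) F330991 (iv5 D64032) (iv6 F333114) D99847
def n209016 : Q := act 7 n135577
theorem D209016 : act 7 n135577 = n209016 := rfl
theorem F451853 : act 3 n209016 = n135579 := d8_1 D209016 (iv7 D135579) D135577
theorem F451854 : act 6 n209016 = n136804 := d14_1 D209016 (iv7 D136804) (iv6 D64314) (iv7 F99431) (iv6 F218032)
theorem F451855 : act 1 n192278 = n209016 := d15_1 (iv0 F451852) (iv7 D209016) D209015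
def n209017 : Q := act 0 n135578
theorem D209017 : act 0 n135578 = n209017 := rfl
theorem F451856 : act 5 n209017 = n207909 := d17_3 (iv1 D135576) D135578 D209017 (iv4 D207909) (iv5 D132565) (iv0 F168315) (iv5 F100299) F216998 (iv4 F218030)
theorem F451857 : act 2 n136840 = n209017 := d15_3 (iv0 D209017) (iv0 F221388) F399186
theorem F451858 : act 4 n209017 = n182267 := d1_2 (iv4 F451209) F451857 (iv2 F383475)
theorem F451859 : act 6 n209017 = n182266 := d3_2 F451210 F451857 (iv2 F383473)
theorem F451860 : act 7 n209017 = n136841 := d4_2 F399186 F451857 (iv2 F221387)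
theorem E103952 : n203196 = n191429 := (c14_4 F451860 (iv6 F427271) F427272 D203196 F383471 (iv6 F451859))
theorem F451861 : act 6 n191429 = n118201 := (sb E103952 (iv6 D203196))
theorem F451862 : act 1 n136448 = n209017 := d15_1 F221389 F451860 (iv2 F221387)
theorem E103953 : n203195 = n191430 := (c10_2 F451861 D203195 (iv6 D191430) D191429)
theorem F451863 : act 1 n191430 = n153546 := (sb E103953 F427384)
theorem F451864 : act 4 n191430 = n118201 := (sb E103953 (iv4 D203195))
def n209018 : Q := act 4 n135578
theorem D209018 : act 4 n135578 = n209018 := rfl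
theorem F451865 : act 2 n209018 = n136842 := d1_1 D209018 (iv4 D136842) (iv2 F218033)
theorem F451866 : act 5 n209018 = n203453 := d9_2 D135578 D209018 F428382 F217415 F98864 (iv5 F48902) D64146 D136448 (iv4 F451825) (iv5 D209008) (iv4 D135567) (iv5 D63740) F48342 D30083 D63751
theorem F451867 : act 6 n209018 = n170649 := d10_2 F220955 D209018 F334126
theorem F451868 : act 0 n209018 = n191735 := d18_2 F221388 D209018 F451842 (iv5 D209012) (iv4 D135571) (iv0 F99550) (iv4 F218955) F221380 D138216
theorem F451869 : act 7 n209018 = n208878 := d15_2 (iv0 F451826) (iv0 F451868) (iv2 F451823)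
theorem F451870 : act 3 n170651 = n209018 := d7_3 F451867 (iv3 D170649) D170651
def n209019 : Q := act 7 n135578
theorem D209019 : act 7 n135578 = n209019 := rfl
theorem F451871 : act 2 n209019 = n136448 := d4_1 D209019 F219543 (iv2 F218033)
theorem F451872 : act 4 n209019 = n208878 := d11_1 D209019 (iv7 F451869) (iv4 D209018)
theorem F451873 : act 5 n209019 = n135579 := d13_1 D209019 (iv7 D135579) D135578
theorem F451874 : act 1 n136841 = n209019 := d15_1 D136841 (iv7 D209019) F218033
theorem F451875 : act 1 n209019 = n136840 := d15_1 F451874 (iv7 F399186) F221387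
def n209020 : Q := act 7 n135588
theorem D209020 : act 7 n135588 = n209020 := rfl
theorem F451876 : act 2 n209020 = n202942 := d4_1 D209020 F426298 (iv2 F363921)
theorem F451877 : act 3 n209020 = n135596 := d8_1 D209020 (iv7 D135596) (iv3 F218049)
theorem F451878 : act 4 n209020 = n205976 := d11_1 D209020 F442408 F442404
theorem F451879 : act 6 n209020 = n207211 := d14_1 D209020 F443813 (iv6 D135800) F99318 D135588
theorem F451880 : act 1 n148726 = n209020 := d15_1 (iv0 F363922) (iv7 D209020) F363921
theorem F451881 : act 1 n209020 = n201374 := d15_1 F451880 F420234 (iv2 F237978)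
def n209021 : Q := act 0 n135591
theorem D209021 : act 0 n135591 = n209021 := rfl
theorem F451882 : act 3 n209021 = n201603 := d20_5 D208877 F451219 (iv4 D135598) (iv3 F218050) D209021 F424980 F451769 (iv4 F451766) F451765 (iv1 F218007)
theorem F451883 : act 5 n209021 = n201025 := d21_2 D135591 D209021 (iv6 D201025) (iv1 D113754) (iv6 D52523) F40325 F22702 (iv5 F36984) D48701 F362884
theorem F451884 : act 6 n209021 = n201599 := d21_5 D151259 F365711 (iv5 F405872) (iv6 F405874) D209021 (iv5 D201599) (iv1 F390816) (iv5 F390814) F205658 (iv1 F178418)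
theorem F451885 : act 2 n201097 = n209021 := d15_3 (iv0 D209021) (iv0 F420544) (iv7 F420543)
theorem F451886 : act 1 n195163 = n209021 := d15_0 (iv0 D209021) F365727 (iv2 F396044)
theorem F451887 : act 7 n209021 = n201098 := d15_2 F420545 F451886 (iv2 F420546)
def n209022 : Q := act 4 n135591
theorem D209022 : act 4 n135591 = n209022 := rfl
theorem F451888 : act 2 n209022 = n201099 := d1_1 D209022 (iv4 D201099) F365923
theorem F451889 : act 7 n209022 = n201101 := d11_2 (iv7 F365727) D209022 (iv4 D201101)
def n209023 : Q := act 3 n135593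
theorem D209023 : act 3 n135593 = n209023 := rfl
theorem F451890 : act 2 n209023 = n135727 := d0_1 D209023 (iv3 D135727) F99201 D130952 F364477
theorem F451891 : act 7 n209023 = n207254 := d8_2 (iv7 F364476) D209023 F443997
theorem F451892 : act 0 n209023 = n200626 := d20_4 F99100 D132668 F347277 D209023 F417275 (iv4 F398743) F398744 (iv4 F209254) F367913 (iv1 D135558)
theorem F451893 : act 1 n209023 = n200632 := d15_1 (iv0 F451892) (iv7 F417706) F417705
def n209024 : Q := act 6 n135593
theorem D209024 : act 6 n135593 = n209024 := rfl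
theorem F451894 : act 2 n209024 = n207247 := d3_1 D209024 F443954 F364477
theorem F451895 : act 4 n209024 = n207940 := d10_1 D209024 (iv6 D207940) F347277
theorem F451896 : act 7 n209024 = n207243 := d14_2 (iv7 F364476) D209024 (iv6 D207243) (iv7 F214560) F355277
theorem F451897 : act 0 n209024 = n207245 := d21_10 F443947 (iv1 D201562) (iv5 F339340) (iv6 F339341) (iv1 F177090) D117226 F183415 D151231 F420748 D209024
theorem F451898 : act 0 n207244 = n209024 := d21_4 (iv5 F83861) D115158 D201870 (iv6 F443943) (iv6 D209024) (iv5 F420748) (iv1 F420750) F420740 (iv6 D135664) (iv1 D63783)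
def n209025 : Q := act 0 n135595
theorem D209025 : act 0 n135595 = n209025 := rfl
theorem F451899 : act 4 n209025 = n204517 := d18_1 D209025 (iv1 D204517) (iv4 F432781) F432782 (iv4 F437661) F437665 F347277 (iv0 D135593) D135595
theorem F451900 : act 6 n209025 = n188625 := d21_5 (iv5 D135573) F100271 D63761 (iv6 F218052) D209025 (iv5 F386906) F386913 F376456 (iv6 F443970) F443968
theorem F451901 : act 5 n209025 = n146799 := d21_0 (iv1 D146799) (iv5 F178742) (iv6 D114642) (iv1 F178392) (iv6 F339338) (iv5 D135573) F100271 D63761 (iv6 F218052) D209025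
theorem F451902 : act 3 n188626 = n209025 := d7_3 F451900 (iv3 D188625) D188626
def n209026 : Q := act 1 n135595
theorem D209026 : act 1 n135595 = n209026 := rfl
theorem F451903 : act 5 n146798 = n209026 := d21_0 (iv1 D209026) (iv5 D135595) (iv6 D63758) (iv1 F97437) F328043 (iv5 D52552) F56679 D32013 D68825 D146798
theorem F451904 : act 3 n209026 = n207505 := d6_1 F451903 F445187 (iv3 F349040)
theorem F451905 : act 4 n204516 = n209026 := d20_8 (iv4 F423531) F423533 F354330 F354418 D192542 (iv3 F432780) F432781 D204516 F451904 (iv1 D207505)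
def n209027 : Q := act 4 n135595
theorem D209027 : act 4 n135595 = n209027 := rfl
theorem F451906 : act 6 n209027 = n135598 := d10_2 (iv6 F218052) D209027 (iv4 D135598)
theorem F451907 : act 7 n207421 = n209027 := d14_0 F451906 F387434 (iv6 D192669) F357931 D207421
def n209028 : Q := act 7 n135595
theorem D209028 : act 7 n135595 = n209028 := rfl
theorem F451908 : act 4 n209028 = n207421 := d11_1 D209028 F451907 (iv4 D209027)
theorem F451909 : act 5 n209028 = n135596 := d13_1 D209028 (iv7 D135596) D135595
theorem F451910 : act 6 n209028 = n201479 := d14_1 D209028 (iv7 F420664) F387424 (iv7 D135599) (iv6 F218052)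
def n209029 : Q := act 3 n135597
theorem D209029 : act 3 n135597 = n209029 := rfl
theorem F451911 : act 5 n209029 = n207247 := d6_2 F218054 D209029 F443952
theorem F451912 : act 7 n209029 = n207246 := d8_2 (iv7 F218053) D209029 F443949
theorem F451913 : act 0 n209029 = n135629 := d20_10 F431371 (iv1 F449253) F448604 (iv3 F448148) F448151 F447175 (iv4 F428382) (iv1 F451810) F451812 D209029
def n209030 : Q := act 5 n135598
theorem D209030 : act 5 n135598 = n209030 := rfl
theorem F451914 : act 3 n209030 = n187156 := d6_1 D209030 (iv5 F387449) F387448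
theorem F451915 : act 7 n209030 = n136892 := d13_2 (iv7 F387434) D209030 F387435
theorem F451916 : act 4 n209030 = n136442 := d16_2 D135598 D209030 (iv5 D136442) F216992 F216987 F203336 (iv5 F218383) (iv7 D135792) F99304
theorem F451917 : act 0 n191432 = n209030 := d18_2 D136840 F451209 F451916 (iv5 D136442) F216992 (iv0 D134832) F100290 (iv0 D64330) D64332
def n209031 : Q := act 5 n135604
theorem D209031 : act 5 n135604 = n209031 := rfl
theorem F451918 : act 2 n209031 = n142649 := d2_1 D209031 (iv5 F335168) (iv2 F218068)
theorem F451919 : act 3 n209031 = n208261 := d6_1 D209031 F448628 F218071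
theorem F451920 : act 7 n209031 = n141483 := d13_2 (iv7 F218069) D209031 F335185
theorem F451921 : act 0 n209031 = n158954 := d17_2 F450117 D209031 F359470 (iv4 D135551) (iv5 D63735) D63733 (iv5 F218080) F218200 (iv4 F450115)
theorem F451922 : act 1 n209031 = n154954 := d17_8 (iv1 F224537) (iv5 F333168) F335029 (iv5 F310968) (iv4 F250286) F359676 (iv0 F218070) D209031 (iv4 F364489)
theorem F451923 : act 4 n209031 = n142648 := d18_5 (iv1 F216046) (iv4 F99293) (iv1 F99297) D135604 D209031 F364173 (iv4 F333151) F359686 (iv5 F336850)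
theorem F451924 : act 6 n209031 = n160093 := d21_3 (iv5 F450116) F450117 D209031 F252668 (iv6 D76673) D76672 F115013 (iv5 F85373) (iv6 F183807) D202955
def n209032 : Q := act 6 n135604
theorem D209032 : act 6 n135604 = n209032 := rfl
theorem F451925 : act 2 n209032 = n195155 := d3_1 D209032 F396001 (iv2 F218068)
theorem F451926 : act 3 n209032 = n208264 := d7_1 D209032 (iv6 D208264) F218071
theorem F451927 : act 4 n209032 = n135606 := d10_1 D209032 (iv6 D135606) D135604
theorem F451928 : act 7 n209032 = n195154 := d14_2 (iv7 F218069) D209032 (iv6 F422077) F422078 F347107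
def n209033 : Q := act 6 n135607
theorem D209033 : act 6 n135607 = n209033 := rfl
theorem F451929 : act 2 n209033 = n135612 := d3_1 D209033 (iv6 D135612) (iv2 F218083)
theorem F451930 : act 3 n209033 = n201030 := d7_1 D209033 (iv6 D201030) F321190
theorem F451931 : act 4 n209033 = n202944 := d10_1 D209033 F426309 F333169
theorem F451932 : act 7 n209033 = n201663 := d14_2 (iv7 F323482) D209033 (iv6 F421292) F183730 F333182
theorem F451933 : act 5 n209033 = n157363 := d21_6 (iv5 D54075) (iv1 F41496) D31939 D68642 (iv1 F339423) D209033 (iv1 D157363) (iv5 F161551) (iv6 D105346) F85334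
theorem F451934 : act 0 n201652 = n209033 := d21_4 F183723 F258991 D114929 D201652 (iv6 D209033) (iv5 D135607) (iv1 F99296) (iv5 F218043) (iv6 F333517) (iv1 F349030)
theorem F451935 : act 1 n201664 = n209033 := d18_8 (iv1 D157363) (iv4 F247679) (iv1 F349259) (iv4 F451660) F451661 F365704 D206065 F439080 F451933
def n209034 : Q := act 0 n135608
theorem D209034 : act 0 n135608 = n209034 := rfl
theorem F451936 : act 5 n209034 = n189621 := d17_1 D209034 F377149 (iv5 F251549) F365492 (iv5 D141208) (iv0 F338882) D188177 (iv0 F448680) F448678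
theorem F451937 : act 4 n209034 = n208415 := d18_3 F448682 F448678 D209034 (iv5 F449264) F384418 F375757 F375756 F372587 D191740
theorem F451938 : act 2 n135613 = n209034 := d15_3 (iv0 D209034) F363182 F331844
theorem F451939 : act 3 n209034 = n197057 := d0_2 (iv3 F331843) F451938 (iv2 F410136) F410137 F336097
theorem F451940 : act 6 n209034 = n195157 := d3_2 F363978 F451938 (iv2 F396014)
theorem F451941 : act 7 n209034 = n135614 := d4_2 F331844 F451938 F373766
theorem F451942 : act 1 n135616 = n209034 := d15_1 (iv0 F363181) F451941 F373766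
def n209035 : Q := act 5 n135608
theorem D209035 : act 5 n135608 = n209035 := rfl
theorem F451943 : act 2 n209035 = n135615 := d2_1 D209035 (iv5 D135615) (iv2 F218084)
theorem F451944 : act 3 n209035 = n201704 := d6_1 D209035 (iv5 F421479) F218406
theorem F451945 : act 6 n209035 = n157363 := d12_2 D135608 D209035 (iv5 F451933) (iv6 D209033) (iv5 D135607)
theorem F451946 : act 4 n209035 = n186139 := d16_6 (iv4 F143809) (iv5 F372883) F374177 F448681 F448678 D209035 F367105 F344285 (iv2 F344280)
theorem F451947 : act 7 n191705 = n209035 := d11_0 F451946 F367106 D191705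
def n209036 : Q := act 7 n135608
theorem D209036 : act 7 n135608 = n209036 := rfl
theorem F451948 : act 2 n209036 = n135616 := d4_1 D209036 (iv7 D135616) (iv2 F218084)
theorem F451949 : act 3 n209036 = n195164 := d8_1 D209036 F396049 F218406
theorem F451950 : act 4 n209036 = n191794 := d11_1 D209036 (iv7 F448679) F448678
theorem F451951 : act 5 n209036 = n191705 := d13_1 D209036 F451947 (iv5 D209035)
theorem F451952 : act 6 n209036 = n195141 := d14_1 D209036 F395939 F326361 F99294 D135608
theorem F451953 : act 1 n135614 = n209036 := d15_1 D135614 (iv7 D209036) F218084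
theorem F451954 : act 1 n209036 = n135613 := d15_1 F451953 (iv7 F331844) (iv2 F373766)
def n209037 : Q := act 0 n135612
theorem D209037 : act 0 n135612 = n209037 := rfl
theorem F451955 : act 4 n209037 = n201843 := d20_0 (iv1 F422020) F397374 (iv3 F447454) (iv1 F447458) F371360 (iv4 F437732) (iv1 D205758) F203603 (iv3 F218088) D209037
theorem F451956 : act 5 n209037 = n187185 := d21_0 F420309 F420306 (iv6 F396070) F218118 F333233 (iv5 D135605) (iv1 D63764) D63766 D135612 D209037
theorem F451957 : act 2 n201664 = n209037 := d15_3 (iv0 D209037) (iv0 F336809) D201664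
theorem F451958 : act 1 n201663 = n209037 := d15_0 (iv0 D209037) F364742 (iv2 F421293)
theorem F451959 : act 7 n209037 = n201652 := d15_2 D201663 F451958 F421238
theorem F451960 : act 6 n146449 = n209037 := d14_5 F451959 (iv6 D201652) (iv7 F259188) (iv6 F426301) (iv7 F426304)
theorem F451961 : act 3 n187186 = n209037 := d6_3 F451956 (iv3 D187185) D187186
def n209038 : Q := act 4 n135614
theorem D209038 : act 4 n135614 = n209038 := rfl
theorem F451962 : act 2 n209038 = n208538 := d1_1 D209038 F449780 (iv2 F373766)
theorem F451963 : act 7 n209038 = n208415 := d11_2 F451941 D209038 (iv4 F451937)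
theorem F451964 : act 0 n209038 = n208968 := d18_2 (iv1 F451953) D209038 F451617 D208971 F451636 F372532 D189345 (iv0 F384215) (iv5 F451951)
theorem F451965 : act 3 n209038 = n208410 := d20_3 (iv4 F451950) (iv1 F451953) D209038 (iv1 D208410) F394034 (iv4 F394035) (iv1 F417167) F417129 (iv3 F448697) (iv1 F448701)
def n209039 : Q := act 7 n135615
theorem D209039 : act 7 n135615 = n209039 := rfl
theorem F451966 : act 2 n209039 = n191705 := d4_1 D209039 F451947 F451943
theorem F451967 : act 3 n209039 = n135624 := d8_1 D209039 (iv7 D135624) (iv3 F218089)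
theorem F451968 : act 4 n209039 = n186140 := d11_1 D209039 (iv7 F367101) (iv4 F376441)
theorem F451969 : act 5 n209039 = n135616 := d13_1 D209039 (iv7 D135616) D135615
theorem F451970 : act 6 n209039 = n207419 := d14_1 D209039 F444803 F398986 (iv7 F444724) (iv6 F444727)
def n209040 : Q := act 5 n135618
theorem D209040 : act 5 n135618 = n209040 := rfl
theorem F451971 : act 2 n209040 = n208118 := d2_1 D209040 F447955 F370292
theorem F451972 : act 3 n209040 = n190422 := d6_1 D209040 F447553 F447550
theorem F451973 : act 6 n209040 = n203804 := d12_2 F363794 D209040 (iv5 F429893) (iv6 D152197) D152196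
theorem F451974 : act 7 n209040 = n190419 := d13_2 (iv7 F370291) D209040 (iv5 F379736)
theorem F451975 : act 1 n209040 = n145025 := d17_8 (iv1 F291016) (iv5 D93817) (iv1 F293187) (iv5 F289005) F344974 (iv5 D135619) D135618 D209040 F326239
def n209041 : Q := act 3 n135623
theorem D209041 : act 3 n135623 = n209041 := rfl
theorem F451976 : act 2 n209041 = n151980 := d0_1 D209041 (iv3 F292425) F140031 (iv3 F344968) F218424
theorem F451977 : act 4 n209041 = n186661 := d5_2 D135623 D209041 F367583 (iv4 F376441) F218089
theorem F451978 : act 5 n209041 = n190522 := d6_2 (iv5 F345004) D209041 F379988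
theorem F451979 : act 6 n209041 = n151946 := d7_2 F344972 D209041 (iv3 F345006)
theorem F451980 : act 7 n209041 = n151497 := d8_2 F344965 D209041 F238345
theorem F451981 : act 0 n209041 = n151979 := d20_10 (iv4 F375297) (iv1 D94291) D94292 (iv3 F327740) (iv1 F379667) (iv3 F444132) F444133 (iv1 D135622) D135623 D209041
theorem F451982 : act 0 n151978 = n209041 := d20_4 F147616 (iv1 F147202) D95557 (iv3 F376263) (iv3 D209041) (iv4 D135623) D135621 (iv4 F333584) (iv3 D95984) D95982
def n209042 : Q := act 5 n135627
theorem D209042 : act 5 n135627 = n209042 := rfl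
theorem F451983 : act 2 n209042 = n201563 := d2_1 D209042 F420947 F339347
theorem F451984 : act 4 n209042 = n192715 := d9_1 D209042 (iv5 F419416) F419415 (iv5 F446065) F446064 F345876 F363936 F339340 F418399 (iv5 F442944) (iv4 F442942) (iv5 F362053) (iv4 F371479) F371482 F418948
theorem F451985 : act 6 n209042 = n201558 := d12_2 (iv6 F422134) D209042 (iv5 F443848) (iv6 F444590) F444589
theorem F451986 : act 7 n209042 = n201083 := d13_2 F363819 D209042 F419031
theorem F451987 : act 1 n209042 = n201561 := d17_6 D206896 F446073 (iv1 F446072) F371482 F418948 D209042 (iv5 F443942) (iv0 D207244) F209219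
theorem F451988 : act 0 n209042 = n201562 := d18_0 (iv4 F431372) F431370 F391167 (iv5 D113624) (iv4 F176806) D200914 F418384 F218147 D209042
def n209043 : Q := act 7 n135629
theorem D209043 : act 7 n135629 = n209043 := rfl
theorem F451989 : act 3 n209043 = n201623 := d8_1 D209043 (iv7 F421541) F421545
theorem F451990 : act 5 n209043 = n135630 := d13_1 D209043 (iv7 D135630) D135629
theorem F451991 : act 0 n207246 = n209043 := d21_10 F451990 (iv1 F218141) (iv5 F419031) (iv6 D201083) (iv1 F177186) (iv6 F178605) (iv5 D114541) D114539 D201456 (iv6 F443950)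
def n209044 : Q := act 6 n135632
theorem D209044 : act 6 n135632 = n209044 := rfl
theorem F451992 : act 2 n209044 = n135634 := d3_1 D209044 (iv6 D135634) D135632
theorem F451993 : act 3 n209044 = n201026 := d7_1 D209044 (iv6 D201026) F326364
theorem F451994 : act 4 n209044 = n201864 := d10_1 D209044 (iv6 D201864) (iv4 F218116)
theorem F451995 : act 7 n209044 = n201092 := d14_2 F218135 D209044 (iv6 D201092) F419051 F419046
theorem F451996 : act 0 n209044 = n201148 := d21_4 (iv5 F183895) (iv1 F363647) (iv5 F363645) D209044 (iv6 D201148) D201147 F419267 F231783 F333179 F339424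
theorem F451997 : act 0 n194769 = n209044 := d21_4 (iv5 F251695) F288415 (iv5 F159972) D194769 (iv6 D209044) F363645 F363646 F229801 (iv6 F183753) (iv1 F183755)
def n209045 : Q := act 0 n135634
theorem D209045 : act 0 n135634 = n209045 := rfl
theorem F451998 : act 5 n209045 = n197044 := d17_1 D209045 (iv1 D197044) F165949 (iv4 F229787) F398985 (iv0 D157362) (iv5 F161551) D195168 F396069
theorem F451999 : act 4 n209045 = n146320 := d20_2 F396069 D209045 (iv3 F403350) F403356 F374692 (iv4 F374705) F375703 (iv4 F375702) D194787 (iv1 F396068)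
theorem F452000 : act 3 n209045 = n194771 := d20_5 F437483 (iv1 D205695) F203449 (iv3 F218120) D209045 F394397 F378884 (iv4 F447471) F447470 (iv1 F217922)
theorem F452001 : act 6 n209045 = n146319 := d21_5 D68669 (iv1 F319932) F203311 D135634 D209045 (iv5 F375159) (iv1 F375160) (iv5 D146440) F333182 (iv1 D68668)
theorem F452002 : act 2 n201148 = n209045 := d15_3 (iv0 D209045) (iv0 F443923) F443921
theorem F452003 : act 7 n209045 = n194769 := d4_2 F443921 F452002 (iv2 F443918)
theorem F452004 : act 1 n201092 = n209045 := d15_1 (iv0 F443924) F452003 (iv2 F443918)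
def n209046 : Q := act 5 n135634
theorem D209046 : act 5 n135634 = n209046 := rfl
theorem F452005 : act 3 n209046 = n135637 := d6_1 D209046 (iv5 D135637) (iv3 F218120)
theorem F452006 : act 4 n209046 = n187185 := d17_4 F372535 D207237 F443923 D209046 (iv5 F451956) (iv0 D209037) F444726 F444723 (iv4 F349257)
theorem F452007 : act 1 n209046 = n208192 := d17_6 D209037 F451956 F420309 F420306 F396069 D209046 F448301 F421296 F364744
def n209047 : Q := act 7 n135634
theorem D209047 : act 7 n135634 = n209047 := rfl
theorem F452008 : act 2 n209047 = n201092 := d4_1 D209047 (iv7 F451995) F451992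
theorem F452009 : act 3 n209047 = n135638 := d8_1 D209047 (iv7 D135638) (iv3 F218120)
theorem F452010 : act 6 n209047 = n201089 := d14_1 D209047 F419054 F363813 F99138 D135634
theorem F452011 : act 1 n194769 = n209047 := d15_1 (iv0 F451997) (iv7 D209047) (iv2 F451992)
theorem F452012 : act 1 n209047 = n201148 := d15_1 F452011 (iv7 F443921) F443918
def n209048 : Q := act 7 n135637
theorem D209048 : act 7 n135637 = n209048 := rfl
theorem F452013 : act 2 n209048 = n190381 := d4_1 D209048 (iv7 F379618) F218128
theorem F452014 : act 4 n209048 = n191229 := d11_1 D209048 F382663 F379985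
theorem F452015 : act 5 n209048 = n135638 := d13_1 D209048 (iv7 D135638) D135637
theorem F452016 : act 1 n189992 = n209048 := d15_1 (iv0 F378484) (iv7 D209048) (iv2 F218128)
theorem F452017 : act 1 n209048 = n144184 := d15_1 F452016 (iv7 F379672) F379669
def n209049 : Q := act 7 n135640
theorem D209049 : act 7 n135640 = n209049 := rfl
theorem F452018 : act 3 n209049 = n135644 := d8_1 D209049 (iv7 D135644) (iv3 F218126)
theorem F452019 : act 6 n209049 = n148739 := d14_1 D209049 F364721 (iv6 D135626) (iv7 F99136) D135640
theorem F452020 : act 1 n198976 = n209049 := d15_1 (iv0 F418798) (iv7 D209049) (iv2 F418795)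
theorem F452021 : act 1 n209049 = n198977 := d15_1 F452020 F410138 (iv2 F410132)
def n209050 : Q := act 3 n135641
theorem D209050 : act 3 n135641 = n209050 := rfl
theorem F452022 : act 2 n209050 = n135769 := d0_1 D209050 (iv3 D135769) (iv2 F99283) D134506 F365390
theorem F452023 : act 4 n209050 = n207118 := d5_2 (iv4 F384124) D209050 F443406 F446623 (iv3 D207830)
theorem F452024 : act 7 n209050 = n135836 := d8_2 F378533 D209050 (iv3 F378535)
theorem F452025 : act 0 n209050 = n135838 := d20_4 F99080 D132413 (iv4 F384124) D209050 F362721 (iv4 F451353) (iv1 F451355) F366462 (iv3 F359565) (iv1 D135521)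
theorem F452026 : act 0 n135828 = n209050 := d20_4 (iv4 F375729) (iv1 D189094) D189095 F375730 (iv3 D209050) F384124 (iv1 F437590) F437586 (iv3 F447470) (iv1 F447473)
def n209051 : Q := act 5 n135641
theorem D209051 : act 5 n135641 = n209051 := rfl
theorem F452027 : act 2 n209051 = n190003 := d2_1 D209051 (iv5 F378530) F365390
theorem F452028 : act 4 n209051 = n190002 := d9_1 D209051 F378523 (iv4 D96472) D96473 D190722 (iv5 F384121) F384120 F365387 (iv4 D96017) (iv5 F76240) (iv4 F294468) (iv5 F295064) D186721 F384122 (iv4 F384124)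
theorem F452029 : act 7 n209051 = n190407 := d13_2 F378533 D209051 F379690
theorem F452030 : act 0 n209051 = n151689 := d17_2 D135641 D209051 F238569 (iv4 F418615) (iv5 F418616) (iv0 F365732) (iv5 F437895) (iv0 D205797) F203657
theorem F452031 : act 1 n209051 = n190409 := d17_8 F380431 (iv5 D190642) (iv1 F283168) (iv5 F382662) (iv4 F452014) F452015 F218131 D209051 F379698
def n209052 : Q := act 1 n135650
theorem D209052 : act 1 n135650 = n209052 := rfl
theorem F452032 : act 1 n209052 = n209043 := d15_1 D209052 (iv7 D209043) (iv2 F218142)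
theorem F452033 : act 7 n209052 = n201533 := d15_2 F443951 D209052 (iv2 F443948)
theorem F452034 : act 5 n209024 = n209052 := d21_0 (iv1 D209052) (iv5 D135650) (iv6 D63780) (iv1 D30095) D30097 (iv5 F83861) D115158 D201870 (iv6 F443943) F451898
theorem F452035 : act 2 n209052 = n209029 := d2_1 F452034 F451911 (iv2 F451894)
theorem F452036 : act 6 n209052 = n190515 := d21_3 (iv5 F443942) F451898 F452034 (iv1 F428029) (iv6 D203357) F186818 F162381 (iv5 F114656) D114809 D201561
theorem F452037 : act 3 n190516 = n209052 := d7_3 F452036 (iv3 D190515) D190516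
def n209053 : Q := act 4 n135650
theorem D209053 : act 4 n135650 = n209053 := rfl
theorem F452038 : act 2 n209053 = n204181 := d1_1 D209053 (iv4 F431371) (iv2 F218142)
theorem F452039 : act 6 n209053 = n141416 := d10_2 F437512 D209053 (iv4 F437514)
theorem F452040 : act 5 n209053 = n204171 := d16_1 D209053 F431322 F274136 (iv4 F442875) F442876 F437478 (iv5 F451990) (iv7 D209043) (iv2 F218142)
theorem F452041 : act 3 n141418 = n209053 := d6_3 F452040 (iv3 F431319) F348308
theorem F452042 : act 7 n204179 = n209053 := d13_0 F452040 F431318 D204179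
theorem F452043 : act 0 n204472 = n209053 := d21_10 F452040 (iv1 D204171) D204172 F431325 (iv1 F351829) (iv6 F449269) (iv5 D208418) (iv1 D134282) D134283 (iv6 F432641)
def n209054 : Q := act 7 n135650
theorem D209054 : act 7 n135650 = n209054 := rfl
theorem F452044 : act 2 n209054 = n209043 := d4_1 D209054 (iv7 D209043) (iv2 F218142)
theorem F452045 : act 4 n209054 = n204179 := d11_1 D209054 F452042 (iv4 D209053)
theorem F452046 : act 5 n209054 = n135651 := d13_1 D209054 (iv7 D135651) D135650
theorem F452047 : act 1 n209029 = n209054 := d15_1 (iv0 F451913) (iv7 D209054) F218142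
theorem F452048 : act 1 n209054 = n201533 := d15_1 F452047 (iv7 F452033) F452035
theorem F452049 : act 6 n201549 = n209054 := d21_5 (iv5 D25715) D25713 D52974 D114804 D201549 F452046 (iv1 F339345) F339340 (iv6 D114809) (iv1 D52977)
def n209055 : Q := act 3 n135652
theorem D209055 : act 3 n135652 = n209055 := rfl
theorem F452050 : act 6 n209055 = n200907 := d7_2 (iv6 F359194) D209055 (iv3 D200907)
theorem F452051 : act 4 n209055 = n208729 := d20_6 (iv4 F203456) (iv1 D63700) (iv4 F97057) (iv3 F99140) D135652 D209055 (iv1 D208729) F217208 F207593 (iv1 F203455)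
theorem F452052 : act 0 n207822 = n209055 := d20_4 F437488 F421210 (iv4 F445504) (iv3 F446600) (iv3 D209055) (iv4 F359185) (iv1 F361695) D195640 (iv3 F419168) F437489
def n209056 : Q := act 5 n135652
theorem D209056 : act 5 n135652 = n209056 := rfl
def n209057 : Q := act 3 n135653
theorem D209057 : act 3 n135653 = n209057 := rfl
theorem F452053 : act 0 n207876 = n209057 := d20_4 F442880 (iv1 F446849) F446845 (iv3 F446840) (iv3 D209057) (iv4 F359189) (iv1 F359186) (iv4 F203666) (iv3 F207875) D206991
def n209058 : Q := act 5 n135653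
theorem D209058 : act 5 n135653 = n209058 := rfl
def n209059 : Q := act 6 n135653
theorem D209059 : act 6 n135653 = n209059 := rfl
theorem F452054 : act 4 n209059 = n200906 := d10_1 D209059 F418358 F359189
theorem F452055 : act 7 n209059 = n200903 := d14_2 (iv7 F359190) D209059 (iv6 D200903) F176792 (iv6 F336466)
theorem F452056 : act 1 n207905 = n209059 := d17_8 (iv1 F418359) (iv5 F387817) F448341 F448339 F217984 (iv5 F345899) D205723 F446944 F452054
theorem F452057 : act 1 n146853 = n207905 := d15_0 F452056 F452055 F418347
def n209060 : Q := act 0 n135654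
theorem D209060 : act 0 n135654 = n209060 := rfl
def n209061 : Q := act 1 n135654
theorem D209061 : act 1 n135654 = n209061 := rfl
def n209062 : Q := act 3 n135657
theorem D209062 : act 3 n135657 = n209062 := rfl
theorem F452058 : act 5 n209062 = n190253 := d6_2 F395286 D209062 (iv3 F395284)
theorem F452059 : act 6 n209062 = n146769 := d7_2 (iv6 F329784) D209062 (iv3 D146769)
def n209063 : Q := act 5 n135662
theorem D209063 : act 5 n135662 = n209063 := rfl
theorem F452060 : act 2 n209063 = n194885 := d2_1 D209063 F394855 (iv2 F364260)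
theorem F452061 : act 4 n209063 = n190302 := d9_1 D209063 F379326 (iv4 F352038) (iv5 D152191) F108250 F329785 D135657 (iv5 F395286) (iv4 D194980) (iv5 D104834) (iv4 F160624) (iv5 F352028) (iv4 F352031) F335975 D135662
theorem F452062 : act 6 n190301 = n209063 := d10_0 F452061 (iv6 D190302) D190301
def n209064 : Q := act 6 n135662
theorem D209064 : act 6 n135662 = n209064 := rfl
theorem F452063 : act 3 n209064 = n146429 := d7_1 D209064 (iv6 F430434) F430433
theorem F452064 : act 4 n209064 = n135664 := d10_1 D209064 (iv6 D135664) D135662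
theorem F452065 : act 7 n209064 = n146797 := d14_2 F364261 D209064 (iv6 D146797) (iv7 F176801) (iv6 F364259)
theorem F452066 : act 5 n201009 = n209064 := d13_3 F452065 F335969 (iv7 F418718)
def n209065 : Q := act 6 n135668
theorem D209065 : act 6 n135668 = n209065 := rfl
theorem F452067 : act 2 n209065 = n195156 := d3_1 D209065 (iv6 D195156) (iv2 F355709)
theorem F452068 : act 3 n209065 = n135670 := d7_1 D209065 (iv6 D135670) D135668
theorem F452069 : act 4 n209065 = n136194 := d10_1 D209065 F350323 (iv4 F218156)
theorem F452070 : act 7 n209065 = n146482 := d14_2 F327838 D209065 (iv6 D146482) F104882 D105322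
theorem F452071 : act 0 n209065 = n185876 := d21_4 (iv5 D105442) (iv1 F161822) F355708 D209065 (iv6 D185876) (iv5 F283798) F283801 (iv5 F177036) (iv6 F396364) (iv1 D195225)
theorem F452072 : act 5 n187934 = n194041 := d21_2 F288339 D187934 F391847 D194045 F437181 (iv5 D105442) (iv1 F161822) F355708 D209065 F452071
theorem F452073 : act 0 n195157 = n209065 := d21_4 (iv5 F415752) (iv1 F415754) (iv5 F451936) F451940 (iv6 D209065) (iv5 F355708) (iv1 F161821) D105447 D195233 F415222
theorem F452074 : act 6 n203370 = n187934 := d12_0 F452072 F391847 D194048 F410109 F428065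
def n209066 : Q := act 3 n135677
theorem D209066 : act 3 n135677 = n209066 := rfl
theorem F452075 : act 2 n209066 = n201661 := d0_1 D209066 (iv3 F421282) F371361 F340916 (iv2 F218169)
theorem F452076 : act 4 n209066 = n201660 := d5_2 D135677 D209066 F421286 (iv4 D135875) (iv3 F102029)
theorem F452077 : act 5 n209066 = n203464 := d6_2 (iv5 F339559) D209066 F428418
theorem F452078 : act 6 n209066 = n187751 := d7_2 (iv6 F218170) D209066 (iv3 F371403)
theorem F452079 : act 7 n209066 = n201660 := d8_2 F218546 D209066 F421286
theorem F452080 : act 0 n209066 = n151406 := d20_10 F349043 (iv1 F396451) F396454 (iv3 F422154) F422156 F420779 F329474 F99151 D135677 D209066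
theorem F452081 : act 1 n209066 = n151401 := d15_1 (iv0 F452080) (iv7 F357313) (iv2 F357314)
def n209067 : Q := act 4 n135678
theorem D209067 : act 4 n135678 = n209067 := rfl
theorem F452082 : act 2 n209067 = n200719 := d1_1 D209067 F417620 (iv2 F218171)
theorem F452083 : act 3 n209067 = n190251 := d5_1 D209067 F379198 (iv3 F431300) F431301 (iv3 F218172)
theorem F452084 : act 6 n209067 = n195060 := d10_2 (iv6 F218173) D209067 (iv4 D195060)
theorem F452085 : act 7 n209067 = n200264 := d11_2 (iv7 F218174) D209067 F415736
theorem F452086 : act 5 n209067 = n144099 := d16_7 F366035 (iv5 F160249) (iv4 F394534) (iv5 F394536) F206852 D135678 D209067 (iv7 F425580) (iv2 F425583)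
theorem F452087 : act 0 n209067 = n194394 := d17_0 F416083 (iv1 D200346) (iv5 D113004) F82449 (iv5 F77879) D106656 (iv5 F176158) (iv0 F218175) D209067
theorem F452088 : act 1 n209067 = n195543 := d18_6 (iv1 D60487) (iv4 F95069) D128603 F206852 D135678 D209067 F397294 (iv0 F162266) F103320
def n209068 : Q := act 6 n135681
theorem D209068 : act 6 n135681 = n209068 := rfl
theorem F452089 : act 2 n209068 = n196082 := d3_1 D209068 (iv6 D196082) (iv2 F330444)
theorem F452090 : act 3 n209068 = n135684 := d7_1 D209068 (iv6 D135684) D135681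
theorem F452091 : act 4 n209068 = n196076 := d10_1 D209068 (iv6 D196076) F330443
theorem F452092 : act 0 n209068 = n191571 := d21_4 F448843 F436214 F436211 D209068 F395395 F395391 (iv1 F380479) (iv5 F380716) (iv6 F441122) (iv1 F448847)
theorem F452093 : act 1 n209068 = n205553 := d15_1 (iv0 F452092) F436970 F395396
def n209069 : Q := act 5 n135684
theorem D209069 : act 5 n135684 = n209069 := rfl
theorem F452094 : act 2 n209069 = n207116 := d2_1 D209069 F443398 F441275
theorem F452095 : act 6 n209069 = n189789 := d12_2 D135684 D209069 (iv5 D189789) F330411 F330398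
theorem F452096 : act 7 n209069 = n207109 := d13_2 F441315 D209069 F443370
theorem F452097 : act 0 n207113 = n209069 := d21_1 F445078 (iv5 D209069) (iv6 D135684) (iv1 F99339) D135841 F330397 (iv1 F345929) D205559 F436993 F445080
theorem F452098 : act 4 n209069 = n204686 := d20_2 F443389 F452097 (iv3 D204686) (iv1 D124222) (iv3 D57918) (iv4 D27637) D27635 D57910 D124209 D204670
theorem F452099 : act 1 n207114 = n209069 := d15_1 D207114 F452096 F443368
theorem F452100 : act 2 n205530 = n207114 := d15_3 F452099 (iv0 F452097) (iv7 F443388)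
theorem F452101 : act 4 n204671 = n207114 := d18_7 (iv1 F441319) F441316 (iv1 F418944) (iv4 F418946) (iv5 F433215) F433214 D204671 F452099 (iv5 D209069)
theorem F452102 : act 5 n207114 = n207467 := d21_2 D209069 (iv1 F452099) (iv6 D207467) (iv1 F382324) (iv6 F382325) D201170 F419320 (iv5 D201059) D201060 F418943
theorem F452103 : act 6 n207114 = n203687 := d21_5 (iv5 D96674) (iv1 F146878) D189789 (iv6 F452095) (iv1 F452099) F429416 (iv1 D191186) D191187 F382524 (iv1 F330417)
theorem E103954 : n204671 = n203688 := ((c10_3 F452103 (iv4 D203687) D203688 F452101)).symm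
theorem F452104 : act 0 n203688 = n124209 := (sb E103954 (iv1 D204671))
theorem F452105 : act 4 n203688 = n207114 := (sb E103954 F452101)
def n209070 : Q := act 6 n135686
theorem D209070 : act 6 n135686 = n209070 := rfl
theorem F452106 : act 3 n209070 = n135689 := d7_1 D209070 (iv6 D135689) D135686
theorem F452107 : act 7 n209070 = n206113 := d14_2 F441271 D209070 F439303 F414993 (iv6 F441274)
theorem F452108 : act 0 n209070 = n206112 := d21_4 D206517 F441167 F436208 D209070 (iv6 D206112) F204715 (iv1 F161407) D113657 D200950 F437122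
theorem F452109 : act 0 n206115 = n209070 := d21_4 F441793 (iv1 F400017) F400016 (iv6 F439308) (iv6 D209070) (iv5 F436208) F436844 (iv5 F441805) (iv6 D206667) (iv1 F441791)
theorem F452110 : act 5 n206571 = n209070 := d13_3 F452107 F439304 F441389
theorem F452111 : act 2 n209070 = n206114 := d15_3 F441813 (iv0 F441812) (iv7 F452107)
theorem F452112 : act 6 n206114 = n206565 := d3_2 D209070 F452111 (iv2 F441360)
def n209071 : Q := act 6 n135687
theorem D209071 : act 6 n135687 = n209071 := rfl
theorem F452113 : act 3 n209071 = n200993 := d7_1 D209071 (iv6 D200993) F349620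
theorem F452114 : act 4 n209071 = n135689 := d10_1 D209071 (iv6 D135689) D135687
theorem F452115 : act 5 n209071 = n190403 := d12_1 D209071 F399601 (iv5 F418656) (iv6 D200991) (iv5 F349621)
theorem F452116 : act 0 n209071 = n205556 := d21_10 F436980 (iv1 D200287) F175887 (iv6 D107539) (iv1 F83136) D106234 F364324 F359585 (iv5 F349621) D209071
theorem F452117 : act 7 n207119 = n209071 := d11_0 F452114 (iv7 F354366) D207119
def n209072 : Q := act 3 n135691
theorem D209072 : act 3 n135691 = n209072 := rfl
theorem F452118 : act 4 n209072 = n199089 := d5_2 (iv4 F330376) D209072 F410609 (iv4 F326648) F326647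
theorem F452119 : act 5 n209072 = n207460 := d6_2 F418652 D209072 F445034
theorem F452120 : act 6 n209072 = n167722 := d7_2 (iv6 F330377) D209072 (iv3 D167722)
theorem F452121 : act 7 n209072 = n163495 := d8_2 (iv7 F330378) D209072 (iv3 D163495)
def n209073 : Q := act 3 n135692
theorem D209073 : act 3 n135692 = n209073 := rfl
theorem F452122 : act 4 n209073 = n164109 := d5_2 (iv4 F330380) D209073 (iv3 D164109) F298086 F296611
theorem F452123 : act 5 n209073 = n200783 := d6_2 F436621 D209073 F436626
theorem F452124 : act 6 n209073 = n162894 := d7_2 (iv6 F330381) D209073 (iv3 D162894)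
theorem F452125 : act 7 n209073 = n163489 := d8_2 (iv7 F330382) D209073 (iv3 D163489)
def n209074 : Q := act 3 n135695
theorem D209074 : act 3 n135695 = n209074 := rfl
theorem F452126 : act 6 n209074 = n205200 := d7_2 F405919 D209074 (iv3 D205200)
theorem F452127 : act 4 n209074 = n163236 := d20_6 (iv4 F56454) (iv1 F54626) D75171 (iv3 F330369) D135695 D209074 (iv1 D163236) (iv4 F140912) (iv3 D91673) F67160
theorem F452128 : act 5 n207546 = n209074 := d18_4 (iv1 F370265) (iv4 F376732) (iv1 F395352) (iv4 F445390) F452127 F430159 F430156 F373469 (iv5 F373472)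
def n209075 : Q := act 5 n135695
theorem D209075 : act 5 n135695 = n209075 := rfl
theorem F452129 : act 3 n209075 = n207546 := d6_1 D209075 F452128 (iv3 D209074)
theorem F452130 : act 4 n209075 = n207275 := d16_2 (iv4 F354466) D209075 (iv5 D207275) (iv4 F409751) (iv5 F446461) F446460 (iv5 D206657) F400053 F400055
theorem F452131 : act 0 n209075 = n200748 := d17_2 D135695 D209075 (iv5 D200748) (iv4 F364789) D190792 (iv0 F441736) (iv5 D206649) F343671 F330371
theorem F452132 : act 1 n209075 = n190646 := d17_8 F441742 F441741 (iv1 F251521) F251518 F165963 F343665 F362864 D209075 (iv4 F399574)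
def n209076 : Q := act 3 n135696
theorem D209076 : act 3 n135696 = n209076 := rfl
theorem F452133 : act 4 n209076 = n167770 := d5_2 (iv4 F362861) D209076 (iv3 F334347) F280652 (iv3 F362863)
theorem F452134 : act 0 n209076 = n207976 := d20_4 (iv4 F207306) (iv1 F207316) (iv4 F362861) D209076 F447231 (iv4 D163816) F258182 (iv4 D163454) (iv3 F358306) (iv1 F206945)
theorem F452135 : act 0 n180377 = n209076 := d20_4 (iv4 F201993) D205193 F435358 F334648 (iv3 D209076) F362861 (iv1 D129081) F95275 (iv3 F358325) (iv1 D125628)
theorem F452136 : act 6 n209076 = n167769 := d21_5 F389596 F389597 (iv5 D180376) D180377 F452135 F303735 (iv1 F268190) F127237 (iv6 F328761) F250793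
theorem F452137 : act 2 n208534 = n209076 := d3_3 F452136 F303734 (iv6 F449765)
def n209077 : Q := act 5 n135696
theorem D209077 : act 5 n135696 = n209077 := rfl
theorem F452138 : act 0 n209077 = n190646 := d17_2 (iv1 F362860) D209077 F380440 F254496 D180815 (iv0 F441752) (iv5 D206653) F341794 (iv4 F202092)
theorem F452139 : act 6 n209077 = n207545 := d21_3 F343665 (iv1 F362860) D209077 (iv1 F445386) F445085 F392337 F360324 (iv5 F399998) (iv6 D196233) (iv1 F164653)
theorem F452140 : act 0 n200748 = n209077 := d19_0 (iv5 D209077) F362861 F362863 (iv1 F280651) F358997 F213652 (iv3 F213646) (iv1 F351658) (iv5 D126018) (iv4 D59024) D59023 F179349 (iv5 F163803) (iv4 F214067) (iv3 F391866) (iv1 D114964) (iv5 F165962) (iv4 F347538) (iv3 F417758)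
def n209078 : Q := act 6 n135696
theorem D209078 : act 6 n135696 = n209078 := rfl
theorem F452141 : act 2 n209078 = n200585 := d3_1 D209078 F417069 F400062
theorem F452142 : act 3 n209078 = n167769 := d7_1 D209078 (iv6 F452136) (iv3 D209076)
theorem F452143 : act 4 n209078 = n200699 := d10_1 D209078 F417548 (iv4 F362861)
theorem F452144 : act 7 n209078 = n176530 := d14_2 F400054 D209078 F356084 F405922 (iv6 F405910)
theorem F452145 : act 0 n209078 = n180022 := d21_4 D200748 F452140 (iv5 D209077) D209078 (iv6 F361371) (iv5 F397870) (iv1 F397873) (iv5 D106215) D106216 (iv1 F364790)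
theorem F452146 : act 5 n209078 = n189840 := d21_6 D190790 F381084 (iv5 F343667) (iv6 F202093) (iv1 F362860) D209078 (iv1 F381073) (iv5 D190787) F148990 D96676
theorem F452147 : act 0 n194864 = n209078 := d21_4 F361392 (iv1 F202054) (iv5 F402642) F402643 (iv6 D209078) D209077 F452138 F380440 (iv6 F299387) D177408
def n209079 : Q := act 3 n135700
theorem D209079 : act 3 n135700 = n209079 := rfl
theorem F452148 : act 2 n209079 = n201021 := d0_1 D209079 (iv3 D201021) (iv2 F364861) F328469 F355833
theorem F452149 : act 5 n209079 = n189628 := d6_2 F426344 D209079 (iv3 F426342)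
theorem F452150 : act 7 n209079 = n201041 := d8_2 F359584 D209079 (iv3 F418848)
theorem F452151 : act 0 n209079 = n201042 := d19_4 (iv1 F349091) F349097 D135700 D209079 (iv5 F422237) F422240 F448687 (iv1 D208275) (iv5 D134048) F98256 (iv3 D30088) (iv1 D14282) D14284 D30096 F48359 (iv1 D29457) D29459 (iv4 F48340) (iv3 F99097)
theorem F452152 : act 0 n137371 = n209079 := d20_4 (iv4 F97717) (iv1 F315270) D75722 (iv3 F324636) (iv3 D209079) (iv4 D135700) (iv1 F99178) (iv4 F179232) F179231 F97718
def n209080 : Q := act 4 n135704
theorem D209080 : act 4 n135704 = n209080 := rfl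
theorem F452153 : act 2 n209080 = n205582 := d1_1 D209080 F437095 F397968
theorem F452154 : act 3 n209080 = n197013 := d5_1 D209080 F402692 (iv3 F364859) (iv4 D135705) D135704
theorem F452155 : act 5 n209080 = n200772 := d9_2 F397970 D209080 F417865 (iv5 F257771) (iv4 F333465) (iv5 F451586) (iv4 D208963) (iv5 F364324) (iv4 F397960) (iv5 F397961) F202738 F324478 (iv4 F323931) D205582 F437095
theorem F452156 : act 7 n209080 = n208963 := d11_2 F349104 D209080 (iv4 D208963)
theorem F452157 : act 0 n209080 = n135822 := d17_0 F333454 (iv1 D78560) D78561 D163484 F333485 (iv0 F437521) F437518 (iv0 F395887) D209080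
theorem F452158 : act 1 n209080 = n135833 := d18_6 (iv1 F214013) (iv4 F441056) F441059 F437095 F397970 D209080 (iv4 D135833) (iv0 F167315) F214014
def n209081 : Q := act 6 n135705
theorem D209081 : act 6 n135705 = n209081 := rfl
theorem F452159 : act 2 n209081 = n193990 := d3_1 D209081 F391656 (iv2 F359586)
theorem F452160 : act 3 n209081 = n201025 := d7_1 D209081 (iv6 D201025) (iv3 F364859)
theorem F452161 : act 4 n209081 = n135707 := d10_1 D209081 (iv6 D135707) D135705
theorem F452162 : act 5 n209081 = n201603 := d12_1 D209081 (iv6 D201603) (iv5 D114875) D114876 (iv5 F355832)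
theorem F452163 : act 7 n209081 = n192528 := d14_2 F349105 D209081 F386955 (iv7 F229778) (iv6 F335896)
theorem F452164 : act 0 n209081 = n201659 := d21_4 F335173 F355825 (iv5 F355832) D209081 (iv6 D201659) D201658 F421275 F357754 (iv6 F349027) F218119
theorem F452165 : act 0 n187746 = n209081 := d21_4 F159972 (iv1 F371388) (iv5 D187745) D187746 (iv6 D209081) F355832 F335883 (iv5 F422089) F422093 F371375
def n209082 : Q := act 6 n135708
theorem D209082 : act 6 n135708 = n209082 := rfl
theorem F452166 : act 2 n209082 = n135712 := d3_1 D209082 (iv6 D135712) (iv2 F218197)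
theorem F452167 : act 3 n209082 = n207355 := d7_1 D209082 (iv6 D207355) (iv3 F218198)
theorem F452168 : act 0 n144853 = n209082 := d21_4 (iv5 D34985) F50655 D67895 D144853 (iv6 D209082) (iv5 D135708) (iv1 F99183) D135509 F335892 (iv1 D76558)
theorem F452169 : act 1 n208431 = n209082 := d15_0 (iv0 F452168) (iv7 F451747) (iv2 F451749)
def n209083 : Q := act 6 n135711
theorem D209083 : act 6 n135711 = n209083 := rfl
theorem F452170 : act 3 n209083 = n206724 := d7_1 D209083 (iv6 D206724) (iv3 F218205)
theorem F452171 : act 4 n209083 = n135712 := d10_1 D209083 (iv6 D135712) D135711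
theorem F452172 : act 0 n195140 = n209083 := d21_4 F330615 (iv1 F224577) (iv5 F330621) D195140 (iv6 D209083) F336885 F426373 (iv5 F426418) (iv6 D202966) (iv1 F193609)
def n209084 : Q := act 5 n135712
theorem D209084 : act 5 n135712 = n209084 := rfl
theorem F452173 : act 3 n209084 = n135719 := d6_1 D209084 (iv5 D135719) (iv3 F218211)
theorem F452174 : act 6 n209084 = n135715 := d12_2 D135712 D209084 (iv5 D135715) (iv6 D63812) D63811
theorem F452175 : act 4 n209084 = n146520 := d19_2 F398031 D209084 (iv3 F420720) (iv1 F420724) (iv5 D152227) (iv4 F339226) F348646 F316415 (iv5 D56086) (iv4 F118399) (iv3 F118401) (iv1 D27705) D27706 D58118 D124519 F406144 F406141 F398046 (iv3 F398029)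
def n209085 : Q := act 0 n135719
theorem D209085 : act 0 n135719 = n209085 := rfl
theorem F452176 : act 6 n209085 = n203429 := d21_5 (iv5 D133457) F97705 D63815 (iv6 F218217) D209085 (iv5 D203429) (iv1 F419451) F419448 (iv6 F423355) F423357
theorem F452177 : act 1 n207363 = n209085 := d15_0 (iv0 D209085) (iv7 F418389) (iv2 F444522)
def n209086 : Q := act 1 n135719
theorem D209086 : act 1 n135719 = n209086 := rfl
theorem F452178 : act 1 n209086 = n207363 := d15_1 D209086 (iv7 D207363) (iv2 F218216)
theorem F452179 : act 4 n209086 = n204472 := d17_9 F452043 F452040 (iv1 D204171) D204172 F431326 F418396 F363939 D135719 D209086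
theorem F452180 : act 5 n208870 = n209086 := d21_6 (iv5 D59373) F45614 D30004 D63542 D135221 D208870 (iv1 D209086) (iv5 D135719) (iv6 D63813) (iv1 F93661)
theorem F452181 : act 2 n209086 = n207361 := d2_1 F452180 (iv5 F451775) F451772
theorem F452182 : act 3 n209086 = n207962 := d6_1 F452180 F447170 (iv3 F451181)
theorem F452183 : act 7 n209086 = n207360 := d13_2 (iv7 F451183) F452180 (iv5 F448145)
theorem F452184 : act 6 n208420 = n209086 := d21_5 F373338 (iv1 F142709) D93010 (iv6 F239741) (iv1 F449283) (iv5 F452180) F451184 (iv5 F375395) (iv6 D189009) F373341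
theorem F452185 : act 2 n207360 = n209085 := d15_3 (iv0 D209085) D209086 F452183
theorem F452186 : act 7 n207361 = n209085 := d4_2 (iv7 F452183) F452181 (iv2 F452185)
def n209087 : Q := act 0 n135721
theorem D209087 : act 0 n135721 = n209087 := rfl
theorem F452187 : act 5 n209087 = n201366 := d17_3 D127808 (iv5 F354429) D209087 F420201 (iv5 F400501) (iv0 D108718) D108721 (iv0 F356724) F356726
theorem F452188 : act 3 n209087 = n146458 := d20_5 F203473 (iv1 F96464) F99196 D135721 D209087 (iv4 F401530) (iv1 D196701) (iv4 F209227) F209226 F203474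
theorem F452189 : act 6 n209087 = n208108 := d21_5 D200929 (iv1 F451217) F451211 F448133 D209087 (iv5 D208108) (iv1 F214464) (iv5 F233583) (iv6 F252011) (iv1 F395852)
theorem F452190 : act 2 n207264 = n209087 := d15_3 (iv0 D209087) (iv0 F418703) (iv7 F444042)
theorem F452191 : act 1 n201171 = n209087 := d15_0 (iv0 D209087) F218225 (iv2 F419321)
theorem F452192 : act 7 n209087 = n207263 := d15_2 (iv0 F419323) F452191 (iv2 F444040)
def n209088 : Q := act 6 n135722
theorem D209088 : act 6 n135722 = n209088 := rfl
theorem F452193 : act 2 n209088 = n207366 := d3_1 D209088 (iv6 D207366) (iv2 F218226)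
theorem F452194 : act 3 n209088 = n206229 := d7_1 D209088 (iv6 D206229) F354428
theorem F452195 : act 5 n209088 = n203475 := d12_1 D209088 (iv6 F428454) F217414 F214633 D135722
def n209089 : Q := act 6 n135724
theorem D209089 : act 6 n135724 = n209089 := rfl
theorem F452196 : act 2 n209089 = n207368 := d3_1 D209089 (iv6 D207368) F218313
theorem F452197 : act 3 n209089 = n199782 := d7_1 D209089 (iv6 D199782) F354329
theorem F452198 : act 4 n209089 = n159129 := d10_1 D209089 F354431 (iv4 F354328)
theorem F452199 : act 5 n209089 = n207277 := d12_1 D209089 (iv6 D207277) F209267 D134499 F218230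
theorem F452200 : act 7 n209089 = n171100 := d14_2 (iv7 F218317) D209089 (iv6 F345122) (iv7 F239753) F354420
theorem F452201 : act 0 n192799 = n209089 := d21_4 (iv5 F356611) (iv1 D144977) D144978 (iv6 F387823) (iv6 D209089) (iv5 F218230) F218543 (iv5 F354444) (iv6 F375402) (iv1 F375406)
def n209090 : Q := act 1 n135725
theorem D209090 : act 1 n135725 = n209090 := rfl
theorem F452202 : act 1 n209090 = n207370 := d15_1 D209090 (iv7 D207370) (iv2 F218232)
theorem F452203 : act 7 n209090 = n199790 := d15_2 (iv0 F442948) D209090 (iv2 F413517)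
theorem F452204 : act 5 n209090 = n202529 := d17_7 (iv1 D139629) (iv5 F179550) F330575 (iv5 F330519) D201918 F422368 D209090 (iv0 F424393) F222795
theorem F452205 : act 4 n209090 = n207505 := d17_9 (iv1 D207505) (iv5 D131869) (iv1 F99203) D135728 (iv4 F423311) (iv5 D202225) (iv0 F422369) F422368 D209090
theorem F452206 : act 3 n198992 = n209090 := d19_19 (iv1 D209090) (iv5 F422368) (iv4 D201918) (iv3 F360867) F339868 F336232 (iv4 F179978) (iv3 F423657) F423660 F319283 (iv4 F184072) (iv3 F368340) (iv1 F368343) (iv5 F294661) F66923 (iv3 F139107) D187622 (iv5 F375825) F410218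
theorem F452207 : act 6 n209090 = n204630 := d7_2 F410219 F452206 (iv3 D204630)
theorem F452208 : act 2 n207369 = n209090 := d3_3 F452207 (iv2 F433071) F444549
def n209091 : Q := act 6 n135735
theorem D209091 : act 6 n135735 = n209091 := rfl
theorem F452209 : act 3 n209091 = n140419 := d7_1 D209091 F404204 (iv3 F404206)
theorem F452210 : act 4 n209091 = n193285 := d10_1 D209091 F432875 F432872
theorem F452211 : act 7 n209091 = n193282 := d14_2 F404207 D209091 (iv6 D193282) (iv7 F388945) (iv6 F388952)
theorem F452212 : act 0 n156104 = n209091 := d21_4 D201931 F422420 F179878 (iv6 F245278) (iv6 D209091) (iv5 F404202) (iv1 F404201) (iv5 D156022) F111032 (iv1 F362204)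
def n209092 : Q := act 3 n135736
theorem D209092 : act 3 n135736 = n209092 := rfl
theorem F452213 : act 4 n209092 = n198350 := d20_6 (iv4 D124956) (iv1 F130169) D85033 D178568 (iv1 F366516) D209092 (iv1 D198350) F332212 D156082 (iv1 F332228)
theorem F452214 : act 0 n209092 = n196397 := d20_10 (iv4 D196397) (iv1 F245241) F245239 F111123 (iv1 F111089) D156056 (iv4 F424329) (iv1 F432890) F432887 D209092
theorem F452215 : act 1 n209092 = n196400 := d15_1 (iv0 F452214) (iv7 F407678) F407676
def n209093 : Q := act 1 n135740
theorem D209093 : act 1 n135740 = n209093 := rfl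
theorem F452216 : act 1 n209093 = n202284 := d15_1 D209093 F423486 (iv2 F218269)
theorem F452217 : act 7 n209093 = n202377 := d15_2 (iv0 F423893) D209093 (iv2 F423889)
theorem F452218 : act 3 n156252 = n209093 := d20_3 (iv4 D177200) (iv1 F342337) F245566 (iv1 D209093) (iv3 F364778) (iv4 D140343) D140341 F423076 F423074 F351561
theorem F452219 : act 2 n209093 = n207375 := d0_1 F452218 (iv3 F444574) (iv2 F416055) (iv3 F416052) (iv2 F359987)
theorem F452220 : act 5 n209093 = n202395 := d6_2 F351509 F452218 F423856
def n209094 : Q := act 7 n135740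
theorem D209094 : act 7 n135740 = n209094 := rfl
theorem F452221 : act 2 n209094 = n202284 := d4_1 D209094 F423486 (iv2 F218269)
theorem F452222 : act 3 n209094 = n197701 := d8_1 D209094 F405430 F364778
theorem F452223 : act 4 n209094 = n202185 := d11_1 D209094 F423158 F403749
theorem F452224 : act 5 n209094 = n178667 := d13_1 D209094 (iv7 F422380) F422379
theorem F452225 : act 6 n209094 = n178670 := d14_1 D209094 (iv7 F360876) F360875 F111505 D135740
theorem F452226 : act 1 n207375 = n209094 := d15_1 D207375 (iv7 D209094) F218269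
theorem F452227 : act 1 n209094 = n202377 := d15_1 F452226 (iv7 F452217) F452219
def n209095 : Q := act 4 n135748
theorem D209095 : act 4 n135748 = n209095 := rfl
theorem F452228 : act 2 n209095 = n135752 := d1_1 D209095 (iv4 D135752) (iv2 F218279)
theorem F452229 : act 3 n209095 = n191682 := d5_1 D209095 (iv4 F440998) (iv3 F443251) (iv4 D207084) (iv3 F218280)
theorem F452230 : act 5 n209095 = n154954 := d9_2 D135748 D209095 (iv4 F364489) (iv5 F422050) (iv4 D201849) (iv5 D115109) F83847 D63735 D135551 (iv5 F359470) (iv4 F321567) F321568 (iv4 F321781) (iv5 F317535) F179335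
theorem F452231 : act 7 n209095 = n208337 := d11_2 (iv7 F218281) D209095 F448963
theorem F452232 : act 0 n209095 = n208260 := d17_0 F448625 (iv1 F314582) (iv5 F336885) (iv4 D135711) (iv5 D63811) D63809 (iv5 F349125) F218282 D209095
theorem F452233 : act 1 n209095 = n202966 := d18_6 F218081 (iv4 F218078) (iv1 F179337) F179335 D135748 D209095 F426417 F319937 F203470
theorem F452234 : act 6 n191680 = n209095 := d14_5 F452231 (iv6 F448965) F220525 D143276 (iv7 F384131)
theorem F452235 : act 0 n209083 = n208528 := d21_4 F448625 (iv1 F314582) (iv5 F336885) D209083 F449743 F368048 F367156 (iv5 F384130) F452234 F452232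
def n209096 : Q := act 6 n135748
theorem D209096 : act 6 n135748 = n209096 := rfl
theorem F452236 : act 2 n209096 = n135753 := d3_1 D209096 (iv6 D135753) (iv2 F218279)
theorem F452237 : act 3 n209096 = n207085 := d7_1 D209096 (iv6 D207085) (iv3 F218280)
theorem F452238 : act 4 n209096 = n191680 := d10_1 D209096 F452234 (iv4 D209095)
theorem F452239 : act 0 n194043 = n209096 := d18_2 D102609 D194043 F452238 F384130 (iv4 D102898) F137482 (iv4 F293617) (iv0 D47589) D47591
theorem F452240 : act 1 n183466 = n209096 := d18_6 (iv1 D186448) F136186 (iv1 F157561) F62855 D87571 D183466 F452238 (iv0 F384132) F344343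
def n209097 : Q := act 5 n135749
theorem D209097 : act 5 n135749 = n209097 := rfl
theorem F452241 : act 2 n209097 = n135756 := d2_1 D209097 (iv5 D135756) (iv2 F218284)
theorem F452242 : act 3 n209097 = n207086 := d6_1 D209097 (iv5 D207086) (iv3 F218285)
def n209098 : Q := act 5 n135752
theorem D209098 : act 5 n135752 = n209098 := rfl
theorem F452243 : act 2 n209098 = n154954 := d2_1 D209098 (iv5 F452230) F452228
theorem F452244 : act 3 n209098 = n146661 := d6_1 D209098 F336977 (iv3 F218288)
theorem F452245 : act 7 n209098 = n158954 := d13_2 (iv7 F218289) D209098 F359470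
theorem F452246 : act 4 n209098 = n141473 := d16_2 D135752 D209098 (iv5 F339437) F339436 F323489 F179253 D135547 (iv7 F218281) F218279
theorem F452247 : act 0 n209098 = n142649 := d17_2 F366214 D209098 (iv5 F335168) F216516 (iv5 F218111) (iv0 D135631) (iv5 F203311) F319932 (iv4 F366215)
theorem F452248 : act 1 n209098 = n141483 := d17_6 (iv1 F218204) F218209 (iv1 D63826) D63828 D135752 D209098 F335185 D208405 F449216
theorem F452249 : act 6 n209098 = n154809 := d21_9 (iv5 F243672) F349327 (iv5 F349346) (iv6 F349347) (iv1 F246116) (iv6 F448970) (iv5 D208338) F366214 D209098 F243493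
def n209099 : Q := act 6 n135752
theorem D209099 : act 6 n135752 = n209099 := rfl
theorem F452250 : act 2 n209099 = n191680 := d3_1 D209099 F452234 F452228
theorem F452251 : act 3 n209099 = n206965 := d7_1 D209099 (iv6 D206965) (iv3 F218288)
theorem F452252 : act 4 n209099 = n135753 := d10_1 D209099 (iv6 D135753) D135752
theorem F452253 : act 5 n209099 = n187165 := d12_1 D209099 F369297 F333325 (iv6 F452249) (iv5 D209098)
theorem F452254 : act 7 n209099 = n194179 := d14_2 (iv7 F218289) D209099 F392274 (iv7 F220984) F347285
theorem F452255 : act 1 n186796 = n209099 := d15_1 (iv0 F368043) F452254 F392273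
def n209100 : Q := act 7 n135753
theorem D209100 : act 7 n135753 = n209100 := rfl
theorem F452256 : act 3 n209100 = n135761 := d8_1 D209100 (iv7 D135761) (iv3 F218290)
theorem F452257 : act 4 n209100 = n194179 := d11_1 D209100 (iv7 F452254) F452252
theorem F452258 : act 6 n209100 = n208993 := d14_1 D209100 (iv7 D208993) (iv6 D135552) (iv7 F99229) D135753
theorem F452259 : act 1 n194043 = n209100 := d15_1 (iv0 F452239) (iv7 D209100) (iv2 F452236)
theorem F452260 : act 1 n209100 = n183466 := d15_1 F452259 (iv7 F367656) (iv2 F391856)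
def n209101 : Q := act 5 n135754
theorem D209101 : act 5 n135754 = n209101 := rfl
theorem F452261 : act 3 n209101 = n151943 := d6_1 D209101 (iv5 F451621) (iv3 F451624)
theorem F452262 : act 6 n209101 = n151942 := d12_2 (iv6 F359587) D209101 (iv5 F356694) (iv6 D147975) F229664
theorem F452263 : act 7 n209101 = n191709 := d13_2 F391683 D209101 (iv5 F391682)
theorem F452264 : act 4 n209101 = n157362 := d16_2 F359588 D209101 (iv5 F398985) F229787 (iv5 F165949) F349257 (iv5 F396075) (iv7 D195169) (iv2 F229746)
theorem F452265 : act 1 n209101 = n201844 := d17_6 F336809 F444726 (iv1 D207405) (iv5 F229748) F359588 D209101 (iv5 D201844) (iv0 F421291) F421289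
theorem F452266 : act 0 n209101 = n189770 := d18_0 F451656 (iv1 D208976) (iv4 F364269) D207237 (iv4 F443922) (iv0 D193999) (iv4 F391708) (iv0 F391710) D209101
def n209102 : Q := act 3 n135755
theorem D209102 : act 3 n135755 = n209102 := rfl
theorem F452267 : act 4 n209102 = n205558 := d5_2 F396074 D209102 F436987 F203050 (iv3 F396073)
theorem F452268 : act 7 n209102 = n205556 := d8_2 F396065 D209102 F436978
theorem F452269 : act 5 n196187 = n209102 := d13_3 F452268 F436980 F415831
theorem F452270 : act 0 n207119 = n209102 := d20_1 D207119 F452267 F436987 (iv1 F203053) D200612 (iv4 F442722) (iv1 F446625) (iv4 F446623) (iv3 F443406) (iv1 D207118)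
def n209103 : Q := act 5 n135755
theorem D209103 : act 5 n135755 = n209103 := rfl
theorem F452271 : act 2 n209103 = n191709 := d2_1 D209103 (iv5 F391682) F391680
theorem F452272 : act 3 n209103 = n196187 := d6_1 D209103 F452269 (iv3 D209102)
theorem F452273 : act 4 n209103 = n157363 := d9_1 D209103 (iv5 F451933) F451931 F426308 (iv4 F349254) (iv5 F229748) F359588 D209101 F452264 (iv5 F398985) F229787 (iv5 F165949) F349257 (iv5 F396075) F396074
theorem F452274 : act 6 n209103 = n186139 := d12_2 F374571 D209103 F367105 (iv6 F369139) (iv5 F374568)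
theorem F452275 : act 0 n209103 = n201844 := d17_2 (iv1 F391711) D209103 (iv5 D201844) F179235 D135518 D208976 F451655 (iv0 D193999) (iv4 F391708)
theorem F452276 : act 1 n209103 = n189770 := d17_6 (iv1 F451958) F444620 F444621 (iv5 F396075) F396074 D209103 (iv5 F397375) F422020 (iv4 F451955)
def n209104 : Q := act 0 n135756
theorem D209104 : act 0 n135756 = n209104 := rfl
theorem F452277 : act 3 n209104 = n189348 := d20_5 (iv4 F364661) (iv1 F364659) (iv4 D135767) (iv3 F218291) D209104 F376450 (iv1 F289200) (iv4 F451968) F451967 (iv1 F218099)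
theorem F452278 : act 5 n209104 = n206064 := d21_2 D135756 D209104 F439073 F372616 (iv6 D187732) F139295 D187115 (iv5 F374568) F374571 (iv1 D135755)
def n209105 : Q := act 1 n135756
theorem D209105 : act 1 n135756 = n209105 := rfl
theorem F452279 : act 3 n190023 = n209105 := d20_3 (iv4 F379678) (iv1 D190025) (iv4 F378597) (iv1 D209105) F218291 D135767 (iv1 F333576) F333578 (iv3 F225747) (iv1 F379677)
theorem F452280 : act 5 n206065 = n209105 := d21_0 (iv1 D209105) (iv5 D135756) (iv6 D63829) D63825 (iv6 F335885) F336874 (iv1 F335189) F336870 D201842 (iv1 F439078)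
theorem F452281 : act 4 n209105 = n189662 := d19_2 (iv1 F439078) F452280 F377292 (iv1 F448045) F448043 F447643 F442008 (iv1 F208165) (iv5 D129816) F95518 F46557 D59383 F93690 (iv4 F202597) F325138 (iv1 F320276) (iv5 D130810) (iv4 F209257) (iv3 F422017)
theorem F452282 : act 6 n209105 = n151978 := d21_3 F444745 (iv1 F439078) F452280 F451982 F451979 (iv5 F292999) (iv1 F293121) D98698 D191709 F444747
def n209106 : Q := act 7 n135756
theorem D209106 : act 7 n135756 = n209106 := rfl
theorem F452283 : act 3 n209106 = n135768 := d8_1 D209106 (iv7 D135768) (iv3 F218291)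
theorem F452284 : act 5 n209106 = n135757 := d13_1 D209106 (iv7 D135757) D135756
theorem F452285 : act 6 n208175 = n209106 := d12_0 F452284 F218293 (iv5 F451767) (iv6 F451771) (iv5 F448240)
def n209107 : Q := act 0 n135762
theorem D209107 : act 0 n135762 = n209107 := rfl
theorem F452286 : act 3 n209107 = n207119 := d20_5 (iv4 F93654) F168437 F99240 D135762 D209107 (iv4 D207119) (iv1 F418082) (iv4 F216462) (iv3 D134509) F168432
theorem F452287 : act 2 n200930 = n209107 := d15_3 (iv0 D209107) (iv0 F437532) F437531
theorem F452288 : act 1 n196214 = n209107 := d15_0 (iv0 D209107) F218304 (iv2 F399923)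
theorem F452289 : act 7 n209107 = n200993 := d15_2 (iv0 F437533) F452288 (iv2 F437528)
theorem F452290 : act 6 n159856 = n209107 := d21_3 (iv5 F352123) F421907 F421906 (iv1 F452288) F399925 F374645 F371091 (iv5 D187642) D187643 F374649
def n209108 : Q := act 5 n135769
theorem D209108 : act 5 n135769 = n209108 := rfl
theorem F452291 : act 3 n209108 = n135770 := d6_1 D209108 (iv5 D135770) D135769
theorem F452292 : act 7 n209108 = n189229 := d13_2 (iv7 F218331) D209108 F376158
theorem F452293 : act 1 n189402 = n209108 := d15_1 (iv0 F377117) F452292 (iv2 F377115)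
def n209109 : Q := act 4 n135770
theorem D209109 : act 4 n135770 = n209109 := rfl
theorem F452294 : act 2 n209109 = n190004 := d1_1 D209109 F378536 F363782
theorem F452295 : act 5 n209109 = n208177 := d9_2 D135770 D209109 F448251 (iv5 D199982) F174350 F81652 D63841 D135773 F363790 F147647 (iv4 F379660) F379661 (iv4 D112230) F81744 D63837
theorem F452296 : act 7 n209109 = n190418 := d11_2 F363787 D209109 F379730
theorem F452297 : act 0 n209109 = n190417 := d17_0 F379767 (iv1 D190438) F147651 F333584 F218092 F220679 F327581 F363755 D209109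
theorem F452298 : act 1 n209109 = n190416 := d18_6 (iv1 D63832) F48407 D30117 D63837 D135770 D209109 F379724 (iv0 F327566) F327569
theorem F452299 : act 3 n209109 = n190439 := d19_3 (iv1 F168174) D135770 D209109 (iv1 F444121) (iv5 D207280) (iv4 D130708) (iv3 F365938) (iv1 F369291) F369292 (iv4 F369294) (iv3 F447304) F447307 F438918 F280653 (iv3 F415210) F415208 F332802 (iv4 F99320) F99319
theorem F452300 : act 6 n203803 = n209109 := d7_0 F452299 (iv6 F410052) F429888
def n209110 : Q := act 6 n135770
theorem D209110 : act 6 n135770 = n209110 := rfl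
theorem F452301 : act 2 n209110 = n207224 := d3_1 D209110 (iv6 D207224) F363782
theorem F452302 : act 4 n209110 = n203803 := d10_1 D209110 F452300 (iv4 D209109)
theorem F452303 : act 7 n209110 = n208117 := d14_2 F363787 D209110 F447952 F377079 (iv6 F376147)
theorem F452304 : act 0 n209110 = n197163 := d21_4 (iv5 D63860) (iv1 F168174) D135770 D209110 (iv6 F403345) F379723 (iv1 F413883) (iv5 F444134) (iv6 D207282) F209279
theorem F452305 : act 0 n164228 = n209110 := d21_4 D207215 F443844 (iv5 D164231) (iv6 F258850) (iv6 D209110) (iv5 D135770) F168173 (iv5 F218098) (iv6 F362433) F210614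
def n209111 : Q := act 6 n135773
theorem D209111 : act 6 n135773 = n209111 := rfl
theorem F452306 : act 2 n209111 = n189224 := d3_1 D209111 (iv6 F376147) F363785
theorem F452307 : act 3 n209111 = n190410 := d7_1 D209111 (iv6 D190410) F363789
theorem F452308 : act 4 n209111 = n190419 := d10_1 D209111 (iv6 D190419) (iv4 F363790)
theorem F452309 : act 5 n209111 = n159831 := d12_1 D209111 F363797 (iv5 D134480) (iv6 F99288) D135773
theorem F452310 : act 0 n209111 = n145964 := d21_4 F218098 (iv1 F168172) D135773 D209111 (iv6 D145964) (iv5 D68439) (iv1 D31847) D31848 D68442 (iv1 F329182)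
def n209112 : Q := act 5 n135782
theorem D209112 : act 5 n135782 = n209112 := rfl
theorem F452311 : act 2 n209112 = n201639 := d2_1 D209112 (iv5 F421209) F395943
theorem F452312 : act 7 n209112 = n150763 := d13_2 (iv7 F342159) D209112 (iv5 F251541)
theorem F452313 : act 4 n209112 = n150770 := d18_5 F398031 (iv4 F452171) F452235 F449742 D209112 F238401 (iv4 F335936) F363412 (iv5 F398030)
theorem F452314 : act 0 n209112 = n203306 := d18_0 (iv4 D203306) D203304 (iv4 F427794) F427795 F359568 F384047 F395942 F395938 D209112
theorem F452315 : act 1 n209112 = n202934 := d15_1 (iv0 F452314) F426258 (iv2 F427778)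
def n209113 : Q := act 0 n135784
theorem D209113 : act 0 n135784 = n209113 := rfl
theorem F452316 : act 5 n209113 = n208164 := d17_1 D209113 F448190 F421348 (iv4 F427786) F427787 F186660 D151336 (iv0 F427791) F363823
theorem F452317 : act 4 n209113 = n151523 := d18_3 (iv1 F427792) F363823 D209113 (iv5 D151523) (iv4 F348665) (iv0 D151329) F107830 D71324 D151341
theorem F452318 : act 6 n209113 = n151523 := d21_5 F439435 F229654 (iv5 F231783) (iv6 F363821) D209113 (iv5 D151523) (iv1 F335497) F335499 (iv6 F420231) (iv1 F439438)
theorem F452319 : act 2 n201710 = n209113 := d15_3 (iv0 D209113) (iv0 F428267) (iv7 F421501)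
theorem F452320 : act 3 n209113 = n208165 := d0_2 (iv3 F421527) F452319 F448195 F421155 (iv2 F179109)
def n209114 : Q := act 7 n135784
theorem D209114 : act 7 n135784 = n209114 := rfl
theorem F452321 : act 3 n209114 = n135792 := d8_1 D209114 (iv7 D135792) (iv3 F218365)
theorem F452322 : act 5 n209114 = n135785 := d13_1 D209114 (iv7 D135785) D135784
theorem F452323 : act 6 n155578 = n209114 := d12_0 F452322 F218368 (iv5 F451969) F451970 F444802
theorem F452324 : act 0 n201710 = n209114 := d21_10 F452322 F342163 F251541 (iv6 D150763) (iv1 D71083) D71085 F107621 F343521 D115013 (iv6 F421528)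
def n209115 : Q := act 0 n135788
theorem D209115 : act 0 n135788 = n209115 := rfl
theorem F452325 : act 5 n209115 = n201081 := d17_3 (iv1 D135787) D135788 D209115 (iv4 F446943) (iv5 F446944) F437657 (iv5 D205742) D205741 F437653
theorem F452326 : act 4 n209115 = n208205 := d18_1 D209115 (iv1 D208205) (iv4 F448338) F448339 F217984 (iv0 F437614) F437592 F355296 D135788
theorem F452327 : act 3 n209115 = n201082 := d20_5 (iv4 D69320) D69318 D147967 F363822 D209115 F419029 (iv1 F423494) F423492 F365706 (iv1 D147973)
theorem F452328 : act 2 n209025 = n209115 := d0_5 F452327 F445181 F445184 (iv2 F374239) F451902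
theorem F452329 : act 7 n209026 = n209115 := d8_0 F452327 (iv7 F445186) (iv3 F451904)
theorem F452330 : act 6 n209115 = n201503 := d3_2 (iv6 F451900) F452328 (iv2 F420751)
theorem F452331 : act 0 n209115 = n209028 := d20_1 (iv4 F452326) F451908 F444815 (iv1 F413428) (iv3 D199771) (iv4 F409196) (iv1 F409198) (iv4 F360072) (iv3 F432790) (iv1 F448342)
def n209116 : Q := act 1 n135788
theorem D209116 : act 1 n135788 = n209116 := rfl
theorem F452332 : act 1 n209116 = n209028 := d15_1 D209116 (iv7 D209028) (iv2 F218370)
theorem F452333 : act 7 n209116 = n209025 := d15_2 (iv0 D209115) D209116 F452328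
theorem F452334 : act 5 n202894 = n209116 := d21_0 (iv1 D209116) (iv5 D135788) (iv6 D63847) (iv1 F95906) (iv6 F100543) (iv5 F327588) F83025 D54030 D117226 D202894
theorem F452335 : act 2 n209116 = n209026 := d2_1 F452334 (iv5 F451903) F426080
theorem F452336 : act 4 n209116 = n208204 := d18_5 (iv1 D146855) (iv4 F230243) F446629 F446627 F452334 (iv0 D208204) (iv4 F448338) (iv0 F448341) F387817
def n209117 : Q := act 4 n135788
theorem D209117 : act 4 n135788 = n209117 := rfl
theorem F452337 : act 2 n209117 = n209027 := d1_1 D209117 (iv4 D209027) (iv2 F218370)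
theorem F452338 : act 3 n209117 = n152521 := d5_1 D209117 (iv4 D152521) (iv3 F346141) D147967 F363822
theorem F452339 : act 6 n209117 = n135791 := d10_2 (iv6 F218371) D209117 (iv4 D135791)
theorem F452340 : act 7 n203459 = n209117 := d4_0 F452337 (iv7 F451907) F444814
def n209118 : Q := act 7 n135788
theorem D209118 : act 7 n135788 = n209118 := rfl
theorem F452341 : act 2 n209118 = n209028 := d4_1 D209118 (iv7 D209028) (iv2 F218370)
theorem F452342 : act 3 n209118 = n146446 := d8_1 D209118 (iv7 F231782) F363822
theorem F452343 : act 4 n209118 = n203459 := d11_1 D209118 F452340 (iv4 D209117)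
theorem F452344 : act 5 n209118 = n135789 := d13_1 D209118 (iv7 D135789) D135788
theorem F452345 : act 6 n209118 = n201507 := d14_1 D209118 F420767 F420669 (iv7 D135792) (iv6 F218371)
theorem F452346 : act 1 n209026 = n209118 := d15_1 D209026 (iv7 D209118) F218370
theorem F452347 : act 1 n209118 = n209025 := d15_1 F452346 (iv7 F452333) F452335
def n209119 : Q := act 3 n135791
theorem D209119 : act 3 n135791 = n209119 := rfl
theorem F452348 : act 4 n209119 = n152523 := d5_2 D135791 D209119 F346147 F363823 F218365
theorem F452349 : act 6 n209119 = n152521 := d7_2 F452339 D209119 (iv3 F452338)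
theorem F452350 : act 0 n201536 = n209119 := d18_2 F349972 D201536 F452348 (iv5 F404569) (iv4 D197498) (iv0 F317363) D144982 F334953 D145010
theorem F452351 : act 1 n201532 = n209119 := d18_6 (iv1 D119047) (iv4 F187301) F333626 (iv4 D114791) D114792 D201532 F452348 (iv0 F428268) (iv5 D203430)
def n209120 : Q := act 5 n135791
theorem D209120 : act 5 n135791 = n209120 := rfl
theorem F452352 : act 2 n209120 = n209030 := d2_1 D209120 (iv5 D209030) (iv2 F218381)
theorem F452353 : act 4 n209120 = n193669 := d9_1 D209120 (iv5 D193669) F329003 F165742 F163862 (iv5 F218055) (iv4 F387433) (iv5 F387435) (iv4 D136892) (iv5 D64349) (iv4 F100298) F100299 F93600 D63850 D135791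
theorem F452354 : act 0 n182267 = n209120 := d18_2 D209017 F451858 F452353 (iv5 D193669) F329003 (iv0 F165744) (iv4 F201754) (iv0 F201755) D135578
def n209121 : Q := act 7 n135791
theorem D209121 : act 7 n135791 = n209121 := rfl
theorem F452355 : act 2 n209121 = n192669 := d4_1 D209121 (iv7 F387434) (iv2 F218381)
theorem F452356 : act 4 n209121 = n135792 := d11_1 D209121 (iv7 D135792) D135791
theorem F452357 : act 6 n209121 = n157401 := d14_1 D209121 F247884 D203459 F452340 F452339
theorem F452358 : act 1 n208877 = n209121 := d15_1 (iv0 F451219) (iv7 D209121) F218381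
theorem F452359 : act 1 n209121 = n207262 := d15_1 F452358 (iv7 F451801) F451800
def n209122 : Q := act 0 n135800
theorem D209122 : act 0 n135800 = n209122 := rfl
theorem F452360 : act 5 n209122 = n201393 := d17_1 D209122 (iv1 D201393) F233519 (iv4 F437440) (iv5 F437442) (iv0 F446223) (iv5 D207744) (iv0 F445884) F445883
theorem F452361 : act 6 n209122 = n159658 := d21_5 (iv5 D114000) F325500 D63855 D135800 D209122 (iv5 F448315) F448314 (iv5 F418796) (iv6 D201026) F177492
theorem F452362 : act 2 n208051 = n209122 := d15_3 (iv0 D209122) (iv0 F448036) (iv7 F448039)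
theorem F452363 : act 1 n207386 = n209122 := d15_0 (iv0 D209122) (iv7 F443813) (iv2 F444630)
def n209123 : Q := act 4 n135803
theorem D209123 : act 4 n135803 = n209123 := rfl
theorem F452364 : act 3 n209123 = n176721 := d5_1 D209123 F276101 (iv3 F344968) (iv4 D135809) (iv3 F218412)
theorem F452365 : act 6 n209123 = n176719 := d10_2 (iv6 F364695) D209123 (iv4 F364720)
def n209124 : Q := act 5 n135814
theorem D209124 : act 5 n135814 = n209124 := rfl
theorem F452366 : act 2 n209124 = n187951 := d2_1 D209124 (iv5 F396031) (iv2 F396033)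
theorem F452367 : act 3 n209124 = n135826 := d6_1 D209124 (iv5 D135826) (iv3 F218445)
theorem F452368 : act 6 n209124 = n187542 := d12_2 D135814 D209124 (iv5 F444263) F444265 (iv5 F212512)
theorem F452369 : act 7 n209124 = n193351 := d13_2 (iv7 F361250) D209124 (iv5 D193351)
theorem F452370 : act 1 n209124 = n188002 := d17_6 (iv1 F389492) (iv5 D193334) (iv1 F156283) (iv5 F156298) F347387 D209124 F372054 F374917 (iv4 F374920)
def n209125 : Q := act 0 n135820
theorem D209125 : act 0 n135820 = n209125 := rfl
theorem F452371 : act 5 n209125 = n204857 := d21_0 (iv1 D204857) D204859 F433880 (iv1 F434210) (iv6 F437093) (iv5 D205582) F333471 F330406 D135820 D209125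
theorem F452372 : act 2 n193368 = n209125 := d15_3 (iv0 D209125) (iv0 F406142) F398047
theorem F452373 : act 1 n193369 = n209125 := d15_0 (iv0 D209125) (iv7 F361245) D193369
theorem F452374 : act 7 n209125 = n193367 := d15_2 F406145 F452373 (iv2 F398045)
def n209126 : Q := act 5 n135823
theorem D209126 : act 5 n135823 = n209126 := rfl
theorem F452375 : act 3 n209126 = n187542 := d6_1 D209126 (iv5 F444263) (iv3 F444267)
theorem F452376 : act 4 n209126 = n203741 := d9_1 D209126 F429632 (iv4 F429616) F429617 (iv4 D195040) (iv5 F176589) D200735 F417707 F375177 (iv5 D154213) F109588 D150245 (iv4 F353643) F231075 F359051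
theorem F452377 : act 6 n209126 = n135826 := d12_2 D135823 D209126 (iv5 D135826) (iv6 D63866) D63865
theorem F452378 : act 7 n209126 = n187943 := d13_2 F417272 D209126 (iv5 F417273)
theorem F452379 : act 0 n209126 = n187510 := d17_2 F443999 D209126 (iv5 F449717) F449716 (iv5 F439098) (iv0 F439101) (iv5 F417886) (iv0 F417888) (iv4 F443998)
def n209127 : Q := act 5 n135824
theorem D209127 : act 5 n135824 = n209127 := rfl
theorem F452380 : act 2 n209127 = n209009 := d2_1 D209127 (iv5 D209009) F371510
theorem F452381 : act 3 n209127 = n209042 := d6_1 D209127 (iv5 D209042) (iv3 F371511)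
theorem F452382 : act 6 n209127 = n208739 := d21_3 (iv5 D135826) D135824 D209127 (iv1 F450653) (iv6 D189107) (iv5 F295179) (iv1 F134177) F134176 D183134 F448091
def n209128 : Q := act 0 n135826
theorem D209128 : act 0 n135826 = n209128 := rfl
theorem F452383 : act 5 n209128 = n208141 := d17_3 F371509 D135826 D209128 F448066 (iv5 F452102) F452099 (iv5 D209069) (iv0 F418943) F418941
theorem F452384 : act 2 n208143 = n209128 := d15_3 (iv0 D209128) (iv0 F448091) F448082
theorem F452385 : act 3 n209128 = n201533 := d0_2 (iv3 F448072) F452384 (iv2 F443948) F443949 (iv2 F214591)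
theorem F452386 : act 4 n209128 = n190519 := d1_2 (iv4 F448083) F452384 F379978
theorem F452387 : act 6 n209128 = n201530 := d3_2 (iv6 F448073) F452384 (iv2 F440101)
theorem F452388 : act 7 n209128 = n190516 := d4_2 F448082 F452384 F379973
def n209129 : Q := act 6 n135829
theorem D209129 : act 6 n135829 = n209129 := rfl
theorem F452389 : act 2 n209129 = n208908 := d3_1 D209129 (iv6 D208908) (iv2 F218472)
theorem F452390 : act 3 n209129 = n135834 := d7_1 D209129 (iv6 D135834) (iv3 F218473)
theorem F452391 : act 4 n209129 = n191695 := d10_1 D209129 F447446 F447445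
theorem F452392 : act 5 n209129 = n195973 := d21_6 (iv5 D52530) (iv1 F50265) D68640 (iv6 F319941) (iv1 F218475) D209129 (iv1 D195973) F163738 (iv6 D52594) (iv1 F114373)
theorem F452393 : act 0 n208685 = n191695 := d18_2 (iv1 F451694) F451690 (iv4 F452391) F452392 F398920 (iv0 F380940) (iv4 F443742) (iv0 F443744) (iv5 F443275)
def n209130 : Q := act 5 n135830
theorem D209130 : act 5 n135830 = n209130 := rfl
theorem F452394 : act 2 n209130 = n208909 := d2_1 D209130 (iv5 D208909) (iv2 F218476)
theorem F452395 : act 3 n209130 = n135837 := d6_1 D209130 (iv5 D135837) (iv3 F218477)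
theorem F452396 : act 6 n209130 = n195973 := d12_2 D135830 D209130 (iv5 F452392) (iv6 D209129) (iv5 D135829)
theorem F452397 : act 7 n209130 = n194190 := d13_2 F362719 D209130 F392312
def n209131 : Q := act 3 n135833
theorem D209131 : act 3 n135833 = n209131 := rfl
theorem F452398 : act 2 n209131 = n200822 := d0_1 D209131 (iv3 F418057) F214144 D206490 (iv2 F441060)
theorem F452399 : act 4 n209131 = n191697 := d5_2 D135833 D209131 (iv3 F447447) F447445 F218473
theorem F452400 : act 5 n209131 = n163478 := d6_2 (iv5 F333449) D209131 (iv3 D163478)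
theorem F452401 : act 7 n209131 = n200821 := d8_2 F333450 D209131 (iv3 F418054)
theorem F452402 : act 0 n209131 = n200794 := d19_4 (iv1 F48428) D63870 D135833 D209131 (iv5 D200794) F327544 F362986 F358080 (iv5 F343962) (iv4 D176540) F315816 (iv1 D60932) (iv5 D28894) (iv4 F46529) (iv3 D28885) D28884 (iv5 F48434) (iv4 D30131) (iv3 F48426)
theorem F452403 : act 0 n200564 = n209131 := d20_4 D205570 F437032 (iv4 D200574) (iv3 F416979) (iv3 D209131) (iv4 D135833) (iv1 F209513) (iv4 F330456) F202833 D126309
theorem F452404 : act 6 n191696 = n209131 := d21_3 (iv5 F389596) F254413 (iv5 F384179) F452402 (iv6 F445744) (iv5 D207627) (iv1 F399266) D206551 F441289 (iv1 F389598)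
def n209132 : Q := act 6 n135833
theorem D209132 : act 6 n135833 = n209132 := rfl
theorem F452405 : act 3 n209132 = n191696 := d7_1 D209132 F452404 (iv3 D209131)
theorem F452406 : act 4 n209132 = n135834 := d10_1 D209132 (iv6 D135834) D135833
theorem F452407 : act 5 n209132 = n189808 := d12_1 D209132 (iv6 F377816) (iv5 D177334) F299565 (iv5 F333449)
theorem F452408 : act 7 n209132 = n200736 := d14_2 F333450 D209132 (iv6 D200736) (iv7 F358946) F359050
theorem F452409 : act 0 n189801 = n209132 := d21_4 F419222 (iv1 F242345) (iv5 F398355) (iv6 F398356) (iv6 D209132) F333449 F297412 (iv5 F330404) (iv6 F347554) D201139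
def n209133 : Q := act 5 n135834
theorem D209133 : act 5 n135834 = n209133 := rfl
theorem F452410 : act 3 n209133 = n195973 := d6_1 D209133 (iv5 F452392) F452390
theorem F452411 : act 6 n209133 = n135837 := d12_2 D135834 D209133 (iv5 D135837) (iv6 D63871) D63870
theorem F452412 : act 0 n208893 = n209133 := d19_0 (iv5 D209133) (iv4 F452406) F452405 F384181 (iv5 F434804) F434805 F373688 (iv1 F258227) (iv5 F194361) (iv4 F258254) F281152 (iv1 D160854) D160856 (iv4 F408163) (iv3 D198506) D198504 F420334 F420331 (iv3 F451290)
theorem F452413 : act 1 n196155 = n209133 := d15_0 (iv0 F452412) F451291 F410009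
def n209134 : Q := act 4 n135845
theorem D209134 : act 4 n135845 = n209134 := rfl
theorem F452414 : act 2 n209134 = n201139 := d1_1 D209134 F419223 (iv2 F363731)
theorem F452415 : act 5 n209134 = n193172 := d9_2 F339639 D209134 (iv4 D193172) (iv5 D101266) F304950 (iv5 F320177) F320176 F335843 F335844 (iv5 D154235) (iv4 D73076) (iv5 D33663) (iv4 F52931) (iv5 F106549) (iv4 F320228)
theorem F452416 : act 7 n209134 = n200643 := d11_2 F363735 D209134 F417335
theorem F452417 : act 0 n209134 = n195185 := d17_0 (iv5 F396151) (iv1 F389057) (iv5 F421359) F421360 F371516 (iv0 D154038) (iv5 F339636) F218501 D209134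
theorem F452418 : act 1 n209134 = n201140 := d18_6 (iv1 F163381) F190358 F205953 (iv4 F320228) F339639 D209134 F419233 F398018 F163289
def n209135 : Q := act 3 n135849
theorem D209135 : act 3 n135849 = n209135 := rfl
theorem F452419 : act 6 n209135 = n146845 := d7_2 (iv6 F336466) D209135 (iv3 D146845)
theorem F452420 : act 7 n209135 = n209057 := d8_2 F359190 D209135 (iv3 D209057)
theorem F452421 : act 0 n206958 = n209135 := d20_4 (iv4 D207122) F347046 F366307 (iv3 F442740) (iv3 D209135) F336465 D146848 (iv4 F437927) F437926 (iv1 F443424)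
def n209136 : Q := act 5 n135849
theorem D209136 : act 5 n135849 = n209136 := rfl
theorem F452422 : act 2 n209136 = n209056 := d2_1 D209136 (iv5 D209056) (iv2 F359191)
theorem F452423 : act 7 n209136 = n209058 := d13_2 F359190 D209136 (iv5 D209058)
def n209137 : Q := act 3 n135850
theorem D209137 : act 3 n135850 = n209137 := rfl
theorem F452424 : act 7 n209137 = n209055 := d8_2 (iv7 F359193) D209137 (iv3 D209055)
theorem F452425 : act 4 n209137 = n208359 := d20_6 F203667 (iv1 F99074) (iv4 F95528) (iv3 F208179) (iv1 F218508) D209137 (iv1 D208359) F216259 F203649 D126616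
theorem F452426 : act 7 n208359 = n208729 := d11_2 (iv7 F452424) F452425 (iv4 F452051)
theorem F452427 : act 2 n208729 = n208358 := d15_3 (iv0 D208358) D208359 F452426
theorem F452428 : act 2 n208359 = n208728 := d15_3 (iv0 D208728) D208729 (iv7 F452426)
theorem F452429 : act 7 n208728 = n208358 := d4_2 (iv7 F452426) F452428 (iv2 F452427)
def n209138 : Q := act 5 n135850
theorem D209138 : act 5 n135850 = n209138 := rfl
theorem F452430 : act 2 n209138 = n209058 := d2_1 D209138 (iv5 D209058) F359192
theorem F452431 : act 7 n209138 = n209056 := d13_2 (iv7 F359193) D209138 (iv5 D209056)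
def n209139 : Q := act 6 n135850
theorem D209139 : act 6 n135850 = n209139 := rfl
theorem F452432 : act 2 n209139 = n209059 := d3_1 D209139 (iv6 D209059) F359192
theorem F452433 : act 4 n209139 = n146856 := d10_1 D209139 F398221 (iv4 F398220)
theorem F452434 : act 7 n209139 = n146853 := d14_2 (iv7 F359193) D209139 (iv6 D146853) (iv7 F176795) (iv6 F359194)
theorem F452435 : act 1 n209059 = n207831 := d15_0 (iv0 F446629) (iv7 F452434) F452432
def n209140 : Q := act 0 n135851
theorem D209140 : act 0 n135851 = n209140 := rfl
def n209141 : Q := act 1 n135851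
theorem D209141 : act 1 n135851 = n209141 := rfl
theorem F452436 : act 1 n209141 = n207023 := d15_1 D209141 F443015 (iv2 F218509)
def n209142 : Q := act 7 n135851
theorem D209142 : act 7 n135851 = n209142 := rfl
theorem F452437 : act 2 n209142 = n207023 := d4_1 D209142 F443015 (iv2 F218509)
theorem F452438 : act 4 n209142 = n194974 := d11_1 D209142 F395259 (iv4 F335982)
theorem F452439 : act 5 n209142 = n135852 := d13_1 D209142 (iv7 D135852) D135851
theorem F452440 : act 1 n207023 = n209140 := d15_0 (iv0 D209140) D209142 F452437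
theorem F452441 : act 1 n209061 = n209142 := d15_1 D209061 (iv7 D209142) F218509
theorem F452442 : act 1 n209142 = n209060 := d15_0 (iv0 D209060) (iv7 F443015) (iv2 F452437)
def n209143 : Q := act 5 n135855
theorem D209143 : act 5 n135855 = n209143 := rfl
theorem F452443 : act 2 n209143 = n194980 := d2_1 D209143 F395286 F364258
theorem F452444 : act 4 n209143 = n194978 := d9_1 D209143 (iv5 D194978) (iv4 F352040) F352041 F239275 F336464 D135860 (iv5 F394855) (iv4 D194885) (iv5 D104672) (iv4 F160353) (iv5 F352036) F177580 (iv5 F336457) D135855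
theorem F452445 : act 7 n209143 = n209063 := d13_2 (iv7 F364261) D209143 (iv5 D209063)
def n209144 : Q := act 3 n135860
theorem D209144 : act 3 n135860 = n209144 := rfl
theorem F452446 : act 5 n209144 = n191048 := d6_2 F394855 D209144 (iv3 F394853)
theorem F452447 : act 7 n209144 = n209062 := d8_2 F364257 D209144 (iv3 D209062)
def n209145 : Q := act 6 n135860
theorem D209145 : act 6 n135860 = n209145 := rfl
theorem F452448 : act 2 n209145 = n209064 := d3_1 D209145 (iv6 D209064) F364260
theorem F452449 : act 4 n209145 = n135862 := d10_1 D209145 (iv6 D135862) D135860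
theorem F452450 : act 7 n209145 = n200911 := d14_2 F364257 D209145 (iv6 D200911) (iv7 F176800) (iv6 F329784)
def n209146 : Q := act 5 n135879
theorem D209146 : act 5 n135879 = n209146 := rfl
theorem F452451 : act 3 n209146 = n135881 := d6_1 D209146 (iv5 D135881) (iv3 F218553)
theorem F452452 : act 4 n209146 = n193774 := d16_2 F357918 D209146 (iv5 D193774) D193773 F390968 (iv4 F358451) F302454 (iv7 F354140) (iv2 F354141)
def n209147 : Q := act 4 n135881
theorem D209147 : act 4 n135881 = n209147 := rfl
theorem F452453 : act 2 n209147 = n136445 := d1_1 D209147 (iv4 D136445) (iv2 F218559)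
theorem F452454 : act 5 n209147 = n207394 := d9_2 D135881 D209147 F444670 F218379 F214594 F97693 F328996 D102211 D193672 (iv5 F443973) (iv4 D207251) (iv5 D130648) F95786 (iv5 F48445) (iv4 F99368)
def n209148 : Q := act 4 n135882
theorem D209148 : act 4 n135882 = n209148 := rfl
theorem F452455 : act 2 n209148 = n136515 := d1_1 D209148 (iv4 D136515) (iv2 F221980)
theorem F452456 : act 3 n209148 = n202844 := d5_1 D209148 F425831 (iv3 D197566) F359932 (iv3 F359931)
theorem F452457 : act 6 n209148 = n192098 := d10_2 (iv6 F346674) D209148 (iv4 D192098)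
theorem F452458 : act 7 n209148 = n136510 := d11_2 (iv7 F221981) D209148 (iv4 D136510)
theorem F452459 : act 5 n209148 = n202842 := d16_5 (iv4 D199797) D199798 F413547 F372478 D209148 F425819 (iv5 F419918) F419919 (iv2 F413539)
theorem F452460 : act 0 n209148 = n200400 := d17_0 F416300 F377498 (iv5 F353349) (iv4 D102178) D102179 F352860 (iv5 D136518) F218560 D209148
theorem F452461 : act 1 n209148 = n200385 := d18_8 F377494 F276238 (iv1 F288667) F353353 F210043 F165094 F218560 D209148 (iv5 F416241)
def n209149 : Q := act 4 n135885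
theorem D209149 : act 4 n135885 = n209149 := rfl
theorem F452462 : act 2 n209149 = n203772 := d1_1 D209149 F429758 F373151
theorem F452463 : act 3 n209149 = n198017 := d5_1 D209149 F406528 F208155 (iv4 F99373) (iv3 F218567)
theorem F452464 : act 6 n209149 = n198016 := d10_2 F371045 D209149 F406525
theorem F452465 : act 7 n209149 = n136522 := d11_2 (iv7 F218568) D209149 (iv4 D136522)
theorem F452466 : act 0 n209149 = n188856 := d17_0 (iv5 D188856) D188854 (iv5 F375378) (iv4 D102187) (iv5 D47440) D47439 D102184 F352854 D209149
theorem F452467 : act 5 n204521 = n209149 := d21_6 F291250 (iv1 F154228) (iv5 F354458) D188646 F413473 (iv6 F432795) F452466 (iv5 D188856) (iv6 D92857) D92853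
def n209150 : Q := act 0 n135887
theorem D209150 : act 0 n135887 = n209150 := rfl
theorem F452468 : act 4 n209150 = n203121 := d18_3 (iv1 D207019) (iv4 F218572) D209150 (iv5 F439225) F439224 (iv0 F354178) D206023 F443133 F442994
theorem F452469 : act 2 n136490 = n209150 := d15_3 (iv0 D209150) (iv0 F388466) (iv7 F388468)
theorem F452470 : act 1 n136493 = n209150 := d15_0 (iv0 D209150) (iv7 F373164) F373161
theorem F452471 : act 7 n209150 = n136491 := d15_2 F388467 F452470 (iv2 F388464)
theorem F452472 : act 3 n202592 = n209150 := d19_19 (iv1 F452470) F373160 F373157 F223833 (iv1 D140733) (iv5 D66038) (iv4 D30892) D30891 (iv1 F180644) F101367 D127706 (iv3 F409854) (iv1 F409858) (iv5 F382022) (iv4 F424644) (iv3 D202589) (iv1 D116041) D116042 D202592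
def n209151 : Q := act 3 n135888
theorem D209151 : act 3 n135888 = n209151 := rfl
theorem F452473 : act 4 n209151 = n138634 := d5_2 (iv4 F218578) D209151 (iv3 D138634) F172379 (iv3 F201758)
theorem F452474 : act 6 n209151 = n136081 := d7_2 (iv6 F218579) D209151 (iv3 D136081)
theorem F452475 : act 7 n209151 = n136496 := d8_2 (iv7 F218580) D209151 (iv3 D136496)
theorem F452476 : act 0 n209151 = n203390 := d20_4 (iv4 F92809) D125465 (iv4 F218578) D209151 F428123 F186935 F318402 (iv4 F219617) (iv3 D136505) F99887
def n209152 : Q := act 5 n135888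
theorem D209152 : act 5 n135888 = n209152 := rfl
theorem F452477 : act 2 n209152 = n136495 := d2_1 D209152 (iv5 D136495) F218577
theorem F452478 : act 6 n209152 = n187584 := d12_2 (iv6 F218579) D209152 F370894 (iv6 F357600) F357599
theorem F452479 : act 7 n209152 = n136497 := d13_2 (iv7 F218580) D209152 (iv5 D136497)
theorem F452480 : act 0 n209152 = n136820 := d17_2 D135888 D209152 (iv5 D136820) (iv4 D64323) (iv5 F80050) (iv0 F161375) (iv5 D74500) (iv0 F161296) (iv4 F99376)
theorem F452481 : act 1 n209152 = n136818 := d17_6 D68126 D145311 (iv1 F434933) (iv5 D205087) (iv4 F218578) D209152 (iv5 D136818) F169537 (iv4 F50027)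
def n209153 : Q := act 3 n135889
theorem D209153 : act 3 n135889 = n209153 := rfl
theorem F452482 : act 4 n209153 = n197153 := d5_2 (iv4 F218574) D209153 (iv3 D197153) (iv4 D107762) D107761
theorem F452483 : act 7 n209153 = n136494 := d8_2 F218576 D209153 (iv3 D136494)
def n209154 : Q := act 5 n135889
theorem D209154 : act 5 n135889 = n209154 := rfl
theorem F452484 : act 2 n209154 = n136497 := d2_1 D209154 (iv5 D136497) F218575
theorem F452485 : act 7 n209154 = n136495 := d13_2 F218576 D209154 (iv5 D136495)
theorem F452486 : act 0 n209154 = n136818 := d17_2 (iv1 F218573) D209154 (iv5 D136818) (iv4 D64321) (iv5 F79995) (iv0 F169218) F169215 F99379 (iv4 F99881)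
theorem F452487 : act 1 n209154 = n136820 := d17_6 (iv1 F203885) (iv5 F202714) F203112 F203111 (iv4 F218574) D209154 (iv5 D136820) F218702 F218700
theorem F452488 : act 6 n209154 = n189149 := d21_3 F219614 (iv1 F218573) D209154 (iv1 D189149) D189153 F375875 F330934 (iv5 F330936) F330937 F219615
def n209155 : Q := act 6 n135889
theorem D209155 : act 6 n135889 = n209155 := rfl
theorem F452489 : act 2 n209155 = n136498 := d3_1 D209155 (iv6 D136498) F218575
theorem F452490 : act 4 n209155 = n196997 := d10_1 D209155 F402615 (iv4 F218574)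
theorem F452491 : act 7 n209155 = n136080 := d14_2 F218576 D209155 (iv6 D136080) F166468 (iv6 F167116)
theorem F452492 : act 0 n209155 = n137598 := d21_4 D136820 (iv1 F452487) (iv5 D209154) D209155 (iv6 F220761) D209012 F451840 (iv5 D136442) (iv6 F218701) (iv1 F218702)
theorem F452493 : act 5 n209155 = n136019 := d21_6 D64385 (iv1 F220129) F220131 F179677 (iv1 F218573) D209155 (iv1 F218865) F100432 (iv6 F99459) (iv1 F99461)
theorem F452494 : act 0 n136255 = n209155 := d21_4 (iv5 F327140) F321061 (iv5 F327151) D136255 (iv6 D209155) D209154 F452486 (iv5 D136818) (iv6 F100734) F220141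
def n209156 : Q := act 4 n135890
theorem D209156 : act 4 n135890 = n209156 := rfl
theorem F452495 : act 2 n209156 = n136500 := d1_1 D209156 (iv4 D136500) (iv2 F218582)
theorem F452496 : act 3 n209156 = n199270 := d5_1 D209156 (iv4 D199270) (iv3 F384553) F384555 F371048
theorem F452497 : act 6 n209156 = n140328 := d10_2 (iv6 F371035) D209156 F371031
theorem F452498 : act 5 n209156 = n198578 := d16_1 D209156 (iv4 D198578) (iv5 D109580) (iv4 D50554) (iv5 F79817) (iv4 F99881) (iv5 F219614) (iv7 D136501) (iv2 F218582)
theorem F452499 : act 0 n209156 = n198592 := d18_2 (iv1 F220056) D209156 (iv4 D198592) (iv5 D109590) (iv4 D50557) D50556 D109585 (iv0 F169552) (iv5 F220055)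
theorem F452500 : act 1 n209156 = n198576 := d18_6 F218591 (iv4 D135892) (iv1 D63900) (iv4 F99376) D135890 D209156 F408368 F220027 F219659
def n209157 : Q := act 5 n135892
theorem D209157 : act 5 n135892 = n209157 := rfl
theorem F452501 : act 2 n209157 = n136506 := d2_1 D209157 (iv5 D136506) (iv2 F218588)
theorem F452502 : act 3 n209157 = n179771 := d6_1 D209157 (iv5 F391275) F391274
theorem F452503 : act 7 n209157 = n136503 := d13_2 (iv7 F218589) D209157 (iv5 D136503)
theorem F452504 : act 0 n209157 = n136810 := d17_2 F218591 D209157 (iv5 D136810) (iv4 F175578) (iv5 F408800) (iv0 F408803) (iv5 D197311) (iv0 F176830) (iv4 F176831)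
theorem F452505 : act 1 n209157 = n136813 := d17_6 (iv1 F79931) (iv5 F80050) F169216 F169215 D135892 D209157 (iv5 D136813) F169567 F169564
def n209158 : Q := act 4 n135893
theorem D209158 : act 4 n135893 = n209158 := rfl
theorem F452506 : act 2 n209158 = n136578 := d1_1 D209158 (iv4 D136578) (iv2 F391935)
theorem F452507 : act 3 n209158 = n200431 := d5_1 D209158 F416407 (iv3 D196590) (iv4 F391930) (iv3 F391936)
theorem F452508 : act 7 n209158 = n136573 := d11_2 (iv7 F391937) D209158 (iv4 D136573)
theorem F452509 : act 5 n209158 = n200018 := d18_4 (iv1 D108090) (iv4 F99389) D135893 D209158 F414647 F403800 (iv4 D197270) (iv0 F396636) F396635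
theorem F452510 : act 1 n209158 = n139079 := d18_8 D200431 F416407 F401181 (iv4 F315165) (iv5 F204010) F204009 F218592 D209158 F222284
theorem F452511 : act 1 n197396 = n209158 := d15_0 F452510 F222266 D197396
theorem F452512 : act 0 n186400 = n200025 := d17_2 F393881 F367386 F414665 (iv4 F414647) (iv5 F452509) F452510 F222284 (iv0 F404067) F404065
def n209159 : Q := act 5 n135894
theorem D209159 : act 5 n135894 = n209159 := rfl
theorem F452513 : act 2 n209159 = n136574 := d2_1 D209159 (iv5 D136574) (iv2 F391938)
theorem F452514 : act 7 n209159 = n136579 := d13_2 (iv7 F391940) D209159 (iv5 D136579)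
theorem F452515 : act 0 n209159 = n135929 := d17_2 (iv1 F218597) D209159 F218646 F166988 D108062 (iv0 F396636) F396635 F204017 F204009
theorem F452516 : act 0 n136674 = n209159 := d21_1 F434913 (iv5 D209159) F391939 (iv1 D64003) D64006 (iv5 F329158) F353340 (iv5 F414620) F414621 (iv1 F434915)
def n209160 : Q := act 5 n135895
theorem D209160 : act 5 n135895 = n209160 := rfl
theorem F452517 : act 2 n209160 = n135896 := d2_1 D209160 (iv5 D135896) D135895
theorem F452518 : act 3 n209160 = n136552 := d6_1 D209160 (iv5 D136552) (iv3 F218593)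
theorem F452519 : act 4 n209160 = n192797 := d9_1 D209160 F387815 (iv4 F414657) (iv5 F415995) F415994 F176183 F93890 D64206 D136585 F367396 (iv4 F414660) (iv5 F415987) F415986 F176179 (iv4 F218594)
theorem F452520 : act 7 n209160 = n136581 := d13_2 (iv7 F218595) D209160 (iv5 D136581)
theorem F452521 : act 1 n209160 = n136583 := d17_6 D108059 F167073 D113089 F176179 (iv4 F218594) D209160 F414638 (iv0 D197249) F166988
theorem F452522 : act 1 n136584 = n209160 := d15_1 D136584 F452520 F219665
theorem F452523 : act 6 n197250 = n205938 := d21_3 D209160 (iv1 F452522) F434917 (iv1 D205938) (iv6 D126784) F93921 (iv1 F347225) (iv5 D64753) F352948 (iv1 F218596)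
def n209161 : Q := act 6 n135895
theorem D209161 : act 6 n135895 = n209161 := rfl
theorem F452524 : act 2 n209161 = n135897 := d3_1 D209161 (iv6 D135897) D135895
theorem F452525 : act 3 n209161 = n136553 := d7_1 D209161 (iv6 D136553) (iv3 F218593)
theorem F452526 : act 4 n209161 = n197322 := d10_1 D209161 (iv6 D197322) (iv4 F218594)
theorem F452527 : act 0 n209161 = n137839 := d21_4 (iv5 F414638) (iv1 F452521) (iv5 D209160) D209161 (iv6 D137839) D137838 (iv1 F391430) F391436 F385838 D197249
def n209162 : Q := act 0 n135896
theorem D209162 : act 0 n135896 = n209162 := rfl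
theorem F452528 : act 1 n136581 = n209162 := d15_0 (iv0 D209162) F218600 (iv2 F219665)
theorem F452529 : act 5 n209162 = n205082 := d17_7 D197221 F403609 (iv1 F176190) (iv5 F204010) F204009 D136581 F452528 (iv0 D205082) F201750
theorem F452530 : act 4 n201436 = n209162 := d20_6 D192800 F387827 F371959 (iv3 F371946) (iv1 F371949) (iv3 F420506) (iv1 F452528) (iv4 F367389) F154812 D100715
theorem F452531 : act 6 n209162 = n192757 := d10_2 D201436 F452530 (iv4 F387681)
theorem F452532 : act 3 n192759 = n209162 := d7_3 F452531 (iv3 D192757) D192759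
theorem F452533 : act 2 n136584 = n209162 := d2_3 F452529 (iv2 F434911) (iv5 F434917)
theorem F452534 : act 7 n136583 = n209162 := d13_0 F452529 (iv7 F434906) (iv5 F414638)
def n209163 : Q := act 1 n135896
theorem D209163 : act 1 n135896 = n209163 := rfl
theorem F452535 : act 1 n209163 = n136581 := d15_1 D209163 (iv7 F452520) F452517
theorem F452536 : act 7 n209163 = n136584 := d15_2 (iv0 D209162) D209163 F452533
theorem F452537 : act 5 n209163 = n205083 := d17_7 F403618 F403616 (iv1 F176187) (iv5 D108092) (iv4 F99389) D135896 D209163 (iv0 F434909) F386253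
theorem F452538 : act 6 n203643 = n209163 := d21_9 (iv5 D135896) D135893 (iv5 F444895) (iv6 D207435) F210753 D197161 F403335 F354081 D203643 (iv1 D209163)
theorem F452539 : act 2 n209163 = n136583 := d3_1 F452538 (iv6 F414640) (iv2 F429210)
def n209164 : Q := act 4 n135896
theorem D209164 : act 4 n135896 = n209164 := rfl
theorem F452540 : act 2 n209164 = n192797 := d1_1 D209164 (iv4 F452519) F452517
theorem F452541 : act 7 n209164 = n136585 := d11_2 (iv7 F218600) D209164 (iv4 D136585)
theorem F452542 : act 0 n209164 = n192796 := d17_0 (iv5 F416442) F416440 (iv5 F419639) F419638 F393990 F434905 (iv5 F452529) (iv0 D209162) D209164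
theorem F452543 : act 0 n151704 = n209164 := d20_10 (iv4 D209164) D209162 (iv4 F452530) F420506 F371935 F371932 F238558 (iv1 F166816) F166813 (iv3 F238580)
theorem F452544 : act 6 n208872 = n209164 := d21_9 (iv5 F416442) F416440 (iv5 F419639) (iv6 D201246) (iv1 F177974) D119214 F187583 D146854 (iv5 F451194) F452542
def n209165 : Q := act 6 n135896
theorem D209165 : act 6 n135896 = n209165 := rfl
theorem F452545 : act 3 n209165 = n135898 := d7_1 D209165 (iv6 D135898) (iv3 F218599)
theorem F452546 : act 4 n209165 = n208872 := d10_1 D209165 F452544 (iv4 D209164)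
theorem F452547 : act 0 n203459 = n209165 := d21_4 (iv5 D107878) D107876 (iv5 F187532) D203459 (iv6 D209165) (iv5 D135896) D135893 (iv5 F444895) (iv6 D207435) F210753
theorem F452548 : act 1 n209027 = n209165 := d15_0 (iv0 F452547) F452340 F452337
def n209166 : Q := act 1 n135897
theorem D209166 : act 1 n135897 = n209166 := rfl
theorem F452549 : act 7 n209166 = n137839 := d15_2 (iv0 F390419) D209166 (iv2 F385895)
def n209167 : Q := act 5 n135897
theorem D209167 : act 5 n135897 = n209167 := rfl
theorem F452550 : act 3 n209167 = n135899 := d6_1 D209167 (iv5 D135899) (iv3 F218601)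
def n209168 : Q := act 7 n135897
theorem D209168 : act 7 n135897 = n209168 := rfl
theorem F452551 : act 3 n209168 = n135900 := d8_1 D209168 (iv7 D135900) (iv3 F218601)
theorem F452552 : act 4 n209168 = n197327 := d11_1 D209168 (iv7 D197327) (iv4 F218602)
theorem F452553 : act 6 n209168 = n136590 := d14_1 D209168 (iv7 D136590) (iv6 D64207) (iv7 F99390) D135897
def n209169 : Q := act 0 n135898
theorem D209169 : act 0 n135898 = n209169 := rfl
theorem F452554 : act 5 n209169 = n208564 := d19_1 D209169 (iv4 D208564) (iv3 F336078) D187939 F371883 (iv4 F228314) (iv3 D145293) (iv1 F165706) F165704 F104289 (iv3 F218686) (iv1 F218694) D136875 (iv4 F395953) F229932 D146854 (iv5 F451194) (iv4 F452546) F452545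
theorem F452555 : act 4 n209169 = n207018 := d20_2 F396506 D209169 F442985 (iv1 F443102) (iv3 F443106) (iv4 D148132) (iv1 D69400) D69401 D148136 F442906
theorem F452556 : act 2 n136564 = n209169 := d15_3 (iv0 D209169) F358546 F358537
theorem F452557 : act 7 n209169 = n136565 := d4_2 F358537 F452556 F366379
theorem F452558 : act 1 n136567 = n209169 := d15_1 (iv0 F358545) F452557 F366379
def n209170 : Q := act 5 n135898
theorem D209170 : act 5 n135898 = n209170 := rfl
theorem F452559 : act 2 n209170 = n136566 := d2_1 D209170 (iv5 D136566) (iv2 F218603)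
theorem F452560 : act 6 n209170 = n135899 := d12_2 D135898 D209170 (iv5 D135899) (iv6 D63904) D63903
theorem F452561 : act 1 n209170 = n202445 := d17_8 (iv1 F350889) (iv5 D140328) (iv1 F101515) D134738 D208564 (iv5 F452554) (iv0 D209169) D209170 (iv4 D202445)
def n209171 : Q := act 7 n135898
theorem D209171 : act 7 n135898 = n209171 := rfl
theorem F452562 : act 2 n209171 = n136567 := d4_1 D209171 (iv7 D136567) (iv2 F218603)
theorem F452563 : act 6 n209171 = n136594 := d14_1 D209171 (iv7 D136594) (iv6 D64208) (iv7 F99392) D135898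
theorem F452564 : act 1 n136565 = n209171 := d15_1 D136565 (iv7 D209171) F218603
theorem F452565 : act 1 n209171 = n136564 := d15_1 F452564 (iv7 F358537) (iv2 F366379)
def n209172 : Q := act 4 n135899
theorem D209172 : act 4 n135899 = n209172 := rfl
theorem F452566 : act 2 n209172 = n136569 := d1_1 D209172 (iv4 D136569) (iv2 F218604)
theorem F452567 : act 5 n209172 = n198563 := d16_1 D209172 (iv4 D198563) (iv5 D109573) (iv4 F169331) D113650 (iv4 F176831) (iv5 F219659) (iv7 D136570) (iv2 F218604)
theorem F452568 : act 0 n209172 = n136868 := d18_2 (iv1 F220026) D209172 (iv4 D136868) (iv5 D64340) (iv4 F50027) D68127 F202611 F169559 (iv5 F220025)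
def n209173 : Q := act 5 n135903
theorem D209173 : act 5 n135903 = n209173 := rfl
theorem F452569 : act 2 n209173 = n135904 := d2_1 D209173 (iv5 D135904) D135903
theorem F452570 : act 3 n209173 = n136581 := d6_1 D209173 (iv5 D136581) (iv3 F218612)
theorem F452571 : act 4 n209173 = n187981 := d9_1 D209173 F372016 (iv4 D136549) D136550 F219645 (iv5 D108550) F79391 D64196 D136556 (iv5 F219648) (iv4 D136544) D136545 (iv4 F404864) (iv5 D197568) (iv4 F218613)
theorem F452572 : act 7 n209173 = n136552 := d13_2 (iv7 F218614) D209173 (iv5 D136552)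
theorem F452573 : act 1 n209173 = n136554 := d17_6 D134834 (iv5 F373207) (iv1 F404867) (iv5 D197568) (iv4 F218613) D209173 (iv5 F448159) (iv0 D208158) F214690
theorem F452574 : act 0 n209173 = n136555 := d21_1 D209173 (iv5 F448167) (iv6 F448165) (iv1 D203032) F314961 (iv5 D153180) F112576 D75047 (iv6 F338909) (iv1 F218615)
theorem F452575 : act 6 n209173 = n187980 := d21_3 (iv5 D136545) (iv1 F218615) D209173 F372011 (iv6 D104191) (iv5 F133586) (iv1 F292375) (iv5 F293422) (iv6 F343909) (iv1 F343910)
def n209174 : Q := act 6 n135903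
theorem D209174 : act 6 n135903 = n209174 := rfl
theorem F452576 : act 2 n209174 = n135905 := d3_1 D209174 (iv6 D135905) D135903
theorem F452577 : act 3 n209174 = n136582 := d7_1 D209174 (iv6 D136582) (iv3 F218612)
theorem F452578 : act 4 n209174 = n154751 := d10_1 D209174 F366524 (iv4 F218613)
theorem F452579 : act 5 n209174 = n185316 := d21_6 (iv5 D153180) F112576 D75047 (iv6 F338909) (iv1 F218615) D209174 (iv1 F359654) (iv5 F375253) F375252 F241823
theorem F452580 : act 0 n137712 = n209174 := d21_4 (iv5 D117560) D117557 F355528 D137712 (iv6 D209174) D209173 F452574 (iv5 F448167) (iv6 F448165) (iv1 D203032)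
theorem F452581 : act 2 n185316 = n154589 := d2_1 F452579 (iv5 F338918) (iv2 F452576)
theorem F452582 : act 7 n154588 = n185316 := d15_2 (iv0 F359646) F359653 F452581
theorem F452583 : act 7 n185317 = n154589 := d15_2 (iv0 D185316) D185317 (iv2 F452581)
theorem F452584 : act 2 n154588 = n185317 := d4_3 F452583 (iv2 F452581) (iv7 F452582)
theorem F452585 : act 3 n137014 = n185317 := d8_3 F452583 F338919 (iv7 F220146)
def n209175 : Q := act 0 n135904
theorem D209175 : act 0 n135904 = n209175 := rfl
theorem F452586 : act 4 n209175 = n197686 := d18_3 D198321 F407592 D209175 F405359 F388997 F448161 F448160 (iv0 F407602) (iv5 D198322)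
theorem F452587 : act 5 n209175 = n205080 := d21_2 D135904 D209175 F434901 F426487 F240869 (iv5 D72433) (iv1 F155552) D153294 F338904 (iv1 D135902)
theorem F452588 : act 2 n136555 = n209175 := d15_3 (iv0 D209175) F405192 F404932
theorem F452589 : act 1 n136552 = n209175 := d15_0 (iv0 D209175) F218619 (iv2 F219646)
theorem F452590 : act 7 n209175 = n136554 := d15_2 (iv0 F404933) F452589 (iv2 F404934)
def n209176 : Q := act 0 n135905
theorem D209176 : act 0 n135905 = n209176 := rfl
theorem F452591 : act 5 n209176 = n193840 := d17_3 F359646 (iv5 F338918) D209176 F391157 F157195 (iv0 F351162) F351163 (iv0 F351166) F287521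
theorem F452592 : act 4 n209176 = n155835 := d20_2 (iv4 F218621) D209176 (iv3 D155835) D155833 F365594 (iv4 D103237) D103235 D194340 F392875 F389307
theorem F452593 : act 3 n209176 = n155829 := d20_5 F172079 F165799 (iv4 F99400) (iv3 F218620) D209176 (iv4 D155829) (iv1 F365599) (iv4 F422977) F422976 (iv1 F179679)
theorem F452594 : act 7 n137712 = n209176 := d8_0 F452593 (iv7 F353023) (iv3 F386854)
def n209177 : Q := act 7 n135905
theorem D209177 : act 7 n135905 = n209177 := rfl
theorem F452595 : act 3 n209177 = n135908 := d8_1 D209177 (iv7 D135908) (iv3 F218620)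
theorem F452596 : act 4 n209177 = n154752 := d11_1 D209177 F366522 (iv4 F218621)
theorem F452597 : act 5 n209177 = n185317 := d13_1 D209177 F452583 (iv5 F338918)
theorem F452598 : act 6 n209177 = n136561 := d14_1 D209177 (iv7 D136561) (iv6 D64197) (iv7 F99396) D135905
theorem F452599 : act 1 n137712 = n209177 := d15_1 (iv0 F452580) (iv7 D209177) (iv2 F452576)
theorem F452600 : act 0 n205091 = n202118 := d20_4 (iv4 F386852) (iv1 F386858) F375240 F434941 (iv3 D202118) (iv4 F201763) (iv1 F217031) (iv4 F218626) (iv3 F452595) (iv1 F452599)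
def n209178 : Q := act 5 n135906
theorem D209178 : act 5 n135906 = n209178 := rfl
theorem F452601 : act 2 n209178 = n136593 := d2_1 D209178 (iv5 D136593) (iv2 F218622)
theorem F452602 : act 3 n209178 = n185290 := d6_1 D209178 (iv5 F358625) F359644
theorem F452603 : act 6 n209178 = n135907 := d12_2 D135906 D209178 (iv5 D135907) (iv6 D63907) D63906
def n209179 : Q := act 7 n135906
theorem D209179 : act 7 n135906 = n209179 := rfl
theorem F452604 : act 2 n209179 = n136594 := d4_1 D209179 (iv7 D136594) (iv2 F218622)
theorem F452605 : act 3 n209179 = n194717 := d8_1 D209179 (iv7 F394224) F359644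
theorem F452606 : act 6 n209179 = n136567 := d14_1 D209179 (iv7 D136567) (iv6 D64199) (iv7 F99398) D135906
theorem F452607 : act 1 n136592 = n209179 := d15_1 D136592 (iv7 D209179) F218622
theorem F452608 : act 1 n209179 = n136591 := d15_1 F452607 (iv7 F446922) F446921
def n209180 : Q := act 4 n135907
theorem D209180 : act 4 n135907 = n209180 := rfl
theorem F452609 : act 2 n209180 = n136595 := d1_1 D209180 (iv4 D136595) (iv2 F218623)
theorem F452610 : act 0 n209180 = n136991 := d18_2 (iv1 F218624) D209180 (iv4 D136991) (iv5 D64385) D64384 F111442 (iv4 F180435) (iv0 D115902) D115904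
theorem F452611 : act 1 n209180 = n136982 := d18_6 (iv1 F179679) F172079 F165799 (iv4 F99400) D135907 D209180 (iv4 D136982) D136981 F220131
def n209181 : Q := act 2 n135911
theorem D209181 : act 2 n135911 = n209181 := rfl
theorem F452612 : act 4 n209181 = n156684 := d1_2 (iv4 F221777) D209181 (iv2 F360938)
theorem F452613 : act 0 n136548 = n209181 := d18_2 (iv1 F411873) F411876 F452612 F360940 (iv4 D159640) F336797 (iv4 F238469) F242376 F352972
def n209182 : Q := act 6 n135911
theorem D209182 : act 6 n135911 = n209182 := rfl
theorem F452614 : act 3 n209182 = n135914 := d7_1 D209182 (iv6 D135914) D135911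
def n209183 : Q := act 7 n135911
theorem D209183 : act 7 n135911 = n209183 := rfl
theorem F452615 : act 3 n209183 = n135915 := d8_1 D209183 (iv7 D135915) D135911
theorem F452616 : act 4 n209183 = n156685 := d11_1 D209183 F360937 (iv4 F221777)
theorem F452617 : act 1 n136548 = n209183 := d15_1 (iv0 F452613) (iv7 D209183) D209181
def n209184 : Q := act 6 n135912
theorem D209184 : act 6 n135912 = n209184 := rfl
theorem F452618 : act 3 n209184 = n157009 := d7_1 D209184 (iv6 D157009) F247049
theorem F452619 : act 4 n209184 = n135914 := d10_1 D209184 (iv6 D135914) D135912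
def n209185 : Q := act 7 n135912
theorem D209185 : act 7 n135912 = n209185 := rfl
theorem F452620 : act 2 n209185 = n135917 := d4_1 D209185 (iv7 F415891) F415889
theorem F452621 : act 3 n209185 = n156924 := d8_1 D209185 F246973 F247049
theorem F452622 : act 4 n209185 = n135915 := d11_1 D209185 (iv7 D135915) D135912
theorem F452623 : act 5 n209185 = n156117 := d13_1 D209185 F246661 (iv5 F247050)
theorem F452624 : act 0 n137061 = n209185 := d19_0 F452623 (iv4 F405287) F405286 (iv1 F200393) D124873 F362332 (iv3 D111753) (iv1 D51522) F39268 (iv4 F79762) (iv3 F169167) F332976 F167919 F167093 (iv3 D49919) (iv1 F78946) D108057 F167061 D137061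
def n209186 : Q := act 6 n135915
theorem D209186 : act 6 n135915 = n209186 := rfl
theorem F452625 : act 2 n209186 = n135919 := d3_1 D209186 (iv6 D135919) (iv2 F218635)
theorem F452626 : act 5 n209186 = n204664 := d21_6 F300544 (iv1 F300540) D76093 (iv6 F324296) (iv1 F410585) D209186 (iv1 D204664) (iv5 F427901) F427902 F301972
theorem F452627 : act 0 n136540 = n209186 := d21_4 (iv5 D123248) (iv1 F324899) F329155 (iv6 F219640) (iv6 D209186) F410586 (iv1 F410573) (iv5 F337455) F431722 (iv1 D204260)
theorem F452628 : act 1 n203378 = n209186 := d15_0 (iv0 F452627) (iv7 F422930) (iv2 F428101)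
theorem F452629 : act 2 n204664 = n177999 := d2_1 F452626 (iv5 F341523) (iv2 F452625)
theorem F452630 : act 7 n177998 = n204664 := d15_2 F391251 F391252 F452629
theorem F452631 : act 7 n204663 = n177999 := d15_2 F433193 F433192 (iv2 F452629)
theorem F452632 : act 2 n177998 = n204663 := d4_3 F452631 (iv2 F452629) (iv7 F452630)
def n209187 : Q := act 6 n135917
theorem D209187 : act 6 n135917 = n209187 := rfl
theorem F452633 : act 3 n209187 = n194439 := d7_1 D209187 (iv6 F393224) F245307
theorem F452634 : act 4 n209187 = n135919 := d10_1 D209187 (iv6 D135919) D135917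
theorem F452635 : act 5 n209187 = n204600 := d12_1 D209187 (iv6 D204600) D204599 (iv6 F432983) F247038
theorem F452636 : act 0 n202025 = n209187 := d21_4 (iv5 D202021) (iv1 D115329) D115331 D202025 (iv6 D209187) (iv5 F247038) (iv1 D137053) D137055 (iv6 F432670) F432672
def n209188 : Q := act 7 n135919
theorem D209188 : act 7 n135919 = n209188 := rfl
theorem F452637 : act 5 n209188 = n204663 := d13_1 D209188 F452631 (iv5 F341523)
theorem F452638 : act 1 n136540 = n209188 := d15_1 (iv0 F452627) (iv7 D209188) (iv2 F452625)
theorem F452639 : act 1 n209188 = n203378 := d15_1 F452638 F428103 (iv2 F353568)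
def n209189 : Q := act 3 n135924
theorem D209189 : act 3 n135924 = n209189 := rfl
theorem F452640 : act 5 n209189 = n187110 := d6_2 F445863 D209189 F445864
theorem F452641 : act 6 n209189 = n188080 := d7_2 (iv6 F386310) D209189 F372264
theorem F452642 : act 7 n209189 = n187109 := d8_2 (iv7 F386311) D209189 F369112
theorem F452643 : act 0 n209189 = n188127 := d20_10 F390622 (iv1 D193665) (iv4 D102187) (iv3 F157058) F354507 F198406 (iv4 F198407) D204561 F449000 D209189
theorem F452644 : act 1 n209189 = n188126 := d15_1 (iv0 F452643) (iv7 F391926) F391921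
theorem F452645 : act 2 n188128 = n209189 := d15_3 F452644 (iv0 D188126) D188128
def n209190 : Q := act 4 n135931
theorem D209190 : act 4 n135931 = n209190 := rfl
theorem F452646 : act 7 n209190 = n136666 := d11_2 (iv7 F218650) D209190 (iv4 D136666)
def n209191 : Q := act 5 n135932
theorem D209191 : act 5 n135932 = n209191 := rfl
theorem F452647 : act 2 n209191 = n136679 := d2_1 D209191 (iv5 D136679) (iv2 F218651)
theorem F452648 : act 6 n209191 = n136837 := d12_2 D135932 D209191 (iv5 D136837) F100289 (iv5 F99411)
theorem F452649 : act 7 n209191 = n186942 := d13_2 F393978 D209191 (iv5 F393977)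
theorem F452650 : act 0 n209191 = n204638 := d17_2 (iv1 F446162) D209191 (iv5 D204638) (iv4 F433091) (iv5 F446171) (iv0 D207726) (iv5 D132247) D132246 D207724
def n209192 : Q := act 3 n135933
theorem D209192 : act 3 n135933 = n209192 := rfl
theorem F452651 : act 6 n209192 = n199045 := d7_2 (iv6 F338280) D209192 F410463
theorem F452652 : act 7 n209192 = n136691 := d8_2 (iv7 F359153) D209192 (iv3 D136691)
theorem F452653 : act 0 n209192 = n192633 := d21_4 (iv5 F420715) (iv1 D199043) D199045 (iv6 F452651) (iv6 D192633) (iv5 D100470) F309594 D74932 D157475 (iv1 F420717)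
def n209193 : Q := act 3 n135934
theorem D209193 : act 3 n135934 = n209193 := rfl
theorem F452654 : act 5 n209193 = n189896 := d6_2 F444152 D209193 F444154
theorem F452655 : act 7 n209193 = n136686 := d8_2 (iv7 F359155) D209193 (iv3 D136686)
theorem F452656 : act 4 n140550 = n209193 := d19_2 D170835 (iv5 F386113) (iv3 D209193) (iv1 D135934) F99414 (iv4 F94030) F322424 (iv1 F47255) F322476 (iv4 D35775) (iv3 F323904) (iv1 F324958) F21567 F296116 F296001 (iv1 F28302) F29164 D37505 D81901
theorem F452657 : act 6 n209193 = n140549 := d10_2 D140550 F452656 (iv4 D140549)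
theorem F452658 : act 1 n209193 = n191739 := d18_6 (iv1 D197758) F168544 D125836 F364837 (iv5 F386113) F452656 F384304 D199558 (iv5 F412666)
def n209194 : Q := act 6 n135934
theorem D209194 : act 6 n135934 = n209194 := rfl
theorem F452659 : act 2 n209194 = n136694 := d3_1 D209194 (iv6 D136694) (iv2 F359154)
theorem F452660 : act 3 n209194 = n140549 := d7_1 D209194 (iv6 F452657) (iv3 D209193)
theorem F452661 : act 5 n209194 = n198309 := d12_1 D209194 (iv6 F407560) F217346 D207286 F444152
theorem F452662 : act 7 n209194 = n199057 := d14_2 (iv7 F359155) D209194 (iv6 D199057) (iv7 F359151) (iv6 D136689)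
theorem F452663 : act 1 n202654 = n209194 := d17_6 (iv1 F216766) F354184 (iv1 D65927) D65929 D140467 (iv5 F424952) F452661 (iv0 F449909) (iv4 D208564)
def n209195 : Q := act 4 n135938
theorem D209195 : act 4 n135938 = n209195 := rfl
theorem F452664 : act 2 n209195 = n137079 := d1_1 D209195 (iv4 D137079) (iv2 F218673)
theorem F452665 : act 3 n209195 = n196956 := d5_1 D209195 (iv4 D196956) (iv3 D107496) D107497 (iv3 F218664)
theorem F452666 : act 7 n209195 = n137075 := d11_2 F218666 D209195 (iv4 D137075)
theorem F452667 : act 5 n209195 = n192211 := d17_5 (iv1 D64626) D64628 D137492 F220898 D209195 (iv0 D192211) (iv5 D99858) D99857 F333104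
theorem F452668 : act 0 n209195 = n200817 := d17_0 (iv5 D200817) (iv1 F383837) (iv5 D102623) D102622 D194060 (iv0 F391913) (iv5 D137082) F218665 D209195
theorem F452669 : act 1 n209195 = n136791 := d18_8 (iv1 D191562) (iv4 F383807) F383810 (iv4 D137152) (iv5 D64476) (iv4 F100361) F218665 D209195 F383812
theorem F452670 : act 0 n193970 = n193863 := d21_7 F452667 (iv1 F386015) F157832 (iv6 F153712) (iv1 F153714) D102510 D193970 (iv5 D193863) (iv6 F372068) (iv1 F452669)
def n209196 : Q := act 3 n135939
theorem D209196 : act 3 n135939 = n209196 := rfl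
theorem F452671 : act 2 n209196 = n196948 := d0_1 D209196 (iv3 D196948) F180726 (iv3 F172018) F218671
theorem F452672 : act 5 n209196 = n206407 := d6_2 F220894 D209196 F440646
theorem F452673 : act 7 n209196 = n137078 := d8_2 F218672 D209196 (iv3 D137078)
theorem F452674 : act 0 n209196 = n202855 := d20_4 (iv4 F418039) F438483 F438479 D209196 (iv3 D202855) F182988 F180643 (iv4 D67537) F100418 (iv1 F220323)
theorem F452675 : act 1 n209196 = n198659 := d15_1 (iv0 F452674) F408748 (iv2 F425888)
def n209197 : Q := act 3 n135944
theorem D209197 : act 3 n135944 = n209197 := rfl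
theorem F452676 : act 2 n209197 = n200817 := d0_1 D209197 F418037 F360382 (iv3 D136786) (iv2 F350338)
theorem F452677 : act 4 n209197 = n202834 := d5_2 F422686 D209197 (iv3 F425782) (iv4 D202004) D202003
theorem F452678 : act 5 n209197 = n136199 := d6_2 (iv5 F331026) D209197 (iv3 D136199)
theorem F452679 : act 7 n209197 = n136791 := d8_2 (iv7 F350339) D209197 (iv3 D136791)
theorem F452680 : act 0 n209197 = n137075 := d20_4 (iv4 F438264) F438266 F422686 D209197 (iv3 F410837) (iv4 D199137) D199135 F410827 (iv3 F422584) F422587
theorem F452681 : act 0 n194071 = n191536 := d21_4 (iv5 F452678) F452680 F364746 D194071 (iv6 D191536) F151921 (iv1 F274645) (iv5 F272842) D186695 (iv1 F399729)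
theorem F452682 : act 1 n209197 = n137079 := d15_1 (iv0 F452680) (iv7 F438478) (iv2 F438480)
theorem F452683 : act 1 n194071 = n191625 := d15_1 (iv0 F452681) (iv7 F431900) F431897
def n209198 : Q := act 5 n135946
theorem D209198 : act 5 n135946 = n209198 := rfl
theorem F452684 : act 2 n209198 = n136875 := d2_1 D209198 (iv5 D136875) (iv2 F218693)
theorem F452685 : act 3 n209198 = n138004 := d6_1 D209198 F355785 (iv3 F218683)
theorem F452686 : act 7 n209198 = n136871 := d13_2 F218685 D209198 (iv5 D136871)
theorem F452687 : act 4 n209198 = n195570 := d16_2 F223156 D209198 F397396 (iv4 F428117) F428118 (iv4 F420730) F420731 F222621 (iv2 F223155)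
theorem F452688 : act 0 n209198 = n136957 := d17_2 D135946 D209198 F220122 (iv4 F171618) D198990 (iv0 F410207) F395998 (iv0 D65441) (iv4 F99432)
theorem F452689 : act 6 n209198 = n138002 := d21_3 F100522 D135946 D209198 (iv1 F233633) F450755 F450753 (iv1 F367152) D194179 F392274 F225847
theorem F452690 : act 0 n135974 = n209198 := d21_1 (iv5 F218743) (iv5 D209198) F431716 (iv1 F431714) F361592 F226203 F225491 F204406 (iv6 F359465) (iv1 D136026)
def n209199 : Q := act 5 n135947
theorem D209199 : act 5 n135947 = n209199 := rfl
theorem F452691 : act 2 n209199 = n136871 := d2_1 D209199 (iv5 D136871) F218691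
theorem F452692 : act 7 n209199 = n136875 := d13_2 F218692 D209199 (iv5 D136875)
theorem F452693 : act 0 n209199 = n135974 := d17_2 (iv1 F218690) D209199 F218743 F99523 (iv5 F81284) D111740 F410209 F180517 F180513
theorem F452694 : act 1 n209199 = n136957 := d17_6 F220834 (iv5 F388747) F420733 F420731 F222622 D209199 F220122 F100505 (iv4 F103071)
def n209200 : Q := act 6 n135948
theorem D209200 : act 6 n135948 = n209200 := rfl
theorem F452695 : act 2 n209200 = n135949 := d3_1 D209200 (iv6 D135949) D135948
theorem F452696 : act 3 n209200 = n136854 := d7_1 D209200 (iv6 D136854) (iv3 F218686)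
theorem F452697 : act 4 n209200 = n139443 := d10_1 D209200 (iv6 D139443) (iv4 F218687)
theorem F452698 : act 0 n203043 = n209200 := d21_4 (iv5 D54182) D54179 D117607 D203043 (iv6 D209200) (iv5 F220606) (iv1 F220610) (iv5 F220986) F359465 (iv1 D117615)
def n209201 : Q := act 0 n135949
theorem D209201 : act 0 n135949 = n209201 := rfl
def n209202 : Q := act 5 n135949
theorem D209202 : act 5 n135949 = n209202 := rfl
theorem F452699 : act 3 n209202 = n135950 := d6_1 D209202 (iv5 D135950) (iv3 F218695)
theorem F452700 : act 6 n209202 = n208900 := d12_2 D135949 D209202 F451320 (iv6 D137401) F100522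
def n209203 : Q := act 7 n135949
theorem D209203 : act 7 n135949 = n209203 := rfl
theorem F452701 : act 3 n209203 = n135951 := d8_1 D209203 (iv7 D135951) (iv3 F218695)
theorem F452702 : act 4 n209203 = n139451 := d11_1 D209203 (iv7 D139451) (iv4 F218696)
theorem F452703 : act 6 n209203 = n136441 := d14_1 D209203 F219537 (iv6 D64346) (iv7 F99433) D135949
theorem F452704 : act 1 n203043 = n209203 := d15_1 (iv0 F452698) (iv7 D209203) (iv2 F452695)
def n209204 : Q := act 4 n135950
theorem D209204 : act 4 n135950 = n209204 := rfl
theorem F452705 : act 2 n209204 = n136868 := d1_1 D209204 (iv4 D136868) (iv2 F218697)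
theorem F452706 : act 6 n209204 = n208901 := d10_2 F330937 D209204 (iv4 D208901)
theorem F452707 : act 1 n209204 = n136569 := d18_6 (iv1 F169567) F203879 (iv1 D126690) (iv4 F99435) D135950 D209204 (iv4 D136569) D136568 F219658
def n209205 : Q := act 6 n135952
theorem D209205 : act 6 n135952 = n209205 := rfl
theorem F452708 : act 2 n209205 = n136852 := d3_1 D209205 (iv6 D136852) (iv2 F359145)
theorem F452709 : act 0 n209205 = n136979 := d21_4 D110738 D198935 F409972 D209205 F388771 F388768 F290167 D101242 F345452 (iv1 D110736)
theorem F452710 : act 0 n135982 = n209205 := d21_4 (iv5 D101317) D101313 D193178 (iv6 F389075) (iv6 D209205) (iv5 F409972) (iv1 F409971) F220119 D137330 (iv1 F351826)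
theorem F452711 : act 7 n209205 = n136977 := d15_2 (iv0 F389477) (iv0 F452709) (iv2 F422580)
def n209206 : Q := act 3 n135953
theorem D209206 : act 3 n135953 = n209206 := rfl
theorem F452712 : act 2 n209206 = n137125 := d0_1 D209206 (iv3 F422567) F422566 (iv3 D136844) (iv2 F359143)
theorem F452713 : act 5 n209206 = n205524 := d6_2 F409978 D209206 F436834
theorem F452714 : act 7 n209206 = n136849 := d8_2 (iv7 F359144) D209206 (iv3 D136849)
theorem F452715 : act 0 n209206 = n137126 := d19_4 (iv1 D195919) (iv5 F228390) F228392 D209206 (iv5 F225943) (iv4 F225944) F220913 (iv1 F228498) F175387 F82645 (iv3 D52038) (iv1 F39855) D50889 F80280 (iv3 F84087) D115404 F359951 (iv4 F165400) F398733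
theorem F452716 : act 1 n209206 = n135957 := d15_1 (iv0 F452715) F218714 D137126
def n209207 : Q := act 6 n135953
theorem D209207 : act 6 n135953 = n209207 := rfl
theorem F452717 : act 2 n209207 = n136847 := d3_1 D209207 (iv6 D136847) (iv2 F359143)
theorem F452718 : act 5 n209207 = n202392 := d12_1 D209207 (iv6 D202392) D202391 F423853 F409978
theorem F452719 : act 0 n209207 = n136014 := d21_4 (iv5 F220119) (iv1 F409976) F409978 D209207 F365609 (iv5 D164575) (iv1 F341465) (iv5 F409959) (iv6 D198933) (iv1 F171405)
theorem F452720 : act 0 n137217 = n209207 := d17_2 F423526 (iv5 F423528) F452718 F423855 (iv5 F423825) (iv0 F423827) (iv5 F365197) (iv0 F423807) F245585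
def n209208 : Q := act 6 n135954
theorem D209208 : act 6 n135954 = n209208 := rfl
theorem F452721 : act 2 n209208 = n135955 := d3_1 D209208 (iv6 D135955) D135954
theorem F452722 : act 3 n209208 = n136878 := d7_1 D209208 (iv6 D136878) (iv3 F218705)
theorem F452723 : act 4 n209208 = n196904 := d10_1 D209208 (iv6 D196904) (iv4 F218706)
def n209209 : Q := act 0 n135955
theorem D209209 : act 0 n135955 = n209209 := rfl
def n209210 : Q := act 5 n135955
theorem D209210 : act 5 n135955 = n209210 := rfl
theorem F452724 : act 3 n209210 = n135956 := d6_1 D209210 (iv5 D135956) (iv3 F218711)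
def n209211 : Q := act 4 n135956
theorem D209211 : act 4 n135956 = n209211 := rfl
theorem F452725 : act 2 n209211 = n136892 := d1_1 D209211 (iv4 D136892) (iv2 F218713)
theorem F452726 : act 5 n209211 = n209121 := d9_2 D135956 D209211 F452356 F218383 (iv4 F203336) (iv5 F216987) (iv4 F216992) D136442 (iv4 F451916) (iv5 D209030) (iv4 D135598) (iv5 D63761) (iv4 F77813) (iv5 F78381) (iv4 F99439)
theorem F452727 : act 7 n209211 = n209120 := d11_2 F390635 D209211 F452353
theorem F452728 : act 0 n209211 = n191432 := d18_2 F221440 D209211 (iv4 F451209) F399183 (iv4 F399182) (iv0 F399184) F328414 (iv0 F218936) D138254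
def n209212 : Q := act 4 n135964
theorem D209212 : act 4 n135964 = n209212 := rfl
theorem F452729 : act 2 n209212 = n135968 := d1_1 D209212 (iv4 D135968) (iv2 F218729)
theorem F452730 : act 7 n209212 = n137152 := d11_2 (iv7 F218731) D209212 (iv4 D137152)
theorem F452731 : act 0 n209212 = n137169 := d17_0 (iv5 F435467) F435468 (iv5 D137556) (iv4 D64658) (iv5 D30423) D30421 F221259 F218732 D209212
theorem F452732 : act 1 n209212 = n137168 := d18_6 F452680 (iv4 D137075) (iv1 F218669) F218667 D135964 D209212 F383838 (iv0 F399728) (iv5 F452678)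
def n209213 : Q := act 6 n135964
theorem D209213 : act 6 n135964 = n209213 := rfl
theorem F452733 : act 2 n209213 = n135969 := d3_1 D209213 (iv6 D135969) (iv2 F218729)
theorem F452734 : act 3 n209213 = n136920 := d7_1 D209213 (iv6 D136920) (iv3 F218730)
theorem F452735 : act 5 n209213 = n190566 := d12_1 D209213 F385826 (iv5 D192165) F346663 D135964
theorem F452736 : act 0 n209213 = n207529 := d21_4 (iv5 D64469) (iv1 F99443) D135964 D209213 (iv6 D207529) (iv5 F367305) (iv1 F367307) F367298 (iv6 D136041) F220918
theorem F452737 : act 0 n208732 = n209213 := d21_4 (iv5 F380085) F287073 (iv5 F332709) D208732 (iv6 D209213) (iv5 D135964) (iv1 F99445) D64474 D137147 F380086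
def n209214 : Q := act 5 n135968
theorem D209214 : act 5 n135968 = n209214 := rfl
theorem F452738 : act 7 n209214 = n137170 := d13_2 (iv7 F218738) D209214 (iv5 D137170)
theorem F452739 : act 0 n209214 = n200562 := d17_2 F391917 D209214 F416983 F391955 (iv5 F452667) F452669 F383812 F383811 D194061
def n209215 : Q := act 2 n135974
theorem D209215 : act 2 n135974 = n209215 := rfl
theorem F452740 : act 3 n209215 = n136948 := d0_2 D135974 D209215 (iv2 D136948) (iv3 D64370) F99451
theorem F452741 : act 5 n209215 = n136027 := d2_2 (iv5 F218743) D209215 (iv2 D136027)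
theorem F452742 : act 7 n209215 = n136957 := d4_2 (iv7 F218744) D209215 (iv2 D136957)
theorem F452743 : act 1 n209215 = n136871 := d15_0 F408500 (iv7 F218744) D209215
theorem F452744 : act 1 n136875 = n209215 := d15_0 F452743 (iv7 F452686) F452684
theorem F452745 : act 3 n199056 = n198179 := d19_7 (iv1 F452743) F452741 F218884 (iv3 F171799) (iv1 F171802) D110895 D199056 (iv1 D198179) (iv5 F330980) F207354 (iv3 F167761) F328807 (iv5 F328810) F204034 (iv3 F424511) (iv1 F427117) F427116 (iv4 F408499) F408495
def n209216 : Q := act 5 n135977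
theorem D209216 : act 5 n135977 = n209216 := rfl
theorem F452746 : act 2 n209216 = n136971 := d2_1 D209216 (iv5 D136971) (iv2 F347097)
theorem F452747 : act 3 n209216 = n208754 := d6_1 D209216 (iv5 D208754) (iv3 F347098)
theorem F452748 : act 7 n209216 = n136966 := d13_2 (iv7 F347101) D209216 (iv5 D136966)
theorem F452749 : act 0 n209216 = n202349 := d17_2 (iv1 F218747) D209216 F423714 (iv4 F421418) (iv5 D152306) F108313 (iv5 F304776) D63664 (iv4 F327366)
def n209217 : Q := act 0 n135978
theorem D209217 : act 0 n135978 = n209217 := rfl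
theorem F452750 : act 4 n209217 = n202732 := d18_1 D209217 F425323 (iv4 F449554) (iv5 D208482) (iv4 F389775) F389774 F347085 F347090 D135978
theorem F452751 : act 2 n136973 = n209217 := d15_3 (iv0 D209217) (iv0 F390998) (iv7 F449838)
theorem F452752 : act 1 n136976 = n209217 := d15_0 (iv0 D209217) (iv7 F449835) F449832
theorem F452753 : act 7 n209217 = n136974 := d15_2 F391000 F452752 (iv2 F390995)
def n209218 : Q := act 4 n135978
theorem D209218 : act 4 n135978 = n209218 := rfl
theorem F452754 : act 2 n209218 = n136975 := d1_1 D209218 (iv4 D136975) (iv2 F218748)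
theorem F452755 : act 6 n209218 = n135987 := d10_2 (iv6 F218749) D209218 (iv4 D135987)
theorem F452756 : act 7 n209218 = n152758 := d11_2 F449835 D209218 (iv4 F449834)
theorem F452757 : act 5 n209218 = n152324 := d16_1 D209218 F239482 F185771 (iv4 F308623) (iv5 D135444) (iv4 F327366) (iv5 F220127) (iv7 D136976) (iv2 F218748)
theorem F452758 : act 1 n142325 = n209218 := d17_6 D71864 F189221 (iv1 F199953) (iv5 F318401) (iv4 F102613) D142325 F452757 (iv0 D152324) (iv4 D71866)
def n209219 : Q := act 5 n135980
theorem D209219 : act 5 n135980 = n209219 := rfl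
theorem F452759 : act 3 n209219 = n135981 := d6_1 D209219 (iv5 D135981) D135980
theorem F452760 : act 7 n209219 = n136988 := d13_2 (iv7 F218756) D209219 (iv5 D136988)
theorem F452761 : act 4 n209219 = n136988 := d16_6 F385259 (iv5 F393056) F393055 (iv5 D139557) (iv4 F218755) D209219 (iv5 D136988) (iv7 F218756) F385260
def n209220 : Q := act 2 n135982
theorem D209220 : act 2 n135982 = n209220 := rfl
theorem F452762 : act 3 n209220 = n136986 := d0_2 D135982 D209220 (iv2 D136986) (iv3 D64383) (iv2 F111283)
theorem F452763 : act 4 n209220 = n196928 := d1_2 (iv4 F218760) D209220 (iv2 D196928)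
theorem F452764 : act 7 n209220 = n136979 := d4_2 (iv7 F218761) D209220 (iv2 D136979)
theorem F452765 : act 1 n209220 = n136977 := d15_0 (iv0 D136977) (iv7 F218761) D209220
theorem F452766 : act 1 n136852 = n209220 := d15_0 F452765 (iv7 F452711) F452708
def n209221 : Q := act 5 n135982
theorem D209221 : act 5 n135982 = n209221 := rfl
theorem F452767 : act 3 n209221 = n135983 := d6_1 D209221 (iv5 D135983) D135982
theorem F452768 : act 6 n209221 = n153808 := d12_2 (iv6 F389075) D209221 (iv5 D153808) (iv6 F351744) D193178
theorem F452769 : act 7 n209221 = n136980 := d13_2 (iv7 F218761) D209221 (iv5 D136980)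
theorem F452770 : act 0 n185294 = n209221 := d19_0 (iv5 D209221) F218760 (iv3 D107466) F111356 D59122 (iv4 F335535) (iv3 F370699) (iv1 F370703) (iv5 F370712) D189666 F377304 (iv1 D98651) (iv5 F74353) D101161 (iv3 F351173) (iv1 F386087) (iv5 F386089) (iv4 D185295) D185294
def n209222 : Q := act 4 n135983
theorem D209222 : act 4 n135983 = n209222 := rfl
theorem F452771 : act 2 n209222 = n136991 := d1_1 D209222 (iv4 D136991) (iv2 F218762)
theorem F452772 : act 5 n209222 = n202092 := d9_2 D135983 D209222 (iv4 D202092) (iv5 D115367) F165010 (iv5 F93835) F111438 D135981 (iv4 F423447) (iv5 F423449) (iv4 D202086) (iv5 D115365) (iv4 F111431) F111432 F111190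
theorem F452773 : act 7 n209222 = n136982 := d11_2 (iv7 F218763) D209222 (iv4 D136982)
theorem F452774 : act 1 n209222 = n136595 := d18_6 D64396 (iv4 F162026) (iv1 F162028) F111190 D135983 D209222 (iv4 D136595) (iv0 F111428) (iv5 D64399)
def n209223 : Q := act 3 n135985
theorem D209223 : act 3 n135985 = n209223 := rfl
theorem F452775 : act 5 n209223 = n136532 := d6_2 (iv5 F218767) D209223 (iv3 D136532)
theorem F452776 : act 7 n209223 = n136999 := d8_2 F218769 D209223 (iv3 D136999)
theorem F452777 : act 4 n136999 = n209223 := d16_2 (iv4 F365489) F365481 F452775 (iv4 F329701) (iv5 D100017) F153961 D192287 F386314 F357358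
theorem F452778 : act 6 n209223 = n203061 := d10_2 (iv6 F365479) F452777 (iv4 D203061)
def n209224 : Q := act 4 n135985
theorem D209224 : act 4 n135985 = n209224 := rfl
theorem F452779 : act 2 n209224 = n136997 := d1_1 D209224 (iv4 D136997) F218768
theorem F452780 : act 3 n209224 = n137000 := d5_1 D209224 (iv4 D137000) D136999 F452777 (iv3 D209223)
theorem F452781 : act 7 n209224 = n137000 := d11_2 F218769 D209224 (iv4 D137000)
theorem F452782 : act 1 n209224 = n205858 := d18_6 F167837 F99400 D134843 F217020 (iv5 F218767) D209224 (iv4 D205858) (iv0 F246603) (iv5 D156767)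
theorem F452783 : act 6 n203072 = n209224 := d7_0 F452780 F365480 D203072
def n209225 : Q := act 6 n135985
theorem D209225 : act 6 n135985 = n209225 := rfl
theorem F452784 : act 2 n209225 = n136998 := d3_1 D209225 (iv6 D136998) F218768
theorem F452785 : act 3 n209225 = n203061 := d7_1 D209225 (iv6 F452778) (iv3 D209223)
theorem F452786 : act 4 n209225 = n203072 := d10_1 D209225 F452783 (iv4 D209224)
theorem F452787 : act 7 n209225 = n203073 := d14_2 F218769 D209225 (iv6 D203073) (iv7 D117646) F329193
def n209226 : Q := act 3 n135986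
theorem D209226 : act 3 n135986 = n209226 := rfl
theorem F452788 : act 5 n209226 = n136534 := d6_2 (iv5 F218773) D209226 (iv3 D136534)
theorem F452789 : act 6 n209226 = n203004 := d7_2 (iv6 F365478) D209226 F426600
theorem F452790 : act 7 n209226 = n136996 := d8_2 (iv7 F218772) D209226 (iv3 D136996)
def n209227 : Q := act 4 n135986
theorem D209227 : act 4 n135986 = n209227 := rfl
theorem F452791 : act 2 n209227 = n137000 := d1_1 D209227 (iv4 D137000) F218774
theorem F452792 : act 6 n209227 = n202262 := d10_2 (iv6 F365478) D209227 F423415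
theorem F452793 : act 7 n209227 = n136997 := d11_2 (iv7 F218772) D209227 (iv4 D136997)
theorem F452794 : act 0 n209227 = n205858 := d18_2 (iv1 F218771) D209227 (iv4 D205858) (iv5 D126696) F93834 (iv0 F111429) F111190 F99455 (iv5 F100319)
def n209228 : Q := act 0 n135987
theorem D209228 : act 0 n135987 = n209228 := rfl
theorem F452795 : act 4 n209228 = n136538 := d18_3 (iv1 D135986) D135987 D209228 (iv5 D136538) (iv4 D64188) (iv0 D30243) (iv4 F48630) D64183 (iv5 F218773)
theorem F452796 : act 2 n137002 = n209228 := d1_3 F452795 (iv2 F422932) F422933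
theorem F452797 : act 7 n137003 = n209228 := d11_0 F452795 (iv7 F246602) (iv4 F246605)
theorem F452798 : act 1 n137006 = n209228 := d18_6 F162014 (iv4 D53436) F111192 (iv4 F48750) (iv5 F100319) (iv4 F220143) F452795 (iv0 F396720) (iv5 D195327)
def n209229 : Q := act 1 n135987
theorem D209229 : act 1 n135987 = n209229 := rfl
theorem F452799 : act 1 n209229 = n137006 := d15_1 D209229 (iv7 D137006) (iv2 F218775)
theorem F452800 : act 7 n209229 = n137002 := d15_2 (iv0 D209228) D209229 F452796
theorem F452801 : act 4 n209229 = n136541 := d18_7 (iv1 F180437) (iv4 D63942) (iv1 D30155) (iv4 F48490) D63935 D135987 D209229 (iv0 F424288) (iv5 D202500)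
theorem F452802 : act 2 n137003 = n209229 := d1_3 F452801 (iv2 F246601) (iv4 F246605)
def n209230 : Q := act 3 n135987
theorem D209230 : act 3 n135987 = n209230 := rfl
def n209231 : Q := act 5 n135987
theorem D209231 : act 5 n135987 = n209231 := rfl
theorem F452803 : act 2 n209231 = n137005 := d2_1 D209231 (iv5 D137005) (iv2 F218775)
theorem F452804 : act 4 n209231 = n137047 := d9_1 D209231 F220181 F100337 F48758 (iv4 F48750) (iv5 F100319) (iv4 F220143) (iv5 F245413) (iv4 D156159) (iv5 D74284) F53496 F26104 (iv4 F48490) D63935 D135987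
theorem F452805 : act 7 n209231 = n137045 := d16_8 (iv4 D156159) (iv5 D74284) F53496 F26104 (iv4 F48490) D63935 D135987 D209231 (iv2 F245412)
theorem F452806 : act 0 n209231 = n140268 := d17_2 (iv1 D209229) D209231 (iv5 F424293) (iv4 D202501) (iv5 D115904) (iv0 F162014) D195327 F396721 (iv4 F452801)
theorem F452807 : act 1 n209231 = n202111 := d15_1 (iv0 F452806) F422903 F362130
def n209232 : Q := act 7 n135987
theorem D209232 : act 7 n135987 = n209232 := rfl
theorem F452808 : act 2 n209232 = n137006 := d4_1 D209232 (iv7 D137006) (iv2 F218775)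
theorem F452809 : act 4 n209232 = n135988 := d11_1 D209232 (iv7 D135988) D135987
theorem F452810 : act 5 n209232 = n137045 := d13_1 D209232 (iv7 F452805) (iv5 D209231)
theorem F452811 : act 1 n137003 = n209232 := d15_1 D137003 (iv7 D209232) F218775
theorem F452812 : act 1 n209232 = n137002 := d15_1 F452811 (iv7 F452800) (iv2 F452802)
def n209233 : Q := act 6 n135988
theorem D209233 : act 6 n135988 = n209233 := rfl
theorem F452813 : act 2 n209233 = n137007 := d3_1 D209233 (iv6 D137007) (iv2 F218776)
theorem F452814 : act 5 n209233 = n137232 := d12_1 D209233 (iv6 D137232) F100432 (iv6 F99459) (iv5 F218777)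
def n209234 : Q := act 4 n135990
theorem D209234 : act 4 n135990 = n209234 := rfl
theorem F452815 : act 2 n209234 = n137025 := d1_1 D209234 (iv4 D137025) (iv2 F218781)
theorem F452816 : act 5 n209234 = n202111 := d9_2 D135990 D209234 (iv4 D202111) (iv5 D115377) (iv4 D53227) F111198 D53436 D115904 D202501 F424293 F362131 (iv5 D115375) (iv4 D53224) F48493 D63942
theorem F452817 : act 6 n209234 = n149149 := d10_2 (iv6 F328991) D209234 F234525
theorem F452818 : act 7 n209234 = n137015 := d11_2 (iv7 F218782) D209234 (iv4 D137015)
theorem F452819 : act 0 n209234 = n202104 := d17_0 (iv5 D202104) D202101 F422876 F246605 (iv5 D156767) F167838 (iv5 F219671) F219673 D209234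
theorem F452820 : act 1 n209234 = n202125 := d18_6 (iv1 F99460) F48750 (iv1 F48492) D63942 D135990 D209234 (iv4 D202125) (iv0 F218759) (iv5 D135981)
def n209235 : Q := act 2 n135997
theorem D209235 : act 2 n135997 = n209235 := rfl
theorem F452821 : act 3 n209235 = n136910 := d0_2 D135997 D209235 (iv2 D136910) (iv3 D64357) (iv2 F106591)
theorem F452822 : act 4 n209235 = n195293 := d1_2 (iv4 F218795) D209235 (iv2 F396605)
theorem F452823 : act 5 n209235 = n207839 := d2_2 F220569 D209235 F446661
theorem F452824 : act 7 n209235 = n136895 := d4_2 (iv7 F218794) D209235 (iv2 D136895)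
theorem F452825 : act 1 n209235 = n136873 := d15_0 F406656 (iv7 F218794) D209235
theorem F452826 : act 1 n136894 = n209235 := d15_0 F452825 (iv7 F438963) F438961
def n209236 : Q := act 6 n135997
theorem D209236 : act 6 n135997 = n209236 := rfl
theorem F452827 : act 3 n209236 = n135999 := d7_1 D209236 (iv6 D135999) D135997
theorem F452828 : act 4 n209236 = n179943 := d10_1 D209236 F404355 (iv4 F218795)
def n209237 : Q := act 0 n136005
theorem D209237 : act 0 n136005 = n209237 := rfl
theorem F452829 : act 5 n209237 = n141290 := d19_1 D209237 F364298 (iv3 D136286) (iv1 D64072) (iv5 D30200) (iv4 D14332) (iv3 F19962) (iv1 F38534) (iv5 F49170) F49167 (iv3 D24818) (iv1 F38824) (iv5 F41140) (iv4 F48650) D64250 D136701 F338737 F100058 (iv3 F218834)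
theorem F452830 : act 6 n209237 = n172227 := d21_5 (iv5 F106602) (iv1 D63948) D63950 D136005 D209237 (iv5 F357389) (iv1 D99779) (iv5 F147796) (iv6 F361758) F218976
theorem F452831 : act 2 n141291 = n209237 := d15_3 (iv0 D209237) (iv0 F394427) F394426
theorem F452832 : act 7 n209237 = n194784 := d4_2 F394426 F452831 F394464
def n209238 : Q := act 5 n136005
theorem D209238 : act 5 n136005 = n209238 := rfl
theorem F452833 : act 3 n209238 = n136012 := d6_1 D209238 (iv5 D136012) (iv3 F218834)
theorem F452834 : act 6 n209238 = n136008 := d12_2 D136005 D209238 (iv5 D136008) (iv6 D63951) D63950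
theorem F452835 : act 0 n209238 = n192859 := d17_2 F394427 D209238 (iv5 F450548) F450547 F444531 (iv0 D201301) (iv5 F371120) (iv0 F374654) (iv4 F394425)
theorem F452836 : act 1 n209238 = n138277 := d17_8 (iv1 F413206) F414031 (iv1 D199896) (iv5 F219347) (iv4 F364298) (iv5 F452829) (iv0 D209237) D209238 F221479
def n209239 : Q := act 7 n136005
theorem D209239 : act 7 n136005 = n209239 := rfl
theorem F452837 : act 3 n209239 = n136013 := d8_1 D209239 (iv7 D136013) (iv3 F218834)
theorem F452838 : act 4 n209239 = n188911 := d11_1 D209239 F375179 F371419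
theorem F452839 : act 6 n209239 = n136932 := d14_1 D209239 (iv7 D136932) (iv6 D64365) (iv7 F99484) D136005
theorem F452840 : act 1 n194784 = n209239 := d15_1 (iv0 F418842) (iv7 D209239) (iv2 F418838)
theorem F452841 : act 1 n209239 = n141291 := d15_1 F452840 (iv7 F394426) (iv2 F394464)
def n209240 : Q := act 3 n136006
theorem D209240 : act 3 n136006 = n209240 := rfl
theorem F452842 : act 2 n209240 = n199383 := d0_1 D209240 F411914 F172569 F389795 F389790
theorem F452843 : act 5 n209240 = n199365 := d6_2 (iv5 F411545) D209240 F411868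
theorem F452844 : act 6 n203129 = n209240 := d12_0 F452843 (iv6 D199365) (iv5 F216395) D208490 F449600
def n209241 : Q := act 6 n136006
theorem D209241 : act 6 n136006 = n209241 := rfl
theorem F452845 : act 2 n209241 = n200151 := d3_1 D209241 F415262 F389790
theorem F452846 : act 3 n209241 = n203129 := d7_1 D209241 F452844 (iv3 D209240)
theorem F452847 : act 4 n209241 = n200149 := d10_1 D209241 F415252 (iv4 F337652)
theorem F452848 : act 7 n209241 = n136384 := d14_2 F389798 D209241 (iv6 D136384) (iv7 F354510) (iv6 F389797)
theorem F452849 : act 0 n209241 = n203034 := d21_10 (iv5 D203034) (iv1 F349950) (iv5 D137384) D137385 F409612 (iv6 D193435) (iv5 F357630) (iv1 F411546) (iv5 F411545) D209241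
theorem F452850 : act 0 n202998 = n209241 := d21_4 F345496 (iv1 F356075) (iv5 F356074) (iv6 F426586) (iv6 D209241) F411545 F411544 (iv5 F357395) F357394 F345501
def n209242 : Q := act 3 n136010
theorem D209242 : act 3 n136010 = n209242 := rfl
theorem F452851 : act 2 n209242 = n208766 := d0_1 D209242 F450764 F233631 F350285 (iv2 F350295)
theorem F452852 : act 4 n209242 = n207828 := d5_2 F362709 D209242 F446616 F442034 F423597
theorem F452853 : act 6 n209242 = n182700 := d7_2 (iv6 F350296) D209242 F348534
theorem F452854 : act 7 n209242 = n137196 := d8_2 (iv7 F350297) D209242 (iv3 D137196)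
theorem F452855 : act 0 n209242 = n141318 := d20_4 (iv4 F93869) D126747 F362709 D209242 (iv3 D141318) (iv4 D66292) (iv1 F101854) F329875 F362699 (iv1 D64891)
theorem F452856 : act 0 n202391 = n209242 := d20_4 F377852 (iv1 F436840) F436837 (iv3 F423850) (iv3 D209242) (iv4 F362709) (iv1 F437988) F437985 F380749 F380753
theorem F452857 : act 5 n209242 = n193119 := d21_2 D202391 F452856 (iv6 D193119) (iv1 F359970) (iv6 D111163) D111162 F332231 F332241 (iv6 F423848) (iv1 D202390)
def n209243 : Q := act 5 n136010
theorem D209243 : act 5 n136010 = n209243 := rfl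
theorem F452858 : act 2 n209243 = n137193 := d2_1 D209243 (iv5 D137193) (iv2 F350295)
theorem F452859 : act 3 n209243 = n193119 := d6_1 D209243 (iv5 F452857) (iv3 D209242)
theorem F452860 : act 6 n209243 = n186949 := d12_2 (iv6 F350296) D209243 F368631 F289985 (iv5 F289984)
theorem F452861 : act 7 n209243 = n137198 := d13_2 (iv7 F350297) D209243 (iv5 D137198)
theorem F452862 : act 4 n209243 = n196313 := d16_2 F362709 D209243 (iv5 D196313) (iv4 F396632) (iv5 F396948) (iv4 F438370) (iv5 D205907) F362707 F362708
theorem F452863 : act 0 n209243 = n192506 := d17_2 D136010 D209243 (iv5 F386875) (iv4 D141792) (iv5 F359095) F203826 F203824 (iv0 F338722) F100058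
theorem F452864 : act 1 n196313 = n199048 := d18_6 (iv1 D64891) (iv4 F93869) D126747 F362709 D209243 F452862 F410470 F362375 F362701
theorem F452865 : act 0 n199191 = n209243 := d21_1 F411104 (iv5 D209243) F350296 (iv1 D89174) (iv6 F136867) (iv5 D89162) (iv1 F184575) D153868 (iv6 F395906) F395907
theorem F452866 : act 1 n199048 = n196759 := d15_1 F452864 F440415 F440410
def n209244 : Q := act 5 n136011
theorem D209244 : act 5 n136011 = n209244 := rfl
theorem F452867 : act 2 n209244 = n137198 := d2_1 D209244 (iv5 D137198) (iv2 F350298)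
theorem F452868 : act 3 n209244 = n141450 := d6_1 D209244 F350015 (iv3 F350299)
theorem F452869 : act 6 n209244 = n191441 := d12_2 F394441 D209244 (iv5 D191441) (iv6 F383468) (iv5 F441294)
theorem F452870 : act 7 n209244 = n137193 := d13_2 (iv7 F350300) D209244 (iv5 D137193)
theorem F452871 : act 0 n209244 = n199191 := d17_2 (iv1 F218838) D209244 (iv5 F411104) (iv4 D141797) (iv5 F359100) (iv0 D59428) D59431 D126672 F338720
theorem F452872 : act 4 n209244 = n196759 := d19_2 (iv1 F218838) D209244 (iv3 D196759) (iv1 D107286) D107287 (iv4 F368238) (iv3 F368239) (iv1 F385669) F385666 F368309 (iv3 F377885) (iv1 F377888) D189828 (iv4 F416659) (iv3 D200483) D200482 F416651 F384086 F220345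
theorem F452873 : act 0 n192506 = n209244 := d21_1 F386875 (iv5 D209244) (iv6 F394441) (iv1 D194779) F328609 D134515 (iv1 F352623) (iv5 D137409) D137410 F438289
theorem F452874 : act 0 n147515 = n199198 := d20_4 F78324 (iv1 F319188) D69138 D147515 F411128 F386874 F452873 F452872 (iv3 D196759) (iv1 D107286)
theorem F452875 : act 0 n199046 = n191661 := d20_4 F452872 (iv1 F452866) F410470 (iv3 F410464) F384078 D191671 (iv1 F386889) (iv4 D192507) D192506 F452873
def n209245 : Q := act 0 n136012
theorem D209245 : act 0 n136012 = n209245 := rfl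
theorem F452876 : act 6 n209245 = n150089 := d21_5 (iv5 D136018) (iv1 D63954) D63955 (iv6 F218840) D209245 (iv5 F350960) (iv1 D101814) D101815 (iv6 F357624) F221467
theorem F452877 : act 2 n137200 = n209245 := d3_3 F452876 (iv2 F241765) (iv6 F390012)
theorem F452878 : act 3 n202389 = n209245 := d7_3 F452876 F430761 F430760
theorem F452879 : act 7 n209245 = n137201 := d8_2 F448939 F452878 (iv3 F448936)
def n209246 : Q := act 1 n136012
theorem D209246 : act 1 n136012 = n209246 := rfl
theorem F452880 : act 1 n209246 = n137203 := d15_1 D209246 (iv7 D137203) (iv2 F218839)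
theorem F452881 : act 7 n209246 = n137200 := d15_2 (iv0 D209245) D209246 F452877
theorem F452882 : act 5 n209246 = n202965 := d17_7 (iv1 F207767) F324993 D136701 F338737 F100058 D136012 D209246 (iv0 F426414) F411161
theorem F452883 : act 3 n138363 = n209246 := d19_19 (iv1 D209246) (iv5 D136012) (iv4 F100058) (iv3 F219865) F451380 F451379 F401928 F225613 (iv1 F180292) (iv5 F180286) F104381 (iv3 D67650) (iv1 D31418) (iv5 F49424) (iv4 F320293) (iv3 F49418) D66393 (iv5 F323526) (iv4 F221600)
theorem F452884 : act 6 n138361 = n209246 := d21_3 (iv5 D186947) F352629 F362457 (iv1 D209246) F218840 (iv5 D63955) D63953 D136015 (iv6 F365538) (iv1 F368620)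
theorem F452885 : act 2 n209246 = n137201 := d3_1 F452884 F448934 F448931
theorem F452886 : act 1 n137203 = n209245 := d15_1 F452880 F452879 (iv2 F452885)
def n209247 : Q := act 4 n136012
theorem D209247 : act 4 n136012 = n209247 := rfl
theorem F452887 : act 2 n209247 = n137202 := d1_1 D209247 (iv4 D137202) (iv2 F218839)
theorem F452888 : act 6 n209247 = n136021 := d10_2 (iv6 F218840) D209247 (iv4 D136021)
theorem F452889 : act 0 n209247 = n145425 := d18_2 (iv1 D209246) D209247 (iv4 F442717) (iv5 D206951) (iv4 D129594) (iv0 F216488) (iv4 F442145) (iv0 F442146) (iv5 F452882)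
def n209248 : Q := act 7 n136012
theorem D209248 : act 7 n136012 = n209248 := rfl
theorem F452890 : act 2 n209248 = n137203 := d4_1 D209248 (iv7 D137203) (iv2 F218839)
theorem F452891 : act 5 n209248 = n136013 := d13_1 D209248 (iv7 D136013) D136012
theorem F452892 : act 1 n137201 = n209248 := d15_1 D137201 (iv7 D209248) F218839
theorem F452893 : act 1 n209248 = n137200 := d15_1 F452892 (iv7 F452881) F452885
def n209249 : Q := act 0 n136014
theorem D209249 : act 0 n136014 = n209249 := rfl
theorem F452894 : act 3 n209249 = n139307 := d20_5 F93922 (iv1 F100429) (iv4 F99487) D136014 D209249 (iv4 F423145) (iv1 D202182) F179726 (iv3 D64504) (iv1 F99507)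
theorem F452895 : act 1 n137217 = n209249 := d15_0 (iv0 D209249) F218847 D137217
theorem F452896 : act 7 n209249 = n136847 := d15_2 (iv0 F452720) F452895 (iv2 F452717)
theorem F452897 : act 6 n136977 = n209249 := d14_5 F452896 (iv6 D136847) (iv7 F359146) D209205 F452711
def n209250 : Q := act 2 n136014
theorem D209250 : act 2 n136014 = n209250 := rfl
theorem F452898 : act 3 n209250 = n137206 := d0_2 D136014 D209250 (iv2 D137206) (iv3 D64490) (iv2 F99499)
theorem F452899 : act 4 n209250 = n196987 := d1_2 (iv4 F218846) D209250 (iv2 D196987)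
theorem F452900 : act 5 n209250 = n199349 := d2_2 F411511 D209250 F411806
theorem F452901 : act 7 n209250 = n137217 := d4_2 (iv7 F218847) D209250 (iv2 D137217)
theorem F452902 : act 1 n209250 = n137215 := d15_0 (iv0 D137215) (iv7 F218847) D209250
theorem F452903 : act 1 n137216 = n209250 := d15_1 D137216 F452901 (iv2 D137217)
def n209251 : Q := act 4 n136015
theorem D209251 : act 4 n136015 = n209251 := rfl
theorem F452904 : act 2 n209251 = n137213 := d1_1 D209251 (iv4 D137213) (iv2 F218848)
theorem F452905 : act 7 n209251 = n137219 := d11_2 (iv7 F218849) D209251 (iv4 D137219)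
theorem F452906 : act 3 n209251 = n204829 := d19_3 D63953 D136015 D209251 (iv1 D204829) (iv5 D124438) (iv4 D58030) (iv3 F299541) (iv1 F28012) (iv5 F27598) (iv4 F37329) (iv3 F77371) (iv1 F321072) F321075 (iv4 F344051) F151267 F272738 F324656 F100387 F99485
def n209252 : Q := act 3 n136019
theorem D209252 : act 3 n136019 = n209252 := rfl
theorem F452907 : act 7 n209252 = n137224 := d8_2 (iv7 F219003) D209252 (iv3 D137224)
def n209253 : Q := act 4 n136019
theorem D209253 : act 4 n136019 = n209253 := rfl
theorem F452908 : act 2 n209253 = n137222 := d1_1 D209253 (iv4 D137222) (iv2 F219005)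
theorem F452909 : act 7 n209253 = n137225 := d11_2 (iv7 F219003) D209253 (iv4 D137225)
theorem F452910 : act 5 n209253 = n160389 := d16_1 D209253 (iv4 F365849) (iv5 F354539) F173565 (iv5 F220757) F220756 F218861 (iv7 F219004) (iv2 F219005)
theorem F452911 : act 1 n209253 = n198146 := d18_6 F221404 (iv4 F221399) F402617 (iv4 F452490) F452493 D209253 (iv4 F406985) (iv0 F343904) F335551
theorem F452912 : act 3 n209253 = n160390 := d19_3 F452494 F452493 D209253 (iv1 F431788) (iv5 D204272) (iv4 D123323) F121104 F44694 (iv5 D16859) (iv4 F43178) F155478 (iv1 D32759) (iv5 F46919) (iv4 F96309) (iv3 F314376) D174052 (iv5 F383158) F383159 F357420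
def n209254 : Q := act 6 n136019
theorem D209254 : act 6 n136019 = n209254 := rfl
theorem F452913 : act 2 n209254 = n137223 := d3_1 D209254 (iv6 D137223) (iv2 F219005)
theorem F452914 : act 5 n209254 = n189149 := d12_1 D209254 (iv6 F452488) (iv5 D209154) D209155 F452493
theorem F452915 : act 7 n209254 = n191970 := d14_2 (iv7 F219003) D209254 (iv6 D191970) F344244 (iv6 D137226)
def n209255 : Q := act 4 n136020
theorem D209255 : act 4 n136020 = n209255 := rfl
theorem F452916 : act 2 n209255 = n137225 := d1_1 D209255 (iv4 D137225) F219001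
theorem F452917 : act 3 n209255 = n167691 := d5_1 D209255 F263964 (iv3 F309052) (iv4 F237315) F360984
theorem F452918 : act 5 n209255 = n198137 := d9_2 F218861 D209255 (iv4 F408573) F354541 F173549 D196997 (iv4 F452490) F452493 D209253 F452910 (iv4 F365849) (iv5 F354539) F173565 (iv5 F220757) F220756
theorem F452919 : act 6 n209255 = n191968 := d10_2 F344242 D209255 (iv4 D191968)
theorem F452920 : act 7 n209255 = n137222 := d11_2 F219004 D209255 (iv4 D137222)
theorem F452921 : act 0 n209255 = n198146 := d18_2 (iv1 F218860) D209255 (iv4 F406985) (iv5 D126785) F93922 D59498 (iv4 F99502) F99489 (iv5 F100432)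
def n209256 : Q := act 0 n136021
theorem D209256 : act 0 n136021 = n209256 := rfl
theorem F452922 : act 5 n209256 = n197793 := d17_1 D209256 (iv1 F411334) (iv5 D199253) F361562 F220762 (iv0 F452492) F452493 (iv0 D136019) D136021
theorem F452923 : act 3 n196408 = n209256 := d6_3 F452922 F405815 (iv5 F400613)
theorem F452924 : act 6 n196407 = n209256 := d12_0 F452922 (iv6 D197793) D197792 (iv6 F405814) F401661
theorem F452925 : act 1 n137231 = n209256 := d17_6 F408558 (iv5 F354539) (iv1 D111803) D111804 (iv4 F408825) (iv5 F408828) F452922 F411344 F411342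
theorem E103955 : n199232 = n196743 := (c21_8 F408828 (iv1 F411090) (iv5 D199188) (iv6 D111052) (iv1 F80819) D51235 D111090 D199232 F401661 F452924 (iv1 F452925))
theorem F452926 : act 1 n196743 = n111090 := (sb E103955 (iv0 D199232))
theorem F452927 : act 7 n209256 = n137228 := d14_2 (iv7 F400610) F452924 F364416 (iv7 F165779) (iv6 F247347)
theorem F452928 : act 2 n209256 = n137227 := d15_3 (iv0 D137227) D137228 (iv7 F452927)
def n209257 : Q := act 1 n136021
theorem D209257 : act 1 n136021 = n209257 := rfl
theorem F452929 : act 1 n209257 = n137231 := d15_1 D209257 (iv7 D137231) (iv2 F218862)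
theorem F452930 : act 7 n209257 = n137227 := d15_2 (iv0 D209256) D209257 (iv2 F452928)
theorem F452931 : act 4 n209257 = n137627 := d17_9 (iv1 F406427) (iv5 D197992) (iv1 F168841) D136024 F338260 (iv5 F361575) D198675 (iv5 F408832) D209257
theorem F452932 : act 6 n191971 = n209257 := d21_9 F408832 (iv1 D198675) F361575 (iv6 D110962) (iv1 F357639) (iv6 F368635) (iv5 F371678) (iv1 F371679) (iv5 F385036) (iv1 D209257)
theorem F452933 : act 2 n209257 = n137228 := d3_1 F452932 F364416 F385038
def n209258 : Q := act 3 n136021
theorem D209258 : act 3 n136021 = n209258 := rfl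
theorem F452934 : act 4 n209258 = n194612 := d5_2 D136021 D209258 (iv3 F393833) F385605 F218835
theorem F452935 : act 0 n209258 = n194560 := d20_10 F393692 (iv1 F393355) (iv4 F406898) (iv3 F406901) F312391 (iv3 F452917) (iv4 D209255) (iv1 D136020) D136021 D209258
theorem F452936 : act 7 n194595 = n209258 := d11_0 F452934 F393832 (iv4 F406838)
theorem F452937 : act 2 n209258 = n194594 := d15_3 (iv0 D194594) D194595 F452936
def n209259 : Q := act 7 n136021
theorem D209259 : act 7 n136021 = n209259 := rfl
theorem F452938 : act 2 n209259 = n137231 := d4_1 D209259 (iv7 D137231) (iv2 F218862)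
theorem F452939 : act 3 n209259 = n194595 := d8_1 D209259 F452936 (iv3 D209258)
theorem F452940 : act 4 n209259 = n136022 := d11_1 D209259 (iv7 D136022) D136021
theorem F452941 : act 5 n209259 = n137266 := d13_1 D209259 (iv7 F408829) (iv5 F408832)
theorem F452942 : act 1 n137228 = n209259 := d15_1 D137228 (iv7 D209259) F218862
theorem F452943 : act 1 n209259 = n137227 := d15_1 F452942 (iv7 F452930) F452933
def n209260 : Q := act 6 n136022
theorem D209260 : act 6 n136022 = n209260 := rfl
theorem F452944 : act 2 n209260 = n137232 := d3_1 D209260 (iv6 D137232) (iv2 F218863)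
theorem F452945 : act 3 n209260 = n139371 := d7_1 D209260 F393169 (iv3 F389839)
theorem F452946 : act 5 n209260 = n137007 := d12_1 D209260 (iv6 D137007) F100319 (iv6 F99493) (iv5 F218864)
theorem F452947 : act 0 n139937 = n209260 := d21_4 (iv5 F411152) (iv1 F411153) (iv5 D139936) D139937 (iv6 D209260) F218864 (iv1 F99494) D64495 D137220 F361547
def n209261 : Q := act 6 n136027
theorem D209261 : act 6 n136027 = n209261 := rfl
theorem F452948 : act 2 n209261 = n136028 := d3_1 D209261 (iv6 D136028) D136027
theorem F452949 : act 3 n209261 = n137330 := d7_1 D209261 (iv6 D137330) (iv3 F218883)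
theorem F452950 : act 4 n209261 = n141168 := d10_1 D209261 (iv6 D141168) (iv4 F218884)
theorem F452951 : act 5 n209261 = n171132 := d21_6 (iv5 F328574) (iv1 F221144) F221142 (iv6 F327471) (iv1 F218886) D209261 F374819 (iv5 F426765) (iv6 D203046) (iv1 F328185)
theorem F452952 : act 0 n143570 = n209261 := d17_2 F361938 F361936 F452951 (iv4 D171132) D171133 F386511 F386506 F197564 (iv4 F242117)
def n209262 : Q := act 0 n136028
theorem D209262 : act 0 n136028 = n209262 := rfl
theorem F452953 : act 3 n209262 = n139224 := d20_5 (iv4 F201784) (iv1 F201785) (iv4 F99527) (iv3 F218888) D209262 (iv4 D139224) (iv1 D65349) (iv4 F100036) F100035 (iv1 F99640)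
theorem F452954 : act 5 n154064 = n209262 := d6_0 F452953 (iv5 F339086) (iv3 F384318)
theorem F452955 : act 7 n143570 = n209262 := d8_0 F452953 F338984 D143570
def n209263 : Q := act 1 n136028
theorem D209263 : act 1 n136028 = n209263 := rfl
theorem F452956 : act 5 n209263 = n154065 := d17_7 (iv1 D123276) D123279 F342371 F348381 D191897 F384730 D209263 (iv0 F431750) (iv4 D204264)
theorem F452957 : act 2 n143570 = n209263 := d2_3 F452956 (iv2 F384320) F361936
theorem F452958 : act 3 n204339 = n209263 := d6_3 F452956 (iv3 F383622) D204339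
def n209264 : Q := act 4 n136036
theorem D209264 : act 4 n136036 = n209264 := rfl
theorem F452959 : act 2 n209264 = n136040 := d1_1 D209264 (iv4 D136040) (iv2 F218904)
theorem F452960 : act 3 n209264 = n195723 := d5_1 D209264 F397951 (iv3 D113776) (iv4 F106580) (iv3 F218905)
theorem F452961 : act 7 n209264 = n137538 := d11_2 (iv7 F218906) D209264 (iv4 D137538)
theorem F452962 : act 0 n209264 = n137555 := d18_2 (iv1 F218908) D209264 F386022 (iv5 F438477) F438479 F218670 F100361 F99440 (iv5 F220886)
theorem F452963 : act 1 n209264 = n137554 := d18_6 D99856 F333095 (iv1 F206722) F206720 D136036 D209264 F391955 (iv0 D192211) (iv5 D99858)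
def n209265 : Q := act 5 n136040
theorem D209265 : act 5 n136040 = n209265 := rfl
theorem F452964 : act 7 n209265 = n137556 := d13_2 (iv7 F218913) D209265 (iv5 D137556)
def n209266 : Q := act 6 n136052
theorem D209266 : act 6 n136052 = n209266 := rfl
theorem F452965 : act 3 n209266 = n136054 := d7_1 D209266 (iv6 D136054) D136052
theorem F452966 : act 4 n209266 = n206037 := d10_1 D209266 (iv6 D206037) (iv4 F218930)
theorem F452967 : act 0 n193181 = n209266 := d21_4 (iv5 D193102) F351628 D101317 D193181 (iv6 D209266) F365529 (iv1 F355613) D203744 F429647 (iv1 F388753)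
def n209267 : Q := act 5 n136061
theorem D209267 : act 5 n136061 = n209267 := rfl
theorem F452968 : act 2 n209267 = n137473 := d2_1 D209267 (iv5 D137473) (iv2 F218954)
theorem F452969 : act 0 n209267 = n136839 := d17_2 (iv1 F221380) D209267 (iv5 D136839) (iv4 F165740) (iv5 F207020) F432211 F432206 (iv0 F336166) F221377
theorem F452970 : act 1 n209267 = n136837 := d17_6 F48446 F48445 D61301 (iv5 F99548) (iv4 F218955) D209267 (iv5 D136837) (iv0 D64330) F48732
def n209268 : Q := act 6 n136078
theorem D209268 : act 6 n136078 = n209268 := rfl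
theorem F452971 : act 2 n209268 = n193225 := d3_1 D209268 (iv6 D193225) (iv2 F362212)
theorem F452972 : act 3 n209268 = n136080 := d7_1 D209268 (iv6 D136080) D136078
theorem F452973 : act 5 n209268 = n137224 := d12_1 D209268 F363689 (iv5 F375539) (iv6 F377060) F377058
theorem F452974 : act 0 n209268 = n204821 := d21_4 (iv5 F145059) D189597 F377058 D209268 (iv6 D204821) (iv5 D124424) (iv1 F242108) D193102 F388752 F290179
def n209269 : Q := act 2 n136081
theorem D209269 : act 2 n136081 = n209269 := rfl
theorem F452975 : act 3 n209269 = n137601 := d0_2 D136081 D209269 (iv2 D137601) (iv3 D64674) (iv2 F166479)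
theorem F452976 : act 4 n209269 = n192176 := d1_2 (iv4 F362219) D209269 (iv2 F385875)
theorem F452977 : act 7 n209269 = n137592 := d4_2 (iv7 F219006) D209269 (iv2 D137592)
theorem F452978 : act 1 n209269 = n137590 := d15_0 (iv0 D137590) (iv7 F219006) D209269
theorem F452979 : act 1 n137343 = n209269 := d15_0 F452978 F365518 (iv2 F220535)
def n209270 : Q := act 1 n136089
theorem D209270 : act 1 n136089 = n209270 := rfl
theorem F452980 : act 1 n209270 = n136507 := d15_1 D209270 F219619 (iv2 F219026)
theorem F452981 : act 7 n209270 = n136244 := d15_2 (iv0 F221404) D209270 F219274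
theorem F452982 : act 4 n209270 = n198665 := d17_9 F408783 F220757 (iv1 D110367) F80296 (iv4 F93922) D126785 (iv0 F343904) F335551 D209270
theorem F452983 : act 5 n209270 = n198687 := d18_9 (iv1 F408870) F338260 D199126 F410778 (iv5 D138270) F100733 (iv0 F99576) (iv4 F219027) D209270
theorem F452984 : act 6 n137471 = n209270 := d21_3 D64332 D136840 F399183 (iv1 D209270) (iv6 D136089) D136088 (iv1 F335575) F335576 (iv6 F219523) (iv1 D64331)
theorem F452985 : act 2 n209270 = n137626 := d3_1 F452984 (iv6 F446955) F446954
def n209271 : Q := act 6 n136092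
theorem D209271 : act 6 n136092 = n209271 := rfl
theorem F452986 : act 2 n209271 = n137784 := d3_1 D209271 (iv6 D137784) (iv2 F219035)
theorem F452987 : act 4 n209271 = n136094 := d10_1 D209271 (iv6 D136094) D136092
theorem F452988 : act 5 n209271 = n193417 := d12_1 D209271 F397147 F397145 (iv6 F179744) (iv5 F347219)
def n209272 : Q := act 5 n136095
theorem D209272 : act 5 n136095 = n209272 := rfl
theorem F452989 : act 2 n209272 = n137880 := d2_1 D209272 (iv5 D137880) (iv2 F219211)
theorem F452990 : act 3 n209272 = n136097 := d6_1 D209272 (iv5 D136097) D136095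
theorem F452991 : act 7 n209272 = n137781 := d13_2 (iv7 F219040) D209272 (iv5 D137781)
theorem F452992 : act 0 n209272 = n137989 := d17_2 F219044 D209272 F402219 (iv4 D196900) F180609 F181246 F39067 D51053 (iv4 F102786)
theorem F452993 : act 1 n209272 = n137978 := d17_6 F228376 F220038 (iv1 F225705) F225704 F220500 D209272 (iv5 F402231) (iv0 F402441) (iv4 D196956)
def n209273 : Q := act 6 n136097
theorem D209273 : act 6 n136097 = n209273 := rfl
theorem F452994 : act 2 n209273 = n137774 := d3_1 D209273 (iv6 D137774) (iv2 F219048)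
theorem F452995 : act 4 n209273 = n207823 := d10_1 D209273 F446601 F437596
theorem F452996 : act 7 n209273 = n138176 := d14_2 (iv7 F219049) D209273 (iv6 F437870) F383843 (iv6 D137786)
theorem F452997 : act 0 n138177 = n209273 := d21_4 (iv5 F380835) F434203 F434199 F364182 (iv6 D209273) (iv5 D136097) (iv1 D64003) D64005 D136104 (iv1 F380833)
theorem F452998 : act 1 n136230 = n209273 := d15_1 (iv0 F388691) F452996 F437871
def n209274 : Q := act 6 n136101
theorem D209274 : act 6 n136101 = n209274 := rfl
theorem F452999 : act 2 n209274 = n137821 := d3_1 D209274 (iv6 D137821) (iv2 F386023)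
def n209275 : Q := act 3 n136102
theorem D209275 : act 3 n136102 = n209275 := rfl
theorem F453000 : act 2 n209275 = n137885 := d0_1 D209275 (iv3 F391956) (iv2 F386016) F347281 (iv2 F386026)
theorem F453001 : act 5 n209275 = n199207 := d6_2 F233573 D209275 (iv3 F411170)
theorem F453002 : act 7 n209275 = n137818 := d8_2 (iv7 F386027) D209275 (iv3 D137818)
theorem F453003 : act 0 n209275 = n137882 := d20_4 (iv4 D205731) D205729 F437599 D209275 F221110 F177033 F83239 (iv4 F100513) D137368 (iv1 F437613)
theorem F453004 : act 4 n209275 = n208689 := d20_6 (iv4 F225944) F349684 F146938 (iv3 F329579) (iv1 F219059) D209275 F450456 F448903 (iv3 F349682) F349683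
theorem F453005 : act 0 n137888 = n209275 := d20_4 D143094 F225947 F221175 (iv3 F221115) (iv3 D209275) (iv4 F437599) (iv1 F437600) F347241 F103035 D67056
theorem F453006 : act 6 n208688 = n209275 := d10_0 F453004 (iv6 D208689) D208688
theorem F453007 : act 7 n208689 = n208325 := d11_2 (iv7 F453002) F453004 F448922
def n209276 : Q := act 6 n136102
theorem D209276 : act 6 n136102 = n209276 := rfl
theorem F453008 : act 2 n209276 = n137816 := d3_1 D209276 (iv6 D137816) (iv2 F386026)
theorem F453009 : act 3 n209276 = n208688 := d7_1 D209276 F453006 (iv3 D209275)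
theorem F453010 : act 4 n209276 = n207644 := d10_1 D209276 F445820 F437599
theorem F453011 : act 0 n206860 = n209276 := d20_1 D206860 F453010 (iv3 D207644) (iv1 D132178) (iv3 D62011) (iv4 D29365) (iv1 F23261) D28855 D60826 D129432
theorem F453012 : act 0 n209276 = n206776 := d20_1 (iv4 F453010) F442148 (iv3 F214798) (iv1 D132304) D132305 (iv4 F214644) F355401 (iv4 F355265) D206892 F450596
def n209277 : Q := act 6 n136106
theorem D209277 : act 6 n136106 = n209277 := rfl
theorem F453013 : act 5 n209277 = n192983 := d12_1 D209277 F388423 (iv5 F426234) F426232 F360612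
def n209278 : Q := act 5 n136116
theorem D209278 : act 5 n136116 = n209278 := rfl
theorem F453014 : act 2 n209278 = n137670 := d2_1 D209278 (iv5 D137670) (iv2 F219082)
theorem F453015 : act 4 n209278 = n199398 := d9_1 D209278 (iv5 D199398) F172628 (iv5 F203057) (iv4 F219098) (iv5 D136120) D136119 F219088 (iv4 D111404) (iv5 D51377) (iv4 F40166) D52278 D113264 (iv5 F176456) D136116
theorem F453016 : act 6 n209278 = n153786 := d12_2 (iv6 F434542) D209278 (iv5 F372005) (iv6 F407593) F434541
theorem F453017 : act 7 n209278 = n137658 := d13_2 (iv7 F219083) D209278 (iv5 D137658)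
theorem F453018 : act 1 n209278 = n199551 := d17_6 (iv1 F220881) F168836 F176463 (iv5 F176456) D136116 D209278 F412640 (iv0 F400155) F400154
theorem F453019 : act 0 n209278 = n199552 := d18_0 F417472 F417471 F409312 (iv5 D137685) (iv4 F103032) (iv0 F220509) F220508 F219091 D209278
def n209279 : Q := act 5 n136153
theorem D209279 : act 5 n136153 = n209279 := rfl
theorem F453020 : act 2 n209279 = n156084 := d2_1 D209279 (iv5 F422304) F422303
theorem F453021 : act 3 n209279 = n178779 := d6_1 D209279 F351459 F219198
theorem F453022 : act 4 n209279 = n199822 := d9_1 D209279 F413649 F216241 (iv5 F399258) (iv4 F406299) F406300 F331007 (iv5 F422806) (iv4 F424815) F424813 (iv4 F216963) (iv5 F336154) F336153 (iv5 F217237) F331003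
theorem F453023 : act 6 n209279 = n155983 := d12_2 (iv6 F351560) D209279 F245367 D156143 F351461
theorem F453024 : act 7 n209279 = n202160 := d13_2 F220547 D209279 F423092
theorem F453025 : act 1 n209279 = n207373 := d17_6 (iv1 F422588) F422585 F217238 (iv5 F217237) F331003 D209279 F444563 (iv0 D202040) (iv4 F422273)
def n209280 : Q := act 2 n136194
theorem D209280 : act 2 n136194 = n209280 := rfl
theorem F453026 : act 3 n209280 = n200818 := d0_2 D136194 D209280 F418040 F383813 (iv2 F350316)
theorem F453027 : act 4 n209280 = n195156 := d1_2 F452069 D209280 (iv2 F452067)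
theorem F453028 : act 5 n209280 = n202528 := d2_2 (iv5 F350327) D209280 F424387
theorem F453029 : act 6 n209280 = n195152 := d3_2 (iv6 F350323) D209280 F395986
theorem F453030 : act 7 n209280 = n195153 := d4_2 F438911 D209280 (iv2 F438907)
theorem F453031 : act 1 n209280 = n137668 := d15_0 (iv0 F438912) F438911 D209280
theorem F453032 : act 1 n208785 = n209280 := d15_0 F453031 (iv7 F391836) (iv2 F450852)
def n209281 : Q := act 6 n136215
theorem D209281 : act 6 n136215 = n209281 := rfl
theorem F453033 : act 2 n209281 = n136217 := d3_1 D209281 (iv6 D136217) D136215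
theorem F453034 : act 3 n209281 = n138061 := d7_1 D209281 (iv6 D138061) (iv3 F219235)
theorem F453035 : act 4 n209281 = n206822 := d10_1 D209281 F442437 F442435
theorem F453036 : act 0 n208794 = n209281 := d21_4 F442149 (iv1 F450989) (iv5 D208793) D208794 (iv6 D209281) (iv5 F396709) (iv1 F396712) F233573 D209276 F453012
def n209282 : Q := act 1 n136217
theorem D209282 : act 1 n136217 = n209282 := rfl
def n209283 : Q := act 5 n136217
theorem D209283 : act 5 n136217 = n209283 := rfl
theorem F453037 : act 3 n209283 = n136220 := d6_1 D209283 (iv5 D136220) (iv3 F219241)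
def n209284 : Q := act 0 n136220
theorem D209284 : act 0 n136220 = n209284 := rfl
theorem F453038 : act 2 n138079 = n209284 := d15_3 (iv0 D209284) (iv0 F396722) (iv7 F434483)
theorem F453039 : act 1 n138082 = n209284 := d15_0 (iv0 D209284) (iv7 F449555) F449553
theorem F453040 : act 7 n209284 = n138080 := d15_2 F396723 F453039 F362121
theorem F453041 : act 4 n142325 = n209284 := d11_3 F453040 F423463 F423459
def n209285 : Q := act 4 n136220
theorem D209285 : act 4 n136220 = n209285 := rfl
theorem F453042 : act 2 n209285 = n138081 := d1_1 D209285 (iv4 D138081) (iv2 F219243)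
theorem F453043 : act 7 n209285 = n152748 := d11_2 F449555 D209285 (iv4 F449554)
theorem F453044 : act 5 n209285 = n152321 := d16_1 D209285 (iv4 D152321) F189221 (iv4 F389740) F389743 F204055 (iv5 F221313) (iv7 D138082) (iv2 F219243)
def n209286 : Q := act 5 n136224
theorem D209286 : act 5 n136224 = n209286 := rfl
theorem F453045 : act 3 n209286 = n136227 := d6_1 D209286 (iv5 D136227) (iv3 F219257)
theorem F453046 : act 6 n209286 = n184337 := d12_2 D136224 D209286 F406421 (iv6 D197991) F168836
theorem F453047 : act 0 n209286 = n184297 := d17_2 (iv1 F380762) D209286 F366830 F398848 F435339 (iv0 F435340) F416852 (iv0 F398041) F398039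
theorem F453048 : act 1 n209286 = n204975 := d17_8 F358996 (iv5 D163508) (iv1 F329022) (iv5 F394147) F394146 F159643 (iv0 F365377) D209286 F434405
def n209287 : Q := act 1 n136227
theorem D209287 : act 1 n136227 = n209287 := rfl
theorem F453049 : act 1 n209287 = n138116 := d15_1 D209287 (iv7 D138116) (iv2 F219259)
theorem F453050 : act 7 n209287 = n138113 := d15_2 F442719 D209287 (iv2 F442713)
theorem F453051 : act 5 n141326 = n209287 := d21_0 (iv1 D209287) (iv5 D136227) (iv6 D64045) (iv1 D30192) D30193 (iv5 F99414) D135933 (iv5 F444323) F444324 (iv1 F410473)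
theorem F453052 : act 6 n156465 = n209287 := d21_3 F338251 (iv1 F429847) (iv5 F429853) (iv1 D209287) (iv6 F406425) (iv5 D197992) (iv1 F168841) D136024 F338261 D156687
theorem F453053 : act 2 n209287 = n138114 := d3_1 F453052 F329405 D156465
def n209288 : Q := act 4 n136227
theorem D209288 : act 4 n136227 = n209288 := rfl
theorem F453054 : act 2 n209288 = n138115 := d1_1 D209288 (iv4 D138115) (iv2 F219259)
def n209289 : Q := act 7 n136227
theorem D209289 : act 7 n136227 = n209289 := rfl
theorem F453055 : act 2 n209289 = n138116 := d4_1 D209289 (iv7 D138116) (iv2 F219259)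
theorem F453056 : act 5 n209289 = n136228 := d13_1 D209289 (iv7 D136228) D136227
theorem F453057 : act 1 n138114 = n209289 := d15_1 D138114 (iv7 D209289) F219259
theorem F453058 : act 1 n209289 = n138113 := d15_1 F453057 (iv7 F453050) F453053
theorem F453059 : act 6 n209289 = n202539 := d21_3 (iv5 D138022) (iv1 F362695) (iv5 F453056) (iv1 D202539) (iv6 D115941) (iv5 F101835) (iv1 F222661) (iv5 D110891) D110892 F362374
def n209290 : Q := act 2 n136230
theorem D209290 : act 2 n136230 = n209290 := rfl
theorem F453060 : act 3 n209290 = n138154 := d0_2 D136230 D209290 (iv2 D138154) (iv3 D64903) F359617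
theorem F453061 : act 7 n209290 = n138177 := d4_2 (iv7 F359618) D209290 (iv2 D138177)
theorem F453062 : act 1 n209290 = n137774 := d15_0 F441953 (iv7 F359618) D209290
theorem F453063 : act 1 n138176 = n209290 := d15_0 F453062 (iv7 F383847) (iv2 F437871)
def n209291 : Q := act 5 n136230
theorem D209291 : act 5 n136230 = n209291 := rfl
theorem F453064 : act 3 n209291 = n136232 := d6_1 D209291 (iv5 D136232) D136230
theorem F453065 : act 7 n209291 = n138179 := d13_2 (iv7 F359618) D209291 (iv5 D138179)
theorem F453066 : act 0 n209291 = n191961 := d18_0 F385010 D201442 (iv4 F427208) F427209 F410162 D207824 (iv4 F446641) (iv0 F388691) D209291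
theorem F453067 : act 6 n208877 = n209291 := d21_5 (iv5 D74855) D74854 D157401 (iv6 F452357) (iv1 F452358) (iv5 D209291) F388691 (iv5 F387286) (iv6 D192633) F311794
theorem F453068 : act 4 n209291 = n203475 := d10_1 F453067 (iv6 F428454) D208877
def n209292 : Q := act 4 n136232
theorem D209292 : act 4 n136232 = n209292 := rfl
theorem F453069 : act 2 n209292 = n138167 := d1_1 D209292 (iv4 D138167) (iv2 F359619)
theorem F453070 : act 7 n209292 = n138184 := d11_2 (iv7 F359620) D209292 (iv4 D138184)
theorem F453071 : act 0 n209292 = n193028 := d18_2 F442272 D209292 F388551 (iv5 F338484) (iv4 F414955) (iv0 F444261) F444260 (iv0 F359076) D206810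
def n209293 : Q := act 6 n136239
theorem D209293 : act 6 n136239 = n209293 := rfl
theorem F453072 : act 3 n209293 = n136241 := d7_1 D209293 (iv6 D136241) D136239
theorem F453073 : act 4 n209293 = n203227 := d10_1 D209293 (iv6 F429381) F397230
theorem F453074 : act 5 n209293 = n203192 := d12_1 D209293 F427377 (iv5 F383465) (iv6 F305769) (iv5 F351865)
def n209294 : Q := act 6 n136259
theorem D209294 : act 6 n136259 = n209294 := rfl
theorem F453075 : act 2 n209294 = n136261 := d3_1 D209294 (iv6 D136261) D136259
theorem F453076 : act 3 n209294 = n174190 := d7_1 D209294 F358922 (iv3 F219308)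
theorem F453077 : act 4 n209294 = n205159 := d10_1 D209294 (iv6 D205159) (iv4 F219309)
theorem F453078 : act 5 n209294 = n137261 := d12_1 D209294 (iv6 F402409) (iv5 D196944) (iv6 F209119) (iv5 F349563)
theorem F453079 : act 0 n209294 = n198680 := d21_10 (iv5 D198680) (iv1 F365913) F349714 F349715 (iv1 F435258) F435254 F414011 (iv1 F214394) (iv5 F349563) D209294
theorem F453080 : act 0 n194892 = n209294 := d21_4 D200944 (iv1 F418452) F369662 D194892 (iv6 D209294) F349563 (iv1 F209120) (iv5 F414018) F414020 (iv1 F394555)
def n209295 : Q := act 0 n136261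
theorem D209295 : act 0 n136261 = n209295 := rfl
theorem F453081 : act 5 n209295 = n198679 := d17_1 D209295 F408851 F395132 F418465 F418469 (iv0 D181139) D181142 F358242 (iv4 F219316)
theorem F453082 : act 3 n209295 = n194895 := d20_5 D109741 F169727 (iv4 F99654) (iv3 F219315) D209295 F394908 (iv1 F358120) F272489 (iv3 F326920) (iv1 F169689)
theorem F453083 : act 2 n198680 = n209295 := d0_5 F453082 F394907 (iv3 F408569) F408568 (iv3 F408852)
theorem F453084 : act 7 n194892 = n209295 := d8_0 F453082 (iv7 D194895) (iv3 F394894)
def n209296 : Q := act 1 n136261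
theorem D209296 : act 1 n136261 = n209296 := rfl
theorem F453085 : act 7 n209296 = n198680 := d15_2 (iv0 D209295) D209296 F453083
theorem F453086 : act 3 n198618 = n209296 := d19_19 (iv1 D209296) (iv5 F425848) F425847 (iv3 D177456) (iv1 F325213) (iv5 D126051) F93244 (iv3 F323102) (iv1 F297540) F297543 (iv4 F55802) (iv3 F115319) (iv1 F331998) D208943 F451495 F411271 (iv1 F361573) D199256 F411342
theorem F453087 : act 5 n198617 = n209296 := d21_0 (iv1 D209296) (iv5 F425848) (iv6 D202847) (iv1 F414107) (iv6 D199910) (iv5 F390205) F390206 (iv5 F342888) F325608 F408554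
theorem F453088 : act 6 n194891 = n209296 := d21_3 (iv5 F447863) (iv1 D208099) (iv5 F394890) (iv1 D209296) (iv6 D136261) (iv5 F344601) (iv1 F209112) (iv5 F349594) (iv6 F363493) D190635
theorem F453089 : act 2 n209296 = n194892 := d3_1 F453088 (iv6 D194892) D194891
def n209297 : Q := act 4 n136263
theorem D209297 : act 4 n136263 = n209297 := rfl
theorem F453090 : act 3 n209297 = n177245 := d5_1 D209297 F276639 D177456 (iv4 F425847) F425846
theorem F453091 : act 5 n209297 = n137213 := d9_2 D136263 D209297 (iv4 D137213) (iv5 D64492) D64491 D137209 F220359 (iv5 F220406) (iv4 F433691) F433692 (iv4 D137219) (iv5 D64495) F99495 (iv5 F92908) (iv4 F99654)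
theorem F453092 : act 0 n209297 = n197999 := d18_2 (iv1 F340598) D209297 F406453 F169726 (iv4 F161397) F173560 (iv4 F173557) F173556 (iv5 F340593)
theorem F453093 : act 1 n209297 = n198673 := d18_6 (iv1 F169689) D109741 F169727 (iv4 F99654) D136263 D209297 (iv4 D198673) F408549 F408548
def n209298 : Q := act 6 n136264
theorem D209298 : act 6 n136264 = n209298 := rfl
theorem F453094 : act 2 n209298 = n199707 := d3_1 D209298 (iv6 D199707) F219323
theorem F453095 : act 3 n209298 = n194983 := d7_1 D209298 (iv6 F395301) F349833
theorem F453096 : act 4 n209298 = n195885 := d10_1 D209298 F412035 F412025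
theorem F453097 : act 5 n209298 = n176840 := d12_1 D209298 (iv6 F416225) (iv5 D200382) D200383 F416231
theorem F453098 : act 1 n199812 = n209298 := d18_8 (iv1 D176840) F129375 D102872 (iv4 F377424) F407215 F407214 (iv0 F355981) D199812 F453097
def n209299 : Q := act 4 n136266
theorem D209299 : act 4 n136266 = n209299 := rfl
theorem F453099 : act 2 n209299 = n138277 := d1_1 D209299 F221479 F349531
theorem F453100 : act 3 n209299 = n208722 := d5_1 D209299 F450572 F396629 F161972 (iv3 F219327)
theorem F453101 : act 5 n209299 = n208304 := d9_2 D136266 D209299 F448829 F448106 (iv4 D199703) (iv5 D111613) D111612 D199702 (iv4 F424517) F424518 F217165 F412228 (iv4 D199443) (iv5 D111329) (iv4 F99655)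
theorem F453102 : act 6 n209299 = n138275 := d10_2 (iv6 F349536) D209299 F221476
theorem F453103 : act 7 n209299 = n192859 := d11_2 (iv7 F219328) D209299 F388041
def n209300 : Q := act 3 n136272
theorem D209300 : act 3 n136272 = n209300 := rfl
theorem F453104 : act 2 n209300 = n147375 := d0_1 D209300 F231092 F170591 F351990 (iv2 F351977)
theorem F453105 : act 4 n209300 = n147371 := d5_2 D136272 D209300 F231088 (iv4 F180030) F180029
theorem F453106 : act 6 n209300 = n160953 := d7_2 (iv6 F351978) D209300 (iv3 D160953)
theorem F453107 : act 7 n209300 = n207439 := d8_2 (iv7 F351979) D209300 F444916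
theorem F453108 : act 0 n209300 = n205579 := d20_4 F82570 D64067 D136272 D209300 F437080 (iv4 F438862) (iv1 D206018) (iv4 D126951) (iv3 F355461) (iv1 D113139)
theorem F453109 : act 0 n205578 = n209300 := d20_4 D113180 (iv1 F381055) (iv4 F417936) (iv3 F437072) (iv3 D209300) (iv4 D136272) (iv1 F169201) (iv4 F202689) F202688 (iv1 F176340)
def n209301 : Q := act 0 n136285
theorem D209301 : act 0 n136285 = n209301 := rfl
theorem F453110 : act 4 n209301 = n196602 := d20_0 (iv1 F401212) F397189 (iv3 F408109) (iv1 F408111) F381568 F226650 (iv1 F399439) (iv4 F410924) F410923 D209301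
def n209302 : Q := act 5 n136285
theorem D209302 : act 5 n136285 = n209302 := rfl
theorem F453111 : act 3 n209302 = n157243 := d6_1 D209302 (iv5 F410926) F410923
theorem F453112 : act 6 n209302 = n199895 := d12_2 D136285 D209302 (iv5 D199895) (iv6 D111968) (iv5 F99664)
theorem F453113 : act 0 n187353 = n209302 := d21_1 (iv5 F443534) (iv5 D209302) (iv6 D136285) (iv1 F99665) D111958 (iv5 F365093) (iv1 F425698) (iv5 D202812) D202813 F443533
def n209303 : Q := act 4 n136288
theorem D209303 : act 4 n136288 = n209303 := rfl
theorem F453114 : act 3 n209303 = n195305 := d5_1 D209303 F396650 (iv3 F165266) D107277 F382053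
theorem F453115 : act 7 n209303 = n195448 := d11_2 (iv7 F382051) D209303 F397010
theorem F453116 : act 0 n209303 = n195559 := d18_2 D136288 D209303 F397347 (iv5 F390456) F383423 (iv0 D175202) (iv4 F335525) F339746 F110939
theorem F453117 : act 0 n198386 = n209303 := d20_1 (iv4 F407839) (iv4 D209303) (iv3 F382053) (iv1 F165333) (iv3 F350558) F350559 D107309 F380546 (iv3 F391449) (iv1 F391453)
def n209304 : Q := act 5 n136288
theorem D209304 : act 5 n136288 = n209304 := rfl
theorem F453118 : act 2 n209304 = n190339 := d2_1 D209304 (iv5 F379517) F382052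
theorem F453119 : act 3 n209304 = n196756 := d6_1 D209304 (iv5 D196756) F382053
theorem F453120 : act 7 n209304 = n190338 := d13_2 (iv7 F382051) D209304 (iv5 F382001)
theorem F453121 : act 1 n209304 = n190341 := d17_8 F436415 F321813 D167351 (iv5 F392668) (iv4 D194287) F319848 F219372 D209304 (iv4 F436412)
theorem F453122 : act 0 n209304 = n190334 := d21_1 D209304 (iv5 F379439) (iv6 F379507) (iv1 F214389) F344603 (iv5 D64065) (iv1 D30198) D30200 D64073 D136288
theorem F453123 : act 6 n201587 = n209304 := d21_3 D97112 D190980 (iv5 F421044) F453122 (iv6 D190334) D190333 (iv1 F379435) F381795 (iv6 D190979) (iv1 D97111)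
theorem F453124 : act 0 n201587 = n207930 := d21_4 F110939 D136288 D209304 (iv6 F453123) F447038 (iv5 F346943) (iv1 D99811) (iv5 F137114) F357196 (iv1 D155963)
def n209305 : Q := act 6 n136289
theorem D209305 : act 6 n136289 = n209305 := rfl
theorem F453125 : act 2 n209305 = n206053 := d3_1 D209305 (iv6 D206053) (iv2 F382048)
theorem F453126 : act 3 n209305 = n162704 := d7_1 D209305 F385933 (iv3 F385932)
theorem F453127 : act 5 n209305 = n162703 := d12_1 D209305 F382044 (iv5 D191060) D191061 F382047
def n209306 : Q := act 4 n136292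
theorem D209306 : act 4 n136292 = n209306 := rfl
theorem F453128 : act 2 n209306 = n209297 := d1_1 D209306 (iv4 D209297) (iv2 F219351)
theorem F453129 : act 3 n209306 = n141115 := d5_1 D209306 (iv4 D141115) (iv3 F325833) D77153 (iv3 F359248)
theorem F453130 : act 6 n209306 = n204269 := d10_2 (iv6 F359249) D209306 F431768
theorem F453131 : act 7 n209306 = n204817 := d11_2 (iv7 F220407) D209306 F433691
theorem F453132 : act 5 n209306 = n209251 := d16_1 D209306 (iv4 D209251) (iv5 D136015) F99487 D107510 (iv4 F169739) D198677 F408841 (iv2 F219351)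
theorem F453133 : act 0 n209306 = n198543 := d18_2 (iv1 F220410) D209306 (iv4 D198543) (iv5 D109544) (iv4 F80295) D110367 (iv4 F173565) F173551 (iv5 F220409)
theorem F453134 : act 1 n209306 = n198029 := d18_6 (iv1 F169683) F202888 F202887 F173175 D136292 D209306 F408539 F408534 F169731
def n209307 : Q := act 0 n136296
theorem D209307 : act 0 n136296 = n209307 := rfl
theorem F453135 : act 5 n209307 = n194892 := d17_1 D209307 F453080 F453078 (iv4 F429994) (iv5 F435732) F435735 F402621 F358233 F358234
theorem F453136 : act 4 n209307 = n195085 := d20_2 F358234 D209307 F395711 (iv1 F358032) (iv3 F431584) F431585 F417527 (iv4 D200694) (iv3 F411040) (iv1 F358236)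
theorem F453137 : act 6 n209307 = n166679 := d21_5 D111981 (iv1 F363071) F342889 D136296 D209307 (iv5 F443913) (iv1 F443915) (iv5 D163249) (iv6 F326099) (iv1 D111979)
theorem F453138 : act 2 n198617 = n209307 := d15_3 (iv0 D209307) F365913 (iv7 F408553)
theorem F453139 : act 3 n209307 = n194894 := d0_2 D198617 F453138 F394901 (iv3 D109751) (iv2 F169692)
theorem F453140 : act 7 n209307 = n198679 := d4_2 (iv7 F408553) F453138 (iv2 D198679)
theorem F453141 : act 1 n158890 = n209307 := d15_1 (iv0 F365912) F453140 (iv2 D198679)
def n209308 : Q := act 7 n136296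
theorem D209308 : act 7 n136296 = n209308 := rfl
theorem F453142 : act 2 n209308 = n158890 := d4_1 D209308 (iv7 F300938) (iv2 F354538)
theorem F453143 : act 3 n209308 = n176830 := d8_1 D209308 (iv7 F354540) F349713
theorem F453144 : act 4 n209308 = n181141 := d11_1 D209308 (iv7 F358230) F358234
theorem F453145 : act 5 n209308 = n194947 := d13_1 D209308 F395135 (iv5 F349714)
theorem F453146 : act 6 n209308 = n158888 := d14_1 D209308 F250174 (iv6 F326184) (iv7 F173968) D136296
theorem F453147 : act 1 n198679 = n209308 := d15_1 (iv0 F408851) (iv7 D209308) F354538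
theorem F453148 : act 1 n209308 = n198617 := d15_1 F453147 F408553 D198679
def n209309 : Q := act 6 n136297
theorem D209309 : act 6 n136297 = n209309 := rfl
theorem F453149 : act 2 n209309 = n157227 := d3_1 D209309 F407968 (iv2 F407965)
theorem F453150 : act 3 n209309 = n176867 := d7_1 D209309 F276237 (iv3 F326185)
theorem F453151 : act 4 n209309 = n196765 := d10_1 D209309 (iv6 D196765) (iv4 F342886)
theorem F453152 : act 5 n209309 = n176860 := d12_1 D209309 (iv6 D176860) (iv5 D84310) F326186 D136297
theorem F453153 : act 7 n209309 = n193662 := d14_2 F342891 D209309 F402551 (iv7 D196983) F165853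
theorem F453154 : act 0 n209309 = n193723 := d21_10 (iv5 F420312) (iv1 F420316) F340015 F324395 D142469 (iv6 F401445) F401444 (iv1 F173973) D136297 D209309
theorem F453155 : act 0 n193712 = n209309 := d17_0 F453152 (iv1 F416399) (iv5 D200429) (iv4 F360559) D208633 F450265 F401666 F245633 F390754
def n209310 : Q := act 6 n136300
theorem D209310 : act 6 n136300 = n209310 := rfl
theorem F453156 : act 3 n209310 = n142503 := d7_1 D209310 (iv6 D142503) (iv3 F361855)
theorem F453157 : act 4 n209310 = n177058 := d10_1 D209310 (iv6 F410981) F410978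
theorem F453158 : act 7 n209310 = n194341 := d14_2 F413963 D209310 (iv6 D194341) (iv7 F372094) (iv6 F413959)
theorem F453159 : act 0 n209310 = n206337 := d21_4 (iv5 D109299) D109296 F362623 D209310 F440317 F402608 F402542 (iv5 D196982) F165853 F349523
theorem F453160 : act 4 n203646 = n177051 := d20_0 (iv1 D177051) (iv4 F344497) (iv3 F453156) F453159 (iv3 D206337) (iv4 D128325) (iv1 F355177) (iv4 F365669) (iv3 F365670) D203646
def n209311 : Q := act 7 n136303
theorem D209311 : act 7 n136303 = n209311 := rfl
theorem F453161 : act 2 n209311 = n193605 := d4_1 D209311 F390432 (iv2 F366003)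
theorem F453162 : act 3 n209311 = n136310 := d8_1 D209311 (iv7 D136310) (iv3 F219359)
theorem F453163 : act 4 n209311 = n202605 := d11_1 D209311 F424715 (iv4 F382002)
theorem F453164 : act 5 n209311 = n164468 := d13_1 D209311 (iv7 F325809) F325807
theorem F453165 : act 6 n209311 = n142470 := d14_1 D209311 (iv7 F340499) F347200 F173975 D136303
theorem F453166 : act 1 n193606 = n209311 := d15_1 (iv0 F390442) (iv7 D209311) F366003
theorem F453167 : act 1 n209311 = n189162 := d15_1 F453166 F375895 D193606
def n209312 : Q := act 4 n136304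
theorem D209312 : act 4 n136304 = n209312 := rfl
theorem F453168 : act 2 n209312 = n141157 := d1_1 D209312 (iv4 F397259) F397258
theorem F453169 : act 3 n209312 = n141309 := d5_1 D209312 (iv4 F364299) F162140 (iv4 F99683) D136304
theorem F453170 : act 5 n209312 = n194784 := d9_2 (iv5 F219360) D209312 F394465 (iv5 F374506) F374505 (iv5 F354409) (iv4 F414035) F414036 F224302 D141291 F413478 (iv5 D199781) (iv4 D111725) (iv5 F171651) F171650
theorem F453171 : act 7 n209312 = n141290 := d11_2 (iv7 F219361) D209312 F364298
theorem F453172 : act 0 n209312 = n139286 := d17_0 F448838 (iv1 D208306) F336382 F221479 (iv5 F349530) F219321 D199706 (iv0 F413194) D209312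
theorem F453173 : act 1 n209312 = n141288 := d18_6 F382087 F410283 (iv1 D199005) F171650 (iv5 F219360) D209312 F413196 (iv0 F413168) F393049
theorem F453174 : act 6 n192877 = n209312 := d14_5 F453171 (iv6 F365249) F154970 D100867 D192877
def n209313 : Q := act 6 n136304
theorem D209313 : act 6 n136304 = n209313 := rfl
theorem F453175 : act 3 n209313 = n136305 := d7_1 D209313 (iv6 D136305) D136304
theorem F453176 : act 4 n209313 = n192877 := d10_1 D209313 F453174 (iv4 D209312)
theorem F453177 : act 7 n209313 = n192873 := d14_2 (iv7 F219361) D209313 (iv6 D192873) (iv7 F387960) F387959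
theorem F453178 : act 0 n193532 = n209313 := d21_4 (iv5 D47341) D47338 D101869 D193532 (iv6 D209313) F219360 F174183 F390184 (iv6 D193536) F385541
def n209314 : Q := act 0 n136305
theorem D209314 : act 0 n136305 = n209314 := rfl
def n209315 : Q := act 1 n136305
theorem D209315 : act 1 n136305 = n209315 := rfl
theorem F453179 : act 1 n209315 = n194323 := d15_1 D209315 F392827 (iv2 F219362)
theorem F453180 : act 4 n209315 = n195510 := d18_7 (iv1 F438758) (iv4 D193300) D193297 F404840 (iv5 D195401) (iv4 F219363) D209315 F401213 F438761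
theorem F453181 : act 2 n206335 = n209315 := d1_3 F453180 (iv2 F438763) (iv4 F440305)
theorem F453182 : act 7 n209301 = n209315 := d11_0 F453180 (iv7 F438766) (iv4 F453110)
theorem F453183 : act 2 n209301 = n209314 := d15_3 (iv0 D209314) D209315 (iv7 F453182)
theorem F453184 : act 4 n209314 = n195509 := d1_2 (iv4 F453110) F453183 F438767
theorem F453185 : act 7 n209314 = n206335 := d4_2 (iv7 F453182) F453183 F453181
theorem F453186 : act 3 n190080 = n209314 := d8_3 F453185 (iv3 D206335) F378800
theorem F453187 : act 1 n194323 = n209314 := d15_1 F453179 F453185 F453181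
theorem F453188 : act 5 n209314 = n190079 := d6_2 D190080 F453186 (iv3 D190079)
theorem F453189 : act 0 n195488 = n195394 := d20_4 F244798 D155793 (iv4 F331739) (iv3 F397126) F396907 (iv4 F219363) D209314 F453184 (iv3 F438768) (iv1 F397044)
def n209316 : Q := act 5 n136305
theorem D209316 : act 5 n136305 = n209316 := rfl
theorem F453190 : act 2 n209316 = n209302 := d2_1 D209316 (iv5 D209302) (iv2 F219362)
theorem F453191 : act 6 n209316 = n195331 := d12_2 D136305 D209316 (iv5 D195331) (iv6 D105524) (iv5 F99679)
def n209317 : Q := act 7 n136305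
theorem D209317 : act 7 n136305 = n209317 := rfl
theorem F453192 : act 2 n209317 = n194323 := d4_1 D209317 F392827 (iv2 F219362)
theorem F453193 : act 3 n209317 = n192873 := d8_1 D209317 (iv7 F453177) F453175
theorem F453194 : act 4 n209317 = n195402 := d11_1 D209317 (iv7 D195402) (iv4 F219363)
theorem F453195 : act 6 n209317 = n190235 := d14_1 D209317 F379149 F355198 (iv7 F99682) D136305
theorem F453196 : act 1 n206335 = n209317 := d15_1 (iv0 F440306) (iv7 D209317) F219362
theorem F453197 : act 1 n209317 = n209301 := d15_1 F453196 F453182 (iv2 F453181)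
theorem F453198 : act 5 n190234 = n209317 := d12_5 F453195 (iv5 D190235) (iv6 D95756) D95755 D190234
theorem F453199 : act 0 n190234 = n187353 := d21_7 D130544 F416428 F416425 F355180 (iv1 F379151) (iv6 F453195) (iv5 F453198) F443534 (iv6 D207151) (iv1 D130542)
theorem F453200 : act 7 n190234 = n209316 := d15_2 (iv0 F453113) (iv0 F453199) F453190
def n209318 : Q := act 0 n136306
theorem D209318 : act 0 n136306 = n209318 := rfl
theorem F453201 : act 4 n209318 = n196312 := d20_0 (iv1 D196312) (iv4 F396632) F396631 F347238 F162072 (iv4 F93037) F93038 D64081 D136306 D209318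
theorem F453202 : act 1 n195315 = n209318 := d15_0 (iv0 D209318) F219365 (iv2 F396679)
theorem F453203 : act 5 n209318 = n195333 := d17_7 D126699 F336106 (iv1 F203836) (iv5 D126670) (iv4 F162000) D195315 F453202 (iv0 D195333) F162032
theorem F453204 : act 2 n195317 = n209318 := d2_3 F453203 (iv2 F396738) (iv5 F396681)
theorem F453205 : act 7 n195316 = n209318 := d13_0 F453203 (iv7 F396740) (iv5 F438372)
def n209319 : Q := act 1 n136306
theorem D209319 : act 1 n136306 = n209319 := rfl
theorem F453206 : act 7 n209319 = n195317 := d15_2 (iv0 D209318) D209319 F453204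
theorem F453207 : act 5 n209319 = n195334 := d17_7 (iv1 F323661) F331748 F336109 (iv5 F93811) (iv4 F162003) (iv5 F219364) D209319 F396734 (iv4 D141803)
theorem F453208 : act 4 n196311 = n209319 := d20_0 (iv1 D209319) (iv4 F401461) F401459 (iv1 F353087) (iv3 D116109) (iv4 F172148) (iv1 F180901) F94993 (iv3 F164750) D196311
theorem F453209 : act 2 n195316 = n209319 := d2_3 F453207 F396739 (iv5 F438372)
theorem F453210 : act 1 n209319 = n195315 := d15_0 F453202 (iv7 F453205) F453209
def n209320 : Q := act 2 n136306
theorem D209320 : act 2 n136306 = n209320 := rfl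
theorem F453211 : act 3 n209320 = n141351 := d0_2 D136306 D209320 F224390 F102219 (iv2 F99684)
theorem F453212 : act 5 n209320 = n141350 := d2_2 (iv5 F219364) D209320 F224385
theorem F453213 : act 7 n209320 = n195315 := d4_2 (iv7 F219365) D209320 F396679
theorem F453214 : act 1 n209320 = n195316 := d15_0 (iv0 D195316) (iv7 F219365) D209320
theorem F453215 : act 1 n195317 = n209320 := d15_0 F453214 F453205 (iv2 F453204)
def n209321 : Q := act 6 n136306
theorem D209321 : act 6 n136306 = n209321 := rfl
theorem F453216 : act 3 n209321 = n136307 := d7_1 D209321 (iv6 D136307) D136306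
def n209322 : Q := act 1 n136307
theorem D209322 : act 1 n136307 = n209322 := rfl
theorem F453217 : act 1 n209322 = n194291 := d15_1 D209322 F392690 (iv2 F219366)
theorem F453218 : act 7 n209322 = n195518 := d15_2 (iv0 F390459) D209322 (iv2 F397201)
theorem F453219 : act 4 n209322 = n193936 := d18_7 (iv1 F383426) (iv4 F392676) (iv1 F392679) F175182 F110952 (iv4 F219367) D209322 F391452 (iv5 F390456)
theorem F453220 : act 2 n193928 = n209322 := d1_3 F453219 (iv2 D193936) (iv4 F391424)
theorem F453221 : act 5 n202761 = n209322 := d16_1 (iv4 F425459) F453219 F391450 F380541 (iv5 F263489) (iv4 F447670) F447671 (iv7 F425455) F425452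
def n209323 : Q := act 5 n136307
theorem D209323 : act 5 n136307 = n209323 := rfl
theorem F453222 : act 2 n209323 = n195519 := d2_1 D209323 (iv5 D195519) (iv2 F219366)
theorem F453223 : act 6 n209323 = n195324 := d12_2 D136307 D209323 (iv5 D195324) (iv6 D105519) (iv5 F99685)
theorem F453224 : act 4 n209323 = n145128 := d16_2 (iv4 F219367) D209323 (iv5 F228113) (iv4 F392687) (iv5 D194290) (iv4 D103156) D103157 F319855 (iv2 F99689)
theorem F453225 : act 0 n209323 = n150038 := d17_2 (iv1 D209322) D209323 (iv5 F390574) (iv4 D193654) F157060 (iv0 F361279) F173702 F391453 (iv4 F453219)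
theorem F453226 : act 3 n198471 = n209323 := d5_5 F453224 F408616 F408615 (iv3 D198470) D198471
theorem F453227 : act 5 n209321 = n198471 := d6_0 F453226 (iv5 D209323) (iv3 F453216)
def n209324 : Q := act 7 n136307
theorem D209324 : act 7 n136307 = n209324 := rfl
theorem F453228 : act 2 n209324 = n194291 := d4_1 D209324 F392690 (iv2 F219366)
theorem F453229 : act 4 n209324 = n136310 := d11_1 D209324 (iv7 D136310) (iv4 F219367)
theorem F453230 : act 6 n209324 = n195323 := d14_1 D209324 (iv7 D195323) (iv6 D105518) (iv7 F99686) D136307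
theorem F453231 : act 1 n193928 = n209324 := d15_1 (iv0 F391446) (iv7 D209324) F219366
theorem F453232 : act 1 n209324 = n195518 := d15_1 F453231 (iv7 F453218) (iv2 F453220)
def n209325 : Q := act 4 n136308
theorem D209325 : act 4 n136308 = n209325 := rfl
theorem F453233 : act 2 n209325 = n209303 := d1_1 D209325 (iv4 D209303) (iv2 F382052)
theorem F453234 : act 3 n209325 = n144445 := d5_1 D209325 (iv4 F425007) F425006 (iv4 D194052) (iv3 F385939)
theorem F453235 : act 7 n209325 = n144431 := d11_2 (iv7 F382050) D209325 (iv4 F397012)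
theorem F453236 : act 5 n209325 = n144432 := d18_4 (iv1 D209322) F219367 D136308 D209325 F227233 (iv0 F312680) (iv4 F434670) (iv0 F434672) F453221
theorem F453237 : act 0 n195367 = n209325 := d20_1 (iv4 F396832) (iv4 D209325) F385939 (iv1 D102613) (iv3 D47593) (iv4 D22885) (iv1 F35413) D47541 D102488 F367642
def n209326 : Q := act 6 n136312
theorem D209326 : act 6 n136312 = n209326 := rfl
theorem F453238 : act 2 n209326 = n195559 := d3_1 D209326 (iv6 D195559) F364294
theorem F453239 : act 4 n209326 = n193935 := d10_1 D209326 (iv6 F414209) F414208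
theorem F453240 : act 7 n209326 = n198386 := d14_2 (iv7 F364293) D209326 (iv6 D198386) F169251 D136315
theorem F453241 : act 1 n195448 = n209326 := d15_1 (iv0 F397011) F453240 F407838
theorem F453242 : act 1 n209326 = n209325 := d15_1 F453241 F453235 (iv2 F397009)
def n209327 : Q := act 5 n136316
theorem D209327 : act 5 n136316 = n209327 := rfl
theorem F453243 : act 2 n209327 = n206590 := d2_1 D209327 F441459 F421976
theorem F453244 : act 7 n209327 = n206591 := d13_2 (iv7 F421975) D209327 F441463
theorem F453245 : act 0 n209327 = n195259 := d17_2 (iv1 F421977) D209327 (iv5 D195259) F161917 D128620 (iv0 F362934) F395753 F400030 (iv4 F421968)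
theorem F453246 : act 4 n209327 = n188917 := d17_4 F441451 (iv5 F421969) (iv1 F421977) D209327 (iv5 F375198) (iv0 F178435) (iv5 F114203) D159353 (iv4 F441452)
theorem F453247 : act 1 n209327 = n206585 := d17_8 F419777 (iv5 D201269) (iv1 F214481) (iv5 F251162) F343929 (iv5 D136318) D136316 D209327 F441438
theorem F453248 : act 6 n209327 = n201390 := d21_9 (iv5 F419216) (iv1 F419218) (iv5 D114915) F83738 D76230 D159361 (iv5 F421969) (iv1 F421977) D209327 F420300
def n209328 : Q := act 5 n136317
theorem D209328 : act 5 n136317 = n209328 := rfl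
theorem F453249 : act 2 n209328 = n136318 := d2_1 D209328 (iv5 D136318) D136317
theorem F453250 : act 4 n209328 = n195872 := d9_1 D209328 F398555 (iv4 F444659) F444660 (iv4 D206466) F206938 (iv4 F179206) F343927 F179170 F114335 (iv4 F209144) (iv5 F425882) F425881 F207286 (iv4 F219385)
theorem F453251 : act 7 n209328 = n159361 := d13_2 F421971 D209328 (iv5 F421969)
theorem F453252 : act 1 n209328 = n201777 := d17_6 D128617 D206445 (iv1 F440844) F207286 (iv4 F219385) D209328 (iv5 F421772) (iv0 F212821) F161917
theorem F453253 : act 0 n209328 = n201780 := d18_0 (iv4 D201780) (iv1 D115056) (iv4 F179167) D201774 (iv4 F421759) (iv0 F440683) F440682 F421973 D209328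
theorem F453254 : act 6 n201801 = n209328 := d21_5 F440504 (iv1 D200788) D200789 (iv6 F441851) F441855 (iv5 D209328) (iv1 F421973) (iv5 F441463) (iv6 F441466) (iv1 F440507)
def n209329 : Q := act 6 n136317
theorem D209329 : act 6 n136317 = n209329 := rfl
theorem F453255 : act 2 n209329 = n136319 := d3_1 D209329 (iv6 D136319) D136317
theorem F453256 : act 3 n209329 = n189773 := d7_1 D209329 (iv6 F421958) F421956
theorem F453257 : act 4 n209329 = n180815 := d10_1 D209329 F362768 (iv4 F219385)
theorem F453258 : act 7 n209329 = n190795 := d14_2 F421971 D209329 (iv6 F417908) F417905 (iv6 F421970)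
theorem F453259 : act 5 n207064 = n209329 := d21_2 (iv5 D207066) D207064 (iv6 D209329) (iv1 F421973) (iv6 F445720) F445722 F442934 (iv5 F437728) F437729 F443175
theorem F453260 : act 6 n207911 = n207064 := d12_0 F453259 (iv6 D209329) D209328 (iv6 F453254) (iv5 F446961)
theorem F453261 : act 7 n207632 = n207064 := d13_0 F453259 F453258 (iv5 F445772)
theorem F453262 : act 0 n207792 = n209329 := d21_1 (iv5 F446461) (iv5 F453259) (iv6 F453260) (iv1 F446963) (iv6 D159854) F114705 F82912 (iv5 F106096) D148768 F409753
def n209330 : Q := act 6 n136318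
theorem D209330 : act 6 n136318 = n209330 := rfl
theorem F453263 : act 2 n209330 = n201801 := d3_1 D209330 F453254 F453249
theorem F453264 : act 3 n209330 = n136320 := d7_1 D209330 (iv6 D136320) (iv3 F219387)
theorem F453265 : act 4 n209330 = n195875 := d10_1 D209330 F398572 F343929
theorem F453266 : act 7 n209330 = n159363 := d14_2 (iv7 F343928) D209330 (iv6 D159363) F114216 D115064
theorem F453267 : act 1 n201794 = n209330 := d15_1 (iv0 F426361) F453266 F250893
theorem F453268 : act 0 n201791 = n209330 := d18_2 D115060 D201791 F453265 F398571 F217988 (iv0 F445779) F445776 F325507 F114457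
def n209331 : Q := act 1 n136319
theorem D209331 : act 1 n136319 = n209331 := rfl
theorem F453269 : act 1 n209331 = n190795 := d15_1 D209331 (iv7 F453258) F453255
theorem F453270 : act 4 n209331 = n206644 := d18_7 F441506 F417589 (iv1 F381034) F202936 F362766 (iv4 F219389) D209331 (iv0 F441719) (iv5 F441505)
theorem F453271 : act 2 n207792 = n209331 := d1_3 F453270 (iv2 F441767) (iv4 F446460)
def n209332 : Q := act 5 n136319
theorem D209332 : act 5 n136319 = n209332 := rfl
theorem F453272 : act 2 n209332 = n207064 := d2_1 D209332 F453259 F453255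
theorem F453273 : act 3 n209332 = n136321 := d6_1 D209332 (iv5 D136321) (iv3 F219388)
theorem F453274 : act 7 n209332 = n195267 := d16_8 F445771 F418796 (iv4 F417924) F417925 F202936 F362766 (iv4 F219389) D209332 (iv2 F445769)
theorem F453275 : act 0 n207065 = n209332 := d21_7 D206940 F442669 (iv5 D206585) D206586 (iv1 F441442) F437417 F443169 (iv5 D209332) (iv6 D136319) F207677
theorem F453276 : act 4 n209332 = n209049 := d20_2 (iv4 F443168) F453275 F452018 (iv1 F218132) F378535 (iv4 F441392) (iv1 F441394) (iv4 F452114) F452113 F418660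
theorem F453277 : act 1 n206981 = n209332 := d18_6 (iv1 D110786) F80544 D106801 (iv4 F354467) (iv5 F365945) (iv4 F442832) F453276 F452021 (iv5 D198977)
def n209333 : Q := act 7 n136319
theorem D209333 : act 7 n136319 = n209333 := rfl
theorem F453278 : act 2 n209333 = n190795 := d4_1 D209333 (iv7 F453258) F453255
theorem F453279 : act 3 n209333 = n136322 := d8_1 D209333 (iv7 D136322) (iv3 F219388)
theorem F453280 : act 4 n209333 = n190792 := d11_1 D209333 F381091 (iv4 F219389)
theorem F453281 : act 5 n209333 = n195267 := d13_1 D209333 (iv7 F453274) (iv5 D209332)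
theorem F453282 : act 6 n209333 = n146878 := d14_1 D209333 F417902 (iv6 F417901) F179207 D136319
theorem F453283 : act 1 n207792 = n209333 := d15_1 (iv0 F453262) (iv7 D209333) (iv2 F453255)
def n209334 : Q := act 1 n136320
theorem D209334 : act 1 n136320 = n209334 := rfl
theorem F453284 : act 7 n209334 = n201737 := d15_2 (iv0 F421856) D209334 (iv2 D201737)
theorem F453285 : act 2 n201706 = n209334 := d4_3 F453284 (iv2 D201737) (iv7 F421484)
theorem F453286 : act 4 n207717 = n209334 := d11_3 F453284 F421622 (iv7 F446131)
theorem F453287 : act 1 n209334 = n201735 := d15_0 (iv0 D201735) (iv7 F421484) F453285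
theorem F453288 : act 7 n201735 = n195273 := d15_2 D209334 F453287 F396547
theorem F453289 : act 4 n194656 = n201735 := d11_3 F453288 F396548 (iv7 F393978)
theorem F453290 : act 6 n194655 = n201735 := d14_5 F453288 (iv6 D195273) (iv7 F161933) D134160 (iv7 F393972)
def n209335 : Q := act 5 n136320
theorem D209335 : act 5 n136320 = n209335 := rfl
theorem F453291 : act 6 n209335 = n136321 := d12_2 D136320 D209335 (iv5 D136321) (iv6 D64087) D64086
def n209336 : Q := act 7 n136320
theorem D209336 : act 7 n136320 = n209336 := rfl
theorem F453292 : act 2 n209336 = n201735 := d4_1 D209336 F453288 F396547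
theorem F453293 : act 3 n209336 = n159363 := d8_1 D209336 (iv7 F453266) F453264
theorem F453294 : act 4 n209336 = n136680 := d11_1 D209336 (iv7 D136680) (iv4 F219390)
theorem F453295 : act 6 n209336 = n159362 := d14_1 D209336 F250892 (iv6 F343924) F161935 D136320
theorem F453296 : act 1 n201706 = n209336 := d15_1 (iv0 F421488) (iv7 D209336) (iv2 F396547)
theorem F453297 : act 1 n209336 = n201737 := d15_1 F453296 (iv7 F453284) (iv2 F453285)
def n209337 : Q := act 4 n136321
theorem D209337 : act 4 n136321 = n209337 := rfl
theorem F453298 : act 3 n209337 = n205799 := d5_1 D209337 F437907 (iv3 F452018) (iv4 F453276) F453273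
theorem F453299 : act 5 n209337 = n206783 := d9_2 D136321 D209337 F442181 (iv5 F351661) F168982 (iv5 F168997) (iv4 F211898) D207741 F446211 (iv5 F442237) F442232 (iv5 D197065) F165982 F79700 (iv4 F99700)
theorem F453300 : act 0 n209337 = n207075 := d18_2 (iv1 F219392) D209337 F443210 (iv5 D205744) F203557 F168421 (iv4 F93631) F168006 D132684
theorem F453301 : act 1 n209337 = n207077 := d18_6 (iv1 F211747) F211749 (iv1 D64089) (iv4 F99700) D136321 D209337 F443214 F437684 F361164
theorem F453302 : act 7 n209337 = n205796 := d15_2 (iv0 F443211) (iv0 F453300) F437891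
def n209338 : Q := act 7 n136321
theorem D209338 : act 7 n136321 = n209338 := rfl
theorem F453303 : act 2 n209338 = n207741 := d4_1 D209338 F446210 F407079
theorem F453304 : act 3 n209338 = n195267 := d8_1 D209338 (iv7 F453274) F453273
theorem F453305 : act 4 n209338 = n205796 := d11_1 D209338 (iv7 F453302) (iv4 D209337)
theorem F453306 : act 5 n209338 = n136322 := d13_1 D209338 (iv7 D136322) D136321
theorem F453307 : act 1 n205752 = n209338 := d15_1 (iv0 F437710) (iv7 D209338) (iv2 F407079)
theorem F453308 : act 1 n209338 = n205749 := d15_1 F453307 F437691 (iv2 F437707)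
theorem F453309 : act 6 n209338 = n195265 := d21_3 (iv5 D200091) (iv1 F219397) (iv5 F453306) F437624 F437621 (iv5 D205656) (iv1 D126499) D126501 D205662 (iv1 F437382)
def n209339 : Q := act 1 n136324
theorem D209339 : act 1 n136324 = n209339 := rfl
theorem F453310 : act 7 n209339 = n193021 := d15_2 (iv0 F421886) D209339 F388531
theorem F453311 : act 4 n193024 = n209339 := d20_0 (iv1 D209339) F219403 (iv3 F219667) F367395 F154640 (iv4 F154642) D192728 F387608 F373175 (iv1 F388542)
theorem F453312 : act 2 n209339 = n201743 := d1_1 F453311 F421641 (iv2 F388540)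
def n209340 : Q := act 7 n136324
theorem D209340 : act 7 n136324 = n209340 := rfl
theorem F453313 : act 4 n209340 = n136594 := d11_1 D209340 (iv7 D136594) (iv4 F219403)
theorem F453314 : act 5 n209340 = n201809 := d13_1 D209340 F421862 F421852
theorem F453315 : act 1 n201743 = n209340 := d15_1 F421644 (iv7 D209340) (iv2 F396485)
theorem F453316 : act 1 n209340 = n193021 := d15_1 F453315 (iv7 F453310) F453312
def n209341 : Q := act 4 n136325
theorem D209341 : act 4 n136325 = n209341 := rfl
theorem F453317 : act 0 n209341 = n207814 := d17_0 F446571 (iv1 D192477) F154147 (iv4 F384568) (iv5 F404035) (iv0 D129106) D129108 (iv0 F219404) D209341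
def n209342 : Q := act 6 n136330
theorem D209342 : act 6 n136330 = n209342 := rfl
theorem F453318 : act 2 n209342 = n201788 := d3_1 D209342 F421803 F421665
theorem F453319 : act 3 n209342 = n136333 := d7_1 D209342 (iv6 D136333) D136330
theorem F453320 : act 4 n209342 = n159855 := d10_1 D209342 F252007 F333539
theorem F453321 : act 5 n209342 = n159356 := d12_1 D209342 (iv6 D159356) F114205 D159339 F343648
theorem F453322 : act 0 n148737 = n209342 := d21_4 (iv5 F114445) (iv1 F114446) F106082 D148737 (iv6 D209342) (iv5 F343648) (iv1 F421895) F421893 F322891 F106083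
theorem F453323 : act 7 n200928 = n209342 := d13_0 F453321 (iv7 F421219) F421218
def n209343 : Q := act 5 n136331
theorem D209343 : act 5 n136331 = n209343 := rfl
theorem F453324 : act 2 n209343 = n196078 := d2_1 D209343 (iv5 D196078) (iv2 F330454)
theorem F453325 : act 3 n209343 = n203664 := d6_1 D209343 F429310 F417360
theorem F453326 : act 6 n209343 = n195967 := d12_2 (iv6 F396111) D209343 F398881 F342949 D195177
theorem F453327 : act 4 n209343 = n195969 := d17_4 (iv1 F399227) F399224 (iv1 F399219) D209343 F398902 F398963 F398960 F164409 (iv4 F398938)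
theorem F453328 : act 1 n209343 = n196211 := d17_6 (iv1 D132217) (iv5 F208193) F377476 (iv5 D136332) D136331 D209343 F399907 F446014 (iv4 D207687)
theorem F453329 : act 0 n209343 = n196235 := d18_0 F400003 (iv1 F447302) (iv4 D207989) (iv5 D132995) (iv4 F213628) (iv0 F445414) (iv4 D207550) (iv0 F396126) D209343
theorem F453330 : act 0 n201134 = n200958 := d21_4 (iv5 F384035) F179038 (iv5 F179039) D201134 F418502 (iv5 F399907) (iv1 F453328) (iv5 D209343) F396111 F396106
def n209344 : Q := act 4 n136332
theorem D209344 : act 4 n136332 = n209344 := rfl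
theorem F453331 : act 2 n209344 = n188922 := d1_1 D209344 F442502 (iv2 F442504)
theorem F453332 : act 3 n209344 = n188831 := d5_1 D209344 F375029 F143188 (iv4 F250837) (iv3 F343649)
theorem F453333 : act 6 n209344 = n188829 := d10_2 F343650 D209344 F375021
def n209345 : Q := act 5 n136335
theorem D209345 : act 5 n136335 = n209345 := rfl
theorem F453334 : act 3 n209345 = n136337 := d6_1 D209345 (iv5 D136337) D136335
theorem F453335 : act 7 n209345 = n188915 := d13_2 F441417 D209345 F441420
theorem F453336 : act 4 n209345 = n188920 := d16_2 (iv4 F441356) D209345 F375208 (iv4 F443933) (iv5 F443934) (iv4 F436617) (iv5 F441270) F441271 F441360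
def n209346 : Q := act 6 n136335
theorem D209346 : act 6 n136335 = n209346 := rfl
theorem F453337 : act 3 n209346 = n136338 := d7_1 D209346 (iv6 D136338) D136335
theorem F453338 : act 4 n209346 = n206114 := d10_1 D209346 F452112 (iv4 F441356)
theorem F453339 : act 0 n207735 = n209346 := d18_0 F453338 (iv1 D206114) (iv4 F439261) (iv5 F439262) F383989 D191641 (iv4 F447084) (iv0 D207941) (iv5 F446186)
theorem F453340 : act 0 n209346 = n191657 := d20_1 (iv4 F453338) F384066 (iv3 D98619) F72676 D89194 (iv4 F368053) F368057 F364577 (iv3 F441810) (iv1 F441813)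
def n209347 : Q := act 5 n136336
theorem D209347 : act 5 n136336 = n209347 := rfl
theorem F453341 : act 3 n209347 = n191204 := d6_1 D209347 F382563 F330448
theorem F453342 : act 7 n209347 = n196078 := d13_2 (iv7 F330449) D209347 (iv5 D196078)
theorem F453343 : act 1 n209347 = n196235 := d17_8 (iv1 F447302) F447300 (iv1 F399632) F399629 (iv4 F399223) F399224 F399220 D209347 F400003
theorem F453344 : act 0 n209347 = n196211 := d18_0 F399906 F399822 (iv4 F400072) (iv5 D196253) (iv4 F396558) (iv0 F445511) (iv4 D207573) F399220 D209347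
def n209348 : Q := act 6 n136336
theorem D209348 : act 6 n136336 = n209348 := rfl
theorem F453345 : act 3 n209348 = n196087 := d7_1 D209348 (iv6 D196087) F330448
theorem F453346 : act 4 n209348 = n136338 := d10_1 D209348 (iv6 D136338) D136336
theorem E103956 : n207056 = n136338 := ((c20_7 F164190 (iv1 F77842) D61947 D132004 (iv1 F417144) (iv3 F453345) F453346 (iv1 D207056) (iv4 F332791) F202289 (iv1 F332788))).symm
theorem F453347 : act 0 n136338 = n129849 := (sb E103956 (iv1 D207056))
theorem F453348 : act 5 n200607 = n209348 := d6_0 F453345 (iv5 F399469) D200607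
def n209349 : Q := act 4 n136337
theorem D209349 : act 4 n136337 = n209349 := rfl
theorem F453349 : act 3 n209349 = n188927 := d5_1 D209349 F375212 (iv3 F375207) (iv4 F453336) F453334
theorem F453350 : act 7 n209349 = n188922 := d11_2 (iv7 F442505) D209349 F442502
def n209350 : Q := act 1 n136338
theorem D209350 : act 1 n136338 = n209350 := rfl
theorem F453351 : act 1 n209350 = n207055 := d15_1 D209350 (iv7 F446828) F446827
theorem F453352 : act 7 n209350 = n207057 := d15_2 (iv0 F453347) D209350 (iv2 D207057)
theorem F453353 : act 4 n196261 = n209350 := d20_0 (iv1 D209350) (iv4 F453346) F453345 F436031 (iv3 F445498) F445499 (iv1 F338310) (iv4 F213652) F359009 (iv1 F400089)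
theorem F453354 : act 3 n206734 = n209350 := d20_3 F439268 (iv1 F422131) (iv4 F442001) (iv1 D209350) (iv3 F453337) F453338 (iv1 D206114) (iv4 F439261) F439260 D206103
theorem F453355 : act 6 n187785 = n209350 := d21_3 F446025 (iv1 D187783) D187785 (iv1 D209350) (iv6 D136338) D136337 (iv1 F373566) F208193 D132219 D207691
theorem F453356 : act 2 n209350 = n206973 := d3_1 F453355 (iv6 D206973) (iv2 F374829)
theorem F453357 : act 5 n209350 = n159582 := d12_1 F453355 (iv6 D159582) F114459 (iv6 F139386) D187785
def n209351 : Q := act 5 n136338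
theorem D209351 : act 5 n136338 = n209351 := rfl
theorem F453358 : act 4 n209351 = n207196 := d16_6 D207198 (iv5 F443837) (iv4 F417178) F453348 F453346 D209351 (iv5 D207196) (iv7 F399668) F399666
theorem F453359 : act 0 n209351 = n207059 := d17_2 (iv1 D209350) D209351 F443148 F437241 (iv5 F359046) (iv0 D182328) (iv5 F359002) D196261 F453353
theorem F453360 : act 3 n207728 = n209351 := d20_5 (iv4 D108983) F165662 (iv4 F164308) D132249 D207728 F453358 F443752 (iv4 F414962) (iv3 D200086) F175210
theorem F453361 : act 5 n209346 = n207728 := d6_0 F453360 (iv5 D209351) (iv3 F453337)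
theorem F453362 : act 6 n207728 = n206924 := d21_3 (iv5 F446186) F453339 F453361 (iv1 F442623) F418903 F343594 D129123 F217904 D135499 F384038
theorem F453363 : act 7 n206877 = n207728 := d14_0 F453362 F446006 (iv6 D207685) (iv7 F418668) D206877
def n209352 : Q := act 7 n136338
theorem D209352 : act 7 n136338 = n209352 := rfl
theorem F453364 : act 2 n209352 = n207055 := d4_1 D209352 (iv7 F446828) F446827
theorem F453365 : act 6 n209352 = n201727 := d14_1 D209352 F421580 F419192 F330451 D136338
def n209353 : Q := act 4 n136340
theorem D209353 : act 4 n136340 = n209353 := rfl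
theorem F453366 : act 6 n209353 = n199107 := d10_2 F421585 D209353 (iv4 F421576)
theorem F453367 : act 5 n209353 = n199184 := d16_1 D209353 F411067 F398944 (iv4 F398938) (iv5 F442490) (iv4 D206879) F358293 (iv7 F446017) F446016
def n209354 : Q := act 4 n136341
theorem D209354 : act 4 n136341 = n209354 := rfl
theorem F453368 : act 5 n209354 = n206214 := d9_2 F358293 D209354 F439741 F248592 F341616 (iv5 F417738) F417740 F417741 D209353 F453367 F411067 F398944 (iv4 F398938) (iv5 F442490) (iv4 D206879)
def n209355 : Q := act 0 n136342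
theorem D209355 : act 0 n136342 = n209355 := rfl
theorem F453369 : act 5 n209355 = n208825 := d17_1 D209355 F451015 F405845 (iv4 F443091) F443092 F211835 F417741 (iv0 D136340) D136342
theorem F453370 : act 1 n203797 = n209355 := d15_0 (iv0 D209355) (iv7 F446110) F446108
theorem F453371 : act 2 n204569 = n209355 := d2_3 F453369 (iv2 F451018) (iv5 F432900)
theorem F453372 : act 3 n208826 = n209355 := d6_3 F453369 (iv3 D208825) D208826
theorem F453373 : act 6 n197151 = n209355 := d12_0 F453369 F451017 (iv5 D195917) (iv6 F166494) D197151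
theorem F453374 : act 7 n204570 = n209355 := d13_0 F453369 F451014 (iv5 F432902)
def n209356 : Q := act 1 n136342
theorem D209356 : act 1 n136342 = n209356 := rfl
theorem F453375 : act 1 n209356 = n203797 := d15_1 D209356 F429860 (iv2 F366024)
theorem F453376 : act 7 n209356 = n204569 := d15_2 (iv0 D209355) D209356 F453371
theorem F453377 : act 5 n209356 = n201324 := d18_9 F420020 F371938 D187957 (iv4 F411067) (iv5 F453367) (iv4 D209353) (iv0 D136340) D136342 D209356
theorem F453378 : act 2 n204570 = n209356 := d2_3 F453377 F420017 (iv5 F432902)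
def n209357 : Q := act 3 n136343
theorem D209357 : act 3 n136343 = n209357 := rfl
theorem F453379 : act 4 n209357 = n208353 := d5_2 (iv4 F388442) D209357 F449050 (iv4 D193051) F388441
theorem F453380 : act 5 n209357 = n206893 := d6_2 (iv5 F355281) D209357 (iv3 D206893)
theorem F453381 : act 0 n206906 = n209357 := d20_4 F446384 (iv1 F434616) F434612 D206906 (iv3 D209357) F388442 (iv1 D192987) D192988 (iv3 F388446) (iv1 F446386)
theorem F453382 : act 2 n208354 = n209357 := d2_3 F453380 F446053 (iv5 F449055)
def n209358 : Q := act 6 n136343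
theorem D209358 : act 6 n136343 = n209358 := rfl
theorem F453383 : act 4 n209358 = n194691 := d10_1 D209358 F394103 (iv4 F388442)
theorem F453384 : act 0 n209358 = n206921 := d21_4 (iv5 F355287) (iv1 F211848) (iv5 F355281) D209358 (iv6 D206921) D206920 F442613 (iv5 D192972) (iv6 F236269) (iv1 F355370)
def n209359 : Q := act 3 n136344
theorem D209359 : act 3 n136344 = n209359 := rfl
theorem F453385 : act 4 n209359 = n208653 := d5_2 (iv4 F347619) D209359 (iv3 F450682) F450683 F431484
theorem F453386 : act 5 n209359 = n206892 := d6_2 F355266 D209359 (iv3 D206892)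
theorem F453387 : act 0 n209359 = n206907 := d19_4 (iv1 F201291) D149197 (iv4 F347619) D209359 (iv5 F446595) F446594 (iv3 F437750) F437749 F437221 F432854 (iv3 D124003) (iv1 F198400) F303324 (iv4 D85864) D85863 (iv1 F338829) (iv5 D177819) D177818 (iv3 F342033)
theorem F453388 : act 0 n206964 = n146866 := d21_4 (iv5 D129145) (iv1 F96840) (iv5 F207833) D206964 (iv6 F442533) (iv5 F453386) F453387 (iv5 F446595) (iv6 D207821) (iv1 F212469)
theorem F453389 : act 2 n208654 = n209359 := d2_3 F453386 (iv2 F450329) (iv5 F450343)
theorem F453390 : act 6 n195876 = n209359 := d21_5 (iv5 D207769) (iv1 F212429) F398418 F398417 D195876 F453386 F450596 (iv5 F446947) (iv6 D207906) (iv1 F446346)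
def n209360 : Q := act 6 n136344
theorem D209360 : act 6 n136344 = n209360 := rfl
theorem F453391 : act 3 n209360 = n195876 := d7_1 D209360 F453390 (iv3 D209359)
theorem F453392 : act 0 n206919 = n209360 := d20_4 (iv4 F343919) (iv1 F285857) (iv4 F383482) D206919 F453391 F426186 (iv1 D202916) (iv4 F388495) (iv3 D193003) (iv1 F362782)
def n209361 : Q := act 3 n136346
theorem D209361 : act 3 n136346 = n209361 := rfl
theorem F453393 : act 2 n209361 = n206298 := d0_1 D209361 (iv3 F440134) (iv2 F434425) (iv3 F434427) (iv2 F354223)
theorem F453394 : act 5 n209361 = n206308 := d6_2 (iv5 F354222) D209361 F440179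
theorem F453395 : act 7 n209361 = n154284 := d8_2 (iv7 F354221) D209361 F336350
theorem F453396 : act 4 n209361 = n154285 := d20_6 F78592 (iv1 F47479) D30212 D64101 D136346 D209361 (iv1 F336379) F166262 (iv3 D49736) (iv1 F78591)
theorem F453397 : act 1 n205034 = n209361 := d17_8 (iv1 F336379) (iv5 F172561) F411851 (iv5 D199360) D199359 F411844 F241893 (iv5 F434711) F453396
theorem F453398 : act 0 n153914 = n209361 := d18_0 F453396 (iv1 F336379) F166262 D107658 F329468 F198069 (iv4 F342698) (iv0 D153912) D153914
def n209362 : Q := act 4 n136346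
theorem D209362 : act 4 n136346 = n209362 := rfl
theorem F453399 : act 1 n209362 = n176154 := d18_6 (iv1 D181802) D181803 (iv1 F361356) (iv4 F278426) (iv5 F354222) D209362 F275400 D176156 (iv5 F344809)
def n209363 : Q := act 6 n136346
theorem D209363 : act 6 n136346 = n209363 := rfl
theorem F453400 : act 0 n203035 = n209363 := d21_4 (iv5 F366898) F347647 F332128 (iv6 F426724) (iv6 D209363) F354222 (iv1 F451238) F451236 F421004 F421002
def n209364 : Q := act 4 n136347
theorem D209364 : act 4 n136347 = n209364 := rfl
theorem F453401 : act 6 n209364 = n193425 := d10_2 F337653 D209364 F389805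
theorem F453402 : act 0 n209364 = n176154 := d18_2 F354148 D209364 F275400 F300824 F132306 D167565 (iv4 F342688) F263826 F354147
theorem F453403 : act 3 n209364 = n208158 := d19_3 (iv1 F451239) F348512 D209364 (iv1 F448161) (iv5 F359641) (iv4 F373216) (iv3 F404793) (iv1 F405142) (iv5 D197639) (iv4 F329727) F329726 (iv1 F111903) (iv5 F221509) (iv4 F337089) F332442 (iv1 F330060) F330061 F230934 (iv3 F451234)
def n209365 : Q := act 3 n136350
theorem D209365 : act 3 n136350 = n209365 := rfl
theorem F453404 : act 2 n209365 = n163201 := d0_1 D209365 F257486 (iv2 F309184) F318747 F219435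
theorem F453405 : act 4 n209365 = n205990 := d5_2 (iv4 F219434) D209365 (iv3 D205990) (iv4 D126913) (iv3 F112186)
theorem F453406 : act 5 n209365 = n152160 := d6_2 (iv5 F328955) D209365 F353874
theorem F453407 : act 6 n209365 = n163199 := d7_2 F338785 D209365 (iv3 F338782)
theorem F453408 : act 7 n209365 = n197101 := d8_2 (iv7 F219433) D209365 (iv3 D197101)
theorem F453409 : act 0 n203656 = n209365 := d20_4 F336305 D184347 F364280 (iv3 F429262) (iv3 D209365) F219434 (iv1 F112190) D105608 F329466 D128116
theorem F453410 : act 1 n203657 = n209365 := d15_0 (iv0 F453409) (iv7 F429264) (iv2 F429267)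
def n209366 : Q := act 3 n136354
theorem D209366 : act 3 n136354 = n209366 := rfl
theorem F453411 : act 7 n209366 = n192550 := d8_2 (iv7 F433561) D209366 (iv3 F433553)
theorem F453412 : act 4 n209366 = n156459 := d20_6 (iv4 D14345) D14343 D30214 D64106 D136354 D209366 (iv1 D156459) F111661 (iv3 D64116) (iv1 D30218)
theorem F453413 : act 1 n208840 = n209366 := d18_6 (iv1 F252177) F332263 (iv1 D71455) (iv4 F107996) D151578 (iv4 F451069) F453412 F245978 F365415
def n209367 : Q := act 4 n136354
theorem D209367 : act 4 n136354 = n209367 := rfl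
theorem F453414 : act 3 n209367 = n178650 := d5_1 D209367 F332251 F332254 (iv4 F453412) (iv3 D209366)
theorem F453415 : act 5 n209367 = n178649 := d16_1 D209367 (iv4 F405564) (iv5 D197732) (iv4 F216777) D208571 F449947 (iv5 F343267) (iv7 F445862) (iv2 F445865)
theorem F453416 : act 1 n209367 = n137055 := d18_8 F112077 F317014 F405285 F405281 (iv5 F359214) (iv4 F353362) F359221 D209367 (iv5 D137055)
def n209368 : Q := act 4 n136355
theorem D209368 : act 4 n136355 = n209368 := rfl
theorem F453417 : act 3 n209368 = n193692 := d5_1 D209368 F390703 F157088 (iv4 F137270) (iv3 F343227)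
theorem F453418 : act 6 n209368 = n187105 := d10_2 F343226 D209368 (iv4 D187105)
theorem F453419 : act 0 n209368 = n137055 := d17_0 (iv5 D137055) F112077 (iv5 F247050) (iv4 D135912) (iv5 F332958) F332957 (iv5 D136357) D136355 D209368
def n209369 : Q := act 1 n136359
theorem D209369 : act 1 n136359 = n209369 := rfl
theorem F453420 : act 1 n209369 = n199063 := d15_1 D209369 F410516 (iv2 F219454)
theorem F453421 : act 7 n209369 = n199071 := d15_2 (iv0 F221362) D209369 F410536
theorem F453422 : act 4 n209369 = n207680 := d18_7 (iv1 F446985) F446987 F367705 (iv4 F442526) (iv5 D206889) (iv4 F219455) D209369 F445980 (iv5 F444420)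
theorem F453423 : act 5 n207345 = n209369 := d21_6 D54121 (iv1 F328417) (iv5 F328816) D117532 F426409 (iv6 F444444) (iv1 D209369) (iv5 F328433) (iv6 D117436) (iv1 D54119)
theorem F453424 : act 2 n209369 = n199070 := d2_1 F453423 (iv5 F426962) (iv2 F444443)
theorem F453425 : act 6 n204637 = n209369 := d14_5 F453421 (iv6 F410535) F333885 D138168 (iv7 F433094)
def n209370 : Q := act 3 n136369
theorem D209370 : act 3 n136369 = n209370 := rfl
theorem F453426 : act 2 n209370 = n204564 := d0_1 D209370 F432870 F388967 (iv3 F389341) F389356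
theorem F453427 : act 7 n209370 = n204566 := d8_2 (iv7 F389357) D209370 F432886
theorem F453428 : act 4 n209370 = n178660 := d20_6 (iv4 D49897) (iv1 F46395) (iv4 F48609) D64113 D136369 D209370 (iv1 F359216) F218267 (iv3 D132186) F96622
theorem F453429 : act 5 n204219 = n209370 := d9_0 F453428 (iv5 F359220) (iv4 F245623) F350387 F168622 D115784 (iv4 F373202) (iv5 F388949) F388951 F388953 F245625 (iv5 F350391) F337452 D197823 (iv4 F431532)
theorem F453430 : act 1 n136386 = n209370 := d17_8 (iv1 F359216) (iv5 F245443) F246212 (iv5 F349760) (iv4 F432892) F432891 (iv0 D139296) (iv5 F356113) F453428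
theorem F453431 : act 0 n204479 = n209370 := d18_0 F453428 (iv1 F359216) F218267 (iv5 F332961) F171825 D111357 (iv4 F351246) F363104 D204479
def n209371 : Q := act 4 n136369
theorem D209371 : act 4 n136369 = n209371 := rfl
theorem F453432 : act 3 n209371 = n197946 := d20_3 (iv4 F99799) D136369 D209371 F406258 F332224 (iv4 F312964) (iv1 F201133) (iv4 F314352) F247374 (iv1 D128806)
theorem F453433 : act 5 n197943 = n209371 := d6_0 F453432 (iv5 D197946) (iv3 F406255)
def n209372 : Q := act 5 n136369
theorem D209372 : act 5 n136369 = n209372 := rfl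
theorem F453434 : act 2 n209372 = n205093 := d2_1 D209372 F434948 F389356
theorem F453435 : act 3 n209372 = n204219 := d6_1 D209372 F453429 (iv3 D209370)
theorem F453436 : act 7 n209372 = n204565 := d13_2 (iv7 F389357) D209372 F432880
theorem F453437 : act 0 n209372 = n205092 := d17_2 D136369 D209372 (iv5 D205092) F201779 D125511 D205131 (iv5 F435089) (iv0 D128805) (iv4 F99799)
theorem F453438 : act 6 n209209 = n136369 := d21_5 (iv5 F336146) F336144 F100519 D135955 D209209 D209372 F453437 (iv5 D205092) F201780 (iv1 F171412)
theorem F453439 : act 0 n136400 = n209372 := d19_0 (iv5 D209372) D209371 F453432 F406258 (iv5 D111771) (iv4 D51530) F161325 (iv1 F76491) F76488 (iv4 F93082) (iv3 F202195) F362934 (iv5 D128620) (iv4 F161917) (iv3 D105480) (iv1 D48770) D48772 (iv4 F99810) D136400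
def n209373 : Q := act 5 n136371
theorem D209373 : act 5 n136371 = n209373 := rfl
theorem F453440 : act 2 n209373 = n136372 := d2_1 D209373 (iv5 D136372) D136371
theorem F453441 : act 1 n209373 = n199799 := d17_6 (iv1 F219725) F395309 (iv1 F441229) (iv5 D206537) (iv4 F219488) D209373 F413550 (iv0 D136458) F99863
theorem F453442 : act 4 n201549 = n209373 := d18_7 (iv1 F219570) F201779 (iv1 F219721) F219722 D136608 (iv4 F420659) F420923 F453441 F413550
theorem F453443 : act 6 n209373 = n204179 := d21_5 D114812 (iv1 F188646) (iv5 F188645) (iv6 F413553) (iv1 F453441) (iv5 D204179) (iv1 F431334) F431331 (iv6 F391168) F176810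
def n209374 : Q := act 6 n136371
theorem D209374 : act 6 n136371 = n209374 := rfl
theorem F453444 : act 2 n209374 = n136373 := d3_1 D209374 (iv6 D136373) D136371
theorem F453445 : act 3 n209374 = n143125 := d7_1 D209374 (iv6 F445873) F445871
theorem F453446 : act 4 n209374 = n206533 := d10_1 D209374 F441210 (iv4 F219488)
theorem F453447 : act 5 n209374 = n143124 := d12_1 D209374 F431138 D204179 (iv6 F453443) (iv5 D209373)
theorem F453448 : act 0 n209374 = n203001 := d21_4 (iv5 F413550) (iv1 F453441) (iv5 D209373) D209374 F426595 (iv5 D153280) D153278 F351818 (iv6 D136461) D136458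
theorem F453449 : act 1 n209374 = n202999 := d15_1 (iv0 F453448) (iv7 F429648) F429645
def n209375 : Q := act 4 n136372
theorem D209375 : act 4 n136372 = n209375 := rfl
theorem F453450 : act 2 n209375 = n201549 := d1_1 D209375 F453442 F453440
theorem F453451 : act 3 n209375 = n159340 := d5_1 D209375 F377475 F207604 (iv4 F99800) (iv3 F219489)
theorem F453452 : act 7 n209375 = n201550 := d11_2 F219598 D209375 F420919
theorem F453453 : act 0 n209375 = n201551 := d18_2 (iv1 F414315) D209375 (iv4 F435046) (iv5 D205117) (iv4 D125501) (iv0 D58754) (iv4 F92813) D125470 (iv5 F412018)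
theorem F453454 : act 0 n198959 = n209375 := d20_7 F99373 F95515 (iv4 F99795) (iv3 F219485) F219762 (iv3 F435073) F435074 (iv4 D209375) F219489 F99801
theorem F453455 : act 6 n209375 = n209043 := d21_5 (iv5 D52870) (iv1 F83092) D113889 (iv6 F410069) F453454 F451990 (iv1 F218141) (iv5 F419031) (iv6 D201083) (iv1 F177186)
theorem F453456 : act 3 n203369 = n201549 := d0_4 F453451 F398914 D201751 F428068 (iv2 F453450)
def n209376 : Q := act 6 n136372
theorem D209376 : act 6 n136372 = n209376 := rfl
theorem F453457 : act 2 n209376 = n204179 := d3_1 D209376 (iv6 F453443) F453440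
theorem F453458 : act 3 n209376 = n136374 := d7_1 D209376 (iv6 D136374) (iv3 F219489)
theorem F453459 : act 4 n209376 = n209043 := d10_1 D209376 (iv6 F453455) (iv4 D209375)
theorem F453460 : act 5 n209376 = n204170 := d12_1 D209376 F431313 F220641 (iv6 D136373) D136372
theorem F453461 : act 7 n209376 = n204181 := d14_2 F219598 D209376 F431369 F423532 (iv6 F410341)
theorem F453462 : act 0 n209376 = n204472 := d21_4 F373344 F389354 D136372 D209376 F432641 (iv5 D134283) D134281 D208417 F449260 F434946
def n209377 : Q := act 1 n136373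
theorem D209377 : act 1 n136373 = n209377 := rfl
theorem F453463 : act 7 n209377 = n203001 := d15_2 (iv0 F429661) D209377 (iv2 F429645)
theorem F453464 : act 5 n209377 = n202958 := d17_7 (iv1 F230528) F354868 F354863 F231393 (iv4 F328577) F220641 D209377 F426379 F184081
theorem F453465 : act 2 n202999 = n209377 := d2_3 F453464 F426383 D202999
theorem F453466 : act 6 n209377 = n136860 := d21_3 F365528 (iv1 F426379) (iv5 F453464) (iv1 D136860) (iv6 D64337) D64336 F330976 (iv5 F330978) D198933 (iv1 F409961)
def n209378 : Q := act 0 n136374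
theorem D209378 : act 0 n136374 = n209378 := rfl
theorem F453467 : act 5 n209378 = n208527 := d17_3 F337902 F220643 D209378 F449741 (iv5 F382122) (iv0 F420621) F420620 (iv0 F338165) F267777
theorem F453468 : act 6 n209378 = n193029 := d21_5 (iv5 D30220) D30217 D64114 D136374 D209378 F388552 F340134 (iv5 F219510) (iv6 D136403) (iv1 D64124)
theorem F453469 : act 2 n208537 = n209378 := d3_3 F453468 (iv2 F388553) (iv6 F449777)
theorem F453470 : act 3 n193081 = n209378 := d7_3 F453468 F388554 D193081
theorem F453471 : act 4 n206887 = n209378 := d18_3 (iv1 D209369) F219455 D206887 F453467 F449741 (iv0 F439493) F439491 (iv0 F444446) F453423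
theorem F453472 : act 2 n207047 = n206887 := d1_3 F453471 (iv2 F453469) F449779
theorem F453473 : act 7 n206888 = n207047 := d15_2 (iv0 D206887) D206888 F453472
theorem F453474 : act 7 n207048 = n206887 := d15_2 (iv0 D207047) D207048 (iv2 F453472)
theorem F453475 : act 2 n206888 = n207048 := d4_3 F453474 (iv2 F453472) (iv7 F453473)
def n209379 : Q := act 1 n136374
theorem D209379 : act 1 n136374 = n209379 := rfl
theorem F453476 : act 7 n209379 = n208537 := d15_2 (iv0 D209378) D209379 F453469
theorem F453477 : act 5 n203077 = n209379 := d21_6 F328463 (iv1 F99544) (iv5 F328583) D54193 D117648 D203077 (iv1 D209379) (iv5 F220643) (iv6 D137442) (iv1 F328461)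
theorem F453478 : act 4 n206888 = n209379 := d11_3 F453476 F449779 (iv7 F453473)
theorem F453479 : act 3 n204481 = n209379 := d20_5 (iv4 F432642) (iv1 F432643) (iv4 D123874) (iv3 F198320) D204481 (iv4 F453478) (iv1 D206888) (iv4 F219455) (iv3 F341508) (iv1 F410226)
def n209380 : Q := act 7 n136374
theorem D209380 : act 7 n136374 = n209380 := rfl
theorem F453480 : act 3 n209380 = n204181 := d8_1 D209380 (iv7 F453461) F453458
theorem F453481 : act 4 n209380 = n206855 := d11_1 D209380 (iv7 D206855) (iv4 F219492)
theorem F453482 : act 5 n209380 = n204180 := d13_1 D209380 F431366 F220643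
theorem F453483 : act 6 n209380 = n193049 := d14_1 D209380 F388588 (iv6 D136487) (iv7 F99874) D136374
theorem F453484 : act 0 n208537 = n209380 := d21_4 F388448 (iv1 D134602) D134603 (iv6 F449777) F453483 F388589 (iv1 D111064) D111066 D199203 F411149
def n209381 : Q := act 3 n136376
theorem D209381 : act 3 n136376 = n209381 := rfl
theorem F453485 : act 2 n209381 = n208167 := d0_1 D209381 (iv3 D208167) (iv2 F221550) (iv3 F445866) F445879
theorem F453486 : act 1 n209381 = n136381 := d15_0 (iv0 F385483) (iv7 F448206) (iv2 F453485)
def n209382 : Q := act 6 n136376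
theorem D209382 : act 6 n136376 = n209382 := rfl
theorem F453487 : act 2 n209382 = n136883 := d3_1 D209382 (iv6 F445870) F445879
theorem F453488 : act 0 n136878 = n209382 := d21_4 D137338 F225845 (iv5 D136877) D136878 (iv6 D209382) (iv5 F450825) F450826 F219507 F99867 D64557
theorem F453489 : act 7 n136884 = n209382 := d15_2 (iv0 D136883) D136884 F453487
theorem F453490 : act 2 n136884 = n192089 := d4_3 F385516 (iv2 F453487) (iv7 F453489)
theorem F453491 : act 6 n192087 = n136884 := d3_0 F453490 (iv6 D192089) D192087
theorem F453492 : act 1 n136441 = n209382 := d15_1 F385494 (iv7 F453489) F453490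
def n209383 : Q := act 1 n136378
theorem D209383 : act 1 n136378 = n209383 := rfl
theorem F453493 : act 7 n209383 = n208771 := d15_2 (iv0 F431556) D209383 F450793
theorem F453494 : act 5 n209383 = n199369 := d17_7 (iv1 F246450) F352974 (iv1 D123228) F329209 F111661 D136378 D209383 F411883 (iv4 F246445)
theorem F453495 : act 4 n209383 = n208597 := d17_9 F450070 (iv5 F404651) (iv1 F405051) (iv5 F405054) D208779 F450828 (iv0 D136375) D136378 D209383
theorem F453496 : act 2 n208775 = n209383 := d1_3 F453495 F450067 D208775
def n209384 : Q := act 4 n136378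
theorem D209384 : act 4 n136378 = n209384 := rfl
theorem F453497 : act 3 n209384 = n197692 := d5_1 D209384 F405383 F207609 (iv4 F99804) (iv3 F219494)
theorem F453498 : act 6 n209384 = n139518 := d10_2 (iv6 F361544) D209384 F222695
theorem F453499 : act 5 n209384 = n208651 := d16_3 F111661 D136378 D209384 F450334 F252184 (iv4 F252174) (iv5 F365415) (iv7 F245976) (iv2 D156460)
theorem F453500 : act 0 n208705 = n209384 := d20_10 (iv4 D209384) F431556 (iv4 F450075) F450073 (iv1 D204527) D204528 F432806 D204534 (iv4 F432818) D208705
theorem F453501 : act 1 n208895 = n209384 := d17_6 (iv1 F328836) (iv5 F329170) (iv1 F114511) (iv5 F332647) (iv4 F217528) D208895 F453499 F450337 (iv4 F362913)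
def n209385 : Q := act 0 n136379
theorem D209385 : act 0 n136379 = n209385 := rfl
theorem F453502 : act 5 n209385 = n139356 := d17_3 F102890 (iv5 F361546) D209385 F222578 F177274 F80830 (iv5 F80817) (iv0 D51225) D51228
theorem F453503 : act 4 n209385 = n199066 := d18_1 D209385 (iv1 D199066) (iv4 D110902) (iv5 D51137) F39017 D24918 D51233 (iv0 F102247) (iv5 F361546)
theorem F453504 : act 6 n209385 = n150118 := d21_5 (iv5 D30226) (iv1 F48611) D64117 D136379 D209385 F236271 (iv1 F107119) D101077 F344177 (iv1 F99811)
theorem F453505 : act 2 n192998 = n209385 := d15_3 (iv0 D209385) (iv0 F344197) (iv7 F388477)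
theorem F453506 : act 1 n193049 = n209385 := d15_0 (iv0 D209385) (iv7 F425025) F425023
theorem F453507 : act 7 n209385 = n192974 := d15_2 D193049 F453506 F388397
theorem F453508 : act 3 n139289 = n209385 := d8_3 F453507 F388398 (iv7 F357529)
def n209386 : Q := act 5 n136381
theorem D209386 : act 5 n136381 = n209386 := rfl
theorem F453509 : act 2 n209386 = n204468 := d2_1 D209386 F432628 F403785
theorem F453510 : act 3 n209386 = n136383 := d6_1 D209386 (iv5 D136383) D136381
theorem F453511 : act 4 n209386 = n151704 := d16_2 (iv4 F403613) D209386 (iv5 D151704) F108021 F83400 (iv4 F176189) (iv5 F403609) (iv7 F403612) F403617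
theorem F453512 : act 6 n209386 = n155502 := d21_9 (iv5 D117847) D117845 (iv5 F355573) F355601 (iv1 F237954) F448225 F448222 F385483 D209386 F244519
def n209387 : Q := act 6 n136381
theorem D209387 : act 6 n136381 = n209387 := rfl
theorem F453513 : act 2 n209387 = n203128 := d3_1 D209387 (iv6 F427072) F403785
theorem F453514 : act 3 n209387 = n136384 := d7_1 D209387 (iv6 D136384) D136381
theorem F453515 : act 4 n209387 = n195550 := d10_1 D209387 F403614 (iv4 F403613)
theorem F453516 : act 5 n209387 = n155503 := d12_1 D209387 (iv6 D155503) D155502 (iv6 F453512) (iv5 D209386)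
theorem F453517 : act 7 n203129 = n209387 := d13_0 F453516 (iv7 F449598) F449600
theorem F453518 : act 0 n203116 = n209387 := d17_0 F453516 F426426 F425172 (iv4 F414213) F414212 (iv0 D115431) (iv5 F174596) D200014 (iv4 F427036)
theorem F453519 : act 1 n203044 = n209387 := d17_6 F131038 F131175 F316846 (iv5 F316847) (iv4 F321908) D203044 F453516 (iv0 F347295) F347288
def n209388 : Q := act 3 n136382
theorem D209388 : act 3 n136382 = n209388 := rfl
theorem F453520 : act 2 n209388 = n197069 := d0_1 D209388 F402902 (iv2 F165997) (iv3 F346481) (iv2 F346476)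
theorem F453521 : act 4 n209388 = n195555 := d5_2 D136382 D209388 (iv3 F403615) (iv4 F403613) (iv3 D136381)
theorem F453522 : act 6 n209388 = n195554 := d7_2 (iv6 F346462) D209388 (iv3 F397333)
theorem F453523 : act 0 n146987 = n209388 := d20_4 (iv4 F399755) F399757 F379497 F339816 (iv3 D209388) (iv4 D136382) (iv1 F328534) (iv4 F354146) (iv3 F354144) F354116
def n209389 : Q := act 6 n136383
theorem D209389 : act 6 n136383 = n209389 := rfl
theorem F453524 : act 2 n209389 = n201218 := d3_1 D209389 (iv6 F419485) F354518
theorem F453525 : act 3 n209389 = n155502 := d7_1 D209389 (iv6 F453512) F453510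
theorem F453526 : act 5 n209389 = n155500 := d12_1 D209389 (iv6 F360705) (iv5 F360704) (iv6 D136384) D136383
theorem F453527 : act 7 n209389 = n201223 := d14_2 (iv7 F354514) D209389 F419512 (iv7 F222486) F356110
theorem F453528 : act 0 n209389 = n204482 := d21_4 (iv5 D64121) D64118 D136383 D209389 (iv6 F432675) F410184 (iv1 F410185) D208423 F449297 (iv1 D136393)
theorem F453529 : act 0 n204481 = n209389 := d20_4 (iv4 F443117) (iv1 F443120) F453478 (iv3 F453479) F453525 (iv4 F419716) F419717 D201697 (iv3 F421459) F410517
def n209390 : Q := act 4 n136386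
theorem D209390 : act 4 n136386 = n209390 := rfl
theorem F453530 : act 2 n209390 = n156056 := d1_1 D209390 (iv4 F424329) F424327
theorem F453531 : act 3 n209390 = n200301 := d5_1 D209390 F415899 F402922 (iv4 D136387) D136386
theorem F453532 : act 5 n209390 = n156119 := d9_2 (iv5 F356113) D209390 F245324 F351206 (iv4 F449938) F449937 F432657 D204479 F432665 (iv5 D137055) (iv4 F111747) F111748 (iv4 F345285) (iv5 F172897) F172896
theorem F453533 : act 6 n209390 = n139308 := d10_2 (iv6 F356114) D209390 (iv4 D139308)
theorem F453534 : act 0 n209390 = n209368 := d18_2 (iv1 F453430) D209390 (iv4 D209368) F343267 (iv4 F449947) F449948 F432867 F431536 F453429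
theorem F453535 : act 1 n209390 = n209367 := d18_6 (iv1 F332957) (iv4 F409210) F409211 F172896 (iv5 F356113) D209390 (iv4 D209367) (iv0 D136354) D136357
def n209391 : Q := act 4 n136393
theorem D209391 : act 4 n136393 = n209391 := rfl
theorem F453536 : act 2 n209391 = n174746 := d1_1 D209391 F390563 (iv2 F390562)
theorem F453537 : act 5 n209391 = n173344 := d9_2 (iv5 F346579) D209391 F271797 D173347 (iv4 F342671) F346570 (iv4 F319243) (iv5 F346572) (iv4 F403467) F403465 (iv4 D173632) D173633 (iv4 F342678) (iv5 F344810) (iv4 F319242)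
theorem F453538 : act 6 n209391 = n182917 := d10_2 F449297 D209391 (iv4 F449299)
theorem F453539 : act 7 n209391 = n175734 := d11_2 (iv7 F346580) D209391 F344853
theorem F453540 : act 0 n209391 = n183104 := d17_0 (iv5 F366768) (iv1 F361347) D197186 F403447 (iv5 D136383) (iv0 D64118) D64121 D136393 D209391
theorem F453541 : act 3 n209391 = n208932 := d19_3 (iv1 F179698) (iv5 F346579) D209391 (iv1 F451467) (iv5 D135416) (iv4 F98983) (iv3 D61784) (iv1 F47328) (iv5 D29514) (iv4 F47004) (iv3 F77858) (iv1 F330442) F382571 (iv4 F382570) (iv3 F377491) (iv1 F215059) F210043 F165094 (iv3 F179693)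
def n209392 : Q := act 6 n136394
theorem D209392 : act 6 n136394 = n209392 := rfl
theorem F453542 : act 2 n209392 = n194678 := d3_1 D209392 F394062 (iv2 F367934)
theorem F453543 : act 3 n209392 = n206910 := d7_1 D209392 (iv6 D206910) (iv3 F219500)
theorem F453544 : act 4 n209392 = n136395 := d10_1 D209392 (iv6 D136395) D136394
theorem F453545 : act 0 n194404 = n209392 := d18_2 (iv1 F387194) D194404 F453544 (iv5 F384189) F384188 F340534 (iv4 F159353) F387244 (iv5 F387193)
theorem F453546 : act 1 n192596 = n209392 := d18_6 F294860 F73484 D95450 F147090 D100437 D192596 F453544 F372416 (iv5 D188132)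
def n209393 : Q := act 2 n136400
theorem D209393 : act 2 n136400 = n209393 := rfl
theorem F453547 : act 5 n209393 = n136460 := d2_2 (iv5 F219504) D209393 (iv2 D136460)
theorem F453548 : act 6 n209393 = n184488 := d3_2 (iv6 F344179) D209393 (iv2 F344172)
theorem F453549 : act 7 n209393 = n205092 := d4_2 (iv7 F219505) D209393 F434945
theorem F453550 : act 1 n209393 = n204565 := d15_0 (iv0 F432879) (iv7 F219505) D209393
theorem F453551 : act 1 n205093 = n209393 := d15_0 F453550 (iv7 F453436) F453434
def n209394 : Q := act 4 n136400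
theorem D209394 : act 4 n136400 = n209394 := rfl
theorem F453552 : act 3 n209394 = n195270 := d5_1 D209394 (iv4 D195270) F161928 (iv4 F99810) D136400
theorem F453553 : act 6 n209394 = n204195 := d10_2 (iv6 F344179) D209394 (iv4 D204195)
theorem F453554 : act 7 n209394 = n205094 := d11_2 (iv7 F219505) D209394 (iv4 D205094)
theorem F453555 : act 5 n195970 = n209394 := d19_1 F398909 (iv4 D209394) (iv3 D136400) (iv1 F99811) (iv5 D30226) (iv4 D14347) (iv3 F19895) (iv1 F23052) F23053 F22266 F18312 (iv1 D6360) (iv5 F4727) D6700 D14093 F54282 D25678 D52897 D114599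
def n209395 : Q := act 2 n136402
theorem D209395 : act 2 n136402 = n209395 := rfl
theorem F453556 : act 3 n209395 = n205092 := d0_2 D136402 D209395 F434945 F201781 F99815
theorem F453557 : act 5 n209395 = n136465 := d2_2 (iv5 F219507) D209395 (iv2 D136465)
theorem F453558 : act 6 n191781 = n209395 := d12_0 F453557 F219584 (iv5 F220122) (iv6 F449255) (iv5 F449264)
def n209396 : Q := act 4 n136402
theorem D209396 : act 4 n136402 = n209396 := rfl
theorem F453559 : act 3 n209396 = n197526 := d5_1 D209396 (iv4 F404702) F207591 F99816 D136402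
theorem F453560 : act 5 n209396 = n197524 := d16_3 F111871 (iv5 F219507) D209396 (iv4 F450789) F450788 (iv4 F426451) F426452 (iv7 F246447) (iv2 D156686)
theorem F453561 : act 1 n209396 = n208694 := d18_8 (iv1 F450337) F450334 F422006 F422003 (iv5 F405054) D208779 (iv0 F450829) D209396 (iv5 D208694)
theorem F453562 : act 6 n189341 = n209396 := d12_0 F453560 F404696 (iv5 D189661) (iv6 F157633) D189341
def n209397 : Q := act 6 n136402
theorem D209397 : act 6 n136402 = n209397 := rfl
theorem F453563 : act 2 n209397 = n191781 := d3_1 D209397 F453558 (iv2 D209395)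
theorem F453564 : act 3 n209397 = n136403 := d7_1 D209397 (iv6 D136403) D136402
theorem F453565 : act 4 n209397 = n189341 := d10_1 D209397 F453562 (iv4 D209396)
theorem F453566 : act 5 n209397 = n136959 := d12_1 D209397 (iv6 D136959) F100313 (iv6 F99867) (iv5 F219507)
theorem F453567 : act 0 n209397 = n188173 := d21_4 F450794 (iv1 D136464) (iv5 F219507) D209397 (iv6 F372582) F223169 (iv1 F102994) D116296 D202675 F450795
theorem F453568 : act 1 n209397 = n188175 := d15_1 (iv0 F453567) F372586 (iv2 F372560)
theorem F453569 : act 7 n191782 = n209397 := d13_0 F453566 (iv7 F449783) F449781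
def n209398 : Q := act 0 n136403
theorem D209398 : act 0 n136403 = n209398 := rfl
theorem F453570 : act 5 n209398 = n206808 := d17_3 F340134 (iv5 F219510) D209398 (iv4 D206808) (iv5 F359102) (iv0 D138142) (iv5 D64900) (iv0 F340131) (iv4 F216533)
theorem F453571 : act 4 n209398 = n136682 := d18_1 D209398 (iv1 F446127) F446124 F218654 F325106 F340129 (iv4 F216580) F363980 (iv5 F219510)
theorem F453572 : act 3 n209398 = n189085 := d20_5 D191791 (iv1 F384451) (iv4 F453565) F453564 D209398 (iv4 D189085) (iv1 D93213) D93214 F295308 D98923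
theorem F453573 : act 6 n209398 = n199190 := d21_5 (iv5 D30241) (iv1 F48624) (iv5 F99814) D136403 D209398 (iv5 D199190) (iv1 F361548) F220375 (iv6 D136487) (iv1 F99872)
theorem F453574 : act 1 n205097 = n209398 := d15_0 (iv0 D209398) (iv7 F388449) (iv2 F434960)
theorem F453575 : act 2 n199203 = n209398 := d3_3 F453573 F411097 D199203
theorem F453576 : act 7 n205096 = n209398 := d14_0 F453573 F411099 D199224 (iv7 F449922) F444228
theorem F453577 : act 7 n136682 = n207713 := d11_2 F453576 F453571 F446120
theorem F453578 : act 2 n207713 = n136683 := d15_3 F446126 F446127 F453577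
theorem F453579 : act 2 n136682 = n207712 := d15_3 (iv0 D207712) D207713 (iv7 F453577)
theorem F453580 : act 7 n207712 = n136683 := d4_2 (iv7 F453577) F453579 (iv2 F453578)
def n209399 : Q := act 1 n136403
theorem D209399 : act 1 n136403 = n209399 := rfl
theorem F453581 : act 1 n209399 = n205097 := d15_1 D209399 (iv7 D205097) (iv2 F219508)
theorem F453582 : act 7 n209399 = n199203 := d15_2 (iv0 D209398) D209399 F453575
theorem F453583 : act 3 n190545 = n209399 := d20_3 (iv4 F387342) F387343 (iv4 F380050) (iv1 D209399) (iv3 F453564) F453565 F376435 F372808 (iv3 F383938) F383941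
theorem F453584 : act 5 n190544 = n209399 := d21_6 (iv5 D14386) D14383 D30304 D64338 (iv1 F330959) (iv6 F380048) (iv1 D209399) F219510 (iv6 D64373) (iv1 D30316)
theorem F453585 : act 2 n209399 = n205096 := d2_1 F453584 (iv5 F444227) F444223
theorem F453586 : act 4 n209399 = n136683 := d18_5 F407350 (iv4 D129378) (iv1 F359074) F380047 F453584 F446126 F446124 F218657 D136688
def n209400 : Q := act 6 n136431
theorem D209400 : act 6 n136431 = n209400 := rfl
theorem F453587 : act 4 n209400 = n136432 := d10_1 D209400 (iv6 D136432) D136431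
theorem F453588 : act 7 n209400 = n192698 := d14_2 (iv7 F371763) D209400 (iv6 D192698) (iv7 F293914) D187887
def n209401 : Q := act 3 n136437
theorem D209401 : act 3 n136437 = n209401 := rfl
theorem F453589 : act 7 n209401 = n202569 := d8_2 F446131 D209401 (iv3 F446133)
def n209402 : Q := act 5 n136437
theorem D209402 : act 5 n136437 = n209402 := rfl
def n209403 : Q := act 5 n136438
theorem D209403 : act 5 n136438 = n209403 := rfl
def n209404 : Q := act 6 n136438
theorem D209404 : act 6 n136438 = n209404 := rfl
theorem F453590 : act 2 n209404 = n199200 := d3_1 D209404 F446132 (iv2 F446134)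
theorem F453591 : act 3 n209404 = n199025 := d7_1 D209404 (iv6 F420870) F421486
theorem F453592 : act 7 n209404 = n199201 := d14_2 F421487 D209404 (iv6 F419036) F419037 (iv6 F420899)
theorem F453593 : act 5 n209404 = n202567 := d21_6 (iv5 F155703) F368031 F368030 D193002 (iv1 F388492) D209404 (iv1 F424545) (iv5 F357570) (iv6 D101118) (iv1 F155702)
theorem F453594 : act 0 n199190 = n209404 := d17_2 (iv1 F181243) D199190 F453593 F424542 (iv5 F410833) F410835 F220038 (iv0 F171804) (iv4 F181238)
theorem F453595 : act 1 n199204 = n209404 := d17_6 (iv1 D68119) (iv5 F78382) D107438 F180609 (iv4 F172263) (iv5 F411152) F453593 F424544 F222578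
def n209405 : Q := act 0 n136439
theorem D209405 : act 0 n136439 = n209405 := rfl
theorem F453596 : act 5 n209405 = n192993 := d21_2 D136439 D209405 (iv6 D192993) (iv1 F236275) (iv6 F453504) F453502 (iv1 F424544) (iv5 F453593) (iv6 D209404) (iv1 D136438)
def n209406 : Q := act 1 n136439
theorem D209406 : act 1 n136439 = n209406 := rfl
def n209407 : Q := act 4 n136439
theorem D209407 : act 4 n136439 = n209407 := rfl
theorem F453597 : act 6 n209407 = n136445 := d10_2 (iv6 F219536) D209407 (iv4 D136445)
theorem F453598 : act 5 n209407 = n208380 := d16_3 F211746 D136439 D209407 F449147 (iv5 D205632) (iv4 F212709) F361173 (iv7 D132248) (iv2 F211745)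
def n209408 : Q := act 2 n136441
theorem D209408 : act 2 n136441 = n209408 := rfl
theorem F453599 : act 7 n209408 = n136878 := d4_2 (iv7 F219537) D209408 F220062
theorem F453600 : act 1 n209408 = n136883 := d15_0 (iv0 D136883) (iv7 F219537) D209408
theorem F453601 : act 1 n136884 = n209408 := d15_0 F453600 (iv7 F385516) (iv2 F453490)
def n209409 : Q := act 5 n136441
theorem D209409 : act 5 n136441 = n209409 := rfl
theorem F453602 : act 3 n209409 = n136442 := d6_1 D209409 (iv5 D136442) D136441
theorem F453603 : act 7 n209409 = n136885 := d13_2 (iv7 F219537) D209409 (iv5 D136885)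
def n209410 : Q := act 6 n136442
theorem D209410 : act 6 n136442 = n209410 := rfl
def n209411 : Q := act 4 n136443
theorem D209411 : act 4 n136443 = n209411 := rfl
theorem F453604 : act 6 n209411 = n203082 := d10_2 F365491 D209411 (iv4 D203082)
def n209412 : Q := act 3 n136444
theorem D209412 : act 3 n136444 = n209412 := rfl
def n209413 : Q := act 4 n136444
theorem D209413 : act 4 n136444 = n209413 := rfl
def n209414 : Q := act 6 n136444
theorem D209414 : act 6 n136444 = n209414 := rfl
theorem F453605 : act 5 n209414 = n136998 := d12_1 D209414 (iv6 D136998) F201767 D202119 F422948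
def n209415 : Q := act 0 n136445
theorem D209415 : act 0 n136445 = n209415 := rfl
theorem F453606 : act 4 n209415 = n137473 := d18_3 (iv1 D136444) D136445 D209415 (iv5 D137473) F100541 F99784 D135240 (iv0 F422947) F422948
def n209416 : Q := act 1 n136445
theorem D209416 : act 1 n136445 = n209416 := rfl
theorem F453607 : act 5 n209416 = n139415 := d17_7 D201063 F418952 (iv1 F214588) F218054 (iv4 F451812) (iv5 F451814) D209416 (iv0 F420757) (iv4 D201065)
theorem F453608 : act 3 n139422 = n209416 := d6_3 F453607 F222626 D139422
theorem F453609 : act 6 n139418 = n209416 := d12_0 F453607 (iv6 D139415) (iv5 D65434) D65435 D139418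
def n209417 : Q := act 3 n136445
theorem D209417 : act 3 n136445 = n209417 := rfl
def n209418 : Q := act 2 n136447
theorem D209418 : act 2 n136447 = n209418 := rfl
theorem F453610 : act 4 n209418 = n138600 := d1_2 (iv4 F219541) D209418 (iv2 D138600)
theorem F453611 : act 7 n209418 = n136824 := d4_2 (iv7 F219542) D209418 F220029
theorem F453612 : act 1 n209418 = n136829 := d15_0 (iv0 D136829) (iv7 F219542) D209418
theorem F453613 : act 1 n136830 = n209418 := d15_0 F453612 (iv7 F428079) F428076
def n209419 : Q := act 5 n136447
theorem D209419 : act 5 n136447 = n209419 := rfl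
theorem F453614 : act 3 n209419 = n136448 := d6_1 D209419 (iv5 D136448) D136447
theorem F453615 : act 7 n209419 = n136831 := d13_2 (iv7 F219542) D209419 (iv5 D136831)
def n209420 : Q := act 6 n136448
theorem D209420 : act 6 n136448 = n209420 := rfl
def n209421 : Q := act 4 n136449
theorem D209421 : act 4 n136449 = n209421 := rfl
theorem F453616 : act 2 n209421 = n136543 := d1_1 D209421 F219642 F344842
theorem F453617 : act 7 n209421 = n136626 := d11_2 F346584 D209421 F219764
theorem F453618 : act 1 n209421 = n136601 := d18_6 F342675 F132306 D167564 (iv4 F342692) F344830 D209421 (iv4 F316895) D179561 F344781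
theorem F453619 : act 0 n209421 = n136628 := d20_1 D209421 F314604 (iv3 F320630) (iv1 D113131) (iv3 D52216) (iv4 D25361) (iv1 F38594) D30230 D64147 D136449
def n209422 : Q := act 6 n136449
theorem D209422 : act 6 n136449 = n209422 := rfl
theorem F453620 : act 2 n209422 = n163126 := d3_1 D209422 F352330 F344842
theorem F453621 : act 5 n209422 = n163124 := d12_1 D209422 F394731 F394727 F383785 F344830
theorem F453622 : act 7 n209422 = n137299 := d14_2 F346584 D209422 (iv6 D137299) F161456 (iv6 F346582)
theorem F453623 : act 0 n209422 = n192105 := d21_4 F325430 D167568 F344830 D209422 F385568 F270613 (iv1 F272861) F337650 F337653 (iv1 D136347)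
theorem F453624 : act 1 n209422 = n138241 := d15_1 (iv0 F453623) F221422 (iv2 F385567)
def n209423 : Q := act 3 n136453
theorem D209423 : act 3 n136453 = n209423 := rfl
theorem F453625 : act 2 n209423 = n148659 := d0_1 D209423 (iv3 D148659) F199973 (iv3 F321594) F219556
theorem F453626 : act 5 n209423 = n148312 := d6_2 (iv5 F337174) D209423 (iv3 D148312)
theorem F453627 : act 6 n209423 = n152632 := d7_2 (iv6 F337688) D209423 F364898
theorem F453628 : act 7 n209423 = n197129 := d8_2 (iv7 F219554) D209423 (iv3 D197129)
theorem F453629 : act 0 n209423 = n179229 := d19_4 F170617 F170616 (iv4 F219555) D209423 F355108 (iv4 D114071) F142456 (iv1 F67782) F67776 F32411 (iv3 F32363) (iv1 F61491) D40420 (iv4 F71448) (iv3 F149597) (iv1 F358524) (iv5 F380384) F380385 F203191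
theorem F453630 : act 0 n155781 = n209423 := d20_4 D147747 (iv1 F353757) F353758 (iv3 F353766) (iv3 D209423) F219555 (iv1 D107605) (iv4 F166019) (iv3 F334598) (iv1 D147746)
def n209424 : Q := act 4 n136456
theorem D209424 : act 4 n136456 = n209424 := rfl
theorem F453631 : act 2 n209424 = n163672 := d1_1 D209424 F363262 (iv2 F363264)
theorem F453632 : act 3 n209424 = n172552 := d5_1 D209424 (iv4 F433134) F433135 (iv4 D142000) (iv3 F219564)
theorem F453633 : act 6 n209424 = n203520 := d10_2 F245292 D209424 F428679
theorem F453634 : act 7 n209424 = n198832 := d11_2 (iv7 F219565) D209424 F409466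
theorem F453635 : act 5 n209424 = n172550 := d16_7 F381146 (iv5 F340797) F231433 (iv5 F344153) F166311 D136456 D209424 F351705 (iv2 F381144)
theorem F453636 : act 0 n209424 = n144362 := d17_0 F333759 F363238 (iv5 D113294) F82675 (iv5 F48694) D64282 (iv5 F173098) (iv0 F219566) D209424
theorem F453637 : act 1 n209424 = n144358 := d18_6 (iv1 D49747) (iv4 F78615) D107677 F166311 D136456 D209424 (iv4 D144358) (iv0 F166194) (iv5 F166147)
def n209425 : Q := act 4 n136458
theorem D209425 : act 4 n136458 = n209425 := rfl
theorem F453638 : act 2 n209425 = n196473 := d1_1 D209425 (iv4 F400777) F400779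
theorem F453639 : act 3 n209425 = n140391 := d5_1 D209425 (iv4 F358700) (iv3 D156016) D156017 F245119
theorem F453640 : act 7 n209425 = n196470 := d11_2 F400782 D209425 (iv4 F400781)
theorem F453641 : act 5 n209425 = n140389 := d16_3 (iv4 F413549) F413550 D209425 F223521 D198630 (iv4 F415821) F415822 F239700 (iv2 F188649)
theorem F453642 : act 0 n209425 = n196785 := d20_1 D209425 F435039 (iv3 F435037) (iv1 D135894) (iv3 D63902) F48458 (iv1 F45690) (iv4 F48621) D64152 D136458
theorem F453643 : act 0 n196461 = n209425 := d20_10 (iv4 D209425) (iv1 F219570) F201779 F92849 (iv1 F357635) D199111 F410718 (iv1 F393374) (iv4 F393363) D196461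
theorem E103957 : n196785 = n196469 := ((c15_1 D196469 (iv0 F453642) F453640 (iv2 D196470))).symm
theorem F453644 : act 1 n196469 = n209425 := (sb E103957 (iv0 F453642))
theorem F453645 : act 2 n196469 = n199100 := (sb E103957 F410662)
theorem F453646 : act 4 n196469 = n205115 := (sb E103957 F435039)
theorem F453647 : act 6 n196469 = n107325 := (sb E103957 (iv6 D196785))
def n209426 : Q := act 6 n136458
theorem D209426 : act 6 n136458 = n209426 := rfl
theorem F453648 : act 2 n209426 = n205091 := d3_1 D209426 (iv6 D205091) F400779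
theorem F453649 : act 5 n209426 = n152872 := d12_1 D209426 (iv6 D152872) (iv5 F188645) (iv6 F413553) F413550
theorem F453650 : act 0 n136534 = n209426 := d21_4 (iv5 D203001) (iv1 D117508) F329018 (iv6 F219633) (iv6 D209426) (iv5 F413550) (iv1 F453441) (iv5 D209373) D209374 F453448
def n209427 : Q := act 3 n136459
theorem D209427 : act 3 n136459 = n209427 := rfl
theorem F453651 : act 4 n209427 = n196474 := d5_2 F219571 D209427 (iv3 D196474) (iv4 D107017) D107016
theorem F453652 : act 7 n209427 = n205090 := d8_2 (iv7 F400778) D209427 (iv3 D205090)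
theorem F453653 : act 0 n209427 = n139092 := d19_4 F409347 (iv5 D196471) F219571 D209427 (iv5 F351893) (iv4 F388603) (iv3 D193053) (iv1 F387336) F434267 F434265 (iv3 D196414) (iv1 D106960) D106962 F337378 (iv3 F135924) (iv1 F298089) F328279 D110295 D198808
theorem F453654 : act 0 n136509 = n209427 := d20_4 (iv4 F391919) (iv1 F385122) (iv4 D136510) D136509 (iv3 D209427) (iv4 F219571) F400752 (iv4 F435027) (iv3 F435028) (iv1 F391918)
def n209428 : Q := act 5 n136459
theorem D209428 : act 5 n136459 = n209428 := rfl
theorem F453655 : act 2 n209428 = n205088 := d2_1 D209428 (iv5 D205088) (iv2 F400780)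
theorem F453656 : act 7 n209428 = n152576 := d13_2 (iv7 F400778) D209428 F412018
theorem F453657 : act 4 n209428 = n152529 := d16_2 F219571 D209428 (iv5 F415822) F415821 (iv5 D198630) (iv4 F223521) (iv5 F453641) F453640 (iv2 D196470)
theorem F453658 : act 0 n209428 = n136486 := d17_2 F219572 D209428 F219597 F211764 D144321 (iv0 F435016) (iv5 D205110) F219721 (iv4 F201779)
theorem F453659 : act 1 n209428 = n209373 := d17_8 (iv1 F420923) (iv5 D201478) F398909 F453555 (iv4 D209394) F219504 D136459 D209428 (iv4 F453442)
theorem E103958 : n137215 = n136847 := (c21_5 D209428 F453658 F219597 F211765 D137215 (iv6 D136847) D136846 (iv1 F409967) (iv5 D198934) (iv6 F201780) F219572)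
theorem F453660 : act 0 n136847 = n209250 := (sb E103958 (iv1 F452902))
theorem F453661 : act 1 n136847 = n64494 := (sb E103958 (iv0 D137215))
theorem F453662 : act 6 n152528 = n209428 := d21_5 (iv5 D57291) D57289 D123108 D204187 (iv1 F431406) (iv5 D209428) (iv1 D136459) (iv5 F219504) F344179 (iv1 D123116)
theorem F453663 : act 7 n137216 = n209207 := d15_2 F453661 D137216 F452717
theorem F453664 : act 2 n209249 = n137216 := d4_3 F453663 F452717 (iv7 F452896)
theorem F453665 : act 6 n193328 = n137216 := d14_5 F453663 (iv6 D209207) F359144 D136852 (iv7 F422577)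
theorem F453666 : act 3 n137216 = n193329 := d7_1 F453665 (iv6 D193329) D193328
def n209429 : Q := act 6 n136459
theorem D209429 : act 6 n136459 = n209429 := rfl
theorem F453667 : act 2 n209429 = n205089 := d3_1 D209429 (iv6 D205089) (iv2 F400780)
theorem F453668 : act 4 n209429 = n196472 := d10_1 D209429 (iv6 D196472) F219571
theorem F453669 : act 0 n209429 = n136494 := d21_4 D209373 (iv1 F453659) (iv5 D209428) D209429 F219607 D137602 (iv1 F377067) F377065 D193256 (iv1 F432883)
def n209430 : Q := act 6 n136463
theorem D209430 : act 6 n136463 = n209430 := rfl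
theorem F453670 : act 3 n209430 = n139068 := d7_1 D209430 (iv6 D139068) (iv3 F219581)
theorem F453671 : act 7 n209430 = n203390 := d14_2 F219582 D209430 (iv6 D203390) (iv7 F353000) (iv6 D139156)
theorem F453672 : act 0 n136496 = n209430 := d20_4 F176831 F176830 F167118 D136496 F453670 F222250 (iv1 F314672) D151311 F320467 F176832
def n209431 : Q := act 3 n136464
theorem D209431 : act 3 n136464 = n209431 := rfl
theorem F453673 : act 2 n209431 = n139101 := d0_1 D209431 F222288 F101029 D65310 (iv2 F386800)
theorem F453674 : act 4 n209431 = n197396 := d5_2 (iv4 F386801) D209431 (iv3 F411896) F411897 (iv3 F386796)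
theorem F453675 : act 6 n209431 = n203383 := d7_2 (iv6 F386802) D209431 F428111
theorem F453676 : act 7 n209431 = n139098 := d8_2 F411882 D209431 (iv3 F411885)
theorem F453677 : act 0 n136467 = n209431 := d20_4 F435041 (iv1 F279624) (iv4 F319243) D136467 (iv3 D209431) F386801 (iv1 F411501) F411498 F391827 F435043
theorem F453678 : act 1 n139097 = n209431 := d15_0 (iv0 F453677) (iv7 F403963) F403961
def n209432 : Q := act 4 n136472
theorem D209432 : act 4 n136472 = n209432 := rfl
theorem F453679 : act 2 n209432 = n137065 := d1_1 D209432 (iv4 F448994) F448992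
theorem F453680 : act 3 n209432 = n156952 := d5_1 D209432 (iv4 F247024) F319241 (iv4 F319242) D136472
theorem F453681 : act 6 n209432 = n137355 := d10_2 (iv6 F344819) D209432 (iv4 D137355)
theorem F453682 : act 7 n209432 = n178791 := d11_2 (iv7 F344820) D209432 F344858
theorem F453683 : act 5 n209432 = n156051 := d16_1 D209432 F245184 (iv5 F357951) (iv4 F407141) (iv5 F431529) F431528 (iv5 F253226) (iv7 F448996) F448992
theorem F453684 : act 0 n209432 = n200298 := d17_0 F415890 (iv1 D156118) (iv5 F245194) (iv4 F424329) (iv5 D202510) F345275 (iv5 F345273) (iv0 F245117) D209432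
theorem F453685 : act 1 n209432 = n209185 := d18_8 (iv1 F245322) (iv4 F345282) F345278 F349769 (iv5 D156013) D156012 (iv0 F245117) D209432 F452623
def n209433 : Q := act 7 n136477
theorem D209433 : act 7 n136477 = n209433 := rfl
theorem F453686 : act 2 n209433 = n136485 := d4_1 D209433 (iv7 D136485) (iv2 F219591)
theorem F453687 : act 3 n209433 = n189160 := d8_1 D209433 F375887 F371051
theorem F453688 : act 4 n209433 = n166234 := d11_1 D209433 (iv7 F421000) F421001
theorem F453689 : act 6 n209433 = n194413 := d14_1 D209433 F422965 F422964 F179695 D136477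
theorem F453690 : act 1 n136483 = n209433 := d15_1 D136483 (iv7 D209433) F219591
theorem F453691 : act 1 n209433 = n136482 := d15_1 F453690 (iv7 F389843) F389841
def n209434 : Q := act 3 n136478
theorem D209434 : act 3 n136478 = n209434 := rfl
theorem F453692 : act 2 n209434 = n202506 := d0_1 D209434 F424318 F180489 (iv3 F356108) F354513
theorem F453693 : act 4 n209434 = n200445 := d5_2 (iv4 F354512) D209434 F416456 (iv4 D151510) (iv3 F238372)
theorem F453694 : act 5 n209434 = n193649 := d6_2 (iv5 F354511) D209434 (iv3 D193649)
theorem F453695 : act 6 n209434 = n201498 := d7_2 F356110 D209434 (iv3 F420729)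
theorem F453696 : act 7 n209434 = n209386 := d8_2 F354514 D209434 F453510
theorem F453697 : act 0 n139099 = n209434 := d17_2 (iv1 D139097) D139099 F453694 F390558 D197268 (iv0 F403793) F176179 F204006 F222283
def n209435 : Q := act 1 n136480
theorem D209435 : act 1 n136480 = n209435 := rfl
theorem F453698 : act 1 n209435 = n170714 := d15_1 D209435 F268234 (iv2 F310379)
theorem F453699 : act 7 n209435 = n175769 := d15_2 (iv0 F389665) D209435 (iv2 F389662)
theorem F453700 : act 5 n209435 = n197500 := d17_7 (iv1 F344791) (iv5 F344798) (iv1 F272114) (iv5 D83898) D83897 (iv5 F310380) D209435 (iv0 F404582) F191572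
theorem F453701 : act 3 n197501 = n209435 := d19_19 (iv1 D209435) F310380 (iv4 D83897) F310378 F308923 D83938 (iv4 F336914) (iv3 F379417) F388106 F388103 (iv4 F356808) F361773 (iv1 F367404) (iv5 F380321) (iv4 F388187) (iv3 F403837) (iv1 F403839) (iv5 F404914) F404913
theorem F453702 : act 2 n209435 = n175770 := d0_1 F453701 (iv3 F367987) (iv2 F367985) F389639 (iv2 F404583)
def n209436 : Q := act 6 n136480
theorem D209436 : act 6 n136480 = n209436 := rfl
theorem F453703 : act 2 n209436 = n175772 := d3_1 D209436 (iv6 D175772) (iv2 F310379)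
theorem F453704 : act 3 n209436 = n207034 := d7_1 D209436 (iv6 D207034) (iv3 F219592)
theorem F453705 : act 4 n209436 = n136481 := d10_1 D209436 (iv6 D136481) D136480
theorem F453706 : act 5 n209436 = n207966 := d12_1 D209436 (iv6 D207966) (iv5 D132793) F310381 (iv5 F310380)
theorem F453707 : act 0 n209436 = n189137 := d21_4 (iv5 D186756) (iv1 F155433) (iv5 F310380) D209436 (iv6 D189137) F372456 F424340 D202665 F424992 F367898
def n209437 : Q := act 0 n136481
theorem D209437 : act 0 n136481 = n209437 := rfl
def n209438 : Q := act 7 n136481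
theorem D209438 : act 7 n136481 = n209438 := rfl
theorem F453708 : act 3 n209438 = n136493 := d8_1 D209438 (iv7 D136493) (iv3 F219594)
theorem F453709 : act 1 n207966 = n209438 := d15_1 (iv0 F447186) (iv7 D209438) (iv2 F373106)
def n209439 : Q := act 3 n136482
theorem D209439 : act 3 n136482 = n209439 := rfl
theorem F453710 : act 5 n209439 = n203124 := d6_2 F367962 D209439 F427059
theorem F453711 : act 6 n209439 = n192075 := d7_2 (iv6 F354519) D209439 F385444
theorem F453712 : act 0 n139100 = n209439 := d20_4 F219617 (iv1 F319249) (iv4 F101028) (iv3 F222287) (iv3 D209439) (iv4 F354521) (iv1 F354526) (iv4 F440490) F440489 (iv1 F359420)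
def n209440 : Q := act 3 n136483
theorem D209440 : act 3 n136483 = n209440 := rfl
theorem F453713 : act 6 n209440 = n204823 := d7_2 F354524 D209440 (iv3 F433718)
theorem F453714 : act 7 n209440 = n193250 := d8_2 (iv7 F354522) D209440 F389322
theorem F453715 : act 5 n203777 = n209440 := d13_3 F453714 F389323 (iv7 F429770)
def n209441 : Q := act 5 n136483
theorem D209441 : act 5 n136483 = n209441 := rfl
theorem F453716 : act 3 n209441 = n203777 := d6_1 D209441 F453715 (iv3 D209440)
theorem F453717 : act 6 n209441 = n189134 := d12_2 F354524 D209441 F390211 (iv6 D193545) (iv5 F275069)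
theorem F453718 : act 7 n209441 = n188220 := d13_2 (iv7 F354522) D209441 F372720
theorem F453719 : act 1 n209441 = n189158 := d17_6 D201574 F420977 (iv1 F272176) D175685 F354523 D209441 (iv5 F390123) F390125 F220082
def n209442 : Q := act 1 n136484
theorem D209442 : act 1 n136484 = n209442 := rfl
theorem F453720 : act 7 n209442 = n208662 := d15_2 (iv0 F362467) D209442 F450367
theorem F453721 : act 5 n209442 = n193507 := d17_7 (iv1 F419532) (iv5 D201227) (iv1 F352367) (iv5 F352361) F219552 D136484 D209442 (iv0 D193507) (iv4 F390109)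
theorem F453722 : act 3 n208666 = n209442 := d19_19 (iv1 D209442) (iv5 D136484) (iv4 F219552) F219551 F167352 F337679 (iv4 D69506) (iv3 F320074) (iv1 F311056) F110198 (iv4 F112625) (iv3 F313126) (iv1 F330090) F330089 F353398 F401872 (iv1 D196813) D196814 (iv4 F450379)
theorem F453723 : act 4 n194689 = n209442 := d20_0 (iv1 D209442) (iv4 F419464) (iv3 F419465) (iv1 F393094) (iv3 F403333) F403334 (iv1 D152394) (iv4 F353537) (iv3 F385147) F394099
def n209443 : Q := act 7 n136484
theorem D209443 : act 7 n136484 = n209443 := rfl
theorem F453724 : act 3 n209443 = n136501 := d8_1 D209443 (iv7 D136501) (iv3 F219595)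
theorem F453725 : act 4 n209443 = n194405 := d11_1 D209443 (iv7 F419463) F419464
theorem F453726 : act 5 n209443 = n136485 := d13_1 D209443 (iv7 D136485) D136484
theorem F453727 : act 0 n208662 = n209443 := d19_0 F453726 (iv4 F421018) F421013 (iv1 F219562) F321595 F226387 F103200 (iv1 F182315) (iv5 F311571) (iv4 F311137) (iv3 F185580) (iv1 F350099) (iv5 F339622) F350097 D142809 (iv1 F449042) F401879 F222776 (iv3 F450368)
theorem F453728 : act 6 n209443 = n194404 := d21_3 F372720 (iv1 F389846) (iv5 F453726) F453545 (iv6 D209392) (iv5 F429476) (iv1 F429479) (iv5 F366169) (iv6 F375845) (iv1 F375846)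
def n209444 : Q := act 2 n136486
theorem D209444 : act 2 n136486 = n209444 := rfl
theorem F453729 : act 3 n209444 = n202675 := d0_2 D136486 D209444 F425030 F219494 F99873
theorem F453730 : act 5 n209444 = n193262 := d2_2 (iv5 F219597) D209444 (iv2 F389359)
theorem F453731 : act 6 n209444 = n202293 := d3_2 (iv6 F410341) D209444 F423516
theorem F453732 : act 7 n209444 = n209373 := d4_2 (iv7 F219598) D209444 F453440
theorem F453733 : act 1 n209444 = n205088 := d15_0 (iv0 F434939) (iv7 F219598) D209444
theorem F453734 : act 1 n152576 = n209444 := d15_0 F453733 F434936 (iv2 F413552)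
def n209445 : Q := act 2 n136488
theorem D209445 : act 2 n136488 = n209445 := rfl
theorem F453735 : act 3 n209445 = n209373 := d0_2 D136488 D209445 F453440 F219489 F99878
theorem F453736 : act 5 n209445 = n207657 := d2_2 (iv5 F219601) D209445 (iv2 D207657)
theorem F453737 : act 7 n209445 = n202675 := d4_2 (iv7 F219602) D209445 F425030
theorem F453738 : act 1 n209445 = n139155 := d15_0 (iv0 F431556) (iv7 F219602) D209445
theorem F453739 : act 1 n209383 = n209445 := d15_0 F453738 (iv7 F450818) F453496
def n209446 : Q := act 4 n136488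
theorem D209446 : act 4 n136488 = n209446 := rfl
theorem F453740 : act 3 n209446 = n197528 := d5_1 D209446 F442291 F211822 F99879 D136488
theorem F453741 : act 7 n209446 = n209384 := d11_2 (iv7 F219602) D209446 (iv4 D209384)
theorem F453742 : act 5 n209446 = n159922 := d16_1 D209446 (iv4 D159922) (iv5 D76555) (iv4 F114794) (iv5 F329207) F245975 F425031 (iv7 F453737) (iv2 D209445)
def n209447 : Q := act 6 n136488
theorem D209447 : act 6 n136488 = n209447 := rfl
theorem F453743 : act 3 n209447 = n136489 := d7_1 D209447 (iv6 D136489) D136488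
theorem F453744 : act 5 n209447 = n139760 := d12_1 D209447 (iv6 D139760) D139759 (iv6 F333087) (iv5 F219601)
theorem F453745 : act 7 n209447 = n202674 := d14_2 (iv7 F219602) D209447 (iv6 D202674) F181263 (iv6 F361544)
theorem F453746 : act 1 n191772 = n209447 := d15_1 F384407 F453745 F425028
theorem F453747 : act 1 n209447 = n148528 := d15_1 F453746 (iv7 F427203) F427201
def n209448 : Q := act 1 n136489
theorem D209448 : act 1 n136489 = n209448 := rfl
theorem F453748 : act 1 n209448 = n209380 := d15_1 D209448 (iv7 D209380) (iv2 F219603)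
theorem F453749 : act 7 n209448 = n209378 := d15_2 F449778 D209448 (iv2 F453469)
theorem F453750 : act 4 n207048 = n209448 := d20_0 (iv1 D209448) F219604 F347258 (iv1 F446509) F446505 F418512 (iv1 D196435) D196436 (iv3 F410529) (iv1 F443112)
theorem F453751 : act 2 n209448 = n209379 := d1_1 F453750 (iv4 F453478) F453475
def n209449 : Q := act 7 n136489
theorem D209449 : act 7 n136489 = n209449 := rfl
theorem F453752 : act 2 n209449 = n209380 := d4_1 D209449 (iv7 D209380) (iv2 F219603)
theorem F453753 : act 3 n209449 = n202674 := d8_1 D209449 (iv7 F453745) F453743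
theorem F453754 : act 4 n209449 = n207681 := d11_1 D209449 (iv7 D207681) (iv4 F219604)
theorem F453755 : act 5 n209449 = n144804 := d13_1 D209449 (iv7 D144804) (iv5 F365607)
theorem F453756 : act 6 n209449 = n202673 := d14_1 D209449 F425025 (iv6 D136379) (iv7 F99876) D136489
theorem F453757 : act 1 n209379 = n209449 := d15_1 D209379 (iv7 D209449) F219603
theorem F453758 : act 1 n209449 = n209378 := d15_1 F453757 (iv7 F453749) F453751
def n209450 : Q := act 3 n136490
theorem D209450 : act 3 n136490 = n209450 := rfl
theorem F453759 : act 2 n209450 = n152525 := d0_1 D209450 F413401 (iv2 F424658) F452472 (iv2 F452469)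
theorem F453760 : act 7 n209450 = n152524 := d8_2 (iv7 F388468) D209450 (iv3 F388465)
theorem F453761 : act 5 n199592 = n209450 := d13_3 F453760 (iv5 F451342) F451345
theorem F453762 : act 1 n152281 = n209450 := d15_1 (iv0 F431405) F453760 (iv2 F431401)
theorem F453763 : act 1 n209450 = n152528 := d15_1 F453762 (iv7 D152528) (iv2 F239355)
def n209451 : Q := act 4 n136490
theorem D209451 : act 4 n136490 = n209451 := rfl
theorem F453764 : act 2 n209451 = n203121 := d1_1 D209451 (iv4 F452468) (iv2 F452469)
theorem F453765 : act 7 n209451 = n208403 := d11_2 (iv7 F388468) D209451 (iv4 F449208)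
theorem F453766 : act 0 n209451 = n208404 := d17_0 F449213 F442194 F388501 F388500 (iv5 F372823) F372825 D188354 F373168 D209451
theorem F453767 : act 1 n209451 = n195261 := d18_8 (iv1 D206791) F207516 F348923 (iv4 F95401) D129476 (iv4 F373163) F373168 D209451 (iv5 F442198)
theorem F453768 : act 3 n209451 = n206378 := d20_3 (iv4 F99880) D136490 D209451 (iv1 D206378) (iv3 F410518) (iv4 D199064) F338278 F219487 (iv3 F355284) (iv1 D129846)
def n209452 : Q := act 5 n136490
theorem D209452 : act 5 n136490 = n209452 := rfl
theorem F453769 : act 3 n209452 = n199592 := d6_1 D209452 F453761 (iv3 D209450)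
theorem F453770 : act 1 n209452 = n208566 := d17_8 (iv1 D134740) (iv5 D63320) D63317 D134734 F331087 D188354 F373168 D209452 (iv4 D208566)
theorem F453771 : act 0 n209452 = n208565 := d18_0 (iv4 D208565) (iv1 F216768) (iv4 F407563) F407564 F366380 F361162 (iv4 F373163) F373168 D209452
theorem F453772 : act 6 n209452 = n188266 := d21_3 (iv5 D136492) D136490 D209452 (iv1 D188266) (iv6 D91128) (iv5 D42673) D42670 D91116 D188247 F372824
def n209453 : Q := act 6 n136490
theorem D209453 : act 6 n136490 = n209453 := rfl
theorem F453773 : act 5 n209453 = n209406 := d21_6 F99814 (iv1 D30233) D30235 D64162 D136490 D209453 (iv1 D209406) (iv5 D136439) (iv6 D64142) (iv1 F99813)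
def n209454 : Q := act 0 n136494
theorem D209454 : act 0 n136494 = n209454 := rfl
def n209455 : Q := act 2 n136494
theorem D209455 : act 2 n136494 = n209455 := rfl
theorem F453774 : act 6 n209455 = n137601 := d3_2 (iv6 F219607) D209455 (iv2 D137601)
theorem F453775 : act 0 n205089 = n209455 := d21_4 D136372 F434939 (iv5 D205088) D205089 F453774 (iv5 F368134) F372947 F145059 D101421 F389354
theorem F453776 : act 1 n205089 = n209153 := d15_1 (iv0 F453775) F452483 D209455
def n209456 : Q := act 5 n136494
theorem D209456 : act 5 n136494 = n209456 := rfl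
theorem F453777 : act 3 n209456 = n136495 := d6_1 D209456 (iv5 D136495) D136494
theorem F453778 : act 6 n209456 = n188262 := d12_2 (iv6 F219607) D209456 F372886 (iv6 F339535) (iv5 D137602)
def n209457 : Q := act 4 n136495
theorem D209457 : act 4 n136495 = n209457 := rfl
theorem F453779 : act 6 n209457 = n188263 := d10_2 F356801 D209457 (iv4 D188263)
def n209458 : Q := act 1 n136496
theorem D209458 : act 1 n136496 = n209458 := rfl
def n209459 : Q := act 2 n136496
theorem D209459 : act 2 n136496 = n209459 := rfl
theorem F453780 : act 1 n209459 = n203390 := d15_0 (iv0 F452476) F452475 D209459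
def n209460 : Q := act 5 n136496
theorem D209460 : act 5 n136496 = n209460 := rfl
theorem F453781 : act 3 n209460 = n136497 := d6_1 D209460 (iv5 D136497) D136496
def n209461 : Q := act 6 n136496
theorem D209461 : act 6 n136496 = n209461 := rfl
theorem F453782 : act 3 n209461 = n136498 := d7_1 D209461 (iv6 D136498) D136496
theorem F453783 : act 4 n209461 = n192281 := d10_1 D209461 (iv6 F411462) F411461
theorem F453784 : act 7 n209461 = n137594 := d14_2 F452475 D209461 (iv6 D137594) (iv7 F219006) (iv6 F452474)
theorem F453785 : act 5 n137221 = n209461 := d21_2 F385247 F360992 (iv6 D209461) F453672 (iv6 D209430) (iv5 F450817) (iv1 F450820) (iv5 F425031) (iv6 F425045) F425047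
def n209462 : Q := act 4 n136497
theorem D209462 : act 4 n136497 = n209462 := rfl
def n209463 : Q := act 6 n136497
theorem D209463 : act 6 n136497 = n209463 := rfl
theorem F453786 : act 2 n209463 = n189149 := d3_1 D209463 (iv6 F452488) F452484
theorem F453787 : act 5 n209463 = n137223 := d12_1 D209463 (iv6 D137223) F219609 (iv6 D136498) D136497
theorem F453788 : act 7 n209463 = n188261 := d14_2 F452479 D209463 (iv6 D188261) F370897 (iv6 F452478)
theorem F453789 : act 0 n209463 = n189150 := d21_4 F220050 (iv1 F218586) D136497 D209463 F442143 (iv5 D206774) F330958 D136865 F220049 D136867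
theorem F453790 : act 1 n209463 = n188697 := d15_1 (iv0 F453789) F380060 D189150
def n209464 : Q := act 3 n136499
theorem D209464 : act 3 n136499 = n209464 := rfl
theorem F453791 : act 5 n209464 = n209203 := d6_2 (iv5 F219613) D209464 F452701
theorem F453792 : act 7 n209464 = n209202 := d8_2 (iv7 F219612) D209464 F452699
def n209465 : Q := act 4 n136499
theorem D209465 : act 4 n136499 = n209465 := rfl
theorem F453793 : act 7 n209465 = n209204 := d11_2 (iv7 F219612) D209465 (iv4 D209204)
theorem F453794 : act 5 n209465 = n200945 := d16_1 D209465 (iv4 D200945) (iv5 D113649) F82847 (iv5 F50028) F50027 D64340 D136869 F220054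
theorem F453795 : act 0 n209465 = n209172 := d18_2 (iv1 F220053) D209465 (iv4 D209172) (iv5 D135899) F99394 D108085 F167118 F218586 (iv5 F220050)
theorem F453796 : act 6 n194684 = n209465 := d14_5 F453793 F452706 F451323 (iv6 F450952) (iv7 F394083)
theorem F453797 : act 3 n209465 = n194685 := d7_1 F453796 (iv6 D194685) D194684
def n209466 : Q := act 6 n136499
theorem D209466 : act 6 n136499 = n209466 := rfl
theorem F453798 : act 4 n209466 = n194684 := d10_1 D209466 F453796 (iv4 D209465)
theorem F453799 : act 5 n209466 = n209410 := d12_1 D209466 (iv6 D209410) (iv5 D136442) (iv6 F218701) (iv5 F219613)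
theorem F453800 : act 0 n188267 = n209410 := d21_1 D188267 (iv5 F453799) (iv6 D209466) (iv1 D136499) (iv6 F219605) (iv5 D136492) D136490 D209452 F453772 (iv1 D188266)
def n209467 : Q := act 1 n136500
theorem D209467 : act 1 n136500 = n209467 := rfl
theorem F453801 : act 7 n209467 = n198592 := d15_2 F220023 D209467 F408426
theorem F453802 : act 4 n209467 = n136568 := d18_7 (iv1 F218609) (iv4 D64173) (iv1 D30238) (iv4 F48629) D64165 D136500 D209467 F220022 F220019
theorem F453803 : act 6 n187536 = n209467 := d21_3 F372896 F400301 F387514 (iv1 D209467) F361157 (iv5 D134736) (iv1 D63318) D63320 D134742 F372897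
theorem F453804 : act 2 n209467 = n198576 := d3_1 F453803 (iv6 F408369) F407133
theorem F453805 : act 3 n209467 = n187537 := d7_1 F453803 (iv6 D187537) D187536
theorem F453806 : act 5 n198532 = n209467 := d6_0 F453805 (iv5 F378850) (iv3 F408247)
def n209468 : Q := act 3 n136500
theorem D209468 : act 3 n136500 = n209468 := rfl
theorem F453807 : act 2 n209468 = n202727 := d0_1 D209468 F425300 (iv2 F411401) (iv3 F452496) F452495
theorem F453808 : act 4 n209468 = n194410 := d5_2 D136500 D209468 F419465 F419464 F219595
theorem F453809 : act 6 n209468 = n142011 := d7_2 (iv6 F361157) D209468 F225044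
theorem F453810 : act 7 n194407 = n209468 := d14_0 F453809 F225045 F358481 (iv7 F158602) D194407
theorem F453811 : act 0 n209468 = n204370 := d21_4 (iv5 D66611) (iv1 F102505) D142011 (iv6 F453809) F432257 D204372 (iv1 F433047) F433043 (iv6 F358529) F223819
theorem F453812 : act 1 n209468 = n204400 := d15_1 (iv0 F453811) (iv7 D204400) (iv2 F432255)
def n209469 : Q := act 5 n136500
theorem D209469 : act 5 n136500 = n209469 := rfl
theorem F453813 : act 2 n209469 = n198578 := d2_1 D209469 (iv5 F452498) F452495
theorem F453814 : act 6 n209469 = n208563 := d12_2 (iv6 F361157) D209469 (iv5 D208563) (iv6 D134737) D134736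
theorem F453815 : act 4 n209469 = n198428 := d16_2 D136500 D209469 F407986 F169324 (iv5 F99382) (iv4 F218584) (iv5 F220050) F220052 F218582
theorem F453816 : act 7 n209469 = n198427 := d16_8 F344639 (iv5 D111977) F81536 F39422 (iv4 F48629) D64165 D136500 D209469 F407984
theorem F453817 : act 0 n209469 = n163967 := d17_2 (iv1 D209467) D209469 (iv5 F406225) (iv4 F406227) (iv5 D136503) F161369 D64201 D136568 (iv4 F453802)
def n209470 : Q := act 7 n136500
theorem D209470 : act 7 n136500 = n209470 := rfl
theorem F453818 : act 3 n209470 = n194407 := d8_1 D209470 F453810 (iv3 D209468)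
theorem F453819 : act 4 n209470 = n136501 := d11_1 D209470 (iv7 D136501) D136500
theorem F453820 : act 5 n209470 = n198427 := d13_1 D209470 (iv7 F453816) (iv5 D209469)
theorem F453821 : act 6 n209470 = n194406 := d14_1 D209470 F393073 F358527 F223441 (iv6 F361157)
theorem F453822 : act 1 n198576 = n209470 := d15_1 F452500 (iv7 D209470) (iv2 F452495)
theorem F453823 : act 1 n209470 = n198592 := d15_1 F453822 (iv7 F453801) F453804
def n209471 : Q := act 6 n136501
theorem D209471 : act 6 n136501 = n209471 := rfl
theorem F453824 : act 3 n209471 = n194404 := d7_1 D209471 (iv6 F453728) F453724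
theorem F453825 : act 4 n209471 = n194406 := d10_1 D209471 (iv6 F453821) F453819
def n209472 : Q := act 2 n136505
theorem D209472 : act 2 n136505 = n209472 := rfl
theorem F453826 : act 4 n209472 = n138741 := d1_2 (iv4 F219617) D209472 (iv2 D138741)
theorem F453827 : act 7 n209472 = n136621 := d4_2 F320469 D209472 (iv2 F359421)
theorem F453828 : act 1 n209472 = n136624 := d15_0 F359430 F320469 D209472
theorem F453829 : act 1 n136604 = n209472 := d15_0 F453828 (iv7 D136624) (iv2 F219693)
theorem F453830 : act 5 n209472 = n201602 := d18_9 F421161 F403451 F355812 (iv4 F375822) F375823 F363416 F322968 (iv4 F314612) F453829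
def n209473 : Q := act 5 n136505
theorem D209473 : act 5 n136505 = n209473 := rfl
theorem F453831 : act 2 n209473 = n201602 := d2_1 D209473 (iv5 F453830) (iv2 D209472)
theorem F453832 : act 3 n209473 = n136506 := d6_1 D209473 (iv5 D136506) D136505
theorem F453833 : act 7 n209473 = n201605 := d13_2 F320469 D209473 F421112
theorem F453834 : act 4 n209473 = n201594 := d16_2 (iv4 F219617) D209473 (iv5 D201594) F332531 (iv5 D146097) (iv4 F332528) (iv5 D139125) F320553 (iv2 D138741)
theorem F453835 : act 0 n209473 = n152058 := d17_2 (iv1 F359420) D209473 (iv5 F393517) (iv4 D194513) (iv5 D103696) (iv0 F319869) D146632 F330041 (iv4 F251061)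
theorem F453836 : act 6 n209473 = n194031 := d21_3 F428090 (iv1 F359420) D209473 (iv1 F450190) (iv6 D208619) (iv5 F411688) (iv1 F355779) (iv5 F217302) D208787 F450869
theorem F453837 : act 3 n194031 = n208828 := d7_1 F453836 (iv6 F451030) (iv3 F453832)
def n209474 : Q := act 6 n136505
theorem D209474 : act 6 n136505 = n209474 := rfl
theorem F453838 : act 3 n209474 = n136507 := d7_1 D209474 (iv6 D136507) D136505
theorem F453839 : act 4 n209474 = n138743 := d10_1 D209474 (iv6 D138743) (iv4 F219617)
theorem F453840 : act 7 n209474 = n137621 := d14_2 F320469 D209474 (iv6 D137621) (iv7 F181424) (iv6 F320468)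
theorem F453841 : act 0 n138056 = n209474 := d21_4 F427924 (iv1 F339052) (iv5 D138055) D138056 (iv6 D209474) D209473 F453835 (iv5 F393517) F393516 (iv1 F427927)
def n209475 : Q := act 4 n136506
theorem D209475 : act 4 n136506 = n209475 := rfl
def n209476 : Q := act 1 n136509
theorem D209476 : act 1 n136509 = n209476 := rfl
theorem F453842 : act 1 n209476 = n139092 := d15_1 D209476 (iv7 F366312) F366310
theorem F453843 : act 4 n209476 = n208580 := d17_9 F449988 (iv5 F434541) (iv1 F407596) (iv5 D193272) F156252 (iv5 F140493) D188409 (iv5 F373349) D209476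
theorem F453844 : act 3 n204567 = n209476 := d20_9 F219621 (iv1 D108548) F79391 (iv3 D30246) (iv1 F48466) (iv3 F99404) (iv4 F111035) (iv1 F349771) (iv4 F432892) (iv1 D209476)
theorem F453845 : act 2 n209476 = n205090 := d0_1 F453844 (iv3 D205090) F400779 (iv3 F245119) F432893
def n209477 : Q := act 0 n136510
theorem D209477 : act 0 n136510 = n209477 := rfl
theorem F453846 : act 5 n209477 = n176865 := d17_1 D209477 (iv1 F377561) F377557 (iv4 F329278) F352830 (iv0 F373154) F373153 F218564 D136510
theorem F453847 : act 4 n209477 = n193922 := d18_1 D209477 F447579 F387420 F352959 (iv4 F356094) F377221 F377223 D193698 (iv5 F390717)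
theorem F453848 : act 3 n209477 = n200299 := d20_5 D112884 (iv1 F405181) (iv4 F416392) (iv3 F416390) D209477 (iv4 D200299) (iv1 F245314) F245312 F175946 (iv1 F175800)
theorem F453849 : act 2 n200385 = n209477 := d15_3 (iv0 D209477) F385122 (iv7 F416240)
theorem F453850 : act 1 n136515 = n209477 := d15_0 (iv0 D209477) (iv7 F452458) F452455
theorem F453851 : act 7 n209477 = n200400 := d15_2 (iv0 F385121) F453850 (iv2 D200400)
theorem F453852 : act 6 n193599 = n209477 := d10_0 F453847 (iv6 D193922) (iv4 F390408)
def n209478 : Q := act 4 n136518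
theorem D209478 : act 4 n136518 = n209478 := rfl
theorem F453853 : act 2 n209478 = n136522 := d1_1 D209478 (iv4 D136522) (iv2 F219624)
theorem F453854 : act 3 n209478 = n170716 := d5_1 D209478 (iv4 D170716) (iv3 F268233) (iv4 F422996) F422995
theorem F453855 : act 6 n209478 = n192729 := d10_2 (iv6 F385199) D209478 (iv4 F388651)
theorem F453856 : act 7 n209478 = n203772 := d11_2 F373156 D209478 F429758
theorem F453857 : act 5 n209478 = n204210 := d16_1 D209478 (iv4 F448249) (iv5 D208176) F215043 F97860 (iv4 F99370) D135885 F218568 (iv2 F219624)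
theorem F453858 : act 1 n209478 = n188856 := d18_8 D188854 F375375 (iv1 F374368) (iv4 F375369) (iv5 F390604) (iv4 D193660) F352860 D209478 (iv5 D188856)
def n209479 : Q := act 0 n136519
theorem D209479 : act 0 n136519 = n209479 := rfl
theorem F453859 : act 4 n209479 = n203269 := d18_3 F159303 F352866 D209479 F427587 (iv4 F381816) (iv0 D184228) F134883 D87946 (iv5 F295210)
theorem F453860 : act 3 n209479 = n139159 := d20_5 F440482 F375930 (iv4 F422963) F422962 D209479 F314663 F114260 (iv4 F114305) (iv3 F206675) D206374
theorem F453861 : act 6 n209479 = n192102 := d21_5 D102184 (iv1 F352855) (iv5 D136518) D136519 D209479 F385554 (iv1 F368825) F157087 F329360 F329265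
theorem F453862 : act 2 n136524 = n209479 := d15_3 (iv0 D209479) (iv0 F352862) (iv7 F352878)
theorem F453863 : act 1 n136527 = n209479 := d15_0 (iv0 D209479) F352869 F352870
theorem F453864 : act 7 n209479 = n136525 := d15_2 F352864 F453863 (iv2 F352875)
def n209480 : Q := act 0 n136522
theorem D209480 : act 0 n136522 = n209480 := rfl
theorem F453865 : act 5 n209480 = n188857 := d17_1 D209480 (iv1 F375068) (iv5 F390626) F390625 F157071 F153627 (iv5 F352825) (iv0 D136520) D136522
theorem F453866 : act 1 n203772 = n209480 := d15_0 (iv0 D209480) (iv7 F452465) F452462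
theorem F453867 : act 6 n196820 = n209480 := d21_3 (iv5 F389243) (iv1 F389245) D196820 (iv1 F453866) F429760 (iv5 F407082) F412279 F412276 (iv6 F401759) F401761
theorem F453868 : act 7 n188856 = n209480 := d13_0 F453865 (iv7 D188857) D188856
def n209481 : Q := act 1 n136522
theorem D209481 : act 1 n136522 = n209481 := rfl
theorem F453869 : act 1 n209481 = n203772 := d15_1 D209481 (iv7 F453856) F453853
theorem F453870 : act 4 n192759 = n209481 := d20_6 (iv4 F99879) (iv1 F161923) F161920 (iv3 F218599) D209162 (iv3 F452532) (iv1 D209481) (iv4 D136522) F99919 (iv1 F99875)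
theorem F453871 : act 3 n201330 = n209481 := d20_9 (iv4 D136522) D136520 F405899 (iv3 D197822) (iv1 D108690) (iv3 F168613) (iv4 F371947) (iv1 F371949) (iv4 F420042) (iv1 D209481)
theorem F453872 : act 6 n209481 = n192758 := d7_2 D201330 F453871 F387683
theorem F453873 : act 2 n188856 = n209481 := d3_3 F453872 (iv2 F388734) F388732
theorem F453874 : act 5 n188636 = n209481 := d12_5 F453872 F387684 (iv6 D100991) (iv5 F291272) D188636
theorem F453875 : act 6 n199509 = n204520 := d21_9 (iv5 F429759) (iv1 F453869) (iv5 F453874) (iv6 D188636) (iv1 F143385) D188988 (iv5 F375342) (iv1 F360702) D199509 (iv1 D204520)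
def n209482 : Q := act 5 n136522
theorem D209482 : act 5 n136522 = n209482 := rfl
theorem F453876 : act 2 n209482 = n204210 := d2_1 D209482 (iv5 F453857) F453853
theorem F453877 : act 3 n209482 = n204536 := d6_1 D209482 F446771 F446769
theorem F453878 : act 4 n209482 = n186255 := d9_1 D209482 (iv5 D186255) (iv4 F352837) F215060 (iv4 F218562) (iv5 F373153) (iv4 F429758) F429759 F352842 (iv5 D186260) F352833 F96053 F78228 D64179 D136522
theorem F453879 : act 7 n209482 = n204521 := d13_2 F452465 D209482 F452467
theorem F453880 : act 0 n209482 = n204520 := d17_2 (iv1 D209481) D209482 F432793 (iv4 F390622) (iv5 F386010) (iv0 F386011) (iv5 F413522) (iv0 F413528) F453870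
theorem F453881 : act 1 n209482 = n188831 := d17_6 F155843 F346672 (iv1 D64177) D64179 D136522 D209482 (iv5 F390613) (iv0 D193664) (iv4 D102187)
def n209483 : Q := act 3 n136524
theorem D209483 : act 3 n136524 = n209483 := rfl
theorem F453882 : act 2 n209483 = n159410 := d0_1 D209483 (iv3 D159410) (iv2 F314662) (iv3 F453860) (iv2 F453862)
theorem F453883 : act 5 n209483 = n185088 := d6_2 F390886 D209483 F390887
theorem F453884 : act 6 n209483 = n193191 := d7_2 (iv6 F368834) D209483 F389131
theorem F453885 : act 7 n209483 = n193245 := d8_2 (iv7 F352878) D209483 F389304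
def n209484 : Q := act 4 n136524
theorem D209484 : act 4 n136524 = n209484 := rfl
theorem F453886 : act 2 n209484 = n203269 := d1_1 D209484 (iv4 F453859) (iv2 F453862)
theorem F453887 : act 6 n209484 = n193479 := d10_2 (iv6 F368834) D209484 (iv4 D193479)
theorem F453888 : act 7 n209484 = n193632 := d11_2 (iv7 F352878) D209484 F390513
theorem F453889 : act 0 n209484 = n191994 := d17_0 (iv5 D191994) (iv1 F177360) (iv5 F359411) F137116 (iv5 F151050) D191304 (iv5 F382960) F352877 D209484

end Cfsg.Agent.Helper17.ONTC
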